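import Cfsg.Agent.Lib.FusionSys.GroupModel
import Cfsg.Agent.Lib.Local.QdGroup

/-!
A group involving `Qd(p)` involves it in the normalizer of a centric subgroup.
-/

set_option autoImplicit false
set_option linter.style.haveILetI false

universe u

namespace Cfsg.Lib.FusionSys

open Cfsg Cfsg.FusionSystem Cfsg.Lib.Local
open scoped MatrixGroups

theorem sylow_map_eq_top {A B : Type*} [Group A] [Finite A] [Group B] {p : ℕ} [Fact p.Prime]
    {f : A →* B} (hf : Function.Surjective f) (hB : IsPGroup p B) (P : Sylow p A) :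
    (P : Subgroup A).map f = ⊤ := by
  haveI : Finite B := Finite.of_surjective f hf
  exact ((P.mapSurjective hf).is_maximal' (hB.to_subgroup ⊤) le_top).symm

section Qd

variable (p : ℕ) [hp : Fact p.Prime]

/-- The linear part as a subgroup of `Qd(p)`. -/
def linearPart : SL(2, ZMod p) →* qd p where
  toFun A := QdGroup.affine p A 0
  map_one' := QdGroup.affine_one p
  map_mul' A B := by
    rw [QdGroup.affine_mul]
    congr 1
    simp [Prod.mk_zero_zero]

theorem block_linearPart (A : SL(2, ZMod p)) : QdGroup.block p (linearPart p A) = A :=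
  QdGroup.block_affine p A 0

theorem ker_block_comm {x y : qd p} (hx : x ∈ (QdGroup.block p).ker)
    (hy : y ∈ (QdGroup.block p).ker) : x * y = y * x :=
  congrArg Subtype.val ((IsPGroup.isMulCommutative_of_card_eq_prime_sq
    (QdGroup.card_ker_block p)).is_comm.comm (⟨x, hx⟩ : (QdGroup.block p).ker) ⟨y, hy⟩)

theorem conj_ker_block (M : qd p) {x : qd p} (hx : x ∈ (QdGroup.block p).ker) :
    M * x * M⁻¹ = linearPart p (QdGroup.block p M) * x * (linearPart p (QdGroup.block p M))⁻¹ := by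
  set a := linearPart p (QdGroup.block p M) with ha
  have hv : M * a⁻¹ ∈ (QdGroup.block p).ker := by
    rw [MonoidHom.mem_ker, map_mul, map_inv, ha, block_linearPart, mul_inv_cancel]
  have h := ker_block_comm p hv ((MonoidHom.normal_ker (QdGroup.block p)).conj_mem x hx a)
  calc M * x * M⁻¹ = M * a⁻¹ * (a * x * a⁻¹) * (M * a⁻¹)⁻¹ := by group
    _ = a * x * a⁻¹ := by rw [h, mul_inv_cancel_right]

theorem block_eq_one_of_comm (M : qd p)
    (h : ∀ x ∈ (QdGroup.block p).ker, M * x = x * M) : QdGroup.block p M = 1 := by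
  have e : ∀ v, (M.1 : Matrix (Fin 3) (Fin 3) (ZMod p)) * (QdGroup.affine p 1 v).1.1 =
      (QdGroup.affine p 1 v).1.1 * (M.1 : Matrix (Fin 3) (Fin 3) (ZMod p)) := fun v =>
    congrArg (fun X : qd p => (X.1 : Matrix (Fin 3) (Fin 3) (ZMod p)))
      (h _ (QdGroup.block_affine p 1 v))
  obtain ⟨h0, h1, h2⟩ := QdGroup.row_two p M.2
  have a00 := congrFun (congrFun (e (1, 0)) 0) 2
  have a10 := congrFun (congrFun (e (1, 0)) 1) 2
  have a01 := congrFun (congrFun (e (0, 1)) 0) 2
  have a11 := congrFun (congrFun (e (0, 1)) 1) 2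
  simp [QdGroup.affine_coe, Matrix.mul_apply, Fin.sum_univ_three, h0, h1, h2] at a00 a10 a01 a11
  apply Subtype.ext
  ext i j
  fin_cases i <;> fin_cases j <;> simp [QdGroup.block_coe] <;>
    first
      | linear_combination a00
      | linear_combination a10
      | linear_combination a01
      | linear_combination a11

theorem eq_one_of_comm_neg (h2 : p ≠ 2) {M x : qd p} (hM : QdGroup.block p M = -1)
    (hx : x ∈ (QdGroup.block p).ker) (h : M * x = x * M) : x = 1 := by
  obtain ⟨g0, g1, g2⟩ := QdGroup.row_two p M.2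
  obtain ⟨k0, k1, k2⟩ := QdGroup.row_two p x.2
  have hM' := congrArg (fun X : SL(2, ZMod p) => (X : Matrix (Fin 2) (Fin 2) (ZMod p))) hM
  have hx' := congrArg (fun X : SL(2, ZMod p) => (X : Matrix (Fin 2) (Fin 2) (ZMod p)))
    (MonoidHom.mem_ker.1 hx)
  have m00 := congrFun (congrFun hM' 0) 0
  have m01 := congrFun (congrFun hM' 0) 1
  have m10 := congrFun (congrFun hM' 1) 0
  have m11 := congrFun (congrFun hM' 1) 1
  have x00 := congrFun (congrFun hx' 0) 0
  have x01 := congrFun (congrFun hx' 0) 1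
  have x10 := congrFun (congrFun hx' 1) 0
  have x11 := congrFun (congrFun hx' 1) 1
  simp [QdGroup.block_coe] at m00 m01 m10 m11 x00 x01 x10 x11
  have e := congrArg (fun X : qd p => (X.1 : Matrix (Fin 3) (Fin 3) (ZMod p))) h
  have e0 := congrFun (congrFun e 0) 2
  have e1 := congrFun (congrFun e 1) 2
  simp [Matrix.mul_apply, Fin.sum_univ_three, m00, m01, m10, m11, x00, x01, x10, x11, g2, k2]
    at e0 e1
  have htwo : (2 : ZMod p) ≠ 0 := fun h0 => by
    have h0' : ((2 : ℕ) : ZMod p) = 0 := by exact_mod_cast h0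
    exact h2 ((Nat.prime_dvd_prime_iff_eq hp.out Nat.prime_two).1
      ((ZMod.natCast_eq_zero_iff _ _).1 h0'))
  have y0 : (x.1 : Matrix (Fin 3) (Fin 3) (ZMod p)) 0 2 = 0 :=
    (mul_eq_zero.1 (show (2 : ZMod p) * (x.1 : Matrix (Fin 3) (Fin 3) (ZMod p)) 0 2 = 0 by
      linear_combination -e0)).resolve_left htwo
  have y1 : (x.1 : Matrix (Fin 3) (Fin 3) (ZMod p)) 1 2 = 0 :=
    (mul_eq_zero.1 (show (2 : ZMod p) * (x.1 : Matrix (Fin 3) (Fin 3) (ZMod p)) 1 2 = 0 by
      linear_combination -e1)).resolve_left htwo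
  apply Subtype.ext
  apply Subtype.ext
  ext i j
  fin_cases i <;> fin_cases j <;> simp [x00, x01, x10, x11, y0, y1, k0, k1, k2]

theorem eq_bot_of_normal_coprime (N : Subgroup (qd p)) [N.Normal]
    (h : (Nat.card N).Coprime p) : N = ⊥ := by
  have hcop : (Nat.card N).Coprime (Nat.card (QdGroup.block p).ker) := by
    rw [QdGroup.card_ker_block]
    exact h.pow_right 2
  have hdisj := Subgroup.inf_eq_bot_of_coprime (H := N) (K := (QdGroup.block p).ker) hcop
  refine (Subgroup.eq_bot_iff_forall _).2 fun n hn => ?_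
  have hb : QdGroup.block p n = 1 := block_eq_one_of_comm p n fun x hx =>
    Subgroup.commute_of_normal_of_disjoint N _ inferInstance inferInstance
      (disjoint_iff.2 hdisj) n x hn hx
  exact (Subgroup.eq_bot_iff_forall _).1 hdisj n ⟨hn, hb⟩

end Qd

section Group

variable {G : Type u} [Group G] [Finite G] {p : ℕ} [hp : Fact p.Prime]

/-- If `Qd(p)` is involved in `G`, then it is a quotient of a subgroup of a normalizer of a
`p`-subgroup containing every `p`-element of its centralizer. -/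
theorem exists_centric_qd (h2 : p ≠ 2) (h : Involves (qd p) G) :
    ∃ Q : Subgroup G, IsPGroup p Q ∧
      (∀ x ∈ Subgroup.centralizer (Q : Set G), IsPGroup p (Subgroup.zpowers x) → x ∈ Q) ∧
      ∃ (J : Subgroup G) (ψ : J →* qd p),
        J ≤ Subgroup.normalizer (Q : Set G) ∧ Function.Surjective ψ := by
  classical
  obtain ⟨K₀, f₀, hf₀⟩ := involves_iff_exists_hom.1 h
  have hex : ∃ n, ∃ (K : Subgroup G) (f : K →* qd p),
      Function.Surjective f ∧ Nat.card K = n := ⟨_, K₀, f₀, hf₀, rfl⟩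
  obtain ⟨K, f, hf, hn⟩ := Nat.find_spec hex
  have hmin : ∀ (K' : Subgroup G) (f' : K' →* qd p), Function.Surjective f' →
      Nat.card K ≤ Nat.card K' := fun K' f' hf' => by
    rw [hn]
    exact Nat.find_min' hex ⟨K', f', hf', rfl⟩
  -- the normal `p`-subgroup `U` of `K`
  let W : Subgroup K := (QdGroup.block p).ker.comap f
  let U₀ : Sylow p W := Classical.ofNonempty
  let U₁ : Subgroup K := (U₀ : Subgroup W).map W.subtype
  have hVp : IsPGroup p (QdGroup.block p).ker := IsPGroup.of_card (n := 2) (QdGroup.card_ker_block p)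
  have hres : Function.Surjective (f.subgroupComap (QdGroup.block p).ker) := fun y => by
    obtain ⟨x, hx⟩ := hf (y : qd p)
    exact ⟨⟨x, show f x ∈ _ from hx ▸ y.2⟩, Subtype.ext hx⟩
  have hUV : ∀ v ∈ (QdGroup.block p).ker, ∃ u ∈ U₁, f u = v := fun v hv => by
    obtain ⟨u, hu, he⟩ : (⟨v, hv⟩ : (QdGroup.block p).ker) ∈
        (U₀ : Subgroup W).map (f.subgroupComap (QdGroup.block p).ker) := by
      rw [sylow_map_eq_top hres hVp U₀]
      exact Subgroup.mem_top _
    exact ⟨u, ⟨u, hu, rfl⟩, congrArg Subtype.val he⟩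
  have hUN : ∀ g : K, g ∈ Subgroup.normalizer (U₁ : Set K) := by
    have hsurj : Function.Surjective
        (f.comp (Subgroup.normalizer (U₁ : Set K)).subtype) := fun y => by
      obtain ⟨k, rfl⟩ := hf y
      obtain ⟨n, hn', w, hw, rfl⟩ := Subgroup.mem_sup_of_normal_right.1
        (show k ∈ Subgroup.normalizer (U₁ : Set K) ⊔ W from
          (Sylow.normalizer_sup_eq_top U₀).symm ▸ Subgroup.mem_top k)
      obtain ⟨u, hu, he⟩ := hUV (f w) hw
      exact ⟨⟨n * u, mul_mem hn' (Subgroup.le_normalizer hu)⟩, by simp [he]⟩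
    let N₀ : Subgroup G := (Subgroup.normalizer (U₁ : Set K)).map K.subtype
    let e := (Subgroup.normalizer (U₁ : Set K)).equivMapOfInjective K.subtype K.subtype_injective
    have h1 := hmin N₀ ((f.comp (Subgroup.normalizer (U₁ : Set K)).subtype).comp e.symm.toMonoidHom)
      (hsurj.comp e.symm.surjective)
    rw [← Nat.card_congr e.toEquiv] at h1
    have h3 := Subgroup.eq_top_of_le_card _ h1
    intro g
    rw [h3]
    exact Subgroup.mem_top g
  let U : Subgroup G := U₁.map K.subtype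
  have hUK : U ≤ K := Subgroup.map_subtype_le _
  have hUp : IsPGroup p U := (U₀.isPGroup'.map W.subtype).map K.subtype
  have hUmem : ∀ u : K, (u : G) ∈ U ↔ u ∈ U₁ := fun u =>
    ⟨fun ⟨x, hx, he⟩ => Subtype.ext he ▸ hx, fun hu => ⟨u, hu, rfl⟩⟩
  have hUW : ∀ u : K, (u : G) ∈ U → QdGroup.block p (f u) = 1 := fun u hu => by
    obtain ⟨w, -, rfl⟩ := (hUmem u).1 hu
    exact w.2
  have hKN : K ≤ Subgroup.normalizer (U : Set G) := fun k hk =>
    Subgroup.mem_normalizer_fintype fun x hx => by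
      obtain ⟨u, hu, rfl⟩ := hx
      exact (hUmem (⟨k, hk⟩ * u * ⟨k, hk⟩⁻¹)).2
        ((Subgroup.mem_normalizer_iff.1 (hUN ⟨k, hk⟩) u).1 hu)
  -- a Sylow subgroup of the centralizer
  let C₀ : Subgroup (Subgroup.normalizer (U : Set G)) :=
    (Subgroup.centralizer (U : Set G)).subgroupOf (Subgroup.normalizer (U : Set G))
  haveI : C₀.Normal := Subgroup.normal_subgroupOf_centralizer_normalizer _
  let R₀ : Sylow p C₀ := Classical.ofNonempty
  let R₁ : Subgroup (Subgroup.normalizer (U : Set G)) := (R₀ : Subgroup C₀).map C₀.subtype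
  let R : Subgroup G := R₁.map (Subgroup.normalizer (U : Set G)).subtype
  have hRp : IsPGroup p R := (R₀.isPGroup'.map _).map _
  have hRC : R ≤ Subgroup.centralizer (U : Set G) := by
    rintro _ ⟨_, ⟨c, -, rfl⟩, rfl⟩
    exact c.2
  refine ⟨U ⊔ R, IsPGroup.to_sup_of_normal_left' hUp hRp
    (hRC.trans (Subgroup.centralizer_le_normalizer _)), ?_, ?_⟩
  · intro x hx hxp
    have hxC : x ∈ Subgroup.centralizer (U : Set G) :=
      Subgroup.centralizer_le (SetLike.coe_subset_coe.2 le_sup_left) hx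
    let xN : Subgroup.normalizer (U : Set G) := ⟨x, Subgroup.centralizer_le_normalizer _ hxC⟩
    let xC : C₀ := ⟨xN, hxC⟩
    have hinj : Function.Injective
        ((Subgroup.normalizer (U : Set G)).subtype.comp C₀.subtype) :=
      (Subgroup.subtype_injective _).comp (Subgroup.subtype_injective _)
    have hxCp : IsPGroup p (Subgroup.zpowers xC) := by
      intro y
      obtain ⟨k, hk⟩ := hxp ⟨((y : C₀) : G), by
        obtain ⟨m, hm⟩ := y.2
        exact ⟨m, by rw [← hm]; rfl⟩⟩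
      exact ⟨k, Subtype.ext (hinj (by simpa using congrArg Subtype.val hk))⟩
    have hnor : Subgroup.zpowers xC ≤ Subgroup.normalizer ((R₀ : Subgroup C₀) : Set C₀) :=
      Subgroup.zpowers_le.2 <| Subgroup.mem_normalizer_fintype fun r hr => by
        have hcomm : xC * r = r * xC :=
          hinj ((hx _ (Subgroup.mem_sup_right ⟨_, ⟨r, hr, rfl⟩, rfl⟩)).symm)
        rw [hcomm, mul_inv_cancel_right]
        exact hr
    have hmax := R₀.is_maximal' (IsPGroup.to_sup_of_normal_left' R₀.isPGroup' hxCp hnor) le_sup_left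
    have hxR : xC ∈ (R₀ : Subgroup C₀) := by
      rw [← hmax]
      exact Subgroup.mem_sup_right (Subgroup.mem_zpowers xC)
    exact Subgroup.mem_sup_right ⟨_, ⟨xC, hxR, rfl⟩, rfl⟩
  -- every element of `K` acts on `U` as an element of `M`
  let M : Subgroup G := Subgroup.normalizer (U : Set G) ⊓ Subgroup.normalizer (R : Set G)
  have hact : ∀ k : K, ∃ m ∈ M, ∀ u ∈ U, (k : G) * u * (k : G)⁻¹ = m * u * m⁻¹ := by
    intro k
    obtain ⟨n, hn', c, hc, hnc⟩ := Subgroup.mem_sup_of_normal_right.1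
      (show (⟨k, hKN k.2⟩ : Subgroup.normalizer (U : Set G)) ∈
          Subgroup.normalizer (R₁ : Set _) ⊔ C₀ from
        (Sylow.normalizer_sup_eq_top R₀).symm ▸ Subgroup.mem_top _)
    refine ⟨n, ⟨n.2, Subgroup.mem_normalizer_fintype fun x hx => ?_⟩, fun u hu => ?_⟩
    · obtain ⟨r, hr, rfl⟩ := hx
      exact ⟨n * r * n⁻¹, (Subgroup.mem_normalizer_iff.1 hn' r).1 hr, rfl⟩
    · have hk' : (k : G) = (n : G) * (c : G) := (congrArg Subtype.val hnc).symm
      have hcu : (c : G) * u * (c : G)⁻¹ = u := by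
        have h1 : u * (c : G) = (c : G) * u := Subgroup.mem_centralizer_iff.1 hc u hu
        rw [← h1, mul_inv_cancel_right]
      rw [hk', mul_inv_rev]
      calc (n : G) * c * u * ((c : G)⁻¹ * (n : G)⁻¹) = n * (c * u * (c : G)⁻¹) * (n : G)⁻¹ := by group
        _ = n * u * (n : G)⁻¹ := by rw [hcu]
  have hMQ : M ≤ Subgroup.normalizer ((U ⊔ R : Subgroup G) : Set G) := fun m hm =>
    Subgroup.mem_normalizer_fintype fun x hx => by
      have h1 : (U ⊔ R).map (MulAut.conj m).toMonoidHom ≤ U ⊔ R := by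
        rw [Subgroup.map_sup]
        refine sup_le_sup ?_ ?_ <;> rintro _ ⟨y, hy, rfl⟩
        · exact (Subgroup.mem_normalizer_iff.1 hm.1 y).1 hy
        · exact (Subgroup.mem_normalizer_iff.1 hm.2 y).1 hy
      exact h1 ⟨x, hx, rfl⟩
  -- the elements acting as elements of `K`
  have hMU : ∀ {m : G}, m ∈ M → ∀ u ∈ U, m * u * m⁻¹ ∈ U := fun hm u hu =>
    (Subgroup.mem_normalizer_iff.1 hm.1 u).1 hu
  let H₀ : Subgroup G :=
    { carrier := {m | m ∈ M ∧ ∃ k : K, ∀ u ∈ U, (k : G) * u * (k : G)⁻¹ = m * u * m⁻¹}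
      one_mem' := ⟨one_mem M, 1, fun u _ => by simp⟩
      mul_mem' := by
        rintro a b ⟨ha, j, hj⟩ ⟨hb, k, hk⟩
        refine ⟨mul_mem ha hb, j * k, fun u hu => ?_⟩
        calc ((j * k : K) : G) * u * ((j * k : K) : G)⁻¹
            = (j : G) * ((k : G) * u * (k : G)⁻¹) * (j : G)⁻¹ := by
              simp only [Subgroup.coe_mul]; group
          _ = a * b * u * (a * b)⁻¹ := by rw [hk u hu, hj _ (hMU hb u hu)]; group
      inv_mem' := by
        rintro a ⟨ha, k, hk⟩
        refine ⟨inv_mem ha, k⁻¹, fun u hu => ?_⟩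
        have h1 : a⁻¹ * u * a ∈ U := by simpa using hMU (inv_mem ha) u hu
        have h3 := hk _ h1
        calc ((k⁻¹ : K) : G) * u * ((k⁻¹ : K) : G)⁻¹
            = (k : G)⁻¹ * (a * (a⁻¹ * u * a) * a⁻¹) * (k : G) := by
              simp only [Subgroup.coe_inv]; group
          _ = a⁻¹ * u * (a⁻¹)⁻¹ := by rw [← h3]; group }
  have hkey : ∀ j k : K, (∀ u ∈ U, (j : G) * u * (j : G)⁻¹ = (k : G) * u * (k : G)⁻¹) →
      QdGroup.block p (f j) = QdGroup.block p (f k) := by
    intro j k hjk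
    have h1 : QdGroup.block p (f (k⁻¹ * j)) = 1 := block_eq_one_of_comm p _ fun x hx => by
      obtain ⟨u, hu, rfl⟩ := hUV x hx
      have h3 : k⁻¹ * j * u = u * (k⁻¹ * j) := Subtype.ext <| by
        have h4 := hjk u ((hUmem u).2 hu)
        simp only [Subgroup.coe_mul, Subgroup.coe_inv]
        calc (k : G)⁻¹ * j * u = (k : G)⁻¹ * ((j : G) * u * (j : G)⁻¹) * j := by group
          _ = _ := by rw [h4]; group
      rw [← map_mul, ← map_mul, h3]
    rw [map_mul, map_inv, map_mul, map_inv] at h1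
    exact (inv_mul_eq_one.1 h1).symm
  let θ : H₀ →* SL(2, ZMod p) :=
    MonoidHom.mk' (fun m => QdGroup.block p (f m.2.2.choose)) fun a b => by
      rw [← map_mul, ← map_mul]
      refine hkey _ _ fun u hu => ?_
      rw [(a * b).2.2.choose_spec u hu]
      simp only [Subgroup.coe_mul]
      calc (a : G) * b * u * ((a : G) * b)⁻¹ = a * ((b : G) * u * (b : G)⁻¹) * (a : G)⁻¹ := by group
        _ = _ := by
          rw [← a.2.2.choose_spec _ (hMU b.2.1 u hu), ← b.2.2.choose_spec u hu]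
          group
  have hθ : ∀ (m : H₀) (k : K),
      (∀ u ∈ U, (k : G) * u * (k : G)⁻¹ = (m : G) * u * (m : G)⁻¹) →
      θ m = QdGroup.block p (f k) := fun m k hk =>
    hkey _ _ fun u hu => (m.2.2.choose_spec u hu).trans (hk u hu).symm
  have hθs : Function.Surjective θ := fun A => by
    obtain ⟨k, hk⟩ := hf (linearPart p A)
    obtain ⟨m, hm, hmk⟩ := hact k
    exact ⟨⟨m, hm, k, hmk⟩, by rw [hθ ⟨m, hm, k, hmk⟩ k hmk, hk, block_linearPart]⟩
  -- an involution and its normalizer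
  let D : Subgroup SL(2, ZMod p) := Subgroup.zpowers (-1)
  have hneg : ∀ A : SL(2, ZMod p), A * -1 = -1 * A := fun A => Subtype.ext (by simp)
  have hDc : D ≤ Subgroup.center _ := Subgroup.zpowers_le.2 (Subgroup.mem_center_iff.2 hneg)
  haveI : D.Normal := ⟨fun d hd g => by
    rwa [Subgroup.mem_center_iff.1 (hDc hd) g, mul_inv_cancel_right]⟩
  haveI : Fact (Nat.Prime 2) := ⟨Nat.prime_two⟩
  have hsq : (-1 : SL(2, ZMod p)) * -1 = 1 := Subtype.ext (by simp)
  have hD2 : IsPGroup 2 D := fun d => ⟨1, by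
    obtain ⟨m, hm⟩ := d.2
    apply Subtype.ext
    simp only [pow_one, Subgroup.coe_pow, ← hm, Subgroup.coe_one]
    rw [sq]
    exact ((Commute.refl _).mul_zpow m).symm.trans (by rw [hsq]; exact one_zpow m)⟩
  let T₀ : Sylow 2 (D.comap θ) := Classical.ofNonempty
  let T : Subgroup H₀ := (T₀ : Subgroup (D.comap θ)).map (D.comap θ).subtype
  have hresD : Function.Surjective (θ.subgroupComap D) := fun y => by
    obtain ⟨x, hx⟩ := hθs (y : SL(2, ZMod p))
    exact ⟨⟨x, show θ x ∈ D from hx ▸ y.2⟩, Subtype.ext hx⟩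
  have hTD : ∀ d ∈ D, ∃ t ∈ T, θ t = d := fun d hd => by
    obtain ⟨t, ht, he⟩ : (⟨d, hd⟩ : D) ∈ (T₀ : Subgroup _).map (θ.subgroupComap D) := by
      rw [sylow_map_eq_top hresD hD2 T₀]
      exact Subgroup.mem_top _
    exact ⟨t, ⟨t, ht, rfl⟩, congrArg Subtype.val he⟩
  have hθN : ∀ A, ∃ n ∈ Subgroup.normalizer (T : Set H₀), θ n = A := fun A => by
    obtain ⟨m, rfl⟩ := hθs A
    obtain ⟨n, hn', w, hw, rfl⟩ := Subgroup.mem_sup_of_normal_right.1
      (show m ∈ Subgroup.normalizer (T : Set H₀) ⊔ D.comap θ from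
        (Sylow.normalizer_sup_eq_top T₀).symm ▸ Subgroup.mem_top m)
    obtain ⟨t, ht, he⟩ := hTD (θ w) hw
    exact ⟨n * t, mul_mem hn' (Subgroup.le_normalizer ht), by rw [map_mul, map_mul, he]⟩
  let N : Subgroup H₀ := Subgroup.normalizer (T : Set H₀)
  have hNU : ∀ n ∈ N, ∀ hu : (n : G) ∈ U, f ⟨n, hUK hu⟩ = 1 ∧ θ n = 1 := by
    intro n hn' hu
    obtain ⟨t, ht, hte⟩ := hTD (-1) (Subgroup.mem_zpowers _)
    have h1 : n * t * n⁻¹ * t⁻¹ ∈ T :=
      mul_mem ((Subgroup.mem_normalizer_iff.1 hn' t).1 ht) (inv_mem ht)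
    have h3 : ((n * t * n⁻¹ * t⁻¹ : H₀) : G) ∈ U := by
      have := mul_mem hu (hMU t.2.1 _ (inv_mem hu))
      simpa only [Subgroup.coe_mul, Subgroup.coe_inv, mul_assoc] using this
    have hTp : IsPGroup 2 (T.map H₀.subtype) := (T₀.isPGroup'.map _).map _
    have h4 := (Subgroup.eq_bot_iff_forall _).1
      (disjoint_iff.1 (IsPGroup.disjoint_of_ne 2 p (Ne.symm h2) _ U hTp hUp))
      _ ⟨⟨_, h1, rfl⟩, h3⟩
    simp only [Subgroup.coe_subtype, Subgroup.coe_mul, Subgroup.coe_inv] at h4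
    have hb : QdGroup.block p (f t.2.2.choose) = -1 := hte
    refine ⟨eq_one_of_comm_neg p h2 hb (hUW ⟨n, hUK hu⟩ hu) ?_, ?_⟩
    · have h5 := t.2.2.choose_spec n hu
      have h6 : (t : G) * n * (t : G)⁻¹ = n := by
        have h7 : (n : G) * t * (n : G)⁻¹ = t := mul_inv_eq_one.1 h4
        rw [← mul_inv_eq_iff_eq_mul.1 h7] at *
        group
      rw [← map_mul, ← map_mul]
      refine congrArg f (Subtype.ext ?_)
      simp only [Subgroup.coe_mul]
      exact mul_inv_eq_iff_eq_mul.1 (h5.trans h6)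
    · rw [hθ n ⟨n, hUK hu⟩ fun u _ => rfl, hUW ⟨n, hUK hu⟩ hu]
  -- the semidirect product
  let φ : N →* MulAut U := U.normalizerMonoidHom.comp
    ((H₀.subtype.comp N.subtype).codRestrict _ fun n => (n : H₀).2.1.1)
  let μ : U ⋊[φ] N →* G := SemidirectProduct.lift U.subtype (H₀.subtype.comp N.subtype)
    fun n => MonoidHom.ext fun _ => rfl
  let χ : U ⋊[φ] N →* qd p := SemidirectProduct.lift (f.comp (Subgroup.inclusion hUK))
    ((linearPart p).comp (θ.comp N.subtype)) fun n => MonoidHom.ext fun u => by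
      obtain ⟨k, hk⟩ := (n : H₀).2.2
      have h1 := hk u u.2
      change f ⟨((n : H₀) : G) * u * ((n : H₀) : G)⁻¹, _⟩ =
        linearPart p (θ n) * f ⟨u, hUK u.2⟩ * (linearPart p (θ n))⁻¹
      rw [hθ (n : H₀) k hk, ← conj_ker_block p (f k)
        (hUW ⟨u, hUK u.2⟩ u.2), ← map_inv, ← map_mul, ← map_mul]
      exact congrArg f (Subtype.ext h1.symm)
  have hχ : Function.Surjective χ := fun y => by
    obtain ⟨n, hn', hne⟩ := hθN (QdGroup.block p y)
    have hv : y * (linearPart p (QdGroup.block p y))⁻¹ ∈ (QdGroup.block p).ker := by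
      rw [MonoidHom.mem_ker, map_mul, map_inv, block_linearPart, mul_inv_cancel]
    obtain ⟨u, hu, hue⟩ := hUV _ hv
    refine ⟨SemidirectProduct.inl ⟨u, (hUmem u).2 hu⟩ * SemidirectProduct.inr ⟨n, hn'⟩, ?_⟩
    rw [map_mul, SemidirectProduct.lift_inl, SemidirectProduct.lift_inr]
    change f u * linearPart p (θ n) = y
    rw [hue, hne, inv_mul_cancel_right]
  have hker : μ.rangeRestrict.ker ≤ χ.ker := by
    rw [MonoidHom.ker_rangeRestrict]
    rintro ⟨u, n⟩ hx
    have hx' : (u : G) * ((n : H₀) : G) = 1 := hx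
    have hn' : ((n : H₀) : G) = (u : G)⁻¹ := eq_inv_of_mul_eq_one_right hx'
    have hnU : ((n : H₀) : G) ∈ U := hn' ▸ inv_mem u.2
    obtain ⟨h1, h3⟩ := hNU n n.2 hnU
    have hu1 : f ⟨u, hUK u.2⟩ = 1 := by
      rw [← inv_eq_one, ← map_inv]
      exact (congrArg f (Subtype.ext hn'.symm)).trans h1
    change f ⟨u, hUK u.2⟩ * linearPart p (θ n) = 1
    rw [hu1, h3, map_one, one_mul]
  refine ⟨μ.range, μ.rangeRestrict.liftOfSurjective μ.rangeRestrict_surjective ⟨χ, hker⟩, ?_, ?_⟩
  · rintro _ ⟨⟨u, n⟩, rfl⟩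
    change (u : G) * ((n : H₀) : G) ∈ _
    exact mul_mem (Subgroup.le_normalizer (Subgroup.mem_sup_left u.2)) (hMQ (n : H₀).2.1)
  · intro y
    obtain ⟨x, rfl⟩ := hχ y
    exact ⟨μ.rangeRestrict x, MonoidHom.liftOfRightInverse_comp_apply _ _ _ _ x⟩

/-- If the fusion system of a Sylow subgroup is `Qd(p)`-free, so is the group. -/
theorem not_involves_qd_of_isSectionFree (h2 : p ≠ 2) (P : Sylow p G)
    (hfree : (groupFusionSystem (P : Subgroup G)).IsSectionFree p (qd p)) :
    ¬ Involves (qd p) G := by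
  intro h
  obtain ⟨Q, hQp, hQc, J, ψ, hJ, hψ⟩ := exists_centric_qd h2 h
  -- move `Q` into `P` in a fully normalized position
  obtain ⟨g, -, hg⟩ := pConjInto_sylow P Q le_top hQp
  have hQP : Q.map (MulAut.conj g).toMonoidHom ≤ (P : Subgroup G) := by
    rintro _ ⟨x, hx, rfl⟩
    exact hg x hx
  haveI : Finite (P : Subgroup G) := inferInstance
  obtain ⟨Q', hconj, hn⟩ := exists_isFullyNormalized
    (F := groupFusionSystem (P : Subgroup G)) hQP
  rw [groupFusionSystem_eq, isConj_ofSubgroup_iff hQP] at hconj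
  obtain ⟨-, a, -, ha⟩ := hconj
  have hQ' : Q' = Q.map (MulAut.conj (a * g)).toMonoidHom := by
    rw [← ha, Subgroup.map_map]
    congr 1
    ext x
    simp [mul_assoc]
  have hc : (groupFusionSystem (P : Subgroup G)).IsCentric Q' := by
    refine ⟨hn.1, fun Y hY => ?_⟩
    rw [groupFusionSystem_eq, isConj_ofSubgroup_iff hn.1] at hY
    obtain ⟨hYP, b, -, hb⟩ := hY
    intro y hy
    obtain ⟨hyP, hyc⟩ := mem_centralizerIn.1 hy
    set c := b * (a * g) with hcdef
    have hYQ : ∀ q ∈ Q, c * q * c⁻¹ ∈ Y := fun q hq => by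
      rw [← hb, hQ']
      exact ⟨_, ⟨q, hq, rfl⟩, by simp [hcdef, mul_assoc]⟩
    have h1 : c⁻¹ * y * c ∈ Subgroup.centralizer (Q : Set G) := fun q hq => by
      have h3 : c * q * c⁻¹ * y = y * (c * q * c⁻¹) := (hyc _ (hYQ q hq)).symm
      calc q * (c⁻¹ * y * c) = c⁻¹ * (c * q * c⁻¹ * y) * c := by group
        _ = c⁻¹ * y * c * q := by rw [h3]; group
    have h4 : IsPGroup p (Subgroup.zpowers (c⁻¹ * y * c)) := by
      have h5 : Subgroup.zpowers (c⁻¹ * y * c) =
          (Subgroup.zpowers y).map (MulAut.conj c⁻¹).toMonoidHom := by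
        rw [MonoidHom.map_zpowers]
        simp
      rw [h5]
      exact (P.isPGroup'.to_le (Subgroup.zpowers_le.2 hyP)).map _
    have h6 := hYQ _ (hQc _ h1 h4)
    simpa [mul_assoc] using h6
  obtain ⟨N', hN'⟩ := exists_normalizerSystem (groupFusionSystem (P : Subgroup G)) hn.1
  have hM := isModel_groupNormalizer P hn hc hN'
  refine hfree Q' hn hc N' hN' _ _ hM ?_
  -- the image of `J`
  let J' : Subgroup G := J.map (MulAut.conj (a * g)).toMonoidHom
  let e := J.equivMapOfInjective (MulAut.conj (a * g)).toMonoidHom (MulAut.conj (a * g)).injective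
  let ψ' : J' →* qd p := ψ.comp e.symm.toMonoidHom
  have hψ' : Function.Surjective ψ' := hψ.comp e.symm.surjective
  have hJ' : J' ≤ Subgroup.normalizer (Q' : Set G) := by
    rintro _ ⟨j, hj, rfl⟩
    refine Subgroup.mem_normalizer_fintype fun x hx => ?_
    rw [hQ'] at hx ⊢
    obtain ⟨q, hq, rfl⟩ := hx
    exact ⟨j * q * j⁻¹, (Subgroup.mem_normalizer_iff.1 (hJ hj) q).1 hq, by simp [mul_assoc]⟩
  let π : J' →* (Subgroup.normalizer (Q' : Set G) : Subgroup G) ⧸
      pPrimeCore p (Subgroup.normalizer (Q' : Set G) : Subgroup G) :=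
    (QuotientGroup.mk' _).comp (Subgroup.inclusion hJ')
  have hker : π.ker ≤ ψ'.ker := by
    intro x hx
    haveI : (π.ker.map ψ').Normal := Subgroup.Normal.map inferInstance _ hψ'
    have hcop : (Nat.card (π.ker.map ψ')).Coprime p := by
      refine Nat.Coprime.coprime_dvd_left (Subgroup.card_map_dvd _ _) ?_
      refine Nat.Coprime.coprime_dvd_left ?_
        (Cfsg.Lib.Core.pPrimeCore_coprime p (Subgroup.normalizer (Q' : Set G) : Subgroup G))
      have h3 : π.ker = (pPrimeCore p (Subgroup.normalizer (Q' : Set G) : Subgroup G)).comap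
          (Subgroup.inclusion hJ') := by
        ext y
        simp [π, MonoidHom.mem_ker]
      rw [h3]
      exact Subgroup.card_comap_dvd_of_injective _ _ (Subgroup.inclusion_injective hJ')
    exact MonoidHom.mem_ker.2 ((Subgroup.eq_bot_iff_forall _).1
      (eq_bot_of_normal_coprime p _ hcop) _ ⟨x, hx, rfl⟩)
  refine involves_iff_exists_hom.2 ⟨π.range,
    π.rangeRestrict.liftOfSurjective π.rangeRestrict_surjective
      ⟨ψ', π.ker_rangeRestrict.trans_le hker⟩, fun y => ?_⟩
  obtain ⟨x, rfl⟩ := hψ' y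
  exact ⟨π.rangeRestrict x, MonoidHom.liftOfRightInverse_comp_apply _ _ _ _ x⟩

end Group

end Cfsg.Lib.FusionSys
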