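import Cfsg.Agent.Lib.FusionSys.Saturation

/-!
Saturation from: `Aut_S(S)` is Sylow in `Aut_F(S)` and fully normalized subgroups are receptive.
-/

set_option autoImplicit false

namespace Cfsg.Lib.FusionSys

open Cfsg Cfsg.FusionSystem

section PElements

variable {G : Type*} [Group G]

/-- A power of `g` of `p`-power order, agreeing with the power one modulo `p ^ b`. -/
theorem exists_pPart {p : ℕ} [Fact p.Prime] (g : G) (hg : IsOfFinOrder g) (b : ℕ) :
    ∃ m : ℕ, (∃ k : ℕ, (g ^ m) ^ p ^ k = 1) ∧ m ≡ 1 [MOD p ^ b] := by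
  have hp : p.Prime := Fact.out
  have hn : orderOf g ≠ 0 := (orderOf_pos_iff.2 hg).ne'
  have hco : (ordCompl[p] (orderOf g)).Coprime (p ^ b) :=
    (Nat.Coprime.pow_left b (Nat.coprime_ordCompl hp hn)).symm
  obtain ⟨m, hm0, hm1⟩ := Nat.chineseRemainder hco 0 1
  refine ⟨m, ⟨(orderOf g).factorization p, ?_⟩, hm1⟩
  rw [← pow_mul, ← orderOf_dvd_iff_pow_eq_one]
  conv_lhs => rw [← Nat.ordProj_mul_ordCompl_eq_self (orderOf g) p]
  rw [mul_comm m]
  exact mul_dvd_mul_left _ (Nat.modEq_zero_iff_dvd.1 hm0)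

/-- A `p`-subgroup that is not a Sylow subgroup is properly normalized inside a `p`-subgroup. -/
theorem exists_normalizing_of_not_sylow [Finite G] {p : ℕ} [Fact p.Prime] {X : Subgroup G}
    (hX : IsPGroup p X) (h : ¬ ∃ R : Sylow p G, (R : Subgroup G) = X) :
    ∃ β : G, β ∉ X ∧ (∃ k : ℕ, β ^ p ^ k = 1) ∧ β ∈ Subgroup.normalizer (X : Set G) := by
  obtain ⟨T, hT⟩ := hX.exists_le_sylow
  have hne : ¬ (T : Subgroup G) ≤ X := fun hle => h ⟨T, le_antisymm hle hT⟩
  haveI : Group.IsNilpotent T := T.isPGroup'.isNilpotent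
  have h1 : X.subgroupOf T < ⊤ := by
    rw [lt_top_iff_ne_top, Ne, Subgroup.subgroupOf_eq_top]
    exact hne
  obtain ⟨β, hβN, hβX⟩ :=
    SetLike.exists_of_lt (Group.normalizerCondition_of_isNilpotent (G := T) _ h1)
  refine ⟨β, hβX, ?_, ?_⟩
  · obtain ⟨k, hk⟩ := T.isPGroup' β
    exact ⟨k, by simpa [Subtype.ext_iff] using hk⟩
  · refine Subgroup.mem_normalizer_fintype fun n hn => ?_
    exact (Subgroup.mem_normalizer_iff.1 hβN ⟨n, hT hn⟩).1 hn

end PElements

variable {Ω : Type*} [Group Ω] {S : Subgroup Ω} {F : FusionSystem S} {P Q : Subgroup Ω}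

theorem isFullyAutomized_of_receptive [Finite S] {p : ℕ} [Fact p.Prime] (hS : IsPGroup p S)
    (hSS : F.IsFullyAutomized p S) (hrec : ∀ P, F.IsFullyNormalized P → F.IsReceptive P)
    (P : Subgroup Ω) (hP : F.IsFullyNormalized P) : F.IsFullyAutomized p P := by
  suffices ∀ (n : ℕ) (P : Subgroup Ω), Nat.card S - Nat.card P ≤ n → F.IsFullyNormalized P →
      F.IsFullyAutomized p P from this _ P le_rfl hP
  intro n
  induction n with
  | zero =>
    intro P hn hP
    have : P = S := eq_of_le_of_card_le le_rfl hP.1 (Nat.sub_eq_zero_iff_le.1 (Nat.le_zero.1 hn))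
    exact this ▸ hSS
  | succ n ih =>
    intro P hn hP
    rcases eq_or_lt_of_le hP.1 with rfl | hPS
    · exact hSS
    by_contra hfa
    haveI := finite_of_le hP.1
    haveI := finite_of_le (normalizerIn_le (S := S) P)
    have hnot : ¬ ∃ R : Sylow p (F.autGroup P),
        (R : Subgroup (F.autGroup P)) = (autInducedBy S P).subgroupOf (F.autGroup P) :=
      fun h => hfa ⟨hP.1, h⟩
    obtain ⟨β, hβX, ⟨b, hβo⟩, hβN⟩ :=
      exists_normalizing_of_not_sylow (isPGroup_autInducedBy hS).comap_subtype hnot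
    have hβ : IsoIn F (β : MulAut P) := (mem_autGroup hP.1).1 β.2
    obtain ⟨ψ, hψ, hψe⟩ := IsReceptive_ext (hrec P hP) hβ (N := normalizerIn S P) (by
      intro g hg
      refine ⟨hg.1, hg.2, ?_⟩
      have hx : conjAut P hg.2 ∈ autInducedBy S P := conjAut_mem_autInducedBy hg.2 hg.1
      have h2 := (Subgroup.mem_normalizer_iff.1 hβN
        ⟨_, autInducedBy_le_autGroup (F := F) hP.1 hx⟩).1 hx
      rw [Subgroup.mem_comap] at h2
      obtain ⟨h, hh, hhy⟩ := mem_autInducedBy.1 h2
      refine ⟨h, hh, fun x y hxy => ?_⟩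
      have h3 := hhy ((β : MulAut P) x)
      have hy : y = conjAut P hg.2 x := Subtype.ext (by simpa using hxy)
      rw [hy, ← h3]
      simp [MulAut.mul_apply, MulAut.inv_apply])
    have hmap := map_subgroupOf_eq (e := (β : MulAut P)) (le_normalizerIn hP.1) hψe
    have hv : ∀ x, ψ x ∈ normalizerIn S P := by
      intro x
      refine ⟨hom_mem hψ x, ?_⟩
      have := map_mem_normalizer (Q := P) ψ x x.2.2
      rwa [hmap] at this
    have hr : ψ.range = normalizerIn S P :=
      range_eq_of_card_le hψ (normalizerIn_le P) hv le_rfl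
    let γ₀ : MulAut (normalizerIn S P) := homIso hψ hr
    have hγ₀ : IsoIn F γ₀ := isoIn_homIso hψ hr
    obtain ⟨m, ⟨k, hk⟩, hm⟩ := exists_pPart (p := p) γ₀ (isOfFinOrder_of_finite γ₀) b
    let γ : MulAut (normalizerIn S P) := γ₀ ^ m
    have hγmem : γ ∈ F.autGroup (normalizerIn S P) :=
      Subgroup.pow_mem _ ((mem_autGroup (normalizerIn_le P)).2 hγ₀) m
    have hpow : ∀ (j : ℕ) (x : P),
        ((γ₀ ^ j) (Subgroup.inclusion (le_normalizerIn hP.1) x)) =
          Subgroup.inclusion (le_normalizerIn hP.1) (((β : MulAut P) ^ j) x) := by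
      intro j
      induction j with
      | zero => intro x; simp
      | succ j ihj =>
        intro x
        rw [pow_succ, pow_succ, MulAut.mul_apply, MulAut.mul_apply]
        have h4 : γ₀ (Subgroup.inclusion (le_normalizerIn hP.1) x) =
            Subgroup.inclusion (le_normalizerIn hP.1) ((β : MulAut P) x) :=
          Subtype.ext (hψe x x.2 _)
        rw [h4, ihj]
    have hβm : (β : MulAut P) ^ m = β := by
      have h5 : β ^ m = β ^ 1 :=
        pow_eq_pow_iff_modEq.2 (hm.of_dvd (orderOf_dvd_of_pow_eq_one hβo))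
      have h6 := congrArg Subtype.val h5
      simpa using h6
    have hγP : ∀ x : P, ((γ (Subgroup.inclusion (le_normalizerIn hP.1) x) :
        normalizerIn S P) : Ω) = ((β : MulAut P) x : Ω) := by
      intro x
      show (((γ₀ ^ m) _ : normalizerIn S P) : Ω) = _
      rw [hpow, hβm]
      rfl
    obtain ⟨M, hNM, hM⟩ := exists_isFullyNormalized F (normalizerIn_le (S := S) P)
    have hlt : Nat.card P < Nat.card (normalizerIn S P) := by
      by_contra hc
      exact (lt_normalizerIn hS hPS).ne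
        (eq_of_le_of_card_le (normalizerIn_le P) (lt_normalizerIn hS hPS).le (not_lt.1 hc))
    have hMc : Nat.card S - Nat.card M ≤ n := by
      rw [← card_eq_of_isConj hNM]
      have := card_le_of_le (normalizerIn_le (S := S) P)
      omega
    obtain ⟨-, R, hR⟩ := ih M hMc hM
    haveI := finite_of_le hM.1
    obtain ⟨e₁, he₁⟩ := isConj_iff.1 hNM
    let δ : F.autGroup M := ⟨MulAut.congr e₁ γ, congr_mem_autGroup he₁ hγmem⟩
    have hδp : δ ^ p ^ k = 1 := by
      apply Subtype.ext
      show (MulAut.congr e₁ γ) ^ p ^ k = 1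
      rw [← map_pow, hk, map_one]
    have hδP : IsPGroup p (Subgroup.zpowers δ) := by
      obtain ⟨l, -, hl⟩ := (Nat.dvd_prime_pow Fact.out).1 (orderOf_dvd_of_pow_eq_one hδp)
      exact IsPGroup.of_card (n := l) (by rw [Nat.card_zpowers, hl])
    obtain ⟨R', hR'⟩ := hδP.exists_le_sylow
    obtain ⟨η, hη⟩ := MulAction.exists_smul_eq (F.autGroup M) R' R
    have hy2 : η * δ * η⁻¹ ∈ (R : Subgroup (F.autGroup M)) := by
      rw [← hη, Sylow.coe_subgroup_smul]
      exact Subgroup.smul_mem_pointwise_smul δ (MulAut.conj η) _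
        (hR' (Subgroup.mem_zpowers δ))
    rw [hR, Subgroup.mem_subgroupOf] at hy2
    obtain ⟨g, hg, hgy⟩ := mem_autInducedBy.1 hy2
    let e : normalizerIn S P ≃* M := e₁.trans (η : MulAut M)
    have he : IsoIn F e := he₁.trans ((mem_autGroup hM.1).1 η.2)
    have hgy' : ∀ z : normalizerIn S P, (e (γ z) : Ω) = g * (e z : Ω) * g⁻¹ := by
      intro z
      rw [← hgy (e z)]
      simp [e, δ, MulAut.congr, MulAut.mul_apply, MulAut.inv_apply]
    -- the image of `P`
    let ι : P →* Ω :=
      (M.subtype.comp e.toMonoidHom).comp (Subgroup.inclusion (le_normalizerIn hP.1))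
    have hι : ι ∈ F.Hom P := restrict_mem he _
    have hconj : F.IsConj P ι.range := ⟨ι, hι, rfl⟩
    have hιmem : ∀ z : normalizerIn S P,
        (e z : Ω) ∈ Subgroup.normalizer (ι.range : Set Ω) := by
      intro z
      have hrange : ι.range = (P.subgroupOf (normalizerIn S P)).map
          (M.subtype.comp e.toMonoidHom) := by
        ext y
        rw [mem_map_subgroupOf]
        constructor
        · rintro ⟨x, rfl⟩
          exact ⟨x, le_normalizerIn hP.1 x.2, x.2, rfl⟩
        · rintro ⟨x, hx, hxP, rfl⟩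
          exact ⟨⟨x, hxP⟩, rfl⟩
      rw [hrange]
      exact map_mem_normalizer (M.subtype.comp e.toMonoidHom) z z.2.2
    have hMle : M ≤ normalizerIn S ι.range := by
      intro y hy
      refine ⟨hM.1 hy, ?_⟩
      have := hιmem (e.symm ⟨y, hy⟩)
      rwa [MulEquiv.apply_symm_apply] at this
    have hMeq : M = normalizerIn S ι.range :=
      eq_of_le_of_card_le (normalizerIn_le _) hMle
        ((hP.2 _ hconj).trans (card_eq_of_isConj hNM).le)
    have hgM : g ∈ M := by
      rw [hMeq]
      refine ⟨hg, ?_⟩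
      haveI := finite_of_le (range_le hι)
      refine Subgroup.mem_normalizer_fintype fun y hy => ?_
      obtain ⟨x, rfl⟩ := hy
      refine ⟨(β : MulAut P) x, ?_⟩
      show (e (Subgroup.inclusion (le_normalizerIn hP.1) ((β : MulAut P) x)) : Ω) = _
      have h7 : Subgroup.inclusion (le_normalizerIn hP.1) ((β : MulAut P) x) =
          γ (Subgroup.inclusion (le_normalizerIn hP.1) x) := Subtype.ext (hγP x).symm
      rw [h7, hgy']
      rfl
    obtain ⟨z, hz⟩ : ∃ z, e z = ⟨g, hgM⟩ := ⟨e.symm ⟨g, hgM⟩, e.apply_symm_apply _⟩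
    apply hβX
    rw [Subgroup.mem_comap]
    refine mem_autInducedBy.2 ⟨z, z.2.1, fun x => ?_⟩
    show ((β : MulAut P) x : Ω) = _
    rw [← hγP x]
    have h8 : γ (Subgroup.inclusion (le_normalizerIn hP.1) x) =
        z * Subgroup.inclusion (le_normalizerIn hP.1) x * z⁻¹ := by
      apply e.injective
      apply Subtype.ext
      rw [hgy', map_mul, map_mul, map_inv, hz]
      rfl
    rw [h8]
    rfl

/-- The criterion: `Aut_S(S)` Sylow and fully normalized subgroups receptive. -/
theorem isSaturated_of_receptive [Finite S] {p : ℕ} [Fact p.Prime] (hS : IsPGroup p S)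
    (hSS : F.IsFullyAutomized p S) (hrec : ∀ P, F.IsFullyNormalized P → F.IsReceptive P) :
    F.IsSaturated p := by
  intro P hP
  obtain ⟨Q, hQ, hn⟩ := exists_isFullyNormalized F hP
  exact ⟨Q, hQ, isFullyAutomized_of_receptive hS hSS hrec Q hn, hrec Q hn⟩

end Cfsg.Lib.FusionSys
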