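import Cfsg.Agent.Lib.FusionSys.Basic

/-!
The normalizer and centralizer systems: existence, and composition of extensions.
-/

set_option autoImplicit false

namespace Cfsg.Lib.FusionSys

open Cfsg Cfsg.FusionSystem

variable {Ω : Type*} [Group Ω] {S : Subgroup Ω} {F : FusionSystem S} {P R Q : Subgroup Ω}

theorem map_sup_subgroupOf (ψ : (P ⊔ Q : Subgroup Ω) →* Ω) :
    ψ.range = (P.subgroupOf (P ⊔ Q)).map ψ ⊔ (Q.subgroupOf (P ⊔ Q)).map ψ := by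
  rw [← Subgroup.map_sup, ← Subgroup.subgroupOf_sup le_sup_left le_sup_right,
    Subgroup.subgroupOf_self, ← MonoidHom.range_eq_map]

theorem map_subgroupOf_left {φ : P →* Ω} {ψ : (P ⊔ Q : Subgroup Ω) →* Ω}
    (h : ∀ x : P, ψ (Subgroup.inclusion le_sup_left x) = φ x) :
    (P.subgroupOf (P ⊔ Q)).map ψ = φ.range := by
  ext y
  rw [mem_map_subgroupOf]
  constructor
  · rintro ⟨x, hx, hxP, rfl⟩
    exact ⟨⟨x, hxP⟩, (h ⟨x, hxP⟩).symm⟩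
  · rintro ⟨x, rfl⟩
    exact ⟨x, _, x.2, h x⟩

theorem range_ext_eq {φ : P →* Ω} {ψ : (P ⊔ Q : Subgroup Ω) →* Ω}
    (h : ∀ x : P, ψ (Subgroup.inclusion le_sup_left x) = φ x)
    (hQ : (Q.subgroupOf (P ⊔ Q)).map ψ = Q) : ψ.range = φ.range ⊔ Q := by
  rw [map_sup_subgroupOf ψ, map_subgroupOf_left h, hQ]

theorem map_eq_of_fix {ψ : (P ⊔ Q : Subgroup Ω) →* Ω}
    (hfix : ∀ x : Q, ψ (Subgroup.inclusion le_sup_right x) = x) :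
    (Q.subgroupOf (P ⊔ Q)).map ψ = Q := by
  ext y
  rw [mem_map_subgroupOf]
  constructor
  · rintro ⟨x, hx, hxQ, rfl⟩
    exact (hfix ⟨x, hxQ⟩).symm ▸ hxQ
  · intro hy
    exact ⟨y, _, hy, hfix ⟨y, hy⟩⟩

theorem ext_comp {φ : P →* Ω} {φ' : R →* Ω} {ψ : (P ⊔ Q : Subgroup Ω) →* Ω}
    {ψ' : (R ⊔ Q : Subgroup Ω) →* Ω} (hψ : ψ ∈ F.Hom (P ⊔ Q)) (hψ' : ψ' ∈ F.Hom (R ⊔ Q))
    (h : ∀ x : P, ψ (Subgroup.inclusion le_sup_left x) = φ x)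
    (h' : ∀ x : R, ψ' (Subgroup.inclusion le_sup_left x) = φ' x)
    (hQ : (Q.subgroupOf (P ⊔ Q)).map ψ = Q) (hv : ∀ x : P, φ x ∈ R) :
    ∃ χ ∈ F.Hom (P ⊔ Q), (∀ x : P, χ (Subgroup.inclusion le_sup_left x) = φ' ⟨φ x, hv x⟩) ∧
      ∀ (x : (P ⊔ Q : Subgroup Ω)) (hx : ψ x ∈ R ⊔ Q), χ x = ψ' ⟨ψ x, hx⟩ := by
  have hle : ψ.range ≤ R ⊔ Q := by
    rw [range_ext_eq h hQ]
    refine sup_le_sup_right ?_ Q
    rintro _ ⟨x, rfl⟩
    exact hv x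
  have hmem : ∀ x, ψ x ∈ R ⊔ Q := fun x => hle ⟨x, rfl⟩
  refine ⟨_, F.comp_mem hψ hψ' hmem, fun x => ?_, fun x hx => rfl⟩
  refine Eq.trans ?_ (h' ⟨φ x, hv x⟩)
  exact congrArg ψ' (Subtype.ext (h x))

theorem ext_comp_map {ψ : (P ⊔ Q : Subgroup Ω) →* Ω} {ψ' : (R ⊔ Q : Subgroup Ω) →* Ω}
    {χ : (P ⊔ Q : Subgroup Ω) →* Ω} (hQ : (Q.subgroupOf (P ⊔ Q)).map ψ = Q)
    (hQ' : (Q.subgroupOf (R ⊔ Q)).map ψ' = Q)
    (hχ : ∀ (x : (P ⊔ Q : Subgroup Ω)) (hx : ψ x ∈ R ⊔ Q), χ x = ψ' ⟨ψ x, hx⟩) :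
    (Q.subgroupOf (P ⊔ Q)).map χ = Q := by
  ext y
  rw [mem_map_subgroupOf]
  constructor
  · rintro ⟨x, hx, hxQ, rfl⟩
    have h1 : ψ ⟨x, hx⟩ ∈ Q :=
      hQ.le ((mem_map_subgroupOf (ψ := ψ)).2 ⟨x, hx, hxQ, rfl⟩)
    rw [hχ _ (Subgroup.mem_sup_right h1)]
    exact hQ'.le ((mem_map_subgroupOf (ψ := ψ')).2 ⟨_, _, h1, rfl⟩)
  · intro hy
    obtain ⟨z, hz, hzQ, rfl⟩ := (mem_map_subgroupOf (ψ := ψ')).1 (hQ'.symm.le hy)
    obtain ⟨x, hx, hxQ, rfl⟩ := (mem_map_subgroupOf (ψ := ψ)).1 (hQ.symm.le hzQ)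
    exact ⟨x, hx, hxQ, hχ _ hz⟩

theorem ext_inv {φ : P →* Ω} {ψ : (P ⊔ Q : Subgroup Ω) →* Ω} (hψ : ψ ∈ F.Hom (P ⊔ Q))
    (h : ∀ x : P, ψ (Subgroup.inclusion le_sup_left x) = φ x)
    (hQ : (Q.subgroupOf (P ⊔ Q)).map ψ = Q) {φi : φ.range →* Ω}
    (hφi : ∀ (x : P) (hx : φ x ∈ φ.range), φi ⟨φ x, hx⟩ = x) :
    ∃ χ ∈ F.Hom (φ.range ⊔ Q), (∀ y : φ.range, χ (Subgroup.inclusion le_sup_left y) = φi y) ∧
      (Q.subgroupOf (φ.range ⊔ Q)).map χ = Q ∧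
      ∀ (x : (P ⊔ Q : Subgroup Ω)) (hx : ψ x ∈ φ.range ⊔ Q), χ ⟨ψ x, hx⟩ = x := by
  obtain ⟨χ, hχ, -, hinv⟩ := exists_inv hψ (range_ext_eq h hQ)
  refine ⟨χ, hχ, ?_, ?_, hinv⟩
  · rintro ⟨_, x, rfl⟩
    refine Eq.trans ?_ (hφi x _).symm
    have h1 := hinv (Subgroup.inclusion le_sup_left x)
      (Subgroup.mem_sup_left (h x ▸ ⟨x, rfl⟩))
    refine Eq.trans (congrArg χ (Subtype.ext ?_)) h1
    exact (h x).symm
  · ext y
    rw [mem_map_subgroupOf]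
    constructor
    · rintro ⟨z, hz, hzQ, rfl⟩
      obtain ⟨x, hx, hxQ, rfl⟩ := (mem_map_subgroupOf (ψ := ψ)).1 (hQ.symm.le hzQ)
      rw [hinv]
      exact hxQ
    · intro hy
      have h1 : ψ ⟨y, Subgroup.mem_sup_right hy⟩ ∈ Q :=
        hQ.le ((mem_map_subgroupOf (ψ := ψ)).2 ⟨y, _, hy, rfl⟩)
      exact ⟨_, Subgroup.mem_sup_right h1, h1, hinv _ _⟩

theorem exists_normalizerSystem (F : FusionSystem S) (hQ : Q ≤ S) :
    ∃ E : FusionSystem (normalizerIn S Q), F.IsNormalizerSystem Q E := by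
  refine ⟨{
    Hom := fun P => F.normalizerHom Q P
    le_of_mem := fun h => ⟨h.2.1, h.2.2.1⟩
    injective_of_mem := fun h => F.injective_of_mem h.1
    conj_mem := ?_
    comp_mem := ?_
    inv_mem := ?_ }, fun P => rfl⟩
  · intro P g hP hg
    have hPS : P ≤ S := hP.trans (normalizerIn_le Q)
    refine ⟨F.conj_mem hPS hg.1, hP, fun x => ?_, conjHom _ g, F.conj_mem (sup_le hPS hQ) hg.1,
      fun x => rfl, ?_⟩
    · exact (normalizerIn S Q).mul_mem ((normalizerIn S Q).mul_mem hg (hP x.2))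
        ((normalizerIn S Q).inv_mem hg)
    · ext y
      rw [mem_map_subgroupOf]
      constructor
      · rintro ⟨x, hx, hxQ, rfl⟩
        exact (Subgroup.mem_normalizer_iff.1 hg.2 x).1 hxQ
      · intro hy
        have h1 : g⁻¹ * y * g ∈ Q := (Subgroup.mem_normalizer_iff''.1 hg.2 y).1 hy
        exact ⟨_, Subgroup.mem_sup_right h1, h1, by simp [conjHom, mul_assoc]⟩
  · rintro P R φ φ' ⟨hφ, hP, hv, ψ, hψ, h, hQψ⟩ ⟨hφ', -, hv', ψ', hψ', h', hQψ'⟩ hR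
    refine ⟨F.comp_mem hφ hφ' hR, hP, fun x => hv' _, ?_⟩
    obtain ⟨χ, hχ, hχe, hχc⟩ := ext_comp hψ hψ' h h' hQψ hR
    exact ⟨χ, hχ, hχe, ext_comp_map hQψ hQψ' hχc⟩
  · rintro P φ ⟨hφ, hP, hv, ψ, hψ, h, hQψ⟩
    obtain ⟨φi, hφi, -, hi⟩ := exists_inv hφ (rfl : φ.range = φ.range)
    obtain ⟨χ, hχ, hχe, hχQ, -⟩ := ext_inv hψ h hQψ hi
    refine ⟨φi, ⟨hφi, ?_, ?_, χ, hχ, hχe, hχQ⟩, fun x => hi x _⟩
    · rintro _ ⟨x, rfl⟩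
      exact hv x
    · rintro ⟨_, x, rfl⟩
      exact (hi x _).symm ▸ hP x.2

theorem exists_centralizerSystem (F : FusionSystem S) (hQ : Q ≤ S) :
    ∃ E : FusionSystem (centralizerIn S Q), F.IsCentralizerSystem Q E := by
  refine ⟨{
    Hom := fun P => F.centralizerHom Q P
    le_of_mem := fun h => ⟨h.2.1, h.2.2.1⟩
    injective_of_mem := fun h => F.injective_of_mem h.1
    conj_mem := ?_
    comp_mem := ?_
    inv_mem := ?_ }, fun P => rfl⟩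
  · intro P g hP hg
    have hPS : P ≤ S := hP.trans (centralizerIn_le Q)
    refine ⟨F.conj_mem hPS hg.1, hP, fun x => ?_, conjHom _ g, F.conj_mem (sup_le hPS hQ) hg.1,
      fun x => rfl, fun x => ?_⟩
    · exact (centralizerIn S Q).mul_mem ((centralizerIn S Q).mul_mem hg (hP x.2))
        ((centralizerIn S Q).inv_mem hg)
    · exact conj_eq_of_commute ((mem_centralizerIn.1 hg).2 x x.2)
  · rintro P R φ φ' ⟨hφ, hP, hv, ψ, hψ, h, hfix⟩ ⟨hφ', -, hv', ψ', hψ', h', hfix'⟩ hR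
    refine ⟨F.comp_mem hφ hφ' hR, hP, fun x => hv' _, ?_⟩
    obtain ⟨χ, hχ, hχe, hχc⟩ := ext_comp hψ hψ' h h' (map_eq_of_fix hfix) hR
    refine ⟨χ, hχ, hχe, fun x => ?_⟩
    rw [hχc _ (Subgroup.mem_sup_right ((hfix x).symm ▸ x.2))]
    exact (congrArg ψ' (Subtype.ext (hfix x))).trans (hfix' x)
  · rintro P φ ⟨hφ, hP, hv, ψ, hψ, h, hfix⟩
    obtain ⟨φi, hφi, -, hi⟩ := exists_inv hφ (rfl : φ.range = φ.range)
    obtain ⟨χ, hχ, hχe, -, hinv⟩ := ext_inv hψ h (map_eq_of_fix hfix) hi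
    refine ⟨φi, ⟨hφi, ?_, ?_, χ, hχ, hχe, fun x => ?_⟩, fun x => hi x _⟩
    · rintro _ ⟨x, rfl⟩
      exact hv x
    · rintro ⟨_, x, rfl⟩
      exact (hi x _).symm ▸ hP x.2
    · exact (congrArg χ (Subtype.ext (hfix x).symm)).trans
        (hinv _ (Subgroup.mem_sup_right ((hfix x).symm ▸ x.2)))

theorem exists_copy {T T' : Subgroup Ω} (h : T = T') (E : FusionSystem T) :
    ∃ E' : FusionSystem T', ∀ P, E'.Hom P = E.Hom P := by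
  subst h
  exact ⟨E, fun _ => rfl⟩

end Cfsg.Lib.FusionSys

namespace Cfsg.Lib.FusionSys

open Cfsg Cfsg.FusionSystem

variable {Ω : Type*} [Group Ω] {S : Subgroup Ω} {F : FusionSystem S} {Q₁ Q₂ : Subgroup Ω}

theorem isCentral_sup (h₁ : F.IsCentral Q₁) (h₂ : F.IsCentral Q₂) : F.IsCentral (Q₁ ⊔ Q₂) := by
  refine ⟨sup_le h₁.1 h₂.1, fun P φ hφ => ?_⟩
  obtain ⟨ψ₁, hψ₁, he₁, hf₁⟩ := h₁.2 P φ hφ
  obtain ⟨ψ₂, hψ₂, he₂, hf₂⟩ := h₂.2 _ ψ₁ hψ₁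
  have hle : P ⊔ (Q₁ ⊔ Q₂) ≤ P ⊔ Q₁ ⊔ Q₂ := sup_assoc P Q₁ Q₂ ▸ le_rfl
  refine ⟨ψ₂.comp (Subgroup.inclusion hle), restrict_mem hψ₂ hle,
    fun x => (he₂ (Subgroup.inclusion le_sup_left x)).trans (he₁ x), fun x => ?_⟩
  have hfix : Q₁ ⊔ Q₂ ≤ (MonoidHom.eqLocus ψ₂ (P ⊔ Q₁ ⊔ Q₂).subtype).map
      (P ⊔ Q₁ ⊔ Q₂).subtype := by
    refine sup_le ?_ ?_
    · intro y hy
      exact ⟨⟨y, Subgroup.mem_sup_left (Subgroup.mem_sup_right hy)⟩,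
        (he₂ ⟨y, Subgroup.mem_sup_right hy⟩).trans (hf₁ ⟨y, hy⟩), rfl⟩
    · intro y hy
      exact ⟨⟨y, Subgroup.mem_sup_right hy⟩, hf₂ ⟨y, hy⟩, rfl⟩
  obtain ⟨z, hz, hzx⟩ := hfix x.2
  have hzx' : z = Subgroup.inclusion hle (Subgroup.inclusion le_sup_right x) := Subtype.ext hzx
  show ψ₂ (Subgroup.inclusion hle (Subgroup.inclusion le_sup_right x)) = (x : Ω)
  rw [← hzx']
  exact hz.trans hzx

theorem isNormal_sup (h₁ : F.IsNormal Q₁) (h₂ : F.IsNormal Q₂) : F.IsNormal (Q₁ ⊔ Q₂) := by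
  refine ⟨sup_le h₁.1 h₂.1, fun P φ hφ => ?_⟩
  obtain ⟨ψ₁, hψ₁, he₁, hm₁⟩ := h₁.2 P φ hφ
  obtain ⟨ψ₂, hψ₂, he₂, hm₂⟩ := h₂.2 _ ψ₁ hψ₁
  have hle : P ⊔ (Q₁ ⊔ Q₂) ≤ P ⊔ Q₁ ⊔ Q₂ := sup_assoc P Q₁ Q₂ ▸ le_rfl
  refine ⟨ψ₂.comp (Subgroup.inclusion hle), restrict_mem hψ₂ hle,
    fun x => (he₂ (Subgroup.inclusion le_sup_left x)).trans (he₁ x), ?_⟩
  rw [Subgroup.subgroupOf_sup (le_sup_left.trans le_sup_right)
    (le_sup_right.trans le_sup_right), Subgroup.map_sup]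
  congr 1
  · conv_rhs => rw [← hm₁]
    ext y
    rw [mem_map_subgroupOf, mem_map_subgroupOf]
    constructor
    · rintro ⟨x, hx, hxQ, rfl⟩
      exact ⟨x, Subgroup.mem_sup_right hxQ, hxQ, (he₂ _).symm⟩
    · rintro ⟨x, hx, hxQ, rfl⟩
      exact ⟨x, Subgroup.mem_sup_right (Subgroup.mem_sup_left hxQ), hxQ, he₂ ⟨x, hx⟩⟩
  · conv_rhs => rw [← hm₂]
    ext y
    rw [mem_map_subgroupOf, mem_map_subgroupOf]
    constructor
    · rintro ⟨x, hx, hxQ, rfl⟩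
      exact ⟨x, hle hx, hxQ, rfl⟩
    · rintro ⟨x, hx, hxQ, rfl⟩
      exact ⟨x, Subgroup.mem_sup_right (Subgroup.mem_sup_right hxQ), hxQ, rfl⟩

theorem isCentral_bot (F : FusionSystem S) : F.IsCentral ⊥ := by
  refine ⟨bot_le, fun P φ hφ => ?_⟩
  have hle : P ⊔ (⊥ : Subgroup Ω) ≤ P := by simp
  refine ⟨_, restrict_mem hφ hle, fun x => rfl, fun x => ?_⟩
  have hx : x = 1 := Subsingleton.elim _ _
  simp [hx]

/-- A property closed under joins passes to the join of all subgroups of `S` with it. -/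
theorem sSup_mem_of_finite [Finite S] {C : Set (Subgroup Ω)} (hle : ∀ Q ∈ C, Q ≤ S)
    (hbot : ⊥ ∈ C) (hsup : ∀ A ∈ C, ∀ B ∈ C, A ⊔ B ∈ C) : sSup C ∈ C := by
  have hfin : C.Finite := by
    refine Set.Finite.subset (Set.finite_range fun K : Subgroup S => K.map S.subtype) ?_
    intro Q hQ
    exact ⟨Q.subgroupOf S, Subgroup.map_subgroupOf_eq_of_le (hle Q hQ)⟩
  suffices ∀ T : Set (Subgroup Ω), T.Finite → T ⊆ C → sSup T ∈ C from this C hfin le_rfl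
  intro T hT
  induction T, hT using Set.Finite.induction_on with
  | empty => intro _; rwa [sSup_empty]
  | insert _ _ ih =>
    intro h
    rw [sSup_insert]
    exact hsup _ (h (Set.mem_insert _ _)) _ (ih fun x hx => h (Set.mem_insert_of_mem _ hx))

theorem isCentral_center [Finite S] (F : FusionSystem S) : F.IsCentral F.center :=
  sSup_mem_of_finite (C := {Q | F.IsCentral Q}) (fun _ h => h.1) (isCentral_bot F)
    fun _ hA _ hB => isCentral_sup hA hB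

end Cfsg.Lib.FusionSys
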