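import Cfsg.Agent.Lib.FusionSys.Saturation
import Cfsg.Agent.Lib.FusionSys.Local
import Cfsg.Agent.Lib.FusionSys.Criterion

/-!
Saturation of normalizer systems `N^K_F(Q)` of fully `K`-normalized subgroups.
-/

set_option autoImplicit false

namespace Cfsg.Lib.FusionSys

open Cfsg Cfsg.FusionSystem

variable {Ω : Type*} [Group Ω] {S : Subgroup Ω} {F : FusionSystem S}
  {R R' P P' Q Q' : Subgroup Ω}

/-- The elements of `S` inducing an element of `K` on `Q`. -/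
def nK (S Q : Subgroup Ω) (K : Subgroup (MulAut Q)) : Subgroup Ω where
  carrier := {g | g ∈ S ∧ ∃ k ∈ K, ∀ q : Q, ((k q : Q) : Ω) = g * (q : Ω) * g⁻¹}
  one_mem' := ⟨S.one_mem, 1, K.one_mem, fun q => by simp⟩
  mul_mem' := by
    rintro a b ⟨ha, k, hk, hka⟩ ⟨hb, l, hl, hlb⟩
    refine ⟨S.mul_mem ha hb, k * l, K.mul_mem hk hl, fun q => ?_⟩
    rw [MulAut.mul_apply, hka, hlb, mul_inv_rev]
    simp only [mul_assoc]
  inv_mem' := by
    rintro a ⟨ha, k, hk, hka⟩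
    refine ⟨S.inv_mem ha, k⁻¹, K.inv_mem hk, fun q => ?_⟩
    have h := hka (k⁻¹ q)
    rw [MulAut.apply_inv_self] at h
    rw [h, inv_inv]
    simp [mul_assoc]

theorem mem_nK {K : Subgroup (MulAut Q)} {g : Ω} :
    g ∈ nK S Q K ↔ g ∈ S ∧ ∃ k ∈ K, ∀ q : Q, ((k q : Q) : Ω) = g * (q : Ω) * g⁻¹ := Iff.rfl

theorem nK_le (K : Subgroup (MulAut Q)) : nK S Q K ≤ S := fun _ h => h.1

theorem nK_normalizes {K : Subgroup (MulAut Q)} {g : Ω} (hg : g ∈ nK S Q K) :
    g ∈ Subgroup.normalizer (Q : Set Ω) := by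
  obtain ⟨-, k, -, h⟩ := hg
  exact mem_normalizer_of_aut h

theorem nK_top (S Q : Subgroup Ω) : nK S Q (⊤ : Subgroup (MulAut Q)) = normalizerIn S Q := by
  ext g
  exact ⟨fun h => ⟨h.1, nK_normalizes h⟩,
    fun h => ⟨h.1, conjAut Q h.2, trivial, fun q => coe_conjAut Q h.2 q⟩⟩

theorem nK_bot (S Q : Subgroup Ω) : nK S Q (⊥ : Subgroup (MulAut Q)) = centralizerIn S Q := by
  ext g
  constructor
  · rintro ⟨hg, k, hk, h⟩
    rw [Subgroup.mem_bot] at hk
    subst hk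
    refine mem_centralizerIn.2 ⟨hg, fun x hx => ?_⟩
    exact commute_of_conj_eq (h ⟨x, hx⟩).symm
  · intro h
    refine ⟨(mem_centralizerIn.1 h).1, 1, Subgroup.one_mem _, fun q => ?_⟩
    exact (conj_eq_of_commute ((mem_centralizerIn.1 h).2 q q.2)).symm

/-- Automorphisms of `R` preserving `P` and acting on `Q` by `K`. -/
def pairAut (R P Q : Subgroup Ω) (hQR : Q ≤ R) (K : Subgroup (MulAut Q)) :
    Subgroup (MulAut R) where
  carrier := {β | (∀ x : R, ((β x : R) : Ω) ∈ P ↔ (x : Ω) ∈ P) ∧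
    ∃ k ∈ K, ∀ q : Q, ((β (Subgroup.inclusion hQR q) : R) : Ω) = (k q : Ω)}
  one_mem' := ⟨fun x => Iff.rfl, 1, K.one_mem, fun q => rfl⟩
  mul_mem' := by
    rintro a b ⟨ha, k, hk, hka⟩ ⟨hb, l, hl, hlb⟩
    refine ⟨fun x => (ha (b x)).trans (hb x), k * l, K.mul_mem hk hl, fun q => ?_⟩
    have h : b (Subgroup.inclusion hQR q) = Subgroup.inclusion hQR (l q) := Subtype.ext (hlb q)
    rw [MulAut.mul_apply, h, hka]
    rfl
  inv_mem' := by
    rintro a ⟨ha, k, hk, hka⟩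
    refine ⟨fun x => ?_, k⁻¹, K.inv_mem hk, fun q => ?_⟩
    · have h := ha (a⁻¹ x)
      rw [MulAut.apply_inv_self] at h
      exact h.symm
    · have h : a (Subgroup.inclusion hQR (k⁻¹ q)) = Subgroup.inclusion hQR q := by
        refine Subtype.ext ?_
        rw [hka, MulAut.apply_inv_self]
        rfl
      rw [← h, MulAut.inv_apply_self]
      rfl

/-- The automizer of the pair. -/
def qStab (F : FusionSystem S) (R P Q : Subgroup Ω) (hQR : Q ≤ R) (K : Subgroup (MulAut Q)) :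
    Subgroup (MulAut R) :=
  F.autGroup R ⊓ pairAut R P Q hQR K

/-- `R` is fully centralized and the induced automorphisms of the pair have index prime to `p`. -/
def IsGoodPair (F : FusionSystem S) (p : ℕ) (R P Q : Subgroup Ω) (hQR : Q ≤ R)
    (K : Subgroup (MulAut Q)) : Prop :=
  F.IsFullyCentralized R ∧
    ¬ p ∣ (autInducedBy (normalizerIn (nK S Q K) P) R).relIndex (qStab F R P Q hQR K)

section Transport

variable {K : Subgroup (MulAut Q)} {hQR : Q ≤ R} {hQR' : Q' ≤ R'} {e : R ≃* R'} {eQ : Q ≃* Q'}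

theorem symm_compat (hQ : ∀ q : Q, ((e (Subgroup.inclusion hQR q) : R') : Ω) = (eQ q : Ω)) :
    ∀ q : Q', ((e.symm (Subgroup.inclusion hQR' q) : R) : Ω) = (eQ.symm q : Ω) := by
  intro q
  have h := hQ (eQ.symm q)
  rw [MulEquiv.apply_symm_apply] at h
  have h2 : e (Subgroup.inclusion hQR (eQ.symm q)) = Subgroup.inclusion hQR' q := Subtype.ext h
  rw [← h2, MulEquiv.symm_apply_apply]
  rfl

theorem symm_iff (hP : ∀ x : R, ((e x : R') : Ω) ∈ P' ↔ (x : Ω) ∈ P) :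
    ∀ x : R', ((e.symm x : R) : Ω) ∈ P ↔ (x : Ω) ∈ P' := by
  intro x
  have h := hP (e.symm x)
  rw [MulEquiv.apply_symm_apply] at h
  exact h.symm

theorem congr_mem_qStab (he : IsoIn F e)
    (hQ : ∀ q : Q, ((e (Subgroup.inclusion hQR q) : R') : Ω) = (eQ q : Ω))
    (hP : ∀ x : R, ((e x : R') : Ω) ∈ P' ↔ (x : Ω) ∈ P) {β : MulAut R}
    (hβ : β ∈ qStab F R P Q hQR K) :
    MulAut.congr e β ∈ qStab F R' P' Q' hQR' (K.map (MulAut.congr eQ).toMonoidHom) := by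
  obtain ⟨hβF, hβP, k, hk, hβQ⟩ := hβ
  refine ⟨congr_mem_autGroup he hβF, fun x => ?_, MulAut.congr eQ k, ⟨k, hk, rfl⟩, fun q => ?_⟩
  · show ((e (β (e.symm x)) : R') : Ω) ∈ P' ↔ _
    rw [hP, hβP, symm_iff hP]
  · show ((e (β (e.symm (Subgroup.inclusion hQR' q))) : R') : Ω) = (eQ (k (eQ.symm q)) : Ω)
    have h1 : e.symm (Subgroup.inclusion hQR' q) = Subgroup.inclusion hQR (eQ.symm q) :=
      Subtype.ext (symm_compat hQ q)
    have h2 : β (Subgroup.inclusion hQR (eQ.symm q)) = Subgroup.inclusion hQR (k (eQ.symm q)) :=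
      Subtype.ext (hβQ _)
    rw [h1, h2, hQ]

theorem map_congr_symm (K : Subgroup (MulAut Q)) (eQ : Q ≃* Q') :
    (K.map (MulAut.congr eQ).toMonoidHom).map (MulAut.congr eQ.symm).toMonoidHom = K := by
  rw [Subgroup.map_map]
  convert Subgroup.map_id K
  refine MonoidHom.ext fun a => MulEquiv.ext fun x => ?_
  simp [MulAut.congr]

theorem map_qStab (he : IsoIn F e)
    (hQ : ∀ q : Q, ((e (Subgroup.inclusion hQR q) : R') : Ω) = (eQ q : Ω))
    (hP : ∀ x : R, ((e x : R') : Ω) ∈ P' ↔ (x : Ω) ∈ P) :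
    (qStab F R P Q hQR K).map (MulAut.congr e).toMonoidHom =
      qStab F R' P' Q' hQR' (K.map (MulAut.congr eQ).toMonoidHom) := by
  refine le_antisymm ?_ fun β hβ => ⟨MulAut.congr e.symm β, ?_, ?_⟩
  · rintro _ ⟨β, hβ, rfl⟩
    exact congr_mem_qStab he hQ hP hβ
  · have h := congr_mem_qStab (e := e.symm) (eQ := eQ.symm) (hQR' := hQR) he.symm
      (symm_compat hQ) (symm_iff hP) hβ
    rwa [map_congr_symm] at h
  · refine MulEquiv.ext fun x => ?_
    simp [MulAut.congr]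

end Transport

theorem map_congr_mem {K : Subgroup (MulAut Q)} {k : MulAut Q} (hk : k ∈ K) :
    K.map (MulAut.congr k).toMonoidHom = K := by
  have h : ∀ a : MulAut Q, MulAut.congr k a = k * a * k⁻¹ := fun a => MulEquiv.ext fun x => rfl
  ext b
  constructor
  · rintro ⟨a, ha, rfl⟩
    show MulAut.congr k a ∈ K
    rw [h]
    exact K.mul_mem (K.mul_mem hk ha) (K.inv_mem hk)
  · intro hb
    refine ⟨k⁻¹ * b * k, K.mul_mem (K.mul_mem (K.inv_mem hk) hb) hk, ?_⟩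
    show MulAut.congr k _ = b
    rw [h]
    simp [mul_assoc]

theorem normalizer_inf_le_sup {g : Ω} (hP : g ∈ Subgroup.normalizer (P : Set Ω))
    (hQ : g ∈ Subgroup.normalizer (Q : Set Ω)) :
    g ∈ Subgroup.normalizer ((P ⊔ Q : Subgroup Ω) : Set Ω) := by
  have key : ∀ (H : Subgroup Ω) (g : Ω), g ∈ Subgroup.normalizer (H : Set Ω) →
      H.map (MulAut.conj g).toMonoidHom ≤ H := by
    rintro H g hg _ ⟨x, hx, rfl⟩
    exact (Subgroup.mem_normalizer_iff.1 hg x).1 hx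
  have key2 : ∀ g : Ω, g ∈ Subgroup.normalizer (P : Set Ω) → g ∈ Subgroup.normalizer (Q : Set Ω) →
      (P ⊔ Q).map (MulAut.conj g).toMonoidHom ≤ P ⊔ Q := fun g h1 h2 => by
    rw [Subgroup.map_sup]
    exact sup_le_sup (key P g h1) (key Q g h2)
  rw [Subgroup.mem_normalizer_iff]
  intro n
  constructor
  · intro hn
    exact key2 g hP hQ ⟨n, hn, rfl⟩
  · intro hn
    have h := key2 g⁻¹ (inv_mem hP) (inv_mem hQ) ⟨_, hn, rfl⟩
    simpa [mul_assoc] using h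

section Pair

variable {K : Subgroup (MulAut Q)}

theorem mK_normalizes {g : Ω} (hg : g ∈ normalizerIn (nK S Q K) P) :
    g ∈ Subgroup.normalizer ((P ⊔ Q : Subgroup Ω) : Set Ω) :=
  normalizer_inf_le_sup hg.2 (nK_normalizes hg.1)

theorem conjAut_mem_pairAut (hQR : Q ≤ R) {g : Ω} (hg : g ∈ normalizerIn (nK S Q K) P)
    (hgR : g ∈ Subgroup.normalizer (R : Set Ω)) : conjAut R hgR ∈ pairAut R P Q hQR K := by
  obtain ⟨⟨-, k, hk, hkg⟩, hgP⟩ := hg
  refine ⟨fun x => ?_, k, hk, fun q => ?_⟩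
  · rw [coe_conjAut]
    exact (Subgroup.mem_normalizer_iff.1 hgP x).symm
  · rw [coe_conjAut]
    exact (hkg q).symm

theorem autInducedBy_le_qStab (hQR : Q ≤ R) (hR : R ≤ S) :
    autInducedBy (normalizerIn (nK S Q K) P) R ≤ qStab F R P Q hQR K := by
  intro α hα
  obtain ⟨g, hg, h⟩ := mem_autInducedBy.1 hα
  have hgR := mem_normalizer_of_aut h
  have he : α = conjAut R hgR := MulEquiv.ext fun x => Subtype.ext (h x)
  exact ⟨autInducedBy_le_autGroup hR (mem_autInducedBy.2 ⟨g, hg.1.1, h⟩),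
    he ▸ conjAut_mem_pairAut hQR hg hgR⟩

theorem mem_mK_of_pairAut (hQR : Q ≤ R) (hPR : P ≤ R) {g : Ω} (hg : g ∈ S) {β : MulAut R}
    (hβ : β ∈ pairAut R P Q hQR K) (h : ∀ x : R, ((β x : R) : Ω) = g * (x : Ω) * g⁻¹) :
    g ∈ normalizerIn (nK S Q K) P := by
  obtain ⟨hβP, k, hk, hβQ⟩ := hβ
  refine ⟨⟨hg, k, hk, fun q => ?_⟩, ?_⟩
  · rw [← hβQ, h]
    rfl
  · show g ∈ Subgroup.normalizer (P : Set Ω)
    rw [Subgroup.mem_normalizer_iff]
    intro n
    constructor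
    · intro hn
      have h1 := (hβP ⟨n, hPR hn⟩).2 hn
      rwa [h] at h1
    · intro hn
      have h1 := h (β⁻¹ ⟨_, hPR hn⟩)
      rw [MulAut.apply_inv_self] at h1
      have h2 : n = ((β⁻¹ ⟨_, hPR hn⟩ : R) : Ω) := mul_left_cancel (mul_right_cancel h1)
      rw [h2, ← hβP, MulAut.apply_inv_self]
      exact hn

/-- A map of the system carries `mK` of a pair into `mK` of the image pair. -/
theorem apply_mem_mK {D : Subgroup Ω} {θ : D →* Ω} (hθ : θ ∈ F.Hom D) (hRD : R ≤ D)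
    (hQR : Q ≤ R) (hQR' : Q' ≤ R') (hPR : P ≤ R) (hP'R : P' ≤ R') {e : R ≃* R'} {eQ : Q ≃* Q'}
    (hQ : ∀ q : Q, ((e (Subgroup.inclusion hQR q) : R') : Ω) = (eQ q : Ω))
    (hP : ∀ x : R, ((e x : R') : Ω) ∈ P' ↔ (x : Ω) ∈ P)
    (hθe : ∀ x : R, θ (Subgroup.inclusion hRD x) = (e x : Ω)) {g : Ω} (hgD : g ∈ D)
    (hgR : g ∈ Subgroup.normalizer (R : Set Ω)) (hg : g ∈ normalizerIn (nK S Q K) P) :
    θ ⟨g, hgD⟩ ∈ normalizerIn (nK S Q' (K.map (MulAut.congr eQ).toMonoidHom)) P' := by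
  obtain ⟨⟨-, k, hk, hkg⟩, hgP⟩ := hg
  have hconj : ∀ x : R,
      ((e (conjAut R hgR x) : R') : Ω) = θ ⟨g, hgD⟩ * (e x : Ω) * (θ ⟨g, hgD⟩)⁻¹ := by
    intro x
    rw [← hθe, ← hθe, ← map_inv, ← map_mul, ← map_mul]
    rfl
  refine mem_mK_of_pairAut hQR' hP'R (hom_mem hθ _) (β := MulAut.congr e (conjAut R hgR))
    ⟨fun x => ?_, MulAut.congr eQ k, ⟨k, hk, rfl⟩, fun q => ?_⟩ fun x => ?_
  · show ((e (conjAut R hgR (e.symm x)) : R') : Ω) ∈ P' ↔ _
    rw [hP, coe_conjAut, ← (Subgroup.mem_normalizer_iff.1 hgP _), symm_iff hP]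
  · show ((e (conjAut R hgR (e.symm (Subgroup.inclusion hQR' q))) : R') : Ω) =
      (eQ (k (eQ.symm q)) : Ω)
    have h1 : e.symm (Subgroup.inclusion hQR' q) = Subgroup.inclusion hQR (eQ.symm q) :=
      Subtype.ext (symm_compat hQ q)
    have h2 : conjAut R hgR (Subgroup.inclusion hQR (eQ.symm q)) =
        Subgroup.inclusion hQR (k (eQ.symm q)) := by
      refine Subtype.ext ?_
      rw [coe_conjAut]
      exact (hkg _).symm
    rw [h1, h2, hQ]
  · show ((e (conjAut R hgR (e.symm x)) : R') : Ω) = _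
    rw [hconj, MulEquiv.apply_symm_apply]

end Pair

/-- The image of an iso of the system restricted to `P ≤ R`. -/
theorem exists_sub_image {e : R ≃* R'} (he : IsoIn F e) (hPR : P ≤ R) :
    ∃ (P' : Subgroup Ω) (f : P ≃* P'), P' ≤ R' ∧ IsoIn F f ∧
      (∀ x : P, ((e (Subgroup.inclusion hPR x) : R') : Ω) = (f x : Ω)) ∧
      ∀ x : R, ((e x : R') : Ω) ∈ P' ↔ (x : Ω) ∈ P := by
  have hφ := restrict_mem he hPR
  refine ⟨_, homIso hφ rfl, ?_, isoIn_homIso hφ rfl, fun x => (coe_homIso hφ rfl x).symm, ?_⟩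
  · rintro _ ⟨x, rfl⟩
    exact (e _).2
  · intro x
    constructor
    · rintro ⟨y, hy⟩
      have h : Subgroup.inclusion hPR y = x := e.injective (Subtype.ext hy)
      rw [← h]
      exact y.2
    · intro hx
      exact ⟨⟨x, hx⟩, rfl⟩

theorem sup_eq_of_iso {e : R ≃* R'} (hR : R = P ⊔ Q) (hP'R : P' ≤ R') (hQR' : Q' ≤ R')
    (hP : ∀ x : R, (x : Ω) ∈ P → ((e x : R') : Ω) ∈ P')
    (hQ : ∀ x : R, (x : Ω) ∈ Q → ((e x : R') : Ω) ∈ Q') : R' = P' ⊔ Q' := by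
  refine le_antisymm ?_ (sup_le hP'R hQR')
  have hle : R ≤ (((P' ⊔ Q').subgroupOf R').comap e.toMonoidHom).map R.subtype := by
    refine hR.le.trans (sup_le (fun x hx => ?_) fun x hx => ?_)
    · refine ⟨⟨x, hR ▸ Subgroup.mem_sup_left hx⟩, ?_, rfl⟩
      exact Subgroup.mem_sup_left (hP _ hx)
    · refine ⟨⟨x, hR ▸ Subgroup.mem_sup_right hx⟩, ?_, rfl⟩
      exact Subgroup.mem_sup_right (hQ _ hx)
  intro y hy
  obtain ⟨x, hx, hxe⟩ := hle (e.symm ⟨y, hy⟩).2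
  have h : x = e.symm ⟨y, hy⟩ := Subtype.ext hxe
  subst h
  have h1 : ((e (e.symm ⟨y, hy⟩) : R') : Ω) ∈ P' ⊔ Q' := hx
  rwa [MulEquiv.apply_symm_apply] at h1

variable [Finite S] {p : ℕ} [Fact p.Prime]

/-- `Q` is fully `K`-normalized, in extension form. -/
def IsFullyKNormalized (F : FusionSystem S) (Q : Subgroup Ω) (K : Subgroup (MulAut Q)) : Prop :=
  ∀ (Q' : Subgroup Ω) (e : Q' ≃* Q), IsoIn F e → ∀ N : Subgroup Ω,
    (∀ g ∈ N, g ∈ S ∧ ∃ k ∈ K, ∀ q y : Q', (y : Ω) = g * (q : Ω) * g⁻¹ → e y = k (e q)) →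
      (∀ g ∈ N, g ∈ Subgroup.normalizer (Q' : Set Ω)) →
      ∃ k₀ ∈ K, ∃ ψ ∈ F.Hom (N ⊔ Q'),
        ∀ q : Q', ψ (Subgroup.inclusion le_sup_right q) = (k₀ (e q) : Ω)

theorem isFullyKNormalized_top (hS : IsPGroup p S) (hF : F.IsSaturated p)
    (hQ : F.IsFullyNormalized Q) : IsFullyKNormalized F Q ⊤ := by
  intro Q' e he N hN hNn
  obtain ⟨hfc, hfa⟩ := isFullyAutomized_and_fc_of_fn hS hF hQ
  obtain ⟨φ, hφ, -, hmap⟩ := exists_normalizer_map hS hfa (isReceptive_of_fc hS hF hfc)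
    (isConj_iff.2 ⟨e, he⟩)
  have hle : N ⊔ Q' ≤ normalizerIn S Q' :=
    sup_le (fun g hg => ⟨(hN g hg).1, hNn g hg⟩) (le_normalizerIn he.le_left)
  have hφQ := restrict_mem hφ (le_normalizerIn (S := S) he.le_left)
  have hr : (φ.comp (Subgroup.inclusion (le_normalizerIn (S := S) he.le_left))).range = Q := by
    refine Eq.trans ?_ hmap
    ext y
    rw [mem_map_subgroupOf]
    exact ⟨fun ⟨x, hx⟩ => ⟨x, _, x.2, hx⟩, fun ⟨x, hx, hxQ, h⟩ => ⟨⟨x, hxQ⟩, h⟩⟩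
  refine ⟨e.symm.trans (homIso hφQ hr), trivial, _, restrict_mem hφ hle, fun q => ?_⟩
  show φ _ = ((homIso hφQ hr (e.symm (e q)) : Q) : Ω)
  rw [MulEquiv.symm_apply_apply, coe_homIso]
  rfl

theorem isFullyKNormalized_bot (hS : IsPGroup p S) (hF : F.IsSaturated p)
    (hQ : F.IsFullyCentralized Q) : IsFullyKNormalized F Q ⊥ := by
  intro Q' e he N hN hNn
  obtain ⟨ψ, hψ, hψe⟩ := (isReceptive_of_fc hS hF hQ).2 Q' _ he (by
    ext y
    exact ⟨by rintro ⟨x, rfl⟩; exact (e x).2, fun hy => ⟨e.symm ⟨y, hy⟩, by simp⟩⟩)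
  have hle : N ⊔ Q' ≤ extender S Q' (Q.subtype.comp e.toMonoidHom) := by
    refine sup_le (fun g hg => ?_) (le_extender he.le_left fun x => hom_mem he x)
    obtain ⟨hgS, k, hk, h⟩ := hN g hg
    refine mem_extender_of hgS (hNn g hg) S.one_mem fun x hx => ?_
    rw [Subgroup.mem_bot] at hk
    have h1 := h x ⟨_, hx⟩ rfl
    rw [hk, MulAut.one_apply] at h1
    simp [h1]
  refine ⟨1, Subgroup.one_mem _, _, restrict_mem hψ hle, fun q => ?_⟩
  exact hψe q q.2 _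

variable {K : Subgroup (MulAut Q)}

/-- Every pair can be carried to a good one. -/
theorem exists_good (hS : IsPGroup p S) (hF : F.IsSaturated p) (hQS : Q ≤ S)
    (hK : IsFullyKNormalized F Q K) (hP : P ≤ nK S Q K) :
    ∃ (P' : Subgroup Ω) (e : (P ⊔ Q : Subgroup Ω) ≃* (P' ⊔ Q : Subgroup Ω)) (k : MulAut Q)
      (θ : (normalizerIn (nK S Q K) P ⊔ (P ⊔ Q) : Subgroup Ω) →* Ω),
      IsoIn F e ∧ k ∈ K ∧ θ ∈ F.Hom _ ∧ P' ≤ nK S Q K ∧
      (∀ q : Q, (e (Subgroup.inclusion le_sup_right q) : Ω) = (k q : Ω)) ∧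
      (∀ x, (e x : Ω) ∈ P' ↔ (x : Ω) ∈ P) ∧
      (∀ x, θ (Subgroup.inclusion le_sup_right x) = (e x : Ω)) ∧
      IsGoodPair F p (P' ⊔ Q) P' Q le_sup_right K := by
  set R := P ⊔ Q with hRdef
  have hQR : Q ≤ R := le_sup_right
  have hPR : P ≤ R := le_sup_left
  have hRS : R ≤ S := sup_le (hP.trans (nK_le K)) hQS
  haveI := finite_of_le hRS
  set M := normalizerIn (nK S Q K) P with hMdef
  have hMp : IsPGroup p M := hS.to_le ((normalizerIn_le P).trans (nK_le K))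
  have hMR : ∀ g ∈ M, g ∈ Subgroup.normalizer (R : Set Ω) := fun g hg => mK_normalizes hg
  -- a fully normalized conjugate of the join
  obtain ⟨R₁, hR₁c, hR₁⟩ := exists_isFullyNormalized F hRS
  obtain ⟨e₁, he₁⟩ := isConj_iff.1 hR₁c
  haveI := finite_of_le hR₁.1
  obtain ⟨hR₁fc, -, T₁, hT₁⟩ := isFullyAutomized_and_fc_of_fn hS hF hR₁
  set A := qStab F R P Q hQR K with hAdef
  obtain ⟨Y, hY⟩ := (show IsPGroup p ((autInducedBy M R).subgroupOf A) from
    (isPGroup_autInducedBy hMp).comap_subtype).exists_le_sylow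
  set X : Subgroup (MulAut R₁) :=
    ((Y : Subgroup A).map A.subtype).map (MulAut.congr e₁).toMonoidHom with hXdef
  have hXA : X ≤ F.autGroup R₁ := by
    rintro _ ⟨_, ⟨y, -, rfl⟩, rfl⟩
    exact congr_mem_autGroup he₁ y.2.1
  obtain ⟨T', hT'⟩ := (show IsPGroup p (X.subgroupOf (F.autGroup R₁)) from
    ((Y.isPGroup'.map _).map _).comap_subtype).exists_le_sylow
  obtain ⟨χ, hχ⟩ := MulAction.exists_smul_eq (F.autGroup R₁) T' T₁
  set e₂ : R ≃* R₁ := e₁.trans (χ : MulAut R₁) with he₂def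
  have he₂ : IsoIn F e₂ := he₁.trans ((mem_autGroup hR₁.1).1 χ.2)
  have hY₂ : ((Y : Subgroup A).map A.subtype).map (MulAut.congr e₂).toMonoidHom ≤
      autInducedBy S R₁ := by
    rintro _ ⟨α, hα, rfl⟩
    have hx : MulAut.congr e₁ α ∈ X := ⟨α, hα, rfl⟩
    let y : F.autGroup R₁ := ⟨_, hXA hx⟩
    have hy : y ∈ (T' : Subgroup (F.autGroup R₁)) := hT' hx
    have hy2 : χ * y * χ⁻¹ ∈ (T₁ : Subgroup (F.autGroup R₁)) := by
      rw [← hχ, Sylow.coe_subgroup_smul]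
      exact Subgroup.smul_mem_pointwise_smul y (MulAut.conj χ) _ hy
    rw [hT₁, Subgroup.mem_subgroupOf] at hy2
    convert hy2 using 1
    exact MulEquiv.ext fun x => rfl
  obtain ⟨Q₂, eQ, hQ₂R, heQ, hQc, hQiff⟩ := exists_sub_image he₂ hQR
  obtain ⟨P₂, eP, hP₂R, -, hPc, hPiff⟩ := exists_sub_image he₂ hPR
  set K₂ := K.map (MulAut.congr eQ).toMonoidHom with hK₂def
  set A₂ := qStab F R₁ P₂ Q₂ hQ₂R K₂ with hA₂def
  have hAmap : A.map (MulAut.congr e₂).toMonoidHom = A₂ := map_qStab he₂ hQc hPiff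
  have hR₁eq : R₁ = P₂ ⊔ Q₂ := sup_eq_of_iso rfl hP₂R hQ₂R (fun x hx => (hPiff x).2 hx)
    fun x hx => (hQiff x).2 hx
  set M₂ := normalizerIn (nK S Q₂ K₂) P₂ with hM₂def
  have hgood₂ : ¬ p ∣ (autInducedBy M₂ R₁).relIndex A₂ := by
    intro hd
    have hle : ((Y : Subgroup A).map A.subtype).map (MulAut.congr e₂).toMonoidHom ≤
        autInducedBy M₂ R₁ := by
      intro β hβ
      obtain ⟨g, hg, h⟩ := mem_autInducedBy.1 (hY₂ hβ)
      obtain ⟨α, ⟨y, -, rfl⟩, rfl⟩ := hβ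
      exact mem_autInducedBy.2
        ⟨g, mem_mK_of_pairAut hQ₂R hP₂R hg (congr_mem_qStab he₂ hQc hPiff y.2).2 h, h⟩
    have h1 := hd.trans (Subgroup.relIndex_dvd_of_le_left A₂ hle)
    rw [← hAmap, Subgroup.relIndex_map_map_of_injective _ _
      (show Function.Injective (MulAut.congr e₂).toMonoidHom from (MulAut.congr e₂).injective),
      Subgroup.relIndex, Subgroup.subgroupOf, Subgroup.comap_map_eq_self_of_injective
        A.subtype_injective] at h1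
    exact Y.not_dvd_index h1
  -- extend over `M`
  have hφr : (R₁.subtype.comp e₂.toMonoidHom).range = R₁ := by
    ext y
    exact ⟨by rintro ⟨x, rfl⟩; exact (e₂ x).2, fun hy => ⟨e₂.symm ⟨y, hy⟩, by simp⟩⟩
  obtain ⟨ψ, hψ, hψe⟩ := (isReceptive_of_fc hS hF hR₁fc).2 R _ he₂ hφr
  have hMext : M ≤ extender S R (R₁.subtype.comp e₂.toMonoidHom) := by
    intro g hg
    have hgA : conjAut R (hMR g hg) ∈ A :=
      autInducedBy_le_qStab hQR hRS (conjAut_mem_autInducedBy _ hg)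
    have h1 : MulAut.congr e₂ (conjAut R (hMR g hg)) ∈ autInducedBy S R₁ :=
      hY₂ ⟨_, ⟨⟨_, hgA⟩, hY (conjAut_mem_autInducedBy _ hg), rfl⟩, rfl⟩
    obtain ⟨h, hh, hhe⟩ := mem_autInducedBy.1 h1
    refine mem_extender_of hg.1.1 (hMR g hg) hh fun x hx => ?_
    have h2 := hhe (e₂ x)
    simp only [MulAut.congr, MulEquiv.coe_mk, Equiv.coe_fn_mk, MulEquiv.trans_apply,
      MulEquiv.symm_apply_apply] at h2
    exact h2
  have hD : M ⊔ R ≤ extender S R (R₁.subtype.comp e₂.toMonoidHom) :=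
    sup_le hMext (le_extender hRS fun x => hom_mem he₂ x)
  set θ := ψ.comp (Subgroup.inclusion hD) with hθdef
  have hθ : θ ∈ F.Hom (M ⊔ R) := restrict_mem hψ hD
  have hθe : ∀ x : R, θ (Subgroup.inclusion le_sup_right x) = (e₂ x : Ω) := fun x => hψe x x.2 _
  have hθM : ∀ g (hg : g ∈ M), θ ⟨g, Subgroup.mem_sup_left hg⟩ ∈ M₂ := fun g hg =>
    apply_mem_mK hθ le_sup_right hQR hQ₂R hPR hP₂R hQc hPiff hθe _ (hMR g hg) hg
  have hP₂ : P₂ ≤ nK S Q₂ K₂ := by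
    intro y hy
    have hP₂R' : y ∈ R₁ := hP₂R hy
    have hxP : ((e₂.symm ⟨y, hP₂R'⟩ : R) : Ω) ∈ P := (symm_iff hPiff _).2 hy
    have hxM : ((e₂.symm ⟨y, hP₂R'⟩ : R) : Ω) ∈ M := le_normalizerIn hP hxP
    have h1 := hθM _ hxM
    have h2 := hθe (e₂.symm ⟨y, hP₂R'⟩)
    rw [MulEquiv.apply_symm_apply] at h2
    exact ((congrArg (· ∈ M₂) h2).mp h1).1
  -- move `Q₂` back to `Q`
  set N₂ := nK S Q₂ K₂ with hN₂def
  obtain ⟨k₀, hk₀, ρ, hρ, hρQ⟩ := hK Q₂ eQ.symm heQ.symm N₂ (by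
    intro g hg
    obtain ⟨hgS, k, hk, hkg⟩ := hg
    obtain ⟨k', hk', rfl⟩ := hk
    refine ⟨hgS, k', hk', fun q y hy => ?_⟩
    have h1 : y = MulAut.congr eQ k' q := Subtype.ext (hy.trans (hkg q).symm)
    rw [h1]
    simp [MulAut.congr]) (fun g hg => nK_normalizes hg)
  have hR₁N : R₁ ≤ N₂ ⊔ Q₂ := hR₁eq ▸ sup_le_sup_right hP₂ Q₂
  have hρR := restrict_mem hρ hR₁N
  obtain ⟨R₃, hR₃def⟩ : ∃ R₃, (ρ.comp (Subgroup.inclusion hR₁N)).range = R₃ := ⟨_, rfl⟩
  obtain ⟨e₃, he₃, he₃v⟩ : ∃ e₃ : R₁ ≃* R₃, IsoIn F e₃ ∧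
      ∀ x : R₁, (e₃ x : Ω) = ρ (Subgroup.inclusion hR₁N x) :=
    ⟨homIso hρR hR₃def, isoIn_homIso hρR hR₃def, fun x => coe_homIso hρR hR₃def x⟩
  obtain ⟨P₃, eP₃, hP₃R, -, hP₃c, hP₃iff⟩ := exists_sub_image he₃ hP₂R
  set eQ₃ : Q₂ ≃* Q := eQ.symm.trans k₀ with heQ₃def
  have hQc₃ : ∀ q : Q₂, ((e₃ (Subgroup.inclusion hQ₂R q) : R₃) : Ω) = (eQ₃ q : Ω) := fun q => by
    rw [he₃v]
    exact hρQ q
  have hQR₃ : Q ≤ R₃ := fun y hy => by
    have h1 := hQc₃ (eQ₃.symm ⟨y, hy⟩)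
    rw [MulEquiv.apply_symm_apply] at h1
    exact (congrArg (· ∈ R₃) h1).mp (e₃ _).2
  have hR₃eq : R₃ = P₃ ⊔ Q := sup_eq_of_iso hR₁eq hP₃R hQR₃ (fun x hx => (hP₃iff x).2 hx)
    fun x hx => by
      have h1 : x = Subgroup.inclusion hQ₂R ⟨x, hx⟩ := rfl
      rw [h1, hQc₃]
      exact (eQ₃ _).2
  subst hR₃eq
  have hK₃ : K₂.map (MulAut.congr eQ₃).toMonoidHom = K := by
    conv_rhs => rw [← map_congr_mem hk₀]
    rw [hK₂def, Subgroup.map_map]
    congr 1
    refine MonoidHom.ext fun a => MulEquiv.ext fun x => ?_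
    simp [MulAut.congr, heQ₃def]
  have hρM : ∀ g (hg : g ∈ M₂), ρ ⟨g, Subgroup.mem_sup_left hg.1⟩ ∈
      normalizerIn (nK S Q K) P₃ := fun g hg => by
    have h1 := apply_mem_mK hρ hR₁N hQ₂R hQR₃ hP₂R hP₃R hQc₃ hP₃iff
      (fun x => (he₃v x).symm) (g := g) (Subgroup.mem_sup_left hg.1)
      (hR₁eq ▸ mK_normalizes hg) hg
    rwa [hK₃] at h1
  have hrel : (R₁ : Subgroup Ω) ≤ S := hR₁.1
  have hM₂le : M₂ ≤ N₂ ⊔ Q₂ := (normalizerIn_le P₂).trans le_sup_left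
  -- good pair
  have hgood : IsGoodPair F p (P₃ ⊔ Q) P₃ Q hQR₃ K := by
    refine ⟨⟨he₃.le_right, fun U hU => ?_⟩, fun hd => hgood₂ ?_⟩
    · refine (hR₁fc.2 U (isConj_trans (isConj_iff.2 ⟨e₃, he₃⟩) hU)).trans ?_
      haveI := finite_of_le (centralizerIn_le (S := S) (P₃ ⊔ Q))
      have hC : centralizerIn S R₁ ≤ N₂ := fun c hc => by
        refine ⟨(mem_centralizerIn.1 hc).1, 1, Subgroup.one_mem _, fun q => ?_⟩
        exact (conj_eq_of_commute ((mem_centralizerIn.1 hc).2 q (hQ₂R q.2))).symm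
      have hmem : ∀ c : centralizerIn S R₁,
          ρ (Subgroup.inclusion (hC.trans le_sup_left) c) ∈ centralizerIn S (P₃ ⊔ Q) := fun c => by
        refine mem_centralizerIn.2 ⟨hom_mem hρ _, fun y hy => ?_⟩
        have h1 := he₃v (e₃.symm ⟨y, hy⟩)
        rw [MulEquiv.apply_symm_apply] at h1
        rw [show y = ρ _ from h1, ← map_mul, ← map_mul]
        congr 1
        exact Subtype.ext ((mem_centralizerIn.1 c.2).2 _ (e₃.symm ⟨y, hy⟩).2)
      refine Nat.card_le_card_of_injective (fun c => (⟨_, hmem c⟩ : centralizerIn S (P₃ ⊔ Q))) ?_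
      intro a b hab
      exact Subgroup.inclusion_injective _ (F.injective_of_mem hρ (congrArg Subtype.val hab))
    · have hle : (autInducedBy M₂ R₁).map (MulAut.congr e₃).toMonoidHom ≤
          autInducedBy (normalizerIn (nK S Q K) P₃) (P₃ ⊔ Q) := by
        rintro _ ⟨α, hα, rfl⟩
        obtain ⟨g, hg, h⟩ := mem_autInducedBy.1 hα
        refine mem_autInducedBy.2 ⟨_, hρM g hg, fun x => ?_⟩
        have hx : (x : Ω) = ρ (Subgroup.inclusion hR₁N (e₃.symm x)) := by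
          rw [← he₃v, MulEquiv.apply_symm_apply]
        show ((e₃ (α (e₃.symm x)) : ↥(P₃ ⊔ Q)) : Ω) = _
        rw [he₃v, hx, ← map_inv, ← map_mul, ← map_mul]
        congr 1
        exact Subtype.ext (h _)
      have h1 := hd.trans (Subgroup.relIndex_dvd_of_le_left _ hle)
      rw [← hK₃, ← map_qStab (hQR := hQ₂R) he₃ hQc₃ hP₃iff,
        Subgroup.relIndex_map_map_of_injective _ _
          (show Function.Injective (MulAut.congr e₃).toMonoidHom from
            (MulAut.congr e₃).injective)] at h1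
      exact h1
  have hP₃ : P₃ ≤ nK S Q K := by
    intro y hy
    have hxP : ((e₃.symm ⟨y, hP₃R hy⟩ : R₁) : Ω) ∈ P₂ := (symm_iff hP₃iff _).2 hy
    have h1 := hρM _ (le_normalizerIn hP₂ hxP)
    have h2 := (he₃v (e₃.symm ⟨y, hP₃R hy⟩)).symm
    rw [MulEquiv.apply_symm_apply] at h2
    exact ((congrArg (· ∈ normalizerIn (nK S Q K) P₃) h2).mp h1).1
  have hDρ : ∀ x : ↥(M ⊔ R), θ x ∈ N₂ ⊔ Q₂ := by
    rintro ⟨x, hx⟩
    have hle : M ⊔ R ≤ ((N₂ ⊔ Q₂).comap θ).map (M ⊔ R).subtype := by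
      refine sup_le (fun g hg => ⟨⟨g, Subgroup.mem_sup_left hg⟩, hM₂le (hθM g hg), rfl⟩)
        fun g hg => ⟨⟨g, Subgroup.mem_sup_right hg⟩, ?_, rfl⟩
      show θ (Subgroup.inclusion le_sup_right ⟨g, hg⟩) ∈ N₂ ⊔ Q₂
      rw [hθe]
      exact hR₁N (e₂ _).2
    obtain ⟨w, hw, hwe⟩ := hle hx
    rw [← show w = ⟨x, hx⟩ from Subtype.ext hwe]
    exact hw
  refine ⟨P₃, e₂.trans e₃, k₀, _, he₂.trans he₃, hk₀, F.comp_mem hθ hρ hDρ, hP₃, fun q => ?_,
    fun x => ?_, fun x => ?_, hgood⟩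
  · have h1 : e₂ (Subgroup.inclusion le_sup_right q) = Subgroup.inclusion hQ₂R (eQ q) :=
      Subtype.ext (hQc q)
    rw [MulEquiv.trans_apply, h1, hQc₃]
    simp [heQ₃def]
  · rw [MulEquiv.trans_apply, hP₃iff, hPiff]
  · rw [MulEquiv.trans_apply, he₃v]
    show ρ _ = ρ _
    congr 1
    exact Subtype.ext (hθe x)

/-- A pair whose `mK` is as large as possible among conjugates is good. -/
theorem isGoodPair_of_max (hS : IsPGroup p S) (hF : F.IsSaturated p) (hQS : Q ≤ S)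
    (hK : IsFullyKNormalized F Q K) (hP : P ≤ nK S Q K)
    (hmax : ∀ P' : Subgroup Ω, ∀ φ ∈ F.Hom P, φ.range = P' →
      (∃ k ∈ K, ∃ ψ ∈ F.Hom (P ⊔ Q), (∀ x : P, ψ (Subgroup.inclusion le_sup_left x) = φ x) ∧
        ∀ q : Q, ψ (Subgroup.inclusion le_sup_right q) = (k q : Ω)) → P' ≤ nK S Q K →
      Nat.card (normalizerIn (nK S Q K) P') ≤ Nat.card (normalizerIn (nK S Q K) P)) :
    IsGoodPair F p (P ⊔ Q) P Q le_sup_right K := by
  set M := normalizerIn (nK S Q K) P with hMdef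
  obtain ⟨P', e, k, θ, he, hk, hθ, hP', heq, hiff, hθe, hgood⟩ := exists_good hS hF hQS hK hP
  set M' := normalizerIn (nK S Q K) P' with hM'def
  have hθM : ∀ g (hg : g ∈ M), θ ⟨g, Subgroup.mem_sup_left hg⟩ ∈ M' := fun g hg => by
    have h1 := apply_mem_mK (eQ := k) (hQR' := le_sup_right) hθ le_sup_right le_sup_right
      le_sup_left le_sup_left heq hiff hθe (g := g) (Subgroup.mem_sup_left hg)
      (mK_normalizes hg) hg
    rwa [map_congr_mem hk] at h1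
  have hφ : (P' ⊔ Q : Subgroup Ω).subtype.comp (e.toMonoidHom.comp (Subgroup.inclusion le_sup_left))
      ∈ F.Hom P := restrict_mem he le_sup_left
  have hr : ((P' ⊔ Q : Subgroup Ω).subtype.comp
      (e.toMonoidHom.comp (Subgroup.inclusion (le_sup_left : P ≤ P ⊔ Q)))).range = P' := by
    ext y
    constructor
    · rintro ⟨x, rfl⟩
      exact (hiff _).2 x.2
    · intro hy
      have h1 := (symm_iff hiff ⟨y, Subgroup.mem_sup_left hy⟩).2 hy
      refine ⟨⟨_, h1⟩, ?_⟩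
      show ((e (e.symm ⟨y, _⟩) : ↥(P' ⊔ Q)) : Ω) = y
      rw [MulEquiv.apply_symm_apply]
  have hle := hmax P' _ hφ hr ⟨k, hk, _, he, fun x => rfl, heq⟩ hP'
  haveI := finite_of_le ((normalizerIn_le P').trans (nK_le (S := S) K))
  have hbij : Function.Bijective fun g : M => (⟨_, hθM g g.2⟩ : M') := by
    refine Function.Injective.bijective_of_nat_card_le (fun a b hab => ?_) hle
    have h1 := F.injective_of_mem hθ (congrArg Subtype.val hab)
    have h7 := congrArg Subtype.val h1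
    exact Subtype.ext h7
  refine ⟨⟨he.le_left, fun U hU => ?_⟩, fun hd => hgood.2 ?_⟩
  · refine (hgood.1.2 U (isConj_trans (isConj_symm (isConj_iff.2 ⟨e, he⟩)) hU)).trans ?_
    haveI := finite_of_le (centralizerIn_le (S := S) (P ⊔ Q))
    have hC : centralizerIn S (P' ⊔ Q) ≤ M' := fun c hc => by
      obtain ⟨hcS, hcc⟩ := mem_centralizerIn.1 hc
      refine ⟨⟨hcS, 1, Subgroup.one_mem _, fun q => ?_⟩, ?_⟩
      · exact (conj_eq_of_commute (hcc q (Subgroup.mem_sup_right q.2))).symm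
      · refine Subgroup.centralizer_le_normalizer _ ?_
        exact fun x hx => (hcc x (Subgroup.mem_sup_left hx)).symm
    choose g hg using fun c : centralizerIn S (P' ⊔ Q) => hbij.2 ⟨c, hC c.2⟩
    have hmem : ∀ c, ((g c : M) : Ω) ∈ centralizerIn S (P ⊔ Q) := fun c => by
      refine mem_centralizerIn.2 ⟨(g c).2.1.1, fun x hx => ?_⟩
      have h1 : θ ⟨g c, Subgroup.mem_sup_left (g c).2⟩ = c := congrArg Subtype.val (hg c)
      have h2 := hθe ⟨x, hx⟩
      have h3 := (mem_centralizerIn.1 c.2).2 _ (e ⟨x, hx⟩).2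
      rw [← h1, ← h2, ← map_mul, ← map_mul] at h3
      exact congrArg Subtype.val (F.injective_of_mem hθ h3)
    refine Nat.card_le_card_of_injective (fun c => (⟨_, hmem c⟩ : centralizerIn S (P ⊔ Q))) ?_
    intro a b hab
    have h1 : g a = g b := Subtype.ext (congrArg (fun z : centralizerIn S (P ⊔ Q) => (z : Ω)) hab)
    have h2 := hg a
    rw [h1, hg b] at h2
    exact Subtype.ext (congrArg Subtype.val h2).symm
  · have heq2 : (autInducedBy M (P ⊔ Q)).map (MulAut.congr e).toMonoidHom =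
        autInducedBy M' (P' ⊔ Q) := by
      ext β
      constructor
      · rintro ⟨α, hα, rfl⟩
        obtain ⟨g, hg, h⟩ := mem_autInducedBy.1 hα
        refine mem_autInducedBy.2 ⟨_, hθM g hg, fun x => ?_⟩
        show ((e (α (e.symm x)) : ↥(P' ⊔ Q)) : Ω) = _
        conv_rhs => rw [← e.apply_symm_apply x, ← hθe, ← map_inv, ← map_mul, ← map_mul]
        rw [← hθe]
        congr 1
        exact Subtype.ext (h _)
      · intro hβ
        obtain ⟨h, hh, hhe⟩ := mem_autInducedBy.1 hβ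
        obtain ⟨g, hg⟩ := hbij.2 ⟨h, hh⟩
        have hgh : θ ⟨g, Subgroup.mem_sup_left g.2⟩ = h := congrArg Subtype.val hg
        refine ⟨conjAut (P ⊔ Q) (mK_normalizes g.2), conjAut_mem_autInducedBy _ g.2,
          MulEquiv.ext fun x => Subtype.ext ?_⟩
        rw [hhe]
        show ((e (conjAut (P ⊔ Q) (mK_normalizes g.2) (e.symm x)) : ↥(P' ⊔ Q)) : Ω) = _
        conv_rhs => rw [← hgh, ← e.apply_symm_apply x, ← hθe, ← map_inv, ← map_mul, ← map_mul]
        rw [← hθe]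
        rfl
    rw [← heq2]
    conv => arg 2; arg 2; rw [← map_congr_mem hk]
    rw [← map_qStab (hQR := le_sup_right) he heq hiff,
      Subgroup.relIndex_map_map_of_injective _ _
        (show Function.Injective (MulAut.congr e).toMonoidHom from (MulAut.congr e).injective)]
    exact hd

/-- The automorphisms of `R` fixing `P` pointwise. -/
def fixAut (R P : Subgroup Ω) : Subgroup (MulAut R) where
  carrier := {β | ∀ x : R, (x : Ω) ∈ P → β x = x}
  one_mem' := fun x _ => rfl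
  mul_mem' := by
    intro a b ha hb x hx
    rw [MulAut.mul_apply, hb x hx, ha x hx]
  inv_mem' := by
    intro a ha x hx
    conv_lhs => rw [← ha x hx]
    rw [MulAut.inv_apply_self]

/-- The system `N^K_F(Q)` of a fully `K`-normalized subgroup is saturated. -/
theorem isSaturated_kNormalizer (hS : IsPGroup p S) (hF : F.IsSaturated p) (hQS : Q ≤ S)
    (hK : IsFullyKNormalized F Q K) (E : FusionSystem (nK S Q K))
    (hE : ∀ (P : Subgroup Ω) (φ : P →* Ω), φ ∈ E.Hom P ↔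
      φ ∈ F.Hom P ∧ P ≤ nK S Q K ∧ (∀ x, φ x ∈ nK S Q K) ∧
        ∃ k ∈ K, ∃ ψ ∈ F.Hom (P ⊔ Q), (∀ x : P, ψ (Subgroup.inclusion le_sup_left x) = φ x) ∧
          ∀ q : Q, ψ (Subgroup.inclusion le_sup_right q) = (k q : Ω)) :
    E.IsSaturated p := by
  haveI := finite_of_le (nK_le (S := S) K)
  have hgood : ∀ P, E.IsFullyNormalized P → IsGoodPair F p (P ⊔ Q) P Q le_sup_right K := by
    intro P hP
    refine isGoodPair_of_max hS hF hQS hK hP.1 fun P' φ hφ hr hψ hP' => ?_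
    exact hP.2 P' ⟨φ, (hE P φ).2 ⟨hφ, hP.1, fun x => hP' (hr ▸ ⟨x, rfl⟩), hψ⟩, hr⟩
  refine isSaturated_of_receptive (hS.to_le (nK_le K)) ?_ fun P hP => ?_
  · -- the automizer of the whole
    refine ⟨le_rfl, ?_⟩
    obtain ⟨hfc, hidx⟩ := hgood (nK S Q K) (isFullyNormalized_top E)
    have hRS : (nK S Q K) ⊔ Q ≤ S := sup_le (nK_le K) hQS
    haveI := finite_of_le hRS
    set A := qStab F ((nK S Q K) ⊔ Q) (nK S Q K) Q le_sup_right K with hAdef
    let res : A →* MulAut (nK S Q K) :=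
      MonoidHom.mk' (fun β =>
        { toFun := fun x => ⟨(β : MulAut ↥((nK S Q K) ⊔ Q)) (Subgroup.inclusion le_sup_left x),
            (β.2.2.1 _).2 x.2⟩
          invFun := fun x => ⟨((β : MulAut ↥((nK S Q K) ⊔ Q)))⁻¹ (Subgroup.inclusion le_sup_left x),
            ((β⁻¹ : A).2.2.1 _).2 x.2⟩
          left_inv := fun x => Subtype.ext (by
            show (((β : MulAut ↥((nK S Q K) ⊔ Q)))⁻¹ ((β : MulAut ↥((nK S Q K) ⊔ Q)) _) : Ω) = x
            rw [MulAut.inv_apply_self]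
            rfl)
          right_inv := fun x => Subtype.ext (by
            show ((β : MulAut ↥((nK S Q K) ⊔ Q)) (((β : MulAut ↥((nK S Q K) ⊔ Q)))⁻¹ _) : Ω) = x
            rw [MulAut.apply_inv_self]
            rfl)
          map_mul' := fun x y => Subtype.ext (by simp) })
        fun a b => MulEquiv.ext fun x => Subtype.ext rfl
    have hres : res.range = E.autGroup (nK S Q K) := by
      ext α
      rw [mem_autGroup le_rfl]
      show α ∈ res.range ↔ (nK S Q K).subtype.comp α.toMonoidHom ∈ E.Hom (nK S Q K)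
      rw [hE]
      constructor
      · rintro ⟨β, rfl⟩
        obtain ⟨k, hk, hβk⟩ := β.2.2.2
        have hi := (mem_autGroup hRS).1 β.2.1
        exact ⟨restrict_mem hi le_sup_left, le_rfl, fun x => (res β x).2, k, hk, _, hi,
          fun x => rfl, hβk⟩
      · rintro ⟨-, -, -, k, hk, ψ, hψ, hψe, hψQ⟩
        have hv : ∀ x, ψ x ∈ (nK S Q K) ⊔ Q := by
          rintro ⟨x, hx⟩
          have hle : (nK S Q K) ⊔ Q ≤ (((nK S Q K) ⊔ Q).comap ψ).map ((nK S Q K) ⊔ Q).subtype := by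
            refine sup_le (fun g hg => ⟨⟨g, Subgroup.mem_sup_left hg⟩, ?_, rfl⟩)
              fun g hg => ⟨⟨g, Subgroup.mem_sup_right hg⟩, ?_, rfl⟩
            · exact Subgroup.mem_sup_left ((hψe ⟨g, hg⟩).symm ▸ (α ⟨g, hg⟩).2)
            · exact Subgroup.mem_sup_right ((hψQ ⟨g, hg⟩).symm ▸ (k ⟨g, hg⟩).2)
          obtain ⟨w, hw, hwe⟩ := hle hx
          rw [← show w = ⟨x, hx⟩ from Subtype.ext hwe]
          exact hw
        have hr : ψ.range = (nK S Q K) ⊔ Q := range_eq_of_card_le hψ hRS hv le_rfl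
        have hiff : ∀ x : ↥((nK S Q K) ⊔ Q), ((homIso hψ hr x : ↥((nK S Q K) ⊔ Q)) : Ω) ∈ (nK S Q K) ↔ (x : Ω) ∈ (nK S Q K) := by
          intro x
          rw [coe_homIso]
          constructor
          · intro hx
            have h1 := hψe (α⁻¹ ⟨_, hx⟩)
            rw [show ((nK S Q K).subtype.comp α.toMonoidHom) (α⁻¹ ⟨_, hx⟩) = ψ x from
              congrArg Subtype.val (MulAut.apply_inv_self (nK S Q K) α ⟨_, hx⟩)] at h1
            rw [← F.injective_of_mem hψ h1]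
            exact (α⁻¹ ⟨_, hx⟩).2
          · intro hx
            exact (hψe ⟨x, hx⟩).symm ▸ (α ⟨x, hx⟩).2
        refine ⟨⟨homIso hψ hr, (mem_autGroup hRS).2 (isoIn_homIso hψ hr), hiff, k, hk,
          fun q => ?_⟩, MulEquiv.ext fun x => Subtype.ext ?_⟩
        · rw [coe_homIso]
          exact hψQ q
        · show ((homIso hψ hr (Subgroup.inclusion le_sup_left x) : ↥((nK S Q K) ⊔ Q)) : Ω) = _
          rw [coe_homIso, hψe]
          rfl
    set T₀ := (autInducedBy (normalizerIn (nK S Q K) (nK S Q K)) ((nK S Q K) ⊔ Q)).subgroupOf A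
    have hmap : T₀.map res ≤ autInducedBy (nK S Q K) (nK S Q K) := by
      rintro _ ⟨β, hβ, rfl⟩
      obtain ⟨g, hg, h⟩ := mem_autInducedBy.1 hβ
      exact mem_autInducedBy.2 ⟨g, hg.1, fun x => h _⟩
    have hd : ((autInducedBy (nK S Q K) (nK S Q K)).subgroupOf (E.autGroup (nK S Q K))).index ∣ T₀.index := by
      refine dvd_trans ?_ (T₀.index_map_dvd res.rangeRestrict_surjective)
      rw [← Subgroup.relIndex, ← hres]
      refine Subgroup.index_dvd_of_le ?_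
      rintro _ ⟨β, hβ, rfl⟩
      exact hmap ⟨β, hβ, rfl⟩
    refine ⟨((isPGroup_autInducedBy (hS.to_le (nK_le K))).comap_subtype :
      IsPGroup p ((autInducedBy (nK S Q K) (nK S Q K)).subgroupOf (E.autGroup (nK S Q K)))).toSylow
      (fun h => hidx (h.trans hd)), ?_⟩
    rfl
  · -- receptivity
    refine ⟨hP.1, fun R₀ φ hφ hr => ?_⟩
    obtain ⟨hφF, hR₀, hv, k, hk, ψ, hψ, hψe, hψQ⟩ := (hE R₀ φ).1 hφ
    obtain ⟨hfc, hidx⟩ := hgood P hP
    have hPS : P ⊔ Q ≤ S := hfc.1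
    have hR₀S : R₀ ⊔ Q ≤ S := hom_le hψ
    haveI := finite_of_le hPS
    have hψr : ψ.range = P ⊔ Q := by
      rw [map_sup_subgroupOf]
      congr 1
      · rw [← hr]
        ext y
        rw [mem_map_subgroupOf]
        exact ⟨fun ⟨x, hx, hxR, h⟩ => ⟨⟨x, hxR⟩, (hψe ⟨x, hxR⟩).symm.trans h⟩,
          fun ⟨x, h⟩ => ⟨x, _, x.2, (hψe x).trans h⟩⟩
      · ext y
        rw [mem_map_subgroupOf]
        constructor
        · rintro ⟨x, hx, hxQ, rfl⟩
          exact (hψQ ⟨x, hxQ⟩).symm ▸ (k ⟨x, hxQ⟩).2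
        · intro hy
          exact ⟨_, _, (k⁻¹ ⟨y, hy⟩).2, (hψQ (k⁻¹ ⟨y, hy⟩)).trans
            (congrArg Subtype.val (MulAut.apply_inv_self Q k ⟨y, hy⟩))⟩
    set eψ := homIso hψ hψr with heψdef
    have heψ : IsoIn F eψ := isoIn_homIso hψ hψr
    have heψv : ∀ x, ((eψ x : ↥(P ⊔ Q)) : Ω) = ψ x := fun x => coe_homIso hψ hψr x
    have heψR : ∀ x : ↥(R₀ ⊔ Q), ((eψ x : ↥(P ⊔ Q)) : Ω) ∈ P ↔ (x : Ω) ∈ R₀ := by
      intro x
      rw [heψv]
      constructor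
      · intro hx
        rw [← hr] at hx
        obtain ⟨y, hy⟩ := hx
        have h1 : ψ (Subgroup.inclusion le_sup_left y) = ψ x := (hψe y).trans hy
        rw [← F.injective_of_mem hψ h1]
        exact y.2
      · intro hx
        rw [← hr]
        exact ⟨⟨x, hx⟩, (hψe ⟨x, hx⟩).symm⟩
    have heψQ : ∀ q : Q, ((eψ (Subgroup.inclusion le_sup_right q) : ↥(P ⊔ Q)) : Ω) = (k q : Ω) :=
      fun q => (heψv _).trans (hψQ q)
    set N₀ := extender (nK S Q K) R₀ φ with hN₀def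
    have hN₀M : N₀ ≤ normalizerIn (nK S Q K) R₀ := extender_le φ
    set A := qStab F (P ⊔ Q) P Q le_sup_right K with hAdef
    set T := (autInducedBy (normalizerIn (nK S Q K) P) (P ⊔ Q)).subgroupOf A with hTdef
    set C := (fixAut (P ⊔ Q) P).subgroupOf A with hCdef
    haveI hCn : C.Normal := by
      refine ⟨fun n hn g x hx => ?_⟩
      show (g : MulAut ↥(P ⊔ Q)) ((n : MulAut ↥(P ⊔ Q)) (((g : MulAut ↥(P ⊔ Q)))⁻¹ x)) = x
      rw [show (n : MulAut ↥(P ⊔ Q)) (((g : MulAut ↥(P ⊔ Q)))⁻¹ x) = ((g : MulAut ↥(P ⊔ Q)))⁻¹ x from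
        hn _ (((g⁻¹ : A).2.2.1 x).2 hx), MulAut.apply_inv_self]
    have hbmem : ∀ g (hg : g ∈ N₀),
        MulAut.congr eψ (conjAut (R₀ ⊔ Q) (mK_normalizes (hN₀M hg))) ∈ A := fun g hg => by
      have h1 := congr_mem_qStab (eQ := k) (hQR' := (le_sup_right : Q ≤ P ⊔ Q)) heψ heψQ heψR
        (autInducedBy_le_qStab (F := F) le_sup_right hR₀S
          (conjAut_mem_autInducedBy (mK_normalizes (hN₀M hg)) (hN₀M hg)))
      rwa [map_congr_mem hk] at h1
    set B : Subgroup A := (((autInducedBy N₀ (R₀ ⊔ Q)).map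
      (MulAut.congr eψ).toMonoidHom)).subgroupOf A with hBdef
    have hBp : IsPGroup p B :=
      ((isPGroup_autInducedBy (hS.to_le ((hN₀M.trans (normalizerIn_le R₀)).trans
        (nK_le K)))).map _).comap_subtype
    have hBle : B ≤ T ⊔ C := by
      rintro ⟨b, hbA⟩ ⟨α, hα, hαb⟩
      obtain ⟨g, hg, hga⟩ := mem_autInducedBy.1 hα
      obtain ⟨-, hgn, h, hh, hhe⟩ := mem_extender.1 hg
      have hhP : h ∈ Subgroup.normalizer (P : Set Ω) := by
        rw [← hr, Subgroup.mem_normalizer_iff]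
        intro n
        constructor
        · rintro ⟨x, rfl⟩
          exact ⟨⟨_, (Subgroup.mem_normalizer_iff.1 hgn _).1 x.2⟩,
            hhe x _⟩
        · rintro ⟨x, hx⟩
          have hx' : g⁻¹ * (x : Ω) * g ∈ R₀ := (Subgroup.mem_normalizer_iff''.1 hgn _).1 x.2
          have h2 := hhe ⟨_, hx'⟩ (by simpa [mul_assoc] using x.2)
          refine ⟨⟨_, hx'⟩, ?_⟩
          have h3 : h * φ ⟨_, hx'⟩ * h⁻¹ = h * n * h⁻¹ := by
            rw [← h2, ← hx]
            congr 1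
            exact Subtype.ext (by simp [mul_assoc])
          exact mul_left_cancel (mul_right_cancel h3)
      have hhM : h ∈ normalizerIn (nK S Q K) P := ⟨hh, hhP⟩
      set t : A := ⟨conjAut (P ⊔ Q) (mK_normalizes hhM),
        autInducedBy_le_qStab le_sup_right hPS (conjAut_mem_autInducedBy _ hhM)⟩ with htdef
      have ht : t ∈ T := conjAut_mem_autInducedBy _ hhM
      have hc : t⁻¹ * ⟨b, hbA⟩ ∈ C := by
        intro x hx
        show ((t : MulAut ↥(P ⊔ Q)))⁻¹ (b x) = x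
        have h1 : b x = (t : MulAut ↥(P ⊔ Q)) x := by
          refine Subtype.ext ?_
          have hz : ((eψ.symm x : ↥(R₀ ⊔ Q)) : Ω) ∈ R₀ := by
            rw [← heψR, MulEquiv.apply_symm_apply]
            exact hx
          have hgz : g * ((eψ.symm x : ↥(R₀ ⊔ Q)) : Ω) * g⁻¹ ∈ R₀ :=
            (Subgroup.mem_normalizer_iff.1 hgn _).1 hz
          rw [show b = MulAut.congr eψ α from hαb.symm]
          show ((eψ (α (eψ.symm x)) : ↥(P ⊔ Q)) : Ω) = _
          rw [heψv, show α (eψ.symm x) = Subgroup.inclusion le_sup_left ⟨_, hgz⟩ from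
            Subtype.ext (hga _), hψe, hhe ⟨_, hz⟩ hgz, htdef, coe_conjAut]
          congr 2
          have h2 := heψv (eψ.symm x)
          rw [MulEquiv.apply_symm_apply] at h2
          rw [h2, ← hψe]
          rfl
        rw [h1, MulAut.inv_apply_self]
      rw [← mul_inv_cancel_left t ⟨b, hbA⟩]
      exact Subgroup.mul_mem_sup ht hc
    have hTp : IsPGroup p T :=
      (isPGroup_autInducedBy (hS.to_le ((normalizerIn_le P).trans (nK_le K)))).comap_subtype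
    have hidx2 : ¬ p ∣ (T.subgroupOf (T ⊔ C)).index := fun h => hidx (h.trans (by
      show T.relIndex (T ⊔ C) ∣ T.index
      exact Subgroup.relIndex_dvd_index_of_le le_sup_left))
    obtain ⟨Z, hZ⟩ := (show IsPGroup p (B.subgroupOf (T ⊔ C)) from
      hBp.comap_subtype).exists_le_sylow
    obtain ⟨γ, hγ⟩ := MulAction.exists_smul_eq ↥(T ⊔ C) Z
      ((show IsPGroup p (T.subgroupOf (T ⊔ C)) from hTp.comap_subtype).toSylow hidx2)
    obtain ⟨t, ht, c, hc, htc⟩ := Subgroup.mem_sup_of_normal_right.1 γ.2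
    have hconj : ∀ b ∈ B, c * b * c⁻¹ ∈ T := by
      intro b hb
      have h1 : (⟨b, hBle hb⟩ : ↥(T ⊔ C)) ∈ (Z : Subgroup ↥(T ⊔ C)) := hZ hb
      have h2 : γ * ⟨b, hBle hb⟩ * γ⁻¹ ∈ T.subgroupOf (T ⊔ C) := by
        have h3 := Subgroup.smul_mem_pointwise_smul _ (MulAut.conj γ) _ h1
        rw [← Sylow.coe_subgroup_smul, hγ] at h3
        exact h3
      rw [Subgroup.mem_subgroupOf] at h2
      simp only [Subgroup.coe_mul, InvMemClass.coe_inv] at h2
      rw [← htc] at h2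
      have h4 := T.mul_mem (T.mul_mem (T.inv_mem ht) h2) ht
      simpa [mul_assoc] using h4
    set e' : ↥(R₀ ⊔ Q) ≃* ↥(P ⊔ Q) := eψ.trans (c : MulAut ↥(P ⊔ Q)) with he'def
    have he' : IsoIn F e' := heψ.trans ((mem_autGroup hPS).1 c.2.1)
    have hφr : ((P ⊔ Q).subtype.comp e'.toMonoidHom).range = P ⊔ Q := by
      ext y
      exact ⟨by rintro ⟨x, rfl⟩; exact (e' x).2, fun hy => ⟨e'.symm ⟨y, hy⟩, by simp⟩⟩
    obtain ⟨χ, hχ, hχe⟩ := (isReceptive_of_fc hS hF hfc).2 (R₀ ⊔ Q) _ he' hφr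
    have hN₀ext : N₀ ≤ extender S (R₀ ⊔ Q) ((P ⊔ Q).subtype.comp e'.toMonoidHom) := by
      intro g hg
      have hgn := mK_normalizes (hN₀M hg)
      set b : A := ⟨_, hbmem g hg⟩
      have hb : b ∈ B := ⟨_, conjAut_mem_autInducedBy hgn hg, rfl⟩
      obtain ⟨h, hh, hhe⟩ := mem_autInducedBy.1 (hconj b hb)
      refine mem_extender_of (nK_le K (hN₀M hg).1) hgn (nK_le K hh.1) fun x hx => ?_
      have h2 := hhe (e' x)
      have h5 : (conjAut (R₀ ⊔ Q) hgn x : ↥(R₀ ⊔ Q)) = ⟨_, hx⟩ := rfl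
      rw [← h5]
      refine Eq.trans ?_ h2
      simp [he'def, b, MulAut.congr, MulAut.mul_apply]
    have hle : N₀ ⊔ (R₀ ⊔ Q) ≤ extender S (R₀ ⊔ Q) ((P ⊔ Q).subtype.comp e'.toMonoidHom) :=
      sup_le hN₀ext (le_extender hR₀S fun x => hom_mem he' x)
    set θ := χ.comp (Subgroup.inclusion hle) with hθdef
    have hθ : θ ∈ F.Hom _ := restrict_mem hχ hle
    have hθe : ∀ x : ↥(R₀ ⊔ Q), θ (Subgroup.inclusion le_sup_right x) = (e' x : Ω) :=
      fun x => hχe x x.2 _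
    obtain ⟨hcP, kc, hkc, hckc⟩ := c.2.2
    have he'Q : ∀ q : Q, ((e' (Subgroup.inclusion le_sup_right q) : ↥(P ⊔ Q)) : Ω) =
        ((kc * k) q : Ω) := by
      intro q
      have h1 : eψ (Subgroup.inclusion le_sup_right q) = Subgroup.inclusion le_sup_right (k q) :=
        Subtype.ext (heψQ q)
      rw [he'def, MulEquiv.trans_apply, h1, hckc]
      rfl
    have he'P : ∀ x, ((e' x : ↥(P ⊔ Q)) : Ω) ∈ P ↔ (x : Ω) ∈ R₀ := fun x =>
      (hcP _).trans (heψR x)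
    have hNle : N₀ ⊔ Q ≤ N₀ ⊔ (R₀ ⊔ Q) := sup_le_sup_left le_sup_right _
    have hvN : ∀ g : N₀, θ (Subgroup.inclusion le_sup_left g) ∈ nK S Q K := fun g => by
      have h1 := apply_mem_mK (eQ := kc * k) (hQR' := le_sup_right) hθ le_sup_right le_sup_right
        le_sup_left le_sup_left he'Q he'P hθe (g := (g : Ω)) (Subgroup.mem_sup_left g.2)
        (mK_normalizes (hN₀M g.2)) (hN₀M g.2)
      rw [map_congr_mem (K.mul_mem hkc hk)] at h1
      exact h1.1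
    refine ⟨θ.comp (Subgroup.inclusion le_sup_left), (hE _ _).2
      ⟨restrict_mem hθ le_sup_left, hN₀M.trans (normalizerIn_le R₀), hvN, kc * k,
        K.mul_mem hkc hk, θ.comp (Subgroup.inclusion hNle), restrict_mem hθ hNle, fun x => rfl,
        fun q => (hθe (Subgroup.inclusion le_sup_right q)).trans (he'Q q)⟩, fun x hxR hxN => ?_⟩
    have h1 : eψ ⟨x, Subgroup.mem_sup_left hxR⟩ =
        ⟨φ ⟨x, hxR⟩, Subgroup.mem_sup_left (hr ▸ ⟨_, rfl⟩)⟩ :=
      Subtype.ext ((heψv _).trans (hψe ⟨x, hxR⟩))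
    refine (hθe ⟨x, Subgroup.mem_sup_left hxR⟩).trans ?_
    rw [he'def, MulEquiv.trans_apply, h1]
    have h6 : φ ⟨x, hxR⟩ ∈ P := (congrArg (φ ⟨x, hxR⟩ ∈ ·) hr).mp ⟨_, rfl⟩
    exact congrArg Subtype.val (hc ⟨φ ⟨x, hxR⟩, Subgroup.mem_sup_left h6⟩ h6)

theorem isSaturated_copy {T T' : Subgroup Ω} (h : T = T') {E : FusionSystem T}
    {E' : FusionSystem T'} (hh : ∀ P, E.Hom P = E'.Hom P) (hsat : E'.IsSaturated p) :
    E.IsSaturated p := by
  subst h
  rw [fusionSystem_ext hh]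
  exact hsat

/-- Normalizer systems of fully normalized subgroups are saturated. -/
theorem isSaturated_normalizerSystem (hS : IsPGroup p S) (hF : F.IsSaturated p)
    (hQ : F.IsFullyNormalized Q) {E : FusionSystem (normalizerIn S Q)}
    (hE : F.IsNormalizerSystem Q E) : E.IsSaturated p := by
  obtain ⟨E', hE'⟩ := exists_copy (nK_top S Q).symm E
  refine isSaturated_copy (nK_top S Q).symm (fun P => (hE' P).symm)
    (isSaturated_kNormalizer hS hF hQ.1 (isFullyKNormalized_top hS hF hQ) E' fun P φ => ?_)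
  rw [hE', hE P]
  simp only [FusionSystem.normalizerHom, Set.mem_setOf_eq, nK_top]
  refine and_congr Iff.rfl (and_congr Iff.rfl (and_congr Iff.rfl ?_))
  constructor
  · rintro ⟨ψ, hψ, hψe, hψQ⟩
    have hr : (ψ.comp (Subgroup.inclusion (le_sup_right : Q ≤ P ⊔ Q))).range = Q := by
      conv_rhs => rw [← hψQ]
      ext y
      rw [mem_map_subgroupOf]
      exact ⟨fun ⟨x, hx⟩ => ⟨x, _, x.2, hx⟩, fun ⟨x, hx, hxQ, h⟩ => ⟨⟨x, hxQ⟩, h⟩⟩
    exact ⟨homIso (restrict_mem hψ le_sup_right) hr, trivial, ψ, hψ, hψe,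
      fun q => (coe_homIso (restrict_mem hψ le_sup_right) hr q).symm⟩
  · rintro ⟨k, -, ψ, hψ, hψe, hψQ⟩
    refine ⟨ψ, hψ, hψe, ?_⟩
    ext y
    rw [mem_map_subgroupOf]
    constructor
    · rintro ⟨x, hx, hxQ, rfl⟩
      exact (hψQ ⟨x, hxQ⟩).symm ▸ (k ⟨x, hxQ⟩).2
    · intro hy
      exact ⟨_, _, (k⁻¹ ⟨y, hy⟩).2, (hψQ (k⁻¹ ⟨y, hy⟩)).trans
        (congrArg Subtype.val (MulAut.apply_inv_self Q k ⟨y, hy⟩))⟩

/-- Centralizer systems of fully centralized subgroups are saturated. -/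
theorem isSaturated_centralizerSystem (hS : IsPGroup p S) (hF : F.IsSaturated p)
    (hQ : F.IsFullyCentralized Q) {E : FusionSystem (centralizerIn S Q)}
    (hE : F.IsCentralizerSystem Q E) : E.IsSaturated p := by
  obtain ⟨E', hE'⟩ := exists_copy (nK_bot S Q).symm E
  refine isSaturated_copy (nK_bot S Q).symm (fun P => (hE' P).symm)
    (isSaturated_kNormalizer hS hF hQ.1 (isFullyKNormalized_bot hS hF hQ) E' fun P φ => ?_)
  rw [hE', hE P]
  simp only [FusionSystem.centralizerHom, Set.mem_setOf_eq, nK_bot]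
  refine and_congr Iff.rfl (and_congr Iff.rfl (and_congr Iff.rfl ?_))
  constructor
  · rintro ⟨ψ, hψ, hψe, hψQ⟩
    exact ⟨1, Subgroup.one_mem _, ψ, hψ, hψe, fun q => hψQ q⟩
  · rintro ⟨k, hk, ψ, hψ, hψe, hψQ⟩
    rw [Subgroup.mem_bot] at hk
    subst hk
    exact ⟨ψ, hψ, hψe, fun q => hψQ q⟩

end Cfsg.Lib.FusionSys
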