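import Cfsg.Agent.Lib.FusionSys.Model
import Cfsg.Agent.Lib.FusionSys.KNormalizer
import Cfsg.Agent.Lib.Coprime.PGroupAction
import Cfsg.Prelude.Def_FusionReduction

/-!
Models of normalizer systems, and embeddings between them.
-/

set_option autoImplicit false

universe u v w

namespace Cfsg.Lib.FusionSys

open Cfsg Cfsg.FusionSystem
open scoped commutatorElement

/-! ### Involvement -/

section Involves

variable {H : Type u} [Group H] {L : Type v} [Group L]

theorem involves_iff_exists_hom :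
    Involves H L ↔ ∃ (K : Subgroup L) (f : K →* H), Function.Surjective f := by
  constructor
  · rintro ⟨K, R, hn, ⟨e⟩⟩
    haveI := hn
    exact ⟨K, e.toMonoidHom.comp (QuotientGroup.mk' _),
      e.surjective.comp (QuotientGroup.mk'_surjective _)⟩
  · rintro ⟨K, f, hf⟩
    have h : (f.ker.map K.subtype).subgroupOf K = f.ker :=
      Subgroup.comap_map_eq_self_of_injective K.subtype_injective _
    haveI : ((f.ker.map K.subtype).subgroupOf K).Normal := by rw [h]; infer_instance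
    exact ⟨K, f.ker.map K.subtype, inferInstance,
      ⟨(QuotientGroup.quotientMulEquivOfEq h).trans
        (QuotientGroup.quotientKerEquivOfSurjective f hf)⟩⟩

theorem involves_of_injective {M : Type w} [Group M] {f : L →* M} (hf : Function.Injective f)
    (h : Involves H L) : Involves H M := by
  obtain ⟨K, g, hg⟩ := involves_iff_exists_hom.1 h
  exact involves_iff_exists_hom.2
    ⟨K.map f, g.comp (K.equivMapOfInjective f hf).symm.toMonoidHom,
      hg.comp (K.equivMapOfInjective f hf).symm.surjective⟩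

theorem involves_of_surjective {M : Type w} [Group M] {f : L →* M} (hf : Function.Surjective f)
    (h : Involves H M) : Involves H L := by
  obtain ⟨K, g, hg⟩ := involves_iff_exists_hom.1 h
  refine involves_iff_exists_hom.2 ⟨K.comap f, g.comp (f.subgroupComap K), hg.comp fun y => ?_⟩
  obtain ⟨x, hx⟩ := hf y
  exact ⟨⟨x, by rw [Subgroup.mem_comap, hx]; exact y.2⟩, Subtype.ext hx⟩

end Involves

variable {Ω : Type u} [Group Ω] {S : Subgroup Ω} {F : FusionSystem S} {p : ℕ} {Q U R₀ : Subgroup Ω}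

theorem mem_normalizerSystem {N : FusionSystem (normalizerIn S Q)} (hN : F.IsNormalizerSystem Q N)
    {P : Subgroup Ω} {φ : P →* Ω} :
    φ ∈ N.Hom P ↔ φ ∈ F.Hom P ∧ P ≤ normalizerIn S Q ∧ (∀ x : P, φ x ∈ normalizerIn S Q) ∧
      ∃ ψ ∈ F.Hom (P ⊔ Q), (∀ x : P, ψ (Subgroup.inclusion le_sup_left x) = φ x) ∧
        (Q.subgroupOf (P ⊔ Q)).map ψ = Q := by
  rw [hN P]; rfl

/-- A map defined above `Q` carrying it to itself is a map of the normalizer system. -/
theorem mem_normalizerSystem_of_le {N : FusionSystem (normalizerIn S Q)}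
    (hN : F.IsNormalizerSystem Q N) {P : Subgroup Ω} {φ : P →* Ω} (hφ : φ ∈ F.Hom P) (hQP : Q ≤ P)
    (hP : P ≤ normalizerIn S Q) (hmap : (Q.subgroupOf P).map φ = Q) : φ ∈ N.Hom P := by
  have hle : P ⊔ Q ≤ P := sup_le le_rfl hQP
  refine (mem_normalizerSystem hN).2 ⟨hφ, hP, fun x => ⟨hom_mem hφ x, ?_⟩, _,
    restrict_mem hφ hle, fun x => rfl, ?_⟩
  · show φ x ∈ Subgroup.normalizer (Q : Set Ω)
    rw [← hmap]
    exact map_mem_normalizer φ x (hP x.2).2
  · ext y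
    rw [mem_map_subgroupOf]
    constructor
    · rintro ⟨x, hx, hxQ, rfl⟩
      exact hmap.le (mem_map_subgroupOf.2 ⟨x, hle hx, hxQ, rfl⟩)
    · intro hy
      obtain ⟨x, hx, hxQ, rfl⟩ := mem_map_subgroupOf.1 (hmap.ge hy)
      exact ⟨x, Subgroup.mem_sup_left hx, hxQ, rfl⟩

theorem subset_of_normalizerSystem {N : FusionSystem (normalizerIn S Q)}
    (hN : F.IsNormalizerSystem Q N) {P : Subgroup Ω} {φ : P →* Ω} (hφ : φ ∈ N.Hom P) :
    φ ∈ F.Hom P := ((mem_normalizerSystem hN).1 hφ).1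

theorem isNormal_normalizerSystem (hQS : Q ≤ S) {N : FusionSystem (normalizerIn S Q)}
    (hN : F.IsNormalizerSystem Q N) : N.IsNormal Q := by
  refine ⟨le_normalizerIn hQS, fun P φ hφ => ?_⟩
  obtain ⟨hφF, hP, hv, ψ, hψ, hψe, hψQ⟩ := (mem_normalizerSystem hN).1 hφ
  exact ⟨ψ, mem_normalizerSystem_of_le hN hψ le_sup_right (sup_le hP (le_normalizerIn hQS)) hψQ,
    hψe, hψQ⟩

theorem isConj_of_isConj_normalizerSystem {N : FusionSystem (normalizerIn S Q)}
    (hN : F.IsNormalizerSystem Q N) {U' : Subgroup Ω} (h : N.IsConj U U') : F.IsConj U U' := by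
  obtain ⟨φ, hφ, he⟩ := h
  exact ⟨φ, subset_of_normalizerSystem hN hφ, he⟩

theorem isCentric_normalizerSystem [Finite S] (hQ : F.IsCentric Q)
    {N : FusionSystem (normalizerIn S Q)} (hN : F.IsNormalizerSystem Q N) : N.IsCentric Q := by
  refine ⟨le_normalizerIn hQ.1, fun Q' hQ' c hc => ?_⟩
  exact hQ.2 Q' (isConj_of_isConj_normalizerSystem hN hQ')
    ⟨(normalizerIn_le Q) hc.1, hc.2⟩

theorem isConstrained_normalizerSystem [Finite S] [Fact p.Prime] (hS : IsPGroup p S)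
    (hF : F.IsSaturated p) (hn : F.IsFullyNormalized Q) (hc : F.IsCentric Q)
    {N : FusionSystem (normalizerIn S Q)} (hN : F.IsNormalizerSystem Q N) : N.IsConstrained p :=
  ⟨isSaturated_normalizerSystem hS hF hn hN, Q, isNormal_normalizerSystem hn.1 hN,
    isCentric_normalizerSystem hc hN⟩

theorem exists_normalizer_model [Finite S] [Fact p.Prime] (hS : IsPGroup p S)
    (hF : F.IsSaturated p) (hn : F.IsFullyNormalized Q) (hc : F.IsCentric Q) :
    ∃ (N : FusionSystem (normalizerIn S Q)) (_ : F.IsNormalizerSystem Q N) (L : Type u)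
      (_ : Group L) (ι : normalizerIn S Q →* L), N.IsModel p L ι := by
  obtain ⟨N, hN⟩ := exists_normalizerSystem F hn.1
  haveI := finite_of_le (normalizerIn_le (S := S) Q)
  obtain ⟨L, hL, ι, hM⟩ := exists_model (hS.to_le (normalizerIn_le Q))
    (isConstrained_normalizerSystem hS hF hn hc hN)
  exact ⟨N, hN, L, hL, ι, hM⟩

theorem exists_map_to_fn [Finite S] [Fact p.Prime] (hS : IsPGroup p S) (hF : F.IsSaturated p)
    {R : Subgroup Ω} (hR : F.IsFullyNormalized R) (h : F.IsConj R₀ R) :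
    ∃ χ ∈ F.Hom (normalizerIn S R₀), (∀ x, χ x ∈ normalizerIn S R) ∧
      (R₀.subgroupOf (normalizerIn S R₀)).map χ = R := by
  obtain ⟨hfc, hfa⟩ := isFullyAutomized_and_fc_of_fn hS hF hR
  exact exists_normalizer_map hS hfa (isReceptive_of_fc hS hF hfc) h

theorem normalizer_inf_le {A B : Subgroup Ω} :
    Subgroup.normalizer (A : Set Ω) ⊓ Subgroup.normalizer (B : Set Ω) ≤
      Subgroup.normalizer ((A ⊔ B : Subgroup Ω) : Set Ω) := by
  intro g hg
  rw [Subgroup.mem_normalizer_iff_map_conj_eq, Subgroup.map_sup,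
    Subgroup.mem_normalizer_iff_map_conj_eq.1 hg.1, Subgroup.mem_normalizer_iff_map_conj_eq.1 hg.2]

/-- The product of a centric subgroup of a normalizer system with `Q` is centric. -/
theorem isCentric_sup [Finite S] [Fact p.Prime] (hS : IsPGroup p S) (hF : F.IsSaturated p)
    (hQ : F.IsFullyNormalized Q) {N : FusionSystem (normalizerIn S Q)}
    (hN : F.IsNormalizerSystem Q N) (hU : N.IsCentric U) : F.IsCentric (U ⊔ Q) := by
  have hUS : U ≤ S := hU.1.trans (normalizerIn_le Q)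
  have hle : U ⊔ Q ≤ normalizerIn S Q := sup_le hU.1 (le_normalizerIn hQ.1)
  refine ⟨sup_le hUS hQ.1, ?_⟩
  rintro R ⟨ψ, hψ, rfl⟩
  intro c hc
  obtain ⟨hcS, hcc⟩ := mem_centralizerIn.1 hc
  let ψQ : Q →* Ω := ψ.comp (Subgroup.inclusion le_sup_right)
  have hψQ : ψQ ∈ F.Hom Q := restrict_mem hψ le_sup_right
  have hconj : F.IsConj ψQ.range Q := isConj_symm ⟨ψQ, hψQ, rfl⟩
  obtain ⟨χ, hχ, hχv, hχQ⟩ := exists_map_to_fn hS hF hQ hconj
  have hQ1 : ψQ.range ≤ ψ.range := by rintro _ ⟨x, rfl⟩; exact ⟨_, rfl⟩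
  have hmapψ : (Q.subgroupOf (U ⊔ Q)).map ψ = ψQ.range := by
    ext y
    rw [mem_map_subgroupOf]
    constructor
    · rintro ⟨x, hx, hxQ, rfl⟩; exact ⟨⟨x, hxQ⟩, rfl⟩
    · rintro ⟨x, rfl⟩; exact ⟨x, Subgroup.mem_sup_right x.2, x.2, rfl⟩
  have hψv : ∀ x : (U ⊔ Q : Subgroup Ω), ψ x ∈ normalizerIn S ψQ.range := fun x => by
    refine ⟨hom_mem hψ x, ?_⟩
    show ψ x ∈ Subgroup.normalizer (ψQ.range : Set Ω)
    rw [← hmapψ]
    exact map_mem_normalizer ψ x (hle x.2).2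
  have hcN : c ∈ normalizerIn S ψQ.range := centralizerIn_le_normalizerIn _
    (mem_centralizerIn.2 ⟨hcS, fun y hy => hcc y (hQ1 hy)⟩)
  have hcomp := F.comp_mem hψ hχ hψv
  set θ := χ.comp (ψ.codRestrict (normalizerIn S ψQ.range) hψv) with hθ
  have hθN : θ ∈ N.Hom (U ⊔ Q) := by
    refine mem_normalizerSystem_of_le hN hcomp le_sup_right hle ?_
    conv_rhs => rw [← hχQ]
    ext y
    rw [mem_map_subgroupOf, mem_map_subgroupOf]
    constructor
    · rintro ⟨x, hx, hxQ, rfl⟩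
      exact ⟨_, hψv ⟨x, hx⟩, ⟨⟨x, hxQ⟩, rfl⟩, rfl⟩
    · rintro ⟨_, hy, ⟨x, rfl⟩, rfl⟩
      exact ⟨x, Subgroup.mem_sup_right x.2, x.2, rfl⟩
  have hθU := restrict_mem hθN (le_sup_left : U ≤ U ⊔ Q)
  have hd : χ ⟨c, hcN⟩ ∈ (θ.comp (Subgroup.inclusion (le_sup_left : U ≤ U ⊔ Q))).range := by
    refine hU.2 _ ⟨_, hθU, rfl⟩ (mem_centralizerIn.2 ⟨hχv _, ?_⟩)
    rintro _ ⟨x, rfl⟩
    show χ ⟨c, hcN⟩ * χ ⟨_, hψv _⟩ = χ ⟨_, hψv _⟩ * χ ⟨c, hcN⟩
    rw [← map_mul, ← map_mul]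
    exact congrArg χ (Subtype.ext (hcc _ ⟨_, rfl⟩))
  obtain ⟨x, hx⟩ := hd
  have h1 : (⟨_, hψv (Subgroup.inclusion le_sup_left x)⟩ : normalizerIn S ψQ.range) = ⟨c, hcN⟩ :=
    F.injective_of_mem hχ hx
  exact ⟨_, congrArg Subtype.val h1⟩

/-- A model of the normalizer system of a normalizer system embeds in a model of a normalizer system of `F`. -/
theorem exists_model_embedding [Finite S] [Fact p.Prime] (hS : IsPGroup p S)
    (hF : F.IsSaturated p) (hQ : F.IsFullyNormalized Q) {N : FusionSystem (normalizerIn S Q)}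
    (hN : F.IsNormalizerSystem Q N) (hUn : N.IsFullyNormalized U) (hUc : N.IsCentric U)
    {M : FusionSystem (normalizerIn (normalizerIn S Q) U)} (hM : N.IsNormalizerSystem U M)
    {L : Type v} [Group L] {ι : normalizerIn (normalizerIn S Q) U →* L} (hL : M.IsModel p L ι) :
    ∃ R : Subgroup Ω, F.IsFullyNormalized R ∧ F.IsCentric R ∧
      Nat.card ↥(U ⊔ Q) = Nat.card R ∧
      ∀ N' : FusionSystem (normalizerIn S R), F.IsNormalizerSystem R N' →
        ∀ (L' : Type w) [Group L'] (ι' : normalizerIn S R →* L'), N'.IsModel p L' ι' →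
          ∃ f : L →* L', Function.Injective f := by
  have hUS : U ≤ S := hUc.1.trans (normalizerIn_le Q)
  have hc₀ := isCentric_sup hS hF hQ hN hUc
  obtain ⟨R, hR, hRn⟩ := exists_isFullyNormalized F hc₀.1
  have hRc : F.IsCentric R := ⟨hRn.1, fun R' hR' => hc₀.2 R' (isConj_trans hR hR')⟩
  refine ⟨R, hRn, hRc, card_eq_of_isConj hR, fun N' hN' L' _ ι' hL' => ?_⟩
  haveI := hL'.1
  set K₀ := normalizerIn S (U ⊔ Q) with hK₀
  obtain ⟨χ, hχ, hχv, hχR⟩ := exists_map_to_fn hS hF hRn hR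
  have hinj' := hL'.2.1.1
  let j : K₀ →* L' := ι'.comp (χ.codRestrict _ hχv)
  have hj : Function.Injective j :=
    hinj'.comp fun a b hab => F.injective_of_mem hχ (congrArg Subtype.val hab)
  have hUK : U ⊔ Q ≤ K₀ := le_normalizerIn hc₀.1
  have hQK : Q ≤ K₀ := le_trans le_sup_right hUK
  have hUK' : U ≤ K₀ := le_trans le_sup_left hUK
  let N₂ := normalizerIn (normalizerIn S Q) U
  have hN₂K : N₂ ≤ K₀ := fun g hg => ⟨hg.1.1, normalizer_inf_le ⟨hg.2, hg.1.2⟩⟩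
  have hRimg : ∀ x : K₀, (x : Ω) ∈ U ⊔ Q → χ x ∈ R := fun x hx =>
    hχR.le (mem_map_subgroupOf.2 ⟨x, x.2, hx, rfl⟩)
  have hRnorm := imageOf_normal hL' (isNormal_normalizerSystem hRn.1 hN')
  have hRcen := centralizer_imageOf_le hL' (isNormal_normalizerSystem hRn.1 hN')
    ((isCentric_normalizerSystem hRc hN').2 R (isConj_refl N' (le_normalizerIn hRn.1)))
  have hRjimg : imageOf ι' R = imageOf j (U ⊔ Q) := by
    ext y
    rw [mem_imageOf, mem_imageOf]
    constructor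
    · rintro ⟨r, hr, rfl⟩
      obtain ⟨x, hx, hxU, hxe⟩ := mem_map_subgroupOf.1 (hχR.ge hr)
      exact ⟨⟨x, hx⟩, hxU, congrArg ι' (Subtype.ext hxe)⟩
    · rintro ⟨x, hx, rfl⟩
      exact ⟨_, hRimg x hx, rfl⟩
  rw [hRjimg] at hRnorm hRcen
  -- maps of the system through `j`
  have hback : ∀ (W : Subgroup Ω) (hW : W ≤ K₀) (g : L'),
      (∀ x : W, g * j ⟨x, hW x.2⟩ * g⁻¹ ∈ j.range) →
      ∃ (ψ : W →* Ω) (_ : ψ ∈ F.Hom W) (hv : ∀ x, ψ x ∈ K₀),
        ∀ x : W, j ⟨ψ x, hv x⟩ = g * j ⟨x, hW x.2⟩ * g⁻¹ := by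
    intro W hW g hg
    obtain ⟨κ, hκ, hκe⟩ := F.inv_mem hχ
    let χW : W →* Ω := χ.comp (Subgroup.inclusion hW)
    have hχW : χW ∈ F.Hom W := restrict_mem hχ hW
    have hle : χW.range ≤ normalizerIn S R := by rintro _ ⟨x, rfl⟩; exact hχv _
    obtain ⟨ψ', hψ', hψ'e⟩ := exists_hom_of_realized hL'.2.1 hle g fun y => by
      obtain ⟨_, x, rfl⟩ := y
      obtain ⟨z, hz⟩ := hg x
      exact ⟨_, hz⟩
    have hv' : ∀ y, ψ' y ∈ χ.range := by
      rintro ⟨_, x, rfl⟩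
      obtain ⟨z, hz⟩ := hg x
      refine ⟨z, ?_⟩
      have h4 : ι' (χ.codRestrict _ hχv z) = ι' ⟨ψ' ⟨χW x, x, rfl⟩, hom_mem hψ' _⟩ :=
        hz.trans (hψ'e ⟨χW x, x, rfl⟩).symm
      exact congrArg Subtype.val (hinj' h4)
    have h2 := F.comp_mem hχW (subset_of_normalizerSystem hN' hψ') fun x => ⟨x, rfl⟩
    have h3 := F.comp_mem h2 hκ fun x => hv' _
    refine ⟨_, h3, fun x => ?_, fun x => ?_⟩
    · obtain ⟨z, hz⟩ := hv' ⟨χW x, x, rfl⟩
      have h4 : κ ⟨_, hv' ⟨χW x, x, rfl⟩⟩ = z := by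
        refine Eq.trans ?_ (hκe z)
        exact congrArg κ (Subtype.ext hz.symm)
      show κ _ ∈ K₀
      exact h4.symm ▸ z.2
    · obtain ⟨z, hz⟩ := hv' ⟨χW x, x, rfl⟩
      have h4 : κ ⟨_, hv' ⟨χW x, x, rfl⟩⟩ = z := by
        refine Eq.trans ?_ (hκe z)
        exact congrArg κ (Subtype.ext hz.symm)
      refine Eq.trans (congrArg j (Subtype.ext h4)) ?_
      refine Eq.trans ?_ (hψ'e ⟨χW x, x, rfl⟩)
      exact congrArg ι' (Subtype.ext hz)
  have hforw : ∀ (W : Subgroup Ω) (hW : W ≤ K₀), U ⊔ Q ≤ W → ∀ (ψ : W →* Ω), ψ ∈ F.Hom W →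
      ∀ hv : ∀ x, ψ x ∈ K₀, ((U ⊔ Q).subgroupOf W).map ψ = U ⊔ Q →
        ∃ g : L', ∀ x : W, j ⟨ψ x, hv x⟩ = g * j ⟨x, hW x.2⟩ * g⁻¹ := by
    intro W hW hRW ψ hψ hv hψR
    let χW : W →* Ω := χ.comp (Subgroup.inclusion hW)
    have hχW : χW ∈ F.Hom W := restrict_mem hχ hW
    obtain ⟨κ, hκ, hκe⟩ := F.inv_mem hχW
    have hκv : ∀ y, κ y ∈ W := by
      rintro ⟨_, x, rfl⟩
      rw [hκe x]
      exact x.2
    have h1 := F.comp_mem hκ hψ hκv
    have h2 := F.comp_mem h1 hχ fun y => hv _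
    have hle : χW.range ≤ normalizerIn S R := by rintro _ ⟨x, rfl⟩; exact hχv _
    have hRle : R ≤ χW.range := by
      intro r hr
      obtain ⟨x, hx, hxU, hxe⟩ := mem_map_subgroupOf.1 (hχR.ge hr)
      exact ⟨⟨x, hRW hxU⟩, hxe⟩
    have hmem := mem_normalizerSystem_of_le hN' h2 hRle hle (by
      ext y
      rw [mem_map_subgroupOf]
      constructor
      · rintro ⟨_, ⟨x, rfl⟩, hxR, rfl⟩
        have hxU : (x : Ω) ∈ U ⊔ Q := by
          obtain ⟨z, hz, hzU, hze⟩ := mem_map_subgroupOf.1 (hχR.ge hxR)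
          have h5 : z = (x : Ω) := congrArg Subtype.val (F.injective_of_mem hχ hze)
          exact h5 ▸ hzU
        refine hχR.le (mem_map_subgroupOf.2 ⟨_, _, ?_, rfl⟩)
        refine hψR.le (mem_map_subgroupOf.2 ⟨x, x.2, hxU, ?_⟩)
        exact congrArg ψ (Subtype.ext (hκe x).symm)
      · intro hy
        obtain ⟨z, hz, hzU, rfl⟩ := mem_map_subgroupOf.1 (hχR.ge hy)
        obtain ⟨x, hx, hxU, rfl⟩ := mem_map_subgroupOf.1 (hψR.ge hzU)
        refine ⟨_, ⟨⟨x, hx⟩, rfl⟩, hχR.le (mem_map_subgroupOf.2 ⟨x, _, hxU, rfl⟩), ?_⟩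
        exact congrArg χ (Subtype.ext (congrArg ψ (Subtype.ext (hκe ⟨x, hx⟩)))))
    obtain ⟨g, hg⟩ := exists_of_realized hL'.2.1 hmem
    refine ⟨g, fun x => Eq.trans ?_ (hg ⟨χW x, x, rfl⟩)⟩
    refine congrArg ι' (Subtype.ext (congrArg χ (Subtype.ext (congrArg ψ (Subtype.ext ?_)))))
    exact (hκe x).symm
  -- the subgroup of the larger model
  let Us := imageOf j U
  let Qs := imageOf j Q
  let H : Subgroup L' := Subgroup.normalizer (Us : Set L') ⊓ Subgroup.normalizer (Qs : Set L')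
  have hjN₂ : ∀ x : N₂, j (Subgroup.inclusion hN₂K x) ∈ H := by
    intro x
    have key : ∀ A : Subgroup Ω, A ≤ K₀ → (x : Ω) ∈ Subgroup.normalizer (A : Set Ω) →
        j (Subgroup.inclusion hN₂K x) ∈ Subgroup.normalizer (imageOf j A : Set L') := by
      intro A hA hx
      refine Subgroup.le_normalizer_map j ⟨Subgroup.inclusion hN₂K x, ?_, rfl⟩
      rw [SetLike.mem_coe, Subgroup.mem_normalizer_iff]
      intro y
      exact Subgroup.mem_normalizer_iff.1 hx (y : Ω)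
    exact ⟨key U hUK' x.2.2, key Q hQK x.2.1.2⟩
  let jH : N₂ →* H := (j.comp (Subgroup.inclusion hN₂K)).codRestrict H hjN₂
  have hjH : Function.Injective jH := fun a b hab =>
    Subgroup.inclusion_injective hN₂K (hj (congrArg Subtype.val hab))
  -- image of a map fixing a subgroup
  have hfix : ∀ (W : Subgroup Ω) (hW : W ≤ K₀) (ψ : W →* Ω) (hv : ∀ x, ψ x ∈ K₀) (g : L'),
      (∀ x : W, j ⟨ψ x, hv x⟩ = g * j ⟨x, hW x.2⟩ * g⁻¹) → ∀ A : Subgroup Ω, A ≤ W →
      ((A.subgroupOf W).map ψ = A ↔ g ∈ Subgroup.normalizer (imageOf j A : Set L')) := by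
    intro W hW ψ hv g he A hA
    constructor
    · intro hm
      rw [Subgroup.mem_normalizer_iff]
      intro y
      constructor
      · rintro ⟨⟨a, ha⟩, haA, rfl⟩
        refine ⟨⟨_, hv ⟨a, hA haA⟩⟩, hm.le (mem_map_subgroupOf.2 ⟨a, hA haA, haA, rfl⟩), ?_⟩
        exact he ⟨a, hA haA⟩
      · rintro ⟨⟨b, hb⟩, hbA, hbe⟩
        obtain ⟨a, ha, haA, hae⟩ := mem_map_subgroupOf.1 (hm.ge hbA)
        refine ⟨⟨a, hW ha⟩, haA, ?_⟩
        have h1 : j ⟨b, hb⟩ = g * j ⟨a, hW ha⟩ * g⁻¹ :=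
          (congrArg j (Subtype.ext hae.symm)).trans (he ⟨a, ha⟩)
        rw [h1] at hbe
        exact mul_left_cancel (mul_right_cancel hbe)
    · intro hg
      ext b
      rw [mem_map_subgroupOf]
      constructor
      · rintro ⟨a, ha, haA, rfl⟩
        obtain ⟨c, hc, hce⟩ :=
          (Subgroup.mem_normalizer_iff.1 hg (j ⟨a, hW ha⟩)).1 ⟨⟨a, hW ha⟩, haA, rfl⟩
        have h1 : (⟨ψ ⟨a, ha⟩, hv _⟩ : K₀) = c := hj ((he ⟨a, ha⟩).trans hce.symm)
        have h2 : ψ ⟨a, ha⟩ = (c : Ω) := congrArg (fun z : K₀ => (z : Ω)) h1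
        rw [h2]
        exact hc
      · intro hb
        have hbW := hA hb
        obtain ⟨⟨a, ha⟩, haA, hae⟩ := (Subgroup.mem_normalizer_iff.1 hg
          (g⁻¹ * j ⟨b, hW hbW⟩ * g)).2 ⟨⟨b, hW hbW⟩, hb, by simp [mul_assoc]⟩
        refine ⟨a, hA haA, haA, ?_⟩
        have h1 : j ⟨ψ ⟨a, hA haA⟩, hv _⟩ = j ⟨b, hW hbW⟩ := by
          rw [he ⟨a, hA haA⟩]
          show g * j ⟨a, ha⟩ * g⁻¹ = _
          rw [hae]
          simp [mul_assoc]
        exact congrArg Subtype.val (hj h1)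
  have hreal : M.IsRealizedBy jH := by
    refine ⟨hjH, fun P hP φ hv => ⟨fun hφ => ?_, ?_⟩⟩
    · obtain ⟨hφN, -, -, ψ, hψ, hψe, hψU⟩ := (mem_normalizerSystem hM).1 hφ
      obtain ⟨hψF, hPUle, -, θ, hθ, hθe, hθQ⟩ := (mem_normalizerSystem hN).1 hψ
      have hW : (P ⊔ U) ⊔ Q ≤ K₀ := sup_le (sup_le (hP.trans hN₂K) hUK') hQK
      have hθU : (U.subgroupOf ((P ⊔ U) ⊔ Q)).map θ = U := by
        conv_rhs => rw [← hψU]
        ext y
        rw [mem_map_subgroupOf, mem_map_subgroupOf]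
        constructor
        · rintro ⟨x, hx, hxU, rfl⟩
          exact ⟨x, Subgroup.mem_sup_right hxU, hxU, (hθe ⟨x, Subgroup.mem_sup_right hxU⟩).symm⟩
        · rintro ⟨x, hx, hxU, rfl⟩
          exact ⟨x, Subgroup.mem_sup_left hx, hxU, hθe ⟨x, hx⟩⟩
      have hθR : ((U ⊔ Q).subgroupOf ((P ⊔ U) ⊔ Q)).map θ = U ⊔ Q := by
        rw [Subgroup.subgroupOf_sup (le_sup_right.trans le_sup_left) le_sup_right,
          Subgroup.map_sup, hθU, hθQ]
      have hθv : ∀ x, θ x ∈ K₀ := fun x => ⟨hom_mem hθ x, by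
        show θ x ∈ Subgroup.normalizer ((U ⊔ Q : Subgroup Ω) : Set Ω)
        rw [← hθR]
        exact map_mem_normalizer θ x (hW x.2).2⟩
      obtain ⟨g, hg⟩ := hforw _ hW (sup_le (le_sup_right.trans le_sup_left) le_sup_right)
        θ hθ hθv hθR
      have hgH : g ∈ H := ⟨(hfix _ hW θ hθv g hg U (le_sup_right.trans le_sup_left)).1 hθU,
        (hfix _ hW θ hθv g hg Q le_sup_right).1 hθQ⟩
      refine ⟨⟨g, hgH⟩, fun x => Subtype.ext ?_⟩
      have h1 := hg ⟨x, Subgroup.mem_sup_left (Subgroup.mem_sup_left x.2)⟩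
      refine Eq.trans (congrArg j (Subtype.ext ?_)) h1
      exact (hψe x).symm.trans (hθe (Subgroup.inclusion le_sup_left x)).symm
    · rintro ⟨⟨g, hgU, hgQ⟩, hg⟩
      have hg' : ∀ x : P, j ⟨φ x, hN₂K (hv x)⟩ = g * j ⟨x, hN₂K (hP x.2)⟩ * g⁻¹ := fun x =>
        congrArg Subtype.val (hg x)
      have hW : P ⊔ U ⊔ Q ≤ K₀ := sup_le (sup_le (hP.trans hN₂K) hUK') hQK
      have hgen : ((P ⊔ U ⊔ Q).subgroupOf K₀).map ((MulAut.conj g).toMonoidHom.comp j) ≤ j.range := by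
        rw [Subgroup.subgroupOf_sup (sup_le (hP.trans hN₂K) hUK') hQK,
          Subgroup.subgroupOf_sup (hP.trans hN₂K) hUK', Subgroup.map_sup, Subgroup.map_sup,
          sup_le_iff, sup_le_iff]
        refine ⟨⟨?_, ?_⟩, ?_⟩
        · rintro _ ⟨x, hx, rfl⟩
          exact ⟨_, hg' ⟨x, hx⟩⟩
        · rintro _ ⟨x, hx, rfl⟩
          obtain ⟨y, -, hy⟩ := (Subgroup.mem_normalizer_iff.1 hgU (j x)).1 ⟨x, hx, rfl⟩
          exact ⟨y, hy⟩
        · rintro _ ⟨x, hx, rfl⟩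
          obtain ⟨y, -, hy⟩ := (Subgroup.mem_normalizer_iff.1 hgQ (j x)).1 ⟨x, hx, rfl⟩
          exact ⟨y, hy⟩
      obtain ⟨θ, hθ, hθv, hθe⟩ := hback _ hW g fun x => hgen ⟨⟨x, hW x.2⟩, x.2, rfl⟩
      have hθU := (hfix _ hW θ hθv g hθe U (le_sup_right.trans le_sup_left)).2 hgU
      have hθQ := (hfix _ hW θ hθv g hθe Q le_sup_right).2 hgQ
      have hWQ : P ⊔ U ⊔ Q ≤ normalizerIn S Q :=
        sup_le (sup_le (hP.trans (normalizerIn_le U)) hUc.1) (le_normalizerIn hQ.1)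
      have hθN := mem_normalizerSystem_of_le hN hθ le_sup_right hWQ hθQ
      have hψU : (U.subgroupOf (P ⊔ U)).map (θ.comp (Subgroup.inclusion le_sup_left)) = U := by
        conv_rhs => rw [← hθU]
        ext y
        rw [mem_map_subgroupOf, mem_map_subgroupOf]
        constructor
        · rintro ⟨x, hx, hxU, rfl⟩
          exact ⟨x, _, hxU, rfl⟩
        · rintro ⟨x, hx, hxU, rfl⟩
          exact ⟨x, Subgroup.mem_sup_right hxU, hxU, rfl⟩
      have hval : ∀ x : P, θ (Subgroup.inclusion (le_sup_left.trans le_sup_left) x) = φ x := by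
        intro x
        have h1 := (hθe ⟨x, Subgroup.mem_sup_left (Subgroup.mem_sup_left x.2)⟩).trans (hg' x).symm
        exact congrArg Subtype.val (hj h1)
      refine (mem_normalizerSystem hM).2 ⟨?_, hP, hv, _, restrict_mem hθN le_sup_left,
        hval, hψU⟩
      exact hom_congr (restrict_mem hθN (le_sup_left.trans le_sup_left)) fun x => (hval x).symm
  have hsylow : ∃ T : Sylow p H, (T : Subgroup H) = jH.range := by
    have hp₂ : IsPGroup p N₂ := hS.to_le ((normalizerIn_le U).trans (normalizerIn_le Q))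
    haveI : Finite N₂ := finite_of_le ((normalizerIn_le U).trans (normalizerIn_le Q))
    obtain ⟨T, hT⟩ := (hp₂.of_surjective jH.rangeRestrict jH.rangeRestrict_surjective).exists_le_sylow
    refine ⟨T, (Subgroup.eq_of_le_of_card_ge hT ?_).symm⟩
    rw [← Nat.card_congr (MonoidHom.ofInjective hjH).toEquiv]
    obtain ⟨T₀, hT₀⟩ := hL'.2.2.1
    obtain ⟨T₁, hT₁⟩ := (T.isPGroup'.map H.subtype).exists_le_sylow
    obtain ⟨g, hg⟩ := MulAction.exists_smul_eq L' T₁ T₀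
    have hgT : ∀ t : T, g * ((t : H) : L') * g⁻¹ ∈ ι'.range := by
      intro t
      have h1 : MulAut.conj g ((t : H) : L') ∈ ((g • T₁ : Sylow p L') : Subgroup L') :=
        ⟨_, hT₁ ⟨t.1, t.2, rfl⟩, rfl⟩
      rw [hg, hT₀] at h1
      exact h1
    -- a map of the system to a conjugate position
    have hW : N₂ ⊔ (U ⊔ Q) ≤ K₀ := sup_le hN₂K hUK
    let W := N₂ ⊔ (U ⊔ Q)
    have hWin : ∀ x : W, g * j ⟨x, hW x.2⟩ * g⁻¹ ∈ ι'.range := by
      intro x
      have h1 : ((N₂ ⊔ (U ⊔ Q)).subgroupOf K₀).map ((MulAut.conj g).toMonoidHom.comp j) ≤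
          ι'.range := by
        rw [Subgroup.subgroupOf_sup hN₂K hUK, Subgroup.map_sup, sup_le_iff]
        refine ⟨?_, ?_⟩
        · rintro _ ⟨y, hy, rfl⟩
          exact hgT ⟨jH ⟨y, hy⟩, hT ⟨_, rfl⟩⟩
        · rintro _ ⟨y, hy, rfl⟩
          obtain ⟨z, -, hz⟩ := hRnorm.conj_mem _ ⟨y, hy, rfl⟩ g
          exact ⟨_, hz⟩
      exact h1 ⟨⟨x, hW x.2⟩, x.2, rfl⟩
    let χW : W →* Ω := χ.comp (Subgroup.inclusion hW)
    have hle : χW.range ≤ normalizerIn S R := by rintro _ ⟨x, rfl⟩; exact hχv _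
    obtain ⟨ψ', hψ', hψ'e⟩ := exists_hom_of_realized hL'.2.1 hle g fun y => by
      obtain ⟨_, x, rfl⟩ := y
      exact hWin x
    have hφ := F.comp_mem (restrict_mem hχ hW : χW ∈ F.Hom W)
      (subset_of_normalizerSystem hN' hψ') fun x => ⟨x, rfl⟩
    set φ := ψ'.comp (χW.codRestrict χW.range fun x => ⟨x, rfl⟩)
    have hφv : ∀ x : W, φ x ∈ normalizerIn S R := fun x => hom_mem hψ' _
    have hφe : ∀ x : W, ι' ⟨φ x, hφv x⟩ = g * j ⟨x, hW x.2⟩ * g⁻¹ := fun x =>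
      hψ'e ⟨χW x, x, rfl⟩
    have hQW : Q ≤ W := le_sup_right.trans le_sup_right
    have hUW : U ≤ W := le_sup_left.trans le_sup_right
    let φQ : Q →* Ω := φ.comp (Subgroup.inclusion hQW)
    have hφQ : φQ ∈ F.Hom Q := restrict_mem hφ hQW
    obtain ⟨χ₁, hχ₁, hχ₁v, hχ₁Q⟩ := exists_map_to_fn hS hF hQ (isConj_symm ⟨φQ, hφQ, rfl⟩)
    -- elements of `T` normalize both images
    have hnorm : ∀ (t : T) (y : normalizerIn S R), ι' y = g * ((t : H) : L') * g⁻¹ →
        ∀ (A : Subgroup Ω) (hA : A ≤ W), ((t : H) : L') ∈ Subgroup.normalizer (imageOf j A : Set L') →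
          (y : Ω) ∈ Subgroup.normalizer ((φ.comp (Subgroup.inclusion hA)).range : Set Ω) := by
      intro t y hy A hA ht
      haveI : Finite (φ.comp (Subgroup.inclusion hA)).range := finite_of_le
        ((by rintro _ ⟨x, rfl⟩; exact hom_mem hφ _) : (φ.comp (Subgroup.inclusion hA)).range ≤ S)
      refine Subgroup.mem_normalizer_fintype ?_
      rintro _ ⟨a, rfl⟩
      obtain ⟨⟨b, hb⟩, hbA, hbe⟩ :=
        (Subgroup.mem_normalizer_iff.1 ht (j ⟨a, hW (hA a.2)⟩)).1 ⟨_, a.2, rfl⟩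
      refine ⟨⟨b, hbA⟩, ?_⟩
      have h1 : ι' ⟨φ ⟨b, hA hbA⟩, hφv _⟩ = ι' (y * ⟨φ ⟨a, hA a.2⟩, hφv _⟩ * y⁻¹) := by
        rw [hφe, map_mul, map_mul, map_inv, hy, hφe]
        have h2 : j ⟨b, hW (hA hbA)⟩ =
          ((t : H) : L') * j ⟨a, hW (hA a.2)⟩ * ((t : H) : L')⁻¹ := hbe
        rw [h2]
        group
      exact congrArg Subtype.val (hinj' h1)
    have hy : ∀ t : T, ∃ y : normalizerIn S R, ι' y = g * ((t : H) : L') * g⁻¹ := hgT
    choose y hy using hy
    have hyQ : ∀ t : T, (y t : Ω) ∈ normalizerIn S φQ.range := fun t =>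
      ⟨(y t).2.1, hnorm t (y t) (hy t) Q hQW (t : H).2.2⟩
    -- the conjugate of `U` in `N`
    have hUQW : U ⊔ Q ≤ W := le_sup_right
    have hvW : ∀ x : (U ⊔ Q : Subgroup Ω), φ (Subgroup.inclusion hUQW x) ∈ normalizerIn S φQ.range := by
      intro x
      refine ⟨hom_mem hφ _, ?_⟩
      have : (Q.subgroupOf (U ⊔ Q)).map (φ.comp (Subgroup.inclusion hUQW)) = φQ.range := by
        ext z
        rw [mem_map_subgroupOf]
        constructor
        · rintro ⟨a, ha, haQ, rfl⟩; exact ⟨⟨a, haQ⟩, rfl⟩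
        · rintro ⟨a, rfl⟩; exact ⟨a, Subgroup.mem_sup_right a.2, a.2, rfl⟩
      show _ ∈ Subgroup.normalizer (φQ.range : Set Ω)
      rw [← this]
      exact map_mem_normalizer (φ.comp (Subgroup.inclusion hUQW)) x
        (sup_le hUc.1 (le_normalizerIn hQ.1) x.2).2
    have hθ := F.comp_mem (restrict_mem hφ hUQW) hχ₁ hvW
    set θ := χ₁.comp ((φ.comp (Subgroup.inclusion hUQW)).codRestrict (normalizerIn S φQ.range) hvW)
    have hθN : θ ∈ N.Hom (U ⊔ Q) := by
      refine mem_normalizerSystem_of_le hN hθ le_sup_right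
        (sup_le hUc.1 (le_normalizerIn hQ.1)) ?_
      conv_rhs => rw [← hχ₁Q]
      ext z
      rw [mem_map_subgroupOf, mem_map_subgroupOf]
      constructor
      · rintro ⟨a, ha, haQ, rfl⟩; exact ⟨_, hvW ⟨a, ha⟩, ⟨⟨a, haQ⟩, rfl⟩, rfl⟩
      · rintro ⟨_, hz, ⟨a, rfl⟩, rfl⟩; exact ⟨a, Subgroup.mem_sup_right a.2, a.2, rfl⟩
    set U₂ := (θ.comp (Subgroup.inclusion (le_sup_left : U ≤ U ⊔ Q))).range
    have hU₂ : N.IsConj U U₂ := ⟨_, restrict_mem hθN le_sup_left, rfl⟩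
    refine le_trans ?_ (hUn.2 U₂ hU₂)
    haveI : Finite (normalizerIn (normalizerIn S Q) U₂) :=
      finite_of_le ((normalizerIn_le U₂).trans (normalizerIn_le Q))
    have hmem : ∀ t : T, χ₁ ⟨y t, hyQ t⟩ ∈ normalizerIn (normalizerIn S Q) U₂ := by
      intro t
      refine ⟨hχ₁v _, ?_⟩
      show _ ∈ Subgroup.normalizer (U₂ : Set Ω)
      have hU1 := hnorm t (y t) (hy t) U hUW (t : H).2.1
      have heq : ((φ.comp (Subgroup.inclusion hUW)).range.subgroupOf
          (normalizerIn S φQ.range)).map χ₁ = U₂ := by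
        ext z
        rw [mem_map_subgroupOf]
        constructor
        · rintro ⟨_, hz, ⟨a, rfl⟩, rfl⟩; exact ⟨a, rfl⟩
        · rintro ⟨a, rfl⟩
          exact ⟨_, hvW (Subgroup.inclusion le_sup_left a), ⟨a, rfl⟩, rfl⟩
      rw [← heq]
      exact map_mem_normalizer χ₁ ⟨y t, hyQ t⟩ hU1
    refine Nat.card_le_card_of_injective
      (fun t => (⟨_, hmem t⟩ : normalizerIn (normalizerIn S Q) U₂)) fun a b hab => ?_
    have h1 : (⟨_, hyQ a⟩ : normalizerIn S φQ.range) = ⟨_, hyQ b⟩ :=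
      F.injective_of_mem hχ₁ (congrArg Subtype.val hab)
    have h2 : y a = y b := Subtype.ext (congrArg (fun z : normalizerIn S φQ.range => (z : Ω)) h1)
    have h3 := (hy a).symm.trans ((congrArg ι' h2).trans (hy b))
    exact Subtype.ext (Subtype.ext (mul_left_cancel (mul_right_cancel h3)))
  have hHcore : Subgroup.centralizer ((pCore p H : Subgroup H) : Set H) ≤ pCore p H := by
    let Usub : Subgroup H := Us.subgroupOf H
    have hUn' : Usub.Normal := ⟨fun a ha b => (Subgroup.mem_normalizer_iff.1 b.2.1 (a : L')).1 ha⟩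
    have hUp : IsPGroup p Us := ((hS.to_le (normalizerIn_le _)).to_subgroup _).map j
    have hUle : Us ≤ H := by
      rintro _ ⟨x, hx, rfl⟩
      exact hjN₂ ⟨x, hUc.1 hx, Subgroup.le_normalizer hx⟩
    have hUsub : Usub ≤ pCore p H :=
      Cfsg.Lib.Core.le_pCore' hUn' (hUp.of_equiv (Subgroup.subgroupOfEquivOfLe hUle).symm)
    refine le_trans (Subgroup.centralizer_le hUsub) ?_
    haveI := hUn'
    refine Cfsg.Lib.Core.le_pCore' (Subgroup.normal_centralizer (H := Usub)) ?_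
    haveI : Finite H := inferInstance
    -- elements of order prime to `p` are trivial
    rw [IsPGroup.iff_card]
    obtain ⟨k, m, hm, hcm⟩ := Nat.exists_eq_pow_mul_and_not_dvd
      (Nat.card_pos (α := Subgroup.centralizer (Usub : Set H))).ne' p (Fact.out : p.Prime).ne_one
    refine ⟨k, ?_⟩
    suffices hm1 : m = 1 by rw [hcm, hm1, mul_one]
    by_contra hne
    obtain ⟨q, hq, hqm⟩ := Nat.exists_prime_and_dvd hne
    haveI : Fact q.Prime := ⟨hq⟩
    obtain ⟨c, hc⟩ := exists_prime_orderOf_dvd_card' q (hcm ▸ dvd_mul_of_dvd_right hqm _ :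
      q ∣ Nat.card (Subgroup.centralizer (Usub : Set H)))
    set c' : L' := ((c : H) : L') with hc'
    have hco : orderOf c' = q := by
      rw [hc', Subgroup.orderOf_coe, Subgroup.orderOf_coe, hc]
    have hcop : (Nat.card (Subgroup.zpowers c')).Coprime p := by
      rw [Nat.card_zpowers, hco]
      exact (Nat.coprime_primes hq Fact.out).2 fun he => hm (he ▸ hqm)
    have hcU : c' ∈ Subgroup.centralizer (Us : Set L') := by
      rw [Subgroup.mem_centralizer_iff]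
      intro x hx
      exact congrArg Subtype.val (Subgroup.mem_centralizer_iff.1 c.2 ⟨x, hUle hx⟩ hx)
    have hQp : IsPGroup p Qs := ((hS.to_le (normalizerIn_le _)).to_subgroup _).map j
    have hUQ : Us ≤ Subgroup.normalizer (Qs : Set L') := fun x hx => (hUle hx).2
    have hcomm := Cfsg.Lib.Coprime.commutator_eq_bot_of_AxB Qs Us (Subgroup.zpowers c') hQp hUp hcop
      hUQ (Subgroup.zpowers_le.2 (c : H).2.2) (Subgroup.zpowers_le.2 hcU) (by
        rintro _ ⟨⟨x, hx, rfl⟩, hxc⟩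
        rw [Subgroup.mem_centralizer_iff]
        rintro _ ⟨n, rfl⟩
        have hxU : (x : Ω) ∈ U := hUc.2 U (isConj_refl N hUc.1) (mem_centralizerIn.2
          ⟨le_normalizerIn hQ.1 hx, fun y hy => by
            have h1 := Subgroup.mem_centralizer_iff.1 hxc (j ⟨y, hUK' hy⟩) ⟨⟨y, hUK' hy⟩, hy, rfl⟩
            rw [← map_mul, ← map_mul] at h1
            exact (congrArg Subtype.val (hj h1)).symm⟩)
        exact (Commute.zpow_left
          ((Subgroup.mem_centralizer_iff.1 hcU (j x) ⟨x, hxU, rfl⟩).symm : Commute c' (j x)) n).eq)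
    have hcR : c' ∈ Subgroup.centralizer (imageOf j (U ⊔ Q) : Set L') := by
      have hcQ : c' ∈ Subgroup.centralizer (Qs : Set L') := by
        rw [Subgroup.mem_centralizer_iff]
        intro x hx
        have h1 : ⁅x, c'⁆ ∈ (⁅Qs, Subgroup.zpowers c'⁆ : Subgroup L') :=
          Subgroup.commutator_mem_commutator hx (Subgroup.mem_zpowers c')
        rw [hcomm, Subgroup.mem_bot, commutatorElement_eq_one_iff_mul_comm] at h1
        exact h1
      have hsup : imageOf j (U ⊔ Q) = Us ⊔ Qs := by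
        show ((U ⊔ Q).subgroupOf K₀).map j = _
        rw [Subgroup.subgroupOf_sup hUK' hQK, Subgroup.map_sup]
        rfl
      rw [hsup, ← Subgroup.zpowers_le, Subgroup.le_centralizer_iff, sup_le_iff]
      exact ⟨Subgroup.le_centralizer_iff.1 (Subgroup.zpowers_le.2 hcU),
        Subgroup.le_centralizer_iff.1 (Subgroup.zpowers_le.2 hcQ)⟩
    obtain ⟨x, -, hx⟩ := hRcen hcR
    obtain ⟨i, hi⟩ := (hS.to_le (normalizerIn_le _)) x
    have h1 : c' ^ p ^ i = 1 := by rw [← hx, ← map_pow, hi, map_one]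
    rw [← orderOf_dvd_iff_pow_eq_one, hco] at h1
    exact hm ((Nat.prime_dvd_prime_iff_eq hq Fact.out).1 (hq.dvd_of_dvd_pow h1) ▸ hqm)
  haveI : Finite (normalizerIn (normalizerIn S Q) U) :=
    finite_of_le ((normalizerIn_le U).trans (normalizerIn_le Q))
  have hHm : M.IsModel p H jH := ⟨inferInstance, hreal, hsylow, hHcore⟩
  obtain ⟨e, -⟩ := exists_model_equiv
    (hS.to_le ((normalizerIn_le U).trans (normalizerIn_le Q)))
    (isConstrained_of_isModel hHm) hL hHm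
  exact ⟨H.subtype.comp e.toMonoidHom, H.subtype_injective.comp e.injective⟩

end Cfsg.Lib.FusionSys
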