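import Cfsg.Agent.Lib.FusionSys.FunctorStronglyClosed
import Cfsg.Agent.Lib.Local.QdInvolved
import Cfsg.Agent.Lib.Local.GlaubermanStronglyClosed
import Cfsg.Prelude.Def_EvenType

/-!
# `Qd(p)`-free fusion systems and groups

`Z(J(D))` and `Ω₁(Z(J_e(D)))` are normal for strongly closed `D`; consequences for control of
strong fusion and solvability.
-/

set_option autoImplicit false
set_option linter.style.haveILetI false

universe u

namespace Cfsg.Lib.FusionSys

open Cfsg Cfsg.FusionSystem Cfsg.Lib.Local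

variable {p : ℕ} [Fact p.Prime]

/-- `Ω₁(Z(J(Q)))` inside `Q`. -/
def omegaFamily (p : ℕ) (Q : Type u) [Group Q] : Subgroup Q :=
  GlaubermanZJ.omegaZ p (⊤ : Subgroup Q)

theorem omegaFamily_map (Q R : Type u) [Group Q] [Group R] [Finite Q]
    (_hQ : IsPGroup p Q) (φ : Q ≃* R) : (omegaFamily p Q).map φ.toMonoidHom = omegaFamily p R := by
  rw [omegaFamily, GlaubermanZJ.map_omegaZ_of_injOn φ.toMonoidHom ⊤ φ.injective.injOn,
    Subgroup.map_top_of_surjective _ φ.surjective]
  rfl

theorem omegaFamily_ne_bot (Q : Type u) [Group Q] [Finite Q]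
    (hQ : IsPGroup p Q) (hnt : Nontrivial Q) : omegaFamily p Q ≠ ⊥ := by
  refine GlaubermanZJ.omegaZ_ne_bot (hQ.to_subgroup ⊤) ?_
  rw [← Subgroup.nontrivial_iff_ne_bot]
  exact Subgroup.topEquiv.toEquiv.nontrivial

theorem functorOf_omegaFamily {G : Type u} [Group G] (T : Subgroup G) [Finite T] :
    functorOf (omegaFamily p) T = GlaubermanZJ.omegaZ p T := by
  rw [functorOf, omegaFamily, GlaubermanZJ.map_omegaZ_of_injOn T.subtype ⊤ T.subtype_injective.injOn,
    ← MonoidHom.range_eq_map, Subgroup.range_subtype]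

variable {Ω : Type u} [Group Ω] {S : Subgroup Ω} [Finite S] {F : FusionSystem S}

theorem isNormal_zj_of_qdFree (h2 : p ≠ 2) (hS : IsPGroup p S) (hF : F.IsSaturated p)
    (hfree : F.IsSectionFree p (qd p)) {D : Subgroup Ω} (hD : F.StronglyClosed D) :
    F.IsNormal (centerThompsonAOf D) := by
  haveI := finite_of_le hD.1
  rw [← functorOf_zjFamily]
  refine isNormal_functorOf_stronglyClosed (X := qd p) (zjFamily ()) (zjFamily_ne_bot ()) (zjFamily_map ())
    (fun L _ _ P Dl hcl hc hq => ?_) _ Ω S hS le_rfl F hF hfree D hD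
  rw [functorOf_zjFamily]
  exact GlaubermanZJ.centerThompsonA_normal_of_isStronglyClosed h2 hc
    (fun V _ hV => QdInvolved.isPStableOn_of_not_involves_qd h2 hq V hV) P hcl

theorem isNormal_omega_of_qdFree (h2 : p ≠ 2) (hS : IsPGroup p S) (hF : F.IsSaturated p)
    (hfree : F.IsSectionFree p (qd p)) {D : Subgroup Ω} (hD : F.StronglyClosed D) :
    F.IsNormal (GlaubermanZJ.omegaZ p D) := by
  haveI := finite_of_le hD.1
  rw [← functorOf_omegaFamily]
  refine isNormal_functorOf_stronglyClosed (X := qd p) (omegaFamily p) omegaFamily_ne_bot omegaFamily_map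
    (fun L _ _ P Dl hcl hc hq => ?_) _ Ω S hS le_rfl F hF hfree D hD
  rw [functorOf_omegaFamily]
  exact GlaubermanZJ.omegaZ_normal_of_isStronglyClosed h2 hc
    (fun V _ hV => QdInvolved.isPStableOn_of_not_involves_qd h2 hq V hV) P hcl

theorem stronglyClosed_top (F : FusionSystem S) : F.StronglyClosed S :=
  ⟨le_rfl, fun _ _ _ hφ x => hom_mem hφ x⟩

/-- A system free of `X`, all of whose such systems have a nontrivial normal subgroup, is solvable. -/
theorem isSolvableSystem_of_free {X : Type} [Group X] (hS : IsPGroup p S) (hF : F.IsSaturated p)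
    (hfree : F.IsSectionFree p X)
    (h : ∀ (Ω' : Type u) [Group Ω'] (S' : Subgroup Ω') [Finite S'], IsPGroup p S' → S' ≠ ⊥ →
      ∀ E : FusionSystem S', E.IsSaturated p → E.IsSectionFree p X → E.core ≠ ⊥) :
    F.IsSolvableSystem := by
  intro R hR hRS _ E hE
  have hRn := stronglyClosed_le_normalizer hR
  obtain ⟨N, hN, hNs, -, hNn, hNfree⟩ := exists_normalizerPart.{u, 0} (F := F) hS hF hR.1 hRn
  set θ := QuotientGroup.mk' (R.subgroupOf S)
  obtain ⟨-, hker, hrange, hiff⟩ := id hE
  have hE' : N.IsFactorSystem R θ E := by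
    refine ⟨hR.1, hker, hrange, fun P' φ' => (hiff P' φ').trans (and_congr_right fun hP' => ?_)⟩
    constructor
    · rintro ⟨φ, hφ, hind⟩
      refine ⟨φ, ?_, hind⟩
      have hRP : R ≤ preimageAlong θ P' := kernel_le_preimageAlong hR.1 hker
      have hle : preimageAlong θ P' ⊔ R ≤ preimageAlong θ P' := sup_le le_rfl hRP
      have hψ := restrict_mem hφ hle
      rw [hN]
      refine ⟨hφ, preimageAlong_le.trans (normalizerIn_eq_self hRn).ge, fun x => ?_,
        _, hψ, fun x => rfl, range_restrict_eq hR.1 hψ le_sup_right fun x hx => ?_⟩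
      · rw [normalizerIn_eq_self hRn]; exact hom_mem hφ x
      · exact stronglyClosed_apply_mem hR hψ (x := ⟨x, Subgroup.mem_sup_right hx⟩) hx
    · rintro ⟨φ, hφ, hind⟩
      rw [hN] at hφ
      exact ⟨φ, hφ.1, hind⟩
  refine h _ ⊤ ((hS.to_quotient _).to_subgroup _) ?_ E
    (isSaturated_factor hS hNs (isNormal_stronglyClosed hNn) hE')
    (isSectionFree_factor hS hNs hNn hE' (hNfree X hfree))
  intro htop
  refine hRS (le_antisymm hR.1 fun x hx => ?_)
  exact (hker ⟨x, hx⟩).1 (Subgroup.mem_bot.1 (htop.le (Subgroup.mem_top _)))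

theorem core_ne_bot_of_qdFree (h2 : p ≠ 2) (hS : IsPGroup p S) (hne : S ≠ ⊥) (hF : F.IsSaturated p)
    (hfree : F.IsSectionFree p (qd p)) : F.core ≠ ⊥ := fun hc =>
  functorOf_ne_bot (zjFamily ()) (zjFamily_ne_bot (p := p) ()) S hS hne ((functorOf_zjFamily S).trans
    (le_bot_iff.1 ((le_sSup (show centerThompsonAOf S ∈ {Q | F.IsNormal Q} from
      isNormal_zj_of_qdFree h2 hS hF hfree (stronglyClosed_top F))).trans hc.le)))

theorem isSolvableSystem_of_qdFree (h2 : p ≠ 2) (hS : IsPGroup p S) (hF : F.IsSaturated p)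
    (hfree : F.IsSectionFree p (qd p)) : F.IsSolvableSystem :=
  isSolvableSystem_of_free hS hF hfree fun _ _ _ _ hS' hne _ hE hEf =>
    core_ne_bot_of_qdFree h2 hS' hne hE hEf

section Groups

variable {G : Type u} [Group G] [Finite G]

/-- A subgroup normal in the fusion system controls strong fusion by its normalizer. -/
theorem controls_of_isNormal {P W : Subgroup G} (h : (groupFusionSystem P).IsNormal W)
    (A : Set G) (hA : A ⊆ P) : ControlsStrongFusionOf (Subgroup.normalizer (W : Set G)) P A := by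
  refine ⟨hA, fun g hg => ?_⟩
  set P₀ := Subgroup.closure A with hP₀
  have hP₀P : P₀ ≤ P := (Subgroup.closure_le _).2 hA
  have hgP : ∀ x : P₀, g * (x : G) * g⁻¹ ∈ P := fun x => by
    have hle : P₀ ≤ P.comap (MulAut.conj g).toMonoidHom :=
      (Subgroup.closure_le _).2 fun a ha => hg ⟨a, ha, rfl⟩
    exact hle x.2
  obtain ⟨ψ, hψ, hψe, hψW⟩ := h.2 P₀ (conjHom P₀ g) ⟨hP₀P, hgP, g, fun x => rfl⟩
  obtain ⟨-, -, x, hx⟩ := hψ
  refine ⟨x, Subgroup.mem_normalizer_fintype fun w hw => ?_, fun a ha => ?_⟩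
  · show x * w * x⁻¹ ∈ W
    rw [← hx ⟨w, Subgroup.mem_sup_right hw⟩]
    exact hψW.le (mem_map_subgroupOf.2 ⟨w, _, hw, rfl⟩)
  · exact (hψe ⟨a, Subgroup.subset_closure ha⟩).symm.trans (hx (Subgroup.inclusion le_sup_left ⟨a, _⟩))

theorem stronglyClosed_groupFusionSystem {P D : Subgroup G} (hD : IsStronglyClosed D P) :
    (groupFusionSystem P).StronglyClosed D := by
  refine ⟨hD.1, ?_⟩
  rintro R hR φ ⟨-, hv, g, hg⟩ x
  rw [hg]
  exact hD.2 x (hR x.2) g (hg x ▸ hv x)

theorem controls_zj_of_qdFree (h2 : p ≠ 2) (P : Sylow p G) (hq : ¬ Involves (qd p) G)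
    {D : Subgroup G} (hD : IsStronglyClosed D (P : Subgroup G)) (A : Set G) (hA : A ⊆ (P : Subgroup G)) :
    ControlsStrongFusionOf (Subgroup.normalizer (centerThompsonAOf D : Set G)) (P : Subgroup G) A :=
  controls_of_isNormal (isNormal_zj_of_qdFree h2 P.isPGroup' (isSaturated_groupFusionSystem P)
    (isSectionFree_groupFusionSystem P hq) (stronglyClosed_groupFusionSystem hD)) A hA

theorem controls_omega_of_qdFree (h2 : p ≠ 2) (P : Sylow p G) (hq : ¬ Involves (qd p) G)
    {D : Subgroup G} (hD : IsStronglyClosed D (P : Subgroup G)) (A : Set G) (hA : A ⊆ (P : Subgroup G)) :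
    ControlsStrongFusionOf (Subgroup.normalizer (GlaubermanZJ.omegaZ p D : Set G)) (P : Subgroup G) A :=
  controls_of_isNormal (isNormal_omega_of_qdFree h2 P.isPGroup' (isSaturated_groupFusionSystem P)
    (isSectionFree_groupFusionSystem P hq) (stronglyClosed_groupFusionSystem hD)) A hA

theorem isStronglyClosed_self (P : Subgroup G) : IsStronglyClosed P P :=
  ⟨le_rfl, fun _ _ _ h => h⟩

end Groups

end Cfsg.Lib.FusionSys
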