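import Cfsg.Agent.Lib.FusionSys.Transfer
import Cfsg.Agent.Lib.Fusion.Basic

/-!
The focal subgroup is the hyperfocal subgroup times the derived group.
-/

set_option autoImplicit false

namespace Cfsg.Lib.FusionSys

open Cfsg Cfsg.FusionSystem
open scoped commutatorElement

variable {Ω : Type*} [Group Ω] {S : Subgroup Ω} {F : FusionSystem S}

theorem map_commutator_self (S : Subgroup Ω) :
    (commutator ↥S).map S.subtype = ⁅(S : Subgroup Ω), (S : Subgroup Ω)⁆ := by
  rw [commutator_def, Subgroup.map_commutator, ← MonoidHom.range_eq_map, Subgroup.range_subtype]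

theorem focal_eq_hyperfocal_sup [Finite S] {p : ℕ} [Fact p.Prime] (hS : IsPGroup p S)
    (hF : F.IsSaturated p) :
    F.focalSubgroup = F.hyperfocalSubgroup p ⊔ ⁅(S : Subgroup Ω), (S : Subgroup Ω)⁆ := by
  classical
  set T : Subgroup Ω := F.hyperfocalSubgroup p ⊔ ⁅(S : Subgroup Ω), (S : Subgroup Ω)⁆ with hT
  have hTS : T ≤ S := by
    refine sup_le ((Subgroup.closure_le _).2 ?_) ((Subgroup.commutator_le).2 fun a ha b hb => ?_)
    · rintro _ ⟨P, α, x, hP, -, rfl⟩
      exact S.mul_mem (S.inv_mem (hP x.2)) (hP (((α : MulAut P) x).2))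
    · exact S.mul_mem (S.mul_mem (S.mul_mem ha hb) (S.inv_mem ha)) (S.inv_mem hb)
  have hconjT : ∀ g ∈ S, ∀ x ∈ S, x⁻¹ * (g * x * g⁻¹) ∈ T := by
    intro g hg x hx
    refine Subgroup.mem_sup_right ?_
    have h := Subgroup.commutator_mem_commutator (S.inv_mem hx) hg
    have heq : x⁻¹ * (g * x * g⁻¹) = ⁅x⁻¹, g⁆ := by
      rw [commutatorElement_def]
      simp [mul_assoc]
    rw [heq]
    exact h
  refine le_antisymm ?_ (sup_le ((Subgroup.closure_le _).2 ?_)
    (commutator_le_focal F))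
  swap
  · rintro _ ⟨P, α, x, hP, -, rfl⟩
    exact Subgroup.subset_closure
      ⟨P, _, x, (mem_autGroup hP).1 α.2, rfl⟩
  let E : FusionSystem S :=
    { Hom := fun P => {φ | φ ∈ F.Hom P ∧ ∀ x : P, (x : Ω)⁻¹ * φ x ∈ T}
      le_of_mem := fun h => F.le_of_mem h.1
      injective_of_mem := fun h => F.injective_of_mem h.1
      conj_mem := fun {P g} hP hg => ⟨F.conj_mem hP hg, fun x => hconjT g hg x (hP x.2)⟩
      comp_mem := by
        rintro P Q φ ψ ⟨hφ, hφT⟩ ⟨hψ, hψT⟩ h
        refine ⟨F.comp_mem hφ hψ h, fun x => ?_⟩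
        have h1 := T.mul_mem (hφT x) (hψT ⟨φ x, h x⟩)
        rw [mul_assoc, mul_inv_cancel_left] at h1
        exact h1
      inv_mem := by
        rintro P φ ⟨hφ, hφT⟩
        obtain ⟨ψ, hψ, hψe⟩ := F.inv_mem hφ
        refine ⟨ψ, ⟨hψ, ?_⟩, hψe⟩
        rintro ⟨_, x, rfl⟩
        rw [hψe]
        simpa using T.inv_mem (hφT x) }
  have hle : F ≤ E := by
    refine le_of_autGroup_le hS hF E fun P hP => ?_
    have hPn : F.IsFullyNormalized P := by
      rcases hP with rfl | hP
      exacts [isFullyNormalized_top F, hP.2.1]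
    haveI := finite_of_le hPn.1
    obtain ⟨-, -, R, hR⟩ := isFullyAutomized_and_fc_of_fn hS hF hPn
    intro α hα
    have hmem : ∀ β : MulAut P, β ∈ E.autGroup P ↔
        β ∈ F.autGroup P ∧ ∀ x : P, (x : Ω)⁻¹ * (β x : Ω) ∈ T := by
      intro β
      rw [mem_autGroup hPn.1, mem_autGroup hPn.1]
      exact Iff.rfl
    set H : Subgroup (F.autGroup P) := (E.autGroup P).subgroupOf (F.autGroup P)
    have h1 : pResidual p (F.autGroup P) ≤ H := by
      intro β hβ
      show (β : MulAut P) ∈ E.autGroup P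
      rw [hmem]
      exact ⟨β.2, fun x => Subgroup.mem_sup_left
        (Subgroup.subset_closure ⟨P, β, x, hPn.1, hβ, rfl⟩)⟩
    have h2 : (R : Subgroup (F.autGroup P)) ≤ H := by
      rw [hR]
      intro β hβ
      show (β : MulAut P) ∈ E.autGroup P
      exact autInducedBy_le_autGroup hPn.1 hβ
    have h3 := sup_le h2 h1
    rw [Cfsg.Lib.Fusion.sylow_sup_pResidual] at h3
    exact (show (⟨α, hα⟩ : F.autGroup P) ∈ H from h3 trivial)
  refine (Subgroup.closure_le _).2 ?_
  rintro _ ⟨P, φ, x, hφ, rfl⟩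
  exact (hle P hφ).2 x


end Cfsg.Lib.FusionSys
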