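import Cfsg.Agent.Lib.FusionSys.Basic

/-!
Saturation of fusion systems: receptive subgroups are fully centralized, the extension lemma into a fully
automized receptive conjugate, fully normalized subgroups of a saturated system, and two criteria for saturation.
-/

set_option autoImplicit false

namespace Cfsg.Lib.FusionSys

open Cfsg Cfsg.FusionSystem

variable {Ω : Type*} [Group Ω] {S : Subgroup Ω} {F : FusionSystem S} {P Q R : Subgroup Ω}

theorem isFullyCentralized_of_receptive [Finite S] (hP : F.IsReceptive P) :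
    F.IsFullyCentralized P := by
  refine ⟨hP.1, fun Q hQ => ?_⟩
  obtain ⟨e, he⟩ := isConj_iff.1 (isConj_symm hQ)
  have hQS : Q ≤ S := (isConj_le hQ).2
  obtain ⟨ψ, hψ, hψe⟩ := IsReceptive_ext hP he (N := Q ⊔ centralizerIn S Q) (by
    intro g hg
    have hle : Q ⊔ centralizerIn S Q ≤ extender S Q (P.subtype.comp e.toMonoidHom) :=
      sup_le (le_extender hQS fun x => hP.1 (e x).2) (centralizerIn_le_extender _)
    obtain ⟨h1, h2, k, h3, h4⟩ := mem_extender.1 (hle hg)
    refine ⟨h1, h2, k, h3, fun x y hxy => ?_⟩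
    have hx : g * (x : Ω) * g⁻¹ ∈ Q := hxy ▸ y.2
    have := h4 x hx
    have hy : y = ⟨_, hx⟩ := Subtype.ext hxy
    rw [hy]
    exact this)
  have hmap := map_subgroupOf_eq (e := e) le_sup_left hψe
  have hmem : ∀ c : centralizerIn S Q,
      ψ (Subgroup.inclusion le_sup_right c) ∈ centralizerIn S P := by
    intro c
    refine ⟨hom_mem hψ _, ?_⟩
    have := map_mem_centralizer (Q := Q) ψ (Subgroup.inclusion le_sup_right c)
      (mem_centralizerIn.1 c.2).2
    rwa [hmap] at this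
  haveI := finite_of_le (centralizerIn_le (S := S) P)
  refine Nat.card_le_card_of_injective (fun c => (⟨_, hmem c⟩ : centralizerIn S P)) ?_
  intro a b hab
  have h1 := F.injective_of_mem hψ (congrArg Subtype.val hab)
  exact Subgroup.inclusion_injective _ h1

/-- `|C_S(Q)| ≤ |C_S(U)| = |Z(U)| = |Z(Q)|`. -/
theorem isCentric_of_isFullyCentralized [Finite S] (hP : F.IsFullyCentralized P)
    (hC : centralizerIn S P ≤ P) : F.IsCentric P := by
  refine ⟨hP.1, fun Q hQ => ?_⟩
  obtain ⟨e, he⟩ := isConj_iff.1 hQ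
  haveI := finite_of_le (centralizerIn_le (S := S) Q)
  have hmem : ∀ c : centralizerIn S P,
      (e (Subgroup.inclusion hC c) : Ω) ∈ centralizerIn S Q := by
    intro c
    refine mem_centralizerIn.2 ⟨he.le_right (e _).2, fun y hy => ?_⟩
    have h2 : e (Subgroup.inclusion hC c * e.symm ⟨y, hy⟩) =
        e (e.symm ⟨y, hy⟩ * Subgroup.inclusion hC c) := by
      congr 1
      exact Subtype.ext ((mem_centralizerIn.1 c.2).2 _ (e.symm ⟨y, hy⟩).2)
    simpa [Subtype.ext_iff] using h2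
  have hinj : Function.Injective
      (fun c => (⟨_, hmem c⟩ : centralizerIn S Q)) := by
    intro a b hab
    have h1 : e (Subgroup.inclusion hC a) = e (Subgroup.inclusion hC b) :=
      Subtype.ext (congrArg (fun z : centralizerIn S Q => (z : Ω)) hab)
    exact Subgroup.inclusion_injective _ (e.injective h1)
  have hbij := hinj.bijective_of_nat_card_le (hP.2 Q hQ)
  intro c hc
  obtain ⟨a, ha⟩ := hbij.2 ⟨c, hc⟩
  have hca : (e (Subgroup.inclusion hC a) : Ω) = c := congrArg Subtype.val ha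
  rw [← hca]
  exact (e _).2

/-- A conjugate of a fully automized receptive subgroup maps its normalizer into that subgroup's. -/
theorem exists_normalizer_map [Finite S] {p : ℕ} [Fact p.Prime] (hS : IsPGroup p S)
    (h₁ : F.IsFullyAutomized p P) (h₂ : F.IsReceptive P) (hQ : F.IsConj Q P) :
    ∃ φ ∈ F.Hom (normalizerIn S Q), (∀ x, φ x ∈ normalizerIn S P) ∧
      (Q.subgroupOf (normalizerIn S Q)).map φ = P := by
  obtain ⟨e, he⟩ := isConj_iff.1 hQ
  have hQS : Q ≤ S := he.le_left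
  have hPS : P ≤ S := he.le_right
  haveI := finite_of_le hPS
  obtain ⟨-, R, hR⟩ := h₁
  let X : Subgroup (MulAut P) := (autInducedBy S Q).map (MulAut.congr e).toMonoidHom
  have hXA : X ≤ F.autGroup P := by
    rintro _ ⟨α, hα, rfl⟩
    exact congr_mem_autGroup he (autInducedBy_le_autGroup hQS hα)
  have hXp : IsPGroup p (X.subgroupOf (F.autGroup P)) :=
    ((isPGroup_autInducedBy hS).map _).comap_subtype
  obtain ⟨R', hR'⟩ := hXp.exists_le_sylow
  obtain ⟨β, hβ⟩ := MulAction.exists_smul_eq (F.autGroup P) R' R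
  let e' : Q ≃* P := e.trans (β : MulAut P)
  have he' : IsoIn F e' := he.trans ((mem_autGroup hPS).1 β.2)
  obtain ⟨ψ, hψ, hψe⟩ := IsReceptive_ext h₂ he' (N := normalizerIn S Q) (by
    intro g hg
    obtain ⟨hgS, hgN⟩ := mem_normalizerIn.1 hg
    refine ⟨hgS, hgN, ?_⟩
    have hx : conjAut Q hgN ∈ autInducedBy S Q := conjAut_mem_autInducedBy hgN hgS
    have hxX : MulAut.congr e (conjAut Q hgN) ∈ X := ⟨_, hx, rfl⟩
    let y : F.autGroup P := ⟨_, hXA hxX⟩
    have hy : y ∈ (R' : Subgroup (F.autGroup P)) := hR' hxX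
    have hy2 : β * y * β⁻¹ ∈ (R : Subgroup (F.autGroup P)) := by
      rw [← hβ, Sylow.coe_subgroup_smul]
      exact Subgroup.smul_mem_pointwise_smul y (MulAut.conj β) _ hy
    rw [hR, Subgroup.mem_subgroupOf] at hy2
    obtain ⟨h, hh, hhy⟩ := mem_autInducedBy.1 hy2
    refine ⟨h, hh, fun x z hxz => ?_⟩
    have h3 := hhy (e' x)
    have hz : z = conjAut Q hgN x := Subtype.ext (by simpa using hxz)
    rw [hz, ← h3]
    simp [e', y, MulAut.congr, MulAut.mul_apply, MulAut.inv_apply])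
  have hmap := map_subgroupOf_eq (e := e') (le_normalizerIn hQS) hψe
  refine ⟨ψ, hψ, fun x => ⟨hom_mem hψ x, ?_⟩, hmap⟩
  have := map_mem_normalizer (Q := Q) ψ x (mem_normalizerIn.1 x.2).2
  rwa [hmap] at this

/-- For `P` fully normalized, an extension of an isomorphism `P → Q` to `N_S(P) → N_S(Q)` is onto. -/
theorem range_eq_normalizerIn [Finite S] (hP : F.IsFullyNormalized P) (hQ : F.IsConj P Q)
    {φ : normalizerIn S P →* Ω} (hφ : φ ∈ F.Hom (normalizerIn S P))
    (hv : ∀ x, φ x ∈ normalizerIn S Q) : φ.range = normalizerIn S Q :=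
  range_eq_of_card_le hφ (normalizerIn_le Q) hv (hP.2 Q hQ)

theorem exists_fa_receptive_map [Finite S] {p : ℕ} [Fact p.Prime] (hS : IsPGroup p S)
    (hF : F.IsSaturated p) (hP : P ≤ S) :
    ∃ Q, F.IsConj P Q ∧ F.IsFullyAutomized p Q ∧ F.IsReceptive Q ∧
      ∃ φ ∈ F.Hom (normalizerIn S P), (∀ x, φ x ∈ normalizerIn S Q) ∧
        (P.subgroupOf (normalizerIn S P)).map φ = Q := by
  obtain ⟨Q, hQ, h1, h2⟩ := hF P hP
  exact ⟨Q, hQ, h1, h2, exists_normalizer_map hS h1 h2 hQ⟩

/-- A Sylow subgroup given by a `p`-subgroup that is at least as large. -/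
theorem exists_sylow_eq {G : Type*} [Group G] [Finite G] {p : ℕ} [Fact p.Prime] {H : Subgroup G}
    (hH : IsPGroup p H) (h : p ^ (Nat.card G).factorization p ≤ Nat.card H) :
    ∃ T : Sylow p G, (T : Subgroup G) = H := by
  obtain ⟨T, hT⟩ := hH.exists_le_sylow
  refine ⟨T, (Subgroup.eq_of_le_of_card_ge hT ?_).symm⟩
  rw [T.card_eq_multiplicity]
  exact h

theorem isFullyAutomized_and_fc_of_fn [Finite S] {p : ℕ} [Fact p.Prime] (hS : IsPGroup p S)
    (hF : F.IsSaturated p) (hP : F.IsFullyNormalized P) :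
    F.IsFullyCentralized P ∧ F.IsFullyAutomized p P := by
  obtain ⟨Q, hPQ, ⟨-, R, hR⟩, h2, φ, hφ, hv, hmap⟩ := exists_fa_receptive_map hS hF hP.1
  have hrange := range_eq_normalizerIn hP hPQ hφ hv
  have hPS := hP.1
  have hQS := (isConj_le hPQ).2
  haveI := finite_of_le hPS
  haveI := finite_of_le hQS
  let φP := φ.comp (Subgroup.inclusion (le_normalizerIn hPS))
  have hφP : φP ∈ F.Hom P := restrict_mem hφ (le_normalizerIn hPS)
  have hrP : φP.range = Q := by
    rw [← hmap]
    ext y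
    rw [mem_map_subgroupOf]
    constructor
    · rintro ⟨x, rfl⟩
      exact ⟨x, le_normalizerIn hPS x.2, x.2, rfl⟩
    · rintro ⟨x, hx, hxP, rfl⟩
      exact ⟨⟨x, hxP⟩, rfl⟩
  let e := homIso hφP hrP
  have he : IsoIn F e := isoIn_homIso hφP hrP
  constructor
  · refine ⟨hPS, fun T hT => ?_⟩
    have hQc := (isFullyCentralized_of_receptive h2).2 T (isConj_trans (isConj_symm hPQ) hT)
    refine hQc.trans ?_
    haveI := finite_of_le (centralizerIn_le (S := S) P)
    have hpre : ∀ c : centralizerIn S Q, ∃ a : centralizerIn S P,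
        φ (Subgroup.inclusion (centralizerIn_le_normalizerIn P) a) = c := by
      intro c
      have hc : (c : Ω) ∈ φ.range := hrange ▸ centralizerIn_le_normalizerIn Q c.2
      obtain ⟨a, ha⟩ := hc
      refine ⟨⟨a, mem_centralizerIn.2 ⟨normalizerIn_le P a.2, fun x hx => ?_⟩⟩, ha⟩
      have h5 : φ ⟨x, le_normalizerIn hPS hx⟩ ∈ Q := by
        rw [← hmap, mem_map_subgroupOf]
        exact ⟨x, le_normalizerIn hPS hx, hx, rfl⟩
      have h6 := (mem_centralizerIn.1 c.2).2 _ h5
      rw [← ha, ← map_mul, ← map_mul] at h6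
      exact congrArg Subtype.val (F.injective_of_mem hφ h6)
    choose g hg using hpre
    refine Nat.card_le_card_of_injective g fun a b hab => Subtype.ext ?_
    rw [← hg a, ← hg b, hab]
  · refine ⟨hPS, ?_⟩
    have hsub : autInducedBy S Q ≤ (autInducedBy S P).map (MulAut.congr e).toMonoidHom := by
      intro β hβ
      obtain ⟨h, hh, hhβ⟩ := mem_autInducedBy.1 hβ
      have hhN : h ∈ φ.range := hrange ▸ ⟨hh, mem_normalizer_of_aut hhβ⟩
      obtain ⟨g, hg⟩ := hhN
      refine ⟨conjAut P g.2.2, conjAut_mem_autInducedBy g.2.2 g.2.1, ?_⟩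
      apply MulEquiv.ext
      intro y
      apply Subtype.ext
      rw [hhβ]
      have hy : φ (Subgroup.inclusion (le_normalizerIn hPS) (e.symm y)) = y :=
        congrArg Subtype.val (e.apply_symm_apply y)
      rw [← hg, ← hy, ← map_inv, ← map_mul, ← map_mul]
      exact congrArg φ (Subtype.ext rfl)
    haveI : Finite (F.autGroup P) := inferInstance
    obtain ⟨T, hT⟩ := exists_sylow_eq (H := (autInducedBy S P).subgroupOf (F.autGroup P))
      (isPGroup_autInducedBy hS).comap_subtype (by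
        rw [card_autGroup_eq he, ← R.card_eq_multiplicity, hR,
          Nat.card_congr (Subgroup.subgroupOfEquivOfLe
            (autInducedBy_le_autGroup (F := F) hQS)).toEquiv,
          Nat.card_congr (Subgroup.subgroupOfEquivOfLe
            (autInducedBy_le_autGroup (F := F) hPS)).toEquiv]
        refine (Subgroup.card_le_of_le hsub).trans ?_
        rw [← Nat.card_congr ((autInducedBy S P).equivMapOfInjective _
          (MulAut.congr e).injective).toEquiv])
    exact ⟨T, hT⟩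

theorem isReceptive_of_fc [Finite S] {p : ℕ} [Fact p.Prime] (hS : IsPGroup p S)
    (hF : F.IsSaturated p) (hP : F.IsFullyCentralized P) : F.IsReceptive P := by
  obtain ⟨Q, hPQ, -, h2, φ, hφ, hv, hmap⟩ := exists_fa_receptive_map hS hF hP.1
  have hPS := hP.1
  refine ⟨hPS, fun R ψ hψ hψr => ?_⟩
  haveI := finite_of_le hPS
  have hval : ∀ x : R, ψ x ∈ P := fun x => hψr ▸ ⟨x, rfl⟩
  have hcsurj : ∀ c ∈ centralizerIn S Q, c ∈ φ.range := by
    haveI := finite_of_le (centralizerIn_le (S := S) Q)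
    have hmem : ∀ a : centralizerIn S P,
        φ (Subgroup.inclusion (centralizerIn_le_normalizerIn P) a) ∈ centralizerIn S Q := by
      intro a
      refine ⟨hom_mem hφ _, ?_⟩
      have := map_mem_centralizer (Q := P) φ
        (Subgroup.inclusion (centralizerIn_le_normalizerIn P) a) (mem_centralizerIn.1 a.2).2
      rwa [hmap] at this
    have hinj : Function.Injective fun a => (⟨_, hmem a⟩ : centralizerIn S Q) := fun a b hab =>
      Subgroup.inclusion_injective _ (F.injective_of_mem hφ (congrArg Subtype.val hab))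
    intro c hc
    obtain ⟨a, ha⟩ := (hinj.bijective_of_nat_card_le (hP.2 Q hPQ)).2 ⟨c, hc⟩
    exact ⟨_, congrArg Subtype.val ha⟩
  let χ : R →* Ω := φ.comp (ψ.codRestrict (normalizerIn S P) fun x => le_normalizerIn hPS (hval x))
  have hχ : χ ∈ F.Hom R := comp_mem' hψ hφ (fun x => le_normalizerIn hPS (hval x)) fun _ => rfl
  have hχr : χ.range = Q := by
    rw [← hmap]
    ext y
    rw [mem_map_subgroupOf]
    constructor
    · rintro ⟨x, rfl⟩
      exact ⟨ψ x, le_normalizerIn hPS (hval x), hval x, rfl⟩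
    · rintro ⟨z, hz, hzP, rfl⟩
      rw [← hψr] at hzP
      obtain ⟨x, rfl⟩ := hzP
      exact ⟨x, rfl⟩
  obtain ⟨Φ, hΦ, hΦe⟩ := h2.2 R χ hχ hχr
  have hkey : ∀ g ∈ extender S R ψ, ∃ k : normalizerIn S P, ∀ (x : R)
      (hx : g * (x : Ω) * g⁻¹ ∈ R), χ ⟨_, hx⟩ = φ k * χ x * (φ k)⁻¹ := by
    intro g hg
    obtain ⟨-, hgN, h, hh, hgh⟩ := mem_extender.1 hg
    have hhN : h ∈ Subgroup.normalizer (P : Set Ω) := by
      refine Subgroup.mem_normalizer_fintype fun n hn => ?_
      rw [SetLike.mem_coe, ← hψr] at hn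
      obtain ⟨x, rfl⟩ := hn
      rw [SetLike.mem_coe, ← hgh x ((Subgroup.mem_normalizer_iff.1 hgN _).1 x.2)]
      exact hval _
    refine ⟨⟨h, hh, hhN⟩, fun x hx => ?_⟩
    rw [← map_inv]
    simp only [χ, MonoidHom.coe_comp, Function.comp_apply, ← map_mul]
    exact congrArg φ (Subtype.ext (hgh x hx))
  have hle : extender S R ψ ≤ extender S R χ := by
    intro g hg
    obtain ⟨k, hk⟩ := hkey g hg
    exact mem_extender_of (extender_le ψ hg).1 (extender_le ψ hg).2 (hom_mem hφ k) hk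
  let Φ' : extender S R ψ →* Ω := Φ.comp (Subgroup.inclusion hle)
  have hΦ' : Φ' ∈ F.Hom _ := restrict_mem hΦ hle
  have hΦv : ∀ g, Φ' g ∈ φ.range := by
    intro g
    obtain ⟨k, hk⟩ := hkey g g.2
    have hRN : R ≤ extender S R χ := le_extender (hom_le hψ) (hom_mem hχ)
    have hc : (φ k)⁻¹ * Φ' g ∈ centralizerIn S Q := by
      refine mem_centralizerIn.2
        ⟨S.mul_mem (S.inv_mem (hom_mem hφ k)) (hom_mem hΦ' g), fun q hq => ?_⟩
      rw [← hχr] at hq
      obtain ⟨x, rfl⟩ := hq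
      have hx : (g : Ω) * x * (g : Ω)⁻¹ ∈ R :=
        (Subgroup.mem_normalizer_iff.1 (extender_le ψ g.2).2 _).1 x.2
      have h6 : Φ' g * χ x * (Φ' g)⁻¹ = χ ⟨_, hx⟩ := by
        have h7 : χ x = Φ ⟨x, hRN x.2⟩ := (hΦe x x.2 (hRN x.2)).symm
        have h8 : χ ⟨_, hx⟩ = Φ ⟨(g : Ω) * x * (g : Ω)⁻¹, hRN hx⟩ := (hΦe _ hx (hRN hx)).symm
        rw [h7, h8]
        simp only [Φ', MonoidHom.coe_comp, Function.comp_apply]
        rw [← map_inv, ← map_mul, ← map_mul]
        exact congrArg Φ (Subtype.ext rfl)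
      rw [hk x hx] at h6
      have h9 : Φ' g * χ x = φ k * χ x * (φ k)⁻¹ * Φ' g := mul_inv_eq_iff_eq_mul.mp h6
      calc (φ k)⁻¹ * Φ' g * χ x = (φ k)⁻¹ * (Φ' g * χ x) := mul_assoc _ _ _
        _ = χ x * ((φ k)⁻¹ * Φ' g) := by rw [h9]; group
    obtain ⟨a, ha⟩ := hcsurj _ hc
    exact ⟨k * a, by rw [map_mul, ha, mul_inv_cancel_left]⟩
  obtain ⟨φi, hφi, -, hφii⟩ := exists_inv hφ (rfl : φ.range = φ.range)
  refine ⟨φi.comp (Φ'.codRestrict _ hΦv), F.comp_mem hΦ' hφi hΦv, fun x hR hN => ?_⟩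
  have h10 : Φ' ⟨x, hN⟩ = φ ⟨ψ ⟨x, hR⟩, le_normalizerIn hPS (hval _)⟩ := hΦe x hR (hle hN)
  have h11 : (Φ'.codRestrict _ hΦv) ⟨x, hN⟩ = ⟨_, ⟨_, rfl⟩⟩ := Subtype.ext h10
  rw [MonoidHom.comp_apply, h11]
  exact hφii _ _

end Cfsg.Lib.FusionSys
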