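import Cfsg.Agent.Lib.FusionSys.Tate
import Cfsg.Agent.Lib.FusionSys.Focal
import Cfsg.Agent.Lib.FusionSys.Saturation

/-!
Maps of a system modulo a strongly closed subgroup containing the derived group.
-/

set_option autoImplicit false

namespace Cfsg.Lib.FusionSys

open Cfsg Cfsg.FusionSystem
open scoped commutatorElement

variable {Ω : Type*} [Group Ω] {S : Subgroup Ω} {F : FusionSystem S}

/-- If the automizer of `S` is a `p`-group and `Q ≥ [S,S]` is strongly closed, then every map moves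
each element inside its coset of `Q`. -/
theorem inv_mul_apply_mem_of_stronglyClosed [Finite S] {p : ℕ} [Fact p.Prime] (hS : IsPGroup p S)
    (hF : F.IsSaturated p) (hA : IsPGroup p (F.autGroup S)) {Q : Subgroup Ω}
    (hQ : F.StronglyClosed Q) (hc : ⁅S, S⁆ ≤ Q) (P : Subgroup Ω) (φ : P →* Ω)
    (hφ : φ ∈ F.Hom P) (x : P) : (x : Ω)⁻¹ * φ x ∈ Q := by
  have hconj : ∀ g ∈ S, ∀ x ∈ S, x⁻¹ * (g * x * g⁻¹) ∈ Q := fun g hg x hx => by
    have h := hc (Subgroup.commutator_mem_commutator (S.inv_mem hx) hg)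
    have heq : x⁻¹ * (g * x * g⁻¹) = ⁅x⁻¹, g⁆ := by
      rw [commutatorElement_def]
      simp [mul_assoc]
    rwa [heq]
  let E : FusionSystem S :=
    { Hom := fun P => {φ | φ ∈ F.Hom P ∧ ∀ x : P, (x : Ω)⁻¹ * φ x ∈ Q}
      le_of_mem := fun h => F.le_of_mem h.1
      injective_of_mem := fun h => F.injective_of_mem h.1
      conj_mem := fun {P g} hP hg => ⟨F.conj_mem hP hg, fun x => hconj g hg x (hP x.2)⟩
      comp_mem := by
        rintro P R φ ψ ⟨hφ, hφT⟩ ⟨hψ, hψT⟩ h
        refine ⟨F.comp_mem hφ hψ h, fun x => ?_⟩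
        have h1 := Q.mul_mem (hφT x) (hψT ⟨φ x, h x⟩)
        rw [mul_assoc, mul_inv_cancel_left] at h1
        exact h1
      inv_mem := by
        rintro P φ ⟨hφ, hφT⟩
        obtain ⟨ψ, hψ, hψe⟩ := F.inv_mem hφ
        refine ⟨ψ, ⟨hψ, ?_⟩, hψe⟩
        rintro ⟨_, x, rfl⟩
        rw [hψe]
        simpa using Q.inv_mem (hφT x) }
  refine (le_of_autGroup_le' hS hF E (fun P hP hbig => ?_) P hφ).2 x
  clear! x φ
  have hPn : F.IsFullyNormalized P := by
    rcases hP with rfl | hP
    exacts [isFullyNormalized_top F, hP.2.1]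
  have hPS := hPn.1
  haveI := finite_of_le hPS
  obtain ⟨hPc, -, R, hR⟩ := isFullyAutomized_and_fc_of_fn hS hF hPn
  by_cases hPeq : P = S
  · subst hPeq
    intro α hα
    have htop : (R : Subgroup (F.autGroup P)) = ⊤ :=
      (R.3 (hA.to_subgroup ⊤) le_top).symm
    have h1 : (⟨α, hα⟩ : F.autGroup P) ∈ (R : Subgroup (F.autGroup P)) := htop ▸ trivial
    rw [hR] at h1
    exact autInducedBy_le_autGroup le_rfl h1
  have hPlt : P < S := lt_of_le_of_ne hPS hPeq
  set K : Subgroup (F.autGroup P) := (E.autGroup P).subgroupOf (F.autGroup P)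
  have hmem : ∀ β : F.autGroup P, β ∈ K ↔ ∀ x : P, (x : Ω)⁻¹ * (((β : MulAut P) x : P) : Ω) ∈ Q := by
    intro β
    rw [Subgroup.mem_subgroupOf, mem_autGroup hPS]
    exact ⟨fun h => h.2, fun h => ⟨(mem_autGroup hPS).1 β.2, h⟩⟩
  haveI hKn : K.Normal := by
    refine ⟨fun n hn g => ?_⟩
    rw [hmem] at hn ⊢
    intro x
    set y := ((g : MulAut P))⁻¹ x with hy
    have h1 : (((g : MulAut P) (y⁻¹ * (n : MulAut P) y) : P) : Ω) ∈ Q :=
      stronglyClosed_aut_mem hQ g.2 hPS (hn y)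
    have h2 : (g : MulAut P) (y⁻¹ * (n : MulAut P) y) =
        x⁻¹ * ((g * n * g⁻¹ : F.autGroup P) : MulAut P) x := by
      rw [map_mul, map_inv, hy, MulAut.apply_inv_self]
      rfl
    rw [h2] at h1
    exact h1
  have hRK : (R : Subgroup (F.autGroup P)) ≤ K := by
    rw [hR]
    intro β hβ
    exact autInducedBy_le_autGroup hPS hβ
  have hext : ∀ β : F.autGroup P, (β : MulAut P) ∈ extensibleAut F P → β ∈ K := by
    intro β hβ
    show (β : MulAut P) ∈ E.autGroup P
    refine (Subgroup.closure_le _).2 ?_ hβ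
    rintro α ⟨U, hPU, ψ, hψ, he⟩
    have hcard : Nat.card P < Nat.card U := by
      haveI := finite_of_le (hom_le hψ)
      refine lt_of_le_of_ne (Subgroup.card_le_of_le hPU.le) fun hcc => hPU.ne ?_
      exact Subgroup.eq_of_le_of_card_ge hPU.le hcc.ge
    exact (mem_autGroup hPS).2
      (hom_congr (restrict_mem (hbig U hcard hψ) hPU.le) fun x => (he x).symm)
  have htop := Sylow.normalizer_sup_eq_top' R hRK
  intro α hα
  have hα' : (⟨α, hα⟩ : F.autGroup P) ∈ Subgroup.normalizer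
      ((R : Subgroup (F.autGroup P)) : Set (F.autGroup P)) ⊔ K := htop ▸ trivial
  suffices Subgroup.normalizer ((R : Subgroup (F.autGroup P)) : Set (F.autGroup P)) ⊔ K ≤ K from
    this hα'
  refine sup_le (fun β hβ => hext β ?_) le_rfl
  obtain ⟨g, hg, hgP⟩ := SetLike.exists_of_lt (lt_normalizerIn hS hPlt)
  have hgn : g ∈ Subgroup.normalizer (P : Set Ω) := (mem_normalizerIn.1 hg).2
  have hgS : g ∈ S := (mem_normalizerIn.1 hg).1
  set a : F.autGroup P := ⟨conjAut P hgn,
    autInducedBy_le_autGroup hPS (conjAut_mem_autInducedBy hgn hgS)⟩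
  have ha : β * a * β⁻¹ ∈ (R : Subgroup (F.autGroup P)) := by
    refine (Subgroup.mem_normalizer_iff.1 hβ a).1 ?_
    rw [hR]
    exact conjAut_mem_autInducedBy hgn hgS
  rw [hR] at ha
  obtain ⟨h, hh, hhe⟩ := mem_autInducedBy.1 ha
  refine mem_extensibleAut_of_conj (isReceptive_of_fc hS hF hPc) β.2 hg hgP hh fun x y hy => ?_
  have hy' : y = conjAut P hgn x := Subtype.ext (hy.trans (coe_conjAut P hgn x).symm)
  subst hy'
  have h1 := hhe ((β : MulAut P) x)
  simp only [Subgroup.coe_subtype, Subgroup.coe_mul, Subgroup.coe_inv, MulAut.mul_apply,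
    MulAut.inv_apply_self, a] at h1
  exact h1

/-- The automizer of `S` is a `p`-group when its normalizer system is the inner one. -/
theorem isPGroup_autGroup_of_normalizer_inner [Finite S] {p : ℕ} [Fact p.Prime]
    (hS : IsPGroup p S)
    (hN : ∀ N : FusionSystem (normalizerIn S S), F.IsNormalizerSystem S N →
      ∀ P : Subgroup Ω, N.Hom P = (innerFusionSystem (normalizerIn S S)).Hom P) :
    IsPGroup p (F.autGroup S) := by
  obtain ⟨N, hNs⟩ := exists_normalizerSystem F (le_refl S)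
  have hle : F.autGroup S ≤ autInducedBy S S := by
    intro α hα
    have hi := (mem_autGroup le_rfl).1 hα
    have hm : S.subtype.comp α.toMonoidHom ∈ N.Hom S := by
      rw [hNs]
      refine ⟨hi, le_normalizerIn le_rfl, fun x => le_normalizerIn le_rfl (hom_mem hi x), _,
        restrict_mem hi (sup_le le_rfl le_rfl), fun x => rfl, ?_⟩
      ext y
      rw [mem_map_subgroupOf]
      constructor
      · rintro ⟨x, hx, hxS, rfl⟩
        exact (α ⟨x, hxS⟩).2
      · intro hy
        exact ⟨(α⁻¹ ⟨y, hy⟩ : S), Subgroup.mem_sup_left (α⁻¹ ⟨y, hy⟩).2, (α⁻¹ ⟨y, hy⟩).2,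
          congrArg Subtype.val (MulAut.apply_inv_self S α ⟨y, hy⟩)⟩
    rw [hN N hNs] at hm
    obtain ⟨-, g, hg, h⟩ := hm
    exact mem_autInducedBy.2 ⟨g, normalizerIn_le S hg, h⟩
  exact (isPGroup_autInducedBy hS).to_le hle

theorem frattini_normal_facts [Finite S] {p : ℕ} [Fact p.Prime] (hS : IsPGroup p S) :
    ⁅S, S⁆ ≤ (frattini ↥S).map S.subtype := by
  rw [← map_commutator_self]
  exact Subgroup.map_mono (Cfsg.Lib.PGroup.commutator_le_frattini hS)

/-- Strongly closed between derived and Frattini subgroups forces the inner system. -/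
theorem hom_eq_inner_of_stronglyClosed [Finite S] {p : ℕ} [Fact p.Prime] (hS : IsPGroup p S)
    (hF : F.IsSaturated p) (hA : IsPGroup p (F.autGroup S)) {Q : Subgroup Ω}
    (hQ : F.StronglyClosed Q) (hc : ⁅S, S⁆ ≤ Q) (hQΦ : Q ≤ (frattini ↥S).map S.subtype)
    (P : Subgroup Ω) : F.Hom P = (innerFusionSystem S).Hom P := by
  refine hom_eq_inner_of_le_frattini hS hF ?_ P
  rw [← Subgroup.map_le_map_iff_of_injective S.subtype_injective,
    Subgroup.map_subgroupOf_eq_of_le (hyperfocal_le F)]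
  refine le_trans ?_ hQΦ
  refine (hyperfocal_le_focal F).trans ((Subgroup.closure_le _).2 ?_)
  rintro _ ⟨R, φ, x, hφ, rfl⟩
  exact inv_mul_apply_mem_of_stronglyClosed hS hF hA hQ hc R φ hφ x

end Cfsg.Lib.FusionSys
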