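import Cfsg.Agent.Lib.FusionSys.Criterion

/-!
Fusion systems of finite groups: fully normalized and fully centralized subgroups, saturation, normal subgroups.
Stated for `fusionSystemOfSubgroup H T` with every `p`-subgroup of `H` conjugate in `H` into `T`; the case
`H = ⊤` gives `groupFusionSystem`.
-/

set_option autoImplicit false

namespace Cfsg.Lib.FusionSys

open Cfsg Cfsg.FusionSystem

variable {G : Type*} [Group G] {p : ℕ}

/-- Every `p`-subgroup of `H` is conjugate in `H` to a subgroup of `T`. -/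
def PConjInto (p : ℕ) (H T : Subgroup G) : Prop :=
  ∀ U : Subgroup G, U ≤ H → IsPGroup p U →
    ∃ g ∈ H, ∀ u ∈ U, g * u * g⁻¹ ∈ T

theorem pConjInto_sylow [Finite G] [Fact p.Prime] (S : Sylow p G) :
    PConjInto p ⊤ (S : Subgroup G) := by
  intro U _ hU
  obtain ⟨R, hR⟩ := hU.exists_le_sylow
  obtain ⟨g, hg⟩ := MulAction.exists_smul_eq G R S
  refine ⟨g, Subgroup.mem_top g, fun u hu => ?_⟩
  rw [← hg, Sylow.coe_subgroup_smul]
  exact Subgroup.smul_mem_pointwise_smul u (MulAut.conj g) _ (hR hu)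

theorem groupFusionSystem_eq (S : Subgroup G) :
    groupFusionSystem S = fusionSystemOfSubgroup ⊤ S le_top := by
  refine fusionSystem_ext fun P => Set.ext fun φ => ?_
  constructor
  · rintro ⟨h1, h2, g, hg⟩
    exact ⟨h1, h2, g, Subgroup.mem_top g, hg⟩
  · rintro ⟨h1, h2, g, -, hg⟩
    exact ⟨h1, h2, g, hg⟩

/-- Conjugation of a subgroup. -/
theorem conj_map_mem {U : Subgroup G} {g x : G} :
    x ∈ U.map (MulAut.conj g).toMonoidHom ↔ ∃ u ∈ U, g * u * g⁻¹ = x := Iff.rfl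

theorem card_conj_map (U : Subgroup G) (g : G) :
    Nat.card (U.map (MulAut.conj g).toMonoidHom) = Nat.card U :=
  (Nat.card_congr (U.equivMapOfInjective _ (MulAut.conj g).injective).toEquiv).symm

theorem range_conjHom (P : Subgroup G) (g : G) :
    (conjHom P g).range = P.map (MulAut.conj g).toMonoidHom := by
  ext x
  constructor
  · rintro ⟨y, rfl⟩
    exact ⟨y, y.2, rfl⟩
  · rintro ⟨y, hy, rfl⟩
    exact ⟨⟨y, hy⟩, rfl⟩

theorem card_le_sylow_card [Fact p.Prime] {K X : Subgroup G} [Finite K] (R : Sylow p K)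
    (hR : (R : Subgroup K) = X.subgroupOf K) (hXK : X ≤ K) {U : Subgroup G} (hUK : U ≤ K)
    (hU : IsPGroup p U) : Nat.card U ≤ Nat.card X := by
  obtain ⟨R', hR'⟩ := (hU.of_equiv (Subgroup.subgroupOfEquivOfLe hUK).symm).exists_le_sylow
  have h1 := Subgroup.card_le_of_le hR'
  rw [Nat.card_congr (Subgroup.subgroupOfEquivOfLe hUK).toEquiv, R'.card_eq_multiplicity,
    ← R.card_eq_multiplicity, hR,
    Nat.card_congr (Subgroup.subgroupOfEquivOfLe hXK).toEquiv] at h1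
  exact h1

variable [Finite G] {H T : Subgroup G} {hTH : T ≤ H}

theorem isConj_ofSubgroup_iff {P Q : Subgroup G} (hP : P ≤ T) :
    (fusionSystemOfSubgroup H T hTH).IsConj P Q ↔
      Q ≤ T ∧ ∃ g ∈ H, P.map (MulAut.conj g).toMonoidHom = Q := by
  constructor
  · rintro ⟨φ, ⟨-, hv, g, hg, hφ⟩, rfl⟩
    refine ⟨by rintro _ ⟨x, rfl⟩; exact hv x, g, hg, ?_⟩
    ext x
    constructor
    · rintro ⟨y, hy, rfl⟩
      exact ⟨⟨y, hy⟩, hφ _⟩
    · rintro ⟨y, rfl⟩
      exact ⟨y, y.2, (hφ y).symm⟩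
  · rintro ⟨hQ, g, hg, hmap⟩
    refine ⟨conjHom P g, ⟨hP, fun x => hQ ?_, g, hg, fun _ => rfl⟩, by rw [range_conjHom, hmap]⟩
    rw [← hmap]
    exact ⟨x, x.2, rfl⟩

/-- A `p`-subgroup containing `P` moves `P` to a conjugate in `T`. -/
theorem exists_conj_into (hc : PConjInto p H T) {P U : Subgroup G} (hP : P ≤ T) (hPU : P ≤ U)
    (hUH : U ≤ H) (hU : IsPGroup p U) :
    ∃ g ∈ H, (fusionSystemOfSubgroup H T hTH).IsConj P (P.map (MulAut.conj g).toMonoidHom) ∧
      U.map (MulAut.conj g).toMonoidHom ≤ T := by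
  obtain ⟨g, hg, h⟩ := hc U hUH hU
  have hUT : U.map (MulAut.conj g).toMonoidHom ≤ T := by
    rintro _ ⟨u, hu, rfl⟩
    exact h u hu
  exact ⟨g, hg,
    (isConj_ofSubgroup_iff hP).2 ⟨(Subgroup.map_mono hPU).trans hUT, g, hg, rfl⟩, hUT⟩

theorem exists_sylow_normalizer [Fact p.Prime] (hT : IsPGroup p T) (hc : PConjInto p H T)
    {P K : Subgroup G} (hK : ∀ g, g ∈ K ↔ g ∈ H ∧ g ∈ Subgroup.normalizer (P : Set G))
    (hn : (fusionSystemOfSubgroup H T hTH).IsFullyNormalized P) :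
    ∃ R : Sylow p K, (R : Subgroup K) = (normalizerIn T P).subgroupOf K := by
  have hXK : normalizerIn T P ≤ K := fun x hx => (hK x).2 ⟨hTH hx.1, hx.2⟩
  have hX : IsPGroup p ((normalizerIn T P).subgroupOf K) :=
    ((hT.to_le (normalizerIn_le P))).of_equiv (Subgroup.subgroupOfEquivOfLe hXK).symm
  obtain ⟨R, hR⟩ := hX.exists_le_sylow
  refine ⟨R, (Subgroup.eq_of_le_of_card_ge hR ?_).symm⟩
  let U : Subgroup G := (R : Subgroup K).map K.subtype
  have hPU : P ≤ U := fun x hx =>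
    ⟨⟨x, hXK (le_normalizerIn hn.1 hx)⟩, hR (le_normalizerIn hn.1 hx), rfl⟩
  have hUK : U ≤ K := by
    rintro _ ⟨x, -, rfl⟩
    exact x.2
  obtain ⟨g, -, hconj, hUT⟩ := exists_conj_into (hTH := hTH) hc hn.1 hPU
    (fun x hx => ((hK x).1 (hUK hx)).1) (R.isPGroup'.map _)
  have hle : U.map (MulAut.conj g).toMonoidHom ≤
      normalizerIn T (P.map (MulAut.conj g).toMonoidHom) := by
    refine le_inf hUT ?_
    refine le_trans (Subgroup.map_mono fun x hx => ((hK x).1 (hUK hx)).2) ?_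
    exact Subgroup.le_normalizer_map (MulAut.conj g).toMonoidHom
  calc Nat.card R = Nat.card U :=
        Nat.card_congr ((R : Subgroup K).equivMapOfInjective _ K.subtype_injective).toEquiv
    _ = Nat.card (U.map (MulAut.conj g).toMonoidHom) := (card_conj_map U g).symm
    _ ≤ Nat.card (normalizerIn T (P.map (MulAut.conj g).toMonoidHom)) :=
        Subgroup.card_le_of_le hle
    _ ≤ Nat.card (normalizerIn T P) := hn.2 _ hconj
    _ = Nat.card ((normalizerIn T P).subgroupOf K) :=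
        (Nat.card_congr (Subgroup.subgroupOfEquivOfLe hXK).toEquiv).symm

theorem isFullyNormalized_of_sylow [Fact p.Prime] (hT : IsPGroup p T) {P K : Subgroup G}
    (hP : P ≤ T) (hK : ∀ g, g ∈ K ↔ g ∈ H ∧ g ∈ Subgroup.normalizer (P : Set G))
    (R : Sylow p K) (hR : (R : Subgroup K) = (normalizerIn T P).subgroupOf K) :
    (fusionSystemOfSubgroup H T hTH).IsFullyNormalized P := by
  refine ⟨hP, fun Q hQ => ?_⟩
  obtain ⟨-, g, hg, rfl⟩ := (isConj_ofSubgroup_iff hP).1 hQ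
  rw [← card_conj_map (normalizerIn T (P.map (MulAut.conj g).toMonoidHom)) g⁻¹]
  refine card_le_sylow_card R hR (fun x hx => (hK x).2 ⟨hTH hx.1, hx.2⟩) ?_
    ((hT.to_le (normalizerIn_le _)).map _)
  rintro x ⟨y, ⟨hyT, hyN⟩, rfl⟩
  refine (hK _).2 ⟨?_, ?_⟩
  · exact H.mul_mem (H.mul_mem (H.inv_mem hg) (hTH hyT)) (H.inv_mem (H.inv_mem hg))
  · have h1 := Subgroup.le_normalizer_map (H := P.map (MulAut.conj g).toMonoidHom)
      (MulAut.conj g⁻¹).toMonoidHom ⟨y, hyN, rfl⟩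
    rw [Subgroup.map_map] at h1
    have h2 : (MulAut.conj g⁻¹).toMonoidHom.comp (MulAut.conj g).toMonoidHom = MonoidHom.id G := by
      ext z
      simp [mul_assoc]
    rwa [h2, Subgroup.map_id] at h1

theorem exists_sylow_centralizer [Fact p.Prime] (hT : IsPGroup p T) (hc : PConjInto p H T)
    {P K : Subgroup G} (hK : ∀ g, g ∈ K ↔ g ∈ H ∧ g ∈ Subgroup.centralizer (P : Set G))
    (hn : (fusionSystemOfSubgroup H T hTH).IsFullyCentralized P) :
    ∃ R : Sylow p K, (R : Subgroup K) = (centralizerIn T P).subgroupOf K := by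
  have hXK : centralizerIn T P ≤ K := fun x hx => (hK x).2 ⟨hTH hx.1, hx.2⟩
  have hX : IsPGroup p ((centralizerIn T P).subgroupOf K) :=
    ((hT.to_le (centralizerIn_le P))).of_equiv (Subgroup.subgroupOfEquivOfLe hXK).symm
  obtain ⟨R, hR⟩ := hX.exists_le_sylow
  refine ⟨R, (Subgroup.eq_of_le_of_card_ge hR ?_).symm⟩
  let U₀ : Subgroup G := (R : Subgroup K).map K.subtype
  have hUK : U₀ ≤ K := by
    rintro _ ⟨x, -, rfl⟩
    exact x.2
  have hUn : U₀ ≤ Subgroup.normalizer (P : Set G) := fun x hx =>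
    Subgroup.centralizer_le_normalizer _ ((hK x).1 (hUK hx)).2
  have hU : IsPGroup p (U₀ ⊔ P : Subgroup G) :=
    (R.isPGroup'.map _).to_sup_of_normal_right' (hT.to_le hn.1) hUn
  obtain ⟨g, -, hconj, hUT⟩ := exists_conj_into (hTH := hTH) hc hn.1 le_sup_right
    (sup_le (fun x hx => ((hK x).1 (hUK hx)).1) (hn.1.trans hTH)) hU
  have hle : U₀.map (MulAut.conj g).toMonoidHom ≤
      centralizerIn T (P.map (MulAut.conj g).toMonoidHom) := by
    refine le_inf ((Subgroup.map_mono le_sup_left).trans hUT) ?_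
    rintro _ ⟨x, hx, rfl⟩
    rw [Subgroup.mem_centralizer_iff]
    rintro _ ⟨y, hy, rfl⟩
    rw [← map_mul, ← map_mul, Subgroup.mem_centralizer_iff.1 ((hK x).1 (hUK hx)).2 y hy]
  calc Nat.card R = Nat.card U₀ :=
        Nat.card_congr ((R : Subgroup K).equivMapOfInjective _ K.subtype_injective).toEquiv
    _ = Nat.card (U₀.map (MulAut.conj g).toMonoidHom) := (card_conj_map U₀ g).symm
    _ ≤ Nat.card (centralizerIn T (P.map (MulAut.conj g).toMonoidHom)) :=
        Subgroup.card_le_of_le hle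
    _ ≤ Nat.card (centralizerIn T P) := hn.2 _ hconj
    _ = Nat.card ((centralizerIn T P).subgroupOf K) :=
        (Nat.card_congr (Subgroup.subgroupOfEquivOfLe hXK).toEquiv).symm

theorem isFullyCentralized_of_sylow [Fact p.Prime] (hT : IsPGroup p T) {P K : Subgroup G}
    (hP : P ≤ T) (hK : ∀ g, g ∈ K ↔ g ∈ H ∧ g ∈ Subgroup.centralizer (P : Set G))
    (R : Sylow p K) (hR : (R : Subgroup K) = (centralizerIn T P).subgroupOf K) :
    (fusionSystemOfSubgroup H T hTH).IsFullyCentralized P := by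
  refine ⟨hP, fun Q hQ => ?_⟩
  obtain ⟨-, g, hg, rfl⟩ := (isConj_ofSubgroup_iff hP).1 hQ
  rw [← card_conj_map (centralizerIn T (P.map (MulAut.conj g).toMonoidHom)) g⁻¹]
  refine card_le_sylow_card R hR (fun x hx => (hK x).2 ⟨hTH hx.1, hx.2⟩) ?_
    ((hT.to_le (centralizerIn_le _)).map _)
  rintro x ⟨y, ⟨hyT, hyC⟩, rfl⟩
  refine (hK _).2 ⟨?_, ?_⟩
  · exact H.mul_mem (H.mul_mem (H.inv_mem hg) (hTH hyT)) (H.inv_mem (H.inv_mem hg))
  · rw [Subgroup.mem_centralizer_iff]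
    intro z hz
    have h1 := Subgroup.mem_centralizer_iff.1 hyC (g * z * g⁻¹) ⟨z, hz, rfl⟩
    have h2 : (MulAut.conj g⁻¹).toMonoidHom (g * z * g⁻¹) = z := by simp [mul_assoc]
    calc z * (MulAut.conj g⁻¹).toMonoidHom y
        = (MulAut.conj g⁻¹).toMonoidHom (g * z * g⁻¹ * y) := by rw [map_mul, h2]
      _ = (MulAut.conj g⁻¹).toMonoidHom (y * (g * z * g⁻¹)) := by rw [h1]
      _ = (MulAut.conj g⁻¹).toMonoidHom y * z := by rw [map_mul, h2]

/-- A `p`-subgroup of `N_T(Q) C_H(Q)` is moved into `N_T(Q)` by an element of `C_H(Q)`, for `N_T(Q)` Sylow. -/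
theorem exists_centralizer_conj [Fact p.Prime] (hT : IsPGroup p T) {Q K C : Subgroup G}
    (hK : ∀ g, g ∈ K ↔ g ∈ H ∧ g ∈ Subgroup.normalizer (Q : Set G))
    (hC : ∀ g, g ∈ C ↔ g ∈ H ∧ g ∈ Subgroup.centralizer (Q : Set G))
    (hTH' : T ≤ H)
    (R : Sylow p K) (hR : (R : Subgroup K) = (normalizerIn T Q).subgroupOf K)
    {U : Subgroup G} (hU : IsPGroup p U) (hUL : U ≤ normalizerIn T Q ⊔ C) :
    ∃ c ∈ C, ∀ u ∈ U, c * u * c⁻¹ ∈ normalizerIn T Q := by
  have hXK : normalizerIn T Q ≤ K := fun x hx => (hK x).2 ⟨hTH' hx.1, hx.2⟩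
  have hCK : C ≤ K := fun x hx =>
    (hK x).2 ⟨((hC x).1 hx).1, Subgroup.centralizer_le_normalizer _ ((hC x).1 hx).2⟩
  have hnorm : normalizerIn T Q ≤ Subgroup.normalizer (C : Set G) := by
    intro x hx
    refine Subgroup.mem_normalizer_fintype fun y hy => (hC _).2 ⟨?_, ?_⟩
    · exact H.mul_mem (H.mul_mem (hTH' hx.1) ((hC y).1 hy).1) (H.inv_mem (hTH' hx.1))
    · rw [Subgroup.mem_centralizer_iff]
      intro q hq
      have hq' : x⁻¹ * q * x ∈ Q := (Subgroup.mem_normalizer_iff''.1 hx.2 q).1 hq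
      have h1 := Subgroup.mem_centralizer_iff.1 ((hC y).1 hy).2 _ hq'
      calc q * (x * y * x⁻¹) = x * ((x⁻¹ * q * x) * y) * x⁻¹ := by group
        _ = x * (y * (x⁻¹ * q * x)) * x⁻¹ := by rw [h1]
        _ = x * y * x⁻¹ * q := by group
  let L : Subgroup G := normalizerIn T Q ⊔ C
  have hLK : L ≤ K := sup_le hXK hCK
  have hXL : normalizerIn T Q ≤ L := le_sup_left
  obtain ⟨R₁, hR₁⟩ :=
    ((hT.to_le (normalizerIn_le Q)).of_equiv (Subgroup.subgroupOfEquivOfLe hXL).symm).exists_le_sylow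
  have hR₁eq : (normalizerIn T Q).subgroupOf L = R₁ := by
    refine Subgroup.eq_of_le_of_card_ge hR₁ ?_
    rw [Nat.card_congr (Subgroup.subgroupOfEquivOfLe hXL).toEquiv,
      Nat.card_congr ((R₁ : Subgroup L).equivMapOfInjective _ L.subtype_injective).toEquiv]
    refine card_le_sylow_card R hR hXK ?_ (R₁.isPGroup'.map _)
    rintro _ ⟨x, -, rfl⟩
    exact hLK x.2
  obtain ⟨R₂, hR₂⟩ := (hU.of_equiv (Subgroup.subgroupOfEquivOfLe hUL).symm).exists_le_sylow
  obtain ⟨l, hl⟩ := MulAction.exists_smul_eq L R₂ R₁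
  obtain ⟨s, hs, c, hc, hsc⟩ : ∃ s ∈ normalizerIn T Q, ∃ c ∈ C, s * c = (l : G) := by
    have h1 : (l : G) ∈ ((normalizerIn T Q ⊔ C : Subgroup G) : Set G) := l.2
    rw [Subgroup.coe_mul_of_left_le_normalizer_right _ _ hnorm] at h1
    exact h1
  refine ⟨c, hc, fun u hu => ?_⟩
  have h2 : MulAut.conj l • (⟨u, hUL hu⟩ : L) ∈ (R₁ : Subgroup L) := by
    rw [← hl, Sylow.coe_subgroup_smul]
    exact Subgroup.smul_mem_pointwise_smul _ (MulAut.conj l) _ (hR₂ hu)
  rw [← hR₁eq, Subgroup.mem_subgroupOf] at h2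
  have h3 : (l : G) * u * (l : G)⁻¹ ∈ normalizerIn T Q := h2
  rw [← hsc] at h3
  have h4 := (normalizerIn T Q).mul_mem ((normalizerIn T Q).mul_mem
    ((normalizerIn T Q).inv_mem hs) h3) hs
  convert h4 using 1
  group

/-- The automorphisms induced by the system of a subgroup are those induced by that subgroup. -/
theorem autGroup_ofSubgroup {P : Subgroup G} (hP : P ≤ T) :
    (fusionSystemOfSubgroup H T hTH).autGroup P = autInducedBy H P := by
  ext α
  rw [mem_autGroup hP, mem_autInducedBy]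
  constructor
  · rintro ⟨-, -, g, hg, h⟩
    exact ⟨g, hg, h⟩
  · rintro ⟨g, hg, h⟩
    exact ⟨hP, fun x => hP (α x).2, g, hg, h⟩

theorem exists_sylow_autInducedBy [Fact p.Prime] {P K : Subgroup G} (hTH' : T ≤ H)
    (hK : ∀ g, g ∈ K ↔ g ∈ H ∧ g ∈ Subgroup.normalizer (P : Set G))
    (R : Sylow p K) (hR : (R : Subgroup K) = (normalizerIn T P).subgroupOf K) :
    ∃ R' : Sylow p (autInducedBy H P),
      (R' : Subgroup (autInducedBy H P)) = (autInducedBy T P).subgroupOf (autInducedBy H P) := by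
  let f : K →* autInducedBy H P :=
    (P.normalizerMonoidHom.comp (Subgroup.inclusion fun x hx => ((hK x).1 hx).2)).codRestrict _
      fun x => conjAut_mem_autInducedBy ((hK x).1 x.2).2 ((hK x).1 x.2).1
  have hf : Function.Surjective f := by
    rintro ⟨α, hα⟩
    obtain ⟨g, hg, h⟩ := mem_autInducedBy.1 hα
    refine ⟨⟨g, (hK g).2 ⟨hg, mem_normalizer_of_aut h⟩⟩, Subtype.ext ?_⟩
    apply MulEquiv.ext
    intro x
    exact Subtype.ext (h x).symm
  refine ⟨R.mapSurjective hf, ?_⟩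
  rw [Sylow.coe_mapSurjective, hR]
  ext ⟨α, hα⟩
  rw [Subgroup.mem_subgroupOf]
  constructor
  · rintro ⟨x, hx, hxe⟩
    rw [← hxe]
    exact conjAut_mem_autInducedBy ((hK x).1 x.2).2 hx.1
  · intro h
    obtain ⟨g, hg, hgα⟩ := mem_autInducedBy.1 h
    refine ⟨⟨g, (hK g).2 ⟨hTH' hg, mem_normalizer_of_aut hgα⟩⟩,
      ⟨hg, mem_normalizer_of_aut hgα⟩, Subtype.ext ?_⟩
    apply MulEquiv.ext
    intro x
    exact Subtype.ext (hgα x).symm

theorem isReceptive_ofSubgroup [Fact p.Prime] (hT : IsPGroup p T) (hc : PConjInto p H T)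
    {Q : Subgroup G} (hQ : (fusionSystemOfSubgroup H T hTH).IsFullyNormalized Q) :
    (fusionSystemOfSubgroup H T hTH).IsReceptive Q := by
  let K : Subgroup G := H ⊓ Subgroup.normalizer (Q : Set G)
  let C : Subgroup G := H ⊓ Subgroup.centralizer (Q : Set G)
  obtain ⟨R, hR⟩ := exists_sylow_normalizer (K := K) hT hc (fun _ => Iff.rfl) hQ
  refine ⟨hQ.1, fun P φ hφ hr => ?_⟩
  obtain ⟨hPT, hv, g, hg, hφg⟩ := hφ
  have hUL : (extender T P φ).map (MulAut.conj g).toMonoidHom ≤ normalizerIn T Q ⊔ C := by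
    rintro _ ⟨a, ha, rfl⟩
    obtain ⟨haT, haN, h, hh, hah⟩ := mem_extender.1 ha
    have hhQ : h ∈ normalizerIn T Q := by
      refine ⟨hh, Subgroup.mem_normalizer_fintype fun n hn => ?_⟩
      rw [SetLike.mem_coe, ← hr] at hn ⊢
      obtain ⟨x, rfl⟩ := hn
      exact ⟨_, hah x ((Subgroup.mem_normalizer_iff.1 haN _).1 x.2)⟩
    have hc' : h⁻¹ * (g * a * g⁻¹) ∈ C := by
      refine ⟨H.mul_mem (H.inv_mem (hTH hh))
        (H.mul_mem (H.mul_mem hg (hTH haT)) (H.inv_mem hg)), ?_⟩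
      show _ ∈ Subgroup.centralizer (Q : Set G)
      rw [Subgroup.mem_centralizer_iff]
      intro q hq
      rw [SetLike.mem_coe, ← hr] at hq
      obtain ⟨x, rfl⟩ := hq
      have h1 := hah x ((Subgroup.mem_normalizer_iff.1 haN _).1 x.2)
      rw [hφg, hφg] at h1
      rw [hφg]
      calc g * (x : G) * g⁻¹ * (h⁻¹ * (g * a * g⁻¹))
          = h⁻¹ * (h * (g * (x : G) * g⁻¹) * h⁻¹) * (g * a * g⁻¹) := by group
        _ = h⁻¹ * (g * (a * (x : G) * a⁻¹) * g⁻¹) * (g * a * g⁻¹) := by rw [h1]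
        _ = h⁻¹ * (g * a * g⁻¹) * (g * (x : G) * g⁻¹) := by group
    have h2 := Subgroup.mul_mem _ (Subgroup.mem_sup_left (T := C) hhQ)
      (Subgroup.mem_sup_right (S := normalizerIn T Q) hc')
    simpa [mul_assoc] using h2
  obtain ⟨c, hcC, hcu⟩ := exists_centralizer_conj (K := K) (C := C) hT (fun _ => Iff.rfl)
    (fun _ => Iff.rfl) hTH R hR
    ((hT.to_le ((extender_le φ).trans (normalizerIn_le P))).map _) hUL
  refine ⟨conjHom (extender T P φ) (c * g),
    ⟨(extender_le φ).trans (normalizerIn_le P), fun x => ?_, c * g, H.mul_mem hcC.1 hg,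
      fun _ => rfl⟩, fun x hP hN => ?_⟩
  · have h3 := (hcu _ ⟨(x : G), x.2, rfl⟩).1
    simpa [conjHom, mul_assoc] using h3
  · have hq : φ ⟨x, hP⟩ ∈ Q := hr ▸ ⟨_, rfl⟩
    rw [hφg] at hq ⊢
    have h4 : g * x * g⁻¹ * c = c * (g * x * g⁻¹) := Subgroup.mem_centralizer_iff.1 hcC.2 _ hq
    show (c * g) * x * (c * g)⁻¹ = g * x * g⁻¹
    calc (c * g) * x * (c * g)⁻¹ = c * (g * x * g⁻¹) * c⁻¹ := by group
      _ = g * x * g⁻¹ := by rw [← h4, mul_inv_cancel_right]

theorem isFullyAutomized_ofSubgroup [Fact p.Prime] (hT : IsPGroup p T) (hc : PConjInto p H T)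
    {Q : Subgroup G} (hQ : (fusionSystemOfSubgroup H T hTH).IsFullyNormalized Q) :
    (fusionSystemOfSubgroup H T hTH).IsFullyAutomized p Q := by
  obtain ⟨R, hR⟩ := exists_sylow_normalizer (K := H ⊓ Subgroup.normalizer (Q : Set G)) hT hc
    (fun _ => Iff.rfl) hQ
  refine ⟨hQ.1, ?_⟩
  rw [autGroup_ofSubgroup hQ.1]
  exact exists_sylow_autInducedBy hTH (fun _ => Iff.rfl) R hR

theorem isSaturated_ofSubgroup [Fact p.Prime] (hT : IsPGroup p T) (hc : PConjInto p H T) :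
    (fusionSystemOfSubgroup H T hTH).IsSaturated p :=
  isSaturated_of_receptive hT (isFullyAutomized_ofSubgroup hT hc (isFullyNormalized_top _))
    fun _ hP => isReceptive_ofSubgroup hT hc hP

theorem isSaturated_groupFusionSystem [Fact p.Prime] (S : Sylow p G) :
    (groupFusionSystem (S : Subgroup G)).IsSaturated p := by
  rw [groupFusionSystem_eq]
  exact isSaturated_ofSubgroup S.isPGroup' (pConjInto_sylow S)

theorem autGroup_groupFusionSystem (S : Subgroup G) {P : Subgroup G} (hP : P ≤ S) :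
    (groupFusionSystem S).autGroup P = autInducedBy ⊤ P := by
  rw [groupFusionSystem_eq, autGroup_ofSubgroup hP]

/-- A normal `p`-subgroup is normal in the fusion system. -/
theorem isNormal_groupFusionSystem (S : Sylow p G) (R : Subgroup G) [R.Normal]
    (hRS : R ≤ (S : Subgroup G)) : (groupFusionSystem (S : Subgroup G)).IsNormal R := by
  refine ⟨hRS, ?_⟩
  rintro P φ ⟨hP, hv, g, hg⟩
  refine ⟨conjHom (P ⊔ R) g, ⟨sup_le hP hRS, ?_, g, fun _ => rfl⟩, fun x => (hg x).symm, ?_⟩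
  · intro x
    have hle : (P ⊔ R).map (MulAut.conj g).toMonoidHom ≤ (S : Subgroup G) := by
      rw [Subgroup.map_sup, sup_le_iff]
      constructor
      · rintro _ ⟨y, hy, rfl⟩
        have := hv ⟨y, hy⟩
        rw [hg] at this
        exact this
      · rintro _ ⟨y, hy, rfl⟩
        exact hRS (Subgroup.Normal.conj_mem inferInstance y hy g)
    exact hle ⟨x, x.2, rfl⟩
  · ext y
    rw [mem_map_subgroupOf]
    constructor
    · rintro ⟨x, hx, hxR, rfl⟩
      exact Subgroup.Normal.conj_mem inferInstance x hxR g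
    · intro hy
      have hy' : g⁻¹ * y * g⁻¹⁻¹ ∈ R := Subgroup.Normal.conj_mem inferInstance y hy g⁻¹
      exact ⟨_, Subgroup.mem_sup_right hy', hy', by simp [conjHom, mul_assoc]⟩

end Cfsg.Lib.FusionSys
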