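import Cfsg.Agent.Lib.FusionSys.Simple
import Cfsg.Agent.Lib.FusionSys.ModClosed
import Cfsg.Agent.Lib.FusionSys.OfGroup
import Cfsg.Agent.Lib.ZStar.Main
import Cfsg.Agent.S0111
import Cfsg.Agent.Lib.DihedralAut
import Cfsg.Agent.Lib.TwoGroup.Wreathed
import Cfsg.Agent.Lib.TwoGroup.AutChain
import Cfsg.Agent.Lib.TwoGroup.QuasiDihedral
import Mathlib.GroupTheory.Focal

/-!
Simplicity of the 2-fusion system of a simple group whose Sylow 2-subgroup has an abelian subgroup of index 2
and of 2-rank at most two (dihedral, semidihedral and wreathed groups).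
-/

set_option autoImplicit false

namespace Cfsg.Lib.FusionSys

open Cfsg Cfsg.FusionSystem
open scoped commutatorElement

variable {G : Type*} [Group G] [Finite G]

theorem conjHom_mem_group (S : Sylow 2 G) {x g : G} (hx : x ∈ (S : Subgroup G))
    (hgx : g * x * g⁻¹ ∈ (S : Subgroup G)) :
    (MulAut.conj g).toMonoidHom.comp (Subgroup.zpowers x).subtype ∈
      (groupFusionSystem (S : Subgroup G)).Hom (Subgroup.zpowers x) := by
  refine ⟨Subgroup.zpowers_le.2 hx, fun y => ?_, g, fun y => rfl⟩
  obtain ⟨k, hk⟩ := Subgroup.mem_zpowers_iff.1 y.2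
  show MulAut.conj g (y : G) ∈ (S : Subgroup G)
  rw [← hk, map_zpow]
  exact zpow_mem (by simpa using hgx) k

/-- A strongly closed subgroup contains every conjugate in the Sylow subgroup of its elements. -/
theorem conj_mem_of_stronglyClosed (S : Sylow 2 G) {T : Subgroup G}
    (hT : (groupFusionSystem (S : Subgroup G)).StronglyClosed T) {x g : G} (hx : x ∈ T)
    (hgx : g * x * g⁻¹ ∈ (S : Subgroup G)) : g * x * g⁻¹ ∈ T :=
  hT.2 (Subgroup.zpowers x) (Subgroup.zpowers_le.2 hx) _ (conjHom_mem_group S (hT.1 hx) hgx)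
    ⟨x, Subgroup.mem_zpowers x⟩

/-- In a simple nonabelian group no strongly closed subgroup has exactly one involution. -/
theorem false_of_stronglyClosed_unique_involution [IsSimpleGroup G]
    (hG : ¬ IsMulCommutative G) (S : Sylow 2 G) {T : Subgroup G}
    (hT : (groupFusionSystem (S : Subgroup G)).StronglyClosed T) {z : G} (hz : orderOf z = 2)
    (hzT : z ∈ T) (huniq : ∀ x ∈ T, orderOf x = 2 → x = z) : False := by
  have hiso : IsIsolatedInvolution z := Invol.isolated_of_sylow S hz fun g hg =>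
    huniq _ (conj_mem_of_stronglyClosed S hT hzT hg) (by rw [Invol.orderOf_conj_eq, hz])
  have hO : oddCore G = ⊥ := by
    rcases Subgroup.Normal.eq_bot_or_eq_top (inferInstance : (oddCore G).Normal) with h | h
    · exact h
    · exfalso
      have h1 := ZStar.odd_card_oddCore (G := G)
      rw [h, Subgroup.card_top, Nat.odd_iff] at h1
      have h2 := orderOf_dvd_natCard z
      rw [hz] at h2
      omega
  have hzc := ZStar.mem_center_of_isolated hO hiso
  rcases Subgroup.Normal.eq_bot_or_eq_top (inferInstance : (Subgroup.center G).Normal) with h | h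
  · rw [h, Subgroup.mem_bot] at hzc
    rw [hzc, orderOf_one] at hz
    exact absurd hz (by norm_num)
  · exact hG ⟨⟨fun a b => (Subgroup.mem_center_iff.1 (h ▸ Subgroup.mem_top b) a)⟩⟩

/-- In a perfect group a strongly closed subgroup containing the derived group of the Sylow subgroup,
whose automizer is a 2-group, is the whole Sylow subgroup. -/
theorem stronglyClosed_eq_of_commutator_le (hperf : commutator G = ⊤) (S : Sylow 2 G)
    (hA : IsPGroup 2 ((groupFusionSystem (S : Subgroup G)).autGroup (S : Subgroup G)))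
    {T : Subgroup G} (hT : (groupFusionSystem (S : Subgroup G)).StronglyClosed T)
    (hc : ⁅(S : Subgroup G), (S : Subgroup G)⁆ ≤ T) : T = S := by
  haveI : Fact (Nat.Prime 2) := ⟨Nat.prime_two⟩
  refine le_antisymm hT.1 ?_
  have hfoc := Subgroup.commutator_inf_eq_focalSubgroup S
  rw [hperf, top_inf_eq] at hfoc
  refine hfoc.trans_le ?_
  rw [Subgroup.focalSubgroup_def, Subgroup.closure_le]
  rintro w ⟨hw, x, hx, u, rfl⟩
  have hy : x⁻¹ ∈ (S : Subgroup G) := inv_mem hx
  have hmul : x⁻¹ * ⁅x, u⁆ = u * x⁻¹ * u⁻¹ := by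
    rw [commutatorElement_def]
    group
  have huy : u * x⁻¹ * u⁻¹ ∈ (S : Subgroup G) := hmul ▸ mul_mem hy hw
  have h := inv_mul_apply_mem_of_stronglyClosed S.2 (isSaturated_groupFusionSystem S) hA hT hc
    (Subgroup.zpowers x⁻¹) _ (conjHom_mem_group S hy huy) ⟨x⁻¹, Subgroup.mem_zpowers _⟩
  simpa [commutatorElement_def, mul_assoc] using h

/-- A normal subgroup of a group with an abelian subgroup of index two lies in it or contains the derived group. -/
theorem le_or_commutator_le {X : Type*} [Group X] {A : Subgroup X} (hA : IsMulCommutative A)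
    (hAi : A.index = 2) (T : Subgroup X) [hT : T.Normal] : T ≤ A ∨ commutator X ≤ T := by
  by_cases hle : T ≤ A
  · exact Or.inl hle
  right
  obtain ⟨t, htT, htA⟩ := SetLike.not_le_iff_exists.1 hle
  have hmod : ∀ g : X, ∃ α ∈ A, QuotientGroup.mk' T g = QuotientGroup.mk' T α := fun g => by
    by_cases hg : g ∈ A
    · exact ⟨g, hg, rfl⟩
    refine ⟨g * t, (Subgroup.mul_mem_iff_of_index_two hAi).2 ⟨fun h => absurd h hg, fun h => absurd h htA⟩, ?_⟩
    rw [map_mul]
    simp [(QuotientGroup.eq_one_iff t).2 htT]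
  rw [commutator_def, Subgroup.commutator_le]
  intro a _ b _
  obtain ⟨α, hα, ha⟩ := hmod a
  obtain ⟨β, hβ, hb⟩ := hmod b
  rw [← QuotientGroup.eq_one_iff]
  show QuotientGroup.mk' T ⁅a, b⁆ = 1
  have hαβ : α * β = β * α := congrArg Subtype.val (hA.is_comm.comm ⟨α, hα⟩ ⟨β, hβ⟩)
  rw [commutatorElement_def, map_mul, map_mul, map_mul, map_inv, map_inv, ha, hb, ← map_mul, hαβ]
  simp

theorem mulAut_autGroup_le {S : Subgroup G} (F : FusionSystem S) (h : IsPGroup 2 (MulAut S)) :
    IsPGroup 2 (F.autGroup S) :=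
  h.to_subgroup _

/-- The 2-fusion system of a nonabelian simple group is simple if the Sylow subgroup has an abelian subgroup
of index two with at most three involutions and an involution outside it, and its automorphism group is a
2-group. -/
theorem isSimple_two_of_abelian_index_two [IsSimpleGroup G] (hG : ¬ IsMulCommutative G)
    (S : Sylow 2 G) (hAut : IsPGroup 2 (MulAut (S : Subgroup G)))
    (A : Subgroup (S : Subgroup G)) (hA : IsMulCommutative A) (hAi : A.index = 2)
    (hrank : ∀ x ∈ A, ∀ y ∈ A, ∀ w ∈ A, orderOf x = 2 → orderOf y = 2 → orderOf w = 2 →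
      x ≠ y → w = x ∨ w = y ∨ w = x * y)
    (hout : ∃ t, t ∉ A ∧ orderOf t = 2) :
    (groupFusionSystem (S : Subgroup G)).IsSimple 2 := by
  haveI : Fact (Nat.Prime 2) := ⟨Nat.prime_two⟩
  have hsat := isSaturated_groupFusionSystem S
  have hA2 := mulAut_autGroup_le (groupFusionSystem (S : Subgroup G)) hAut
  have hperf : commutator G = ⊤ := by
    rcases Subgroup.Normal.eq_bot_or_eq_top (inferInstance : (commutator G).Normal) with h | h
    · exact absurd ((commutator_eq_bot_iff_center_eq_top (G := G)).1 h) fun hc =>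
        hG ⟨⟨fun a b => (Subgroup.mem_center_iff.1 (show b ∈ Subgroup.center G by rw [hc]; trivial) a)⟩⟩
    · exact h
  refine isSimple_of_forall hsat ?_ ?_ ?_
  · obtain ⟨t, -, ht⟩ := hout
    intro hS
    have h1 : t = 1 := Subtype.ext (by simpa [hS] using t.2)
    rw [h1, orderOf_one] at ht
    exact absurd ht (by norm_num)
  · intro T hT
    by_cases hT1 : T = ⊥
    · exact Or.inl hT1
    right
    set T' : Subgroup (S : Subgroup G) := T.subgroupOf (S : Subgroup G) with hT'
    haveI : T'.Normal := ⟨fun n hn g => by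
      show ((g * n * g⁻¹ : (S : Subgroup G)) : G) ∈ T
      push_cast
      exact conj_mem_of_stronglyClosed S hT hn (g * n * g⁻¹).2⟩
    rcases le_or_commutator_le hA hAi T' with hle | hle
    · exfalso
      obtain ⟨t, htA, ht⟩ := hout
      obtain ⟨z, hzT, hz⟩ : ∃ z ∈ T, orderOf z = 2 := by
        obtain ⟨k, hk⟩ := IsPGroup.iff_card.1 (S.2.to_le hT.1)
        have h2 : 2 ∣ Nat.card T := by
          rw [hk]
          refine dvd_pow_self 2 fun hk0 => hT1 (Subgroup.card_eq_one.1 ?_)
          rw [hk, hk0, pow_zero]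
        obtain ⟨z, hz⟩ := exists_prime_orderOf_dvd_card' (G := T) 2 h2
        exact ⟨z, z.2, by rwa [Subgroup.orderOf_coe]⟩
      by_cases huniq : ∀ x ∈ T, orderOf x = 2 → x = z
      · exact false_of_stronglyClosed_unique_involution hG S hT hz hzT huniq
      push Not at huniq
      obtain ⟨x, hxT, hx, hxz⟩ := huniq
      have hAG : A.map (S : Subgroup G).subtype ≤ (S : Subgroup G) := Subgroup.map_subtype_le A
      have hinv : ∀ w : (S : Subgroup G), w ∈ A → orderOf w = 2 → w ∈ T' := by
        intro w hw hwo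
        rcases hrank ⟨z, hT.1 hzT⟩ (hle (show _ ∈ T' from hzT)) ⟨x, hT.1 hxT⟩
          (hle (show _ ∈ T' from hxT)) w hw ((Subgroup.orderOf_coe _).symm.trans hz)
          ((Subgroup.orderOf_coe _).symm.trans hx) hwo
          (fun h => hxz (congrArg Subtype.val h).symm) with rfl | rfl | rfl
        exacts [hzT, hxT, T.mul_mem hzT hxT]
      rcases Cfsg.Agent.S0111.result S (A.map (S : Subgroup G).subtype) hAG (by
          rw [Subgroup.relIndex, Subgroup.subgroupOf,
            Subgroup.comap_map_eq_self_of_injective (S : Subgroup G).subtype_injective]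
          exact hAi) (t : G) (by rw [Subgroup.orderOf_coe, ht]) t.2
          (fun h => htA (by obtain ⟨a, ha, hat⟩ := h; rwa [← Subtype.ext hat])) with
        ⟨M, hM, hMi, -⟩ | ⟨g, a, ha, hag⟩
      · rcases hM.eq_bot_or_eq_top with h | h
        · rw [h, Subgroup.index_bot] at hMi
          haveI := isCyclic_of_prime_card (p := 2) hMi
          exact hG ⟨⟨fun a b => (IsCyclic.commGroup (α := G)).mul_comm a b⟩⟩
        · rw [h, Subgroup.index_top] at hMi
          omega
      have hao : orderOf a = 2 := by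
        rw [← Subgroup.orderOf_coe]
        show orderOf ((S : Subgroup G).subtype a) = 2
        rw [hag, Invol.orderOf_conj_eq, Subgroup.orderOf_coe, ht]
      have haT : g * (t : G) * g⁻¹ ∈ T := hag ▸ hinv a ha hao
      have h3 := conj_mem_of_stronglyClosed S hT haT (g := g⁻¹) (by
        simpa [mul_assoc] using t.2)
      exact htA (hle (show (t : G) ∈ T from by simpa [mul_assoc] using h3))
    · refine stronglyClosed_eq_of_commutator_le hperf S hA2 hT ?_
      rw [← Subgroup.map_subtype_commutator]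
      exact (Subgroup.map_mono hle).trans (Subgroup.map_subgroupOf_eq_of_le hT.1).le
  · intro E _ hEi β hβ
    obtain ⟨k, hk⟩ := hA2 ⟨β, hβ⟩
    exact autGroup_pElement_mem hEi
      (isFullyAutomized_and_fc_of_fn S.2 hsat (isFullyNormalized_top _)).2 hβ
      (congrArg Subtype.val hk)

/-- The dihedral and semidihedral case. -/
theorem isSimple_two_of_cyclic_index_two [IsSimpleGroup G] (hG : ¬ IsMulCommutative G)
    (S : Sylow 2 G) (hAut : IsPGroup 2 (MulAut (S : Subgroup G))) (A : Subgroup (S : Subgroup G))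
    [IsCyclic A] (hAi : A.index = 2) (hout : ∃ t, t ∉ A ∧ orderOf t = 2) :
    (groupFusionSystem (S : Subgroup G)).IsSimple 2 := by
  letI := IsCyclic.commGroup (α := A)
  exact isSimple_two_of_abelian_index_two hG S hAut A ⟨⟨fun a b => mul_comm a b⟩⟩ hAi
    (fun x hx y hy _ _ hxo hyo _ hne => absurd (Invol.eq_of_pow_two_group_cyclic ‹IsCyclic A› hx hy hxo hyo) hne) hout

theorem isSimple_two_of_dihedral [IsSimpleGroup G] (hG : ¬ IsMulCommutative G) (S : Sylow 2 G) {n : ℕ}
    (hn : 3 ≤ n) (e : (S : Subgroup G) ≃* DihedralGroup n) :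
    (groupFusionSystem (S : Subgroup G)).IsSimple 2 := by
  haveI : NeZero n := ⟨by omega⟩
  set x := e.symm (DihedralGroup.r 1) with hx
  have hxo : orderOf x = n := by rw [hx, MulEquiv.orderOf_eq, DihedralGroup.orderOf_r_one]
  refine isSimple_two_of_cyclic_index_two hG S (DihedralAut.isPGroup_mulAut_dihedral S.2 hn e) (Subgroup.zpowers x) ?_
    ⟨e.symm (DihedralGroup.sr 0), ?_, ?_⟩
  · have h := Subgroup.card_mul_index (Subgroup.zpowers x)
    rw [Nat.card_zpowers, hxo, Nat.card_congr e.toEquiv, DihedralGroup.nat_card, mul_comm 2 n] at h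
    exact Nat.eq_of_mul_eq_mul_left (by omega) h
  · intro h
    obtain ⟨k, hk⟩ := Subgroup.mem_zpowers_iff.1 h
    have h2 := congrArg e hk
    simp [hx, map_zpow] at h2
  · rw [MulEquiv.orderOf_eq, DihedralGroup.orderOf_sr]

theorem isSimple_two_of_quasiDihedral [IsSimpleGroup G] (hG : ¬ IsMulCommutative G) (S : Sylow 2 G)
    (h : Cfsg.IsQuasiDihedral (S : Subgroup G)) :
    (groupFusionSystem (S : Subgroup G)).IsSimple 2 := by
  obtain ⟨n, ⟨d⟩⟩ := TwoGroup.exists_sd h
  exact isSimple_two_of_cyclic_index_two hG S (DihedralAut.isPGroup_mulAut_quasiDihedral S.2 h)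
    (Subgroup.zpowers d.x) d.index_x ⟨d.y, d.y_notMem, d.hy⟩

theorem isPGroup_mulAut_wreathed {X : Type*} [Group X] [Finite X] {n : ℕ} (d : TwoGroup.W X n) :
    IsPGroup 2 (MulAut X) := by
  have hexp : ∀ b ∈ d.A, b ^ 2 ^ n = 1 := by
    rintro _ ⟨a, b, rfl⟩
    rw [← zpow_natCast, d.e_zpow, d.e_eq_one, TwoGroup.W.N]
    push_cast
    exact ⟨dvd_mul_right _ _, dvd_mul_right _ _⟩
  refine TwoGroup.isPGroup_aut (g := d.e 1 0) (c := d.e 1 1) d.index_A (fun φ b hb => ?_) ⟨1, 0, rfl⟩
    ⟨1, 1, rfl⟩ hexp (d.e_comm 1 0 1 1) ?_ fun φ => ?_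
  · have hU : d.A.map φ.toMonoidHom = d.A := by
      refine d.abelian_unique ?_ (by
        rw [Subgroup.card_map_of_injective φ.injective, d.card_A])
      haveI := d.A_comm
      infer_instance
    exact hU ▸ Subgroup.mem_map_of_mem φ.toMonoidHom hb
  · rintro _ ⟨a, b, rfl⟩
    refine ⟨a - b, b, ?_⟩
    rw [d.e_zpow, d.e_zpow, d.e_mul]
    congr 1 <;> ring
  · rw [← d.center_eq]
    have h : d.e 1 1 ∈ Subgroup.center X := by rw [d.center_eq]; exact Subgroup.mem_zpowers _
    rw [Subgroup.mem_center_iff]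
    intro y
    have h2 := congrArg φ (Subgroup.mem_center_iff.1 h (φ.symm y))
    simpa using h2

theorem isSimple_two_of_wreathed [IsSimpleGroup G] (hG : ¬ IsMulCommutative G) (S : Sylow 2 G)
    (h : Cfsg.IsWreathed (S : Subgroup G)) :
    (groupFusionSystem (S : Subgroup G)).IsSimple 2 := by
  obtain ⟨n, ⟨d⟩⟩ := TwoGroup.exists_w h
  have hcl : ∀ w ∈ d.A, orderOf w = 2 → w = d.e (TwoGroup.W.H n) 0 ∨ w = d.e 0 (TwoGroup.W.H n) ∨
      w = d.e (TwoGroup.W.H n) (TwoGroup.W.H n) := fun w hw hwo => by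
    rcases d.involution_cases hwo with h | h | h | ⟨a, rfl⟩
    exacts [Or.inl h, Or.inr (Or.inl h), Or.inr (Or.inr h), absurd hw (d.ez_notMem _ _)]
  refine isSimple_two_of_abelian_index_two hG S (isPGroup_mulAut_wreathed d) d.A d.A_comm d.index_A ?_
    ⟨d.z, d.z_notMem, d.hz⟩
  have hN := d.pow_facts.1
  intro x hx y hy w hw hxo hyo hwo hne
  rcases hcl x hx hxo with rfl | rfl | rfl <;> rcases hcl y hy hyo with rfl | rfl | rfl <;>
    rcases hcl w hw hwo with rfl | rfl | rfl <;>
    first
    | exact absurd rfl hne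
    | exact Or.inl rfl
    | exact Or.inr (Or.inl rfl)
    | (refine Or.inr (Or.inr ?_); rw [d.e_mul, d.e_eq, hN]; constructor <;> ring_nf <;> norm_num)

end Cfsg.Lib.FusionSys
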