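import Mathlib.GroupTheory.Sylow
import Mathlib.GroupTheory.Nilpotent
import Cfsg.Prelude.Def_EvenType
import Cfsg.Agent.Lib.Invol.SylowTools

/-!
Strongly `p`-embedded subgroups, as defined in the Prelude through `Γ_{P,1}`.
-/

set_option autoImplicit false

namespace Cfsg.Lib.FusionSys

open Cfsg
open scoped Pointwise

variable {G : Type*} [Group G] {p : ℕ}

theorem ne_bot_of_not_pRankLE_zero {Q : Subgroup G} (h : ¬ PRankLE p 0 Q) : Q ≠ ⊥ := by
  rintro rfl
  exact h fun A _ _ => by simp [Subsingleton.elim A ⊥]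

theorem not_pRankLE_zero [Finite G] [Fact p.Prime] {Q : Subgroup G} (hQ : IsPGroup p Q)
    (hne : Q ≠ ⊥) : ¬ PRankLE p 0 Q := by
  intro h
  obtain ⟨n, hn, hc⟩ := hQ.nontrivial_iff_card.mp ((Subgroup.nontrivial_iff_ne_bot Q).2 hne)
  obtain ⟨x, hx⟩ := exists_prime_orderOf_dvd_card' (G := Q) p (hc ▸ dvd_pow_self p hn.ne')
  have h1 := h (Subgroup.zpowers x) inferInstance fun a ha => by
    obtain ⟨k, rfl⟩ := Subgroup.mem_zpowers_iff.1 ha
    rw [← zpow_natCast, ← zpow_mul, mul_comm, zpow_mul, zpow_natCast, ← hx, pow_orderOf_eq_one,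
      one_zpow]
  rw [Nat.card_zpowers, hx, pow_zero] at h1
  exact (Fact.out : p.Prime).one_lt.not_ge h1

theorem normalizer_le_kGeneratedCore [Finite G] [Fact p.Prime] {P Q : Subgroup G}
    (hP : IsPGroup p P) (hQP : Q ≤ P) (hne : Q ≠ ⊥) :
    Subgroup.normalizer (Q : Set G) ≤ kGeneratedCore p 1 P :=
  le_iSup (fun Q : {Q : Subgroup G // Q ≤ P ∧ ¬ PRankLE p (1 - 1) Q} =>
    Subgroup.normalizer ((Q : Subgroup G) : Set G)) ⟨Q, hQP, fun h => not_pRankLE_zero (hP.to_le hQP) hne (by simpa only [Nat.sub_self] using h)⟩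

theorem kGeneratedCore_le_of {P Y : Subgroup G}
    (h : ∀ Q : Subgroup G, Q ≤ P → Q ≠ ⊥ → Subgroup.normalizer (Q : Set G) ≤ Y) :
    kGeneratedCore p 1 P ≤ Y :=
  iSup_le fun Q => h Q Q.2.1 (ne_bot_of_not_pRankLE_zero Q.2.2)

theorem lt_inf_normalizer_self [Finite G] [Fact p.Prime] {R D : Subgroup G} (hR : IsPGroup p R)
    (hD : D < R) : D < R ⊓ Subgroup.normalizer (D : Set G) := by
  haveI : Group.IsNilpotent R := hR.isNilpotent
  have h1 : D.subgroupOf R < ⊤ := by
    rw [lt_top_iff_ne_top, Ne, Subgroup.subgroupOf_eq_top]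
    exact not_le_of_gt hD
  obtain ⟨g, hgN, hgD⟩ :=
    SetLike.exists_of_lt (Group.normalizerCondition_of_isNilpotent (G := R) _ h1)
  refine lt_of_le_of_ne (le_inf hD.le Subgroup.le_normalizer) fun he => hgD ?_
  rw [Subgroup.mem_subgroupOf, he]
  refine ⟨g.2, Subgroup.mem_normalizer_fintype fun n hn => ?_⟩
  exact (Subgroup.mem_normalizer_iff.1 hgN ⟨n, hD.le hn⟩).1 hn

theorem sylow_card_eq [Finite G] [Fact p.Prime] (P Q : Sylow p G) :
    Nat.card (P : Subgroup G) = Nat.card (Q : Subgroup G) := by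
  rw [P.card_eq_multiplicity, Q.card_eq_multiplicity]

/-- If `Y` contains the normalizers of the nontrivial subgroups of a Sylow subgroup `P`, the Sylow subgroups meeting
`P` nontrivially are conjugate to it under `Y`. -/
theorem exists_conj_of_meet [Finite G] [Fact p.Prime] {Y : Subgroup G} (P : Sylow p G)
    (hY : ∀ Q : Subgroup G, Q ≤ (P : Subgroup G) → Q ≠ ⊥ → Subgroup.normalizer (Q : Set G) ≤ Y)
    (U : Sylow p G) (hU : (U : Subgroup G) ⊓ P ≠ ⊥) : ∃ y ∈ Y, U = y • P := by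
  suffices ∀ (n : ℕ) (U : Sylow p G), (U : Subgroup G) ⊓ P ≠ ⊥ →
      Nat.card (P : Subgroup G) ≤ Nat.card ((U : Subgroup G) ⊓ P : Subgroup G) + n →
      ∃ y ∈ Y, U = y • P from this _ U hU (Nat.le_add_left _ _)
  intro n
  induction n with
  | zero =>
    intro U _ hc
    refine ⟨1, Y.one_mem, ?_⟩
    rw [one_smul]
    apply Sylow.ext
    refine (Subgroup.eq_of_le_of_card_ge ?_ (sylow_card_eq U P).le).symm
    have h := Subgroup.eq_of_le_of_card_ge inf_le_right (by simpa using hc)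
    exact inf_eq_right.1 h
  | succ n ih =>
    intro U hU hc
    set D := (U : Subgroup G) ⊓ P with hD
    by_cases hDP : D = P
    · refine ⟨1, Y.one_mem, ?_⟩
      rw [one_smul]
      apply Sylow.ext
      exact (Subgroup.eq_of_le_of_card_ge (inf_eq_right.1 hDP) (sylow_card_eq U P).le).symm
    have hDU : D ≠ U := by
      intro h
      apply hDP
      refine Subgroup.eq_of_le_of_card_ge inf_le_right ?_
      rw [h, sylow_card_eq]
    have hltP : D < P := lt_of_le_of_ne inf_le_right hDP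
    have hltU : D < U := lt_of_le_of_ne inf_le_left hDU
    have hA := lt_inf_normalizer_self P.isPGroup' hltP
    have hB := lt_inf_normalizer_self U.isPGroup' hltU
    set A := (P : Subgroup G) ⊓ Subgroup.normalizer (D : Set G)
    set B := (U : Subgroup G) ⊓ Subgroup.normalizer (D : Set G)
    obtain ⟨c, hcN, R, hR, hAR, hBR⟩ := Cfsg.Lib.Invol.exists_common_pGroup
      (Subgroup.normalizer (D : Set G)) (inf_le_right : A ≤ _) (inf_le_right : B ≤ _)
      (P.isPGroup'.to_le inf_le_left) (U.isPGroup'.to_le inf_le_left)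
    obtain ⟨W, hW⟩ := hR.exists_le_sylow
    have hcY : c ∈ Y := hY D inf_le_right hU hcN
    have hcardD : ∀ X : Subgroup G, D < X → Nat.card D < Nat.card X := fun X hX => by
      refine lt_of_le_of_ne (Subgroup.card_le_of_le hX.le) fun he => hX.ne ?_
      exact Subgroup.eq_of_le_of_card_ge hX.le he.ge
    have hDA := hcardD A hA
    have hDB := hcardD B hB
    have hWA : A ≤ (W : Subgroup G) ⊓ P := le_inf (hAR.trans hW) inf_le_left
    have hWA' := Subgroup.card_le_of_le hWA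
    have hne : (W : Subgroup G) ⊓ P ≠ ⊥ := fun h => by
      rw [h] at hWA'
      have h1 := Nat.card_pos (α := D)
      simp at hWA'
      omega
    obtain ⟨y, hy, rfl⟩ := ih W hne (by omega)
    have hBm : B.map (MulAut.conj (y⁻¹ * c)).toMonoidHom ≤
        (((y⁻¹ * c) • U : Sylow p G) : Subgroup G) ⊓ P := by
      rintro _ ⟨x, hx, rfl⟩
      refine ⟨?_, ?_⟩
      · rw [SetLike.mem_coe, Sylow.coe_subgroup_smul]
        exact Subgroup.smul_mem_pointwise_smul x (MulAut.conj (y⁻¹ * c)) _ hx.1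
      · have h2 := hW (hBR x hx)
        rw [Sylow.coe_subgroup_smul, Subgroup.mem_pointwise_smul_iff_inv_smul_mem] at h2
        have h3 : (MulAut.conj (y⁻¹ * c)).toMonoidHom x = (MulAut.conj y)⁻¹ • (c * x * c⁻¹) := by
          simp [mul_assoc]
        rw [h3]
        exact h2
    have hBm' := Subgroup.card_le_of_le hBm
    have hBc : Nat.card (B.map (MulAut.conj (y⁻¹ * c)).toMonoidHom) = Nat.card B :=
      (Nat.card_congr (B.equivMapOfInjective _ (MulAut.conj (y⁻¹ * c)).injective).toEquiv).symm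
    rw [hBc] at hBm'
    have hne' : (((y⁻¹ * c) • U : Sylow p G) : Subgroup G) ⊓ P ≠ ⊥ := fun h => by
      rw [h] at hBm'
      have h1 := Nat.card_pos (α := D)
      simp at hBm'
      omega
    obtain ⟨y', hy', hU'⟩ := ih _ hne' (by omega)
    refine ⟨c⁻¹ * y * y', Y.mul_mem (Y.mul_mem (Y.inv_mem hcY) hy) hy', ?_⟩
    rw [mul_smul, ← hU', ← mul_smul]
    simp [mul_assoc]

/-- An element conjugating a nontrivial element of `P` into `P` lies in `Y`. -/
theorem mem_of_conj_mem [Finite G] [Fact p.Prime] {Y : Subgroup G} (P : Sylow p G)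
    (hY : ∀ Q : Subgroup G, Q ≤ (P : Subgroup G) → Q ≠ ⊥ → Subgroup.normalizer (Q : Set G) ≤ Y)
    {g t : G} (ht : t ∈ (P : Subgroup G)) (ht1 : t ≠ 1) (hg : g * t * g⁻¹ ∈ (P : Subgroup G)) :
    g ∈ Y := by
  have hne : ((g⁻¹ • P : Sylow p G) : Subgroup G) ⊓ P ≠ ⊥ := by
    intro h
    apply ht1
    rw [← Subgroup.mem_bot, ← h]
    refine ⟨?_, ht⟩
    rw [SetLike.mem_coe, Sylow.coe_subgroup_smul]
    have h3 : t = MulAut.conj g⁻¹ • (g * t * g⁻¹) := by simp [mul_assoc]
    rw [h3]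
    exact Subgroup.smul_mem_pointwise_smul _ (MulAut.conj g⁻¹) _ hg
  obtain ⟨y, hy, he⟩ := exists_conj_of_meet P hY _ hne
  have hPne : (P : Subgroup G) ≠ ⊥ := fun h => ht1 (by rwa [h, Subgroup.mem_bot] at ht)
  have h3 : (g * y) • P = P := by rw [mul_smul, ← he, smul_inv_smul]
  have h4 : g * y ∈ Y := hY _ le_rfl hPne (Sylow.smul_eq_iff_mem_normalizer.1 h3)
  have h5 := Y.mul_mem h4 (Y.inv_mem hy)
  rwa [mul_inv_cancel_right] at h5

theorem kGeneratedCore_conj_le [Finite G] [Fact p.Prime] {Y : Subgroup G} {P : Sylow p G}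
    (hY : kGeneratedCore p 1 (P : Subgroup G) ≤ Y) (g : G) (Q : Subgroup G)
    (hQ : Q ≤ ((g • P : Sylow p G) : Subgroup G)) (hne : Q ≠ ⊥) :
    Subgroup.normalizer (Q : Set G) ≤ MulAut.conj g • Y := by
  intro x hx
  rw [Subgroup.mem_pointwise_smul_iff_inv_smul_mem]
  apply hY
  apply normalizer_le_kGeneratedCore P.isPGroup' (Q := Q.map (MulAut.conj g⁻¹).toMonoidHom)
  · rintro _ ⟨q, hq, rfl⟩
    have h2 := hQ hq
    rw [Sylow.coe_subgroup_smul, Subgroup.mem_pointwise_smul_iff_inv_smul_mem] at h2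
    simpa using h2
  · intro h
    exact hne ((Subgroup.map_eq_bot_iff_of_injective _ (MulAut.conj g⁻¹).injective).1 h)
  · have h3 := Subgroup.le_normalizer_map (H := Q) (MulAut.conj g⁻¹).toMonoidHom ⟨x, hx, rfl⟩
    simpa using h3

theorem pCore_eq_bot_of_stronglyPEmbedded [Finite G] [Fact p.Prime] {Y : Subgroup G}
    (hY : IsStronglyPEmbedded p Y) {N : Subgroup G} [N.Normal] (hN : IsPGroup p N) : N = ⊥ := by
  obtain ⟨-, hne, P, hP⟩ := hY
  by_contra hN0
  obtain ⟨h, hh⟩ := Cfsg.Lib.Invol.exists_conj_mem_sylow P hN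
  have hNP : N ≤ P := by
    intro x hx
    have hx' : h⁻¹ * x * h⁻¹⁻¹ ∈ N := Subgroup.Normal.conj_mem inferInstance x hx h⁻¹
    have h2 := hh _ hx'
    simpa [mul_assoc] using h2
  apply hne
  rw [eq_top_iff]
  refine le_trans ?_ ((normalizer_le_kGeneratedCore P.isPGroup' hNP hN0).trans hP)
  rw [Subgroup.normalizer_eq_top]

end Cfsg.Lib.FusionSys
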