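import Cfsg.Agent.Lib.FusionSys.Saturation
import Cfsg.Agent.Lib.FusionSys.StronglyEmb
import Cfsg.Agent.Lib.Core.Cores

/-!
Essential subgroups and Alperin's theorem for saturated fusion systems.
-/

set_option autoImplicit false

namespace Cfsg.Lib.FusionSys

open Cfsg Cfsg.FusionSystem
open scoped Pointwise

variable {Ω : Type*} [Group Ω] {S : Subgroup Ω}

/-- The automorphisms of `P` generated by those extending to a larger subgroup. -/
def extensibleAut (F : FusionSystem S) (P : Subgroup Ω) : Subgroup (MulAut P) :=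
  Subgroup.closure {α : MulAut P | ∃ (Q : Subgroup Ω) (hPQ : P < Q) (φ : Q →* Ω),
    φ ∈ F.Hom Q ∧ ∀ x : P, φ (Subgroup.inclusion hPQ.le x) = α x}

variable {F : FusionSystem S} {P : Subgroup Ω}

theorem extensibleAut_le : extensibleAut F P ≤ F.autGroup P := by
  refine (Subgroup.closure_le _).2 ?_
  rintro α ⟨Q, hPQ, φ, hφ, h⟩
  exact (mem_autGroup (hPQ.le.trans (hom_le hφ))).2
    (hom_congr (restrict_mem hφ hPQ.le) fun x => (h x).symm)

theorem mem_extensibleAut_of_conj (hP : F.IsReceptive P) {β : MulAut P}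
    (hβ : β ∈ F.autGroup P) {g : Ω} (hg : g ∈ normalizerIn S P) (hgP : g ∉ P) {h : Ω} (hh : h ∈ S)
    (H : ∀ x y : P, (y : Ω) = g * (x : Ω) * g⁻¹ → (β y : Ω) = h * (β x : Ω) * h⁻¹) :
    β ∈ extensibleAut F P := by
  have hi := (mem_autGroup hP.1).1 hβ
  set e := P.subtype.comp β.toMonoidHom with he
  have hr : e.range = P := by
    ext y
    constructor
    · rintro ⟨x, rfl⟩
      exact (β x).2
    · intro hy
      exact ⟨β⁻¹ ⟨y, hy⟩, by simp [he]⟩
  obtain ⟨ψ, hψ, hψe⟩ := hP.2 P e hi hr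
  have hPle : P ≤ extender S P e := le_extender hP.1 (hom_mem hi)
  have hgmem : g ∈ extender S P e :=
    mem_extender_of hg.1 hg.2 hh fun x hx => H x ⟨_, hx⟩ rfl
  refine Subgroup.subset_closure ⟨extender S P e, ?_, ψ, hψ, fun x => ?_⟩
  · exact lt_of_le_of_ne hPle fun he' => hgP (he' ▸ hgmem)
  · exact hψe x x.2 _

theorem autInducedBy_le_extensibleAut [Finite S] {p : ℕ} [Fact p.Prime] (hS : IsPGroup p S)
    (hP : P < S) : autInducedBy S P ≤ extensibleAut F P := by
  intro α hα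
  obtain ⟨g, hg, h⟩ := mem_autInducedBy.1 hα
  exact Subgroup.subset_closure ⟨normalizerIn S P, lt_normalizerIn hS hP, conjHom _ g,
    F.conj_mem (normalizerIn_le P) hg, fun x => (h x).symm⟩

theorem inn_le_autInducedBy (hP : P ≤ S) : Inn P ≤ autInducedBy S P := by
  rintro _ ⟨y, rfl⟩
  exact mem_autInducedBy.2 ⟨y, hP y.2, fun x => rfl⟩

theorem inn_le_autGroup (hP : P ≤ S) : Inn P ≤ F.autGroup P :=
  (inn_le_autInducedBy hP).trans (autInducedBy_le_autGroup hP)

theorem inn_subgroupOf_normal (A : Subgroup (MulAut P)) : ((Inn P).subgroupOf A).Normal := by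
  refine ⟨fun n hn a => ?_⟩
  rw [Subgroup.mem_subgroupOf] at hn ⊢
  obtain ⟨y, hy⟩ := hn
  refine ⟨(a : MulAut P) y, MulEquiv.ext fun x => ?_⟩
  simp [← hy, MulAut.mul_apply, MulAut.inv_apply]

theorem mem_of_conjAut_mem_inn (hC : centralizerIn S P ≤ P) (hP : P ≤ S) {α : MulAut P} {g : Ω}
    (hgS : g ∈ S) (h : ∀ x : P, ((α x : P) : Ω) = g * (x : Ω) * g⁻¹) (hα : α ∈ Inn P) : g ∈ P := by
  obtain ⟨y, rfl⟩ := hα
  have hc : (y : Ω)⁻¹ * g ∈ centralizerIn S P := by
    refine mem_centralizerIn.2 ⟨S.mul_mem (S.inv_mem (hP y.2)) hgS, fun x hx => ?_⟩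
    have h1 := h ⟨x, hx⟩
    simp only [MulAut.conj_apply, Subgroup.coe_mul, Subgroup.coe_inv] at h1
    calc (y : Ω)⁻¹ * g * x = (y : Ω)⁻¹ * (g * x * g⁻¹) * g := by group
      _ = (y : Ω)⁻¹ * ((y : Ω) * x * (y : Ω)⁻¹) * g := by rw [h1]
      _ = x * ((y : Ω)⁻¹ * g) := by group
  have h2 := P.mul_mem y.2 (hC hc)
  rwa [mul_inv_cancel_left] at h2

theorem extensibleAut_eq_of_not_centric [Finite S] {p : ℕ} [Fact p.Prime] (hS : IsPGroup p S)
    (hF : F.IsSaturated p) (hn : F.IsFullyNormalized P) (hc : ¬ F.IsCentric P) :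
    extensibleAut F P = F.autGroup P := by
  refine le_antisymm extensibleAut_le fun β hβ => ?_
  have hfc := (isFullyAutomized_and_fc_of_fn hS hF hn).1
  have hnot : ¬ centralizerIn S P ≤ P := fun h => hc (isCentric_of_isFullyCentralized hfc h)
  obtain ⟨g, hg, hgP⟩ := SetLike.not_le_iff_exists.1 hnot
  refine mem_extensibleAut_of_conj (isReceptive_of_fc hS hF hfc) hβ
    (centralizerIn_le_normalizerIn P hg) hgP S.one_mem fun x y hxy => ?_
  have hyx : y = x :=
    Subtype.ext (hxy.trans (conj_eq_of_commute ((mem_centralizerIn.1 hg).2 x x.2)))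
  simp [hyx]

/-- Above the automorphisms extending to a larger subgroup there is a strongly `p`-embedded quotient, unless
they are everything. -/
theorem stronglyPEmbedded_extensibleAut [Finite S] {p : ℕ} [Fact p.Prime] (hS : IsPGroup p S)
    (hF : F.IsSaturated p) (hPS : P < S) (hn : F.IsFullyNormalized P) (hc : F.IsCentric P)
    (hne : extensibleAut F P ≠ F.autGroup P) :
    ∃ _ : ((Inn P).subgroupOf (F.autGroup P)).Normal,
      IsStronglyPEmbedded p (((extensibleAut F P).subgroupOf (F.autGroup P)).map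
        (QuotientGroup.mk' ((Inn P).subgroupOf (F.autGroup P)))) := by
  refine ⟨inn_subgroupOf_normal _, ?_⟩
  haveI := finite_of_le hPS.le
  obtain ⟨hfc, hfa⟩ := isFullyAutomized_and_fc_of_fn hS hF hn
  obtain ⟨-, R, hR⟩ := hfa
  have hrec := isReceptive_of_fc hS hF hfc
  have hC : centralizerIn S P ≤ P := hc.2 P (isConj_refl F hPS.le)
  haveI hNn := inn_subgroupOf_normal (F.autGroup P)
  set N := (Inn P).subgroupOf (F.autGroup P)
  set π := QuotientGroup.mk' N
  have hπ : Function.Surjective π := QuotientGroup.mk'_surjective N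
  let Rb : Sylow p (F.autGroup P ⧸ N) := R.mapSurjective hπ
  obtain ⟨g₀, hg₀, hg₀P⟩ := SetLike.exists_of_lt (lt_normalizerIn hS hPS)
  have ht₀ : conjAut P hg₀.2 ∈ autInducedBy S P := conjAut_mem_autInducedBy hg₀.2 hg₀.1
  have hRb : (Rb : Subgroup (F.autGroup P ⧸ N)) ≠ ⊥ := by
    intro h
    apply hg₀P
    have h1 : π ⟨_, autInducedBy_le_autGroup hPS.le ht₀⟩ ∈ (Rb : Subgroup (F.autGroup P ⧸ N)) :=
      ⟨_, by rw [hR]; exact ht₀, rfl⟩
    rw [h, Subgroup.mem_bot, QuotientGroup.mk'_apply, QuotientGroup.eq_one_iff] at h1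
    exact mem_of_conjAut_mem_inn hC hPS.le hg₀.1 (fun _ => rfl) h1
  refine ⟨?_, ?_, Rb, kGeneratedCore_le_of fun Q hQ hQne => ?_⟩
  · obtain ⟨n, hn0, hcard⟩ := Rb.isPGroup'.nontrivial_iff_card.mp
      ((Subgroup.nontrivial_iff_ne_bot _).2 hRb)
    exact (hcard ▸ dvd_pow_self p hn0.ne').trans (Subgroup.card_subgroup_dvd_card _)
  · intro htop
    apply hne
    refine le_antisymm extensibleAut_le fun α hα => ?_
    have h1 : π ⟨α, hα⟩ ∈ ((extensibleAut F P).subgroupOf (F.autGroup P)).map π := by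
      rw [htop]
      exact Subgroup.mem_top _
    obtain ⟨h, hh, he⟩ := h1
    have h2 := (QuotientGroup.eq (s := N)).1 he
    rw [Subgroup.mem_subgroupOf] at h2
    have h3 := (extensibleAut F P).mul_mem hh
      (autInducedBy_le_extensibleAut hS hPS (inn_le_autInducedBy hPS.le h2))
    simpa using h3
  · intro xb hxb
    obtain ⟨x, rfl⟩ := hπ xb
    obtain ⟨qb, hqQ, hq1⟩ := Q.bot_or_exists_ne_one.resolve_left hQne
    obtain ⟨t, ht, rfl⟩ := hQ hqQ
    have h1 : π x * π t * (π x)⁻¹ ∈ Q := (Subgroup.mem_normalizer_iff.1 hxb _).1 hqQ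
    obtain ⟨t', ht', he⟩ := hQ h1
    rw [← map_inv, ← map_mul, ← map_mul] at he
    have h2 := (QuotientGroup.eq (s := N)).1 he
    rw [SetLike.mem_coe, hR, Subgroup.mem_subgroupOf] at ht ht'
    rw [Subgroup.mem_subgroupOf] at h2
    have h3 : ((x * t * x⁻¹ : F.autGroup P) : MulAut P) ∈ autInducedBy S P := by
      have h4 := (autInducedBy S P).mul_mem ht' (inn_le_autInducedBy hPS.le h2)
      simpa using h4
    obtain ⟨g, hgS, hg⟩ := mem_autInducedBy.1 ht
    obtain ⟨h, hhS, hh⟩ := mem_autInducedBy.1 h3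
    refine ⟨x, mem_extensibleAut_of_conj hrec x.2 ⟨hgS, mem_normalizer_of_aut hg⟩ ?_ hhS ?_, rfl⟩
    · intro hgP
      apply hq1
      rw [QuotientGroup.mk'_apply, QuotientGroup.eq_one_iff, Subgroup.mem_subgroupOf]
      exact ⟨⟨g, hgP⟩, MulEquiv.ext fun y => Subtype.ext (hg y).symm⟩
    · intro a b hab
      have h5 := hh ((x : MulAut P) a)
      have hb : b = (t : MulAut P) a := Subtype.ext (hab.trans (hg a).symm)
      show ((x : MulAut P) b : Ω) = h * ((x : MulAut P) a : Ω) * h⁻¹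
      rw [hb, ← h5]
      simp [MulAut.mul_apply, MulAut.inv_apply]

theorem isEssential_of_extensibleAut_ne [Finite S] {p : ℕ} [Fact p.Prime] (hS : IsPGroup p S)
    (hF : F.IsSaturated p) (hPS : P < S) (hn : F.IsFullyNormalized P)
    (hne : extensibleAut F P ≠ F.autGroup P) : F.IsEssential p P := by
  have hc : F.IsCentric P := by
    by_contra h
    exact hne (extensibleAut_eq_of_not_centric hS hF hn h)
  obtain ⟨hN, h⟩ := stronglyPEmbedded_extensibleAut hS hF hPS hn hc hne
  exact ⟨hc, hn, hN, _, h⟩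

theorem extensibleAut_ne_of_isEssential [Finite S] {p : ℕ} [Fact p.Prime] (hS : IsPGroup p S)
    (hF : F.IsSaturated p) (hP : F.IsEssential p P) : extensibleAut F P ≠ F.autGroup P := by
  obtain ⟨hc, hn, hN, E, -, hEne, P₀, hE⟩ := hP
  intro heq
  have hPS := hc.1
  haveI := finite_of_le hPS
  obtain ⟨-, hfa⟩ := isFullyAutomized_and_fc_of_fn hS hF hn
  obtain ⟨-, R, hR⟩ := hfa
  have hC : centralizerIn S P ≤ P := hc.2 P (isConj_refl F hPS)
  haveI := hN
  set N := (Inn P).subgroupOf (F.autGroup P)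
  set π := QuotientGroup.mk' N
  have hπ : Function.Surjective π := QuotientGroup.mk'_surjective N
  let Rb : Sylow p (F.autGroup P ⧸ N) := R.mapSurjective hπ
  obtain ⟨g, hg⟩ := MulAction.exists_smul_eq (F.autGroup P ⧸ N) P₀ Rb
  set Y := MulAut.conj g • E with hYdef
  have hY : ∀ Q : Subgroup (F.autGroup P ⧸ N), Q ≤ (Rb : Subgroup _) → Q ≠ ⊥ →
      Subgroup.normalizer (Q : Set _) ≤ Y := fun Q hQ hQne => by
    rw [← hg] at hQ
    exact kGeneratedCore_conj_le hE g Q hQ hQne
  have hle : ((extensibleAut F P).subgroupOf (F.autGroup P)).map π ≤ Y := by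
    rintro _ ⟨x, hx, rfl⟩
    suffices h : ∀ α ∈ extensibleAut F P, ∀ hα : α ∈ F.autGroup P, π ⟨α, hα⟩ ∈ Y from h _ hx x.2
    intro α hα
    induction hα using Subgroup.closure_induction with
    | one =>
      intro h1
      have h2 : (⟨1, h1⟩ : F.autGroup P) = 1 := rfl
      rw [h2, map_one]
      exact Y.one_mem
    | mem α hα =>
      intro hαA
      obtain ⟨Q, hPQ, φ, hφ, hφα⟩ := hα
      haveI := finite_of_le (hom_le hφ)
      obtain ⟨r, ⟨hrQ, hrN⟩, hrP⟩ :=
        SetLike.exists_of_lt (lt_inf_normalizer_of_le hS (hom_le hφ) hPQ)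
      have hr : conjAut P hrN ∈ autInducedBy S P :=
        conjAut_mem_autInducedBy hrN (hom_le hφ hrQ)
      let t : F.autGroup P := ⟨_, autInducedBy_le_autGroup hPS hr⟩
      let a : F.autGroup P := ⟨α, hαA⟩
      refine mem_of_conj_mem Rb hY (t := π t) ⟨t, by rw [hR]; exact hr, rfl⟩ ?_ ?_
      · intro h1
        rw [QuotientGroup.mk'_apply, QuotientGroup.eq_one_iff] at h1
        exact hrP (mem_of_conjAut_mem_inn hC hPS (hom_le hφ hrQ) (fun _ => rfl) h1)
      · rw [← map_inv, ← map_mul, ← map_mul]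
        refine ⟨a * t * a⁻¹, ?_, rfl⟩
        rw [SetLike.mem_coe, hR, Subgroup.mem_subgroupOf]
        refine mem_autInducedBy.2 ⟨φ ⟨r, hrQ⟩, hom_mem hφ _, fun y => ?_⟩
        have h3 := hφα (α⁻¹ y)
        rw [MulAut.apply_inv_self] at h3
        rw [← h3, ← map_inv, ← map_mul, ← map_mul]
        exact (hφα (conjAut P hrN (α⁻¹ y))).symm
    | mul u v hu hv ihu ihv =>
      intro huv
      have h2 : (⟨u * v, huv⟩ : F.autGroup P) =
          ⟨u, extensibleAut_le hu⟩ * ⟨v, extensibleAut_le hv⟩ := rfl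
      rw [h2, map_mul]
      exact Y.mul_mem (ihu _) (ihv _)
    | inv u hu ihu =>
      intro hu'
      have h2 : (⟨u⁻¹, hu'⟩ : F.autGroup P) = ⟨u, extensibleAut_le hu⟩⁻¹ := rfl
      rw [h2, map_inv]
      exact Y.inv_mem (ihu _)
  apply hEne
  rw [eq_top_iff]
  intro z _
  obtain ⟨x, hx⟩ := hπ (MulAut.conj g • z)
  have h1 : π x ∈ Y := hle ⟨x, by rw [SetLike.mem_coe, Subgroup.mem_subgroupOf, heq]; exact x.2, rfl⟩
  rw [hx, hYdef, Subgroup.smul_mem_pointwise_smul_iff] at h1
  exact h1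
where
  lt_inf_normalizer_of_le {p : ℕ} [Fact p.Prime] {Q : Subgroup Ω} [Finite Q] (hS : IsPGroup p S)
      (hQS : Q ≤ S) (hPQ : P < Q) : P < Q ⊓ Subgroup.normalizer (P : Set Ω) :=
    lt_normalizerIn (S := Q) (hS.to_le hQS) hPQ

theorem isRadical_of_isEssential [Finite S] {p : ℕ} [Fact p.Prime] (hS : IsPGroup p S)
    (hP : F.IsEssential p P) : F.IsRadical p P := by
  obtain ⟨hc, -, hN, E, hE⟩ := hP
  have hPS := hc.1
  haveI := finite_of_le hPS
  haveI := hN
  refine ⟨hPS, ?_⟩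
  have hI : IsPGroup p ((Inn P).subgroupOf (F.autGroup P)) :=
    (((isPGroup_autInducedBy hS).to_le (inn_le_autInducedBy hPS))).comap_subtype
  have h1 : (Inn P).subgroupOf (F.autGroup P) ≤ pCore p (F.autGroup P) :=
    Cfsg.Lib.Core.le_pCore' hN hI
  have h2 : pCore p (F.autGroup P) ≤ (Inn P).subgroupOf (F.autGroup P) := by
    set π := QuotientGroup.mk' ((Inn P).subgroupOf (F.autGroup P))
    have hp : IsPGroup p ((pCore p (F.autGroup P)).map π) :=
      (Cfsg.Lib.Core.pCore_isPGroup p _).map π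
    haveI : (pCore p (F.autGroup P)).Normal := by infer_instance
    haveI : ((pCore p (F.autGroup P)).map π).Normal :=
      Subgroup.Normal.map inferInstance π (QuotientGroup.mk'_surjective _)
    have h3 := pCore_eq_bot_of_stronglyPEmbedded hE hp
    rwa [Subgroup.map_eq_bot_iff, QuotientGroup.ker_mk'] at h3
  rw [le_antisymm h2 h1, Subgroup.map_subgroupOf_eq_of_le (inn_le_autGroup hPS)]

/-- Alperin's fusion theorem, with the maps on larger subgroups already known. -/
theorem le_of_autGroup_le' [Finite S] {p : ℕ} [Fact p.Prime] (hS : IsPGroup p S)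
    (hF : F.IsSaturated p) (E : FusionSystem S)
    (hE : ∀ P : Subgroup Ω, (P = S ∨ F.IsEssential p P) →
      (∀ T : Subgroup Ω, Nat.card P < Nat.card T → F.Hom T ⊆ E.Hom T) →
        F.autGroup P ≤ E.autGroup P) : F ≤ E := by
  suffices ∀ (n : ℕ) (P : Subgroup Ω), P ≤ S → Nat.card S ≤ Nat.card P + n →
      ∀ φ ∈ F.Hom P, φ ∈ E.Hom P from
    fun P φ hφ => this _ P (hom_le hφ) (Nat.le_add_left _ _) φ hφ
  intro n
  induction n with
  | zero =>
    intro P hPS hc φ hφ
    have hP : P = S := eq_of_le_of_card_le le_rfl hPS (by simpa using hc)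
    subst hP
    have hr : φ.range = P := range_eq_of_card_le hφ le_rfl (hom_mem hφ) le_rfl
    let α : MulAut P := homIso hφ hr
    have h1 := hE P (Or.inl rfl) (fun T hT ψ hψ => absurd (card_le_of_le (hom_le hψ)) (not_le.2 hT))
      ((mem_autGroup le_rfl).2 (isoIn_homIso hφ hr) : α ∈ F.autGroup P)
    exact hom_congr ((mem_autGroup le_rfl).1 h1) fun x => rfl
  | succ n ih =>
    intro P hPS hc φ hφ
    by_cases hlt : Nat.card S ≤ Nat.card P + n
    · exact ih P hPS hlt φ hφ
    have hPlt : P < S := lt_of_le_of_ne hPS fun h => hlt (h ▸ Nat.le_add_right _ _)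
    obtain ⟨Q, hPQ, hQn⟩ := exists_isFullyNormalized F hPS
    obtain ⟨hQfc, hQfa⟩ := isFullyAutomized_and_fc_of_fn hS hF hQn
    have hQrec := isReceptive_of_fc hS hF hQfc
    have hQS := hQn.1
    haveI := finite_of_le hQS
    have hQlt : Q < S := lt_of_le_of_ne hQS fun h => hPlt.ne <| by
      subst h
      exact eq_top_of_isConj (isConj_symm hPQ)
    have hbig : ∀ R T : Subgroup Ω, F.IsConj P R → R < T → T ≤ S →
        ∀ ψ ∈ F.Hom T, ψ ∈ E.Hom T := by
      intro R T hR hRT hTS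
      refine ih T hTS ?_
      haveI := finite_of_le hTS
      have h1 : Nat.card R ≤ Nat.card T := Subgroup.card_le_of_le hRT.le
      have h2 : Nat.card R ≠ Nat.card T := fun h =>
        hRT.ne (Subgroup.eq_of_le_of_card_ge hRT.le h.ge)
      have h3 := card_eq_of_isConj hR
      omega
    have hH : extensibleAut F Q ≤ E.autGroup Q := by
      refine (Subgroup.closure_le _).2 ?_
      rintro α ⟨T, hQT, ψ, hψ, h⟩
      exact (mem_autGroup hQS).2 (hom_congr
        (restrict_mem (hbig Q T hPQ hQT (hom_le hψ) ψ hψ) hQT.le) fun x => (h x).symm)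
    have hA : F.autGroup Q ≤ E.autGroup Q := by
      by_cases h : extensibleAut F Q = F.autGroup Q
      · exact h ▸ hH
      · refine hE Q (Or.inr (isEssential_of_extensibleAut_ne hS hF hQlt hQn h)) fun T hT ψ hψ => ?_
        refine ih T (hom_le hψ) ?_ ψ hψ
        have h3 := card_eq_of_isConj hPQ
        omega
    -- isomorphisms of `E` onto `Q`
    have hiso : ∀ R : Subgroup Ω, F.IsConj P R → ∃ f : R ≃* Q, IsoIn F f ∧ IsoIn E f := by
      intro R hR
      have hRS := (isConj_le hR).2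
      have hRlt : R < S := lt_of_le_of_ne hRS fun h => hPlt.ne <| by
        subst h
        exact eq_top_of_isConj (isConj_symm hR)
      obtain ⟨ψ, hψ, -, hmap⟩ :=
        exists_normalizer_map hS hQfa hQrec (isConj_trans (isConj_symm hR) hPQ)
      have hψE := hbig R _ hR (lt_normalizerIn hS hRlt) (normalizerIn_le R) ψ hψ
      have hr : (ψ.comp (Subgroup.inclusion (le_normalizerIn hRS))).range = Q := by
        rw [← hmap]
        ext y
        rw [mem_map_subgroupOf]
        constructor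
        · rintro ⟨x, rfl⟩
          exact ⟨x, le_normalizerIn hRS x.2, x.2, rfl⟩
        · rintro ⟨x, hx, hxR, rfl⟩
          exact ⟨⟨x, hxR⟩, rfl⟩
      exact ⟨homIso (restrict_mem hψ _) hr, isoIn_homIso _ hr,
        hom_congr (restrict_mem hψE (le_normalizerIn hRS)) fun x => rfl⟩
    obtain ⟨f, hfF, hfE⟩ := hiso P (isConj_refl F hPS)
    obtain ⟨f', hf'F, hf'E⟩ := hiso φ.range ⟨φ, hφ, rfl⟩
    let a : MulAut Q := f.symm.trans ((homIso hφ (rfl : φ.range = φ.range)).trans f')
    have ha : a ∈ F.autGroup Q :=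
      (mem_autGroup hQS).2 (hfF.symm.trans ((isoIn_homIso hφ rfl).trans hf'F))
    have haE : IsoIn E a := (mem_autGroup hQS).1 (hA ha)
    exact hom_congr ((hfE.trans haE).trans hf'E.symm) fun x => by simp [a]

/-- Alperin's fusion theorem. -/
theorem le_of_autGroup_le [Finite S] {p : ℕ} [Fact p.Prime] (hS : IsPGroup p S)
    (hF : F.IsSaturated p) (E : FusionSystem S)
    (hE : ∀ P : Subgroup Ω, (P = S ∨ F.IsEssential p P) → F.autGroup P ≤ E.autGroup P) : F ≤ E :=
  le_of_autGroup_le' hS hF E fun P hP _ => hE P hP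

end Cfsg.Lib.FusionSys
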