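import Cfsg.Agent.Lib.FusionSys.Criterion
import Cfsg.Agent.Lib.FusionSys.Alperin

/-!
The inner fusion system of a finite `p`-group and its normality.
-/

set_option autoImplicit false

namespace Cfsg.Lib.FusionSys

open Cfsg Cfsg.FusionSystem

variable {Ω : Type*} [Group Ω] {S : Subgroup Ω} {F : FusionSystem S}

theorem mem_autGroup_inner {T : Subgroup Ω} {α : MulAut T}
    (hα : α ∈ (innerFusionSystem T).autGroup T) : α ∈ autInducedBy T T := by
  obtain ⟨-, g, hg, h⟩ := (mem_autGroup le_rfl).1 hα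
  exact mem_autInducedBy.2 ⟨g, hg, h⟩

theorem isSaturated_inner {p : ℕ} [Fact p.Prime] {T : Subgroup Ω} [Finite T] (hT : IsPGroup p T) :
    (innerFusionSystem T).IsSaturated p := by
  refine isSaturated_of_receptive hT ⟨le_rfl, ?_⟩ fun P hP => ⟨hP.1, ?_⟩
  · have htop : (autInducedBy T T).subgroupOf ((innerFusionSystem T).autGroup T) = ⊤ := by
      rw [eq_top_iff]
      exact fun α _ => mem_autGroup_inner α.2
    have hp : IsPGroup p ((⊤ : Subgroup ((innerFusionSystem T).autGroup T))) := by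
      rw [← htop]
      exact (isPGroup_autInducedBy hT).comap_subtype
    obtain ⟨R, hR⟩ := hp.exists_le_sylow
    exact ⟨R, by rw [htop]; exact top_le_iff.1 hR⟩
  · rintro R φ ⟨hR, g, hg, h⟩ -
    exact ⟨conjHom _ g, (innerFusionSystem T).conj_mem
      ((extender_le φ).trans (normalizerIn_le R)) hg, fun x hx _ => (h ⟨x, hx⟩).symm⟩

/-- The inner system on a strongly closed subgroup to which all maps on its subgroups extend is a
normal subsystem. -/
theorem isNormalIn_inner [Finite S] {p : ℕ} [Fact p.Prime] (hS : IsPGroup p S)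
    (hF : F.IsSaturated p) {T : Subgroup Ω} (hT : F.StronglyClosed T)
    (hext : ∀ (P : Subgroup Ω) (hP : P ≤ T) (φ : P →* Ω), φ ∈ F.Hom P →
      ∃ α ∈ F.autGroup T, ∀ x : P, φ x = ((α (Subgroup.inclusion hP x) : T) : Ω)) :
    (innerFusionSystem T).IsNormalIn F p := by
  haveI := finite_of_le hT.1
  have hsub : (innerFusionSystem T).IsSubsystemOf F := by
    rintro P φ ⟨hP, g, hg, h⟩
    exact hom_congr (F.conj_mem (hP.trans hT.1) (hT.1 hg)) h
  refine ⟨⟨isSaturated_inner (hS.to_le hT.1), hF, hsub, hT, ?_, ?_⟩, ?_⟩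
  · rintro P hPT φ ⟨-, g, hg, h⟩ α hα
    refine ⟨conjHom _ ((α ⟨g, hg⟩ : T) : Ω), (innerFusionSystem T).conj_mem ?_ (α ⟨g, hg⟩).2,
      fun x hφx hαx => ?_⟩
    · rintro _ ⟨y, -, rfl⟩
      exact (α y).2
    · have h2 : (⟨φ x, hφx⟩ : T) = ⟨g, hg⟩ * ⟨x, hPT x.2⟩ * ⟨g, hg⟩⁻¹ :=
        Subtype.ext (h x)
      rw [h2, map_mul, map_mul, map_inv]
      rfl
  · intro P hP φ hφ
    obtain ⟨α, hα, h⟩ := hext P hP φ hφ
    refine ⟨α, hα, conjHom P 1, (innerFusionSystem T).conj_mem hP T.one_mem, fun x hx => ?_⟩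
    rw [h]
    congr 2
    refine Subtype.ext ?_
    show (x : Ω) = 1 * (x : Ω) * 1⁻¹
    group
  · intro α hα
    obtain ⟨g, hg, h⟩ := mem_autInducedBy.1 (mem_autGroup_inner hα)
    have hle : T ⊔ centralizerIn S T ≤ S := sup_le hT.1 (centralizerIn_le T)
    have hgn : g ∈ Subgroup.normalizer ((T ⊔ centralizerIn S T : Subgroup Ω) : Set Ω) :=
      Subgroup.le_normalizer (Subgroup.mem_sup_left hg)
    refine ⟨conjAut _ hgn, autInducedBy_le_autGroup hle (conjAut_mem_autInducedBy hgn (hT.1 hg)),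
      fun x => ?_, fun c hc => ?_⟩
    · rw [coe_conjAut, h]
      rfl
    · rw [coe_conjAut]
      have hcm : g * (c : Ω) = (c : Ω) * g := ((mem_centralizerIn.1 hc).2 g hg).symm
      rw [conj_eq_of_commute hcm, inv_mul_cancel]
      exact Subgroup.one_mem _

end Cfsg.Lib.FusionSys
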