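import Cfsg.Agent.Lib.FusionSys.Normal
import Cfsg.Agent.Lib.FusionSys.Inner

/-!
Saturated systems over abelian groups are controlled by the automorphisms of the whole group.
-/

set_option autoImplicit false

namespace Cfsg.Lib.FusionSys

open Cfsg Cfsg.FusionSystem

variable {Ω : Type*} [Group Ω] {S : Subgroup Ω} {F : FusionSystem S}

theorem isNormal_self_of_abelian [Finite S] {p : ℕ} [Fact p.Prime] (hS : IsPGroup p S)
    (hF : F.IsSaturated p) (hab : ∀ x ∈ S, ∀ y ∈ S, x * y = y * x) : F.IsNormal S := by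
  refine isNormal_of_forall_essential hS hF fun P hP => ?_
  have hPS : P ≤ S := by
    rcases hP with rfl | hP
    exacts [le_rfl, hP.1.1]
  have hSP : S ≤ P := by
    rcases hP with rfl | hP
    · exact le_rfl
    · intro g hg
      exact hP.1.2 P (isConj_refl F hPS)
        (mem_centralizerIn.2 ⟨hg, fun x hx => hab g hg x (hPS hx)⟩)
  refine ⟨hSP, fun α _ => ?_⟩
  obtain rfl := le_antisymm hPS hSP
  rw [Subgroup.subgroupOf_self, ← MonoidHom.range_eq_map]
  exact MonoidHom.range_eq_top.2 α.surjective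

theorem exists_aut_of_abelian [Finite S] {p : ℕ} [Fact p.Prime] (hS : IsPGroup p S)
    (hF : F.IsSaturated p) (hab : ∀ x ∈ S, ∀ y ∈ S, x * y = y * x) (P : Subgroup Ω)
    (φ : P →* Ω) (hφ : φ ∈ F.Hom P) :
    ∃ α ∈ F.autGroup S, ∀ x : P, φ x = ((α (Subgroup.inclusion (hom_le hφ) x) : S) : Ω) := by
  obtain ⟨ψ, hψ, hψe, -⟩ := (isNormal_self_of_abelian hS hF hab).2 _ φ hφ
  have hψS := restrict_mem hψ le_sup_right
  have hr := eq_top_of_isConj (⟨_, hψS, rfl⟩ : F.IsConj S _)
  refine ⟨homIso hψS hr, (mem_autGroup le_rfl).2 (isoIn_homIso hψS hr), fun x => ?_⟩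
  rw [coe_homIso, ← hψe]
  rfl

theorem autInducedBy_self_eq_bot (hab : ∀ x ∈ S, ∀ y ∈ S, x * y = y * x) :
    autInducedBy S S = ⊥ := by
  rw [eq_bot_iff]
  intro α hα
  obtain ⟨g, hg, h⟩ := mem_autInducedBy.1 hα
  refine Subgroup.mem_bot.2 (MulEquiv.ext fun x => Subtype.ext ?_)
  show (α x : Ω) = x
  rw [h x, hab g hg x x.2, mul_inv_cancel_right]

theorem not_dvd_card_autGroup_of_abelian [Finite S] {p : ℕ} [Fact p.Prime] (hS : IsPGroup p S)
    (hF : F.IsSaturated p) (hab : ∀ x ∈ S, ∀ y ∈ S, x * y = y * x) :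
    ¬ p ∣ Nat.card (F.autGroup S) := by
  obtain ⟨-, -, R, hR⟩ := isFullyAutomized_and_fc_of_fn hS hF (isFullyNormalized_top F)
  intro h
  have h2 := R.not_dvd_index
  rw [hR, autInducedBy_self_eq_bot hab, Subgroup.bot_subgroupOf, Subgroup.index_bot] at h2
  exact h2 h

/-- A system over an abelian group with trivial automizer of the whole group is the inner one. -/
theorem hom_eq_inner_of_abelian [Finite S] {p : ℕ} [Fact p.Prime] (hS : IsPGroup p S)
    (hF : F.IsSaturated p) (hab : ∀ x ∈ S, ∀ y ∈ S, x * y = y * x)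
    (hA : ∀ α ∈ F.autGroup S, α = 1) (P : Subgroup Ω) :
    F.Hom P = (innerFusionSystem S).Hom P := by
  refine Set.Subset.antisymm (fun φ hφ => ?_) (innerFusionSystem_le F P)
  obtain ⟨α, hα, h⟩ := exists_aut_of_abelian hS hF hab P φ hφ
  refine ⟨hom_le hφ, 1, S.one_mem, fun x => ?_⟩
  rw [h, hA α hα]
  simp

end Cfsg.Lib.FusionSys
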