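import Cfsg.Agent.Lib.FusionSys.Normal
import Cfsg.Agent.Lib.FusionSys.Saturation

/-!
# A strongly closed subgroup is normal when automizers of its self-centralizing subgroups are small
-/

set_option autoImplicit false

namespace Cfsg.Lib.FusionSys

open Cfsg Cfsg.FusionSystem

variable {Ω : Type*} [Group Ω] {S : Subgroup Ω} {F : FusionSystem S}

/-- An element of a strongly closed `P` normalizing a radical centric `R` and inducing on `R ⊓ P` an
element of a normal `p`-subgroup of its automorphism group lies in `R`. -/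
theorem mem_of_normal_stab [Finite S] {p : ℕ} [Fact p.Prime] (hS : IsPGroup p S)
    {P R : Subgroup Ω} (hP : F.StronglyClosed P) (hc : F.IsCentric R) (hrad : F.IsRadical p R)
    (W : Subgroup (MulAut (R ⊓ P : Subgroup Ω))) [W.Normal] (hW : IsPGroup p W) {y : Ω} (hy : y ∈ P)
    (hyR : y ∈ Subgroup.normalizer (R : Set Ω))
    (hyQ : y ∈ Subgroup.normalizer ((R ⊓ P : Subgroup Ω) : Set Ω))
    (hyW : conjAut (R ⊓ P) hyQ ∈ W) : y ∈ R := by
  have hRS := hc.1
  haveI := finite_of_le hRS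
  have hPn := stronglyClosed_le_normalizer hP
  have hinv : ∀ (a : F.autGroup R) (x : R), (x : Ω) ∈ P → ((a : MulAut R) x : Ω) ∈ P :=
    fun a x hx => stronglyClosed_aut_mem hP a.2 hRS hx
  let rest : F.autGroup R →* MulAut (R ⊓ P : Subgroup Ω) :=
    { toFun := fun a =>
        { toFun := fun x => ⟨((a : MulAut R) ⟨x, x.2.1⟩ : R), ((a : MulAut R) ⟨x, x.2.1⟩).2,
            hinv a _ x.2.2⟩
          invFun := fun x => ⟨(((a⁻¹ : F.autGroup R) : MulAut R) ⟨x, x.2.1⟩ : R),
            (((a⁻¹ : F.autGroup R) : MulAut R) ⟨x, x.2.1⟩).2, hinv a⁻¹ _ x.2.2⟩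
          left_inv := fun x => by
            apply Subtype.ext
            simp [MulAut.inv_apply]
          right_inv := fun x => by
            apply Subtype.ext
            simp [MulAut.inv_apply]
          map_mul' := fun x z => Subtype.ext (by
            show (((a : MulAut R) ((⟨x, x.2.1⟩ : R) * ⟨z, z.2.1⟩) : R) : Ω) = _
            rw [map_mul]; rfl) }
      map_one' := MulEquiv.ext fun x => rfl
      map_mul' := fun a b => MulEquiv.ext fun x => rfl }
  let H : Subgroup (F.autGroup R) :=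
    { carrier := {a | ∀ x : R, (x : Ω)⁻¹ * ((a : MulAut R) x : Ω) ∈ P}
      one_mem' := fun x => by simp
      mul_mem' := fun {a b} ha hb x => by
        have hmul : ((a * b : F.autGroup R) : MulAut R) x =
            (a : MulAut R) x * (a : MulAut R) (x⁻¹ * (b : MulAut R) x) := by
          rw [Subgroup.coe_mul, MulAut.mul_apply, ← map_mul, mul_inv_cancel_left]
        rw [hmul, Subgroup.coe_mul, ← mul_assoc]
        exact P.mul_mem (ha x) (hinv a _ (hb x))
      inv_mem' := fun {a} ha x => by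
        have h1 := ha (((a⁻¹ : F.autGroup R) : MulAut R) x)
        have h2 : (a : MulAut R) (((a⁻¹ : F.autGroup R) : MulAut R) x) = x := by simp [MulAut.inv_apply]
        rw [h2] at h1
        simpa using P.inv_mem h1 }
  haveI : H.Normal := by
    refine ⟨fun a ha b x => ?_⟩
    have h1 : ((b * a * b⁻¹ : F.autGroup R) : MulAut R) x =
        x * (b : MulAut R) ((((b⁻¹ : F.autGroup R) : MulAut R) x)⁻¹ *
          (a : MulAut R) (((b⁻¹ : F.autGroup R) : MulAut R) x)) := by
      simp only [Subgroup.coe_mul, Subgroup.coe_inv, MulAut.mul_apply, map_mul, map_inv,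
        MulAut.inv_apply, MulEquiv.apply_symm_apply, mul_inv_cancel_left]
    rw [h1, Subgroup.coe_mul, inv_mul_cancel_left]
    exact hinv b _ (ha _)
  let K : Subgroup (F.autGroup R) := H ⊓ W.comap rest
  haveI : K.Normal := Subgroup.normal_inf_normal _ _
  have hKp : IsPGroup p K := by
    intro a
    obtain ⟨e, he⟩ := IsPGroup.iff_card.mp (hS.to_le hRS)
    obtain ⟨k, hk⟩ := hW ⟨rest a, a.2.2⟩
    have hk' : rest ((a : F.autGroup R) ^ p ^ k) = 1 := by
      rw [map_pow]; simpa using congrArg Subtype.val hk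
    obtain ⟨β, hβdef⟩ : ∃ β, β = (a : F.autGroup R) ^ p ^ k := ⟨_, rfl⟩
    rw [← hβdef] at hk'
    have hβH : β ∈ H := hβdef ▸ pow_mem a.2.1 _
    refine ⟨k + e * 2, Subtype.ext (Subtype.ext ?_)⟩
    have h3 := pow_eq_one_of_stabilizes (P := R)
      (D := fun i => if i = 0 then ⊥ else if i = 1 then R ⊓ P else R) (n := 2) rfl rfl
      (α := (β : MulAut R)) ?_ ?_
    · rw [he, ← pow_mul, hβdef, SubgroupClass.coe_pow, ← pow_mul, ← pow_add] at h3
      simpa using h3
    · intro i _ x hx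
      match i with
      | 0 =>
        have : x = 1 := Subtype.ext (Subgroup.mem_bot.1 hx)
        simp [this]
      | 1 => exact ⟨((β : MulAut R) x).2, hinv β x hx.2⟩
      | j + 2 => exact ((β : MulAut R) x).2
    · intro i hi x hx
      match i with
      | 0 =>
        have h4 := congrArg (fun g : MulAut (R ⊓ P : Subgroup Ω) => ((g ⟨x, hx⟩ : (R ⊓ P : Subgroup Ω)) : Ω)) hk'
        have h5 : ((β : MulAut R) x : Ω) = x := h4
        simp [h5]
      | 1 => exact ⟨R.mul_mem (R.inv_mem x.2) ((β : MulAut R) x).2, hβH x⟩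
      | j + 2 => omega
  have hle := Cfsg.Lib.Core.le_pCore (p := p) hKp
  have hyS : y ∈ S := hP.1 hy
  have hα : conjAut R hyR ∈ F.autGroup R :=
    autInducedBy_le_autGroup hRS (conjAut_mem_autInducedBy hyR hyS)
  refine mem_of_conjAut_mem_inn (α := conjAut R hyR) (hc.2 R (isConj_refl F hRS)) hRS hyS
    (fun _ => rfl) ?_
  rw [← hrad.2]
  refine ⟨⟨_, hα⟩, hle ⟨fun x => ?_, ?_⟩, rfl⟩
  · show (x : Ω)⁻¹ * (conjAut R hyR x : Ω) ∈ P
    rw [coe_conjAut]
    have h1 : (x : Ω)⁻¹ * y * (x : Ω) ∈ P :=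
      (Subgroup.mem_normalizer_iff''.1 (hPn (hRS x.2)) y).1 hy
    simpa [mul_assoc] using P.mul_mem h1 (P.inv_mem hy)
  · show rest ⟨_, hα⟩ ∈ W
    exact hyW

/-- Criterion: for each self-centralizing `Q ≤ P` and overgroup `N` in the normalizer, some element of
`N \ Q` induces on `Q` an element of a normal `p`-subgroup of `Aut Q`. -/
theorem isNormal_of_normal_stab [Finite S] {p : ℕ} [Fact p.Prime] (hS : IsPGroup p S)
    (hF : F.IsSaturated p) {P : Subgroup Ω} (hP : F.StronglyClosed P)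
    (h : ∀ Q N : Subgroup Ω, Q ≤ P → P ⊓ Subgroup.centralizer (Q : Set Ω) ≤ Q → Q < N → N ≤ P →
      N ≤ Subgroup.normalizer (Q : Set Ω) →
      ∃ W : Subgroup (MulAut Q), W.Normal ∧ IsPGroup p W ∧
        ∃ y ∈ N, y ∉ Q ∧ ∀ hy : y ∈ Subgroup.normalizer (Q : Set Ω), conjAut Q hy ∈ W) :
    F.IsNormal P := by
  refine isNormal_of_stronglyClosed hS hF hP fun R hc hrad => ?_
  by_contra hPR
  have hRS := hc.1
  have hPn := stronglyClosed_le_normalizer hP
  -- elements of `P` normalizing `R` outside `R`, in any `R`-invariant subgroup of `P`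
  have hgrow : ∀ C : Subgroup Ω, C ≤ P → R ≤ Subgroup.normalizer (C : Set Ω) → ¬ C ≤ R →
      ∃ c ∈ C, c ∈ Subgroup.normalizer (R : Set Ω) ∧ c ∉ R := by
    intro C hCP hRC hCR
    haveI := finite_of_le (sup_le hRS (hCP.trans hP.1))
    have hlt : R < R ⊔ C :=
      lt_of_le_of_ne le_sup_left fun h => hCR (h ▸ le_sup_right)
    obtain ⟨y, hy, hyR⟩ :=
      SetLike.exists_of_lt (lt_normalizerIn (hS.to_le (sup_le hRS (hCP.trans hP.1))) hlt)
    have h1 : y ∈ ((R ⊔ C : Subgroup Ω) : Set Ω) := hy.1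
    rw [Subgroup.coe_mul_of_left_le_normalizer_right _ _ hRC] at h1
    obtain ⟨a, ha, b, hb, rfl⟩ := h1
    refine ⟨b, hb, ?_, fun hbR => hyR (R.mul_mem ha hbR)⟩
    simpa using Subgroup.mul_mem _ (Subgroup.inv_mem _ (Subgroup.le_normalizer ha)) hy.2
  have hQn : ∀ g ∈ P, g ∈ Subgroup.normalizer (R : Set Ω) →
      g ∈ Subgroup.normalizer ((R ⊓ P : Subgroup Ω) : Set Ω) := by
    intro g hg hgR
    rw [Subgroup.mem_normalizer_iff] at hgR ⊢
    intro x
    exact and_congr (hgR x) (Subgroup.mem_normalizer_iff.mp (Subgroup.le_normalizer hg) x)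
  have hRQ : R ≤ Subgroup.normalizer ((R ⊓ P : Subgroup Ω) : Set Ω) := by
    intro g hg
    rw [Subgroup.mem_normalizer_iff]
    intro x
    exact and_congr (Subgroup.mem_normalizer_iff.mp (Subgroup.le_normalizer hg) x)
      (Subgroup.mem_normalizer_iff.mp (hPn (hRS hg)) x)
  have hcen : P ⊓ Subgroup.centralizer ((R ⊓ P : Subgroup Ω) : Set Ω) ≤ R ⊓ P := by
    refine le_inf ?_ inf_le_left
    by_contra hCR
    have hnorm : R ≤ Subgroup.normalizer
        ((P ⊓ Subgroup.centralizer ((R ⊓ P : Subgroup Ω) : Set Ω) : Subgroup Ω) : Set Ω) := by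
      intro g hg
      rw [Subgroup.mem_normalizer_iff]
      intro x
      refine and_congr (Subgroup.mem_normalizer_iff.mp (hPn (hRS hg)) x) ?_
      have hgQ := hRQ hg
      change x ∈ Subgroup.centralizer _ ↔ g * x * g⁻¹ ∈ Subgroup.centralizer _
      rw [Subgroup.mem_centralizer_iff, Subgroup.mem_centralizer_iff]
      constructor
      · intro hx q hq
        have h2 := hx _ ((Subgroup.mem_normalizer_iff''.mp hgQ q).mp hq)
        calc q * (g * x * g⁻¹) = g * ((g⁻¹ * q * g) * x) * g⁻¹ := by group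
          _ = g * (x * (g⁻¹ * q * g)) * g⁻¹ := by rw [h2]
          _ = g * x * g⁻¹ * q := by group
      · intro hx q hq
        have h2 := hx _ ((Subgroup.mem_normalizer_iff.mp hgQ q).mp hq)
        calc q * x = g⁻¹ * ((g * q * g⁻¹) * (g * x * g⁻¹)) * g := by group
          _ = g⁻¹ * ((g * x * g⁻¹) * (g * q * g⁻¹)) * g := by rw [h2]
          _ = x * q := by group
    obtain ⟨c, hc', hcN, hcR⟩ := hgrow _ inf_le_left hnorm hCR
    refine hcR (mem_of_normal_stab hS hP hc hrad ⊥ IsPGroup.of_bot hc'.1 hcN (hQn c hc'.1 hcN) ?_)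
    rw [Subgroup.mem_bot]
    ext q
    rw [coe_conjAut, MulAut.one_apply]
    exact conj_eq_of_commute (Subgroup.mem_centralizer_iff.mp hc'.2 q q.2).symm
  have hlt : R ⊓ P < P ⊓ Subgroup.normalizer (R : Set Ω) := by
    refine lt_of_le_of_ne (le_inf inf_le_right (inf_le_left.trans Subgroup.le_normalizer)) fun he => ?_
    obtain ⟨c, hc', hcN, hcR⟩ := hgrow P le_rfl (hRS.trans hPn) hPR
    exact hcR (he.ge ⟨hc', hcN⟩).1
  obtain ⟨W, hWn, hWp, y, hy, hyQ, hyW⟩ := h (R ⊓ P) (P ⊓ Subgroup.normalizer (R : Set Ω))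
    inf_le_right hcen hlt inf_le_left (fun g hg => hQn g hg.1 hg.2)
  haveI := hWn
  exact hyQ ⟨mem_of_normal_stab hS hP hc hrad W hWp hy.1 hy.2 (hQn y hy.1 hy.2) (hyW _), hy.1⟩

end Cfsg.Lib.FusionSys
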