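import Cfsg.Agent.Lib.FusionSys.SylowTwoLinear
import Cfsg.Agent.S0261
import Cfsg.Agent.Lib.Linear.PSLSmall

/-!
Sylow 2-subgroups of `PSL_2(q)` and `PSL_3(q)` for odd `q`.
-/

set_option autoImplicit false
set_option linter.unusedSectionVars false

namespace Cfsg.Lib.FusionSys.Lin

open Matrix

/-- Reduction of a quaternion group modulo its centre. -/
def quaternionToDihedral (n : ℕ) : QuaternionGroup n →* DihedralGroup n where
  toFun
    | QuaternionGroup.a i => DihedralGroup.r (ZMod.castHom (dvd_mul_left n 2) (ZMod n) i)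
    | QuaternionGroup.xa i => DihedralGroup.sr (ZMod.castHom (dvd_mul_left n 2) (ZMod n) i)
  map_one' := by
    show DihedralGroup.r (ZMod.castHom (dvd_mul_left n 2) (ZMod n) 0) = 1
    rw [map_zero, DihedralGroup.one_def]
  map_mul' x y := by
    rcases x with i | i <;> rcases y with j | j <;>
      simp [QuaternionGroup.a_mul_a, QuaternionGroup.a_mul_xa, QuaternionGroup.xa_mul_a,
        QuaternionGroup.xa_mul_xa, map_add, map_sub]

theorem quaternionToDihedral_surjective (n : ℕ) : Function.Surjective (quaternionToDihedral n) := by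
  have h := ZMod.castHom_surjective (dvd_mul_left n 2)
  rintro (i | i)
  · obtain ⟨j, rfl⟩ := h i
    exact ⟨QuaternionGroup.a j, rfl⟩
  · obtain ⟨j, rfl⟩ := h i
    exact ⟨QuaternionGroup.xa j, rfl⟩

theorem quaternionToDihedral_eq_one {n : ℕ} [NeZero n] (x : QuaternionGroup n) :
    quaternionToDihedral n x = 1 ↔ x * x = 1 := by
  rcases x with i | i
  · have h2 : (ZMod.castHom (dvd_mul_left n 2) (ZMod n) i = 0) ↔ i + i = 0 := by
      rw [← ZMod.natCast_zmod_val i, map_natCast, ZMod.natCast_eq_zero_iff, ← Nat.cast_add,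
        ZMod.natCast_eq_zero_iff, ← two_mul, Nat.mul_dvd_mul_iff_left two_pos]
    constructor
    · intro h
      have h' : DihedralGroup.r (ZMod.castHom (dvd_mul_left n 2) (ZMod n) i) = DihedralGroup.r 0 := by
        rw [← DihedralGroup.one_def]; exact h
      rw [QuaternionGroup.a_mul_a, h2.1 (by injection h')]
      rfl
    · intro h
      rw [QuaternionGroup.a_mul_a, QuaternionGroup.one_def] at h
      show DihedralGroup.r _ = 1
      rw [h2.2 (by injection h), DihedralGroup.one_def]
  · constructor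
    · intro h
      have h' : DihedralGroup.sr (ZMod.castHom (dvd_mul_left n 2) (ZMod n) i) = DihedralGroup.r 0 := by
        rw [← DihedralGroup.one_def]; exact h
      cases h'
    · intro h
      rw [QuaternionGroup.xa_mul_xa, add_sub_cancel_right, QuaternionGroup.one_def] at h
      exfalso
      have h' : ((n : ℕ) : ZMod (2 * n)) = 0 := by injection h
      rw [ZMod.natCast_eq_zero_iff] at h'
      have := Nat.le_of_dvd (Nat.pos_of_ne_zero (NeZero.ne n)) h'
      have := Nat.pos_of_ne_zero (NeZero.ne n)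
      omega

variable {F : Type*} [Field F] [Fintype F]

theorem sylow_psl_two_equiv_dihedral (hF : Odd (Fintype.card F)) (h16 : 16 ∣ Fintype.card F ^ 2 - 1)
    (S : Sylow 2 (ProjectiveSpecialLinearGroup (Fin 2) F)) :
    ∃ n, 3 ≤ n ∧ Nonempty ((S : Subgroup (ProjectiveSpecialLinearGroup (Fin 2) F)) ≃* DihedralGroup n) := by
  classical
  haveI : Fact (Nat.Prime 2) := ⟨Nat.prime_two⟩
  have h2 := Cfsg.Agent.S0261.two_ne hF
  set π := QuotientGroup.mk' (Subgroup.center (SpecialLinearGroup (Fin 2) F))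
  let P : Sylow 2 (SpecialLinearGroup (Fin 2) F) := default
  obtain ⟨k, -, ⟨e⟩⟩ := Cfsg.Agent.S0261.result hF P
  haveI : NeZero (2 ^ k) := ⟨by positivity⟩
  set S' : Sylow 2 (ProjectiveSpecialLinearGroup (Fin 2) F) :=
    P.mapSurjective (f := π) (QuotientGroup.mk'_surjective _) with hS'
  let f : (P : Subgroup (SpecialLinearGroup (Fin 2) F)) →* (S' : Subgroup (ProjectiveSpecialLinearGroup (Fin 2) F)) :=
    π.subgroupMap P
  have hf : Function.Surjective f := π.subgroupMap_surjective P
  have hfker : ∀ x : (P : Subgroup (SpecialLinearGroup (Fin 2) F)), f x = 1 ↔ x * x = 1 := by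
    intro x
    rw [Subtype.ext_iff]
    show π (x : SpecialLinearGroup (Fin 2) F) = 1 ↔ _
    rw [QuotientGroup.mk'_apply, QuotientGroup.eq_one_iff, Matrix.SpecialLinearGroup.mem_center_iff]
    constructor
    · rintro ⟨r, hr, hrx⟩
      apply Subtype.ext
      apply Subtype.ext
      refine (Matrix.SpecialLinearGroup.coe_mul _ _).trans ?_
      show ((x : SpecialLinearGroup (Fin 2) F) : Matrix (Fin 2) (Fin 2) F) *
        ((x : SpecialLinearGroup (Fin 2) F) : Matrix (Fin 2) (Fin 2) F) = 1
      rw [← hrx, ← map_mul, ← pow_two, show r ^ 2 = 1 by simpa using hr, map_one]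
    · intro hx
      rcases Cfsg.Agent.S0261.sq_one h2 (x : SpecialLinearGroup (Fin 2) F)
        (by rw [pow_two]; exact congrArg Subtype.val hx) with h | h
      · exact ⟨1, one_pow _, by rw [map_one, h]⟩
      · exact ⟨-1, by simp, by rw [map_neg, map_one, h]⟩
  let g := (quaternionToDihedral (2 ^ k)).comp e.toMonoidHom
  have hg : Function.Surjective g := (quaternionToDihedral_surjective _).comp e.surjective
  have hker : f.ker = g.ker := by
    ext x
    rw [MonoidHom.mem_ker, hfker, MonoidHom.mem_ker]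
    show _ ↔ quaternionToDihedral _ (e x) = 1
    rw [quaternionToDihedral_eq_one, ← map_mul, map_eq_one_iff e e.injective]
  refine ⟨2 ^ k, ?_, ⟨(Sylow.equiv S S').trans ((QuotientGroup.quotientKerEquivOfSurjective f hf).symm.trans
    ((QuotientGroup.quotientMulEquivOfEq hker).trans (QuotientGroup.quotientKerEquivOfSurjective g hg)))⟩⟩
  have hk : 2 ≤ k := by
    by_contra hk
    have h8 : Nat.card (P : Subgroup (SpecialLinearGroup (Fin 2) F)) ∣ 8 := by
      rw [Nat.card_congr e.toEquiv, Nat.card_eq_fintype_card, QuaternionGroup.card]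
      interval_cases k <;> norm_num
    obtain ⟨U, hU⟩ := Sylow.exists_subgroup_card_pow_prime 2 (n := 4)
      (G := SpecialLinearGroup (Fin 2) F) (by
        rw [Cfsg.Lib.Linear.Two.card_SL_two]; exact h16.mul_left _)
    obtain ⟨R, hR⟩ := (IsPGroup.of_card hU).exists_le_sylow
    have h16' : 16 ∣ Nat.card (P : Subgroup (SpecialLinearGroup (Fin 2) F)) := by
      rw [P.card_eq_multiplicity, ← R.card_eq_multiplicity]
      have := Subgroup.card_dvd_of_le hR
      rwa [hU] at this
    exact absurd (Nat.le_of_dvd (by norm_num) (h16'.trans h8)) (by norm_num)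
  calc 3 ≤ 2 ^ 2 := by norm_num
    _ ≤ 2 ^ k := Nat.pow_le_pow_right two_pos hk

/-- The block embedding of `GL_2` into `SL_3`. -/
noncomputable def glToSLThree : GL (Fin 2) F →* SpecialLinearGroup (Fin 3) F where
  toFun g := ⟨!![(g : Matrix (Fin 2) (Fin 2) F) 0 0, (g : Matrix (Fin 2) (Fin 2) F) 0 1, 0;
      (g : Matrix (Fin 2) (Fin 2) F) 1 0, (g : Matrix (Fin 2) (Fin 2) F) 1 1, 0;
      0, 0, ((g : Matrix (Fin 2) (Fin 2) F).det)⁻¹], by
    have hd : (g : Matrix (Fin 2) (Fin 2) F).det ≠ 0 := (g.isUnit.map Matrix.detMonoidHom).ne_zero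
    rw [Matrix.det_fin_three]
    simp
    rw [Matrix.det_fin_two] at hd
    rw [Matrix.det_fin_two]
    field_simp⟩
  map_one' := Subtype.ext (by
    ext i j
    fin_cases i <;> fin_cases j <;> simp)
  map_mul' g h := Subtype.ext (by
    refine Eq.trans ?_ (Matrix.SpecialLinearGroup.coe_mul _ _).symm
    ext i j
    fin_cases i <;> fin_cases j <;>
      simp [Matrix.mul_apply, Fin.sum_univ_two, Fin.sum_univ_three, Matrix.det_mul, mul_comm])

theorem glToSLThree_injective : Function.Injective (glToSLThree (F := F)) := fun a b h => by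
  have h' := congrArg (fun g : SpecialLinearGroup (Fin 3) F => (g : Matrix (Fin 3) (Fin 3) F)) h
  refine Units.ext (Matrix.ext fun i j => ?_)
  have h00 := congrFun (congrFun h' 0) 0
  have h01 := congrFun (congrFun h' 0) 1
  have h10 := congrFun (congrFun h' 1) 0
  have h11 := congrFun (congrFun h' 1) 1
  simp [glToSLThree] at h00 h01 h10 h11
  fin_cases i <;> fin_cases j <;> simp <;> assumption

theorem sylow_psl_three_equiv (hF : Odd (Fintype.card F))
    (S : Sylow 2 (ProjectiveSpecialLinearGroup (Fin 3) F)) (P : Sylow 2 (GL (Fin 2) F)) :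
    Nonempty ((P : Subgroup (GL (Fin 2) F)) ≃* (S : Subgroup (ProjectiveSpecialLinearGroup (Fin 3) F))) := by
  classical
  haveI : Fact (Nat.Prime 2) := ⟨Nat.prime_two⟩
  let f : (P : Subgroup (GL (Fin 2) F)) →* ProjectiveSpecialLinearGroup (Fin 3) F :=
    (QuotientGroup.mk' (Subgroup.center (SpecialLinearGroup (Fin 3) F))).comp
      (glToSLThree.comp (P : Subgroup (GL (Fin 2) F)).subtype)
  have hf : Function.Injective f := by
    rw [injective_iff_map_eq_one]
    intro x hx
    obtain ⟨r, hr, hrx⟩ := Matrix.SpecialLinearGroup.mem_center_iff.1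
      ((QuotientGroup.eq_one_iff (glToSLThree (x : GL (Fin 2) F))).1 hx)
    have h3 : x ^ 3 = 1 := by
      apply Subtype.ext
      apply glToSLThree_injective
      rw [SubgroupClass.coe_pow, map_pow, OneMemClass.coe_one, map_one]
      apply Subtype.ext
      refine (Matrix.SpecialLinearGroup.coe_pow _ _).trans ?_
      show (glToSLThree (x : GL (Fin 2) F) : Matrix (Fin 3) (Fin 3) F) ^ 3 = 1
      have hrx' : scalar (Fin 3) r = (glToSLThree (x : GL (Fin 2) F) : Matrix (Fin 3) (Fin 3) F) := hrx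
      rw [← hrx', ← map_pow, show r ^ 3 = 1 by simpa using hr, map_one]
    obtain ⟨j, hj⟩ := P.2 x
    have h1 := pow_gcd_eq_one.2 ⟨h3, hj⟩
    rwa [Nat.Coprime.gcd_eq_one (Nat.Coprime.pow_right j (by norm_num)), pow_one] at h1
  obtain ⟨R, hR⟩ := (P.2.of_equiv (MonoidHom.ofInjective hf)).exists_le_sylow
  have heq : f.range = R := by
    refine Subgroup.eq_of_le_of_card_ge hR (le_of_eq ?_)
    rw [← Nat.card_congr (MonoidHom.ofInjective hf).toEquiv]
    obtain ⟨m, hm⟩ := hF
    obtain ⟨e, t, ht, hGL⟩ := Nat.exists_eq_two_pow_mul_odd (n := Nat.card (GL (Fin 2) F)) Nat.card_pos.ne'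
    rw [card_sylow_two P ht hGL]
    set q := Fintype.card F with hq
    obtain ⟨c, hc⟩ : Nat.gcd 3 (q - 1) ∣ 3 := Nat.gcd_dvd_left _ _
    refine card_sylow_two R (m := t * (c * q * q * (q * q + q + 1)) / 3) ?_ ?_
    all_goals
      have hsl := Cfsg.Lib.Linear.card_SL_mul (F := F) 3 (by norm_num)
      have hgl := card_GL_two (F := F)
      have hps := Cfsg.Lib.Linear.card_SL_eq_gcd_mul_card_PSL (ι := Fin 3) (F := F)
      rw [Fintype.card_fin, ← hq] at hps
      rw [← hq] at hsl hgl
      obtain ⟨d, hd⟩ : ∃ d, q = d + 1 := ⟨q - 1, by omega⟩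
      simp only [Fin.prod_univ_three, hd, Fin.val_zero, Fin.val_one, Fin.val_two, pow_zero, pow_one,
        Nat.add_sub_cancel] at hsl hgl hps hc
      have e1 : (d + 1) ^ 3 - 1 = d * (d ^ 2 + 3 * d + 3) := Nat.sub_eq_of_eq_add (by ring)
      have e2 : (d + 1) ^ 3 - (d + 1) = (d + 1) * (d * (d + 2)) := Nat.sub_eq_of_eq_add (by ring)
      have e3 : (d + 1) ^ 3 - (d + 1) ^ 2 = (d + 1) * (d + 1) * d := Nat.sub_eq_of_eq_add (by ring)
      rw [e1, e2, e3] at hsl
      have hd0 : 0 < d := by
        have : 2 ≤ q := Fintype.one_lt_card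
        omega
      have hG : 3 * Nat.card (ProjectiveSpecialLinearGroup (Fin 3) F) =
          2 ^ e * (t * (c * q * q * (q * q + q + 1))) := by
        apply Nat.eq_of_mul_eq_mul_left (show 0 < d from hd0)
        rw [← mul_assoc (2 ^ e), ← hGL, hgl, hd]
        calc d * (3 * Nat.card (ProjectiveSpecialLinearGroup (Fin 3) F))
            = d * ((Nat.gcd 3 d * c) * Nat.card (ProjectiveSpecialLinearGroup (Fin 3) F)) := by rw [← hc]
          _ = c * (d * (Nat.gcd 3 d * Nat.card (ProjectiveSpecialLinearGroup (Fin 3) F))) := by ring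
          _ = c * (d * Nat.card (SpecialLinearGroup (Fin 3) F)) := by rw [hps]
          _ = _ := by rw [hsl]; ring
      have h3 : 3 ∣ t * (c * q * q * (q * q + q + 1)) :=
        (Nat.Coprime.pow_right e (show Nat.Coprime 3 2 by norm_num)).dvd_of_dvd_mul_left ⟨_, hG.symm⟩
    · refine Odd.of_dvd_nat ((ht.mul (((Odd.mul ?_ ?_).mul ?_).mul ?_))) (Nat.div_dvd_of_dvd h3)
      · exact Odd.of_dvd_nat (by decide : Odd 3) (Dvd.intro_left _ hc.symm)
      · exact ⟨m, by omega⟩
      · exact ⟨m, by omega⟩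
      · exact ⟨(q * q + q) / 2, by
          have : (q * q + q) % 2 = 0 := by
            rw [show q * q + q = q * (q + 1) by ring]
            exact Nat.even_iff.1 (Nat.even_mul_succ_self q)
          omega⟩
    · obtain ⟨u, hu⟩ := h3
      rw [hu, Nat.mul_div_cancel_left _ (by norm_num)]
      rw [hu, show 2 ^ e * (3 * u) = 3 * (2 ^ e * u) by ring] at hG
      exact Nat.eq_of_mul_eq_mul_left (by norm_num) hG
  exact ⟨(MonoidHom.ofInjective hf).trans ((MulEquiv.subgroupCongr heq).trans (Sylow.equiv R S))⟩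

end Cfsg.Lib.FusionSys.Lin
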