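import Cfsg.Agent.Lib.FusionSys.Descent
import Cfsg.Prelude.Def_PLocal

/-!
Glauberman's functor theorem for section-free fusion systems.
-/

set_option autoImplicit false
set_option linter.style.haveILetI false

universe u v

namespace Cfsg.Lib.FusionSys

open Cfsg Cfsg.FusionSystem

/-- The value of a functor on a subgroup, in the ambient group. -/
def functorOf (W : ∀ (Q : Type u) [Group Q], Subgroup Q) {Ω : Type u} [Group Ω] (T : Subgroup Ω) :
    Subgroup Ω := (W T).map T.subtype

variable {p : ℕ} (W : ∀ (Q : Type u) [Group Q], Subgroup Q)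

theorem functorOf_char [Fact p.Prime]
    (hW2 : ∀ (Q R : Type u) [Group Q] [Group R] [Finite Q], IsPGroup p Q →
      ∀ φ : Q ≃* R, (W Q).map φ.toMonoidHom = W R)
    {Ω : Type u} [Group Ω] (T : Subgroup Ω) [Finite T] (hT : IsPGroup p T) :
    functorOf W T ≤ T ∧ ((functorOf W T).subgroupOf T).Characteristic := by
  refine ⟨Subgroup.map_subtype_le _, ?_⟩
  show (((W T).map T.subtype).comap T.subtype).Characteristic
  rw [Subgroup.comap_map_eq_self_of_injective T.subtype_injective]
  exact Subgroup.characteristic_iff_map_eq.2 fun φ => hW2 T T hT φ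

theorem functorOf_ne_bot [Fact p.Prime]
    (hW1 : ∀ (Q : Type u) [Group Q] [Finite Q], IsPGroup p Q → Nontrivial Q → W Q ≠ ⊥)
    {Ω : Type u} [Group Ω] (T : Subgroup Ω) [Finite T] (hT : IsPGroup p T) (h : T ≠ ⊥) :
    functorOf W T ≠ ⊥ := by
  rw [functorOf, Ne, Subgroup.map_eq_bot_iff_of_injective _ T.subtype_injective]
  exact hW1 T hT ((Subgroup.nontrivial_iff_ne_bot T).2 h)

variable {X : Type v} [Group X]

/-- One step of the descent: a system with a nontrivial normal subgroup. -/
theorem isNormal_functorOf_of_normal [Fact p.Prime] (n : ℕ)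
    (hW1 : ∀ (Q : Type u) [Group Q] [Finite Q], IsPGroup p Q → Nontrivial Q → W Q ≠ ⊥)
    (hW2 : ∀ (Q R : Type u) [Group Q] [Group R] [Finite Q], IsPGroup p Q →
      ∀ φ : Q ≃* R, (W Q).map φ.toMonoidHom = W R)
    (hW3 : ∀ (L : Type u) [Group L] [Finite L] (P : Sylow p L),
      Subgroup.centralizer ((pCore p L : Subgroup L) : Set L) ≤ pCore p L →
        ¬ Involves X L → (functorOf W (P : Subgroup L)).Normal)
    (ihn : ∀ (Ω : Type u) [Group Ω] (S : Subgroup Ω) [Finite S], IsPGroup p S → Nat.card S ≤ n →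
      ∀ F : FusionSystem S, F.IsSaturated p → F.IsSectionFree p X → F.IsNormal (functorOf W S))
    {Ω : Type u} [Group Ω] {S : Subgroup Ω} [Finite S] (hS : IsPGroup p S)
    (hn : Nat.card S ≤ n + 1) :
    ∀ (k : ℕ) (Q : Subgroup Ω), Q ≠ ⊥ → Nat.card S < Nat.card Q + k →
      ∀ F : FusionSystem S, F.IsSaturated p → F.IsSectionFree p X → F.IsNormal Q →
        F.IsNormal (functorOf W S) := by
  intro k
  induction k with
  | zero =>
    intro Q _ hlt F _ _ hQ
    exact absurd (card_le_of_le hQ.1) (by omega)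
  | succ k ih =>
    intro Q hQne hlt F hF hfree hQ
    have hWch := functorOf_char W hW2 S hS
    by_cases hQS : Q = S
    · subst hQS
      exact isNormal_of_characteristic hQ hWch.1 hWch.2
    have hgrow : ∀ V : Subgroup Ω, V ≤ S → Q ≤ V → V ≠ Q → V ≠ ⊥ ∧ Nat.card S < Nat.card V + k := by
      intro V hV hQV hne
      haveI := finite_of_le hV
      have h1 : Nat.card Q < Nat.card V :=
        lt_of_le_of_ne (card_le_of_le hQV) fun he => hne (Subgroup.eq_of_le_of_card_ge hQV he.ge).symm
      exact ⟨fun h => hQne (le_bot_iff.1 (h ▸ hQV)), by omega⟩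
    have hsc := isNormal_stronglyClosed hQ
    have hQn := stronglyClosed_le_normalizer hsc
    by_cases hc : centralizerIn S Q ≤ Q
    · obtain ⟨L, hLg, ι, hL, hfreeL⟩ := exists_constrained_model hS hF hQ hc
      haveI := hL.1
      obtain ⟨T, hT⟩ := id hL.2.2.1
      have hnorm := hW3 L T hL.2.2.2 (hfreeL X hfree)
      refine isNormal_of_imageOf_normal hL.2.1 hWch.1 ?_
      let e : S ≃* (T : Subgroup L) :=
        (MonoidHom.ofInjective hL.2.1.1).trans (MulEquiv.subgroupCongr hT.symm)
      have h1 : imageOf ι (functorOf W S) = functorOf W (T : Subgroup L) := by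
        rw [functorOf, functorOf, ← hW2 S (T : Subgroup L) hS e, imageOf, Subgroup.map_map]
        show (((W S).map S.subtype).comap S.subtype).map ι = _
        rw [Subgroup.comap_map_eq_self_of_injective S.subtype_injective]
        rfl
      rw [h1]
      exact hnorm
    have hTS : Q ⊔ centralizerIn S Q ≤ S := sup_le hQ.1 (centralizerIn_le Q)
    obtain ⟨F₂, hF₂, hF₂s, -, hF₂n, hF₂free⟩ := exists_normalizerPart.{u, v} (F := F) hS hF hTS
      (le_normalizer_sup_centralizerIn hQn)
    have h2 : F₂.IsNormal (functorOf W S) := by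
      obtain ⟨h, h'⟩ := hgrow _ hTS le_sup_left fun h => hc ((le_sup_right : centralizerIn S Q ≤ Q ⊔ centralizerIn S Q).trans h.le)
      exact ih _ h h' F₂ hF₂s (hF₂free X hfree) hF₂n
    obtain ⟨F₁, hF₁⟩ := exists_centralPart F hQ.1 hQn
    have hF₁s := isSaturated_centralPart hS hF hQ hF₁
    have hF₁n := isNormal_centralPart hQ.1 hQn hF₁
    have hF₁free := isSectionFree_centralPart hS hF hQ hF₁ hfree
    have h1 : F₁.IsNormal (functorOf W S) := by
      haveI : (Q.subgroupOf S).Normal := ⟨fun x hx g =>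
        (Subgroup.mem_normalizer_iff.1 (hQn g.2) (x : Ω)).1 hx⟩
      set θ := QuotientGroup.mk' (Q.subgroupOf S)
      have hker : ∀ s : S, θ s = 1 ↔ (s : Ω) ∈ Q := fun s => QuotientGroup.eq_one_iff s
      have hrange : θ.range = ⊤ := MonoidHom.range_eq_top.2 (QuotientGroup.mk'_surjective _)
      obtain ⟨E, hE⟩ := exists_factorSystem (isNormal_stronglyClosed hF₁n) hker hrange
      have hS' : IsPGroup p (⊤ : Subgroup (S ⧸ Q.subgroupOf S)) := (hS.to_quotient _).to_subgroup _
      have hcard : Nat.card (⊤ : Subgroup (S ⧸ Q.subgroupOf S)) ≤ n := by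
        rw [Subgroup.card_top]
        have h1 := Subgroup.card_eq_card_quotient_mul_card_subgroup (Q.subgroupOf S)
        haveI := finite_of_le hQ.1
        have h2 : 1 < Nat.card (Q.subgroupOf S) := by
          rw [Nat.card_congr (Subgroup.subgroupOfEquivOfLe hQ.1).toEquiv]
          exact (Subgroup.one_lt_card_iff_ne_bot Q).2 hQne
        nlinarith [Nat.card_pos (α := S ⧸ Q.subgroupOf S)]
      have hV := ihn _ ⊤ hS' hcard E (isSaturated_factor hS hF₁s (isNormal_stronglyClosed hF₁n) hE)
        (isSectionFree_factor hS hF₁s hF₁n hE hF₁free)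
      have hVn : F₁.IsNormal (preimageAlong θ (functorOf W ⊤)) :=
        isNormal_preimage_centralPart hS hF₁s hF₁n
          (fun U hU hUn => stronglyClosed_centralPart hF₁ hU hQ.1 hUn) hE hV
      obtain ⟨h, h'⟩ := hgrow _ preimageAlong_le (kernel_le_preimageAlong hQ.1 hker) (by
        intro he
        have hne : functorOf W (⊤ : Subgroup (S ⧸ Q.subgroupOf S)) ≠ ⊥ := by
          refine functorOf_ne_bot W hW1 _ hS' fun htop => hQS (le_antisymm hQ.1 fun x hx => ?_)
          exact (hker ⟨x, hx⟩).1 (Subgroup.mem_bot.1 (htop.le (Subgroup.mem_top _)))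
        refine hne (le_bot_iff.1 fun y hy => ?_)
        obtain ⟨x, rfl⟩ := QuotientGroup.mk'_surjective (Q.subgroupOf S) y
        exact Subgroup.mem_bot.2 ((hker x).2 (he.le (mem_preimageAlong.2 ⟨x.2, hy⟩))))
      exact ih _ h h' F₁ hF₁s hF₁free hVn
    have hWn : S ≤ Subgroup.normalizer (functorOf W S : Set Ω) :=
      fun g hg => le_normalizer_of_char hWch.1 hWch.2 (Subgroup.le_normalizer hg)
    obtain ⟨D, hD, -⟩ := exists_normalizerPart.{u, v} (F := F) hS hF (hWch.1) hWn
    refine isNormal_of_le_normalizerHom hWch.1 fun P φ hφ => ?_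
    rw [← hD]
    refine le_of_centralPart hS hF hQ D (fun R ψ hψ => ?_) (fun R ψ hψ => ?_) P hφ
    · rw [← hF₁] at hψ
      obtain ⟨-, hP, hv, χ, hχ, hχe⟩ := normalizerHom_of_isNormal h1 hψ
      rw [hD]
      exact ⟨centralPart_le hF₁ R hψ, hP, hv, χ, centralPart_le hF₁ _ hχ, hχe⟩
    · rw [← hF₂] at hψ
      obtain ⟨-, hP, hv, χ, hχ, hχe⟩ := normalizerHom_of_isNormal h2 hψ
      rw [hF₂] at hψ hχ
      rw [hD]
      exact ⟨hψ.1, hP, hv, χ, hχ.1, hχe⟩

/-- Glauberman's functor theorem. -/
theorem isNormal_functorOf [Fact p.Prime]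
    (hW1 : ∀ (Q : Type u) [Group Q] [Finite Q], IsPGroup p Q → Nontrivial Q → W Q ≠ ⊥)
    (hW2 : ∀ (Q R : Type u) [Group Q] [Group R] [Finite Q], IsPGroup p Q →
      ∀ φ : Q ≃* R, (W Q).map φ.toMonoidHom = W R)
    (hW3 : ∀ (L : Type u) [Group L] [Finite L] (P : Sylow p L),
      Subgroup.centralizer ((pCore p L : Subgroup L) : Set L) ≤ pCore p L →
        ¬ Involves X L → (functorOf W (P : Subgroup L)).Normal) :
    ∀ (n : ℕ) (Ω : Type u) [Group Ω] (S : Subgroup Ω) [Finite S], IsPGroup p S → Nat.card S ≤ n →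
      ∀ F : FusionSystem S, F.IsSaturated p → F.IsSectionFree p X → F.IsNormal (functorOf W S) := by
  intro n
  induction n with
  | zero =>
    intro Ω _ S _ _ hn
    exact absurd (Nat.card_pos (α := S)) (by omega)
  | succ n ih =>
    intro Ω _ S _ hS hn F hF hfree
    have hWch := functorOf_char W hW2 S hS
    have hWn : S ≤ Subgroup.normalizer (functorOf W S : Set Ω) :=
      fun g hg => le_normalizer_of_char hWch.1 hWch.2 (Subgroup.le_normalizer hg)
    have hnorm : ∀ U : Subgroup Ω, F.IsFullyNormalized U → U ≠ ⊥ →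
        ∀ R, F.normalizerHom U R ⊆ F.normalizerHom (functorOf W (normalizerIn S U)) R := by
      intro U hUn hU R φ hφ
      obtain ⟨N, hN⟩ := exists_normalizerSystem F hUn.1
      haveI := finite_of_le (normalizerIn_le (S := S) U)
      have hTS := normalizerIn_le (S := S) U
      have hTp := hS.to_le hTS
      have hNW : N.IsNormal (functorOf W (normalizerIn S U)) := by
        refine isNormal_functorOf_of_normal W n hW1 hW2 hW3 (fun Ω _ S _ => ih Ω S) hTp
          ((card_le_of_le hTS).trans hn) (Nat.card (normalizerIn S U)) U hU ?_ N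
          (isSaturated_normalizerSystem hS hF hUn hN) (isSectionFree_normalizerSystem hS hF hfree hUn hN)
          (isNormal_normalizerSystem hUn.1 hN)
        haveI := finite_of_le hUn.1
        exact Nat.lt_add_of_pos_left Nat.card_pos
      rw [← hN R] at hφ
      obtain ⟨ψ, hψ, hψe, hψW⟩ := hNW.2 R φ hφ
      obtain ⟨hφF, hR, hv, -⟩ := (mem_normalizerSystem hN).1 hφ
      have hle : Subgroup.normalizer (normalizerIn S U : Set Ω) ≤
          Subgroup.normalizer (functorOf W (normalizerIn S U) : Set Ω) :=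
        le_normalizer_of_char (functorOf_char W hW2 _ hTp).1 (functorOf_char W hW2 _ hTp).2
      exact ⟨hφF, fun x hx => ⟨hTS (hR hx), hle (Subgroup.le_normalizer (hR hx))⟩,
        fun x => ⟨hTS (hv x), hle (Subgroup.le_normalizer (hv x))⟩, ψ,
        subset_of_normalizerSystem hN hψ, hψe, hψW⟩
    obtain ⟨D, hD, -⟩ := exists_normalizerPart.{u, v} (F := F) hS hF hWch.1 hWn
    refine isNormal_of_le_normalizerHom hWch.1 fun P φ hφ => ?_
    rw [← hD]
    refine le_of_local hS hF D (fun U hUn hU hT R ψ hψ => ?_) (fun U hUn hU hT => ?_) P hφ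
    · have h0 : functorOf W (normalizerIn S U) = functorOf W S :=
        congrArg (fun T : Subgroup Ω => functorOf W T) hT
      have h1 := hnorm U hUn hU R hψ
      rw [h0] at h1
      rw [hD]
      exact h1
    · have hTS := normalizerIn_le (S := S) U
      haveI := finite_of_le hTS
      have hTp := hS.to_le hTS
      have hWT := functorOf_char W hW2 _ hTp
      refine ⟨_, hWT.1.trans hTS, functorOf_ne_bot W hW1 _ hTp ?_, ?_, hnorm U hUn hU⟩
      · exact fun h => hU (le_bot_iff.1 (h ▸ le_normalizerIn hUn.1))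
      · refine lt_of_lt_of_le (lt_normalizerIn hS (lt_of_le_of_ne hTS hT)) fun g hg =>
          ⟨hg.1, le_normalizer_of_char hWT.1 hWT.2 hg.2⟩

theorem glauberman_functor [Fact p.Prime]
    (hW1 : ∀ (Q : Type u) [Group Q] [Finite Q], IsPGroup p Q → Nontrivial Q → W Q ≠ ⊥)
    (hW2 : ∀ (Q R : Type u) [Group Q] [Group R] [Finite Q], IsPGroup p Q →
      ∀ φ : Q ≃* R, (W Q).map φ.toMonoidHom = W R)
    (hW3 : ∀ (L : Type u) [Group L] [Finite L] (P : Sylow p L),
      Subgroup.centralizer ((pCore p L : Subgroup L) : Set L) ≤ pCore p L →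
        ¬ Involves X L → (functorOf W (P : Subgroup L)).Normal)
    {Ω : Type u} [Group Ω] {S : Subgroup Ω} [Finite S] (hS : IsPGroup p S) {F : FusionSystem S}
    (hF : F.IsSaturated p) (hfree : F.IsSectionFree p X)
    {N : FusionSystem (normalizerIn S (functorOf W S))}
    (hN : F.IsNormalizerSystem (functorOf W S) N) (P : Subgroup Ω) : N.Hom P = F.Hom P := by
  have h := isNormal_functorOf W hW1 hW2 hW3 _ Ω S hS le_rfl F hF hfree
  refine Set.ext fun φ => ⟨fun hφ => subset_of_normalizerSystem hN hφ, fun hφ => ?_⟩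
  rw [hN P]
  exact normalizerHom_of_isNormal h hφ

end Cfsg.Lib.FusionSys
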