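import Cfsg.Agent.Lib.FusionSys.Descent
import Cfsg.Agent.Lib.FusionSys.Functor

/-!
Normal `p`-complement theorems for fusion systems, lifted from the group theorems.
-/

set_option autoImplicit false
set_option linter.style.haveILetI false

universe u v w

namespace Cfsg.Lib.FusionSys

open Cfsg Cfsg.FusionSystem

variable {Ω : Type u} [Group Ω] {S : Subgroup Ω} {F : FusionSystem S} {p : ℕ}
  {P Q U V : Subgroup Ω}

theorem le_inner_of_autGroup [Finite S] [Fact p.Prime] (hS : IsPGroup p S) (hF : F.IsSaturated p)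
    (h : ∀ P : Subgroup Ω, (P = S ∨ F.IsEssential p P) → IsPGroup p (F.autGroup P)) :
    F ≤ innerFusionSystem S := by
  refine le_of_autGroup_le hS hF _ fun P hP α hα => ?_
  have hPn : F.IsFullyNormalized P := by
    rcases hP with rfl | h'
    exacts [isFullyNormalized_top F, h'.2.1]
  haveI := finite_of_le hPn.1
  obtain ⟨-, -, R, hR⟩ := isFullyAutomized_and_fc_of_fn hS hF hPn
  have htop : (R : Subgroup (F.autGroup P)) = ⊤ := (R.3 ((h P hP).to_subgroup ⊤) le_top).symm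
  have h1 : (⟨α, hα⟩ : F.autGroup P) ∈ (R : Subgroup (F.autGroup P)) := htop ▸ trivial
  rw [hR, Subgroup.mem_subgroupOf] at h1
  exact autInducedBy_le_autGroup hPn.1 h1

theorem isPGroup_autGroup_of_le_inner (hS : IsPGroup p S) (h : F ≤ innerFusionSystem S)
    (hP : P ≤ S) : IsPGroup p (F.autGroup P) := by
  refine (isPGroup_autInducedBy (P := P) hS).to_le fun α hα => ?_
  obtain ⟨-, g, hg, hge⟩ := h P ((mem_autGroup hP).1 hα)
  exact mem_autInducedBy.2 ⟨g, hg, hge⟩

/-- Some automorphism not of `p`-power order extends to a map normalizing `U`. -/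
def NonNilAt (F : FusionSystem S) (p : ℕ) (U : Subgroup Ω) : Prop :=
  ∃ (P : Subgroup Ω) (α : MulAut P),
    P.subtype.comp α.toMonoidHom ∈ F.normalizerHom U P ∧ ∀ k : ℕ, α ^ p ^ k ≠ 1

theorem exists_not_pow (h : ¬ IsPGroup p (F.autGroup P)) :
    ∃ α ∈ F.autGroup P, ∀ k : ℕ, α ^ p ^ k ≠ 1 := by
  by_contra hh
  push Not at hh
  refine h fun a => ?_
  obtain ⟨k, hk⟩ := hh a a.2
  exact ⟨k, Subtype.ext hk⟩

theorem exists_nonNilAt [Finite S] [Fact p.Prime] (hS : IsPGroup p S) (hF : F.IsSaturated p)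
    (h : ¬ F ≤ innerFusionSystem S) :
    ∃ U : Subgroup Ω, F.IsFullyNormalized U ∧ U ≠ ⊥ ∧ NonNilAt F p U := by
  by_contra hh
  refine h (le_inner_of_autGroup hS hF fun P hP => ?_)
  by_contra hp'
  obtain ⟨α, hα, hne⟩ := exists_not_pow hp'
  have hPn : F.IsFullyNormalized P := by
    rcases hP with rfl | h'
    exacts [isFullyNormalized_top F, h'.2.1]
  refine hh ⟨P, hPn, fun hbot => hne 0 (MulEquiv.ext fun x => ?_), P, α, ⟨?_, ?_, ?_, ?_⟩, hne⟩
  · have hx : x = 1 := Subtype.ext (Subgroup.mem_bot.1 (hbot.le x.2))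
    simp [hx]
  · exact (mem_autGroup hPn.1).1 hα
  · exact le_normalizerIn hPn.1
  · exact fun x => le_normalizerIn hPn.1 (α x).2
  · have hi := restrict_mem ((mem_autGroup hPn.1).1 hα : P.subtype.comp α.toMonoidHom ∈ F.Hom P)
      (sup_le le_rfl le_rfl : P ⊔ P ≤ P)
    exact ⟨_, hi, fun x => rfl, range_restrict_eq hPn.1 hi le_sup_right fun x _ => (α _).2⟩

theorem not_le_inner_of_nonNilAt (hS : IsPGroup p S) {D : FusionSystem S}
    (hD : ∀ P, D.Hom P = F.normalizerHom U P) (h : NonNilAt F p U) :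
    ¬ D ≤ innerFusionSystem S := by
  intro hle
  obtain ⟨P, α, hα, hne⟩ := h
  have hαD : P.subtype.comp α.toMonoidHom ∈ D.Hom P := by rw [hD]; exact hα
  have hP := hom_le hαD
  obtain ⟨k, hk⟩ := isPGroup_autGroup_of_le_inner hS hle hP ⟨α, (mem_autGroup hP).2 hαD⟩
  exact hne k (congrArg Subtype.val hk)

theorem le_inner_of_not_nonNilAt [Finite S] [Fact p.Prime] (hS : IsPGroup p S) {D : FusionSystem S}
    (hDs : D.IsSaturated p) (hD : ∀ P, D.Hom P = F.normalizerHom U P) (h : ¬ NonNilAt F p U) :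
    D ≤ innerFusionSystem S := by
  refine le_inner_of_autGroup hS hDs fun P hP => ?_
  by_contra hp'
  obtain ⟨α, hα, hne⟩ := exists_not_pow hp'
  have hPS : P ≤ S := by
    rcases hP with rfl | h'
    exacts [le_rfl, h'.2.1.1]
  have hi : P.subtype.comp α.toMonoidHom ∈ D.Hom P := (mem_autGroup hPS).1 hα
  rw [hD] at hi
  exact h ⟨P, α, hi, hne⟩

/-- A map that carries `P` and `V` to themselves gives an automorphism of `P` at `V`. -/
theorem exists_aut_normalizerHom [Finite S] {X : Subgroup Ω} {ψ : X →* Ω} (hψ : ψ ∈ F.Hom X)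
    (hPX : P ≤ X) (hVX : V ≤ X) (hP : ∀ (x : Ω) (hx : x ∈ P), ψ ⟨x, hPX hx⟩ ∈ P)
    (hV : ∀ (x : Ω) (hx : x ∈ V), ψ ⟨x, hVX hx⟩ ∈ V) (hN : P ≤ normalizerIn S V) :
    ∃ α : MulAut P, P.subtype.comp α.toMonoidHom ∈ F.normalizerHom V P ∧
      ∀ x : P, ((α x : P) : Ω) = ψ (Subgroup.inclusion hPX x) := by
  have hPS : P ≤ S := hPX.trans (hom_le hψ)
  haveI := finite_of_le hPS
  have hr : (ψ.comp (Subgroup.inclusion hPX)).range = P :=
    range_eq_of_card_le (restrict_mem hψ hPX) hPS (fun x => hP x x.2) le_rfl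
  refine ⟨homIso (restrict_mem hψ hPX) hr, ⟨isoIn_homIso (restrict_mem hψ hPX) hr, hN,
    fun x => hN (homIso (restrict_mem hψ hPX) hr x).2, ?_⟩,
    fun x => coe_homIso (restrict_mem hψ hPX) hr x⟩
  refine ⟨_, restrict_mem hψ (sup_le hPX hVX), fun x => ?_,
    range_restrict_eq (hVX.trans (hom_le hψ)) (restrict_mem hψ (sup_le hPX hVX)) le_sup_right
      fun x hx => hV x hx⟩
  exact (coe_homIso (restrict_mem hψ hPX) hr x).symm

theorem nonNilAt_transport [Finite S] [Fact p.Prime] (hS : IsPGroup p S) (hF : F.IsSaturated p)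
    (hU : U ≤ S) (hU1 : U ≠ ⊥) (h : NonNilAt F p U) :
    ∃ U₂ : Subgroup Ω, F.IsFullyNormalized U₂ ∧ U₂ ≠ ⊥ ∧
      Nat.card (normalizerIn S U) ≤ Nat.card (normalizerIn S U₂) ∧ NonNilAt F p U₂ := by
  obtain ⟨P, α, ⟨hα, hPN, -, ψ, hψ, hψe, hψU⟩, hne⟩ := h
  obtain ⟨U₂, hconj, hn₂⟩ := exists_isFullyNormalized F hU
  obtain ⟨χ, hχ, hχv, hχU⟩ := exists_map_to_fn hS hF hn₂ hconj
  haveI := finite_of_le (normalizerIn_le (S := S) U₂)
  have hbot : U₂ ≠ ⊥ := by
    intro h
    refine hU1 (Subgroup.eq_bot_of_card_eq _ ?_)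
    rw [card_eq_of_isConj hconj, h, Subgroup.card_bot]
  refine ⟨U₂, hn₂, hbot, Nat.card_le_card_of_injective
    (fun x => (⟨χ x, hχv x⟩ : normalizerIn S U₂))
    (fun a b h => F.injective_of_mem hχ (congrArg Subtype.val h)), ?_⟩
  have hX : P ⊔ U ≤ normalizerIn S U := sup_le hPN (le_normalizerIn hU)
  let cX : (P ⊔ U : Subgroup Ω) →* Ω := χ.comp (Subgroup.inclusion hX)
  have hcX : cX ∈ F.Hom (P ⊔ U) := restrict_mem hχ hX
  obtain ⟨η, hη, hηr, hηe⟩ := exists_inv hcX (rfl : cX.range = cX.range)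
  have hηv : ∀ y, η y ∈ P ⊔ U := fun y => hηr.le ⟨y, rfl⟩
  have h1 := F.comp_mem hη hψ hηv
  set θ₁ := ψ.comp (η.codRestrict (P ⊔ U) hηv)
  have hψv : ∀ x : (P ⊔ U : Subgroup Ω), ψ x ∈ normalizerIn S U := fun x => ⟨hom_mem hψ x, by
    show ψ x ∈ Subgroup.normalizer (U : Set Ω)
    have h2 := map_mem_normalizer (Q := U) ψ x (hX x.2).2
    rwa [hψU] at h2⟩
  have hθ₁v : ∀ y, θ₁ y ∈ normalizerIn S U := fun y => hψv _
  have h2 := F.comp_mem h1 hχ hθ₁v
  set θ := χ.comp (θ₁.codRestrict (normalizerIn S U) hθ₁v)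
  have hθe : ∀ x : (P ⊔ U : Subgroup Ω), θ ⟨cX x, x, rfl⟩ = χ ⟨ψ x, hψv x⟩ := fun x => by
    show χ ⟨ψ ⟨η ⟨cX x, _⟩, _⟩, _⟩ = _
    congr 2
    exact congrArg (fun z : (P ⊔ U : Subgroup Ω) => ψ z) (Subtype.ext (hηe x ⟨x, rfl⟩))
  let eP : P →* Ω := χ.comp (Subgroup.inclusion hPN)
  have heP : ∀ x : P, eP x = cX (Subgroup.inclusion le_sup_left x) := fun x => rfl
  have hle : eP.range ≤ cX.range := by rintro _ ⟨x, rfl⟩; exact ⟨_, (heP x).symm⟩
  have hUle : U₂ ≤ cX.range := by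
    intro z hz
    obtain ⟨x, hx, hxU, rfl⟩ := mem_map_subgroupOf.1 (hχU.ge hz)
    exact ⟨⟨x, Subgroup.mem_sup_right hxU⟩, rfl⟩
  have hψP : ∀ x : P, χ ⟨ψ (Subgroup.inclusion le_sup_left x), hψv _⟩ = eP (α x) := fun x =>
    congrArg χ (Subtype.ext (hψe x))
  obtain ⟨α₂, hα₂, hα₂e⟩ := exists_aut_normalizerHom (V := U₂) h2 hle hUle
    (by
      rintro _ ⟨x, rfl⟩
      exact ⟨α x, ((hθe (Subgroup.inclusion le_sup_left x)).trans (hψP x)).symm⟩)
    (by
      intro z hz
      obtain ⟨x, hx, hxU, rfl⟩ := mem_map_subgroupOf.1 (hχU.ge hz)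
      have h3 := (hθe ⟨x, Subgroup.mem_sup_right hxU⟩)
      exact (congrArg (· ∈ U₂) h3).mpr (hχU.le (mem_map_subgroupOf.2 ⟨_, _,
        hψU.le (mem_map_subgroupOf.2 ⟨x, _, hxU, rfl⟩), rfl⟩)))
    (by rintro _ ⟨x, rfl⟩; exact hχv _)
  refine ⟨eP.range, α₂, hα₂, fun k hk => hne k ?_⟩
  have hcomm : ∀ (n : ℕ) (x : P),
      (((α₂ ^ n) ⟨eP x, x, rfl⟩ : eP.range) : Ω) = eP ((α ^ n) x) := by
    intro n
    induction n with
    | zero => intro x; simp
    | succ n ih =>
      intro x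
      rw [pow_succ, MulAut.mul_apply, pow_succ, MulAut.mul_apply]
      have h4 : α₂ ⟨eP x, x, rfl⟩ = ⟨eP (α x), α x, rfl⟩ := Subtype.ext
        ((hα₂e _).trans ((hθe (Subgroup.inclusion le_sup_left x)).trans (hψP x)))
      rw [h4]
      exact ih (α x)
  refine MulEquiv.ext fun x => ?_
  have h5 := hcomm (p ^ k) x
  rw [hk] at h5
  exact (F.injective_of_mem (restrict_mem hχ hPN) h5).symm

/-- An automorphism not of `p`-power order in the factor system lifts. -/
theorem nonNilAt_of_factor [Finite S] {Ω' : Type w} [Group Ω'] {S' : Subgroup Ω'} {θ : S →* Ω'}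
    {E : FusionSystem S} {E' : FusionSystem S'} {V' : Subgroup Ω'} (hle : E ≤ F)
    (hE' : E.IsFactorSystem Q θ E') (hV'S : V' ≤ S')
    (hN : S ≤ Subgroup.normalizer (preimageAlong θ V' : Set Ω))
    (h : NonNilAt E' p V') : NonNilAt F p (preimageAlong θ V') := by
  obtain ⟨-, hker, hrange, hiff⟩ := hE'
  obtain ⟨P', α', ⟨hα', hP'N, -, ψ', hψ', hψ'e, hψ'V⟩, hne⟩ := h
  obtain ⟨hsupS, ψ, hψ, hind⟩ := (hiff _ _).1 hψ'
  have hP'S : P' ≤ S' := le_sup_left.trans hsupS
  have hmono : ∀ {A : Subgroup Ω'}, A ≤ P' ⊔ V' →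
      preimageAlong θ A ≤ preimageAlong θ (P' ⊔ V') := fun hA x hx => by
    obtain ⟨hxS, hx'⟩ := mem_preimageAlong.1 hx
    exact mem_preimageAlong.2 ⟨hxS, hA hx'⟩
  have hψF : ψ ∈ F.Hom (preimageAlong θ (P' ⊔ V')) := hle _ hψ
  obtain ⟨α, hα, hαe⟩ := exists_aut_normalizerHom (P := preimageAlong θ P')
    (V := preimageAlong θ V') hψF (hmono le_sup_left) (hmono le_sup_right)
    (by
      intro x hx
      obtain ⟨hxS, hx'⟩ := mem_preimageAlong.1 hx
      refine mem_preimageAlong.2 ⟨hom_mem hψ _, ?_⟩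
      rw [← inducedAlong_apply hind (x := ⟨x, hmono le_sup_left hx⟩)
        (y := Subgroup.inclusion le_sup_left ⟨_, hx'⟩) (hxS := hxS) rfl, hψ'e]
      exact (α' _).2)
    (by
      intro x hx
      obtain ⟨hxS, hx'⟩ := mem_preimageAlong.1 hx
      refine mem_preimageAlong.2 ⟨hom_mem hψ _, ?_⟩
      rw [← inducedAlong_apply hind (x := ⟨x, hmono le_sup_right hx⟩)
        (y := ⟨_, Subgroup.mem_sup_right hx'⟩) (hxS := hxS) rfl]
      exact hψ'V.le (mem_map_subgroupOf.2 ⟨_, _, hx', rfl⟩))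
    (by rw [normalizerIn_eq_self hN]; exact preimageAlong_le)
  refine ⟨_, α, hα, fun k hk => hne k ?_⟩
  have hstep : ∀ (x : preimageAlong θ P') (y : P'), θ ⟨x, preimageAlong_le x.2⟩ = y →
      θ ⟨α x, preimageAlong_le (α x).2⟩ = (α' y : Ω') := by
    intro x y hxy
    have h1 := inducedAlong_apply hind (x := Subgroup.inclusion (hmono le_sup_left) x)
      (y := Subgroup.inclusion le_sup_left y) (hxS := preimageAlong_le x.2) hxy.symm
      (hx' := hom_mem hψ _)
    refine Eq.trans ?_ ((hψ'e y))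
    rw [h1]
    exact congrArg θ (Subtype.ext (hαe x))
  have hcomm : ∀ (n : ℕ) (x : preimageAlong θ P') (y : P'),
      θ ⟨x, preimageAlong_le x.2⟩ = y →
        θ ⟨(α ^ n) x, preimageAlong_le ((α ^ n) x).2⟩ = ((α' ^ n) y : Ω') := by
    intro n
    induction n with
    | zero => intro x y hxy; exact hxy
    | succ n ih =>
      intro x y hxy
      rw [pow_succ α', MulAut.mul_apply]
      refine Eq.trans ?_ (ih (α x) (α' y) (hstep x y hxy))
      congr 2
  refine MulEquiv.ext fun y => Subtype.ext ?_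
  obtain ⟨x, hx⟩ := exists_lift_val hrange hP'S y
  have h6 := hcomm (p ^ k) x y hx
  simp only [hk, MulAut.one_apply] at h6
  exact h6.symm.trans hx

/-- If the factor system of the central part is inner, so is the central part. -/
theorem centralPart_le_inner [Finite S] [Fact p.Prime] (hS : IsPGroup p S) (hF : F.IsSaturated p)
    (hQ : F.IsNormal Q) {E : FusionSystem S} (hE : ∀ P, E.Hom P = centralPartHom F Q P)
    {Ω' : Type w} [Group Ω'] {S' : Subgroup Ω'} {θ : S →* Ω'} {E' : FusionSystem S'}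
    (hE' : E.IsFactorSystem Q θ E') (h : E' ≤ innerFusionSystem S') :
    E ≤ innerFusionSystem S := by
  have hQn := stronglyClosed_le_normalizer (isNormal_stronglyClosed hQ)
  have hEn := isNormal_centralPart hQ.1 hQn hE
  have hEs := isSaturated_centralPart hS hF hQ hE
  have hsc := isNormal_stronglyClosed hEn
  obtain ⟨-, hker, hrange, hiff⟩ := hE'
  obtain ⟨e, he⟩ : ∃ e, ∀ g ∈ S, g ^ p ^ e = 1 := by
    obtain ⟨e, he⟩ := IsPGroup.iff_card.1 hS
    exact ⟨e, fun g hg => by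
      have := pow_card_eq_one' (x := (⟨g, hg⟩ : S))
      rw [he] at this
      exact congrArg Subtype.val this⟩
  refine le_inner_of_autGroup hS hEs fun P hP => ?_
  have hPS : P ≤ S := by
    rcases hP with rfl | h'
    exacts [le_rfl, h'.2.1.1]
  have hQP : Q ≤ P := by
    rcases hP with rfl | h'
    exacts [hQ.1, le_of_isNormal hS hEn h'.1 (isRadical_of_isEssential hS h')]
  rintro ⟨a, ha⟩
  have hi : P.subtype.comp a.toMonoidHom ∈ E.Hom P := (mem_autGroup hPS).1 ha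
  have hi' := hi
  rw [hE] at hi'
  obtain ⟨-, s, hs, ψ, -, hψe, hψQ⟩ := hi'
  have hconjQ : ∀ (x : P), (x : Ω) ∈ Q → (a x : Ω) = s * x * s⁻¹ := fun x hx => by
    refine ((hψe x).symm.trans ?_)
    exact hψQ ⟨x, hx⟩
  have hsQ : ∀ (n : ℕ) (x : P), (x : Ω) ∈ Q →
      ((a ^ n) x : Ω) = s ^ n * x * (s ^ n)⁻¹ := by
    intro n
    induction n with
    | zero => intro x _; simp
    | succ n ih =>
      intro x hx
      rw [pow_succ, MulAut.mul_apply]
      have hax : (a x : Ω) ∈ Q := by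
        rw [hconjQ x hx]
        exact (Subgroup.mem_normalizer_iff.1 (hQn hs) x).1 hx
      rw [ih (a x) hax, hconjQ x hx, pow_succ]
      simp only [mul_assoc, mul_inv_rev]
  have hfixQ : ∀ x : P, (x : Ω) ∈ Q → (a ^ p ^ e) x = x := fun x hx => Subtype.ext (by
    rw [hsQ _ x hx, he s hs]; simp)
  -- the action on the quotient
  have hpre : preimageAlong θ (imageAlong θ P) = P :=
    (preimageAlong_imageAlong hsc hker hPS).trans (sup_eq_left.2 hQP)
  have hP'S : imageAlong θ P ≤ S' := by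
    rintro _ ⟨z, -, rfl⟩
    exact hrange.le ⟨z, rfl⟩
  have hχ : (P.subtype.comp a.toMonoidHom).comp (Subgroup.inclusion hpre.le) ∈
      E.Hom (preimageAlong θ (imageAlong θ P)) := restrict_mem hi hpre.le
  obtain ⟨φ', hind⟩ := exists_induced hsc hker hrange hP'S hχ
  obtain ⟨-, t', ht', hte⟩ := h _ ((hiff _ _).2 ⟨hP'S, _, hχ, hind⟩)
  obtain ⟨⟨t, ht⟩, rfl⟩ := hrange.ge ht'
  have hθa : ∀ x : P, θ ⟨a x, hPS (a x).2⟩ =
      θ ⟨t, ht⟩ * θ ⟨x, hPS x.2⟩ * (θ ⟨t, ht⟩)⁻¹ := by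
    intro x
    have hy : θ ⟨x, hPS x.2⟩ ∈ imageAlong θ P := mem_imageAlong.2 ⟨x, hPS x.2, x.2, rfl⟩
    have h1 := inducedAlong_apply hind (x := ⟨x, hpre.ge x.2⟩) (y := ⟨_, hy⟩)
      (hxS := hPS x.2) rfl (hx' := hom_mem hχ _)
    rw [hte ⟨_, hy⟩] at h1
    exact h1.symm
  have hmodQ : ∀ x : P, θ ⟨(a ^ p ^ e) x, hPS ((a ^ p ^ e) x).2⟩ = θ ⟨x, hPS x.2⟩ := by
    have key : ∀ (n : ℕ) (x : P), θ ⟨(a ^ n) x, hPS ((a ^ n) x).2⟩ =
        (θ ⟨t, ht⟩) ^ n * θ ⟨x, hPS x.2⟩ * ((θ ⟨t, ht⟩) ^ n)⁻¹ := by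
      intro n
      induction n with
      | zero => intro x; simp
      | succ n ih =>
        intro x
        have h7 : (a ^ (n + 1)) x = (a ^ n) (a x) := DFunLike.congr_fun (pow_succ a n) x
        calc θ ⟨(a ^ (n + 1)) x, hPS ((a ^ (n + 1)) x).2⟩
            = θ ⟨(a ^ n) (a x), hPS ((a ^ n) (a x)).2⟩ := by
              congr 2
          _ = _ := by rw [ih, hθa, pow_succ]; simp only [mul_assoc, mul_inv_rev]
    intro x
    rw [key, ← map_pow, show (⟨t, ht⟩ : S) ^ p ^ e = 1 from Subtype.ext (he t ht), map_one]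
    simp
  -- a stability automorphism has `p`-power order
  refine ⟨e + e, Subtype.ext ?_⟩
  show a ^ p ^ (e + e) = 1
  rw [pow_add, pow_mul]
  set b := a ^ p ^ e
  refine MulEquiv.ext fun x => ?_
  set d := x⁻¹ * b x with hd
  have hdQ : (d : Ω) ∈ Q := by
    refine (hker ⟨d, hPS d.2⟩).1 ?_
    have : (⟨d, hPS d.2⟩ : S) = ⟨x, hPS x.2⟩⁻¹ * ⟨b x, hPS (b x).2⟩ := rfl
    rw [this, map_mul, map_inv, hmodQ x, inv_mul_cancel]
  have hpow : ∀ n : ℕ, (b ^ n) x = x * d ^ n := by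
    intro n
    induction n with
    | zero => simp
    | succ n ih =>
      rw [pow_succ', MulAut.mul_apply, ih, map_mul, map_pow, hfixQ d hdQ, pow_succ', ← mul_assoc,
        show b x = x * d from (mul_inv_cancel_left x (b x)).symm]
  rw [hpow, show d ^ p ^ e = 1 from Subtype.ext (he d (hPS d.2)), mul_one]
  rfl

theorem exists_max_normal [Finite S] (R : Subgroup Ω → Prop) (h : ∃ Q, Q ≤ S ∧ R Q) :
    ∃ Q, Q ≤ S ∧ R Q ∧ ∀ V, V ≤ S → R V → Nat.card V ≤ Nat.card Q := by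
  by_contra hh
  push Not at hh
  obtain ⟨Q, hQ, hR⟩ := h
  suffices ∀ n : ℕ, ∃ V, V ≤ S ∧ R V ∧ n ≤ Nat.card V by
    obtain ⟨V, hV, -, hn⟩ := this (Nat.card S + 1)
    have := card_le_of_le hV
    omega
  intro n
  induction n with
  | zero => exact ⟨Q, hQ, hR, Nat.zero_le _⟩
  | succ n ih =>
    obtain ⟨V, hV, hRV, hn⟩ := ih
    obtain ⟨V', hV', hRV', hlt⟩ := hh V hV hRV
    exact ⟨V', hV', hRV', by omega⟩

variable {X : Type v} [Group X] {I : Type*} (W : I → ∀ (Q : Type u) [Group Q], Subgroup Q)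

/-- The statement lifted from groups to systems on groups of order at most `n`. -/
def NilLift (p : ℕ) (X : Type v) [Group X] (W : I → ∀ (Q : Type u) [Group Q], Subgroup Q) (n : ℕ) :
    Prop :=
  ∀ (Ω : Type u) [Group Ω] (S : Subgroup Ω) [Finite S], IsPGroup p S → Nat.card S ≤ n →
    ∀ F : FusionSystem S, F.IsSaturated p → F.IsSectionFree p X → ¬ F ≤ innerFusionSystem S →
      ∃ i, NonNilAt F p (functorOf (W i) S)

/-- A non-inner normalizer that is maximal in a class of normal subgroups of `S` is constrained. -/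
theorem centralizerIn_le_of_max [Fact p.Prime] {n : ℕ} (ih : NilLift p X W n)
    (hW1 : ∀ i (Q : Type u) [Group Q] [Finite Q], IsPGroup p Q → Nontrivial Q → W i Q ≠ ⊥)
    (hW2 : ∀ i (Q R : Type u) [Group Q] [Group R] [Finite Q], IsPGroup p Q →
      ∀ φ : Q ≃* R, (W i Q).map φ.toMonoidHom = W i R)
    {Ω : Type u} [Group Ω] {S : Subgroup Ω} [Finite S] (hS : IsPGroup p S)
    (hn : Nat.card S ≤ n + 1) {F : FusionSystem S} (hF : F.IsSaturated p)
    (hfree : F.IsSectionFree p X) {Q : Subgroup Ω} (hQS : Q ≤ S)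
    (hQn : S ≤ Subgroup.normalizer (Q : Set Ω)) (hQ1 : Q ≠ ⊥) (hQnil : NonNilAt F p Q)
    (Good : Subgroup Ω → Prop)
    (hbig : ∀ V : Subgroup Ω, V ≤ S → S ≤ Subgroup.normalizer (V : Set Ω) → Good V → Q ≤ V → V ≠ Q →
      ¬ NonNilAt F p V)
    (hGT : Good (Q ⊔ centralizerIn S Q))
    (hGV : ∀ [(Q.subgroupOf S).Normal] (i : I), Good (preimageAlong (QuotientGroup.mk' (Q.subgroupOf S))
      (functorOf (W i) (⊤ : Subgroup (S ⧸ Q.subgroupOf S))))) :
    centralizerIn S Q ≤ Q := by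
  by_contra hc
  obtain ⟨E, hE, hEs, hEF, hEQ, hEfree⟩ := exists_normalizerPart.{u, v} (F := F) hS hF hQS hQn
  apply not_le_inner_of_nonNilAt hS hE hQnil
  obtain ⟨E₁, hE₁⟩ := exists_centralPart E hQS hQn
  refine le_of_centralPart hS hEs hEQ _ (fun P φ hφ => ?_) fun P φ hφ => ?_
  · have hE₁n := isNormal_centralPart hQS hQn hE₁
    have hE₁s := isSaturated_centralPart hS hEs hEQ hE₁
    haveI : (Q.subgroupOf S).Normal := ⟨fun x hx g =>
      (Subgroup.mem_normalizer_iff.1 (hQn g.2) (x : Ω)).1 hx⟩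
    set θ := QuotientGroup.mk' (Q.subgroupOf S)
    have hker : ∀ s : S, θ s = 1 ↔ (s : Ω) ∈ Q := fun s => QuotientGroup.eq_one_iff s
    have hrange : θ.range = ⊤ := MonoidHom.range_eq_top.2 (QuotientGroup.mk'_surjective _)
    obtain ⟨E', hE'⟩ := exists_factorSystem (isNormal_stronglyClosed hE₁n) hker hrange
    have hS' : IsPGroup p (⊤ : Subgroup (S ⧸ Q.subgroupOf S)) :=
      (hS.to_quotient _).to_subgroup _
    have hcard : Nat.card (⊤ : Subgroup (S ⧸ Q.subgroupOf S)) ≤ n := by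
      rw [Subgroup.card_top]
      have h1 := Subgroup.card_eq_card_quotient_mul_card_subgroup (Q.subgroupOf S)
      haveI := finite_of_le hQS
      have h2 : 1 < Nat.card (Q.subgroupOf S) := by
        rw [Nat.card_congr (Subgroup.subgroupOfEquivOfLe hQS).toEquiv]
        exact (Subgroup.one_lt_card_iff_ne_bot Q).2 hQ1
      nlinarith [Nat.card_pos (α := S ⧸ Q.subgroupOf S)]
    have hinner : E' ≤ innerFusionSystem ⊤ := by
      by_contra hni'
      obtain ⟨i, hnil'⟩ := ih _ ⊤ hS' hcard E'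
        (isSaturated_factor hS hE₁s (isNormal_stronglyClosed hE₁n) hE')
        (isSectionFree_factor hS hE₁s hE₁n hE'
          (isSectionFree_centralPart hS hEs hEQ hE₁ (hEfree X hfree))) hni'
      have hV' := functorOf_char (W i) (hW2 i) (⊤ : Subgroup (S ⧸ Q.subgroupOf S)) hS'
      have hVn : S ≤ Subgroup.normalizer
          (preimageAlong θ (functorOf (W i) (⊤ : Subgroup (S ⧸ Q.subgroupOf S))) : Set Ω) := by
        intro g hg
        exact (conj_induced hker hrange hV'.1 ⟨g, hg⟩).2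
          (le_normalizer_of_char hV'.1 hV'.2 (Subgroup.le_normalizer (Subgroup.mem_top _)))
      refine hbig _ preimageAlong_le hVn (hGV i) (kernel_le_preimageAlong hQS hker) ?_
        (nonNilAt_of_factor (fun P => (centralPart_le hE₁ P).trans (hEF P)) hE' hV'.1 hVn hnil')
      intro he
      have hne : functorOf (W i) (⊤ : Subgroup (S ⧸ Q.subgroupOf S)) ≠ ⊥ := by
        refine functorOf_ne_bot (W i) (hW1 i) _ hS' fun htop => ?_
        refine hc fun x hx => (hker ⟨x, centralizerIn_le Q hx⟩).1 ?_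
        exact Subgroup.mem_bot.1 (htop.le (Subgroup.mem_top _))
      refine hne (le_bot_iff.1 fun y hy => ?_)
      obtain ⟨x, rfl⟩ := QuotientGroup.mk'_surjective (Q.subgroupOf S) y
      exact Subgroup.mem_bot.2 ((hker x).2 (he.le (mem_preimageAlong.2 ⟨x.2, hy⟩)))
    rw [← hE₁] at hφ
    exact centralPart_le_inner hS hEs hEQ hE₁ hE' hinner P hφ
  · have hT : Q ⊔ centralizerIn S Q ≤ S := sup_le hQS (centralizerIn_le Q)
    have hTn := le_normalizer_sup_centralizerIn (S := S) hQn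
    obtain ⟨D, hD, hDs, -⟩ := exists_normalizerPart.{u, v} (F := F) hS hF hT hTn
    refine le_inner_of_not_nonNilAt hS hDs hD
      (hbig _ hT hTn hGT le_sup_left fun h => hc (le_sup_right.trans h.le)) P ?_
    rw [hD]
    obtain ⟨h1, hP, hv, χ, hχ, hχe⟩ := hφ
    exact ⟨hEF P h1, hP, hv, χ, hEF _ hχ, hχe⟩

theorem exists_constrained_nonNil [Fact p.Prime] {n : ℕ} (ih : NilLift p X W n)
    (hW1 : ∀ i (Q : Type u) [Group Q] [Finite Q], IsPGroup p Q → Nontrivial Q → W i Q ≠ ⊥)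
    (hW2 : ∀ i (Q R : Type u) [Group Q] [Group R] [Finite Q], IsPGroup p Q →
      ∀ φ : Q ≃* R, (W i Q).map φ.toMonoidHom = W i R)
    {Ω : Type u} [Group Ω] {S : Subgroup Ω} [Finite S] (hS : IsPGroup p S)
    (hn : Nat.card S ≤ n + 1) {F : FusionSystem S} (hF : F.IsSaturated p)
    (hfree : F.IsSectionFree p X) (hni : ¬ F ≤ innerFusionSystem S) :
    ∃ Q : Subgroup Ω, Q ≤ S ∧ S ≤ Subgroup.normalizer (Q : Set Ω) ∧ Q ≠ ⊥ ∧ NonNilAt F p Q ∧
      centralizerIn S Q ≤ Q := by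
  -- the witness with the largest normalizer is normal in `S`
  obtain ⟨U₀, hU₀⟩ := exists_nonNilAt hS hF hni
  let R : Subgroup Ω → Prop := fun U => U ≠ ⊥ ∧ NonNilAt F p U ∧ S ≤ Subgroup.normalizer (U : Set Ω)
  have hex : ∃ U, U ≤ S ∧ R U := by
    by_contra hno
    suffices ∀ m : ℕ, ∀ U : Subgroup Ω, F.IsFullyNormalized U → U ≠ ⊥ → NonNilAt F p U →
        ¬ Nat.card S < Nat.card (normalizerIn S U) + m from
      this (Nat.card S + 1) U₀ hU₀.1 hU₀.2.1 hU₀.2.2 (by omega)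
    intro m
    induction m with
    | zero =>
      intro U _ _ _ hlt
      exact absurd (card_le_of_le (normalizerIn_le (S := S) U)) (by omega)
    | succ m ihm =>
      intro U hUn hU hnil hlt
      by_cases hT : normalizerIn S U = S
      · exact hno ⟨U, hUn.1, hU, hnil, inf_eq_left.1 hT⟩
      have hTS := normalizerIn_le (S := S) U
      haveI := finite_of_le hTS
      have hTp := hS.to_le hTS
      obtain ⟨N, hN⟩ := exists_normalizerSystem F hUn.1
      have hNn : ¬ N ≤ innerFusionSystem (normalizerIn S U) := by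
        intro hle
        obtain ⟨P, α, hα, hne⟩ := hnil
        have hαN : P.subtype.comp α.toMonoidHom ∈ N.Hom P := by rw [hN P]; exact hα
        have hP := hom_le hαN
        obtain ⟨k, hk⟩ := isPGroup_autGroup_of_le_inner hTp hle hP ⟨α, (mem_autGroup hP).2 hαN⟩
        exact hne k (congrArg Subtype.val hk)
      have hTlt : Nat.card (normalizerIn S U) < Nat.card S :=
        lt_of_le_of_ne (card_le_of_le hTS) fun he => hT (Subgroup.eq_of_le_of_card_ge hTS he.ge)
      obtain ⟨i, P, α, hα, hne⟩ := ih Ω (normalizerIn S U) hTp (by omega) N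
        (isSaturated_normalizerSystem hS hF hUn hN) (isSectionFree_normalizerSystem hS hF hfree hUn hN)
        hNn
      have hWT := functorOf_char (W i) (hW2 i) _ hTp
      set W₁ := functorOf (W i) (normalizerIn S U)
      have hW₁S : W₁ ≤ S := hWT.1.trans hTS
      have hW₁ : W₁ ≠ ⊥ := functorOf_ne_bot (W i) (hW1 i) _ hTp fun h =>
        hU (le_bot_iff.1 ((le_normalizerIn hUn.1).trans h.le))
      obtain ⟨hα1, hP, hv, ψ, hψ, hψe, hψU⟩ := hα
      have hnilW : NonNilAt F p W₁ := by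
        refine ⟨P, α, ⟨subset_of_normalizerSystem hN hα1, ?_, ?_, ψ,
          subset_of_normalizerSystem hN hψ, hψe, hψU⟩, hne⟩
        · exact fun x hx => ⟨hTS (hP hx).1, (hP hx).2⟩
        · exact fun x => ⟨hTS (hv x).1, (hv x).2⟩
      obtain ⟨U₂, hn₂, hU₂, hcard, hnil₂⟩ := nonNilAt_transport hS hF hW₁S hW₁ hnilW
      have hlt' : normalizerIn S U < normalizerIn S W₁ :=
        lt_of_lt_of_le (lt_normalizerIn hS (lt_of_le_of_ne hTS hT)) fun g hg =>
          ⟨hg.1, le_normalizer_of_char hWT.1 hWT.2 hg.2⟩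
      haveI := finite_of_le (normalizerIn_le (S := S) W₁)
      have hc1 : Nat.card (normalizerIn S U) < Nat.card (normalizerIn S W₁) :=
        lt_of_le_of_ne (card_le_of_le hlt'.le) fun he =>
          hlt'.ne (Subgroup.eq_of_le_of_card_ge hlt'.le he.ge)
      exact ihm U₂ hn₂ hU₂ hnil₂ (by omega)
  obtain ⟨Q, hQS, ⟨hQ1, hQnil, hQn⟩, hmax⟩ := exists_max_normal R hex
  refine ⟨Q, hQS, hQn, hQ1, hQnil, centralizerIn_le_of_max W ih hW1 hW2 hS hn hF hfree hQS hQn hQ1
    hQnil (fun _ => True) (fun V hV hVn _ hQV hne hnil => ?_) trivial fun _ => trivial⟩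
  haveI := finite_of_le hV
  have h1 := hmax V hV ⟨fun h => hQ1 (le_bot_iff.1 (hQV.trans h.le)), hnil, hVn⟩
  exact hne (Subgroup.eq_of_le_of_card_ge hQV h1).symm

/-- A group theorem on models lifts to fusion systems; its proof may use the lifted statement
on smaller groups. -/
theorem nilLift_rec [Fact p.Prime]
    (hW1 : ∀ i (Q : Type u) [Group Q] [Finite Q], IsPGroup p Q → Nontrivial Q → W i Q ≠ ⊥)
    (hW2 : ∀ i (Q R : Type u) [Group Q] [Group R] [Finite Q], IsPGroup p Q →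
      ∀ φ : Q ≃* R, (W i Q).map φ.toMonoidHom = W i R)
    (hG : ∀ n, NilLift p X W n → ∀ (L : Type u) [Group L] [Finite L] (P : Sylow p L),
      Nat.card (P : Subgroup L) ≤ n + 1 →
      Subgroup.centralizer ((pCore p L : Subgroup L) : Set L) ≤ pCore p L → ¬ Involves X L →
        (∀ i, IsPGroup p ↥(Subgroup.normalizer (functorOf (W i) (P : Subgroup L) : Set L))) →
          IsPGroup p L) :
    ∀ n, NilLift p X W n := by
  intro n
  induction n with
  | zero =>
    intro Ω _ S _ _ hn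
    exact absurd (Nat.card_pos (α := S)) (by omega)
  | succ n ih =>
    intro Ω _ S _ hS hn F hF hfree hni
    obtain ⟨Q, hQS, hQn, -, hQnil, hc⟩ :=
      exists_constrained_nonNil W ih hW1 hW2 hS hn hF hfree hni
    obtain ⟨E, hE, hEs, hEF, hEQ, hEfree⟩ := exists_normalizerPart.{u, v} (F := F) hS hF hQS hQn
    by_contra hno
    push Not at hno
    obtain ⟨L, hLg, ι, hL, hfreeL⟩ := exists_constrained_model.{u, v} hS hEs hEQ hc
    haveI := hL.1
    obtain ⟨T, hT⟩ := id hL.2.2.1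
    have hQs := imageOf_normal hL hEQ
    have hinj := hL.2.1.1
    let e : S ≃* (T : Subgroup L) :=
      (MonoidHom.ofInjective hinj).trans (MulEquiv.subgroupCongr hT.symm)
    have himg : ∀ i, imageOf ι (functorOf (W i) S) = functorOf (W i) (T : Subgroup L) := by
      intro i
      rw [functorOf, functorOf, ← hW2 i S (T : Subgroup L) hS e, imageOf, Subgroup.map_map]
      show (((W i S).map S.subtype).comap S.subtype).map ι = _
      rw [Subgroup.comap_map_eq_self_of_injective S.subtype_injective]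
      rfl
    have hLp : IsPGroup p L := by
      refine hG n ih L T ((Nat.card_congr e.toEquiv).symm.le.trans hn) hL.2.2.2 (hfreeL X (hEfree X hfree)) fun i => ?_
      rintro ⟨h, hh⟩
      have hWc := functorOf_char (W i) (hW2 i) S hS
      have hWn : S ≤ Subgroup.normalizer (functorOf (W i) S : Set Ω) :=
        fun g hg => le_normalizer_of_char hWc.1 hWc.2 (Subgroup.le_normalizer hg)
      set W₁ := functorOf (W i) S
      rw [← himg i] at hh
      have hgen : ((Q ⊔ W₁).subgroupOf S).map ((MulAut.conj h).toMonoidHom.comp ι) ≤ ι.range := by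
        rw [Subgroup.subgroupOf_sup hQS hWc.1, Subgroup.map_sup, sup_le_iff]
        refine ⟨?_, ?_⟩
        · rintro _ ⟨x, hx, rfl⟩
          obtain ⟨y, -, hy⟩ := hQs.conj_mem _ ⟨x, hx, rfl⟩ h
          exact ⟨y, hy⟩
        · rintro _ ⟨x, hx, rfl⟩
          obtain ⟨y, -, hy⟩ := (Subgroup.mem_normalizer_iff.1 hh _).1 ⟨x, hx, rfl⟩
          exact ⟨y, hy⟩
      obtain ⟨ψ, hψ, hψe⟩ := exists_hom_of_realized hL.2.1 (sup_le hQS hWc.1) h
        fun x => hgen ⟨⟨x, sup_le hQS hWc.1 x.2⟩, x.2, rfl⟩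
      have hpres : ∀ (A : Subgroup Ω) (hA : A ≤ Q ⊔ W₁),
          h ∈ Subgroup.normalizer (imageOf ι A : Set L) →
            ∀ (x : Ω) (hx : x ∈ A), ψ ⟨x, hA hx⟩ ∈ A := by
        intro A hA hhA x hx
        obtain ⟨y, hy, hye⟩ :=
          (Subgroup.mem_normalizer_iff.1 hhA (ι ⟨x, (hA.trans (sup_le hQS hWc.1)) hx⟩)).1
            ⟨_, hx, rfl⟩
        have h1 : y = ⟨ψ ⟨x, hA hx⟩, hom_mem hψ _⟩ := hinj (hye.trans (hψe ⟨x, hA hx⟩).symm)
        rwa [h1] at hy
      have hhQ : h ∈ Subgroup.normalizer (imageOf ι Q : Set L) := by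
        haveI := hQs
        rw [Subgroup.normalizer_eq_top]; trivial
      obtain ⟨α, hα, hαe⟩ := exists_aut_normalizerHom (F := F) (P := Q) (V := W₁) (hEF _ hψ)
        le_sup_left le_sup_right (hpres Q le_sup_left hhQ) (hpres W₁ le_sup_right hh)
        (by rw [normalizerIn_eq_self hWn]; exact hQS)
      obtain ⟨k, hk⟩ : ∃ k, α ^ p ^ k = 1 := by
        by_contra hk
        push Not at hk
        exact hno i ⟨Q, α, hα, hk⟩
      have hmod : modelAut ι hinj hQS hQs h = α := modelAut_eq ι hinj hQS hQs fun q => by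
        refine Eq.trans ?_ (hψe (Subgroup.inclusion le_sup_left q))
        exact congrArg ι (Subtype.ext (hαe q))
      have hcent : h ^ p ^ k ∈ Subgroup.centralizer (imageOf ι Q : Set L) := by
        rw [← modelAut_eq_one_iff ι hinj hQS hQs, map_pow, hmod, hk]
      obtain ⟨z, -, hz⟩ := centralizer_imageOf_le hL hEQ hc hcent
      obtain ⟨j, hj⟩ := hS z
      refine ⟨k + j, Subtype.ext ?_⟩
      show h ^ p ^ (k + j) = 1
      rw [pow_add, pow_mul, ← hz, ← map_pow, hj, map_one]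
    refine not_le_inner_of_nonNilAt hS hE hQnil fun P φ hφ => ?_
    obtain ⟨g, hg⟩ := exists_of_realized hL.2.1 hφ
    have htop : (T : Subgroup L) = ⊤ := (T.3 (hLp.to_subgroup ⊤) le_top).symm
    obtain ⟨s, rfl⟩ : g ∈ ι.range := hT ▸ htop ▸ trivial
    refine ⟨hom_le hφ, (s : Ω), s.2, fun x => ?_⟩
    have h1 := hinj ((hg x).trans (by rw [← map_inv, ← map_mul, ← map_mul] :
      ι s * ι ⟨x, hom_le hφ x.2⟩ * (ι s)⁻¹ = ι (s * ⟨x, hom_le hφ x.2⟩ * s⁻¹)))
    exact congrArg Subtype.val h1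

/-- A group theorem on models lifts to fusion systems. -/
theorem nilLift [Fact p.Prime]
    (hW1 : ∀ i (Q : Type u) [Group Q] [Finite Q], IsPGroup p Q → Nontrivial Q → W i Q ≠ ⊥)
    (hW2 : ∀ i (Q R : Type u) [Group Q] [Group R] [Finite Q], IsPGroup p Q →
      ∀ φ : Q ≃* R, (W i Q).map φ.toMonoidHom = W i R)
    (hG : ∀ (L : Type u) [Group L] [Finite L] (P : Sylow p L),
      Subgroup.centralizer ((pCore p L : Subgroup L) : Set L) ≤ pCore p L → ¬ Involves X L →
        (∀ i, IsPGroup p ↥(Subgroup.normalizer (functorOf (W i) (P : Subgroup L) : Set L))) →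
          IsPGroup p L) :
    ∀ n, NilLift p X W n :=
  nilLift_rec W hW1 hW2 fun _ _ L _ _ P _ => hG L P

end Cfsg.Lib.FusionSys
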