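import Cfsg.Agent.Lib.FusionSys.Transfer
import Cfsg.Agent.Lib.Fusion.Basic
import Cfsg.Agent.Lib.PGroup.Basic

/-!
Tate's theorem for saturated fusion systems, from the characteristic biset.

The point: for a homomorphism `θ` of `S` with a central subgroup `Z` whose preimage contains the
hyperfocal subgroup, the failure of `θ` to be stable on that preimage is measured by one
homomorphism of `S` into `Z`.
-/

set_option autoImplicit false

universe u v

namespace Cfsg.Lib.FusionSys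

open Cfsg Cfsg.FusionSystem
open MulAction
open scoped commutatorElement

variable {Ω : Type u} [Group Ω] {S : Subgroup Ω} {F : FusionSystem S}

/-- A set of points with an equivariant map to a second set. -/
theorem exists_equivariant_map {K : Type*} [Group K] {X Y : Type*} [MulAction K X] [MulAction K Y]
    (h : ∀ x : X, ∃ y : Y, ∀ k : K, k • x = x → k • y = y) :
    ∃ f : X → Y, ∀ (k : K) (x : X), f (k • x) = k • f x := by
  classical
  let r : X → X := fun x => (Quotient.mk (orbitRel K X) x : Quotient (orbitRel K X)).out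
  have hr : ∀ x, ∃ k : K, k • r x = x := by
    intro x
    have h1 : orbitRel K X x (r x) :=
      (orbitRel K X).symm' (Quotient.mk_out (s := orbitRel K X) x)
    rw [orbitRel_apply] at h1
    exact h1
  choose k hk using hr
  choose y hy using h
  refine ⟨fun x => k x • y (r x), fun a x => ?_⟩
  have hra : r (a • x) = r x := by
    show (Quotient.mk (orbitRel K X) (a • x)).out = _
    rw [Quotient.sound (s := orbitRel K X) (show orbitRel K X (a • x) x from
      (orbitRel_apply).2 (mem_orbit x a))]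
  have h2 : ((k x)⁻¹ * a⁻¹ * k (a • x)) • r x = r x := by
    conv_lhs => rw [mul_smul, ← hra, hk, mul_smul, inv_smul_smul, inv_smul_eq_iff.2 (hk x).symm]
  have h3 := hy (r x) _ h2
  rw [mul_smul, mul_smul, inv_smul_eq_iff, inv_smul_eq_iff] at h3
  show k (a • x) • y (r (a • x)) = a • k x • y (r x)
  rw [hra, h3]

section Hyperfocal

variable {p : ℕ}

theorem hyperfocal_le (F : FusionSystem S) : F.hyperfocalSubgroup p ≤ S := by
  refine (Subgroup.closure_le _).2 ?_
  rintro _ ⟨P, α, x, hP, -, rfl⟩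
  exact S.mul_mem (S.inv_mem (hP x.2)) (hP ((α : MulAut P) x).2)

theorem mem_hyperfocal_of_coprime {P : Subgroup Ω} (hP : P ≤ S) {α : MulAut P}
    (hα : α ∈ F.autGroup P) (h : (orderOf α).Coprime p) (x : P) :
    (x : Ω)⁻¹ * (α x : Ω) ∈ F.hyperfocalSubgroup p :=
  Subgroup.subset_closure ⟨P, ⟨α, hα⟩, x, hP,
    Cfsg.Lib.Fusion.mem_pResidual_of_coprime (by rwa [← Subgroup.orderOf_coe]), rfl⟩

theorem hyperfocal_le_of_coprime [Finite S] {K : Subgroup Ω}
    (h : ∀ (P : Subgroup Ω), P ≤ S → ∀ α ∈ F.autGroup P, (orderOf α).Coprime p →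
      ∀ x : P, (x : Ω)⁻¹ * (α x : Ω) ∈ K) :
    F.hyperfocalSubgroup p ≤ K := by
  refine (Subgroup.closure_le _).2 ?_
  rintro _ ⟨P, α, x, hP, hα, rfl⟩
  revert x
  induction hα using Subgroup.closure_induction with
  | mem β hβ => exact fun x => h P hP β β.2 (by rw [Subgroup.orderOf_coe]; exact hβ) x
  | one => intro x; simp
  | mul a b _ _ ha hb =>
    intro x
    have h1 := K.mul_mem (hb x) (ha ((b : MulAut P) x))
    rw [mul_assoc, mul_inv_cancel_left] at h1
    exact h1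
  | inv a _ ha =>
    intro x
    have h1 := K.inv_mem (ha (((a : MulAut P))⁻¹ x))
    rw [mul_inv_rev, inv_inv, MulAut.apply_inv_self] at h1
    exact h1

theorem hyperfocal_le_focal (F : FusionSystem S) : F.hyperfocalSubgroup p ≤ F.focalSubgroup := by
  refine (Subgroup.closure_le _).2 ?_
  rintro _ ⟨P, α, x, hP, -, rfl⟩
  exact Subgroup.subset_closure ⟨P, _, x, (mem_autGroup hP).1 α.2, rfl⟩

theorem hyperfocal_mono [Finite S] {H : FusionSystem S} (hHF : H.IsSubsystemOf F) :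
    H.hyperfocalSubgroup p ≤ F.hyperfocalSubgroup p := by
  refine hyperfocal_le_of_coprime fun P hP α hα hcop x => ?_
  exact mem_hyperfocal_of_coprime hP ((mem_autGroup hP).2 (hHF P ((mem_autGroup hP).1 hα))) hcop x

theorem hyperfocal_conj_mem [Finite S] {g : Ω} (hg : g ∈ S) {t : Ω}
    (ht : t ∈ F.hyperfocalSubgroup p) : g * t * g⁻¹ ∈ F.hyperfocalSubgroup p := by
  have hle : F.hyperfocalSubgroup p ≤
      (F.hyperfocalSubgroup p).comap (MulAut.conj g).toMonoidHom := by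
    refine hyperfocal_le_of_coprime fun P hP α hα hcop x => ?_
    have hc := F.conj_mem hP hg
    have hP' : (conjHom P g).range ≤ S := range_le hc
    have he := isoIn_homIso hc rfl
    set e := homIso hc (rfl : (conjHom P g).range = _)
    have h1 := mem_hyperfocal_of_coprime hP' (congr_mem_autGroup he hα)
      (p := p) (by rwa [MulEquiv.orderOf_eq]) (e x)
    have h2 : (MulAut.congr e α) (e x) = e (α x) := by
      simp [MulAut.congr]
    rw [h2, coe_homIso, coe_homIso] at h1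
    show g * ((x : Ω)⁻¹ * (α x : Ω)) * g⁻¹ ∈ F.hyperfocalSubgroup p
    refine (congrArg (· ∈ F.hyperfocalSubgroup p) ?_).mp h1
    show (g * (x : Ω) * g⁻¹)⁻¹ * (g * (α x : Ω) * g⁻¹) = _
    simp [mul_assoc]
  exact hle ht

theorem hyperfocal_subgroupOf_normal [Finite S] :
    ((F.hyperfocalSubgroup p).subgroupOf S).Normal :=
  ⟨fun _ hn g => hyperfocal_conj_mem g.2 hn⟩

/-- Modulo a normal subgroup containing the hyperfocal subgroup, every map is a conjugation. -/
theorem exists_conj_mod [Finite S] [Fact p.Prime] (hS : IsPGroup p S) (hF : F.IsSaturated p)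
    {T : Subgroup Ω} (hn : (T.subgroupOf S).Normal) (hT : F.hyperfocalSubgroup p ≤ T)
    (hTS : T ≤ S) (P : Subgroup Ω) (φ : P →* Ω) (hφ : φ ∈ F.Hom P) :
    ∃ c ∈ S, ∀ x : P, (c * (x : Ω) * c⁻¹)⁻¹ * φ x ∈ T := by
  have hconj : ∀ g ∈ S, ∀ t ∈ T, g * t * g⁻¹ ∈ T := fun g hg t ht =>
    hn.conj_mem ⟨t, hTS ht⟩ ht ⟨g, hg⟩
  let E : FusionSystem S :=
    { Hom := fun P => {φ | φ ∈ F.Hom P ∧ ∃ c ∈ S, ∀ x : P, (c * (x : Ω) * c⁻¹)⁻¹ * φ x ∈ T}
      le_of_mem := fun h => F.le_of_mem h.1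
      injective_of_mem := fun h => F.injective_of_mem h.1
      conj_mem := fun {P g} hP hg =>
        ⟨F.conj_mem hP hg, g, hg, fun x => by
          show (g * (x : Ω) * g⁻¹)⁻¹ * (g * (x : Ω) * g⁻¹) ∈ T
          rw [inv_mul_cancel]
          exact T.one_mem⟩
      comp_mem := by
        rintro P Q φ ψ ⟨hφ, c, hc, hφT⟩ ⟨hψ, d, hd, hψT⟩ h
        refine ⟨F.comp_mem hφ hψ h, d * c, S.mul_mem hd hc, fun x => ?_⟩
        have h1 := T.mul_mem (hconj d hd _ (hφT x)) (hψT ⟨φ x, h x⟩)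
        refine (congrArg (· ∈ T) ?_).mp h1
        show d * ((c * (x : Ω) * c⁻¹)⁻¹ * φ x) * d⁻¹ * ((d * φ x * d⁻¹)⁻¹ * ψ ⟨φ x, h x⟩) =
          (d * c * (x : Ω) * (d * c)⁻¹)⁻¹ * ψ ⟨φ x, h x⟩
        simp [mul_assoc]
      inv_mem := by
        rintro P φ ⟨hφ, c, hc, hφT⟩
        obtain ⟨ψ, hψ, hψe⟩ := F.inv_mem hφ
        refine ⟨ψ, ⟨hψ, c⁻¹, S.inv_mem hc, ?_⟩, hψe⟩
        rintro ⟨_, x, rfl⟩
        rw [hψe]
        have h1 := hconj c⁻¹ (S.inv_mem hc) _ (T.inv_mem (hφT x))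
        refine (congrArg (· ∈ T) ?_).mp h1
        simp [mul_assoc] }
  have hle : F ≤ E := by
    refine le_of_autGroup_le hS hF E fun P hP => ?_
    have hPn : F.IsFullyNormalized P := by
      rcases hP with rfl | hP
      exacts [isFullyNormalized_top F, hP.2.1]
    haveI := finite_of_le hPn.1
    obtain ⟨-, -, R, hR⟩ := isFullyAutomized_and_fc_of_fn hS hF hPn
    intro α hα
    set H : Subgroup (F.autGroup P) := (E.autGroup P).subgroupOf (F.autGroup P)
    have h1 : pResidual p (F.autGroup P) ≤ H := by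
      intro β hβ
      refine (mem_autGroup hPn.1).2
        ⟨(mem_autGroup hPn.1).1 β.2, 1, S.one_mem, fun x => ?_⟩
      rw [one_mul, inv_one, mul_one]
      exact hT (Subgroup.subset_closure ⟨P, β, x, hPn.1, hβ, rfl⟩)
    have h2 : (R : Subgroup (F.autGroup P)) ≤ H := by
      rw [hR]
      intro β hβ
      exact autInducedBy_le_autGroup hPn.1 hβ
    have h3 := sup_le h2 h1
    rw [Cfsg.Lib.Fusion.sylow_sup_pResidual] at h3
    exact (show (⟨α, hα⟩ : F.autGroup P) ∈ H from h3 trivial)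
  exact (hle P hφ).2

theorem stronglyClosed_of_hyperfocal_le [Finite S] [Fact p.Prime] (hS : IsPGroup p S)
    (hF : F.IsSaturated p) {T : Subgroup Ω} (hn : (T.subgroupOf S).Normal)
    (hT : F.hyperfocalSubgroup p ≤ T) (hTS : T ≤ S) : F.StronglyClosed T := by
  refine ⟨hTS, fun R hR φ hφ x => ?_⟩
  obtain ⟨c, hc, h⟩ := exists_conj_mod hS hF hn hT hTS R φ hφ
  have h1 := T.mul_mem (hn.conj_mem ⟨(x : Ω), hTS (hR x.2)⟩ (hR x.2) ⟨c, hc⟩) (h x)
  refine (congrArg (· ∈ T) ?_).mp h1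
  simp [mul_assoc]

end Hyperfocal

variable [Finite S] {p : ℕ} [Fact p.Prime]

/-- The stable correction: `θ^m` differs from a stable map on `θ⁻¹(Z)` by a homomorphism into `Z`. -/
theorem exists_correction (hS : IsPGroup p S) (hF : F.IsSaturated p) {E : Type v} [Group E]
    (θ : S →* E) (Z : Subgroup E) (hZ : Z ≤ Subgroup.center E) [Z.Normal]
    (hT : ∀ (P : Subgroup Ω) (φ : P →* Ω) (hφ : φ ∈ F.Hom P), ∃ c : S, ∀ x : P,
      (θ c * θ ⟨x, hom_le hφ x.2⟩ * (θ c)⁻¹)⁻¹ * θ ⟨φ x, hom_mem hφ x⟩ ∈ Z) :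
    ∃ (m : ℕ) (μ : S →* E), ¬ p ∣ m ∧ (∀ s, μ s ∈ Z) ∧
      ∀ (P : Subgroup Ω) (φ : P →* Ω) (hφ : φ ∈ F.Hom P) (x : P),
        θ ⟨x, hom_le hφ x.2⟩ ∈ Z →
          θ ⟨φ x, hom_mem hφ x⟩ ^ m * μ ⟨x, hom_le hφ x.2⟩ =
            θ ⟨x, hom_le hφ x.2⟩ ^ m * μ ⟨φ x, hom_mem hφ x⟩ := by
  classical
  obtain ⟨X, _, _, hX, hst, m, hm, hpm⟩ := exists_biset hS hF
  haveI : Fintype (Quotient (rightSetoid S X)) := Fintype.ofFinite _
  letI : CommGroup Z :=
    { (inferInstance : Group Z) with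
      mul_comm := fun a b => Subtype.ext (Subgroup.mem_center_iff.1 (hZ a.2) b).symm }
  -- the orbit data modulo `Z`
  let π : S →* E ⧸ Z := (QuotientGroup.mk' Z).comp θ
  letI : MulAction (↥S × ↥S) (E ⧸ Z) :=
    { smul := fun k y => π k.2 * y * (π k.1)⁻¹
      one_smul := fun y => by show π 1 * y * (π 1)⁻¹ = y; simp
      mul_smul := fun a b y => by
        show π (a.2 * b.2) * y * (π (a.1 * b.1))⁻¹ = π a.2 * (π b.2 * y * (π b.1)⁻¹) * (π a.1)⁻¹
        simp [mul_assoc] }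
  obtain ⟨f, hf⟩ := exists_equivariant_map (K := ↥S × ↥S) (X := X) (Y := E ⧸ Z) fun x => by
    obtain ⟨Q, P, φ, hφ, -, hD⟩ := hX x
    obtain ⟨c, hc⟩ := hT P φ hφ
    refine ⟨π c, ?_⟩
    rintro ⟨a, b⟩ hk
    have h1 : (a, b) ∈ stabilizer (↥S × ↥S) x := hk
    rw [← hD, mem_graph] at h1
    obtain ⟨y, hy1, hy2⟩ := h1
    have ha : a = ⟨y, hom_le hφ y.2⟩ := Subtype.ext hy1
    have hb : b = ⟨φ y, hom_mem hφ y⟩ := Subtype.ext hy2
    subst ha hb
    show π _ * π c * (π _)⁻¹ = π c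
    have h2 : π ⟨φ y, hom_mem hφ y⟩ = π c * π ⟨y, hom_le hφ y.2⟩ * (π c)⁻¹ := by
      rw [← inv_mul_eq_one]
      have h3 := (QuotientGroup.eq_one_iff _).2 (hc y)
      simp only [π, MonoidHom.comp_apply, QuotientGroup.mk'_apply]
      rw [← inv_inj, inv_one, mul_inv_rev, inv_inv]
      exact h3
    rw [h2]
    simp [mul_assoc]
  have hex : ∀ x : X, ∃ (q : X) (t : S), q = (Quotient.mk (rightSetoid S X) x).out ∧
      ((1 : S), t) • q = x := fun x => by
    obtain ⟨t, ht⟩ := Quotient.mk_out (s := rightSetoid S X) x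
    exact ⟨_, t, rfl, ht⟩
  choose r t hr ht using hex
  let ω : X → E := fun x => θ (t x) * Quotient.out (f (r x))
  have hω1 : ∀ (b : S) (x : X), ω (((1 : S), b) • x) = θ b * ω x := by
    intro b x
    have hrr : r (((1 : S), b) • x) = r x := by
      rw [hr, hr]
      exact congrArg Quotient.out
        (Quotient.sound (s := rightSetoid S X) ((rightSetoid S X).symm' ⟨b, rfl⟩))
    have htt : t (((1 : S), b) • x) = b * t x := by
      have h1 := ht (((1 : S), b) • x)
      rw [hrr] at h1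
      conv_rhs at h1 => rw [← ht x, ← mul_smul, Prod.mk_mul_mk, one_mul]
      have h2 : ((1 : S), (b * t x)⁻¹ * t (((1 : S), b) • x)) • r x = r x := by
        rw [show ((1 : S), (b * t x)⁻¹ * t (((1 : S), b) • x)) =
          ((1 : S), b * t x)⁻¹ * ((1 : S), t (((1 : S), b) • x)) by simp, mul_smul, h1,
          inv_smul_smul]
      exact (inv_mul_eq_one.1 (hX.free h2)).symm
    show θ (t _) * Quotient.out (f (r _)) = θ b * (θ (t x) * Quotient.out (f (r x)))
    rw [hrr, htt, map_mul, mul_assoc]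
  have hωf : ∀ x : X, (QuotientGroup.mk' Z) (ω x) = f x := by
    intro x
    show QuotientGroup.mk' Z (θ (t x) * Quotient.out (f (r x))) = f x
    rw [map_mul, show QuotientGroup.mk' Z (Quotient.out (f (r x))) = f (r x) from
      QuotientGroup.out_eq' _]
    conv_rhs => rw [← ht x, hf]
    show _ = π (t x) * f (r x) * (π 1)⁻¹
    rw [map_one, inv_one, mul_one]
    rfl
  have hdZ : ∀ (s : S) (x : X), (ω x)⁻¹ * ω ((s, (1 : S)) • x) * θ s ∈ Z := by
    intro s x
    rw [← QuotientGroup.eq_one_iff]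
    show QuotientGroup.mk' Z ((ω x)⁻¹ * ω ((s, (1 : S)) • x) * θ s) = 1
    rw [map_mul, map_mul, map_inv, hωf, hωf, hf]
    show (f x)⁻¹ * (π 1 * f x * (π s)⁻¹) * π s = 1
    simp
  let d : S → Quotient (rightSetoid S X) → Z := fun s =>
    Quotient.lift (fun x => (⟨_, hdZ s x⟩ : Z)) (by
      rintro x _ ⟨b, rfl⟩
      refine Subtype.ext ?_
      show (ω x)⁻¹ * ω ((s, (1 : S)) • x) * θ s =
        (ω (((1 : S), b) • x))⁻¹ * ω ((s, (1 : S)) • ((1 : S), b) • x) * θ s
      rw [smul_comm_pair, hω1, hω1]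
      simp [mul_assoc])
  have hcomm : ∀ z ∈ Z, ∀ e : E, e * z = z * e := fun z hz e =>
    Subgroup.mem_center_iff.1 (hZ hz) e
  let μ : S →* Z :=
    { toFun := fun s => ∏ q, d s q
      map_one' := Finset.prod_eq_one fun q _ => by
        induction q using Quotient.inductionOn with
        | h x =>
          refine Subtype.ext ?_
          show (ω x)⁻¹ * ω (((1 : S), (1 : S)) • x) * θ 1 = 1
          rw [← Prod.one_eq_mk, one_smul, map_one, mul_one, inv_mul_cancel]
      map_mul' := fun a b => by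
        have h : ∀ q, d (a * b) q = d a (leftOrbitPerm b q) * d b q := by
          intro q
          induction q using Quotient.inductionOn with
          | h x =>
            rw [mul_comm]
            refine Subtype.ext ?_
            have h1 := hdZ a ((b, (1 : S)) • x)
            show (ω x)⁻¹ * ω ((a * b, (1 : S)) • x) * θ (a * b) =
              (ω x)⁻¹ * ω ((b, (1 : S)) • x) * θ b *
                ((ω ((b, (1 : S)) • x))⁻¹ * ω ((a, (1 : S)) • (b, (1 : S)) • x) * θ a)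
            rw [mul_assoc ((ω x)⁻¹ * ω ((b, (1 : S)) • x)) (θ b), hcomm _ h1 (θ b), map_mul,
              ← mul_smul, Prod.mk_mul_mk, one_mul]
            simp [mul_assoc]
        rw [Finset.prod_congr rfl fun q _ => h q, Finset.prod_mul_distrib,
          Equiv.prod_comp (leftOrbitPerm b) (d a)] }
  refine ⟨m, Z.subtype.comp μ, hpm, fun s => (μ s).2, fun P φ hφ x hxZ => ?_⟩
  -- both sides through an isomorphism of the twisted sets
  set u : S := ⟨x, hom_le hφ x.2⟩
  set v : S := ⟨φ x, hom_mem hφ x⟩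
  have hvZ : θ v ∈ Z := by
    obtain ⟨c, hc⟩ := hT P φ hφ
    have h1 : θ c * θ u * (θ c)⁻¹ = θ u := by rw [hcomm _ hxZ, mul_inv_cancel_right]
    have h2 := Z.mul_mem hxZ (hc x)
    rw [show θ ⟨x, hom_le hφ x.2⟩ = θ u from rfl, h1, mul_inv_cancel_left] at h2
    exact h2
  obtain ⟨k, hk⟩ := exists_twist_equiv hX hst (isoIn_homIso hφ rfl)
  have hk1 : ∀ (b : S) (y : X), k (((1 : S), b) • y) = ((1 : S), b) • k y := by
    intro b y
    simpa using hk 1 b y
  have hku : ∀ y : X, k ((u, (1 : S)) • y) = (v, (1 : S)) • k y := fun y => hk x 1 y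
  let kq : Quotient (rightSetoid S X) ≃ Quotient (rightSetoid S X) :=
    Quotient.congr k fun a b => by
      constructor
      · rintro ⟨s, rfl⟩
        exact ⟨s, (hk1 s a).symm⟩
      · rintro ⟨s, hs⟩
        exact ⟨s, k.injective ((hk1 s a).trans hs)⟩
  let g : Quotient (rightSetoid S X) → E := Quotient.lift (fun y => (ω y)⁻¹ * ω (k y)) (by
    rintro y _ ⟨b, rfl⟩
    show (ω y)⁻¹ * ω (k y) = (ω (((1 : S), b) • y))⁻¹ * ω (k (((1 : S), b) • y))
    rw [hk1, hω1, hω1]
    simp [mul_assoc])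
  let z : Quotient (rightSetoid S X) → Z := fun q =>
    ⟨θ u, hxZ⟩ * ⟨θ v, hvZ⟩⁻¹ * d v (kq q) * (d u q)⁻¹
  have hgz : ∀ q, g (leftOrbitPerm u q) = g q * z q := by
    intro q
    induction q using Quotient.inductionOn with
    | h y =>
      show (ω ((u, (1 : S)) • y))⁻¹ * ω (k ((u, (1 : S)) • y)) =
        (ω y)⁻¹ * ω (k y) * (θ u * (θ v)⁻¹ * ((ω (k y))⁻¹ * ω ((v, (1 : S)) • k y) * θ v) *
          ((ω y)⁻¹ * ω ((u, (1 : S)) • y) * θ u)⁻¹)
      rw [hku]
      have key : ∀ a b d₁ d₂ w K : E, a ∈ Z → b ∈ Z → d₁ ∈ Z → d₂ ∈ Z →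
          (w * d₂ * a⁻¹)⁻¹ * (K * d₁ * b⁻¹) = w⁻¹ * K * (a * b⁻¹ * d₁ * d₂⁻¹) := by
        intro a b d₁ d₂ w K ha hb hd₁ hd₂
        have e1 : d₁ * b⁻¹ * a = a * b⁻¹ * d₁ := by
          rw [← hcomm _ (Z.mul_mem hd₁ (Z.inv_mem hb)) a, mul_assoc a, hcomm _ hd₁ b⁻¹]
        calc (w * d₂ * a⁻¹)⁻¹ * (K * d₁ * b⁻¹)
            = a * d₂⁻¹ * (w⁻¹ * K * (d₁ * b⁻¹)) := by simp [mul_assoc]
          _ = w⁻¹ * K * (d₁ * b⁻¹) * (a * d₂⁻¹) :=
              (hcomm _ (Z.mul_mem ha (Z.inv_mem hd₂)) _).symm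
          _ = w⁻¹ * K * (a * b⁻¹ * d₁ * d₂⁻¹) := by rw [← e1]; simp [mul_assoc]
      have h1 := key _ _ _ _ (ω y) (ω (k y)) hxZ hvZ (hdZ v (k y)) (hdZ u y)
      refine Eq.trans ?_ h1
      congr 1
      · simp [mul_assoc, u]
      · simp [mul_assoc, v]
  let g' : Quotient (rightSetoid S X) → Z := fun q =>
    ⟨(QuotientGroup.mk (g q) : E ⧸ Z).out⁻¹ * g q, by
      rw [← QuotientGroup.eq, QuotientGroup.out_eq']⟩
  have hg'z : ∀ q, g' (leftOrbitPerm u q) = g' q * z q := by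
    intro q
    refine Subtype.ext ?_
    show (QuotientGroup.mk (g (leftOrbitPerm u q)) : E ⧸ Z).out⁻¹ * g (leftOrbitPerm u q) =
      (QuotientGroup.mk (g q) : E ⧸ Z).out⁻¹ * g q * z q
    rw [hgz, QuotientGroup.mk_mul_of_mem _ (z q).2, mul_assoc]
  have hprod : ∏ q, z q = 1 := by
    have h1 : ∀ q, z q = (g' q)⁻¹ * g' (leftOrbitPerm u q) := fun q => by
      rw [hg'z, inv_mul_cancel_left]
    rw [Finset.prod_congr rfl fun q _ => h1 q, Finset.prod_mul_distrib,
      Equiv.prod_comp (leftOrbitPerm u) g', Finset.prod_inv_distrib, inv_mul_cancel]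
  have hmq : Fintype.card (Quotient (rightSetoid S X)) = m := by
    rw [← Nat.card_eq_fintype_card]
    exact Nat.eq_of_mul_eq_mul_right Nat.card_pos ((card_eq_orbits_mul hX).symm.trans hm)
  simp only [z, Finset.prod_mul_distrib, Finset.prod_inv_distrib, Finset.prod_const,
    Finset.card_univ, hmq, Equiv.prod_comp kq (d v)] at hprod
  have h2 : (⟨θ v, hvZ⟩ : Z) ^ m * μ u = (⟨θ u, hxZ⟩ : Z) ^ m * μ v := by
    show _ * ∏ q, d u q = _ * ∏ q, d v q
    rw [mul_inv_eq_one, mul_comm ((⟨θ u, hxZ⟩ : Z) ^ m), mul_assoc,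
      inv_mul_eq_iff_eq_mul] at hprod
    exact hprod.symm
  simpa using congrArg Subtype.val h2

theorem hom_kills {P E : Type*} [Group P] [Group E] (hE : IsPGroup p E) {α : MulAut P}
    (f : P →* E) (hcop : (orderOf α).Coprime p)
    (h : ∀ y : P, f (α (y⁻¹ * α y)) = f (y⁻¹ * α y)) (x : P) : f (x⁻¹ * α x) = 1 := by
  have hi : ∀ i : ℕ, f ((α ^ i) (x⁻¹ * α x)) = f (x⁻¹ * α x) := by
    intro i
    induction i with
    | zero => simp
    | succ i ih =>
      have h1 := h ((α ^ i) x)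
      have h2 : ((α ^ i) x)⁻¹ * α ((α ^ i) x) = (α ^ i) (x⁻¹ * α x) := by
        rw [← MulAut.mul_apply, ← pow_succ', pow_succ, MulAut.mul_apply, map_mul, map_inv]
      rw [h2, ih, ← MulAut.mul_apply, ← pow_succ'] at h1
      exact h1
  have hx : ∀ i : ℕ, f ((α ^ i) x) = f x * f (x⁻¹ * α x) ^ i := by
    intro i
    induction i with
    | zero => simp
    | succ i ih =>
      rw [pow_succ (f (x⁻¹ * α x)), ← mul_assoc, ← ih, ← hi i, ← map_mul, ← map_mul, mul_inv_cancel_left,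
        ← MulAut.mul_apply, ← pow_succ]
  have h1 := hx (orderOf α)
  rw [pow_orderOf_eq_one, MulAut.one_apply, left_eq_mul] at h1
  obtain ⟨j, hj⟩ := hE (f (x⁻¹ * α x))
  have h2 := pow_gcd_eq_one.2 ⟨h1, hj⟩
  rwa [Nat.Coprime.pow_right j hcop, pow_one] at h2

theorem exists_maximal_normal {G : Type*} [Group G] [Finite G] {K T : Subgroup G} [K.Normal]
    (h : K < T) :
    ∃ N : Subgroup G, N.Normal ∧ K ≤ N ∧ N < T ∧
      ∀ M : Subgroup G, M.Normal → N < M → M ≤ T → M = T := by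
  classical
  obtain ⟨N, hN, hmax⟩ := ({N : Subgroup G | N.Normal ∧ K ≤ N ∧ N < T} : Set _).toFinite.exists_maximal
    ⟨K, ‹_›, le_rfl, h⟩
  refine ⟨N, hN.1, hN.2.1, hN.2.2, fun M hM hNM hMT => ?_⟩
  by_contra hne
  exact hNM.not_ge (hmax ⟨hM, hN.2.1.trans hNM.le, lt_of_le_of_ne hMT hne⟩ hNM.le)

/-- Tate's theorem: a subsystem with the same hyperfocal subgroup modulo the Frattini subgroup of
`S` has the same hyperfocal subgroup. -/
theorem hyperfocal_eq_of_le_frattini_sup (hS : IsPGroup p S) (hF : F.IsSaturated p)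
    {H : FusionSystem S} (hHF : H.IsSubsystemOf F)
    (h : (F.hyperfocalSubgroup p).subgroupOf S ≤
      frattini S ⊔ (H.hyperfocalSubgroup p).subgroupOf S) :
    H.hyperfocalSubgroup p = F.hyperfocalSubgroup p := by
  classical
  refine le_antisymm (hyperfocal_mono hHF) ?_
  by_contra hnle
  set T := (F.hyperfocalSubgroup p).subgroupOf S with hTdef
  set K := (H.hyperfocalSubgroup p).subgroupOf S with hKdef
  haveI hTn : T.Normal := hyperfocal_subgroupOf_normal
  haveI hKn : K.Normal := hyperfocal_subgroupOf_normal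
  have hKT : K < T := by
    refine lt_of_le_of_ne (fun x hx => hyperfocal_mono hHF hx) fun he => hnle fun y hy => ?_
    exact (he.ge (show (⟨y, hyperfocal_le F hy⟩ : S) ∈ T from hy) : y ∈ H.hyperfocalSubgroup p)
  obtain ⟨N, hNn, hKN, hNT, hmax⟩ := exists_maximal_normal hKT
  set θ : S →* ↥S ⧸ N := QuotientGroup.mk' N with hθdef
  have hθs : Function.Surjective θ := QuotientGroup.mk'_surjective N
  have hker : ∀ x : S, θ x = 1 ↔ x ∈ N := fun x => QuotientGroup.eq_one_iff x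
  have hE : IsPGroup p (↥S ⧸ N) := hS.to_quotient N
  haveI : (T.map θ).Normal := hTn.map θ hθs
  have hTne : T.map θ ≠ ⊥ := by
    intro hb
    refine hNT.not_ge fun x hx => (hker x).1 ?_
    exact Subgroup.mem_bot.1 (hb ▸ Subgroup.mem_map_of_mem θ hx)
  obtain ⟨z, hzT, hzc, hzp⟩ := Cfsg.Lib.PGroup.exists_mem_center_orderOf_eq hE hTne
  set Z := Subgroup.zpowers z with hZdef
  have hZc : Z ≤ Subgroup.center (↥S ⧸ N) := Subgroup.zpowers_le.2 hzc
  haveI hZn : Z.Normal := ⟨fun n hn g => by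
    rw [Subgroup.mem_center_iff.1 (hZc hn) g, mul_inv_cancel_right]
    exact hn⟩
  have hTZ : T = Z.comap θ := by
    refine (hmax _ (hZn.comap θ) ?_ ?_).symm
    · refine lt_of_le_of_ne (fun x hx => ?_) fun he => ?_
      · show θ x ∈ Z
        rw [(hker x).2 hx]
        exact Z.one_mem
      · obtain ⟨w, hw⟩ := hθs z
        have h1 : w ∈ N := he ▸ (show θ w ∈ Z from hw ▸ Subgroup.mem_zpowers z)
        rw [← (hker w).2 h1 |>.symm.trans hw, orderOf_one] at hzp
        exact (Fact.out : p.Prime).one_lt.ne hzp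
    · intro x hx
      obtain ⟨y, hy, hyz⟩ : ∃ y ∈ T, θ y = θ x :=
        Subgroup.mem_map.1 (Subgroup.zpowers_le.2 hzT (show θ x ∈ Z from hx))
      have h1 : y⁻¹ * x ∈ N := (hker _).1 (by rw [map_mul, map_inv, hyz, inv_mul_cancel])
      simpa using T.mul_mem hy (hNT.le h1)
  have hconj : ∀ (P : Subgroup Ω) (φ : P →* Ω) (hφ : φ ∈ F.Hom P), ∃ c : S, ∀ x : P,
      (θ c * θ ⟨x, hom_le hφ x.2⟩ * (θ c)⁻¹)⁻¹ * θ ⟨φ x, hom_mem hφ x⟩ ∈ Z := by
    intro P φ hφ
    obtain ⟨c, hc, hcx⟩ := exists_conj_mod hS hF hTn le_rfl (hyperfocal_le F) P φ hφ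
    refine ⟨⟨c, hc⟩, fun x => ?_⟩
    have h1 : (⟨c, hc⟩ * ⟨(x : Ω), hom_le hφ x.2⟩ * ⟨c, hc⟩⁻¹)⁻¹ *
        (⟨φ x, hom_mem hφ x⟩ : S) ∈ Z.comap θ := hTZ ▸ hcx x
    simpa only [Subgroup.mem_comap, map_mul, map_inv] using h1
  obtain ⟨m, μ, hpm, hμZ, hrel⟩ := exists_correction hS hF θ Z hZc hconj
  have hμp : ∀ g, μ g ^ p = 1 := fun g =>
    orderOf_dvd_iff_pow_eq_one.1 (hzp ▸ orderOf_dvd_of_mem_zpowers (hμZ g))
  have hμΦ : frattini S ≤ μ.ker := by
    refine Cfsg.Lib.PGroup.frattini_le_of_commutator_le_of_pow_mem (p := p) ?_ fun g => ?_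
    · rw [commutator_def, Subgroup.commutator_le]
      intro a _ b _
      rw [MonoidHom.mem_ker, map_commutatorElement, commutatorElement_eq_one_iff_mul_comm]
      exact Subgroup.mem_center_iff.1 (hZc (hμZ b)) (μ a)
    · rw [MonoidHom.mem_ker, map_pow, hμp]
  have hcop : p.Coprime m := (Nat.Prime.coprime_iff_not_dvd Fact.out).2 hpm
  -- the homomorphism kills the hyperfocal subgroup of the subsystem
  have hμK : H.hyperfocalSubgroup p ≤ μ.ker.map S.subtype := by
    refine hyperfocal_le_of_coprime fun P hP α hα hc x => ?_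
    have hαF : α ∈ F.autGroup P := (mem_autGroup hP).2 (hHF P ((mem_autGroup hP).1 hα))
    have h1 := hom_kills hE (μ.comp (Subgroup.inclusion hP)) hc (fun y => ?_) x
    · exact ⟨_, h1, rfl⟩
    · set u := y⁻¹ * α y with hu
      have hu1 : Subgroup.inclusion hP u ∈ K := mem_hyperfocal_of_coprime hP hα hc y
      have hu2 : Subgroup.inclusion hP (α u) ∈ K := by
        have h2 := mem_hyperfocal_of_coprime hP hα hc (α y) (p := p)
        rw [hu, map_mul, map_inv]
        exact h2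
      have h2 := hrel P _ ((mem_autGroup hP).1 hαF) u
        (show θ (Subgroup.inclusion hP u) ∈ Z by rw [(hker _).2 (hKN hu1)]; exact Z.one_mem)
      have h3 : θ (Subgroup.inclusion hP (α u)) ^ m * μ (Subgroup.inclusion hP u) =
          θ (Subgroup.inclusion hP u) ^ m * μ (Subgroup.inclusion hP (α u)) := h2
      rw [(hker _).2 (hKN hu1), (hker _).2 (hKN hu2), one_pow, one_mul, one_mul] at h3
      exact h3.symm
  have hμT : ∀ w ∈ T, μ w = 1 := by
    have hle : K ≤ μ.ker := fun w hw => by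
      obtain ⟨w', hw', he⟩ := hμK hw
      rw [← show w' = w from Subtype.ext he]
      exact hw'
    exact fun w hw => (sup_le hμΦ hle) (h hw)
  -- hence `θ` is stable, and kills the hyperfocal subgroup
  have hθT : F.hyperfocalSubgroup p ≤ θ.ker.map S.subtype := by
    refine hyperfocal_le_of_coprime fun P hP α hα hc x => ?_
    have h1 := hom_kills hE (θ.comp (Subgroup.inclusion hP)) hc (fun y => ?_) x
    · exact ⟨_, h1, rfl⟩
    · set u := y⁻¹ * α y with hu
      have hu1 : Subgroup.inclusion hP u ∈ T := mem_hyperfocal_of_coprime hP hα hc y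
      have hu2 : Subgroup.inclusion hP (α u) ∈ T := by
        have h2 := mem_hyperfocal_of_coprime hP hα hc (α y) (p := p)
        rw [hu, map_mul, map_inv]
        exact h2
      have h3 : θ (Subgroup.inclusion hP (α u)) ^ m * μ (Subgroup.inclusion hP u) =
          θ (Subgroup.inclusion hP u) ^ m * μ (Subgroup.inclusion hP (α u)) :=
        hrel P _ ((mem_autGroup hP).1 hα) u (hTZ ▸ hu1 : Subgroup.inclusion hP u ∈ Z.comap θ)
      rw [hμT _ hu1, hμT _ hu2, mul_one, mul_one] at h3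
      exact (hE.powEquiv hcop).injective h3
  refine hNT.not_ge fun w hw => ?_
  obtain ⟨w', hw', he⟩ := hθT hw
  rw [← show w' = w from Subtype.ext he]
  exact (hker w').1 hw'

/-- The inner system has trivial hyperfocal subgroup. -/
theorem hyperfocal_inner (hS : IsPGroup p S) :
    (innerFusionSystem S).hyperfocalSubgroup p = ⊥ := by
  rw [eq_bot_iff]
  refine hyperfocal_le_of_coprime fun P hP α hα hc x => ?_
  have h1 : α ∈ autInducedBy S P := by
    obtain ⟨-, g, hg, h⟩ := (mem_autGroup hP).1 hα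
    exact mem_autInducedBy.2 ⟨g, hg, h⟩
  obtain ⟨k, hk⟩ := isPGroup_autInducedBy (P := P) hS ⟨α, h1⟩
  have h2 : α ^ p ^ k = 1 := congrArg Subtype.val hk
  have h3 : orderOf α = 1 := Nat.eq_one_of_dvd_coprimes
    (Nat.Coprime.pow_right k hc) dvd_rfl (orderOf_dvd_of_pow_eq_one h2)
  rw [orderOf_eq_one_iff.1 h3]
  simp

theorem hom_eq_inner_of_hyperfocal (hS : IsPGroup p S) (hF : F.IsSaturated p)
    (h : F.hyperfocalSubgroup p = ⊥) (P : Subgroup Ω) :
    F.Hom P = (innerFusionSystem S).Hom P := by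
  refine Set.Subset.antisymm (fun φ hφ => ?_) (innerFusionSystem_le F P)
  obtain ⟨c, hc, hcx⟩ := exists_conj_mod hS hF (T := ⊥)
    (by rw [Subgroup.bot_subgroupOf]; infer_instance) h.le bot_le P φ hφ
  exact ⟨hom_le hφ, c, hc, fun x => (inv_mul_eq_one.1 (Subgroup.mem_bot.1 (hcx x))).symm⟩

/-- A system with hyperfocal subgroup inside the Frattini subgroup is the inner one. -/
theorem hom_eq_inner_of_le_frattini (hS : IsPGroup p S) (hF : F.IsSaturated p)
    (h : (F.hyperfocalSubgroup p).subgroupOf S ≤ frattini S) (P : Subgroup Ω) :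
    F.Hom P = (innerFusionSystem S).Hom P := by
  refine hom_eq_inner_of_hyperfocal hS hF ?_ P
  rw [← hyperfocal_eq_of_le_frattini_sup hS hF (H := innerFusionSystem S)
    (fun Q => innerFusionSystem_le F Q) (h.trans le_sup_left), hyperfocal_inner hS]

end Cfsg.Lib.FusionSys
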