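import Cfsg.Agent.Lib.FusionSys.Factor
import Cfsg.Agent.Lib.FusionSys.Tate

/-!
The hyperfocal subgroup of a factor system.
-/

set_option autoImplicit false

namespace Cfsg.Lib.FusionSys

open Cfsg Cfsg.FusionSystem

variable {Ω : Type*} [Group Ω] {S : Subgroup Ω} {F : FusionSystem S} {p : ℕ} [Fact p.Prime]
variable {Ω' : Type*} [Group Ω'] {S' : Subgroup Ω'} {θ : S →* Ω'}

theorem hyperfocal_factor [Finite S] (hS : IsPGroup p S) (hF : F.IsSaturated p) {T : Subgroup Ω}
    (hT : F.StronglyClosed T) {E : FusionSystem S'} (hE : F.IsFactorSystem T θ E) :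
    E.hyperfocalSubgroup p = ((F.hyperfocalSubgroup p).subgroupOf S).map θ := by
  obtain ⟨-, hker, hrange, hiff⟩ := id hE
  haveI : Finite S' := by
    rw [← hrange]
    exact Finite.of_surjective θ.rangeRestrict θ.rangeRestrict_surjective
  refine le_antisymm ?_ ?_
  · refine hyperfocal_le_of_coprime fun P' hP' β hβ hcop y => ?_
    set U := preimageAlong θ P'
    obtain ⟨-, ψ, hψ, hind⟩ : P' ≤ S' ∧ ∃ φ ∈ F.Hom U, InducedAlong θ φ (P'.subtype.comp β.toMonoidHom) :=
      (hiff _ _).1 ((mem_autGroup hP').1 hβ)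
    have hUS : U ≤ S := preimageAlong_le
    haveI := finite_of_le hUS
    haveI := finite_of_le hP'
    have hv : ∀ x : U, θ ⟨ψ x, hom_mem hψ x⟩ = ((β ⟨_, (mem_preimageAlong.1 x.2).2⟩ : P') : Ω') := fun x =>
      (inducedAlong_apply (x := x) hind rfl).symm
    have hran : ψ.range = U := range_eq_of_card_le hψ hUS
      (fun x => mem_preimageAlong.2 ⟨hom_mem hψ x, by rw [hv x]; exact (β _).2⟩) le_rfl
    set γ : MulAut U := homIso hψ hran
    have hγ : γ ∈ F.autGroup U := (mem_autGroup hUS).2 (isoIn_homIso hψ hran)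
    haveI : Finite (MulAut U) := Finite.of_injective (fun f => (f : U → U)) DFunLike.coe_injective
    let f : U →* P' := (θ.comp (Subgroup.inclusion hUS)).codRestrict P' fun x => (mem_preimageAlong.1 x.2).2
    have hstep : ∀ x : U, f (γ x) = β (f x) := fun x => Subtype.ext (hv x)
    have hiter : ∀ (n : ℕ) (x : U), f ((γ ^ n) x) = (β ^ n) (f x) := by
      intro n
      induction n with
      | zero => intro x; simp
      | succ n ih => intro x; rw [pow_succ, pow_succ, MulAut.mul_apply, MulAut.mul_apply, ih, hstep]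
    have hγ0 : orderOf γ ≠ 0 := (orderOf_pos γ).ne'
    obtain ⟨j, hj1, hj2⟩ := Nat.chineseRemainder
      (hcop.pow_right ((orderOf γ).factorization p)) 1 0
    have hcopγ : (orderOf (γ ^ j)).Coprime p := by
      refine (Nat.Coprime.coprime_dvd_left ?_
        ((Nat.coprime_ordCompl (Fact.out : p.Prime) hγ0).symm : (ordCompl[p] (orderOf γ)).Coprime p))
      rw [orderOf_dvd_iff_pow_eq_one, ← pow_mul, ← orderOf_dvd_iff_pow_eq_one]
      conv_lhs => rw [← Nat.ordProj_mul_ordCompl_eq_self (orderOf γ) p]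
      exact mul_dvd_mul_right (Nat.modEq_zero_iff_dvd.1 hj2) _
    obtain ⟨x, hx⟩ := exists_lift_val hrange hP' y
    have hfx : f x = y := Subtype.ext hx
    have hb : β ^ j = β := by
      conv_rhs => rw [← pow_one β]
      exact pow_eq_pow_iff_modEq.2 hj1
    refine ⟨⟨(x : Ω)⁻¹ * (((γ ^ j) x : U) : Ω), S.mul_mem (S.inv_mem (hUS x.2)) (hUS ((γ ^ j) x).2)⟩,
      mem_hyperfocal_of_coprime hUS ((F.autGroup U).pow_mem hγ j) hcopγ x, ?_⟩
    have h1 : f (x⁻¹ * (γ ^ j) x) = y⁻¹ * β y := by rw [map_mul, map_inv, hiter, hb, hfx]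
    exact congrArg Subtype.val h1
  · rw [Subgroup.map_le_iff_le_comap]
    intro z hz
    let K := ((E.hyperfocalSubgroup p).comap θ).map S.subtype
    have hle : F.hyperfocalSubgroup p ≤ K := by
      refine hyperfocal_le_of_coprime fun P hP α hα hcop x => ?_
      obtain ⟨⟨-, hmor⟩, -, -⟩ := isSurjectiveMorphism_of_isFactorSystem hS hF hT hE
      set P' := imageAlong θ P
      obtain ⟨φ', hφ', hind⟩ : ∃ φ' ∈ E.Hom P', InducedAlong θ (P.subtype.comp α.toMonoidHom) φ' :=
        hmor P _ ((mem_autGroup hP).1 hα)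
      have hP' : P' ≤ S' := hom_le hφ'
      haveI := finite_of_le hP'
      haveI := finite_of_le hP
      let f : P →* P' := (θ.comp (Subgroup.inclusion hP)).codRestrict P'
        fun x => mem_imageAlong.2 ⟨x, hP x.2, x.2, rfl⟩
      have hf : Function.Surjective f := by
        rintro ⟨w, hw⟩
        obtain ⟨u, hu, huP, he⟩ := mem_imageAlong.1 hw
        exact ⟨⟨u, huP⟩, Subtype.ext he⟩
      have hv : ∀ x : P, φ' (f x) = θ ⟨(α x : P), hP (α x).2⟩ := fun x =>
        inducedAlong_apply (x := x) hind rfl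
      have hran : φ'.range = P' := range_eq_of_card_le hφ' hP' (fun w => by
        obtain ⟨u, rfl⟩ := hf w
        rw [hv u]
        exact (f (α u)).2) le_rfl
      set β : MulAut P' := homIso hφ' hran
      have hiter : ∀ (n : ℕ) (x : P), f ((α ^ n) x) = (β ^ n) (f x) := by
        intro n
        induction n with
        | zero => intro x; simp
        | succ n ih =>
          intro x
          rw [pow_succ, pow_succ, MulAut.mul_apply, MulAut.mul_apply, ih]
          exact congrArg (β ^ n) (Subtype.ext (hv x).symm)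
      have hβ : β ^ orderOf α = 1 := MulEquiv.ext fun w => by
        obtain ⟨u, rfl⟩ := hf w
        rw [← hiter, pow_orderOf_eq_one]
        rfl
      haveI : Finite (MulAut P') := Finite.of_injective (fun g => (g : P' → P')) DFunLike.coe_injective
      have h1 := mem_hyperfocal_of_coprime hP' ((mem_autGroup hP').2 (isoIn_homIso hφ' hran))
        (hcop.coprime_dvd_left (orderOf_dvd_of_pow_eq_one hβ)) (f x)
      refine ⟨⟨(x : Ω)⁻¹ * (α x : Ω), S.mul_mem (S.inv_mem (hP x.2)) (hP (α x).2)⟩, ?_, rfl⟩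
      show θ ((⟨x, hP x.2⟩ : S)⁻¹ * ⟨(α x : P), hP (α x).2⟩) ∈ E.hyperfocalSubgroup p
      rw [map_mul, map_inv, ← hv x]
      exact h1
    obtain ⟨w, hw, hwz⟩ := hle hz
    obtain rfl : w = z := Subtype.ext hwz
    exact hw

end Cfsg.Lib.FusionSys
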