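import Cfsg.Agent.Lib.FusionSys.Alperin
import Cfsg.Agent.Lib.FusionSys.Local

/-!
Normal and central subgroups of saturated fusion systems.
-/

set_option autoImplicit false

namespace Cfsg.Lib.FusionSys

open Cfsg Cfsg.FusionSystem
open scoped commutatorElement

variable {Ω : Type*} [Group Ω] {S : Subgroup Ω} {F : FusionSystem S}

section Stabilizer

variable {P : Subgroup Ω} {D : ℕ → Subgroup Ω} {n : ℕ}

/-- An automorphism stabilizing a chain has order dividing a power of `|P|`. -/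
theorem pow_eq_one_of_stabilizes [Finite P] (h0 : D 0 = ⊥) (hn : D n = P) {α : MulAut P}
    (hinv : ∀ i, i ≤ n → ∀ x : P, (x : Ω) ∈ D i → (α x : Ω) ∈ D i)
    (hs : ∀ i, i < n → ∀ x : P, (x : Ω) ∈ D (i + 1) → (x : Ω)⁻¹ * (α x : Ω) ∈ D i) :
    α ^ (Nat.card P) ^ n = 1 := by
  have hinvpow : ∀ (m i : ℕ), i ≤ n → ∀ x : P, (x : Ω) ∈ D i → ((α ^ m) x : Ω) ∈ D i := by
    intro m
    induction m with
    | zero => intro i _ x hx; simpa using hx
    | succ m ih =>
      intro i hi x hx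
      rw [pow_succ, MulAut.mul_apply]
      exact ih i hi _ (hinv i hi x hx)
  have hspow : ∀ (m i : ℕ), i < n → ∀ x : P, (x : Ω) ∈ D (i + 1) →
      (x : Ω)⁻¹ * ((α ^ m) x : Ω) ∈ D i := by
    intro m
    induction m with
    | zero => intro i _ x _; simp
    | succ m ih =>
      intro i hi x hx
      have hmul : (α ^ (m + 1)) x = (α ^ m) x * (α ^ m) (x⁻¹ * α x) := by
        rw [pow_succ, MulAut.mul_apply, ← map_mul, mul_inv_cancel_left]
      rw [hmul, Subgroup.coe_mul, ← mul_assoc]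
      exact (D i).mul_mem (ih i hi x hx) (hinvpow m i hi.le _ (hs i hi x hx))
  suffices ∀ i, i ≤ n → ∀ x : P, (x : Ω) ∈ D i → (α ^ (Nat.card P) ^ i) x = x from
    MulEquiv.ext fun x => this n le_rfl x (hn.symm ▸ x.2)
  intro i
  induction i with
  | zero =>
    intro _ x hx
    rw [h0, Subgroup.mem_bot, OneMemClass.coe_eq_one] at hx
    simp [hx]
  | succ i ih =>
    intro hi x hx
    set β := α ^ (Nat.card P) ^ i with hβ
    have hβd : β (x⁻¹ * β x) = x⁻¹ * β x := ih (by omega) _ (hspow _ i (by omega) x hx)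
    have hpow : ∀ m : ℕ, (β ^ m) x = x * (x⁻¹ * β x) ^ m := by
      intro m
      induction m with
      | zero => simp
      | succ m ihm =>
        rw [pow_succ', MulAut.mul_apply, ihm, map_mul, map_pow, hβd, pow_succ', ← mul_assoc,
          mul_inv_cancel_left]
    rw [pow_succ, pow_mul, ← hβ, hpow, pow_card_eq_one', mul_one]

/-- In a radical subgroup the automorphisms stabilizing an invariant chain are inner. -/
theorem mem_inn_of_stabilizes [Finite S] {p : ℕ} [Fact p.Prime] (hS : IsPGroup p S)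
    (hrad : F.IsRadical p P) (h0 : D 0 = ⊥) (hn : D n = P)
    (hA : ∀ a ∈ F.autGroup P, ∀ i, i ≤ n → ∀ x : P, (x : Ω) ∈ D i → (a x : Ω) ∈ D i)
    {α : MulAut P} (hα : α ∈ F.autGroup P)
    (hs : ∀ i, i < n → ∀ x : P, (x : Ω) ∈ D (i + 1) → (x : Ω)⁻¹ * (α x : Ω) ∈ D i) : α ∈ Inn P := by
  haveI := finite_of_le hrad.1
  let B : Subgroup (F.autGroup P) :=
    { carrier := {a | ∀ i, i < n → ∀ x : P, (x : Ω) ∈ D (i + 1) →
        (x : Ω)⁻¹ * ((a : MulAut P) x : Ω) ∈ D i}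
      one_mem' := fun i _ x _ => by simp
      mul_mem' := fun {a b} ha hb i hi x hx => by
        have hmul : ((a * b : F.autGroup P) : MulAut P) x =
            (a : MulAut P) x * (a : MulAut P) (x⁻¹ * (b : MulAut P) x) := by
          rw [Subgroup.coe_mul, MulAut.mul_apply, ← map_mul, mul_inv_cancel_left]
        rw [hmul, Subgroup.coe_mul, ← mul_assoc]
        exact (D i).mul_mem (ha i hi x hx) (hA _ a.2 i hi.le _ (hb i hi x hx))
      inv_mem' := fun {a} ha i hi x hx => by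
        have h1 := ha i hi (((a⁻¹ : F.autGroup P) : MulAut P) x) (hA _ (a⁻¹).2 _ hi x hx)
        have h2 : (a : MulAut P) (((a⁻¹ : F.autGroup P) : MulAut P) x) = x := by
          simp [MulAut.inv_apply]
        rw [h2] at h1
        simpa using (D i).inv_mem h1 }
  haveI : B.Normal := by
    refine ⟨fun a ha b i hi x hx => ?_⟩
    have h1 : ((b * a * b⁻¹ : F.autGroup P) : MulAut P) x =
        x * (b : MulAut P) ((((b⁻¹ : F.autGroup P) : MulAut P) x)⁻¹ *
          (a : MulAut P) (((b⁻¹ : F.autGroup P) : MulAut P) x)) := by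
      simp only [Subgroup.coe_mul, Subgroup.coe_inv, MulAut.mul_apply, map_mul, map_inv,
        MulAut.inv_apply, MulEquiv.apply_symm_apply, mul_inv_cancel_left]
    rw [h1, Subgroup.coe_mul, inv_mul_cancel_left]
    exact hA _ b.2 i hi.le _ (ha i hi _ (hA _ (b⁻¹).2 _ hi x hx))
  have hBp : IsPGroup p B := by
    obtain ⟨e, he⟩ := IsPGroup.iff_card.mp (hS.to_le hrad.1)
    intro b
    refine ⟨e * n, ?_⟩
    apply Subtype.ext
    apply Subtype.ext
    have h3 := pow_eq_one_of_stabilizes h0 hn (α := ((b : F.autGroup P) : MulAut P))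
      (hA _ (b : F.autGroup P).2) b.2
    rw [he, ← pow_mul] at h3
    simpa using h3
  have hle := Cfsg.Lib.Core.le_pCore (p := p) hBp
  rw [← hrad.2]
  exact ⟨⟨α, hα⟩, hle hs, rfl⟩

end Stabilizer

section Closed

variable {P Q : Subgroup Ω}

theorem stronglyClosed_conj_mem (hQ : F.StronglyClosed Q) {g x : Ω} (hg : g ∈ S) (hx : x ∈ Q) :
    g * x * g⁻¹ ∈ Q :=
  hQ.2 Q le_rfl _ (F.conj_mem hQ.1 hg) ⟨x, hx⟩

theorem stronglyClosed_le_normalizer (hQ : F.StronglyClosed Q) :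
    S ≤ Subgroup.normalizer (Q : Set Ω) := by
  intro g hg
  rw [Subgroup.mem_normalizer_iff]
  intro x
  refine ⟨fun hx => stronglyClosed_conj_mem hQ hg hx, fun hx => ?_⟩
  have h := stronglyClosed_conj_mem hQ (S.inv_mem hg) hx
  simpa [mul_assoc] using h

theorem stronglyClosed_apply_mem (hQ : F.StronglyClosed Q) {φ : P →* Ω} (hφ : φ ∈ F.Hom P)
    {x : P} (hx : (x : Ω) ∈ Q) : φ x ∈ Q := by
  have h := hQ.2 (P ⊓ Q) inf_le_right _ (restrict_mem hφ inf_le_left) ⟨x, x.2, hx⟩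
  exact h

theorem stronglyClosed_aut_mem (hQ : F.StronglyClosed Q) {α : MulAut P} (hα : α ∈ F.autGroup P)
    (hP : P ≤ S) {x : P} (hx : (x : Ω) ∈ Q) : (α x : Ω) ∈ Q :=
  stronglyClosed_apply_mem hQ ((mem_autGroup hP).1 hα) hx

theorem stronglyClosed_map_aut [Finite S] (hQ : F.StronglyClosed Q) {α : MulAut P}
    (hα : α ∈ F.autGroup P) (hP : P ≤ S) :
    (Q.subgroupOf P).map α.toMonoidHom = Q.subgroupOf P := by
  haveI := finite_of_le hP
  refine Subgroup.eq_of_le_of_card_ge ?_ ?_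
  · rintro _ ⟨x, hx, rfl⟩
    exact stronglyClosed_aut_mem hQ hα hP hx
  · rw [Nat.card_congr ((Q.subgroupOf P).equivMapOfInjective α.toMonoidHom α.injective).toEquiv]

theorem isNormal_stronglyClosed (hQ : F.IsNormal Q) : F.StronglyClosed Q := by
  refine ⟨hQ.1, fun R hR φ hφ x => ?_⟩
  obtain ⟨ψ, hψ, hψe, hψQ⟩ := hQ.2 R φ hφ
  rw [← hψe x]
  exact hψQ.le ((mem_map_subgroupOf (ψ := ψ)).2 ⟨x, Subgroup.mem_sup_left x.2, hR x.2, rfl⟩)

/-- A subgroup with a strongly closed series centralized by it lies in every centric radical subgroup. -/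
theorem le_of_series [Finite S] {p : ℕ} [Fact p.Prime] (hS : IsPGroup p S) (Z : ℕ → Subgroup Ω)
    (m : ℕ) (hZ0 : Z 0 = ⊥) (hZm : Z m = Q) (hZs : ∀ i, i ≤ m → F.StronglyClosed (Z i))
    (hZc : ∀ i, i < m → ∀ g ∈ Q, ∀ y ∈ Z (i + 1), ⁅g, y⁆ ∈ Z i)
    (hc : F.IsCentric P) (hrad : F.IsRadical p P) : Q ≤ P := by
  have hQs : F.StronglyClosed Q := hZm ▸ hZs m le_rfl
  have hPS := hc.1
  have hQn := stronglyClosed_le_normalizer hQs
  have hNQ : ∀ g ∈ Q, g ∈ Subgroup.normalizer (P : Set Ω) → g ∈ P := by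
    intro g hg hgN
    let D : ℕ → Subgroup Ω := fun i => if i ≤ m then P ⊓ Z i else P
    have hgS : g ∈ S := hQs.1 hg
    have hα : conjAut P hgN ∈ F.autGroup P :=
      autInducedBy_le_autGroup hPS (conjAut_mem_autInducedBy hgN hgS)
    refine mem_of_conjAut_mem_inn (hc.2 P (isConj_refl F hPS)) hPS hgS (fun _ => rfl)
      (mem_inn_of_stabilizes (D := D) (n := m + 1) hS hrad ?_ ?_ ?_ hα ?_)
    · simp [D, hZ0]
    · simp [D]
    · intro a ha i _ x hx
      simp only [D] at hx ⊢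
      split_ifs at hx ⊢ with hi
      · exact ⟨(a x).2, stronglyClosed_aut_mem (hZs i hi) ha hPS hx.2⟩
      · exact (a x).2
    · intro i hi x hx
      have him : i ≤ m := by omega
      have hxP : (x : Ω)⁻¹ * (conjAut P hgN x : Ω) ∈ P :=
        P.mul_mem (P.inv_mem x.2) (conjAut P hgN x).2
      simp only [D, him, if_true]
      refine ⟨hxP, ?_⟩
      rw [coe_conjAut]
      rcases Nat.lt_or_eq_of_le him with h | h
      · have hx' : (x : Ω) ∈ Z (i + 1) := by
          simp only [D] at hx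
          rw [if_pos (Nat.succ_le_of_lt h)] at hx
          exact hx.2
        have h1 := hZc i h g hg (x : Ω)⁻¹ ((Z (i + 1)).inv_mem hx')
        have h2 := (Z i).inv_mem h1
        simpa [commutatorElement_def, mul_assoc] using h2
      · subst h
        rw [hZm]
        have h1 : (x : Ω)⁻¹ * g * (x : Ω) ∈ Q :=
          (Subgroup.mem_normalizer_iff''.1 (hQn (hPS x.2)) g).1 hg
        have h2 := Q.mul_mem h1 (Q.inv_mem hg)
        simpa [mul_assoc] using h2
  intro q hq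
  by_contra hqP
  haveI := finite_of_le (sup_le hPS hQs.1)
  have hlt : P < P ⊔ Q :=
    lt_of_le_of_ne le_sup_left fun h => hqP (h ▸ Subgroup.mem_sup_right hq)
  obtain ⟨y, hy, hyP⟩ :=
    SetLike.exists_of_lt (lt_normalizerIn (hS.to_le (sup_le hPS hQs.1)) hlt)
  have h1 : y ∈ ((P ⊔ Q : Subgroup Ω) : Set Ω) := hy.1
  rw [Subgroup.coe_mul_of_left_le_normalizer_right _ _ (hPS.trans hQn)] at h1
  obtain ⟨a, ha, b, hb, rfl⟩ := h1
  apply hyP
  refine P.mul_mem ha (hNQ b hb ?_)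
  have h2 := Subgroup.mul_mem _ (Subgroup.inv_mem _ (Subgroup.le_normalizer ha)) hy.2
  simpa using h2

end Closed

section Criteria

variable {Q : Subgroup Ω}

theorem exists_series_of_nilpotent [Finite S] {p : ℕ} [Fact p.Prime] (hS : IsPGroup p S)
    (hQ : Q ≤ S) : ∃ (Z : ℕ → Subgroup Ω) (m : ℕ), Z 0 = ⊥ ∧ Z m = Q ∧ Monotone Z ∧
      (∀ i, Z i ≤ Q ∧ ((Z i).subgroupOf Q).Characteristic) ∧
      ∀ i, ∀ g ∈ Q, ∀ y ∈ Z (i + 1), ⁅g, y⁆ ∈ Z i := by
  haveI := finite_of_le hQ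
  haveI : Group.IsNilpotent Q := (hS.to_le hQ).isNilpotent
  obtain ⟨m, hm⟩ := Group.IsNilpotent.nilpotent' (G := Q)
  refine ⟨fun i => (Subgroup.upperCentralSeries Q i).map Q.subtype, m, ?_, ?_, ?_, fun i => ⟨?_, ?_⟩,
    ?_⟩
  · simp
  · simp [hm, ← MonoidHom.range_eq_map]
  · exact fun i j hij => Subgroup.map_mono (Subgroup.upperCentralSeries_mono Q hij)
  · exact Subgroup.map_subtype_le _
  · show (((Subgroup.upperCentralSeries Q i).map Q.subtype).comap Q.subtype).Characteristic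
    rw [Subgroup.comap_map_eq_self_of_injective Q.subtype_injective]
    infer_instance
  · rintro i g hg _ ⟨y, hy, rfl⟩
    refine ⟨⁅(⟨g, hg⟩ : Q), y⁆, ?_, rfl⟩
    have h1 := (Subgroup.mem_upperCentralSeries_succ_iff.1 hy) ⟨g, hg⟩
    have h2 := (Subgroup.upperCentralSeries Q i).inv_mem h1
    rwa [commutatorElement_inv] at h2

theorem le_of_isNormal [Finite S] {p : ℕ} [Fact p.Prime] (hS : IsPGroup p S) (hQ : F.IsNormal Q)
    {P : Subgroup Ω} (hc : F.IsCentric P) (hrad : F.IsRadical p P) : Q ≤ P := by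
  obtain ⟨Z, m, h0, hm, -, hchar, hcomm⟩ := exists_series_of_nilpotent hS hQ.1
  exact le_of_series hS Z m h0 hm
    (fun i _ => isNormal_stronglyClosed (isNormal_of_characteristic hQ (hchar i).1 (hchar i).2))
    (fun i _ => hcomm i) hc hrad

theorem isNormal_of_forall_essential [Finite S] {p : ℕ} [Fact p.Prime] (hS : IsPGroup p S)
    (hF : F.IsSaturated p)
    (h : ∀ P : Subgroup Ω, (P = S ∨ F.IsEssential p P) →
      (Q ≤ P ∧ ∀ α ∈ F.autGroup P, (Q.subgroupOf P).map α.toMonoidHom = Q.subgroupOf P)) :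
    F.IsNormal Q := by
  obtain ⟨hQS, hQinv⟩ := h S (Or.inl rfl)
  have hN : normalizerIn S Q = S := by
    refine le_antisymm (normalizerIn_le Q) fun g hg => ⟨hg, ?_⟩
    show g ∈ Subgroup.normalizer (Q : Set Ω)
    have h1 := hQinv _ (autInducedBy_le_autGroup (F := F) le_rfl
      (conjAut_mem_autInducedBy (Subgroup.le_normalizer hg) hg))
    haveI := finite_of_le hQS
    refine Subgroup.mem_normalizer_fintype fun n hn => ?_
    exact h1.le ⟨⟨n, hQS hn⟩, hn, rfl⟩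
  obtain ⟨E₀, hE₀⟩ := exists_normalizerSystem F hQS
  obtain ⟨E, hE⟩ := exists_copy hN E₀
  have hle : F ≤ E := le_of_autGroup_le hS hF E fun P hP α hα => by
    obtain ⟨hQP, hinv⟩ := h P hP
    have hPS : P ≤ S := by rcases hP with rfl | hP; exacts [le_rfl, hP.1.1]
    refine (mem_autGroup hPS).2 ?_
    show _ ∈ E.Hom P
    have hi := (mem_autGroup hPS).1 hα
    rw [hE, hE₀]
    refine ⟨hi, hN.symm ▸ hPS, fun x => hN.symm ▸ hom_mem hi x, ?_⟩
    have hsup : P ⊔ Q ≤ P := sup_le le_rfl hQP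
    refine ⟨_, restrict_mem hi hsup, fun x => rfl, ?_⟩
    ext y
    rw [mem_map_subgroupOf]
    constructor
    · rintro ⟨x, hx, hxQ, rfl⟩
      exact (hinv α hα).le ⟨⟨x, hsup hx⟩, hxQ, rfl⟩
    · intro hy
      obtain ⟨x, hx, hxe⟩ := (hinv α hα).ge (show (⟨y, hQP hy⟩ : P) ∈ Q.subgroupOf P from hy)
      exact ⟨x, Subgroup.mem_sup_left x.2, hx, congrArg Subtype.val hxe⟩
  refine ⟨hQS, fun P φ hφ => ?_⟩
  have h1 := hle P hφ
  rw [hE, hE₀] at h1
  exact h1.2.2.2

theorem isNormal_of_stronglyClosed [Finite S] {p : ℕ} [Fact p.Prime] (hS : IsPGroup p S)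
    (hF : F.IsSaturated p) (hQ : F.StronglyClosed Q)
    (h : ∀ P : Subgroup Ω, F.IsCentric P → F.IsRadical p P → Q ≤ P) : F.IsNormal Q := by
  refine isNormal_of_forall_essential hS hF fun P hP => ?_
  rcases hP with rfl | hP
  · exact ⟨hQ.1, fun α hα => stronglyClosed_map_aut hQ hα le_rfl⟩
  · exact ⟨h P hP.1 (isRadical_of_isEssential hS hP),
      fun α hα => stronglyClosed_map_aut hQ hα hP.1.1⟩

theorem isNormal_of_series [Finite S] {p : ℕ} [Fact p.Prime] (hS : IsPGroup p S)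
    (hF : F.IsSaturated p) (Z : ℕ → Subgroup Ω) (m : ℕ) (hZ0 : Z 0 = ⊥) (hZm : Z m = Q)
    (hZs : ∀ i, i ≤ m → F.StronglyClosed (Z i))
    (hZc : ∀ i, i < m → ∀ g ∈ Q, ∀ y ∈ Z (i + 1), ⁅g, y⁆ ∈ Z i) : F.IsNormal Q :=
  isNormal_of_stronglyClosed hS hF (hZm ▸ hZs m le_rfl)
    fun _ hc hr => le_of_series hS Z m hZ0 hZm hZs hZc hc hr

theorem stronglyClosed_bot (F : FusionSystem S) : F.StronglyClosed ⊥ := by
  refine ⟨bot_le, fun R hR φ hφ x => ?_⟩
  have hx : x = 1 := Subtype.ext (Subgroup.mem_bot.1 (hR x.2))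
  simp [hx]

theorem isNormal_bot (F : FusionSystem S) : F.IsNormal ⊥ := by
  refine ⟨bot_le, fun P φ hφ => ?_⟩
  have hle : P ⊔ (⊥ : Subgroup Ω) ≤ P := by simp
  refine ⟨_, restrict_mem hφ hle, fun x => rfl, ?_⟩
  rw [Subgroup.bot_subgroupOf, Subgroup.map_bot]

theorem isNormal_iff_aut_ext [Finite S] {p : ℕ} [Fact p.Prime] (hS : IsPGroup p S)
    (hF : F.IsSaturated p) {R : Subgroup Ω} (hRS : R ≤ S) :
    F.IsNormal R ↔ ∀ (P : Subgroup Ω) (hPR : P ≤ R) (φ : P →* Ω), φ ∈ F.Hom P →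
      ∃ α ∈ F.autGroup R, ∀ x : P, ((α (Subgroup.inclusion hPR x) : R) : Ω) = φ x := by
  constructor
  · intro hR P hPR φ hφ
    obtain ⟨ψ, hψ, hψe, hψR⟩ := hR.2 P φ hφ
    have hr : (ψ.comp (Subgroup.inclusion le_sup_right)).range = R := by
      rw [← MonoidHom.map_range, Subgroup.inclusion_range, hψR]
    exact ⟨homIso (restrict_mem hψ le_sup_right) hr,
      (mem_autGroup hRS).2 (isoIn_homIso _ hr), fun x => hψe x⟩
  · intro h
    obtain ⟨Z, m, h0, hm, -, hchar, hcomm⟩ := exists_series_of_nilpotent hS hRS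
    refine isNormal_of_series hS hF Z m h0 hm (fun i _ => ?_) (fun i _ => hcomm i)
    refine ⟨(hchar i).1.trans hRS, fun T hT φ hφ x => ?_⟩
    obtain ⟨α, hα, he⟩ := h T (hT.trans (hchar i).1) φ hφ
    rw [← he x]
    have hfix := (hchar i).2.fixed α
    have h1 : Subgroup.inclusion (hT.trans (hchar i).1) x ∈
        ((Z i).subgroupOf R).comap α.toMonoidHom := hfix.symm ▸ hT x.2
    exact h1

end Criteria

section Central

theorem aut_fix {P : Subgroup Ω} (hP : P ≤ S) {α : MulAut P} (hα : α ∈ F.autGroup P) {x : Ω}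
    (hx : x ∈ P) : F.IsConjElt x (α ⟨x, hx⟩ : Ω) :=
  ⟨_, restrict_mem ((mem_autGroup hP).1 hα) (Subgroup.zpowers_le.2 hx), rfl⟩

theorem isCentral_iff [Finite S] {p : ℕ} [Fact p.Prime] (hS : IsPGroup p S)
    (hF : F.IsSaturated p) (Q : Subgroup Ω) :
    F.IsCentral Q ↔ (Q ≤ S ∧ ∀ x ∈ Q, ∀ y : Ω, F.IsConjElt x y → y = x) := by
  constructor
  · intro hQ
    refine ⟨hQ.1, ?_⟩
    rintro x hx y ⟨φ, hφ, rfl⟩
    obtain ⟨ψ, -, hψe, hψf⟩ := hQ.2 _ φ hφ
    rw [← hψe ⟨x, Subgroup.mem_zpowers x⟩]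
    exact hψf ⟨x, hx⟩
  · rintro ⟨hQS, h⟩
    have hC : centralizerIn S Q = S := by
      refine le_antisymm (centralizerIn_le Q) fun g hg => mem_centralizerIn.2 ⟨hg, fun x hx => ?_⟩
      exact commute_of_conj_eq (h x hx _ ⟨conjHom _ g,
        F.conj_mem (Subgroup.zpowers_le.2 (hQS hx)) hg, rfl⟩)
    obtain ⟨E₀, hE₀⟩ := exists_centralizerSystem F hQS
    obtain ⟨E, hE⟩ := exists_copy hC E₀
    have hle : F ≤ E := le_of_autGroup_le hS hF E fun P hP α hα => by
      have hPS : P ≤ S := by rcases hP with rfl | hP; exacts [le_rfl, hP.1.1]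
      have hQP : Q ≤ P := by
        rcases hP with rfl | hP
        · exact hQS
        · intro x hx
          refine hP.1.2 P (isConj_refl F hPS) (mem_centralizerIn.2 ⟨hQS hx, fun z hz => ?_⟩)
          exact ((mem_centralizerIn.1 (hC.symm ▸ hPS hz : z ∈ centralizerIn S Q)).2 x hx).symm
      refine (mem_autGroup hPS).2 ?_
      show _ ∈ E.Hom P
      have hi := (mem_autGroup hPS).1 hα
      rw [hE, hE₀]
      exact ⟨hi, hC.symm ▸ hPS, fun x => hC.symm ▸ hom_mem hi x, _,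
        restrict_mem hi (sup_le le_rfl hQP), fun x => rfl,
        fun x => h x x.2 _ (aut_fix hPS hα (hQP x.2))⟩
    refine ⟨hQS, fun P φ hφ => ?_⟩
    have h1 := hle P hφ
    rw [hE, hE₀] at h1
    exact h1.2.2.2

end Central

end Cfsg.Lib.FusionSys

namespace Cfsg.Lib.FusionSys

open Cfsg Cfsg.FusionSystem

theorem isNormal_core {Ω : Type*} [Group Ω] {S : Subgroup Ω} [Finite S] (F : FusionSystem S) :
    F.IsNormal F.core :=
  sSup_mem_of_finite (C := {Q | F.IsNormal Q}) (fun _ h => h.1) (isNormal_bot F)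
    fun _ hA _ hB => isNormal_sup hA hB

end Cfsg.Lib.FusionSys
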