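import Cfsg.Agent.Lib.FusionSys.SmallFusion
import Cfsg.Agent.Lib.FusionSys.Normal

/-!
The closure of a subgroup normal in an invariant subsystem is normal in the whole system.
-/

set_option autoImplicit false
set_option linter.style.haveILetI false

universe u

namespace Cfsg.Lib.FusionSys

open Cfsg Cfsg.FusionSystem

variable {Ω : Type u} [Group Ω] {S T : Subgroup Ω} {F : FusionSystem S} {E : FusionSystem T}

/-- The image of a subgroup of `T` under an automorphism of `T`. -/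
def autImage (α : MulAut T) (X : Subgroup Ω) : Subgroup Ω :=
  (X.subgroupOf T).map (T.subtype.comp α.toMonoidHom)

theorem mem_autImage {α : MulAut T} {X : Subgroup Ω} {y : Ω} :
    y ∈ autImage α X ↔ ∃ t : T, (t : Ω) ∈ X ∧ ((α t : T) : Ω) = y := Iff.rfl

theorem autImage_le (α : MulAut T) (X : Subgroup Ω) : autImage α X ≤ T := by
  rintro _ ⟨t, -, rfl⟩; exact (α t).2

theorem autImage_autImage (α β : MulAut T) (X : Subgroup Ω) :
    autImage β (autImage α X) = autImage (β * α) X := by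
  ext y
  rw [mem_autImage, mem_autImage]
  constructor
  · rintro ⟨t, ⟨s, hs, hst⟩, rfl⟩
    obtain rfl : α s = t := Subtype.ext hst
    exact ⟨s, hs, rfl⟩
  · rintro ⟨s, hs, rfl⟩
    exact ⟨α s, ⟨s, hs, rfl⟩, rfl⟩

theorem autImage_one {X : Subgroup Ω} (hX : X ≤ T) : autImage (1 : MulAut T) X = X := by
  ext y
  rw [mem_autImage]
  exact ⟨fun ⟨t, ht, e⟩ => e ▸ ht, fun hy => ⟨⟨y, hX hy⟩, hy, rfl⟩⟩

theorem isNormal_autImage (hinv : E.IsInvariantIn F) {α : MulAut T} (hα : α ∈ F.autGroup T) {R : Subgroup Ω}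
    (hR : E.IsNormal R) : E.IsNormal (autImage α R) := by
  refine ⟨autImage_le α R, fun X φ hφ => ?_⟩
  have hX := hom_le hφ
  set X₀ := autImage α⁻¹ X
  have hX₀T : X₀ ≤ T := autImage_le _ _
  obtain ⟨χ, hχ, hχe⟩ : ∃ χ ∈ E.Hom X₀, ∀ (x : X) (hφx : φ x ∈ T)
      (hαx : ((α⁻¹ ⟨x, hX x.2⟩ : T) : Ω) ∈ X₀), χ ⟨_, hαx⟩ = ((α⁻¹ ⟨φ x, hφx⟩ : T) : Ω) :=
    hinv.2.2.1 X hX φ hφ α⁻¹ ((F.autGroup T).inv_mem hα)
  obtain ⟨χ', hχ', hχ'e, hχ'R⟩ := hR.2 X₀ χ hχ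
  have hU : X₀ ⊔ R ≤ T := sup_le hX₀T hR.1
  obtain ⟨χ'', hχ'', hχ''e⟩ : ∃ χ'' ∈ E.Hom (autImage α (X₀ ⊔ R)), ∀ (y : (X₀ ⊔ R : Subgroup Ω)) (hy : χ' y ∈ T)
      (hαy : ((α ⟨y, hU y.2⟩ : T) : Ω) ∈ autImage α (X₀ ⊔ R)),
      χ'' ⟨_, hαy⟩ = ((α ⟨χ' y, hy⟩ : T) : Ω) :=
    hinv.2.2.1 _ hU χ' hχ' α hα
  have heq : autImage α (X₀ ⊔ R) = X ⊔ autImage α R := by
    have h1 : autImage α (X₀ ⊔ R) = autImage α X₀ ⊔ autImage α R := by
      show (((X₀ ⊔ R : Subgroup Ω).subgroupOf T).map _) = _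
      rw [Subgroup.subgroupOf_sup hX₀T hR.1, Subgroup.map_sup]
      rfl
    rw [h1, autImage_autImage, mul_inv_cancel, autImage_one hX]
  refine ⟨_, restrict_mem hχ'' heq.ge, fun x => ?_, le_antisymm ?_ fun w hw => ?_⟩
  · have hxT : (x : Ω) ∈ T := hX x.2
    have h0 : ((α⁻¹ ⟨x, hxT⟩ : T) : Ω) ∈ X₀ := ⟨⟨x, hxT⟩, x.2, rfl⟩
    set y : (X₀ ⊔ R : Subgroup Ω) := ⟨_, Subgroup.mem_sup_left h0⟩
    have hy' : χ' y = ((α⁻¹ ⟨φ x, hom_mem hφ x⟩ : T) : Ω) :=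
      (hχ'e ⟨_, h0⟩).trans (hχe x (hom_mem hφ x) h0)
    have hval : ((α ⟨(y : Ω), hU y.2⟩ : T) : Ω) = (x : Ω) := by
      show ((α (α⁻¹ ⟨x, hxT⟩) : T) : Ω) = _
      rw [MulAut.apply_inv_self]
    have hαy : ((α ⟨(y : Ω), hU y.2⟩ : T) : Ω) ∈ autImage α (X₀ ⊔ R) := ⟨⟨_, hU y.2⟩, y.2, rfl⟩
    refine (congrArg χ'' (Subtype.ext hval.symm)).trans ((hχ''e y (hom_mem hχ' y) hαy).trans ?_)
    rw [show (⟨χ' y, hom_mem hχ' y⟩ : T) = α⁻¹ ⟨φ x, hom_mem hφ x⟩ from Subtype.ext hy',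
      MulAut.apply_inv_self]
  · rintro _ ⟨w, ⟨r, hr, hrw⟩, rfl⟩
    have hy : (r : Ω) ∈ X₀ ⊔ R := Subgroup.mem_sup_right hr
    have hαy : ((α ⟨(r : Ω), hU hy⟩ : T) : Ω) ∈ autImage α (X₀ ⊔ R) := ⟨r, hy, rfl⟩
    refine ⟨⟨χ' ⟨r, hy⟩, hom_mem hχ' _⟩, hχ'R.le ⟨⟨r, hy⟩, hr, rfl⟩, ?_⟩
    exact ((congrArg χ'' (Subtype.ext hrw.symm)).trans (hχ''e ⟨r, hy⟩ (hom_mem hχ' _) hαy)).symm
  · obtain ⟨r', hr', rfl⟩ := hw
    obtain ⟨⟨r, hy⟩, hr, hre⟩ := hχ'R.ge hr'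
    have hαy : ((α ⟨r, hU hy⟩ : T) : Ω) ∈ autImage α (X₀ ⊔ R) := ⟨⟨r, hU hy⟩, hy, rfl⟩
    refine ⟨⟨_, heq.le hαy⟩, ⟨⟨r, hU hy⟩, hr, rfl⟩, ?_⟩
    refine (hχ''e ⟨r, hy⟩ (hom_mem hχ' _) hαy).trans ?_
    exact congrArg (fun t : T => ((α t : T) : Ω)) (Subtype.ext hre)

/-- A subgroup normal in an invariant subsystem and preserved by the automorphisms of its top is normal. -/
theorem isNormal_of_invariant [Finite S] {p : ℕ} [Fact p.Prime] (hS : IsPGroup p S) (hF : F.IsSaturated p)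
    (hinv : E.IsInvariantIn F) {Q : Subgroup Ω} (hQ : E.IsNormal Q)
    (hQα : ∀ α ∈ F.autGroup T, ∀ t : T, (t : Ω) ∈ Q → ((α t : T) : Ω) ∈ Q) : F.IsNormal Q := by
  have hT := hinv.2.1
  have hQT := hQ.1
  -- maps of `F` inside `T` extend preserving `Q`
  have hext : ∀ (U : Subgroup Ω), U ≤ T → ∀ (φ : U →* Ω), φ ∈ F.Hom U →
      ∃ ψ ∈ F.Hom (U ⊔ Q), (∀ x : U, ψ (Subgroup.inclusion le_sup_left x) = φ x) ∧
        ∀ y : (U ⊔ Q : Subgroup Ω), (y : Ω) ∈ Q → ψ y ∈ Q := by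
    intro U hU φ hφ
    obtain ⟨α, hα, φ₀, hφ₀, he⟩ := hinv.2.2.2 U hU φ hφ
    obtain ⟨ψ₀, hψ₀, hψ₀e, hψ₀Q⟩ := hQ.2 U φ₀ hφ₀
    have hψ₀T : ∀ y, ψ₀ y ∈ T := hom_mem hψ₀
    refine ⟨_, F.comp_mem (hinv.1 _ hψ₀) ((mem_autGroup hT.1).1 hα) hψ₀T, fun x => ?_, fun y hy => ?_⟩
    · show ((α ⟨ψ₀ _, _⟩ : T) : Ω) = φ x
      rw [he x (hom_mem hφ₀ x)]
      exact congrArg (fun t : T => ((α t : T) : Ω)) (Subtype.ext (hψ₀e x))
    · exact hQα α hα ⟨ψ₀ y, hψ₀T y⟩ (hψ₀Q.le ⟨y, hy, rfl⟩)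
  have hsc : F.StronglyClosed Q := ⟨hQT.trans hT.1, fun X hX φ hφ x => by
    obtain ⟨ψ, -, hψe, hψQ⟩ := hext X (hX.trans hQT) φ hφ
    rw [← hψe x]
    exact hψQ _ (hX x.2)⟩
  refine isNormal_of_forall_essential hS hF fun P hP => ?_
  have hPS : P ≤ S := by
    rcases hP with rfl | hP
    exacts [le_rfl, hP.1.1]
  suffices hQP : Q ≤ P from ⟨hQP, fun α hα => stronglyClosed_map_aut hsc hα hPS⟩
  rcases hP with rfl | hP
  · exact hsc.1
  by_contra hQP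
  haveI := finite_of_le hPS
  haveI : Finite (MulAut P) := Finite.of_injective (fun f => (f : P → P)) DFunLike.coe_injective
  obtain ⟨-, -, -, hmax, -, -⟩ := RankTwo.basic hS hF hP
  set U := P ⊓ T
  set K := F.autGroup P
  have hUinv : ∀ (a : K) (x : P), (x : Ω) ∈ U → (((a : MulAut P) x : P) : Ω) ∈ U := fun a x hx =>
    Subgroup.mem_inf.2 ⟨((a : MulAut P) x).2, stronglyClosed_aut_mem hT a.2 hPS hx.2⟩
  let C : Subgroup K :=
    { carrier := {a | (∀ x : P, (x : Ω)⁻¹ * (((a : MulAut P) x : P) : Ω) ∈ U) ∧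
        ∃ q ∈ Q, ∀ x : P, (x : Ω) ∈ U → (((a : MulAut P) x : P) : Ω) = q * x * q⁻¹}
      one_mem' := ⟨fun x => by simp, 1, one_mem Q, fun x _ => by simp⟩
      mul_mem' := fun {a b} ⟨ha1, qa, hqa, ha2⟩ ⟨hb1, qb, hqb, hb2⟩ => ⟨fun x => by
        have h1 := U.mul_mem (hb1 x) (ha1 ((b : MulAut P) x))
        rw [mul_assoc, mul_inv_cancel_left] at h1
        exact h1, qa * qb, Q.mul_mem hqa hqb, fun x hx => by
        show (((a : MulAut P) ((b : MulAut P) x) : P) : Ω) = _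
        rw [ha2 _ (hUinv b x hx), hb2 x hx]; group⟩
      inv_mem' := fun {a} ⟨ha1, qa, hqa, ha2⟩ => ⟨fun x => by
        have h1 := ha1 ((a : MulAut P)⁻¹ x)
        rw [MulAut.apply_inv_self] at h1
        simpa using U.inv_mem h1, qa⁻¹, Q.inv_mem hqa, fun x hx => by
        have h1 := ha2 ((a : MulAut P)⁻¹ x) (hUinv a⁻¹ x hx)
        rw [MulAut.apply_inv_self] at h1
        show ((((a : MulAut P)⁻¹) x : P) : Ω) = _
        rw [h1]; group⟩ }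
  haveI hCn : C.Normal := ⟨fun a ⟨ha1, q, hq, ha2⟩ b => ⟨fun x => by
      have h1 := hUinv b _ (show (((((b : MulAut P)⁻¹ x)⁻¹ * (a : MulAut P) ((b : MulAut P)⁻¹ x) : P)) : Ω) ∈ U
        from ha1 ((b : MulAut P)⁻¹ x))
      rw [map_mul, map_inv, MulAut.apply_inv_self] at h1
      exact h1, by
      have hUP : U ≤ P := inf_le_left
      have hres := restrict_mem ((mem_autGroup hPS).1 b.2) hUP
      obtain ⟨ψ, hψ, hψe, hψQ⟩ := hext U inf_le_right _ hres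
      have hbU : ∀ (w : P) (hw : (w : Ω) ∈ U), ψ ⟨w, Subgroup.mem_sup_left hw⟩ = (((b : MulAut P) w : P) : Ω) :=
        fun w hw => hψe ⟨w, hw⟩
      refine ⟨ψ ⟨q, Subgroup.mem_sup_right hq⟩, hψQ _ hq, fun x hx => ?_⟩
      set y : P := (b : MulAut P)⁻¹ x
      have hy : (y : Ω) ∈ U := hUinv b⁻¹ x hx
      have hay : (((a : MulAut P) y : P) : Ω) ∈ U := hUinv a y hy
      show (((b : MulAut P) ((a : MulAut P) y) : P) : Ω) = _
      have h2 : ψ ⟨y, Subgroup.mem_sup_left hy⟩ = (x : Ω) := by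
        rw [hbU y hy]; simp [y]
      rw [← hbU _ hay, ← h2, ← map_inv, ← map_mul, ← map_mul]
      exact congrArg ψ (Subtype.ext (ha2 y hy))⟩⟩
  have hCp : IsPGroup p C := by
    refine Cfsg.Lib.Local.isPGroup_of_forall_coprime fun a ha hcop => ?_
    obtain ⟨ha1, q, hq, ha2⟩ := ha
    have hcop' : (orderOf (a : MulAut P)).Coprime p := by rwa [Subgroup.orderOf_coe]
    have hfixU : ∀ x : P, (x : Ω) ∈ U → (a : MulAut P) x = x := by
      intro x hx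
      obtain ⟨n, hn⟩ := hS ⟨q, hsc.1 hq⟩
      have hiter : ∀ (j : ℕ) (x : P), (x : Ω) ∈ U →
          ((((a : MulAut P) ^ j) x : P) : Ω) = q ^ j * x * (q ^ j)⁻¹ := by
        intro j
        induction j with
        | zero => intro x _; simp
        | succ j ih =>
          intro x hx
          rw [pow_succ, MulAut.mul_apply, ih _ (hUinv a x hx), ha2 x hx, pow_succ]
          group
      have hpn : ((a : MulAut P) ^ p ^ n) x = x := Subtype.ext (by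
        have hn' : q ^ p ^ n = 1 := congrArg Subtype.val hn
        rw [hiter _ x hx, hn', one_mul, inv_one, mul_one])
      obtain ⟨j, hj⟩ := exists_pow_eq_self_of_coprime ((hcop'.pow_right n).symm)
      rw [← hj]
      have : ∀ i : ℕ, (((a : MulAut P) ^ p ^ n) ^ i) x = x := fun i => by
        induction i with
        | zero => rfl
        | succ i ih => rw [pow_succ, MulAut.mul_apply, hpn, ih]
      exact this j
    refine Subtype.ext (MulEquiv.ext fun x => ?_)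
    exact eq_one_of_coprime_fix (hS.to_le hPS) hcop' (hfixU _ (ha1 x))
  -- an element of `Q` normalizing `P` outside `P`
  have hlt : P < P ⊔ Q := left_lt_sup.2 hQP
  haveI := finite_of_le (sup_le hPS hsc.1)
  obtain ⟨g, ⟨hg, hgN⟩, hgP⟩ := SetLike.exists_of_lt (lt_normalizerIn (hS.to_le (sup_le hPS hsc.1)) hlt)
  have hg' : g ∈ ((P ⊔ Q : Subgroup Ω) : Set Ω) := hg
  rw [Subgroup.coe_mul_of_left_le_normalizer_right P Q (hPS.trans (stronglyClosed_le_normalizer hsc))] at hg'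
  obtain ⟨x, hx, t, ht, rfl⟩ := Set.mem_mul.1 hg'
  have htN : t ∈ Subgroup.normalizer (P : Set Ω) := by
    have := Subgroup.mul_mem _ (Subgroup.inv_mem _ (Subgroup.le_normalizer hx)) hgN
    rwa [inv_mul_cancel_left] at this
  have hcK : conjAut P htN ∈ K := autInducedBy_le_autGroup hPS (conjAut_mem_autInducedBy htN (hsc.1 ht))
  have hcC : (⟨_, hcK⟩ : K) ∈ C := by
    refine ⟨fun y => Subgroup.mem_inf.2 ⟨?_, ?_⟩, t, ht, fun y _ => rfl⟩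
    · exact P.mul_mem (P.inv_mem y.2) ((Subgroup.mem_normalizer_iff.1 htN _).1 y.2)
    · show (y : Ω)⁻¹ * (t * y * t⁻¹) ∈ T
      refine hQT ?_
      have := Q.mul_mem (stronglyClosed_conj_mem hsc (S.inv_mem (hPS y.2)) ht) (Q.inv_mem ht)
      simpa [mul_assoc] using this
  exact hgP (P.mul_mem hx (mem_of_conjAut_mem_inn (hP.1.2 P (isConj_refl F hPS)) hPS (hsc.1 ht) (fun y => rfl)
    (Subgroup.mem_subgroupOf.1 (hmax C hCn hCp hcC))))

/-- The closure under the system of a subgroup normal in an invariant subsystem is normal. -/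
theorem isNormal_closure_of_invariant [Finite S] {p : ℕ} [Fact p.Prime] (hS : IsPGroup p S) (hF : F.IsSaturated p)
    (hinv : E.IsInvariantIn F) {R : Subgroup Ω} (hR : E.IsNormal R) :
    F.IsNormal (Subgroup.closure {x : Ω | ∃ φ ∈ F.Hom R, ∃ r : R, x = φ r}) := by
  set Q := Subgroup.closure {x : Ω | ∃ φ ∈ F.Hom R, ∃ r : R, x = φ r}
  have hT := hinv.2.1
  have hRS : R ≤ S := hR.1.trans hT.1
  have hQeq : Q = sSup {X | ∃ α ∈ F.autGroup T, X = autImage α R} := by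
    refine le_antisymm ((Subgroup.closure_le _).2 ?_) (sSup_le ?_)
    · rintro _ ⟨φ, hφ, r, rfl⟩
      obtain ⟨α, hα, φ₀, hφ₀, he⟩ := hinv.2.2.2 R hR.1 φ hφ
      refine le_sSup (show autImage α R ∈ {X | ∃ α ∈ F.autGroup T, X = autImage α R} from ⟨α, hα, rfl⟩)
        ⟨⟨φ₀ r, hom_mem hφ₀ r⟩, ?_, (he r _).symm⟩
      exact stronglyClosed_apply_mem (isNormal_stronglyClosed hR) hφ₀ r.2
    · rintro _ ⟨α, hα, rfl⟩ _ ⟨t, ht, rfl⟩
      exact Subgroup.subset_closure ⟨_, restrict_mem ((mem_autGroup hT.1).1 hα) hR.1, ⟨t, ht⟩, rfl⟩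
  haveI : Finite T := finite_of_le hT.1
  have hQE : E.IsNormal Q := by
    have h1 : sSup {X | E.IsNormal X ∧ X ≤ Q} ∈ {X | E.IsNormal X ∧ X ≤ Q} :=
      sSup_mem_of_finite (S := T) (fun _ h => h.1.1) ⟨isNormal_bot E, bot_le⟩
        (fun A hA B hB => ⟨isNormal_sup hA.1 hB.1, sup_le hA.2 hB.2⟩)
    have h2 : sSup {X | E.IsNormal X ∧ X ≤ Q} = Q := by
      refine le_antisymm (sSup_le fun X h => h.2) ?_
      conv_lhs => rw [hQeq]
      refine sSup_le_sSup ?_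
      rintro _ ⟨α, hα, rfl⟩
      exact ⟨isNormal_autImage hinv hα hR, hQeq.ge.trans' (le_sSup ⟨α, hα, rfl⟩)⟩
    exact h2 ▸ h1.1
  refine isNormal_of_invariant hS hF hinv hQE fun α hα t ht => ?_
  refine Subgroup.closure_induction (p := fun z _ => ∀ hz : z ∈ T, ((α ⟨z, hz⟩ : T) : Ω) ∈ Q) ?_ ?_ ?_ ?_ ht t.2
  · rintro _ ⟨φ, hφ, r, rfl⟩ hz
    have hv : ∀ x : R, φ x ∈ T := fun x =>
      hT.2 R hR.1 φ hφ x
    exact Subgroup.subset_closure ⟨_, F.comp_mem hφ ((mem_autGroup hT.1).1 hα) hv, r, rfl⟩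
  · intro hz
    rw [show (⟨1, hz⟩ : T) = 1 from rfl, map_one]
    exact one_mem _
  · intro u v hu hv ihu ihv hz
    have hQT := hQE.1
    rw [show (⟨u * v, hz⟩ : T) = ⟨u, hQT hu⟩ * ⟨v, hQT hv⟩ from rfl, map_mul]
    exact Q.mul_mem (ihu _) (ihv _)
  · intro u hu ihu hz
    have hQT := hQE.1
    rw [show (⟨u⁻¹, hz⟩ : T) = ⟨u, hQT hu⟩⁻¹ from rfl, map_inv]
    exact Q.inv_mem (ihu _)

end Cfsg.Lib.FusionSys
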