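import Cfsg.Agent.Lib.FusionSys.Alperin
import Cfsg.Agent.Lib.FusionSys.InvariantNormalClosure

/-!
Subsystems of index prime to `p`: the condition on centric subgroups suffices.
-/

set_option autoImplicit false

namespace Cfsg.Lib.FusionSys

open Cfsg Cfsg.FusionSystem
open scoped Pointwise

variable {Ω : Type*} [Group Ω] {S : Subgroup Ω} {F E : FusionSystem S} {p : ℕ}

/-- The transport of `φ` by the automorphism `β` of `S` is a map of `E`. -/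
def TwistMem (E : FusionSystem S) (β : MulAut S) {P : Subgroup Ω} (φ : P →* Ω) (hP : P ≤ S)
    (hv : ∀ x, φ x ∈ S) : Prop :=
  ∃ χ ∈ E.Hom (autImage β P), ∀ (x : P) (h : ((β ⟨x, hP x.2⟩ : S) : Ω) ∈ autImage β P),
    χ ⟨_, h⟩ = ((β ⟨φ x, hv x⟩ : S) : Ω)

theorem mem_autImage_of_mem {β : MulAut S} {X : Subgroup Ω} {x : Ω} (hxS : x ∈ S) (hx : x ∈ X) :
    ((β ⟨x, hxS⟩ : S) : Ω) ∈ autImage β X := ⟨⟨x, hxS⟩, hx, rfl⟩

/-- The largest `Aut_F(S)`-invariant subsystem of `E`. -/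
def twistCore (F E : FusionSystem S) : FusionSystem S where
  Hom P := {φ | ∃ h : φ ∈ F.Hom P, ∀ β ∈ F.autGroup S, TwistMem E β φ (hom_le h) (hom_mem h)}
  le_of_mem h := F.le_of_mem h.1
  injective_of_mem h := F.injective_of_mem h.1
  conj_mem := by
    intro P g hP hg
    refine ⟨F.conj_mem hP hg, fun β _ => ⟨conjHom _ ((β ⟨g, hg⟩ : S) : Ω),
      E.conj_mem (autImage_le _ _) (β ⟨g, hg⟩).2, fun x h => ?_⟩⟩
    show ((β ⟨g, hg⟩ : S) : Ω) * ((β ⟨x, hP x.2⟩ : S) : Ω) * ((β ⟨g, hg⟩ : S) : Ω)⁻¹ = _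
    rw [← Subgroup.coe_inv, ← Subgroup.coe_mul, ← Subgroup.coe_mul, ← map_inv, ← map_mul, ← map_mul]
    exact congrArg (fun s => ((β s : S) : Ω)) (Subtype.ext rfl)
  comp_mem := by
    rintro P Q φ ψ ⟨hφ, hφ'⟩ ⟨hψ, hψ'⟩ h
    refine ⟨F.comp_mem hφ hψ h, fun β hβ => ?_⟩
    obtain ⟨χ, hχ, hχe⟩ := hφ' β hβ
    obtain ⟨ξ, hξ, hξe⟩ := hψ' β hβ
    have hm : ∀ y, χ y ∈ autImage β Q := by
      rintro ⟨y, t, ht, rfl⟩
      have := hχe ⟨(t : Ω), ht⟩ (mem_autImage_of_mem _ ht)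
      exact (congrArg (· ∈ autImage β Q) this).mpr (mem_autImage_of_mem _ (h _))
    refine ⟨_, E.comp_mem hχ hξ hm, fun x hx => ?_⟩
    refine (congrArg ξ (Subtype.ext (hχe x hx))).trans (hξe ⟨φ x, h x⟩ (mem_autImage_of_mem _ (h x)))
  inv_mem := by
    rintro P φ ⟨hφ, hφ'⟩
    obtain ⟨ψ, hψ, -, hψe⟩ := exists_inv hφ rfl
    refine ⟨ψ, ⟨hψ, fun β hβ => ?_⟩, fun x => hψe x ⟨x, rfl⟩⟩
    obtain ⟨χ, hχ, hχe⟩ := hφ' β hβ
    obtain ⟨ξ, hξ, -, hξe⟩ := exists_inv hχ rfl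
    have hle : autImage β φ.range ≤ χ.range := by
      rintro _ ⟨t, ⟨x, hx⟩, rfl⟩
      refine ⟨⟨_, mem_autImage_of_mem (hom_le hφ x.2) x.2⟩, (hχe x _).trans ?_⟩
      exact congrArg (fun s => ((β s : S) : Ω)) (Subtype.ext hx)
    refine ⟨_, restrict_mem hξ hle, ?_⟩
    rintro ⟨_, x, rfl⟩ hy
    have h1 := hξe ⟨_, mem_autImage_of_mem (hom_le hφ x.2) x.2⟩ ⟨_, rfl⟩
    refine ((congrArg ξ (Subtype.ext (hχe x _).symm)).trans h1).trans ?_
    exact congrArg (fun s => ((β s : S) : Ω)) (Subtype.ext (hψe x ⟨x, rfl⟩).symm)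

theorem twistCore_le : twistCore F E ≤ F := fun _ _ h => h.1

theorem twistCore_le_right : twistCore F E ≤ E := by
  rintro P φ ⟨hφ, hφ'⟩
  obtain ⟨χ, hχ, hχe⟩ := hφ' 1 (F.autGroup S).one_mem
  exact comp_mem' (subtype_mem E (hom_le hφ)) hχ
    (fun x => mem_autImage_of_mem (β := (1 : MulAut S)) (hom_le hφ x.2) x.2) fun x => (hχe x _).symm

/-- The transport of a map of `F` by an element of `Aut_F(S)`. -/
theorem twistMem_self {β : MulAut S} (hβ : β ∈ F.autGroup S) {P : Subgroup Ω} {φ : P →* Ω}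
    (hφ : φ ∈ F.Hom P) : TwistMem F β φ (hom_le hφ) (hom_mem hφ) := by
  have hb := (mem_autGroup le_rfl).1 hβ
  have hb' := (mem_autGroup le_rfl).1 ((F.autGroup S).inv_mem hβ)
  have h1 := restrict_mem hb' (autImage_le β P)
  have hm1 : ∀ y : autImage β P, (S.subtype.comp (β⁻¹ : MulAut S).toMonoidHom).comp
      (Subgroup.inclusion (autImage_le β P)) y ∈ P := by
    rintro ⟨_, t, ht, rfl⟩
    show ((β⁻¹ (β t) : S) : Ω) ∈ P
    rw [MulAut.inv_apply_self]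
    exact ht
  have h2 := F.comp_mem h1 hφ hm1
  refine ⟨_, F.comp_mem h2 hb (fun _ => hom_mem h2 _), fun x h => ?_⟩
  show ((β ⟨φ ⟨((β⁻¹ (β ⟨x, hom_le hφ x.2⟩) : S) : Ω), _⟩, _⟩ : S) : Ω) = _
  simp only [MulAut.inv_apply_self]

theorem twistCore_invariant {β : MulAut S} (hβ : β ∈ F.autGroup S) {P : Subgroup Ω} {φ : P →* Ω}
    (hφ : φ ∈ (twistCore F E).Hom P) :
    TwistMem (twistCore F E) β φ (hom_le hφ.1) (hom_mem hφ.1) := by
  obtain ⟨hφ, hφ'⟩ := hφ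
  obtain ⟨χ, hχ, hχe⟩ := twistMem_self hβ hφ
  refine ⟨χ, ⟨hχ, fun γ hγ => ?_⟩, hχe⟩
  obtain ⟨ξ, hξ, hξe⟩ := hφ' (γ * β) ((F.autGroup S).mul_mem hγ hβ)
  refine ⟨_, restrict_mem hξ (autImage_autImage β γ P).le, ?_⟩
  rintro ⟨_, t, ht, rfl⟩ hy
  refine (hξe ⟨(t : Ω), ht⟩ (mem_autImage_of_mem _ ht)).trans ?_
  exact congrArg (fun s => ((γ s : S) : Ω)) (Subtype.ext (hχe ⟨(t : Ω), ht⟩ _).symm)

/-- The maps that are an element of `Aut_F(S)` after a map of the invariant subsystem. -/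
def autTimes (F E : FusionSystem S) : FusionSystem S where
  Hom P := {φ | ∃ α ∈ F.autGroup S, ∃ φ₀ ∈ (twistCore F E).Hom P,
    ∀ (x : P) (hx : φ₀ x ∈ S), φ x = ((α ⟨φ₀ x, hx⟩ : S) : Ω)}
  le_of_mem := by
    rintro P φ ⟨α, -, φ₀, hφ₀, he⟩
    exact ⟨hom_le hφ₀, fun x => by rw [he x (hom_mem hφ₀ x)]; exact (α _).2⟩
  injective_of_mem := by
    rintro P φ ⟨α, -, φ₀, hφ₀, he⟩ a b hab
    rw [he a (hom_mem hφ₀ a), he b (hom_mem hφ₀ b)] at hab
    exact (twistCore F E).injective_of_mem hφ₀ (congrArg Subtype.val (α.injective (Subtype.ext hab)))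
  conj_mem := fun hP hg =>
    ⟨1, (F.autGroup S).one_mem, _, (twistCore F E).conj_mem hP hg, fun _ _ => rfl⟩
  comp_mem := by
    rintro P Q φ ψ ⟨α, hα, φ₀, hφ₀, he⟩ ⟨β, hβ, ψ₀, hψ₀, he'⟩ h
    obtain ⟨χ, hχ, hχe⟩ := twistCore_invariant ((F.autGroup S).inv_mem hα) hψ₀
    have hback : ∀ x : P, ((α⁻¹ ⟨φ x, hom_le hψ₀ (h x)⟩ : S) : Ω) = φ₀ x := fun x => by
      rw [show (⟨φ x, hom_le hψ₀ (h x)⟩ : S) = α ⟨φ₀ x, hom_mem hφ₀ x⟩ from Subtype.ext (he x _),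
        MulAut.inv_apply_self]
    have hm : ∀ x, φ₀ x ∈ autImage α⁻¹ Q := fun x => hback x ▸ mem_autImage_of_mem _ (h x)
    refine ⟨β * α, (F.autGroup S).mul_mem hβ hα, _, (twistCore F E).comp_mem hφ₀ hχ hm,
      fun x hx => ?_⟩
    show ψ ⟨φ x, h x⟩ = _
    rw [he' _ (hom_mem hψ₀ _)]
    show _ = ((β (α ⟨χ ⟨φ₀ x, hm x⟩, hx⟩) : S) : Ω)
    refine congrArg (fun s => ((β s : S) : Ω)) ?_
    rw [show (⟨χ ⟨φ₀ x, hm x⟩, hx⟩ : S) = α⁻¹ ⟨ψ₀ ⟨φ x, h x⟩, hom_mem hψ₀ _⟩ from Subtype.ext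
      ((congrArg χ (Subtype.ext (hback x).symm)).trans
        (hχe ⟨φ x, h x⟩ (mem_autImage_of_mem _ (h x)))), MulAut.apply_inv_self]
  inv_mem := by
    rintro P φ ⟨α, hα, φ₀, hφ₀, he⟩
    obtain ⟨ψ₀, hψ₀, -, hψ₀e⟩ := exists_inv hφ₀ rfl
    obtain ⟨χ, hχ, hχe⟩ := twistCore_invariant hα hψ₀
    have hle : φ.range ≤ autImage α φ₀.range := by
      rintro _ ⟨x, rfl⟩
      rw [he x (hom_mem hφ₀ x)]
      exact mem_autImage_of_mem _ ⟨x, rfl⟩
    have hr := restrict_mem hχ hle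
    refine ⟨(S.subtype.comp (α⁻¹ : MulAut S).toMonoidHom).comp
        ((χ.comp (Subgroup.inclusion hle)).codRestrict S (hom_mem hr)),
      ⟨α⁻¹, (F.autGroup S).inv_mem hα, _, hr, fun _ _ => rfl⟩, fun x => ?_⟩
    show ((α⁻¹ ⟨χ ⟨φ x, hle ⟨x, rfl⟩⟩, _⟩ : S) : Ω) = _
    rw [show (⟨χ ⟨φ x, hle ⟨x, rfl⟩⟩, hom_mem hr ⟨φ x, ⟨x, rfl⟩⟩⟩ : S) = α ⟨x, hom_le hφ₀ x.2⟩ from
      Subtype.ext ((congrArg χ (Subtype.ext (he x (hom_mem hφ₀ x)))).trans
        ((hχe ⟨φ₀ x, ⟨x, rfl⟩⟩ (mem_autImage_of_mem _ ⟨x, rfl⟩)).trans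
          (congrArg (fun s => ((α s : S) : Ω)) (Subtype.ext (hψ₀e x ⟨x, rfl⟩))))),
      MulAut.inv_apply_self]

theorem twistCore_le_autTimes : twistCore F E ≤ autTimes F E := fun _ φ hφ =>
  ⟨1, (F.autGroup S).one_mem, φ, hφ, fun _ _ => rfl⟩

/-- A `p`-element of `Aut_F` of a centric subgroup lies in the invariant subsystem. -/
theorem twistCore_autGroup_of_centric
    (h : ∀ P : Subgroup Ω, F.IsCentric P → ∀ a ∈ F.autGroup P, (∃ k : ℕ, orderOf a = p ^ k) →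
      a ∈ E.autGroup P)
    {P : Subgroup Ω} (hP : F.IsCentric P) {a : MulAut P} (ha : a ∈ F.autGroup P)
    (hk : ∃ k : ℕ, orderOf a = p ^ k) : a ∈ (twistCore F E).autGroup P := by
  have hi := (mem_autGroup hP.1).1 ha
  refine (mem_autGroup hP.1).2 ⟨hi, fun β hβ => ?_⟩
  have hb := restrict_mem ((mem_autGroup le_rfl).1 hβ) hP.1
  have hr : ((S.subtype.comp β.toMonoidHom).comp (Subgroup.inclusion hP.1)).range = autImage β P := by
    ext y
    exact ⟨fun ⟨x, hx⟩ => ⟨⟨x, hP.1 x.2⟩, x.2, hx⟩, fun ⟨t, ht, e⟩ => ⟨⟨(t : Ω), ht⟩, e⟩⟩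
  let e := homIso hb hr
  have he : IsoIn F e := isoIn_homIso hb hr
  have hc : F.IsCentric (autImage β P) := ⟨he.le_right, fun Q hQ => hP.2 Q (isConj_trans (isConj_iff.2 ⟨e, he⟩) hQ)⟩
  have hk' : ∃ k : ℕ, orderOf (MulAut.congr e a) = p ^ k := by
    rwa [MulEquiv.orderOf_eq]
  have hE := (mem_autGroup hc.1).1 (h _ hc _ (congr_mem_autGroup he ha) hk')
  refine ⟨_, hE, fun x hx => ?_⟩
  have hex : (⟨_, hx⟩ : autImage β P) = e x := Subtype.ext rfl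
  rw [hex]
  show ((e (a (e.symm (e x))) : autImage β P) : Ω) = _
  rw [MulEquiv.symm_apply_apply]
  rfl

theorem le_autTimes [Finite S] [Fact p.Prime] (hS : IsPGroup p S) (hF : F.IsSaturated p)
    (h : ∀ P : Subgroup Ω, F.IsCentric P → ∀ a ∈ F.autGroup P, (∃ k : ℕ, orderOf a = p ^ k) →
      a ∈ E.autGroup P) : F ≤ autTimes F E := by
  refine le_of_autGroup_le' hS hF _ fun P hP hbig => ?_
  by_cases hPS : P = S
  · subst hPS
    intro α hα
    exact (mem_autGroup le_rfl).2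
      ⟨α, hα, P.subtype, subtype_mem _ le_rfl, fun _ _ => rfl⟩
  have hP := hP.resolve_left hPS
  have hPle : P ≤ S := hP.1.1
  haveI := finite_of_le hPle
  haveI : Finite (MulAut P) := Finite.of_injective (fun f => (f : P → P)) DFunLike.coe_injective
  obtain ⟨hfc, hfa⟩ := isFullyAutomized_and_fc_of_fn hS hF hP.2.1
  obtain ⟨-, R, hR⟩ := hfa
  let K : Subgroup (F.autGroup P) :=
    ((twistCore F E).autGroup P).subgroupOf (F.autGroup P)
  let C : Subgroup (F.autGroup P) := Subgroup.closure {a | ∃ k : ℕ, orderOf a = p ^ k}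
  have hCn : C.Normal := Subgroup.Normal.mk fun n hn g => by
    have : C.map (MulAut.conj g).toMonoidHom ≤ C := by
      rw [Subgroup.map_le_iff_le_comap]
      refine (Subgroup.closure_le _).2 fun a ha => Subgroup.subset_closure ?_
      obtain ⟨k, hk⟩ := ha
      exact ⟨k, by rw [← hk]; exact MulEquiv.orderOf_eq (MulAut.conj g) a⟩
    exact this ⟨n, hn, rfl⟩
  have hCK : C ≤ K := (Subgroup.closure_le _).2 fun a ha =>
    twistCore_autGroup_of_centric h hP.1 a.2 (by obtain ⟨k, hk⟩ := ha; exact ⟨k, by rw [← hk]; exact Subgroup.orderOf_coe a⟩)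
  have hRC : (R : Subgroup (F.autGroup P)) ≤ C := fun a ha => Subgroup.subset_closure (by
    obtain ⟨k, hk⟩ := IsPGroup.iff_orderOf.1 R.isPGroup' ⟨a, ha⟩
    exact ⟨k, by rwa [Subgroup.orderOf_mk] at hk⟩)
  have hN : Subgroup.normalizer ((R : Subgroup (F.autGroup P)) : Set (F.autGroup P)) ≤
      ((autTimes F E).autGroup P).subgroupOf (F.autGroup P) := by
    intro β hβ
    have hlt : P < S := lt_of_le_of_ne hPle hPS
    obtain ⟨g, hg, hgP⟩ := SetLike.exists_of_lt (lt_normalizerIn hS hlt)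
    have hc : conjAut P hg.2 ∈ F.autGroup P :=
      autInducedBy_le_autGroup hPle (conjAut_mem_autInducedBy hg.2 hg.1)
    have hcR : (⟨_, hc⟩ : F.autGroup P) ∈ (R : Subgroup (F.autGroup P)) := by
      rw [hR]; exact conjAut_mem_autInducedBy hg.2 hg.1
    have h1 := (Subgroup.mem_normalizer_iff.1 hβ _).1 hcR
    rw [hR] at h1
    obtain ⟨k, hkS, hk⟩ := mem_autInducedBy.1 h1
    have hext : (β : MulAut P) ∈ extensibleAut F P := by
      refine mem_extensibleAut_of_conj (isReceptive_of_fc hS hF hfc) β.2 hg hgP hkS fun x y hy => ?_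
      have := hk ((β : MulAut P) x)
      rw [← this]
      show _ = (((β : MulAut P) (conjAut P hg.2 ((β : MulAut P)⁻¹ ((β : MulAut P) x)))) : Ω)
      rw [MulAut.inv_apply_self]
      exact congrArg (fun z => (((β : MulAut P) z : P) : Ω)) (Subtype.ext hy)
    refine (?_ : extensibleAut F P ≤ (autTimes F E).autGroup P) hext
    refine (Subgroup.closure_le _).2 ?_
    rintro α ⟨Q, hPQ, φ, hφ, he⟩
    haveI := finite_of_le (hom_le hφ)
    exact (mem_autGroup hPle).2 (hom_congr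
      (restrict_mem (hbig Q (Set.Finite.card_lt_card (Set.toFinite _) hPQ) hφ) hPQ.le) fun x => (he x).symm)
  intro a ha
  have htop := Sylow.normalizer_sup_eq_top' (N := C) R hRC
  have : (⟨a, ha⟩ : F.autGroup P) ∈ ((autTimes F E).autGroup P).subgroupOf (F.autGroup P) := by
    refine (?_ : (⊤ : Subgroup (F.autGroup P)) ≤ _) (Subgroup.mem_top _)
    rw [← htop]
    refine sup_le hN fun c hc => ?_
    have hc' := (mem_autGroup hPle).1 (hCK hc)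
    exact (mem_autGroup hPle).2 (twistCore_le_autTimes P hc')
  exact this

theorem exists_factor_of_centric [Finite S] [Fact p.Prime] (hS : IsPGroup p S)
    (hF : F.IsSaturated p)
    (h : ∀ P : Subgroup Ω, F.IsCentric P → ∀ a ∈ F.autGroup P, (∃ k : ℕ, orderOf a = p ^ k) →
      a ∈ E.autGroup P) {P : Subgroup Ω} {φ : P →* Ω} (hφ : φ ∈ F.Hom P) :
    ∃ α ∈ F.autGroup S, ∃ φ₀ ∈ (twistCore F E).Hom P,
      ∀ (x : P) (hx : φ₀ x ∈ S), φ x = ((α ⟨φ₀ x, hx⟩ : S) : Ω) :=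
  le_autTimes hS hF h P hφ

/-- The condition on the centric subgroups gives it on all subgroups. -/
theorem mem_autGroup_of_centric [Finite S] [Fact p.Prime] (hS : IsPGroup p S)
    (hF : F.IsSaturated p)
    (h : ∀ P : Subgroup Ω, F.IsCentric P → ∀ a ∈ F.autGroup P, (∃ k : ℕ, orderOf a = p ^ k) →
      a ∈ E.autGroup P) {P : Subgroup Ω} (hPS : P ≤ S) {a : MulAut P} (ha : a ∈ F.autGroup P)
    (hk : ∃ k : ℕ, orderOf a = p ^ k) : a ∈ E.autGroup P := by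
  obtain ⟨Q, hPQ, hQ⟩ := exists_isFullyNormalized F hPS
  obtain ⟨e, he⟩ := isConj_iff.1 hPQ
  haveI := finite_of_le hQ.1
  haveI : Finite (MulAut Q) := Finite.of_injective (fun f => (f : Q → Q)) DFunLike.coe_injective
  obtain ⟨-, R, hR⟩ := (isFullyAutomized_and_fc_of_fn hS hF hQ).2
  obtain ⟨k, hk⟩ := hk
  let a' : F.autGroup Q := ⟨MulAut.congr e a, congr_mem_autGroup he ha⟩
  have hp : IsPGroup p (Subgroup.zpowers a') := by
    refine IsPGroup.iff_card.2 ⟨k, ?_⟩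
    rw [Nat.card_zpowers, ← Subgroup.orderOf_coe]
    exact (MulEquiv.orderOf_eq (MulAut.congr e) a).trans hk
  obtain ⟨R', hR'⟩ := hp.exists_le_sylow
  obtain ⟨b, hb⟩ := MulAction.exists_smul_eq (F.autGroup Q) R' R
  have hmem : b * a' * b⁻¹ ∈ (R : Subgroup (F.autGroup Q)) := by
    rw [← hb, Sylow.coe_subgroup_smul]
    exact Subgroup.smul_mem_pointwise_smul _ (MulAut.conj b) _ (hR' (Subgroup.mem_zpowers a'))
  rw [hR] at hmem
  obtain ⟨s, hs, hse⟩ := mem_autInducedBy.1 hmem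
  let f : P ≃* Q := e.trans (b : MulAut Q)
  have hf : IsoIn F f := he.trans ((mem_autGroup hQ.1).1 b.2)
  obtain ⟨α, hα, φ₀, hφ₀, hφe⟩ := exists_factor_of_centric hS hF h hf
  have hconj : ∀ x : P, (f (a x) : Ω) = s * (f x : Ω) * s⁻¹ := fun x => by
    refine Eq.trans ?_ (hse (f x))
    show ((b : MulAut Q) (e (a x)) : Ω) =
      (((b : MulAut Q) (e (a (e.symm ((b : MulAut Q)⁻¹ ((b : MulAut Q) (e x))))))) : Ω)
    rw [MulAut.inv_apply_self, MulEquiv.symm_apply_apply]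
  set s' : S := α⁻¹ ⟨s, hs⟩
  have hkey : ∀ x : P, φ₀ (a x) = (s' : Ω) * φ₀ x * (s' : Ω)⁻¹ := fun x => by
    have h1 : α ⟨φ₀ (a x), hom_mem hφ₀ _⟩ = α (s' * ⟨φ₀ x, hom_mem hφ₀ _⟩ * s'⁻¹) := by
      rw [map_mul, map_mul, map_inv, MulAut.apply_inv_self]
      apply Subtype.ext
      rw [← hφe (a x) (hom_mem hφ₀ _)]
      show (f (a x) : Ω) = s * ((α ⟨φ₀ x, _⟩ : S) : Ω) * s⁻¹
      rw [← hφe x (hom_mem hφ₀ _)]
      exact hconj x
    exact congrArg Subtype.val (α.injective h1)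
  have hφE := twistCore_le_right P hφ₀
  obtain ⟨ψ, hψ, -, hψe⟩ := exists_inv hφE rfl
  have hc := E.comp_mem hφE (E.conj_mem (P := φ₀.range) (range_le hφE) s'.2) (fun x => ⟨x, rfl⟩)
  refine (mem_autGroup hPS).2 (comp_mem' hc hψ (fun x => ?_) fun x => ?_)
  · exact ⟨a x, hkey x⟩
  · exact ((congrArg ψ (Subtype.ext (hkey x).symm)).trans (hψe (a x) ⟨a x, rfl⟩)).symm

end Cfsg.Lib.FusionSys
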