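import Cfsg.Agent.Lib.FusionSys.OfGroup

/-!
The fusion system of a normal subgroup is a normal subsystem.
-/

set_option autoImplicit false

namespace Cfsg.Lib.FusionSys

open Cfsg Cfsg.FusionSystem
open scoped Pointwise

variable {G : Type*} [Group G] [Finite G] {p : ℕ} [Fact p.Prime]

omit [Finite G] [Fact p.Prime] in
theorem mem_conj_smul {H : Subgroup G} {g x : G} :
    x ∈ MulAut.conj g • H ↔ g⁻¹ * x * g ∈ H := by
  rw [Subgroup.mem_pointwise_smul_iff_inv_smul_mem]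
  simp

theorem sylow_inf_maximal (S : Sylow p G) (H : Subgroup G) [H.Normal] {U : Subgroup G}
    (hUH : U ≤ H) (hU : IsPGroup p U) (hle : (S : Subgroup G) ⊓ H ≤ U) :
    U = (S : Subgroup G) ⊓ H := by
  obtain ⟨g, -, hg⟩ := pConjInto_sylow S U le_top hU
  refine (Subgroup.eq_of_le_of_card_ge hle ?_).symm
  rw [← card_conj_map U g]
  refine Subgroup.card_le_of_le ?_
  rintro _ ⟨u, hu, rfl⟩
  exact ⟨hg u hu, Subgroup.Normal.conj_mem inferInstance u (hUH hu) g⟩

theorem exists_conj_in_normal (S : Sylow p G) (H : Subgroup G) [H.Normal] :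
    PConjInto p H ((S : Subgroup G) ⊓ H) := by
  intro U hUH hU
  have hTp : IsPGroup p (((S : Subgroup G) ⊓ H).subgroupOf H) :=
    ((S.isPGroup'.to_le inf_le_left).of_equiv (Subgroup.subgroupOfEquivOfLe inf_le_right).symm)
  obtain ⟨R, hR⟩ := hTp.exists_le_sylow
  have hReq : (R : Subgroup H).map H.subtype = (S : Subgroup G) ⊓ H :=
    sylow_inf_maximal S H (Subgroup.map_subtype_le _) (R.isPGroup'.map _)
      (fun x hx => ⟨⟨x, hx.2⟩, hR hx, rfl⟩)
  obtain ⟨R', hR'⟩ := (hU.of_equiv (Subgroup.subgroupOfEquivOfLe hUH).symm).exists_le_sylow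
  obtain ⟨g, hg⟩ := MulAction.exists_smul_eq H R' R
  refine ⟨g, g.2, fun u hu => ?_⟩
  rw [← hReq]
  refine ⟨g * ⟨u, hUH hu⟩ * g⁻¹, ?_, rfl⟩
  rw [← hg, Sylow.coe_subgroup_smul]
  exact Subgroup.smul_mem_pointwise_smul _ (MulAut.conj g) _ (hR' hu)

theorem stronglyClosed_sylow_inf (S : Sylow p G) (H : Subgroup G) [H.Normal] :
    (groupFusionSystem (S : Subgroup G)).StronglyClosed ((S : Subgroup G) ⊓ H) := by
  refine ⟨inf_le_left, ?_⟩
  rintro R hR φ ⟨-, hv, g, hg⟩ x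
  refine ⟨hv x, ?_⟩
  rw [hg]
  exact Subgroup.Normal.conj_mem inferInstance _ (hR x.2).2 g

/-- The Frattini argument for the Sylow subgroup of a normal subgroup. -/
theorem exists_normalizer_factor (S : Sylow p G) (H : Subgroup G) [H.Normal] (g : G) :
    ∃ a ∈ Subgroup.normalizer (((S : Subgroup G) ⊓ H : Subgroup G) : Set G), ∃ h ∈ H, g = a * h := by
  set T := (S : Subgroup G) ⊓ H
  have hU : T.map (MulAut.conj g⁻¹).toMonoidHom ≤ H := by
    rintro _ ⟨t, ht, rfl⟩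
    exact Subgroup.Normal.conj_mem inferInstance t ht.2 g⁻¹
  obtain ⟨h, hh, hht⟩ := exists_conj_in_normal S H _ hU ((S.isPGroup'.to_le inf_le_left).map _)
  refine ⟨g * h⁻¹, ?_, h, hh, (inv_mul_cancel_right g h).symm⟩
  have : (h * g⁻¹) ∈ Subgroup.normalizer (T : Set G) := by
    refine Subgroup.mem_normalizer_fintype fun t ht => ?_
    have h1 := hht _ ⟨t, ht, rfl⟩
    have h2 : h * g⁻¹ * t * (h * g⁻¹)⁻¹ = h * (MulAut.conj g⁻¹).toMonoidHom t * h⁻¹ := by
      simp [mul_assoc]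
    show h * g⁻¹ * t * (h * g⁻¹)⁻¹ ∈ T
    rw [h2]
    exact h1
  simpa using Subgroup.inv_mem _ this

theorem exists_normalizing_centralizer (S : Sylow p G) (H : Subgroup G) [H.Normal] {h : G}
    (hh : h ∈ H) (hhN : h ∈ Subgroup.normalizer (((S : Subgroup G) ⊓ H : Subgroup G) : Set G)) :
    ∃ h' ∈ H, h' ∈ Subgroup.normalizer (((S : Subgroup G) ⊓ H : Subgroup G) : Set G) ∧
      h' ∈ Subgroup.normalizer
        ((centralizerIn (S : Subgroup G) ((S : Subgroup G) ⊓ H) : Subgroup G) : Set G) ∧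
      h'⁻¹ * h ∈ Subgroup.centralizer (((S : Subgroup G) ⊓ H : Subgroup G) : Set G) := by
  set T := (S : Subgroup G) ⊓ H with hTdef
  set CS := centralizerIn (S : Subgroup G) T
  set CH := H ⊓ Subgroup.centralizer (T : Set G)
  have hSN : (S : Subgroup G) ≤ Subgroup.normalizer (T : Set G) := by
    intro s hs
    refine Subgroup.mem_normalizer_fintype fun t ht => ⟨?_, ?_⟩
    · exact (S : Subgroup G).mul_mem ((S : Subgroup G).mul_mem hs ht.1)
        ((S : Subgroup G).inv_mem hs)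
    · exact Subgroup.Normal.conj_mem inferInstance t ht.2 s
  have hcen : ∀ a ∈ Subgroup.normalizer (T : Set G), ∀ c ∈ Subgroup.centralizer (T : Set G),
      a * c * a⁻¹ ∈ Subgroup.centralizer (T : Set G) := by
    intro a ha c hc
    rw [Subgroup.mem_centralizer_iff]
    intro t ht
    have h1 := Subgroup.mem_centralizer_iff.1 hc _ ((Subgroup.mem_normalizer_iff''.1 ha t).1 ht)
    calc t * (a * c * a⁻¹) = a * (a⁻¹ * t * a * c) * a⁻¹ := by group
      _ = a * (c * (a⁻¹ * t * a)) * a⁻¹ := by rw [h1]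
      _ = a * c * a⁻¹ * t := by group
  have hCN : CS ≤ Subgroup.normalizer (CH : Set G) := by
    intro s hs
    refine Subgroup.mem_normalizer_fintype fun c hc => ⟨?_, ?_⟩
    · exact Subgroup.Normal.conj_mem inferInstance c hc.1 s
    · exact hcen s (hSN hs.1) c hc.2
  have hMc : CS ⊔ CH ≤ Subgroup.centralizer (T : Set G) := sup_le inf_le_right inf_le_right
  have hM : ∀ y ∈ CS ⊔ CH, ∃ s ∈ CS, ∃ c ∈ CH, s * c = y := by
    intro y hy
    have h1 : y ∈ ((CS ⊔ CH : Subgroup G) : Set G) := hy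
    rw [Subgroup.coe_mul_of_left_le_normalizer_right _ _ hCN] at h1
    exact h1
  -- `C_S(T)` is a maximal `p`-subgroup of `C_S(T) C_H(T)`
  have hmax : ∀ R : Subgroup G, R ≤ CS ⊔ CH → IsPGroup p R → CS ≤ R → R = CS := by
    intro R hRM hR hle
    refine le_antisymm (fun r hr => ?_) hle
    obtain ⟨s, hs, c, hc, rfl⟩ := hM r (hRM hr)
    have hcR : c ∈ R := by simpa using R.mul_mem (R.inv_mem (hle hs)) hr
    refine CS.mul_mem hs ⟨?_, hc.2⟩
    have hRn : R ⊓ H ≤ Subgroup.normalizer (T : Set G) :=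
      inf_le_left.trans (hRM.trans (hMc.trans (Subgroup.centralizer_le_normalizer _)))
    have h2 := sylow_inf_maximal S H (U := (R ⊓ H) ⊔ T) (sup_le inf_le_right inf_le_right)
      ((hR.to_le inf_le_left).to_sup_of_normal_right' (S.isPGroup'.to_le inf_le_left) hRn)
      le_sup_right
    exact (h2.le (Subgroup.mem_sup_left ⟨hcR, hc.1⟩)).1
  -- the conjugate of `C_S(T)` by `h` lies in `C_S(T) C_H(T)`
  have hconj : CS.map (MulAut.conj h).toMonoidHom ≤ CS ⊔ CH := by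
    rintro _ ⟨s, hs, rfl⟩
    have h1 : h * s * h⁻¹ * s⁻¹ ∈ CH := by
      refine ⟨?_, ?_⟩
      · have h2 : s * h⁻¹ * s⁻¹ ∈ H := Subgroup.Normal.conj_mem inferInstance _ (H.inv_mem hh) s
        have h3 := H.mul_mem hh h2
        simpa [mul_assoc] using h3
      · exact Subgroup.mul_mem _ (hcen h hhN s hs.2) (Subgroup.inv_mem _ hs.2)
    have h4 := Subgroup.mul_mem _ (Subgroup.mem_sup_right (S := CS) h1)
      (Subgroup.mem_sup_left (T := CH) hs)
    simpa [mul_assoc] using h4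
  have hCSp : IsPGroup p CS := S.isPGroup'.to_le inf_le_left
  obtain ⟨R, hR⟩ :=
    ((hCSp.map (MulAut.conj h).toMonoidHom).of_equiv
      (Subgroup.subgroupOfEquivOfLe hconj).symm).exists_le_sylow
  obtain ⟨R₀, hR₀⟩ :=
    (hCSp.of_equiv (Subgroup.subgroupOfEquivOfLe (le_sup_left (b := CH))).symm).exists_le_sylow
  have hR₀eq : (R₀ : Subgroup ↥(CS ⊔ CH)).map (CS ⊔ CH).subtype = CS :=
    hmax _ (Subgroup.map_subtype_le _) (R₀.isPGroup'.map _)
      (fun x hx => ⟨⟨x, Subgroup.mem_sup_left hx⟩, hR₀ hx, rfl⟩)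
  obtain ⟨m, hm⟩ := MulAction.exists_smul_eq ↥(CS ⊔ CH) R R₀
  have hmR : ∀ r ∈ CS, (m : G) * (h * r * h⁻¹) * (m : G)⁻¹ ∈ CS := by
    intro r hr
    refine hR₀eq.le ?_
    refine ⟨m * ⟨h * r * h⁻¹, hconj ⟨r, hr, rfl⟩⟩ * m⁻¹, ?_, rfl⟩
    rw [← hm, Sylow.coe_subgroup_smul]
    exact Subgroup.smul_mem_pointwise_smul _ (MulAut.conj m) _ (hR ⟨r, hr, rfl⟩)
  obtain ⟨s, hs, c, hc, hsc⟩ := hM m m.2
  rw [← hsc] at hmR
  refine ⟨c * h, H.mul_mem hc.1 hh,
    Subgroup.mul_mem _ (Subgroup.centralizer_le_normalizer _ hc.2) hhN,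
    Subgroup.mem_normalizer_fintype fun r hr => ?_, ?_⟩
  · have h6 := CS.mul_mem (CS.mul_mem (CS.inv_mem hs) (hmR r hr)) hs
    simpa [mul_assoc] using h6
  · have h7 := hcen h⁻¹ (Subgroup.inv_mem _ hhN) c⁻¹ (Subgroup.inv_mem _ hc.2)
    simpa [mul_assoc] using h7

theorem isNormalIn_ofSubgroup (S : Sylow p G) (H : Subgroup G) [H.Normal] :
    (fusionSystemOfSubgroup H ((S : Subgroup G) ⊓ H) inf_le_right).IsNormalIn
      (groupFusionSystem (S : Subgroup G)) p := by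
  set T := (S : Subgroup G) ⊓ H with hTdef
  refine ⟨⟨isSaturated_ofSubgroup (S.isPGroup'.to_le inf_le_left) (exists_conj_in_normal S H),
    isSaturated_groupFusionSystem S, ?_, stronglyClosed_sylow_inf S H, ?_, ?_⟩, ?_⟩
  · rintro P φ ⟨hP, hv, g, -, hg⟩
    exact ⟨hP.trans inf_le_left, fun x => (hv x).1, g, hg⟩
  · rintro P hPT φ ⟨-, hv, h, hhH, hh⟩ α hα
    rw [autGroup_groupFusionSystem _ inf_le_left, mem_autInducedBy] at hα
    obtain ⟨a, -, ha⟩ := hα
    refine ⟨conjHom _ (a * h * a⁻¹), ⟨?_, ?_, a * h * a⁻¹,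
      Subgroup.Normal.conj_mem inferInstance h hhH a, fun _ => rfl⟩, ?_⟩
    · rintro _ ⟨t, -, rfl⟩
      exact (α t).2
    · rintro ⟨_, t, ht, rfl⟩
      have h1 : a * h * a⁻¹ * (α t : G) * (a * h * a⁻¹)⁻¹ = (α ⟨φ ⟨t, ht⟩, hv _⟩ : G) := by
        rw [ha, ha]
        show _ = a * φ ⟨t, ht⟩ * a⁻¹
        rw [hh]
        group
      show a * h * a⁻¹ * (α t : G) * (a * h * a⁻¹)⁻¹ ∈ T
      rw [h1]
      exact (α _).2
    · intro x hφx hαx
      show a * h * a⁻¹ * (α ⟨x, hPT x.2⟩ : G) * (a * h * a⁻¹)⁻¹ = (α ⟨φ x, hφx⟩ : G)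
      rw [ha, ha]
      show _ = a * φ x * a⁻¹
      rw [hh]
      group
  · rintro P hPT φ ⟨-, hv, g, hg⟩
    have hvT : ∀ x, φ x ∈ T := fun x =>
      ⟨hv x, by rw [hg]; exact Subgroup.Normal.conj_mem inferInstance _ (hPT x.2).2 g⟩
    obtain ⟨a, ha, h, hhH, rfl⟩ := exists_normalizer_factor S H g
    refine ⟨conjAut T ha, ?_, conjHom P h, ⟨hPT, fun x => ?_, h, hhH, fun _ => rfl⟩,
      fun x hx => ?_⟩
    · rw [autGroup_groupFusionSystem _ inf_le_left]
      exact conjAut_mem_autInducedBy ha (Subgroup.mem_top a)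
    · have h1 := (Subgroup.mem_normalizer_iff''.1 ha _).1 (hvT x)
      rw [hg] at h1
      show h * x * h⁻¹ ∈ T
      have h2 : h * x * h⁻¹ = a⁻¹ * (a * h * x * (a * h)⁻¹) * a := by group
      rw [h2]
      exact h1
    · show φ x = a * (h * x * h⁻¹) * a⁻¹
      rw [hg]
      group
  · intro α hα
    rw [autGroup_ofSubgroup le_rfl, mem_autInducedBy] at hα
    obtain ⟨h, hhH, hh⟩ := hα
    obtain ⟨h', hh'H, hh'T, hh'C, hdiff⟩ :=
      exists_normalizing_centralizer S H hhH (mem_normalizer_of_aut hh)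
    have hN : h' ∈ Subgroup.normalizer
        ((T ⊔ centralizerIn (S : Subgroup G) T : Subgroup G) : Set G) := by
      refine Subgroup.mem_normalizer_fintype fun y hy => ?_
      have hle : (T ⊔ centralizerIn (S : Subgroup G) T).map (MulAut.conj h').toMonoidHom ≤
          T ⊔ centralizerIn (S : Subgroup G) T := by
        rw [Subgroup.map_sup]
        refine sup_le_sup ?_ ?_
        · rintro _ ⟨t, ht, rfl⟩
          exact (Subgroup.mem_normalizer_iff.1 hh'T t).1 ht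
        · rintro _ ⟨t, ht, rfl⟩
          exact (Subgroup.mem_normalizer_iff.1 hh'C t).1 ht
      exact hle ⟨y, hy, rfl⟩
    refine ⟨conjAut _ hN, ?_, fun x => ?_, fun c hc => ?_⟩
    · rw [autGroup_groupFusionSystem _ (sup_le inf_le_left (centralizerIn_le T))]
      exact conjAut_mem_autInducedBy hN (Subgroup.mem_top h')
    · rw [hh]
      show h' * (x : G) * h'⁻¹ = h * x * h⁻¹
      have h1 := Subgroup.mem_centralizer_iff.1 hdiff x x.2
      calc h' * (x : G) * h'⁻¹ = h' * ((x : G) * (h'⁻¹ * h)) * h⁻¹ := by group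
        _ = h' * ((h'⁻¹ * h) * x) * h⁻¹ := by rw [h1]
        _ = h * x * h⁻¹ := by group
    · show (c : G)⁻¹ * (h' * c * h'⁻¹) ∈ _
      have h1 := (Subgroup.mem_normalizer_iff.1 hh'C _).1 hc
      refine ⟨⟨?_, ?_⟩, ?_⟩
      · exact (S : Subgroup G).mul_mem ((S : Subgroup G).inv_mem hc.1) h1.1
      · have h2 : (c : G)⁻¹ * h' * (c : G)⁻¹⁻¹ ∈ H :=
          Subgroup.Normal.conj_mem inferInstance _ hh'H (c : G)⁻¹
        have h3 := H.mul_mem h2 (H.inv_mem hh'H)
        simpa [mul_assoc] using h3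
      · exact Subgroup.mul_mem _ (Subgroup.inv_mem _ hc.2) h1.2

end Cfsg.Lib.FusionSys
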