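import Cfsg.Agent.Lib.FusionSys.InvariantNormalClosure
import Cfsg.Agent.Lib.FusionSys.NormalSubgroup

/-!
Invariance and strong invariance of a subsystem over a strongly closed subgroup.
-/

set_option autoImplicit false
set_option linter.style.haveILetI false

namespace Cfsg.Lib.FusionSys

open Cfsg Cfsg.FusionSystem

variable {Ω : Type*} [Group Ω] {S T : Subgroup Ω} {F : FusionSystem S} {E : FusionSystem T}

/-- The condition of strong invariance. -/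
def StrongInv (F : FusionSystem S) (E : FusionSystem T) : Prop :=
  ∀ (P Q : Subgroup Ω) (hPQ : P ≤ Q) (_ : Q ≤ T) (φ : P →* Ω) (_ : φ ∈ E.Hom P) (hφQ : ∀ x : P, φ x ∈ Q)
    (ψ : Q →* Ω) (_ : ψ ∈ F.Hom Q), ∃ χ ∈ E.Hom ((P.subgroupOf Q).map ψ),
      ∀ (x : P) (hx : ψ (Subgroup.inclusion hPQ x) ∈ (P.subgroupOf Q).map ψ),
        χ ⟨ψ (Subgroup.inclusion hPQ x), hx⟩ = ψ ⟨φ x, hφQ x⟩

theorem isInvariant_strongInv (hinv : E.IsInvariantIn F) : StrongInv F E := by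
  intro P Q hPQ hQT φ hφ hφQ ψ hψ
  obtain ⟨α, hα, ψ₀, hψ₀, he⟩ := hinv.2.2.2 Q hQT ψ hψ
  have hr := restrict_mem hψ₀ hPQ
  obtain ⟨ρ, hρ, -, hρe⟩ := exists_inv hr rfl
  have hρP : ∀ y, ρ y ∈ P := by
    rintro ⟨_, x, rfl⟩
    rw [hρe x ⟨x, rfl⟩]
    exact x.2
  have h1 := E.comp_mem hρ hφ hρP
  have h2 := E.comp_mem h1 hψ₀ (fun y => hφQ _)
  set ξ := ψ₀.comp ((φ.comp (ρ.codRestrict P hρP)).codRestrict Q fun y => hφQ _) with hξ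
  obtain ⟨χ, hχ, hχe⟩ : ∃ χ ∈ E.Hom (autImage α (ψ₀.comp (Subgroup.inclusion hPQ)).range),
      ∀ (y : (ψ₀.comp (Subgroup.inclusion hPQ)).range) (hy : ξ y ∈ T)
        (hαy : ((α ⟨y, range_le hr y.2⟩ : T) : Ω) ∈ autImage α (ψ₀.comp (Subgroup.inclusion hPQ)).range),
        χ ⟨_, hαy⟩ = ((α ⟨ξ y, hy⟩ : T) : Ω) := hinv.2.2.1 _ (range_le hr) ξ h2 α hα
  have hle : (P.subgroupOf Q).map ψ ≤ autImage α (ψ₀.comp (Subgroup.inclusion hPQ)).range := by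
    rintro _ ⟨q, hq, rfl⟩
    rw [he q (hom_mem hψ₀ q)]
    exact ⟨⟨ψ₀ q, hom_mem hψ₀ q⟩, ⟨⟨(q : Ω), hq⟩, rfl⟩, rfl⟩
  refine ⟨_, restrict_mem hχ hle, fun x hx => ?_⟩
  have hy : ξ ⟨ψ₀ (Subgroup.inclusion hPQ x), x, rfl⟩ = ψ₀ ⟨φ x, hφQ x⟩ := by
    show ψ₀ ⟨φ ⟨ρ ⟨ψ₀ (Subgroup.inclusion hPQ x), _⟩, _⟩, _⟩ = _
    exact congrArg ψ₀ (Subtype.ext (congrArg φ (Subtype.ext (hρe x ⟨x, rfl⟩))))
  rw [he ⟨φ x, hφQ x⟩ (hom_mem hψ₀ _)]
  refine (congrArg χ (Subtype.ext (he _ (hom_mem hψ₀ _)))).trans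
    ((hχe ⟨_, x, rfl⟩ (hom_mem h2 _) ⟨_, ⟨x, rfl⟩, rfl⟩).trans ?_)
  exact congrArg (fun s => ((α s : T) : Ω)) (Subtype.ext hy)

/-- Strong invariance gives transport by the automorphisms of `T`. -/
theorem strongInv_transport (hT : F.StronglyClosed T) (hs : StrongInv F E) {P : Subgroup Ω} (hPT : P ≤ T)
    {φ : P →* Ω} (hφ : φ ∈ E.Hom P) {α : MulAut T} (hα : α ∈ F.autGroup T) :
    ∃ χ ∈ E.Hom (autImage α P), ∀ (x : P) (hx : ((α ⟨x, hPT x.2⟩ : T) : Ω) ∈ autImage α P),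
      χ ⟨_, hx⟩ = ((α ⟨φ x, hom_mem hφ x⟩ : T) : Ω) :=
  hs P T hPT le_rfl φ hφ (hom_mem hφ) _ ((mem_autGroup hT.1).1 hα)

theorem frattini_of_aut [Finite S] {p : ℕ} [Fact p.Prime] (hS : IsPGroup p S) (hF : F.IsSaturated p)
    (hT : F.StronglyClosed T)
    (htr : ∀ {P : Subgroup Ω} (hPT : P ≤ T) {φ : P →* Ω} (hφ : φ ∈ E.Hom P) {α : MulAut T},
      α ∈ F.autGroup T → ∃ χ ∈ E.Hom (autImage α P), ∀ (x : P)
        (hx : ((α ⟨x, hPT x.2⟩ : T) : Ω) ∈ autImage α P),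
        χ ⟨_, hx⟩ = ((α ⟨φ x, hom_mem hφ x⟩ : T) : Ω))
    (haut : ∀ (Q : Subgroup Ω), F.IsFullyNormalized Q → Q < T →
      (∀ M : Subgroup Ω, M ≤ T → Nat.card Q < Nat.card M → ∀ φ ∈ F.Hom M,
        ∃ α ∈ F.autGroup T, ∃ φ₀ ∈ E.Hom M, ∀ (x : M) (hx : φ₀ x ∈ T),
          φ x = ((α ⟨φ₀ x, hx⟩ : T) : Ω)) →
      ∀ β ∈ F.autGroup Q, ∃ α ∈ F.autGroup T, ∃ φ₀ ∈ E.Hom Q, ∀ (x : Q) (hx : φ₀ x ∈ T),
        ((β x : Q) : Ω) = ((α ⟨φ₀ x, hx⟩ : T) : Ω)) :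
    ∀ (n : ℕ) (P : Subgroup Ω), P ≤ T → Nat.card T ≤ Nat.card P + n → ∀ φ ∈ F.Hom P,
      ∃ α ∈ F.autGroup T, ∃ φ₀ ∈ E.Hom P, ∀ (x : P) (hx : φ₀ x ∈ T),
        φ x = ((α ⟨φ₀ x, hx⟩ : T) : Ω) := by
  haveI := finite_of_le hT.1
  have htop : ∀ φ ∈ F.Hom T, ∃ α ∈ F.autGroup T, ∃ φ₀ ∈ E.Hom T, ∀ (x : T) (hx : φ₀ x ∈ T),
      φ x = ((α ⟨φ₀ x, hx⟩ : T) : Ω) := fun φ hφ => by
    have hr : φ.range = T := range_eq_of_card_le hφ hT.1 (fun t => hT.2 T le_rfl φ hφ t) le_rfl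
    exact ⟨homIso hφ hr, (mem_autGroup hT.1).2 (isoIn_homIso hφ hr), T.subtype, subtype_mem E le_rfl,
      fun x hx => rfl⟩
  intro n
  induction n with
  | zero =>
    intro P hPT hc φ hφ
    obtain rfl : P = T := eq_of_le_of_card_le hT.1 hPT (by simpa using hc)
    exact htop φ hφ
  | succ n ih =>
    intro P hPT hc φ hφ
    by_cases hc' : Nat.card T ≤ Nat.card P + n
    · exact ih P hPT hc' φ hφ
    have hPS := hPT.trans hT.1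
    obtain ⟨Q, hPQ, hQ⟩ := exists_isFullyNormalized F hPS
    have hQT : Q ≤ T := by
      obtain ⟨φ', hφ', rfl⟩ := hPQ
      rintro _ ⟨x, rfl⟩
      exact hT.2 P hPT φ' hφ' x
    have hcard : Nat.card Q = Nat.card P := (card_eq_of_isConj hPQ).symm
    -- every map onto `Q` of a conjugate of `P`
    have honto : ∀ P' : Subgroup Ω, P' ≤ T → ∀ ψ ∈ F.Hom P', ψ.range = Q →
        ∃ α ∈ F.autGroup T, ∃ φ₀ ∈ E.Hom P', ∀ (x : P') (hx : φ₀ x ∈ T),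
          ψ x = ((α ⟨φ₀ x, hx⟩ : T) : Ω) := by
      intro P' hP'T ψ hψ hψr
      have hP'S := hP'T.trans hT.1
      haveI := finite_of_le hP'S
      by_cases hlt : P' = T
      · subst hlt; exact htop ψ hψ
      have hc2 : F.IsConj P' Q := ⟨ψ, hψ, hψr⟩
      obtain ⟨-, hQfa⟩ := isFullyAutomized_and_fc_of_fn hS hF hQ
      obtain ⟨μ, hμ, hμv, hμmap⟩ := exists_normalizer_map hS hQfa
        (isReceptive_of_fc hS hF (isFullyAutomized_and_fc_of_fn hS hF hQ).1) hc2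
      have hP'N : P' ≤ normalizerIn T P' := le_normalizerIn hP'T
      have hM : normalizerIn T P' ≤ normalizerIn S P' := fun t ht => ⟨hT.1 ht.1, ht.2⟩
      haveI := finite_of_le ((normalizerIn_le (S := T) P').trans hT.1)
      have hbig : Nat.card T ≤ Nat.card (normalizerIn T P') + n := by
        have h4 : Nat.card P' < Nat.card (normalizerIn T P') :=
          Set.Finite.card_lt_card (Set.toFinite _) (lt_normalizerIn (hS.to_le hT.1) (lt_of_le_of_ne hP'T hlt))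
        have h5 : Nat.card P' = Nat.card P := (card_eq_of_isConj hc2).trans hcard
        omega
      obtain ⟨α₁, hα₁, φ₁, hφ₁, he₁⟩ := ih _ (normalizerIn_le P') hbig _ (restrict_mem hμ hM)
      -- the restriction of `μ` to `P'` onto `Q`
      have hν := restrict_mem hμ (hP'N.trans hM)
      have hνr : (μ.comp (Subgroup.inclusion (hP'N.trans hM))).range = Q := by
        rw [← hμmap]
        ext y
        rw [mem_map_subgroupOf]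
        exact ⟨fun ⟨x, e⟩ => ⟨x, hP'N.trans hM x.2, x.2, e⟩, fun ⟨z, hz, hzP, e⟩ => ⟨⟨z, hzP⟩, e⟩⟩
      have hQlt : Q < T := lt_of_le_of_ne hQT fun h => hc' (by rw [← hcard, h]; exact Nat.le_add_right _ _)
      have hQIH : ∀ M : Subgroup Ω, M ≤ T → Nat.card Q < Nat.card M → ∀ φ ∈ F.Hom M,
          ∃ α ∈ F.autGroup T, ∃ φ₀ ∈ E.Hom M, ∀ (x : M) (hx : φ₀ x ∈ T),
            φ x = ((α ⟨φ₀ x, hx⟩ : T) : Ω) := fun M hM hlt' => ih M hM (by omega)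
      let β : MulAut Q := (homIso hν hνr).symm.trans (homIso hψ hψr)
      obtain ⟨α₂, hα₂, φ₂, hφ₂, he₂⟩ := haut Q hQ hQlt hQIH β
        ((mem_autGroup hQ.1).2 ((isoIn_homIso hν hνr).symm.trans (isoIn_homIso hψ hψr)))
      obtain ⟨χ, hχ, hχe⟩ := htr hQT hφ₂ ((F.autGroup T).inv_mem hα₁)
      have hr₁ := restrict_mem hφ₁ hP'N
      have hval : ∀ x : P', (φ₁ (Subgroup.inclusion hP'N x)) =
          ((α₁⁻¹ ⟨μ (Subgroup.inclusion (hP'N.trans hM) x), hQT (hνr.le ⟨x, rfl⟩)⟩ : T) : Ω) := fun x => by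
        rw [show (⟨μ (Subgroup.inclusion (hP'N.trans hM) x), hQT (hνr.le ⟨x, rfl⟩)⟩ : T) =
          α₁ ⟨φ₁ (Subgroup.inclusion hP'N x), hom_mem hφ₁ _⟩ from Subtype.ext (he₁ (Subgroup.inclusion hP'N x) (hom_mem hφ₁ _)),
          MulAut.inv_apply_self]
      have hm : ∀ x : P', (φ₁.comp (Subgroup.inclusion hP'N)) x ∈ autImage α₁⁻¹ Q := fun x =>
        ⟨_, hνr.le ⟨x, rfl⟩, (hval x).symm⟩
      refine ⟨α₂ * α₁, (F.autGroup T).mul_mem hα₂ hα₁, _, E.comp_mem hr₁ hχ hm, fun x hx => ?_⟩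
      let q : Q := homIso hν hνr x
      have hq : ((β q : Q) : Ω) = ψ x := by
        show ((homIso hψ hψr ((homIso hν hνr).symm (homIso hν hνr x)) : Q) : Ω) = _
        rw [MulEquiv.symm_apply_apply]
        rfl
      rw [← hq, he₂ q (hom_mem hφ₂ q)]
      show _ = ((α₂ (α₁ ⟨χ ⟨φ₁ (Subgroup.inclusion hP'N x), hm x⟩, hx⟩) : T) : Ω)
      refine congrArg (fun s => ((α₂ s : T) : Ω)) ?_
      rw [show (⟨χ ⟨φ₁ (Subgroup.inclusion hP'N x), hm x⟩, hx⟩ : T) = α₁⁻¹ ⟨φ₂ q, hom_mem hφ₂ q⟩ from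
        Subtype.ext ((congrArg χ (Subtype.ext (hval x))).trans (hχe q ⟨_, q.2, rfl⟩)),
        MulAut.apply_inv_self]
    -- a map is composed of two maps onto `Q`
    obtain ⟨ρ, hρ, hρr⟩ := hPQ
    have hφr : φ.range ≤ T := fun _ ⟨x, e⟩ => e ▸ hT.2 P hPT φ hφ x
    obtain ⟨σ, hσ, hσr⟩ : F.IsConj φ.range Q :=
      isConj_trans (isConj_symm ⟨φ, hφ, rfl⟩) ⟨ρ, hρ, hρr⟩
    obtain ⟨α', hα', σ₀, hσ₀, heσ⟩ := honto φ.range hφr σ hσ hσr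
    have hm1 : ∀ x : P, φ x ∈ φ.range := fun x => ⟨x, rfl⟩
    have hτ := F.comp_mem hφ hσ hm1
    have hτr : (σ.comp (φ.codRestrict φ.range hm1)).range = Q := by
      rw [← hσr]
      ext y
      exact ⟨fun ⟨x, e⟩ => ⟨⟨φ x, hm1 x⟩, e⟩, fun ⟨⟨_, x, rfl⟩, e⟩ => ⟨x, e⟩⟩
    obtain ⟨α, hα, φ₀, hφ₀, he⟩ := honto P hPT _ hτ hτr
    -- `φ = σ⁻¹ ∘ τ`
    obtain ⟨σi, hσi, -, hσie⟩ := exists_inv hσ₀ rfl
    obtain ⟨χ, hχ, hχe⟩ := htr (range_le hσ₀) hσi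
      ((F.autGroup T).mul_mem ((F.autGroup T).inv_mem hα) hα')
    have hval : ∀ x : P, φ₀ x = (((α⁻¹ * α') ⟨σ₀ ⟨φ x, hm1 x⟩, hom_mem hσ₀ _⟩ : T) : Ω) := fun x => by
      show _ = ((α⁻¹ (α' ⟨σ₀ ⟨φ x, hm1 x⟩, hom_mem hσ₀ _⟩) : T) : Ω)
      have h5 : σ ⟨φ x, hm1 x⟩ = ((α ⟨φ₀ x, hom_mem hφ₀ x⟩ : T) : Ω) := he x (hom_mem hφ₀ x)
      rw [show α' ⟨σ₀ ⟨φ x, hm1 x⟩, hom_mem hσ₀ _⟩ = α ⟨φ₀ x, hom_mem hφ₀ x⟩ from
        Subtype.ext ((heσ ⟨φ x, hm1 x⟩ (hom_mem hσ₀ _)).symm.trans h5), MulAut.inv_apply_self]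
    have hm2 : ∀ x, φ₀ x ∈ autImage (α⁻¹ * α') σ₀.range := fun x =>
      ⟨_, ⟨⟨φ x, hm1 x⟩, rfl⟩, (hval x).symm⟩
    refine ⟨α'⁻¹ * α, (F.autGroup T).mul_mem ((F.autGroup T).inv_mem hα') hα, _,
      E.comp_mem hφ₀ hχ hm2, fun x hx => ?_⟩
    rw [show (⟨(χ.comp (φ₀.codRestrict _ hm2)) x, hx⟩ : T) = (α⁻¹ * α') ⟨φ x, hφr (hm1 x)⟩ from
      Subtype.ext ((congrArg χ (Subtype.ext (hval x))).trans
        ((hχe ⟨_, ⟨_, rfl⟩⟩ ⟨_, ⟨⟨φ x, hm1 x⟩, rfl⟩, rfl⟩).trans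
          (congrArg (fun s => (((α⁻¹ * α') s : T) : Ω)) (Subtype.ext (hσie ⟨φ x, hm1 x⟩ ⟨_, rfl⟩)))))]
    simp [MulAut.mul_apply]

theorem strongInv_frattini [Finite S] {p : ℕ} [Fact p.Prime] (hS : IsPGroup p S) (hF : F.IsSaturated p)
    (hT : F.StronglyClosed T) (hs : StrongInv F E) :
    ∀ (n : ℕ) (P : Subgroup Ω), P ≤ T → Nat.card T ≤ Nat.card P + n → ∀ φ ∈ F.Hom P,
      ∃ α ∈ F.autGroup T, ∃ φ₀ ∈ E.Hom P, ∀ (x : P) (hx : φ₀ x ∈ T),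
        φ x = ((α ⟨φ₀ x, hx⟩ : T) : Ω) := by
  refine frattini_of_aut hS hF hT (fun hPT φ hφ α hα => strongInv_transport hT hs hPT hφ hα)
    fun Q hQ hlt hIH β hβ => ?_
  haveI := finite_of_le hT.1
  have hQT : Q ≤ T := hlt.le
  have hQS := hQ.1
  haveI := finite_of_le hQS
  haveI : Finite (MulAut Q) := Finite.of_injective (fun f => (f : Q → Q)) DFunLike.coe_injective
  obtain ⟨hfc, -, R, hR⟩ := isFullyAutomized_and_fc_of_fn hS hF hQ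
  let L : Subgroup (F.autGroup Q) :=
    Subgroup.normalClosure ((autInducedBy T Q).subgroupOf (F.autGroup Q) : Set (F.autGroup Q))
  have hLn : ((E.autGroup Q).subgroupOf (F.autGroup Q)).Normal := ⟨fun k hk g => by
    have hk' : Q.subtype.comp (k : MulAut Q).toMonoidHom ∈ E.Hom Q := (mem_autGroup hQT).1 hk
    obtain ⟨χ, hχ, hχe⟩ := hs Q Q le_rfl hQT _ hk' (fun x => ((k : MulAut Q) x).2) _
      ((mem_autGroup hQS).1 g.2)
    have hle : Q ≤ (Q.subgroupOf Q).map (Q.subtype.comp (g : MulAut Q).toMonoidHom) := fun y hy =>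
      ⟨(g : MulAut Q)⁻¹ ⟨y, hy⟩, ((g : MulAut Q)⁻¹ ⟨y, hy⟩).2, by
        show (((g : MulAut Q) ((g : MulAut Q)⁻¹ ⟨y, hy⟩) : Q) : Ω) = y
        rw [MulAut.apply_inv_self]⟩
    refine (mem_autGroup hQT).2 (hom_congr (restrict_mem hχ hle) fun y => ?_)
    show (((g : MulAut Q) ((k : MulAut Q) ((g : MulAut Q)⁻¹ y)) : Q) : Ω) = χ ⟨y, _⟩
    refine ((hχe ((g : MulAut Q)⁻¹ y) ?_).symm.trans ?_)
    · exact ⟨(g : MulAut Q)⁻¹ y, ((g : MulAut Q)⁻¹ y).2, rfl⟩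
    · refine congrArg χ (Subtype.ext ?_)
      show (((g : MulAut Q) ((g : MulAut Q)⁻¹ y) : Q) : Ω) = _
      rw [MulAut.apply_inv_self]⟩
  have hLE : L ≤ (E.autGroup Q).subgroupOf (F.autGroup Q) :=
    Subgroup.normalClosure_le_normal fun k hk => (autInducedBy_le_autGroup (F := E) hQT hk :)
  obtain ⟨a, haN, l, hl, hal⟩ := exists_normalizer_factor R L ⟨β, hβ⟩
  -- `a` extends to the normalizer of `Q` in `T`
  have hi := (mem_autGroup hQS).1 a.2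
  have hrange : (Q.subtype.comp (a : MulAut Q).toMonoidHom).range = Q := by
    ext y
    exact ⟨fun ⟨x, e⟩ => e ▸ ((a : MulAut Q) x).2,
      fun hy => ⟨(a : MulAut Q)⁻¹ ⟨y, hy⟩, by simp⟩⟩
  obtain ⟨ψ, hψ, hψe⟩ := (isReceptive_of_fc hS hF hfc).2 Q _ hi hrange
  have hM : normalizerIn T Q ≤ extender S Q (Q.subtype.comp (a : MulAut Q).toMonoidHom) := fun t ht => by
    have hcA : conjAut Q ht.2 ∈ F.autGroup Q :=
      autInducedBy_le_autGroup hQS (conjAut_mem_autInducedBy ht.2 (hT.1 ht.1))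
    have hcmem : (⟨_, hcA⟩ : F.autGroup Q) ∈ (R : Subgroup (F.autGroup Q)) ⊓ L :=
      ⟨by rw [hR]; exact conjAut_mem_autInducedBy ht.2 (hT.1 ht.1),
        Subgroup.subset_normalClosure (conjAut_mem_autInducedBy ht.2 ht.1)⟩
    have h1 := ((Subgroup.mem_normalizer_iff.1 haN _).1 hcmem).1
    rw [hR] at h1
    obtain ⟨s, hsS, hse⟩ := mem_autInducedBy.1 h1
    refine mem_extender_of (hT.1 ht.1) ht.2 hsS fun x hx => ?_
    show (((a : MulAut Q) _ : Q) : Ω) = s * (((a : MulAut Q) x : Q) : Ω) * s⁻¹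
    rw [← hse ((a : MulAut Q) x)]
    show _ = (((a : MulAut Q) (conjAut Q ht.2 ((a : MulAut Q)⁻¹ ((a : MulAut Q) x)))) : Ω)
    rw [MulAut.inv_apply_self]
    exact congrArg (fun z => (((a : MulAut Q) z : Q) : Ω)) (Subtype.ext rfl)
  haveI := finite_of_le ((normalizerIn_le (S := T) Q).trans hT.1)
  obtain ⟨α, hα, φ₁, hφ₁, he₁⟩ := hIH _ (normalizerIn_le Q)
    (Set.Finite.card_lt_card (Set.toFinite _) (lt_normalizerIn (hS.to_le hT.1) hlt)) _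
    (restrict_mem hψ hM)
  have hQN : Q ≤ normalizerIn T Q := le_normalizerIn hQT
  have hl' : Q.subtype.comp (l : MulAut Q).toMonoidHom ∈ E.Hom Q := (mem_autGroup hQT).1 (hLE hl)
  refine ⟨α, hα, _, E.comp_mem hl' (restrict_mem hφ₁ hQN) (fun x => ((l : MulAut Q) x).2),
    fun x hx => ?_⟩
  refine Eq.trans ?_ (he₁ (Subgroup.inclusion hQN ((l : MulAut Q) x)) hx)
  show ((β x : Q) : Ω) = ψ ⟨(((l : MulAut Q) x : Q) : Ω), _⟩
  refine Eq.trans ?_ (hψe _ ((l : MulAut Q) x).2 _).symm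
  rw [show β = (a : MulAut Q) * (l : MulAut Q) from congrArg Subtype.val hal]
  rfl

theorem isInvariantIn_iff_strongInv [Finite S] {p : ℕ} [Fact p.Prime] (hS : IsPGroup p S)
    (hF : F.IsSaturated p) (hsub : E.IsSubsystemOf F) (hT : F.StronglyClosed T) :
    E.IsInvariantIn F ↔ StrongInv F E := by
  refine ⟨isInvariant_strongInv, fun hs => ⟨hsub, hT, fun P hPT φ hφ α hα => ?_, fun P hPT φ hφ => ?_⟩⟩
  · obtain ⟨χ, hχ, hχe⟩ := strongInv_transport hT hs hPT hφ hα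
    exact ⟨χ, hχ, fun x _ hx => hχe x hx⟩
  · exact strongInv_frattini hS hF hT hs _ P hPT (Nat.le_add_left _ _) φ hφ

end Cfsg.Lib.FusionSys
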