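import Cfsg.Agent.Lib.FusionSys.PPowerNormal
import Cfsg.Agent.Lib.FusionSys.StrongInvariance
import Cfsg.Agent.Lib.FusionSys.IndexPrime
import Cfsg.Agent.Lib.FusionSys.Tate

/-!
A saturated subsystem of `p`-power index over a normal subgroup of `S` is normal.
-/

set_option autoImplicit false
set_option linter.style.haveILetI false

namespace Cfsg.Lib.FusionSys

open Cfsg Cfsg.FusionSystem

variable {Ω : Type*} [Group Ω] {S T : Subgroup Ω} {F : FusionSystem S} {p : ℕ} [Fact p.Prime]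

theorem pPower_transport [Finite S] (hS : IsPGroup p S) (hT : F.StronglyClosed T) {E : FusionSystem T}
    (hE : E.IsSaturated p) (hidx : E.HasPPowerIndexIn F p) :
    E ≤ twistCore (fullOn F T hT.1) E := by
  haveI := finite_of_le hT.1
  refine le_of_autGroup_le (hS.to_le hT.1) hE _ fun P hP => ?_
  have hPT : P ≤ T := hP.elim (fun e => e.le) fun e => e.1.1
  haveI := finite_of_le (hPT.trans hT.1)
  haveI : Finite (MulAut P) := Finite.of_injective (fun f => (f : P → P)) DFunLike.coe_injective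
  have hfn : E.IsFullyNormalized P := hP.elim (fun e => e ▸ isFullyNormalized_top E) fun e => e.2.1
  obtain ⟨-, R, hR⟩ := (isFullyAutomized_and_fc_of_fn (hS.to_le hT.1) hE hfn).2
  refine le_of_sylow_of_coprime R (le_of_eq_of_le
    (by rw [hR, Subgroup.map_subgroupOf_eq_of_le (autInducedBy_le_autGroup hPT)])
    (autInducedBy_le_autGroup hPT)) fun a ha hc => ?_
  have haE := (mem_autGroup hPT).1 ha
  have hi : a ∈ (fullOn F T hT.1).autGroup P :=
    (mem_autGroup hPT).2 ⟨hidx.1 P haE, hPT, fun x => hPT (a x).2⟩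
  refine (mem_autGroup hPT).2 ⟨(mem_autGroup hPT).1 hi, fun β hβ => ?_⟩
  have hb := restrict_mem ((mem_autGroup le_rfl).1 hβ) hPT
  have hr : ((T.subtype.comp β.toMonoidHom).comp (Subgroup.inclusion hPT)).range = autImage β P := by
    ext y
    exact ⟨fun ⟨x, hx⟩ => ⟨⟨x, hPT x.2⟩, x.2, hx⟩, fun ⟨t, ht, e⟩ => ⟨⟨(t : Ω), ht⟩, e⟩⟩
  have he := isoIn_homIso hb hr
  have h1 := (mem_autGroup (autImage_le β P)).1 (congr_mem_autGroup he hi)
  have hX : autImage β P ≤ S := (autImage_le β P).trans hT.1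
  have h2 := (mem_autGroup hX).2 h1.1
  have hc' : (orderOf (MulAut.congr (homIso hb hr) a)).Coprime p := by rwa [MulEquiv.orderOf_eq]
  have h3 := (mem_autGroup (autImage_le β P)).1 (hidx.2.2 _ (autImage_le β P)
    ⟨⟨_, h2⟩, Cfsg.Lib.Fusion.mem_pResidual_of_coprime (by rwa [← Subgroup.orderOf_coe]), rfl⟩)
  refine ⟨_, h3, fun x hx => ?_⟩
  have hex : (⟨_, hx⟩ : autImage β P) = homIso hb hr x := Subtype.ext rfl
  rw [hex]
  show ((homIso hb hr (a ((homIso hb hr).symm (homIso hb hr x))) : autImage β P) : Ω) = _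
  rw [MulEquiv.symm_apply_apply]
  rfl

theorem isNormalIn_of_pPower [Finite S] (hS : IsPGroup p S) (hF : F.IsSaturated p)
    (hTn : (T.subgroupOf S).Normal) (hhyp : F.hyperfocalSubgroup p ≤ T) (hTS : T ≤ S) {E : FusionSystem T}
    (hE : E.IsSaturated p) (hidx : E.HasPPowerIndexIn F p) : E.IsNormalIn F p := by
  have hT : F.StronglyClosed T := stronglyClosed_of_hyperfocal_le hS hF hTn hhyp hTS
  haveI := finite_of_le hTS
  have hSn : S ≤ Subgroup.normalizer (T : Set Ω) := stronglyClosed_le_normalizer hT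
  have hautT : ∀ α ∈ F.autGroup T, α ∈ (fullOn F T hT.1).autGroup T := fun α hα =>
    (mem_autGroup le_rfl).2 ⟨(mem_autGroup hTS).1 hα, le_rfl, fun x => (α x).2⟩
  have htr : ∀ {P : Subgroup Ω} (hPT : P ≤ T) {φ : P →* Ω} (hφ : φ ∈ E.Hom P) {α : MulAut T},
      α ∈ F.autGroup T → ∃ χ ∈ E.Hom (autImage α P), ∀ (x : P)
        (hx : ((α ⟨x, hPT x.2⟩ : T) : Ω) ∈ autImage α P),
        χ ⟨_, hx⟩ = ((α ⟨φ x, hom_mem hφ x⟩ : T) : Ω) := fun {P} hPT φ hφ α hα => by
    obtain ⟨χ, hχ, hχe⟩ := twistCore_invariant (hautT α hα) (pPower_transport hS hT hE hidx P hφ)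
    exact ⟨χ, twistCore_le_right _ hχ, hχe⟩
  have hinv : E.IsInvariantIn F := by
    refine ⟨hidx.1, hT, fun P hPT φ hφ α hα => ?_, fun P hPT φ hφ => ?_⟩
    · obtain ⟨χ, hχ, hχe⟩ := htr hPT hφ hα
      exact ⟨χ, hχ, fun x _ hx => hχe x hx⟩
    · refine frattini_of_aut hS hF hT htr (fun Q hQ hlt _ β hβ => ?_) _ P hPT (Nat.le_add_left _ _) φ hφ
      have hQS := hQ.1
      haveI := finite_of_le hQS
      haveI : Finite (MulAut Q) := Finite.of_injective (fun f => (f : Q → Q)) DFunLike.coe_injective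
      obtain ⟨-, R, hR⟩ := (isFullyAutomized_and_fc_of_fn hS hF hQ).2
      obtain ⟨r, hr, m, hm, hrm⟩ := Cfsg.Lib.Fusion.exists_mul_of_sylow R ⟨β, hβ⟩
      rw [hR] at hr
      obtain ⟨s, hs, hse⟩ := mem_autInducedBy.1 hr
      have hmE : (m : MulAut Q) ∈ E.autGroup Q := hidx.2.2 Q hlt.le ⟨m, hm, rfl⟩
      refine ⟨conjAut T (hSn hs), autInducedBy_le_autGroup hTS (conjAut_mem_autInducedBy (hSn hs) hs),
        _, (mem_autGroup hlt.le).1 hmE, fun x hx => ?_⟩
      rw [show β = (r : MulAut Q) * (m : MulAut Q) from congrArg Subtype.val hrm]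
      exact hse ((m : MulAut Q) x)
  refine ⟨⟨hE, hF, hinv⟩, ?_⟩
  have hX : T ⊔ centralizerIn S T ≤ S := sup_le hTS (centralizerIn_le T)
  haveI := finite_of_le hX
  haveI : Finite (MulAut ↥(T ⊔ centralizerIn S T)) := Finite.of_injective
    (fun f => (f : ↥(T ⊔ centralizerIn S T) → ↥(T ⊔ centralizerIn S T))) DFunLike.coe_injective
  haveI : Finite (MulAut T) := Finite.of_injective (fun f => (f : T → T)) DFunLike.coe_injective
  have hTfn : F.IsFullyNormalized T := ⟨hTS, by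
    rintro Q ⟨φ, hφ, rfl⟩
    rw [range_eq_of_card_le hφ hTS (fun x => hT.2 T le_rfl φ hφ x) le_rfl]⟩
  have hrec := isReceptive_of_fc hS hF (isFullyAutomized_and_fc_of_fn hS hF hTfn).1
  have hCinv : ∀ (β : MulAut ↥(T ⊔ centralizerIn S T)), β ∈ F.autGroup (T ⊔ centralizerIn S T) →
      ∀ c : ↥(T ⊔ centralizerIn S T), (c : Ω) ∈ centralizerIn S T →
        ((β c : ↥(T ⊔ centralizerIn S T)) : Ω) ∈ centralizerIn S T := by
    intro β hβ c hc
    refine ⟨hX (β c).2, Subgroup.mem_centralizer_iff.2 fun t ht => ?_⟩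
    have hw : (β⁻¹ ⟨t, Subgroup.mem_sup_left ht⟩ : ↥(T ⊔ centralizerIn S T)) * c =
        c * β⁻¹ ⟨t, Subgroup.mem_sup_left ht⟩ := by
      refine Subtype.ext ((Subgroup.mem_centralizer_iff.1 hc.2) _ ?_)
      exact stronglyClosed_aut_mem hT ((F.autGroup _).inv_mem hβ) hX ht
    have := congrArg β hw
    rw [map_mul, map_mul, MulAut.apply_inv_self] at this
    exact congrArg Subtype.val this
  let W : Subgroup (MulAut T) :=
    { carrier := {α | ∃ β ∈ F.autGroup (T ⊔ centralizerIn S T),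
        (∀ x : T, ((β (Subgroup.inclusion le_sup_left x) : ↥(T ⊔ centralizerIn S T)) : Ω) = ((α x : T) : Ω)) ∧
        ∀ c : ↥(T ⊔ centralizerIn S T), (c : Ω) ∈ centralizerIn S T →
          (c : Ω)⁻¹ * ((β c : ↥(T ⊔ centralizerIn S T)) : Ω) ∈ T ⊓ Subgroup.centralizer (T : Set Ω)}
      one_mem' := ⟨1, one_mem _, fun x => rfl, fun c _ => by simp⟩
      mul_mem' := fun {a b} ⟨β, hβ, ha1, ha2⟩ ⟨γ, hγ, hb1, hb2⟩ => ⟨β * γ, mul_mem hβ hγ, fun x => by
        show ((β (γ (Subgroup.inclusion le_sup_left x)) : ↥(T ⊔ centralizerIn S T)) : Ω) = ((a (b x) : T) : Ω)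
        rw [show γ (Subgroup.inclusion le_sup_left x) = Subgroup.inclusion le_sup_left (b x) from
          Subtype.ext (hb1 x), ha1], fun c hc => by
        have h := mul_mem (hb2 c hc) (ha2 (γ c) (hCinv γ hγ c hc))
        rw [mul_assoc, mul_inv_cancel_left] at h
        exact h⟩
      inv_mem' := fun {a} ⟨β, hβ, ha1, ha2⟩ => ⟨β⁻¹, inv_mem hβ, fun x => by
        rw [show Subgroup.inclusion le_sup_left x = β (Subgroup.inclusion le_sup_left (a⁻¹ x)) from
          Subtype.ext (by rw [ha1, MulAut.apply_inv_self]; rfl), MulAut.inv_apply_self]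
        rfl, fun c hc => by
        have h := ha2 (β⁻¹ c) (hCinv β⁻¹ (inv_mem hβ) c hc)
        rw [MulAut.apply_inv_self] at h
        simpa using inv_mem h⟩ }
  suffices hW : E.autGroup T ≤ W from fun α hα => hW hα
  obtain ⟨-, R, hR⟩ := (isFullyAutomized_and_fc_of_fn (hS.to_le hTS) hE (isFullyNormalized_top E)).2
  refine le_of_sylow_of_coprime R ?_ fun α hα hc => ?_
  · rw [hR, Subgroup.map_subgroupOf_eq_of_le (autInducedBy_le_autGroup le_rfl)]
    intro α hα
    obtain ⟨t, ht, hte⟩ := mem_autInducedBy.1 hα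
    have htX : t ∈ Subgroup.normalizer ((T ⊔ centralizerIn S T : Subgroup Ω) : Set Ω) :=
      Subgroup.le_normalizer (Subgroup.mem_sup_left ht)
    refine ⟨conjAut _ htX, autInducedBy_le_autGroup hX (conjAut_mem_autInducedBy htX (hTS ht)),
      fun x => (hte x).symm, fun c hc => ?_⟩
    show (c : Ω)⁻¹ * (t * c * t⁻¹) ∈ _
    rw [conj_eq_of_commute ((Subgroup.mem_centralizer_iff.1 hc.2) t ht), inv_mul_cancel]
    exact one_mem _
  -- an automorphism of order prime to `p`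
  have hαF : α ∈ F.autGroup T := (mem_autGroup hTS).2 (hidx.1 T ((mem_autGroup le_rfl).1 hα))
  have hi := (mem_autGroup hTS).1 hαF
  have hr : (T.subtype.comp α.toMonoidHom).range = T :=
    range_eq_of_card_le hi hTS (fun x => (α x).2) le_rfl
  obtain ⟨ψ, hψ, hψe⟩ := hrec.2 T _ hi hr
  have hle : T ⊔ centralizerIn S T ≤ extender S T (T.subtype.comp α.toMonoidHom) :=
    sup_le (le_extender hTS (hom_mem hi)) (centralizerIn_le_extender _)
  have hv : ∀ x : ↥(T ⊔ centralizerIn S T), ψ (Subgroup.inclusion hle x) ∈ T ⊔ centralizerIn S T := by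
    have hsub : T ⊔ centralizerIn S T ≤
        ((T ⊔ centralizerIn S T).comap ψ).map (extender S T (T.subtype.comp α.toMonoidHom)).subtype := by
      refine sup_le (fun t ht => ⟨⟨t, hle (Subgroup.mem_sup_left ht)⟩, ?_, rfl⟩)
        fun c hc => ⟨⟨c, hle (Subgroup.mem_sup_right hc)⟩, ?_, rfl⟩
      · refine Subgroup.mem_sup_left ?_
        rw [hψe t ht]
        exact (α _).2
      · refine Subgroup.mem_sup_right ⟨hom_mem hψ _, Subgroup.mem_centralizer_iff.2 fun t ht => ?_⟩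
        have h0 := hψe _ (α⁻¹ ⟨t, ht⟩).2 (hle (Subgroup.mem_sup_left (α⁻¹ ⟨t, ht⟩).2))
        have h1 : ((α (α⁻¹ ⟨t, ht⟩) : T) : Ω) = t := by rw [MulAut.apply_inv_self]
        rw [← h1.symm.trans h0.symm |>.symm, ← map_mul, ← map_mul]
        exact congrArg ψ (Subtype.ext ((Subgroup.mem_centralizer_iff.1 hc.2) _ (α⁻¹ ⟨t, ht⟩).2))
    intro x
    obtain ⟨y, hy, hyx⟩ := hsub x.2
    rw [show Subgroup.inclusion hle x = y from Subtype.ext hyx.symm]
    exact hy
  have hψ' := restrict_mem hψ hle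
  have hr' := range_eq_of_card_le hψ' hX hv le_rfl
  let γ : MulAut ↥(T ⊔ centralizerIn S T) := homIso hψ' hr'
  have hγ : γ ∈ F.autGroup (T ⊔ centralizerIn S T) := (mem_autGroup hX).2 (isoIn_homIso hψ' hr')
  have hγT : ∀ (n : ℕ) (x : T),
      (((γ ^ n) (Subgroup.inclusion le_sup_left x) : ↥(T ⊔ centralizerIn S T)) : Ω) = (((α ^ n) x : T) : Ω) := by
    intro n
    induction n with
    | zero => intro x; rfl
    | succ n ih =>
      intro x
      rw [pow_succ, pow_succ, MulAut.mul_apply, MulAut.mul_apply, ← ih]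
      exact congrArg (fun w => (((γ ^ n) w : ↥(T ⊔ centralizerIn S T)) : Ω)) (Subtype.ext (hψe x x.2 _))
  have hγ0 : orderOf γ ≠ 0 := (orderOf_pos γ).ne'
  obtain ⟨j, hj1, hj2⟩ := Nat.chineseRemainder (hc.pow_right ((orderOf γ).factorization p)) 1 0
  have hcopγ : (orderOf (γ ^ j)).Coprime p := by
    refine (Nat.Coprime.coprime_dvd_left ?_
      ((Nat.coprime_ordCompl (Fact.out : p.Prime) hγ0).symm : (ordCompl[p] (orderOf γ)).Coprime p))
    rw [orderOf_dvd_iff_pow_eq_one, ← pow_mul, ← orderOf_dvd_iff_pow_eq_one]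
    conv_lhs => rw [← Nat.ordProj_mul_ordCompl_eq_self (orderOf γ) p]
    exact mul_dvd_mul_right (Nat.modEq_zero_iff_dvd.1 hj2) _
  have hαj : α ^ j = α := by
    conv_rhs => rw [← pow_one α]
    exact pow_eq_pow_iff_modEq.2 hj1
  refine ⟨γ ^ j, pow_mem hγ j, fun x => by rw [hγT, hαj], fun c hc' => ⟨?_, ?_⟩⟩
  · exact hhyp (mem_hyperfocal_of_coprime hX (pow_mem hγ j) hcopγ c)
  · exact (mul_mem (inv_mem hc') (hCinv _ (pow_mem hγ j) c hc')).2

end Cfsg.Lib.FusionSys
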