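import Cfsg.Agent.Lib.FusionSys.ResidualExtension

/-!
The `p'`-residual subsystem of a weakly normal subsystem is normal in the whole system.
-/

set_option autoImplicit false
set_option linter.style.haveILetI false

namespace Cfsg.Lib.FusionSys

open Cfsg Cfsg.FusionSystem

variable {Ω : Type*} [Group Ω] {S T : Subgroup Ω} {F : FusionSystem S} {E R : FusionSystem T} {p : ℕ}

theorem isExtClosed_good [Finite S] [Fact p.Prime] (hS : IsPGroup p S) (hF : F.IsSaturated p)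
    (hE : E.IsSaturated p) (hEi : E.IsInvariantIn F) : IsExtClosed E p (goodSystem F E hEi.2.1) := by
  have hsc := hEi.2.1
  have hTS : T ≤ S := hsc.1
  haveI := finite_of_le hTS
  have hT : IsPGroup p T := hS.to_le hTS
  set D := goodSystem F E hsc with hD
  have hpD : ∀ P : Subgroup Ω, E.IsCentric P → ∀ a ∈ E.autGroup P, (∃ k : ℕ, orderOf a = p ^ k) →
      a ∈ D.autGroup P := fun P hP a ha hk =>
    (mem_autGroup hP.1).2 ⟨(mem_autGroup hP.1).1 ha, fun _ => goodMap_pAut hS hF hE hEi hP ha hk⟩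
  refine ⟨hpD, fun P N hPN hP hN φ hφ h => ?_⟩
  obtain ⟨a, ha, φ₀, hφ₀, he⟩ := exists_factor_of_centric hT hE hpD hφ
  have hφ₀D : φ₀ ∈ D.Hom N := twistCore_le_right N hφ₀
  have hr₀ := restrict_mem hφ₀D hPN
  have hr₀E : φ₀.comp (Subgroup.inclusion hPN) ∈ E.Hom P := hr₀.1
  set Q := (φ₀.comp (Subgroup.inclusion hPN)).range with hQ
  have hQc : E.IsCentric Q := isCentric_of_conj hP ⟨_, hr₀E, rfl⟩
  have hQT : Q ≤ T := hQc.1
  have hTc : E.IsCentric T := isCentric_mono hQc hQT le_rfl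
  have haQ : autRes a hQT ∈ D.Hom Q := by
    obtain ⟨ψ, hψ, hψr, hψe⟩ := exists_inv hr₀ rfl
    have hv : ∀ y, ψ y ∈ P := fun y => hψr.le ⟨y, rfl⟩
    refine hom_congr (D.comp_mem hψ h hv) ?_
    rintro ⟨_, x, rfl⟩
    show ((a ⟨φ₀ (Subgroup.inclusion hPN x), _⟩ : T) : Ω) =
      φ (Subgroup.inclusion hPN ⟨ψ _, hv _⟩)
    rw [show (⟨ψ ⟨(φ₀.comp (Subgroup.inclusion hPN)) x, x, rfl⟩, hv _⟩ : P) = x from
      Subtype.ext (hψe x ⟨x, rfl⟩), he _ (hom_mem hr₀E x)]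
  suffices haD : a ∈ D.autGroup T by
    refine hom_congr (D.comp_mem hφ₀D ((mem_autGroup le_rfl).1 haD) fun x => hom_mem hφ₀D.1 x) fun x => ?_
    exact he x (hom_mem hφ₀D.1 x)
  haveI : Finite (MulAut T) := Finite.of_injective (fun f => (f : T → T)) DFunLike.coe_injective
  have hne : orderOf a ≠ 0 := (orderOf_pos a).ne'
  obtain ⟨u, v, hv, huv⟩ := Nat.exists_eq_pow_mul_and_not_dvd hne p (Fact.out : p.Prime).ne_one
  have hcop : Nat.Coprime v p := ((Fact.out : p.Prime).coprime_iff_not_dvd.2 hv).symm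
  have hau : (a ^ v) ^ p ^ u = 1 := by rw [← pow_mul, mul_comm, ← huv, pow_orderOf_eq_one]
  obtain ⟨s, hs⟩ := exists_pow_eq_self_of_coprime (x := a ^ v)
    (Nat.Coprime.coprime_dvd_right (orderOf_dvd_of_pow_eq_one hau) (Nat.Coprime.pow_right u hcop))
  set a₁ := (a ^ v) ^ s with ha₁def
  have ha₁E : a₁ ∈ E.autGroup T := pow_mem (pow_mem ha v) s
  have ha₁p : ∃ k, orderOf a₁ = p ^ k := by
    have h1 : a₁ ^ p ^ u = 1 := by rw [ha₁def, ← pow_mul, mul_comm, pow_mul, hau, one_pow]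
    obtain ⟨k, -, hk⟩ := (Nat.dvd_prime_pow Fact.out).1 (orderOf_dvd_of_pow_eq_one h1)
    exact ⟨k, hk⟩
  have ha₁D := hpD T hTc a₁ ha₁E ha₁p
  set a₂ := a₁⁻¹ * a with ha₂def
  have hord : (orderOf a₂).Coprime p := by
    refine Nat.Coprime.coprime_dvd_left (orderOf_dvd_of_pow_eq_one (n := v) ?_) hcop
    have hc : Commute a₁⁻¹ a := (((Commute.refl a).pow_left v).pow_left s).inv_left
    rw [ha₂def, hc.mul_pow, inv_pow,
      show a₁ ^ v = a ^ v by rw [ha₁def, ← pow_mul, mul_comm s v, pow_mul]; exact hs, inv_mul_cancel]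
  have ha₂E : a₂ ∈ E.autGroup T := mul_mem (inv_mem ha₁E) ha
  have ha₂Q : autRes a₂ hQT ∈ D.Hom Q := by
    refine hom_congr (D.comp_mem haQ ((mem_autGroup le_rfl).1 (inv_mem ha₁D)) fun x => (a _).2) fun x => ?_
    rfl
  have ha₂D : a₂ ∈ D.autGroup T := (mem_autGroup le_rfl).2 ⟨(mem_autGroup le_rfl).1 ha₂E,
    fun _ => goodMap_of_restrict hS hF hEi ha₂E hord hQT hQc (ha₂Q.2 hQc)⟩
  have : a₁ * a₂ = a := mul_inv_cancel_left _ _
  rw [← this]
  exact mul_mem ha₁D ha₂D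

theorem residual_transport [Finite S] [Fact p.Prime] (hS : IsPGroup p S) (hEi : E.IsInvariantIn F)
    (hR : E.IsPPrimeResidual p R) {α : MulAut T} (hα : α ∈ F.autGroup T) {P : Subgroup Ω}
    {φ : P →* Ω} (hφ : φ ∈ R.Hom P) :
    ∃ φ' ∈ R.Hom ((SIso.ofEquiv α).img P), (SIso.ofEquiv α).Rel φ φ' := by
  haveI := finite_of_le hEi.2.1.1
  have hT : IsPGroup p T := hS.to_le hEi.2.1.1
  have hjE := SIso.mapsTo_of_invariant hEi hα
  let j := SIso.ofEquiv α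
  obtain ⟨R₁, hR₁⟩ := SIso.exists_mapsTo_eq j.symm (U := T) (U' := T) le_rfl R j.symm.img_top.symm
  have hidx : R₁.HasPrimeToPIndexIn E p := by
    refine ⟨hR₁.isSubsystemOf hjE.symm hR.2.1.1, fun P hP => ?_⟩
    rw [Subgroup.map_le_iff_le_comap, Subgroup.closure_le]
    rintro β' ⟨k, hk⟩
    obtain ⟨P₀, hP₀, rfl⟩ := j.symm.exists_img (le_refl T) (P' := P) (by rw [j.symm.img_top]; exact hP)
    obtain ⟨β, hβ⟩ := SIso.congr_symm_surj (i := j.symm) hP₀ (β' : MulAut ↥(j.symm.img P₀))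
    have hβE : β ∈ E.autGroup P₀ := (hjE.symm.mem_autGroup_iff hP₀ β).1 (by rw [hβ]; exact β'.2)
    have hβR : β ∈ R.autGroup P₀ := hR.2.1.2 P₀ hP₀ ⟨⟨β, hβE⟩, Subgroup.subset_closure ⟨k, by
      rw [Subgroup.orderOf_mk, ← MulEquiv.orderOf_eq (MulAut.congr (j.symm.imgEquiv hP₀)) β]
      exact (congrArg orderOf hβ).trans ((Subgroup.orderOf_coe β').trans hk)⟩, rfl⟩
    show (β' : MulAut ↥(j.symm.img P₀)) ∈ R₁.autGroup (j.symm.img P₀)
    rw [← hβ]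
    exact (hR₁.mem_autGroup_iff hP₀ β).2 hβR
  have hsub := hR.2.2 R₁ (hR₁.isSaturated hT hR.1) hidx
  exact SIso.MapsTo.fwd (i := j) hR₁.symm (hsub P hφ)

theorem isNormalIn_residual [Finite S] [Fact p.Prime] (hS : IsPGroup p S) (hE : E.IsWeaklyNormalIn F p)
    (hR : E.IsPPrimeResidual p R) : R.IsNormalIn F p := by
  obtain ⟨hEs, hF, hEi⟩ := hE
  have hsc := hEi.2.1
  have hTS : T ≤ S := hsc.1
  haveI := finite_of_le hTS
  have hT : IsPGroup p T := hS.to_le hTS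
  have hRE := hR.2.1.1
  have hpR : ∀ P : Subgroup Ω, E.IsCentric P → ∀ a ∈ E.autGroup P, (∃ k : ℕ, orderOf a = p ^ k) →
      a ∈ R.autGroup P := fun P hP a ha ⟨k, hk⟩ =>
    hR.2.1.2 P hP.1 ⟨⟨a, ha⟩, Subgroup.subset_closure ⟨k, by rwa [Subgroup.orderOf_mk]⟩, rfl⟩
  refine ⟨⟨hR.1, hF, fun P φ hφ => hEi.1 P (hRE P hφ), hsc, ?_, ?_⟩, ?_⟩
  · intro P hP φ hφ α hα
    obtain ⟨φ', hφ', hr⟩ := residual_transport hS hEi hR hα hφ
    revert hr hφ' φ'
    rw [SIso.img_imageAlong α P]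
    intro φ' hφ' hr
    refine ⟨φ', hφ', fun x hφx hαx => ?_⟩
    have hx' : (SIso.ofEquiv α).toFun x ∈ imageAlong (T.subtype.comp α.toMonoidHom) P := by
      rw [SIso.ofEquiv_apply α ⟨x, hP x.2⟩]; exact hαx
    refine Eq.trans ?_ ((hr x x.2 hx').trans ?_)
    · exact congrArg φ' (Subtype.ext (SIso.ofEquiv_apply α ⟨x, hP x.2⟩).symm)
    · exact SIso.ofEquiv_apply α ⟨φ x, hφx⟩
  · intro P hP φ hφ
    obtain ⟨α, hα, φ₀, hφ₀, he⟩ := hEi.2.2.2 P hP φ hφ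
    obtain ⟨a, ha, φ₁, hφ₁, he₁⟩ := exists_factor_of_centric hT hEs hpR hφ₀
    refine ⟨α * a, mul_mem hα ((mem_autGroup hTS).2 (hEi.1 _ ((mem_autGroup le_rfl).1 ha))), φ₁,
      twistCore_le_right P hφ₁, fun x hx => ?_⟩
    rw [he x (hom_mem hφ₀ x), MulAut.mul_apply]
    exact congrArg (fun z : T => ((α z : T) : Ω)) (Subtype.ext (he₁ x hx))
  · intro α hα
    have hidx : (minExtClosed E p).HasPrimeToPIndexIn E p := by
      refine ⟨fun P φ h => h.1, fun P hP => ?_⟩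
      rw [Subgroup.map_le_iff_le_comap, Subgroup.closure_le]
      rintro a ⟨k, hk⟩
      exact mem_autGroup_of_centric hT hEs isExtClosed_minExtClosed.1 hP a.2
        ⟨k, by rw [← hk]; exact Subgroup.orderOf_coe a⟩
    have hαD : T.subtype.comp α.toMonoidHom ∈ (goodSystem F E hsc).Hom T :=
      minExtClosed_le_of (isExtClosed_good hS hF hEs hEi) T
        (hR.2.2 _ (isSaturated_minExtClosed hT hEs) hidx T ((mem_autGroup le_rfl).1 hα))
    have hTc : E.IsCentric T := ⟨le_rfl, fun Q ⟨φ, hφ, hr⟩ => by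
      have : φ.range = T := range_eq_of_card_le hφ le_rfl (fun x => hom_mem hφ x) le_rfl
      rw [← hr, this]; exact centralizerIn_le T⟩
    obtain ⟨ψ, hψ, hψe, hψC⟩ := hαD.2 hTc
    obtain ⟨hz, hψr⟩ := good_ext_spec hαD.1 hTc hψe hψC
    have hαr : (T.subtype.comp α.toMonoidHom).range = T := by
      ext y
      exact ⟨fun ⟨x, hx⟩ => hx ▸ (α x).2, fun hy => ⟨α⁻¹ ⟨y, hy⟩, by
        show ((α (α⁻¹ ⟨y, hy⟩) : T) : Ω) = y
        rw [MulAut.apply_inv_self]⟩⟩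
    rw [hαr] at hψr
    refine ⟨homIso hψ hψr, (mem_autGroup (sup_le hTS (centralizerIn_le T))).2 (isoIn_homIso hψ hψr),
      fun x => hψe x _, ?_⟩
    rintro ⟨c, hc⟩ (hcC : c ∈ centralizerIn S T)
    refine ⟨hψC c hcC hc, ?_⟩
    intro t ht
    obtain ⟨x, hx⟩ := hαr.ge ht
    have h1 : ψ ⟨c, hc⟩ * t = t * ψ ⟨c, hc⟩ := by
      rw [← hx, ← hψe x (Subgroup.mem_sup_left x.2), ← map_mul, ← map_mul]
      exact congrArg ψ (Subtype.ext ((mem_centralizerIn.1 hcC).2 _ x.2))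
    have h2 : c⁻¹ * t = t * c⁻¹ := (Commute.inv_left ((mem_centralizerIn.1 hcC).2 t ht)).eq
    show t * (c⁻¹ * ψ ⟨c, hc⟩) = c⁻¹ * ψ ⟨c, hc⟩ * t
    rw [← mul_assoc, ← h2, mul_assoc, ← h1, mul_assoc]

end Cfsg.Lib.FusionSys
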