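import Cfsg.Agent.Lib.FusionSys.Factor

/-!
Morphisms of fusion systems; factor systems of saturated systems are saturated.
-/

set_option autoImplicit false

namespace Cfsg.Lib.FusionSys

open Cfsg Cfsg.FusionSystem

variable {Ω : Type*} [Group Ω] {S : Subgroup Ω} {F : FusionSystem S} {P Q T : Subgroup Ω}
variable {Ω' : Type*} [Group Ω'] {S' : Subgroup Ω'} {θ : S →* Ω'} {F' : FusionSystem S'}
variable {P' : Subgroup Ω'}

theorem stronglyClosed_ker (hα : F.IsMorphism F' θ) : F.StronglyClosed (θ.ker.map S.subtype) := by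
  refine ⟨by rintro _ ⟨x, -, rfl⟩; exact x.2, fun R hR φ hφ x => ?_⟩
  obtain ⟨φ', -, hP, hv, hP', he⟩ := hα.2 R φ hφ
  obtain ⟨k, hk, hke⟩ := hR x.2
  refine ⟨⟨φ x, hv x⟩, ?_, rfl⟩
  rw [SetLike.mem_coe, MonoidHom.mem_ker, ← he x]
  have h1 : (⟨x, hP x.2⟩ : S) = k := Subtype.ext hke.symm
  have h2 : (⟨θ ⟨x, hP x.2⟩, hP' x⟩ : imageAlong θ R) = 1 :=
    Subtype.ext ((congrArg θ h1).trans hk)
  rw [h2, map_one]

theorem ker_iff (s : S) : θ s = 1 ↔ (s : Ω) ∈ θ.ker.map S.subtype :=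
  ⟨fun h => ⟨s, h, rfl⟩, fun ⟨k, hk, he⟩ => by rw [← Subtype.ext he]; exact hk⟩

theorem isFactorSystem_of_surjective (hα : F.IsSurjectiveMorphism F' θ) :
    F.IsFactorSystem (θ.ker.map S.subtype) θ F' := by
  obtain ⟨hm, hrange, hsurj⟩ := hα
  refine ⟨(stronglyClosed_ker hm).1, ker_iff, hrange, fun P' φ' => ⟨fun h => ?_, ?_⟩⟩
  · exact ⟨(F'.le_of_mem h).1, hsurj P' (F'.le_of_mem h).1 φ' h⟩
  · rintro ⟨hP', φ, hφ, h⟩
    obtain ⟨ψ', hψ', hψi⟩ := hm.2 _ φ hφ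
    have heq := imageAlong_preimageAlong hrange hP'
    refine hom_congr (restrict_mem hψ' heq.ge) fun y => ?_
    obtain ⟨x, hx⟩ := exists_lift_val hrange hP' y
    rw [inducedAlong_apply h hx.symm (hx' := hom_mem hφ x)]
    exact (inducedAlong_apply hψi (x := x) (y := Subgroup.inclusion heq.ge y) hx.symm).symm

theorem conj_induced {T : Subgroup Ω} (hker : ∀ s : S, θ s = 1 ↔ (s : Ω) ∈ T)
    (hrange : θ.range = S') (hP' : P' ≤ S') (g : S) :
    (g : Ω) ∈ Subgroup.normalizer (preimageAlong θ P' : Set Ω) ↔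
      θ g ∈ Subgroup.normalizer (P' : Set Ω') := by
  rw [Subgroup.mem_normalizer_iff, Subgroup.mem_normalizer_iff]
  constructor
  · intro h n
    constructor
    · intro hn
      obtain ⟨⟨x, hx⟩, rfl⟩ := hrange.ge (hP' hn)
      obtain ⟨h1, h2⟩ := mem_preimageAlong.1 ((h x).1 (mem_preimageAlong.2 ⟨hx, hn⟩))
      rw [← map_inv, ← map_mul, ← map_mul]
      exact h2
    · intro hn
      obtain ⟨⟨z, hz⟩, he⟩ := hrange.ge (hP' hn)
      have hxS : (g : Ω)⁻¹ * z * g ∈ S := S.mul_mem (S.mul_mem (S.inv_mem g.2) hz) g.2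
      have h1 : (g : Ω) * ((g : Ω)⁻¹ * z * g) * (g : Ω)⁻¹ ∈ preimageAlong θ P' := by
        simp only [mul_assoc, mul_inv_cancel, mul_one, mul_inv_cancel_left]
        exact mem_preimageAlong.2 ⟨hz, by rw [he]; exact hn⟩
      obtain ⟨h2, h3⟩ := mem_preimageAlong.1 ((h _).2 h1)
      have h4 : θ (g⁻¹ * ⟨z, hz⟩ * g) = n := by
        rw [map_mul, map_mul, map_inv, he]
        simp [mul_assoc]
      rw [← h4]
      exact h3
  · intro h n
    constructor
    · intro hn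
      obtain ⟨hnS, hn⟩ := mem_preimageAlong.1 hn
      refine mem_preimageAlong.2 ⟨S.mul_mem (S.mul_mem g.2 hnS) (S.inv_mem g.2), ?_⟩
      have h1 := (h _).1 hn
      rwa [← map_inv, ← map_mul, ← map_mul] at h1
    · intro hn
      obtain ⟨hnS, hn⟩ := mem_preimageAlong.1 hn
      have hxS : n ∈ S := by
        have := S.mul_mem (S.mul_mem (S.inv_mem g.2) hnS) g.2
        simpa [mul_assoc] using this
      refine mem_preimageAlong.2 ⟨hxS, (h _).2 ?_⟩
      rw [← map_inv, ← map_mul, ← map_mul]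
      exact hn

variable {E : FusionSystem S'}

theorem card_range_inf [Finite S] {U : Subgroup Ω'} {T : Subgroup Ω} (hT : T ≤ S)
    (hker : ∀ s : S, θ s = 1 ↔ (s : Ω) ∈ T) (hrange : θ.range = S') (hU : U ≤ S') :
    Nat.card (U.comap θ) = Nat.card T * Nat.card U := by
  have h := (Subgroup.card_mul_index ((θ.subgroupComap U).ker)).symm
  have hs : Function.Surjective (θ.subgroupComap U) := fun y => by
    obtain ⟨s, hs⟩ := hrange.ge (hU y.2)
    exact ⟨⟨s, by rw [Subgroup.mem_comap, hs]; exact y.2⟩, Subtype.ext hs⟩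
  rw [Subgroup.index_ker, MonoidHom.range_eq_top.2 hs, Subgroup.card_top] at h
  rw [h]
  congr 1
  refine Nat.card_congr
    { toFun := fun x => ⟨((x : U.comap θ) : S), (hker _).1 (congrArg Subtype.val x.2)⟩
      invFun := fun t => ⟨⟨⟨t, hT t.2⟩, by
          rw [Subgroup.mem_comap, (hker ⟨t, hT t.2⟩).2 t.2]; exact U.one_mem⟩,
        Subtype.ext ((hker ⟨t, hT t.2⟩).2 t.2)⟩
      left_inv := fun x => rfl
      right_inv := fun x => rfl }

theorem card_normalizer_preimage [Finite S] {T : Subgroup Ω} (hT : T ≤ S)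
    (hker : ∀ s : S, θ s = 1 ↔ (s : Ω) ∈ T) (hrange : θ.range = S') (hP' : P' ≤ S') :
    Nat.card (normalizerIn S (preimageAlong θ P')) =
      Nat.card T * Nat.card (normalizerIn S' P') := by
  rw [← card_range_inf hT hker hrange (normalizerIn_le P')]
  refine Nat.card_congr
    { toFun := fun x => ⟨⟨x, x.2.1⟩, hrange.le ⟨_, rfl⟩,
        (conj_induced hker hrange hP' ⟨x, x.2.1⟩).1 x.2.2⟩
      invFun := fun x => ⟨(x : S), (x : S).2, (conj_induced hker hrange hP' (x : S)).2 x.2.2⟩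
      left_inv := fun x => rfl
      right_inv := fun x => rfl }

theorem isFullyNormalized_preimage [Finite S] (hT : F.StronglyClosed T)
    (hE : F.IsFactorSystem T θ E) (hP : E.IsFullyNormalized P') :
    F.IsFullyNormalized (preimageAlong θ P') := by
  obtain ⟨-, hker, hrange, hiff⟩ := hE
  refine ⟨preimageAlong_le, ?_⟩
  rintro Q ⟨φ, hφ, rfl⟩
  obtain ⟨φ', hφ'⟩ := exists_induced hT hker hrange hP.1 hφ
  have hmem : φ' ∈ E.Hom P' := (hiff _ _).2 ⟨hP.1, φ, hφ, hφ'⟩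
  have hR : φ'.range ≤ S' := by rintro _ ⟨y, rfl⟩; exact (E.le_of_mem hmem).2 y
  have hQ : preimageAlong θ φ'.range = φ.range := by
    apply le_antisymm
    · intro z hz
      obtain ⟨hzS, y, hy⟩ := mem_preimageAlong.1 hz
      obtain ⟨x, hx⟩ := exists_lift_val hrange hP.1 y
      rw [inducedAlong_apply hφ' hx.symm (hx' := hom_mem hφ x)] at hy
      have hd : (φ x)⁻¹ * z ∈ T := (hker (⟨φ x, hom_mem hφ x⟩⁻¹ * ⟨z, hzS⟩)).1 (by
        rw [map_mul, map_inv, hy, inv_mul_cancel])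
      have hTP := kernel_le_preimageAlong (P' := P') hT.1 hker
      obtain ⟨u, hu⟩ := (range_eq_of_card_le (restrict_mem hφ hTP) hT.1
        (fun y => stronglyClosed_apply_mem hT hφ (x := Subgroup.inclusion hTP y) y.2)
        le_rfl).ge hd
      refine ⟨x * Subgroup.inclusion hTP u, ?_⟩
      rw [map_mul, ← mul_inv_cancel_left (φ x) z]
      exact congrArg (φ x * ·) hu
    · rintro _ ⟨x, rfl⟩
      refine mem_preimageAlong.2 ⟨hom_mem hφ x, ⟨_, (mem_preimageAlong.1 x.2).2⟩, ?_⟩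
      exact inducedAlong_apply hφ' rfl
  rw [← hQ, card_normalizer_preimage hT.1 hker hrange hR,
    card_normalizer_preimage hT.1 hker hrange hP.1]
  exact Nat.mul_le_mul_left _ (hP.2 _ ⟨φ', hmem, rfl⟩)

theorem isFullyAutomized_factor_top [Finite S] {p : ℕ} [Fact p.Prime] (hS : IsPGroup p S)
    (hF : F.IsSaturated p) (hT : F.StronglyClosed T) (hE : F.IsFactorSystem T θ E) :
    E.IsFullyAutomized p S' := by
  obtain ⟨-, hker, hrange, hiff⟩ := hE
  refine ⟨le_rfl, ?_⟩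
  obtain ⟨-, R, hR⟩ := (isFullyAutomized_and_fc_of_fn hS hF (isFullyNormalized_top F)).2
  have hpre : preimageAlong θ S' = S :=
    le_antisymm preimageAlong_le fun x hx => mem_preimageAlong.2 ⟨hx, hrange.le ⟨_, rfl⟩⟩
  have hl : ∀ β ∈ F.autGroup S, ∃ β' ∈ E.autGroup S', ∀ x : S,
      ((β' ⟨θ x, hrange.le ⟨_, rfl⟩⟩ : S') : Ω') = θ (β x) := by
    intro β hβ
    have hφ := restrict_mem ((mem_autGroup le_rfl).1 hβ) hpre.le
    obtain ⟨φ', hφ'⟩ := exists_induced hT hker hrange le_rfl hφ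
    have hm : φ' ∈ E.Hom S' := (hiff _ _).2 ⟨le_rfl, _, hφ, hφ'⟩
    haveI : Finite θ.range := Finite.of_surjective θ.rangeRestrict θ.rangeRestrict_surjective
    haveI : Finite S' := hrange ▸ inferInstance
    have hr := range_eq_of_card_le hm le_rfl (E.le_of_mem hm).2 le_rfl
    refine ⟨homIso hm hr, (mem_autGroup le_rfl).2 (isoIn_homIso hm hr), fun x => ?_⟩
    exact inducedAlong_apply hφ' (x := ⟨x, hpre.ge x.2⟩) (hx' := (β x).2) rfl
  choose f hf hfe using fun β : F.autGroup S => hl β β.2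
  let Φ : F.autGroup S →* E.autGroup S' :=
    MonoidHom.mk' (fun β => ⟨f β, hf β⟩) fun a b => by
      refine Subtype.ext (MulEquiv.ext fun y => Subtype.ext ?_)
      obtain ⟨x, hx⟩ := hrange.ge y.2
      have hy : y = ⟨θ x, hrange.le ⟨_, rfl⟩⟩ := Subtype.ext hx.symm
      subst hy
      rw [Subgroup.coe_mul, MulAut.mul_apply, hfe (a * b) x]
      have h1 : f b ⟨θ x, hrange.le ⟨_, rfl⟩⟩ = ⟨θ ((b : MulAut S) x), hrange.le ⟨_, rfl⟩⟩ :=
        Subtype.ext (hfe b x)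
      rw [h1, hfe a]
      rfl
  have hsurj : Function.Surjective Φ := by
    rintro ⟨γ, hγ⟩
    obtain ⟨-, φ, hφ, hφe⟩ := (hiff _ _).1 ((mem_autGroup le_rfl).1 hγ)
    have hφS := restrict_mem hφ hpre.ge
    have hr := range_eq_of_card_le hφS le_rfl (hom_mem hφS) le_rfl
    refine ⟨⟨homIso hφS hr, (mem_autGroup le_rfl).2 (isoIn_homIso hφS hr)⟩, ?_⟩
    refine Subtype.ext (MulEquiv.ext fun y => Subtype.ext ?_)
    obtain ⟨x, hx⟩ := hrange.ge y.2
    have hy : y = ⟨θ x, hrange.le ⟨_, rfl⟩⟩ := Subtype.ext hx.symm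
    subst hy
    refine (hfe _ x).trans ?_
    refine Eq.trans ?_ (inducedAlong_apply hφe (x := ⟨x, hpre.ge x.2⟩)
      (y := ⟨θ x, hrange.le ⟨_, rfl⟩⟩) (hxS := x.2) (hx' := hom_mem hφ _) rfl).symm
    rfl
  refine ⟨R.mapSurjective hsurj, ?_⟩
  rw [Sylow.coe_mapSurjective, hR]
  apply le_antisymm
  · rintro _ ⟨β, hβ, rfl⟩
    obtain ⟨g, hg, hge⟩ := mem_autInducedBy.1 hβ
    refine mem_autInducedBy.2 ⟨θ ⟨g, hg⟩, hrange.le ⟨_, rfl⟩, fun y => ?_⟩
    obtain ⟨x, hx⟩ := hrange.ge y.2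
    have hy : y = ⟨θ x, hrange.le ⟨_, rfl⟩⟩ := Subtype.ext hx.symm
    subst hy
    refine (hfe β x).trans ?_
    rw [← map_inv, ← map_mul, ← map_mul]
    exact congrArg θ (Subtype.ext (hge x))
  · rintro ⟨γ, hγ⟩ hγS
    obtain ⟨g', hg', hge⟩ := mem_autInducedBy.1 hγS
    obtain ⟨⟨g, hg⟩, rfl⟩ := hrange.ge hg'
    have hgN : g ∈ Subgroup.normalizer (S : Set Ω) := Subgroup.le_normalizer hg
    have hc := conjAut_mem_autInducedBy (K := S) hgN hg
    refine ⟨⟨_, autInducedBy_le_autGroup le_rfl hc⟩, hc, ?_⟩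
    refine Subtype.ext (MulEquiv.ext fun y => Subtype.ext ?_)
    obtain ⟨x, hx⟩ := hrange.ge y.2
    have hy : y = ⟨θ x, hrange.le ⟨_, rfl⟩⟩ := Subtype.ext hx.symm
    subst hy
    refine (hfe _ x).trans (Eq.trans ?_ (hge ⟨θ x, hrange.le ⟨_, rfl⟩⟩).symm)
    rw [← map_inv, ← map_mul, ← map_mul]
    exact congrArg θ (Subtype.ext rfl)

theorem isSaturated_factor [Finite S] {p : ℕ} [Fact p.Prime] (hS : IsPGroup p S)
    (hF : F.IsSaturated p) (hT : F.StronglyClosed T) (hE : F.IsFactorSystem T θ E) :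
    E.IsSaturated p := by
  have hS' : IsPGroup p S' := hE.2.2.1 ▸ IsPGroup.of_surjective hS θ.rangeRestrict
    θ.rangeRestrict_surjective
  haveI : Finite S' :=
    hE.2.2.1 ▸ Finite.of_surjective θ.rangeRestrict θ.rangeRestrict_surjective
  refine isSaturated_of_receptive hS' (isFullyAutomized_factor_top hS hF hT hE) fun P' hP' => ?_
  have hfn := isFullyNormalized_preimage hT hE hP'
  obtain ⟨-, hker, hrange, hiff⟩ := hE
  refine ⟨hP'.1, fun R' φ' hφ' hr' => ?_⟩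
  obtain ⟨hR', φ, hφ, hφe⟩ := (hiff _ _).1 hφ'
  have hTR := kernel_le_preimageAlong (P' := R') hT.1 hker
  have hTP := kernel_le_preimageAlong (P' := P') hT.1 hker
  let P := preimageAlong θ P'
  let R := preimageAlong θ R'
  haveI : Finite P := finite_of_le hfn.1
  have hr : φ.range = P := by
    apply le_antisymm
    · rintro _ ⟨x, rfl⟩
      refine mem_preimageAlong.2 ⟨hom_mem hφ x, ?_⟩
      rw [← inducedAlong_apply hφe (y := ⟨_, (mem_preimageAlong.1 x.2).2⟩) rfl, ← hr']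
      exact ⟨_, rfl⟩
    · intro z hz
      obtain ⟨hzS, hz'⟩ := mem_preimageAlong.1 hz
      obtain ⟨y, hy⟩ := hr'.ge hz'
      obtain ⟨x, hx⟩ := exists_lift_val hrange hR' y
      rw [inducedAlong_apply hφe hx.symm (hx' := hom_mem hφ x)] at hy
      have hd : (φ x)⁻¹ * z ∈ T := (hker (⟨φ x, hom_mem hφ x⟩⁻¹ * ⟨z, hzS⟩)).1 (by
        rw [map_mul, map_inv, hy, inv_mul_cancel])
      obtain ⟨u, hu⟩ := (range_eq_of_card_le (restrict_mem hφ hTR) hT.1
        (fun y => stronglyClosed_apply_mem hT hφ (x := Subgroup.inclusion hTR y) y.2)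
        le_rfl).ge hd
      refine ⟨x * Subgroup.inclusion hTR u, ?_⟩
      rw [map_mul, ← mul_inv_cancel_left (φ x) z]
      exact congrArg (φ x * ·) hu
  let N : Subgroup Ω := preimageAlong θ (extender S' R' φ')
  have hNS : N ≤ S := preimageAlong_le
  have hNn : N ≤ Subgroup.normalizer (R : Set Ω) := fun g hg => by
    obtain ⟨hgS, hg⟩ := mem_preimageAlong.1 hg
    exact (conj_induced hker hrange hR' ⟨g, hgS⟩).2 (extender_le φ' hg).2
  -- transport of the automizer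
  let e := homIso hφ hr
  have he : IsoIn F e := isoIn_homIso hφ hr
  obtain ⟨hfc, -, Rs, hRs⟩ := isFullyAutomized_and_fc_of_fn hS hF hfn
  let K := trivModT F hT hfn.1
  haveI : K.Normal := trivModT_normal hT hfn.1
  let L : Subgroup (F.autGroup P) := K ⊔ (Rs : Subgroup (F.autGroup P))
  let A : Subgroup (F.autGroup P) :=
    ((autInducedBy N R).map (MulAut.congr e).toMonoidHom).subgroupOf (F.autGroup P)
  have hAp : IsPGroup p A :=
    ((isPGroup_autInducedBy (hS.to_le hNS)).map _).comap_subtype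
  have hAL : A ≤ L := by
    rintro ⟨γ, hγ⟩ ⟨δ, hδ, rfl⟩
    obtain ⟨g, hg, hge⟩ := mem_autInducedBy.1 hδ
    obtain ⟨hgS, hgx⟩ := mem_preimageAlong.1 hg
    obtain ⟨-, -, h', hh', hcond⟩ := mem_extender.1 hgx
    obtain ⟨⟨h, hhS⟩, rfl⟩ := hrange.ge hh'
    have hhn : h ∈ Subgroup.normalizer (P : Set Ω) := by
      refine (conj_induced hker hrange hP'.1 ⟨h, hhS⟩).2 ?_
      haveI : Finite φ'.range := by rw [hr']; exact finite_of_le hP'.1
      rw [← hr']
      refine Subgroup.mem_normalizer_fintype ?_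
      rintro _ ⟨x, rfl⟩
      rw [← hcond x ((Subgroup.mem_normalizer_iff.1 (extender_le φ' hgx).2 _).1 x.2)]
      exact ⟨_, rfl⟩
    have hc := conjAut_mem_autInducedBy (K := S) hhn hhS
    let c : F.autGroup P := ⟨_, autInducedBy_le_autGroup hfn.1 hc⟩
    have hcR : c ∈ (Rs : Subgroup (F.autGroup P)) := by rw [hRs]; exact hc
    suffices hk : c⁻¹ * ⟨_, hγ⟩ ∈ K by
      have := L.mul_mem (Subgroup.mem_sup_right hcR) (Subgroup.mem_sup_left hk)
      rwa [mul_inv_cancel_left] at this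
    intro x
    obtain ⟨y, rfl⟩ := e.surjective x
    have hyS : (y : Ω) ∈ S := preimageAlong_le y.2
    refine (hker (⟨_, hfn.1 (e y).2⟩⁻¹ *
      ⟨_, hfn.1 (((c⁻¹ * ⟨_, hγ⟩ : F.autGroup P) : MulAut P) (e y)).2⟩)).1 ?_
    have h3 : (((c⁻¹ * ⟨_, hγ⟩ : F.autGroup P) : MulAut P) (e y) : Ω) =
        h⁻¹ * (e (δ y) : Ω) * h := by
      simp only [Subgroup.coe_mul, Subgroup.coe_inv, MulAut.mul_apply]
      have h4 : (MulAut.congr e).toMonoidHom δ (e y) = e (δ y) := by simp [MulAut.congr]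
      rw [h4]
      obtain ⟨w, hw⟩ := (c : MulAut P).surjective (e (δ y))
      rw [← hw, MulAut.inv_apply_self]
      show (w : Ω) = h⁻¹ * (h * w * h⁻¹) * h
      simp [mul_assoc]
    have key : θ ⟨(e (δ y) : Ω), hfn.1 (e (δ y)).2⟩ =
        θ ⟨h, hhS⟩ * θ ⟨(e y : Ω), hfn.1 (e y).2⟩ * (θ ⟨h, hhS⟩)⁻¹ := by
      have hy' : θ ⟨y, hyS⟩ ∈ R' := (mem_preimageAlong.1 y.2).2
      have hcy : θ ⟨g, hgS⟩ * θ ⟨y, hyS⟩ * (θ ⟨g, hgS⟩)⁻¹ ∈ R' :=
        (Subgroup.mem_normalizer_iff.1 (extender_le φ' hgx).2 _).1 hy'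
      have h5 := hcond ⟨_, hy'⟩ hcy
      rw [inducedAlong_apply hφe (x := y) (hxS := hyS) (hx' := hom_mem hφ y)
          (y := ⟨_, hy'⟩) rfl,
        inducedAlong_apply hφe (x := δ y) (hxS := preimageAlong_le (δ y).2)
          (hx' := hom_mem hφ _) (y := ⟨_, hcy⟩) (by
            show θ ⟨g, hgS⟩ * θ ⟨y, hyS⟩ * (θ ⟨g, hgS⟩)⁻¹ = _
            rw [← map_inv, ← map_mul, ← map_mul]
            exact congrArg θ (Subtype.ext (hge y).symm))] at h5
      exact h5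
    have h6 : (⟨_, hfn.1 (((c⁻¹ * ⟨_, hγ⟩ : F.autGroup P) : MulAut P) (e y)).2⟩ : S) =
        ⟨h, hhS⟩⁻¹ * ⟨(e (δ y) : Ω), hfn.1 (e (δ y)).2⟩ * ⟨h, hhS⟩ := Subtype.ext h3
    rw [h6, map_mul, map_inv, map_mul, map_mul, map_inv, key]
    simp [mul_assoc]
  haveI : Finite L := inferInstance
  obtain ⟨RL, hRL⟩ := (hAp.of_equiv (Subgroup.subgroupOfEquivOfLe hAL).symm).exists_le_sylow
  obtain ⟨R₀, hR₀⟩ : ∃ R₀ : Sylow p L, (R₀ : Subgroup L) = (Rs : Subgroup _).subgroupOf L :=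
    ⟨Rs.subtype le_sup_right, rfl⟩
  obtain ⟨l, rfl⟩ := MulAction.exists_smul_eq L R₀ RL
  have hl' : (l : F.autGroup P) ∈ ((L : Subgroup (F.autGroup P)) : Set (F.autGroup P)) := l.2
  rw [Subgroup.normal_mul] at hl'
  obtain ⟨κ, hκ, s, hs, hks⟩ := Set.mem_mul.1 hl'
  have hconj : ∀ a ∈ A, κ⁻¹ * a * κ ∈ (Rs : Subgroup (F.autGroup P)) := by
    intro a ha
    have h1 := hRL (x := ⟨a, hAL ha⟩) ha
    rw [Sylow.coe_subgroup_smul, Subgroup.mem_pointwise_smul_iff_inv_smul_mem, hR₀] at h1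
    have h2 : (l : F.autGroup P)⁻¹ * a * l ∈ (Rs : Subgroup (F.autGroup P)) := by
      simpa [Subgroup.mem_subgroupOf] using h1
    rw [← hks] at h2
    have h7 := (Rs : Subgroup (F.autGroup P)).mul_mem
      ((Rs : Subgroup (F.autGroup P)).mul_mem hs h2) ((Rs : Subgroup (F.autGroup P)).inv_mem hs)
    simpa [mul_assoc, mul_inv_rev] using h7
  -- the corrected lift
  have hκ' : IsoIn F (e.trans ((κ : MulAut P)⁻¹)) :=
    he.trans ((mem_autGroup hfn.1).1 ((F.autGroup P).inv_mem κ.2))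
  obtain ⟨ψ, hψ, hψe⟩ := IsReceptive_ext (isReceptive_of_fc hS hF hfc) hκ' (N := N) (by
    intro g hg
    refine ⟨hNS hg, hNn hg, ?_⟩
    have hδ := conjAut_mem_autInducedBy (K := N) (hNn hg) hg
    have hδF : conjAut R (hNn hg) ∈ F.autGroup R := autInducedBy_le_autGroup he.le_left
      (conjAut_mem_autInducedBy (hNn hg) (hNS hg))
    have ha : (⟨_, congr_mem_autGroup he hδF⟩ : F.autGroup P) ∈ A := ⟨_, hδ, rfl⟩
    have h1 := hconj _ ha
    rw [hRs] at h1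
    obtain ⟨h, hh, hhe⟩ := mem_autInducedBy.1 h1
    refine ⟨h, hh, fun x y hxy => ?_⟩
    have h2 := hhe ((e.trans ((κ : MulAut P)⁻¹)) x)
    rw [← h2]
    have hy : y = conjAut R (hNn hg) x := Subtype.ext hxy
    subst hy
    simp [MulAut.congr, MulAut.mul_apply])
  have hpre : preimageAlong θ (extender S' R' φ') ≤ N := le_rfl
  have hEx : extender S' R' φ' ≤ S' := fun g hg => (extender_le φ' hg).1
  obtain ⟨ψ', hψ'⟩ := exists_induced hT hker hrange hEx (restrict_mem hψ hpre)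
  refine ⟨ψ', (hiff _ _).2 ⟨hEx, _, restrict_mem hψ hpre, hψ'⟩, fun z hzR hzN => ?_⟩
  obtain ⟨x, hx⟩ := exists_lift_val hrange hR' ⟨z, hzR⟩
  have hxN : (x : Ω) ∈ preimageAlong θ (extender S' R' φ') :=
    mem_preimageAlong.2 ⟨preimageAlong_le x.2, by rw [hx]; exact hzN⟩
  rw [inducedAlong_apply hψ' (x := ⟨x, hxN⟩) (hxS := preimageAlong_le x.2)
      (hx' := hom_mem (restrict_mem hψ hpre) _) hx.symm,
    inducedAlong_apply hφe (x := x) (hx' := hom_mem hφ x) hx.symm]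
  have h1 : ψ ⟨(x : Ω), hxN⟩ = (((e.trans ((κ : MulAut P)⁻¹)) x : P) : Ω) := hψe x x.2 hxN
  refine (eq_of_inv_mul_eq_one ?_).symm
  rw [← map_inv, ← map_mul]
  refine (hker _).2 ?_
  show (φ x)⁻¹ * ψ ⟨(x : Ω), hxN⟩ ∈ T
  rw [h1]
  exact (K.inv_mem hκ) (e x)

end Cfsg.Lib.FusionSys
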