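import Cfsg.Agent.Lib.FusionSys.Constrained
import Cfsg.Agent.Lib.FusionSys.FactorSat

/-!
# Solvable systems; central quotients of constrained systems
-/

set_option autoImplicit false

namespace Cfsg.Lib.FusionSys

open Cfsg Cfsg.FusionSystem
open scoped commutatorElement

variable {Ω : Type*} [Group Ω] {S : Subgroup Ω} {F : FusionSystem S} {R U : Subgroup Ω}
variable {Ω' : Type*} [Group Ω'] {S' : Subgroup Ω'} {θ : S →* Ω'} {E : FusionSystem S'}

theorem stronglyClosed_imageAlong [Finite S] (hR : F.StronglyClosed R)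
    (hE : F.IsFactorSystem R θ E) (hU : F.StronglyClosed U) (hRU : R ≤ U) :
    E.StronglyClosed (imageAlong θ U) := by
  obtain ⟨-, hker, hrange, hiff⟩ := hE
  refine ⟨?_, fun P' hP' φ' hφ' y => ?_⟩
  · rintro _ ⟨x, -, rfl⟩; exact hrange.le ⟨x, rfl⟩
  obtain ⟨hP'S, φ, hφ, hind⟩ := (hiff P' φ').1 hφ'
  obtain ⟨x, hx⟩ := exists_lift_val hrange hP'S y
  rw [inducedAlong_apply hind hx.symm (hx' := hom_mem hφ x)]
  have hpre : (x : Ω) ∈ preimageAlong θ (imageAlong θ U) := by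
    obtain ⟨hxS, hxP⟩ := mem_preimageAlong.1 x.2
    exact mem_preimageAlong.2 ⟨hxS, hP' hxP⟩
  rw [preimageAlong_imageAlong hR hker hU.1, sup_eq_left.2 hRU] at hpre
  exact mem_imageAlong.2 ⟨φ x, hom_mem hφ x, stronglyClosed_apply_mem hU hφ hpre, rfl⟩

theorem stronglyClosed_preimage' [Finite S] {p : ℕ} [Fact p.Prime] (hS : IsPGroup p S)
    (hF : F.IsSaturated p) (hR : F.StronglyClosed R) (hE : F.IsFactorSystem R θ E)
    {V' : Subgroup Ω'} (hV : E.StronglyClosed V') : F.StronglyClosed (preimageAlong θ V') := by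
  obtain ⟨hm, -, -⟩ := isSurjectiveMorphism_of_isFactorSystem hS hF hR hE
  refine ⟨preimageAlong_le, fun P hP φ hφ x => ?_⟩
  obtain ⟨φ', hφ', hind⟩ := hm.2 P φ hφ
  have hPS := hom_le hφ
  have him : imageAlong θ P ≤ V' := by
    intro y hy
    obtain ⟨z, hzS, hzP, rfl⟩ := mem_imageAlong.1 hy
    exact (mem_preimageAlong.1 (hP hzP)).2
  have h1 := hV.2 _ him φ' hφ' ⟨θ ⟨x, hPS x.2⟩, mem_imageAlong.2 ⟨x, hPS x.2, x.2, rfl⟩⟩
  rw [inducedAlong_apply hind (x := x) (hxS := hPS x.2) rfl (hx' := hom_mem hφ x)] at h1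
  exact mem_preimageAlong.2 ⟨hom_mem hφ x, h1⟩

theorem isNormal_imageAlong [Finite S] {p : ℕ} [Fact p.Prime] (hS : IsPGroup p S)
    (hF : F.IsSaturated p) (hR : F.StronglyClosed R) (hE : F.IsFactorSystem R θ E)
    (hU : F.IsNormal U) (hRU : R ≤ U) : E.IsNormal (imageAlong θ U) := by
  obtain ⟨-, hker, hrange, -⟩ := id hE
  haveI : Finite S' := hrange ▸ Finite.of_surjective _ θ.rangeRestrict_surjective
  have hS' : IsPGroup p S' := hrange ▸ hS.of_surjective θ.rangeRestrict θ.rangeRestrict_surjective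
  obtain ⟨W, m, hW0, hWm, -, hWchar, hWc⟩ := exists_series_of_nilpotent hS hU.1
  have hWs : ∀ i, F.StronglyClosed (R ⊔ W i) := fun i => stronglyClosed_sup hS hF hR
    (isNormal_stronglyClosed (isNormal_of_characteristic hU (hWchar i).1 (hWchar i).2))
  refine isNormal_of_series hS' (isSaturated_factor hS hF hR hE)
    (fun i => imageAlong θ (R ⊔ W i)) m ?_ ?_
    (fun i _ => stronglyClosed_imageAlong hR hE (hWs i) le_sup_left) ?_
  · rw [hW0, sup_bot_eq, eq_bot_iff]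
    rintro _ ⟨x, hx, rfl⟩
    exact Subgroup.mem_bot.2 ((hker x).2 hx)
  · rw [hWm, sup_eq_right.2 hRU]
  · intro i _ g hg y hy
    obtain ⟨g, hgS, hgU, rfl⟩ := mem_imageAlong.1 hg
    obtain ⟨y, hyS, hyU, rfl⟩ := mem_imageAlong.1 hy
    obtain ⟨w, hw, t, ht, rfl⟩ := exists_mul_of_mem_sup hR
      ((hWchar (i + 1)).1.trans hU.1) (show y ∈ W (i + 1) ⊔ R from sup_comm R _ ▸ hyU)
    refine mem_imageAlong.2 ⟨⁅g, w⁆, ?_, Subgroup.mem_sup_right (hWc i g hgU w hw), ?_⟩
    · exact hU.1 ((hWchar i).1 (hWc i g hgU w hw))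
    · have hwS : w ∈ S := hU.1 ((hWchar (i + 1)).1 hw)
      have h1 : θ ⟨w * t, hyS⟩ = θ ⟨w, hwS⟩ := by
        rw [show (⟨w * t, hyS⟩ : S) = ⟨w, hwS⟩ * ⟨t, hR.1 ht⟩ from rfl, map_mul,
          (hker ⟨t, hR.1 ht⟩).2 ht, mul_one]
      rw [h1, ← map_commutatorElement]
      rfl

/-- The commutator of two products lies in a subgroup normalized by the factors. -/
theorem commutator_mul_mem {Q : Subgroup Ω} {q c r d : Ω} (hq : q ∈ Q) (hr : r ∈ Q)
    (hc : c ∈ Subgroup.normalizer (Q : Set Ω)) (hd : d ∈ Subgroup.normalizer (Q : Set Ω))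
    (h : ⁅c, d⁆ ∈ Q) : ⁅q * c, r * d⁆ ∈ Q := by
  have e : ⁅q * c, r * d⁆ = q * (c * r * c⁻¹) * ⁅c, d⁆ * (d * q⁻¹ * d⁻¹) * r⁻¹ := by
    rw [commutatorElement_def, commutatorElement_def]; group
  rw [e]
  exact Q.mul_mem (Q.mul_mem (Q.mul_mem (Q.mul_mem hq
    ((Subgroup.mem_normalizer_iff.1 hc r).1 hr)) h)
    ((Subgroup.mem_normalizer_iff.1 hd _).1 (Q.inv_mem hq))) (Q.inv_mem hr)

/-- Central quotients of constrained systems are constrained. -/
theorem isConstrained_factor_central [Finite S] {p : ℕ} [Fact p.Prime] (hS : IsPGroup p S)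
    (hF : F.IsConstrained p) (hRc : F.IsCentral R) (hE : F.IsFactorSystem R θ E) :
    E.IsConstrained p := by
  have hFs := hF.1
  obtain ⟨hRS, hRfix⟩ := (isCentral_iff hS hFs R).1 hRc
  have hcen : ∀ t ∈ R, ∀ s ∈ S, s * t = t * s := fun t ht s hs =>
    commute_of_conj_eq (hRfix t ht _ ⟨conjHom _ s,
      F.conj_mem (Subgroup.zpowers_le.2 (hRS ht)) hs, rfl⟩)
  have hR : F.StronglyClosed R := ⟨hRS, fun P hP φ hφ x => by
    have h1 : φ x = x := hRfix x (hP x.2) _
      ⟨_, restrict_mem hφ (Subgroup.zpowers_le.2 x.2), rfl⟩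
    rw [h1]; exact hP x.2⟩
  have hRn : F.IsNormal R := isNormal_of_series hS hFs (fun i => if i = 0 then ⊥ else R) 1 (by simp)
    (by simp) (fun i _ => by
      show F.StronglyClosed (if i = 0 then ⊥ else R)
      split_ifs
      exacts [stronglyClosed_bot F, hR])
    fun i hi g hg y hy => by
      obtain rfl : i = 0 := by omega
      simp [commutatorElement_def, hcen y (by simpa using hy) g (hRS hg)]
  set Q := F.core with hQdef
  have hQ : F.IsNormal Q := isNormal_core F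
  have hRQ : R ≤ Q := le_sSup hRn
  have hQc := centralizerIn_core_le hF
  have hQn := stronglyClosed_le_normalizer (isNormal_stronglyClosed hQ)
  obtain ⟨-, hker, hrange, -⟩ := id hE
  haveI : Finite S' := hrange ▸ Finite.of_surjective _ θ.rangeRestrict_surjective
  have hS' : IsPGroup p S' := hrange ▸ hS.of_surjective θ.rangeRestrict θ.rangeRestrict_surjective
  have hEs := isSaturated_factor hS hFs hR hE
  have hQ' := isNormal_imageAlong hS hFs hR hE hQ hRQ
  refine ⟨hEs, _, hQ', isCentric_of_isNormal hQ' ?_⟩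
  set V := imageAlong θ Q ⊔ centralizerIn S' (imageAlong θ Q) with hV
  set D := preimageAlong θ V with hDdef
  have hD : F.StronglyClosed D := stronglyClosed_preimage' hS hFs hR hE
    (stronglyClosed_sup_centralizerIn hS' hEs (isNormal_stronglyClosed hQ'))
  -- the elements centralizing `Q` modulo `R`
  have hdec : ∀ g ∈ D, ∃ q ∈ Q, ∃ c ∈ S, (∀ x ∈ Q, ⁅c, x⁆ ∈ R) ∧ g = q * c := by
    intro g hg
    obtain ⟨hgS, hgV⟩ := mem_preimageAlong.1 hg
    have h1 : θ ⟨g, hgS⟩ ∈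
        ((imageAlong θ Q ⊔ centralizerIn S' (imageAlong θ Q) : Subgroup Ω') : Set Ω') := hgV
    rw [Subgroup.coe_mul_of_right_le_normalizer_left (imageAlong θ Q) (centralizerIn S' (imageAlong θ Q))
      ((centralizerIn_le _).trans (stronglyClosed_le_normalizer (isNormal_stronglyClosed hQ')))] at h1
    obtain ⟨a, ha, b, hb, hab⟩ := Set.mem_mul.1 h1
    obtain ⟨q, hqS, hqQ, rfl⟩ := mem_imageAlong.1 ha
    refine ⟨q, hqQ, q⁻¹ * g, S.mul_mem (S.inv_mem hqS) hgS, fun x hx => ?_,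
      (mul_inv_cancel_left q g).symm⟩
    have hxS := hQ.1 hx
    have hcS : q⁻¹ * g ∈ S := S.mul_mem (S.inv_mem hqS) hgS
    refine (hker ⁅(⟨_, hcS⟩ : S), ⟨x, hxS⟩⁆).1 ?_
    rw [map_commutatorElement, commutatorElement_eq_one_iff_mul_comm,
      show (⟨q⁻¹ * g, hcS⟩ : S) = ⟨q, hqS⟩⁻¹ * ⟨g, hgS⟩ from rfl, map_mul, map_inv, ← hab,
      inv_mul_cancel_left]
    exact (mem_centralizerIn.1 hb).2 _ (mem_imageAlong.2 ⟨x, hxS, hx, rfl⟩)
  obtain ⟨W, m, hW0, hWm, -, hWchar, hWc⟩ := exists_series_of_nilpotent hS hQ.1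
  have hWn : ∀ i, F.StronglyClosed (R ⊔ W i) := fun i => stronglyClosed_sup hS hFs hR
    (isNormal_stronglyClosed (isNormal_of_characteristic hQ (hWchar i).1 (hWchar i).2))
  let Z : ℕ → Subgroup Ω := fun i => if i = 0 then ⊥ else if i ≤ m + 1 then R ⊔ W (i - 1) else D
  have hDn : F.IsNormal D := by
    refine isNormal_of_series hS hFs Z (m + 2) (by simp [Z]) (by simp [Z]) ?_ ?_
    · intro i _
      show F.StronglyClosed (if i = 0 then ⊥ else if i ≤ m + 1 then R ⊔ W (i - 1) else D)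
      split_ifs
      exacts [stronglyClosed_bot F, hWn _, hD]
    intro i hi g hg y hy
    obtain ⟨q, hq, c, hc, hcQ, rfl⟩ := hdec g hg
    show ⁅q * c, y⁆ ∈ if i = 0 then ⊥ else if i ≤ m + 1 then R ⊔ W (i - 1) else D
    have hy' : y ∈ if i + 1 ≤ m + 1 then R ⊔ W i else D := by simpa [Z] using hy
    rcases (show i = 0 ∨ (1 ≤ i ∧ i ≤ m) ∨ i = m + 1 by omega) with rfl | ⟨hi1, him⟩ | rfl
    · rw [if_pos (by omega), hW0, sup_bot_eq] at hy'
      rw [if_pos rfl, Subgroup.mem_bot, commutatorElement_eq_one_iff_mul_comm]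
      exact hcen y hy' _ (S.mul_mem (hQ.1 hq) hc)
    · rw [if_pos (by omega)] at hy'
      rw [if_neg (by omega), if_pos (by omega)]
      obtain ⟨w, hw, t, ht, rfl⟩ := exists_mul_of_mem_sup hR
        ((hWchar i).1.trans hQ.1) (show y ∈ W i ⊔ R from sup_comm R _ ▸ hy')
      have h1 : ⁅q * c, w * t⁆ = ⁅q, w⁆ * ⁅c, w⁆ := by
        have hct : c * t = t * c := hcen t ht c hc
        have hqt : q * t = t * q := hcen t ht q (hQ.1 hq)
        have hz : ⁅c, w⁆ ∈ R := hcQ w ((hWchar i).1 hw)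
        have hzq : q * ⁅c, w⁆ = ⁅c, w⁆ * q := hcen _ hz q (hQ.1 hq)
        have e1 : ⁅q * c, w * t⁆ = ⁅q * c, w⁆ := by
          have hqc : q * c * t = t * (q * c) := hcen t ht _ (S.mul_mem (hQ.1 hq) hc)
          rw [commutatorElement_def, commutatorElement_def, mul_inv_rev]
          calc q * c * (w * t) * (c⁻¹ * q⁻¹) * (w * t)⁻¹
              = q * c * w * (t * (q * c)⁻¹) * t⁻¹ * w⁻¹ := by group
            _ = q * c * w * ((q * c)⁻¹ * t) * t⁻¹ * w⁻¹ := by
              rw [((show Commute (q * c) t from hqc).inv_left.eq)]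
            _ = _ := by group
        have hzw : ⁅q, w⁆ * ⁅c, w⁆ = ⁅c, w⁆ * ⁅q, w⁆ := hcen _ hz _ (by
          have := hQ.1 ((hWchar i).1 hw)
          rw [commutatorElement_def]
          exact S.mul_mem (S.mul_mem (S.mul_mem (hQ.1 hq) this) (S.inv_mem (hQ.1 hq))) (S.inv_mem this))
        rw [e1, commutatorElement_mul_left_eq_conj_mul, hzq, mul_inv_cancel_right, hzw]
      rw [h1]
      obtain ⟨j, rfl⟩ : ∃ j, i = j + 1 := ⟨i - 1, by omega⟩
      exact mul_mem (Subgroup.mem_sup_right (hWc j q hq w hw))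
        (Subgroup.mem_sup_left (hcQ w ((hWchar _).1 hw)))
    · rw [if_neg (by omega)] at hy'
      rw [if_neg (by omega), if_pos le_rfl, Nat.add_sub_cancel, hWm, sup_eq_right.2 hRQ]
      obtain ⟨r, hr, d, hd, hdQ, rfl⟩ := hdec y hy'
      refine commutator_mul_mem hq hr (hQn hc) (hQn hd)
        (hQc (mem_centralizerIn.2 ⟨?_, fun x hx => ?_⟩))
      · rw [commutatorElement_def]
        exact S.mul_mem (S.mul_mem (S.mul_mem hc hd) (S.inv_mem hc)) (S.inv_mem hd)
      · have hconj : ∀ a ∈ S, (∀ x ∈ Q, ⁅a, x⁆ ∈ R) → ∀ b ∈ S, (∀ x ∈ Q, ⁅b, x⁆ ∈ R) →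
            a * (b * x * b⁻¹) * a⁻¹ = ⁅b, x⁆ * (⁅a, x⁆ * x) := by
          intro a ha haQ b hb hbQ
          have h5 : a * ⁅b, x⁆ = ⁅b, x⁆ * a := hcen _ (hbQ x hx) a ha
          calc a * (b * x * b⁻¹) * a⁻¹ = a * ⁅b, x⁆ * x * a⁻¹ := by
                rw [commutatorElement_def]; group
            _ = ⁅b, x⁆ * (⁅a, x⁆ * x) := by
                rw [h5, commutatorElement_def a x]; group
        have hswap : ∀ r ∈ Q, c * (d * r * d⁻¹) * c⁻¹ = d * (c * r * c⁻¹) * d⁻¹ := fun r hr => by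
          have hstep : ∀ a b : Ω, a ∈ S → ⁅b, r⁆ ∈ R →
              a * (b * r * b⁻¹) * a⁻¹ = ⁅b, r⁆ * (⁅a, r⁆ * r) := fun a b ha hbR => by
            have h5 : a * ⁅b, r⁆ = ⁅b, r⁆ * a := hcen _ hbR a ha
            calc a * (b * r * b⁻¹) * a⁻¹ = a * ⁅b, r⁆ * r * a⁻¹ := by
                  rw [commutatorElement_def]; group
              _ = ⁅b, r⁆ * (⁅a, r⁆ * r) := by
                  rw [h5, commutatorElement_def a r]; group
          rw [hstep c d hc (hdQ r hr), hstep d c hd (hcQ r hr), ← mul_assoc, ← mul_assoc,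
            hcen _ (hcQ r hr) _ (hRS (hdQ r hr))]
        have hr : (d * c)⁻¹ * x * (d * c) ∈ Q :=
          (Subgroup.mem_normalizer_iff''.1 (hQn (S.mul_mem hd hc)) x).1 hx
        generalize hrdef : (d * c)⁻¹ * x * (d * c) = r at hr
        have h5 := hswap r hr
        have h4 : x = d * (c * r * c⁻¹) * d⁻¹ := by rw [← hrdef]; group
        have h6 : x * ⁅c, d⁆ = ⁅c, d⁆ * x := by
          rw [commutatorElement_def]
          calc x * (c * d * c⁻¹ * d⁻¹) = c * (d * r * d⁻¹) * c⁻¹ * (c * d * c⁻¹ * d⁻¹) := by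
                rw [h5, ← h4]
            _ = c * d * r * c⁻¹ * d⁻¹ := by group
            _ = c * d * c⁻¹ * d⁻¹ * x := by rw [h4]; group
        exact h6.symm
  intro c hc
  obtain ⟨⟨g, hgS⟩, rfl⟩ := hrange.ge (mem_centralizerIn.1 hc).1
  have hgD : g ∈ D := mem_preimageAlong.2 ⟨hgS, Subgroup.mem_sup_right hc⟩
  exact mem_imageAlong.2 ⟨g, hgS, (le_sSup hDn : D ≤ F.core) hgD, rfl⟩

/-- A solvable system has a series of strongly closed subgroups with abelian quotients. -/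
theorem exists_abelian_series [Finite S] {p : ℕ} [Fact p.Prime] (hS : IsPGroup p S)
    (hF : F.IsSaturated p) (h : F.IsSolvableSystem) :
    ∃ (n : ℕ) (Z : ℕ → Subgroup Ω), Z 0 = ⊥ ∧ Z n = S ∧ Monotone Z ∧ (∀ i, F.StronglyClosed (Z i)) ∧
      ∀ i, ∀ a ∈ Z (i + 1), ∀ b ∈ Z (i + 1), ⁅a, b⁆ ∈ Z i := by
  have hstep : ∀ T : Subgroup Ω, F.StronglyClosed T → T ≠ S → ∃ T' : Subgroup Ω,
      T < T' ∧ F.StronglyClosed T' ∧ ∀ a ∈ T', ∀ b ∈ T', ⁅a, b⁆ ∈ T := by
    intro T hT hTS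
    haveI hn : (T.subgroupOf S).Normal :=
      ⟨fun t ht s => stronglyClosed_conj_mem hT s.2 ht⟩
    obtain ⟨E, hE⟩ := exists_factorSystem (S' := (⊤ : Subgroup (S ⧸ T.subgroupOf S))) hT
      (θ := QuotientGroup.mk' (T.subgroupOf S))
      (fun s => QuotientGroup.eq_one_iff (N := T.subgroupOf S) s)
      (MonoidHom.range_eq_top.2 (QuotientGroup.mk'_surjective _))
    have hK := h T hT hTS E hE
    haveI : Finite (⊤ : Subgroup (S ⧸ T.subgroupOf S)) := inferInstance
    have hS' : IsPGroup p (⊤ : Subgroup (S ⧸ T.subgroupOf S)) :=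
      (hS.to_quotient _).to_subgroup ⊤
    have hKn := isNormal_core E
    set A := (Subgroup.center E.core).map E.core.subtype with hA
    have hAn : E.IsNormal A := isNormal_of_characteristic hKn (Subgroup.map_subtype_le _) (by
      show ((Subgroup.center E.core).map E.core.subtype |>.comap E.core.subtype).Characteristic
      rw [Subgroup.comap_map_eq_self_of_injective E.core.subtype_injective]
      infer_instance)
    have hA1 : A ≠ ⊥ := by
      haveI : Nontrivial E.core := (Subgroup.nontrivial_iff_ne_bot _).2 hK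
      haveI := (hS'.to_le hKn.1).center_nontrivial
      exact fun h0 => (Subgroup.nontrivial_iff_ne_bot _).1 inferInstance
        ((Subgroup.map_eq_bot_iff_of_injective _ E.core.subtype_injective).1 h0)
    refine ⟨preimageAlong (QuotientGroup.mk' (T.subgroupOf S)) A, ?_,
      stronglyClosed_preimage' hS hF hT hE (isNormal_stronglyClosed hAn), fun a ha b hb => ?_⟩
    · refine lt_of_le_of_ne (kernel_le_preimageAlong hT.1 hE.2.1) fun he => hA1 ?_
      have hAS : A ≤ (⊤ : Subgroup (S ⧸ T.subgroupOf S)) := le_top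
      rw [← imageAlong_preimageAlong hE.2.2.1 hAS, ← he, eq_bot_iff]
      rintro _ ⟨x, hx, rfl⟩
      exact Subgroup.mem_bot.2 ((hE.2.1 x).2 hx)
    · obtain ⟨haS, haA⟩ := mem_preimageAlong.1 ha
      obtain ⟨hbS, hbA⟩ := mem_preimageAlong.1 hb
      refine (hE.2.1 ⁅(⟨a, haS⟩ : S), ⟨b, hbS⟩⁆).1 ?_
      rw [map_commutatorElement, commutatorElement_eq_one_iff_mul_comm]
      obtain ⟨u, hu, hua⟩ := haA
      obtain ⟨v, -, hvb⟩ := hbA
      rw [← hua, ← hvb]
      exact congrArg Subtype.val ((Subgroup.mem_center_iff.1 hu v).symm)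
  suffices H : ∀ k : ℕ, ∀ T : Subgroup Ω, F.StronglyClosed T → Nat.card S ≤ Nat.card T + k →
      ∃ (n : ℕ) (Z : ℕ → Subgroup Ω), Z 0 = T ∧ Z n = S ∧ Monotone Z ∧ (∀ i, F.StronglyClosed (Z i)) ∧
        ∀ i, ∀ a ∈ Z (i + 1), ∀ b ∈ Z (i + 1), ⁅a, b⁆ ∈ Z i from
    H _ ⊥ (stronglyClosed_bot F) le_add_self
  intro k
  induction k using Nat.strong_induction_on with
  | _ k ih =>
  intro T hT hk
  by_cases hTS : T = S
  · subst hTS
    refine ⟨0, fun _ => T, rfl, rfl, monotone_const, fun _ => hT, fun i a ha b hb => ?_⟩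
    rw [commutatorElement_def]
    exact T.mul_mem (T.mul_mem (T.mul_mem ha hb) (T.inv_mem ha)) (T.inv_mem hb)
  obtain ⟨T', hlt, hT', hab⟩ := hstep T hT hTS
  haveI := finite_of_le hT'.1
  have hcard : Nat.card T < Nat.card T' := by
    by_contra hc
    exact hlt.ne (Subgroup.eq_of_le_of_card_ge hlt.le (by omega))
  have hk0 : 0 < k := by
    have := card_le_of_le hT'.1
    omega
  obtain ⟨n, Z, hZ0, hZn, hmono, hZs, hZab⟩ := ih (k - 1) (by omega) T' hT' (by omega)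
  refine ⟨n + 1, fun i => if i = 0 then T else Z (i - 1), rfl, by simpa using hZn, ?_, fun i => ?_, ?_⟩
  · refine monotone_nat_of_le_succ fun i => ?_
    cases i with
    | zero => simpa [hZ0] using hlt.le
    | succ j => simpa using hmono (Nat.le_succ j)
  · show F.StronglyClosed (if i = 0 then T else Z (i - 1))
    split_ifs
    exacts [hT, hZs _]
  · intro i a ha b hb
    cases i with
    | zero =>
      simp only [Nat.zero_add, one_ne_zero, if_false, Nat.sub_self, hZ0] at ha hb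
      simpa using hab a ha b hb
    | succ j => simpa using hZab j a (by simpa using ha) b (by simpa using hb)

/-- A system with a series of strongly closed subgroups with abelian quotients is solvable. -/
theorem isSolvableSystem_of_series [Finite S] {p : ℕ} [Fact p.Prime] (hS : IsPGroup p S)
    (hF : F.IsSaturated p) {n : ℕ} {Z : ℕ → Subgroup Ω} (h0 : Z 0 = ⊥) (hn : Z n = S)
    (hs : ∀ i, i ≤ n → F.StronglyClosed (Z i))
    (hab : ∀ i, i < n → ∀ a ∈ Z (i + 1), ∀ b ∈ Z (i + 1), ⁅a, b⁆ ∈ Z i) : F.IsSolvableSystem := by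
  intro R hR hRS _ E hE hcore
  classical
  have hex : ∃ i, i ≤ n ∧ ¬ Z i ≤ R := ⟨n, le_rfl, fun h => hRS (le_antisymm hR.1 (hn ▸ h))⟩
  obtain ⟨hjn, hj⟩ := Nat.find_spec hex
  obtain ⟨i, hi⟩ : ∃ i, Nat.find hex = i + 1 := by
    refine ⟨Nat.find hex - 1, ?_⟩
    have : Nat.find hex ≠ 0 := fun h => hj (by rw [h, h0]; exact bot_le)
    omega
  rw [hi] at hjn hj
  have hZi : Z i ≤ R := by
    by_contra h
    exact Nat.find_min hex (show i < Nat.find hex by omega) ⟨by omega, h⟩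
  haveI : Finite (⊤ : Subgroup (S ⧸ R.subgroupOf S)) := inferInstance
  have hS' : IsPGroup p (⊤ : Subgroup (S ⧸ R.subgroupOf S)) := (hS.to_quotient _).to_subgroup ⊤
  have hU := stronglyClosed_sup hS hF hR (hs (i + 1) hjn)
  set A := imageAlong (QuotientGroup.mk' (R.subgroupOf S)) (R ⊔ Z (i + 1)) with hA
  have hAs : E.StronglyClosed A := stronglyClosed_imageAlong hR hE hU le_sup_left
  have hAn : E.IsNormal A := isNormal_of_series hS' (isSaturated_factor hS hF hR hE)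
    (fun k => if k = 0 then ⊥ else A) 1 (by simp) (by simp) (fun k _ => by
      show E.StronglyClosed (if k = 0 then ⊥ else A)
      split_ifs
      exacts [stronglyClosed_bot E, hAs]) (by
    intro k hk g hg y hy
    obtain rfl : k = 0 := by omega
    simp only [Nat.zero_add, one_ne_zero, if_false] at hy
    show ⁅g, y⁆ ∈ (⊥ : Subgroup (S ⧸ R.subgroupOf S))
    obtain ⟨a, haS, haU, rfl⟩ := mem_imageAlong.1 hg
    obtain ⟨b, hbS, hbU, rfl⟩ := mem_imageAlong.1 hy
    obtain ⟨a₁, ha₁, a₂, ha₂, rfl⟩ := exists_mul_of_mem_sup hR (hs (i + 1) hjn).1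
      (show a ∈ Z (i + 1) ⊔ R from sup_comm R _ ▸ haU)
    obtain ⟨b₁, hb₁, b₂, hb₂, rfl⟩ := exists_mul_of_mem_sup hR (hs (i + 1) hjn).1
      (show b ∈ Z (i + 1) ⊔ R from sup_comm R _ ▸ hbU)
    have hred : ∀ (a₁ a₂ : Ω) (h : a₁ * a₂ ∈ S) (h1 : a₁ ∈ S), a₂ ∈ R →
        QuotientGroup.mk' (R.subgroupOf S) ⟨a₁ * a₂, h⟩ = QuotientGroup.mk' (R.subgroupOf S) ⟨a₁, h1⟩ := by
      intro a₁ a₂ h h1 h2
      rw [show (⟨a₁ * a₂, h⟩ : S) = ⟨a₁, h1⟩ * ⟨a₂, hR.1 h2⟩ from rfl, map_mul,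
        (hE.2.1 ⟨a₂, hR.1 h2⟩).2 h2, mul_one]
    rw [hred a₁ a₂ haS ((hs (i + 1) hjn).1 ha₁) ha₂, hred b₁ b₂ hbS ((hs (i + 1) hjn).1 hb₁) hb₂,
      ← map_commutatorElement, Subgroup.mem_bot]
    exact (hE.2.1 _).2 (hZi (hab i (by omega) a₁ ha₁ b₁ hb₁)))
  have hle : A ≤ E.core := le_sSup hAn
  rw [hcore] at hle
  apply hj
  intro x hx
  refine (hE.2.1 ⟨x, (hs (i + 1) hjn).1 hx⟩).1 (Subgroup.mem_bot.1 (hle ?_))
  exact mem_imageAlong.2 ⟨x, (hs (i + 1) hjn).1 hx, Subgroup.mem_sup_right hx, rfl⟩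

/-- Solvable systems are constrained. -/
theorem isConstrained_of_solvable [Finite S] {p : ℕ} [Fact p.Prime] (hS : IsPGroup p S)
    (hF : F.IsSaturated p) (h : F.IsSolvableSystem) : F.IsConstrained p := by
  obtain ⟨n, Z, h0, hn, hmono, hs, hab⟩ := exists_abelian_series hS hF h
  rw [isConstrained_iff_core hF]
  set Q := F.core with hQdef
  have hQ : F.IsNormal Q := isNormal_core F
  have hQs := isNormal_stronglyClosed hQ
  have hQn := stronglyClosed_le_normalizer hQs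
  set V := Q ⊔ centralizerIn S Q with hV
  have hVs : F.StronglyClosed V := stronglyClosed_sup_centralizerIn hS hF hQs
  intro c hc
  have key : ∀ i, Z i ⊓ V ≤ Q := by
    intro i
    induction i with
    | zero => rw [h0, bot_inf_eq]; exact bot_le
    | succ i ih =>
      set X := Z (i + 1) ⊓ V with hX
      have hXs : F.StronglyClosed X := ⟨inf_le_right.trans hVs.1, fun P hP φ hφ x =>
        ⟨(hs (i + 1)).2 P (hP.trans inf_le_left) φ hφ x, hVs.2 P (hP.trans inf_le_right) φ hφ x⟩⟩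
      have hAn : F.IsNormal (Q ⊔ X) := by
        refine isNormal_of_inner_abelian_over hS hF (stronglyClosed_sup hS hF hQs hXs) hQ ?_ ?_
        · intro g hg
          have hgV : g ∈ ((Q ⊔ centralizerIn S Q : Subgroup Ω) : Set Ω) :=
            (sup_le le_sup_left inf_le_right : Q ⊔ X ≤ V) hg
          rw [Subgroup.coe_mul_of_right_le_normalizer_left Q (centralizerIn S Q)
            ((centralizerIn_le Q).trans hQn)] at hgV
          obtain ⟨u, hu, d, hd, rfl⟩ := Set.mem_mul.1 hgV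
          exact ⟨u, hu, d, (mem_centralizerIn.1 hd).2, rfl⟩
        · intro g hg y hy
          obtain ⟨g₁, hg₁, g₂, hg₂, rfl⟩ := exists_mul_of_mem_sup hXs hQ.1 hg
          obtain ⟨y₁, hy₁, y₂, hy₂, rfl⟩ := exists_mul_of_mem_sup hXs hQ.1 hy
          refine commutator_mul_mem hg₁ hy₁ (hQn (hXs.1 hg₂)) (hQn (hXs.1 hy₂))
            (ih ⟨hab i g₂ hg₂.1 y₂ hy₂.1, ?_⟩)
          rw [commutatorElement_def]
          exact V.mul_mem (V.mul_mem (V.mul_mem hg₂.2 hy₂.2) (V.inv_mem hg₂.2)) (V.inv_mem hy₂.2)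
      exact le_sup_right.trans (le_sSup hAn : Q ⊔ X ≤ F.core)
  exact key n ⟨hn.symm ▸ (mem_centralizerIn.1 hc).1, Subgroup.mem_sup_right hc⟩

end Cfsg.Lib.FusionSys
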