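import Cfsg.Agent.Lib.FusionSys.Solvable

/-!
Solvability of saturated systems passes to normal subsystems and factors, and back.
-/

set_option autoImplicit false

namespace Cfsg.Lib.FusionSys

open Cfsg Cfsg.FusionSystem
open scoped commutatorElement

variable {Ω : Type*} [Group Ω] {S : Subgroup Ω} {F : FusionSystem S} {T : Subgroup Ω} {E : FusionSystem T}

/-- The smallest strongly closed subgroup of `E` containing all commutators from `U`. -/
def closedDerived (E : FusionSystem T) (U : Subgroup Ω) : Subgroup Ω :=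
  T ⊓ sInf {W | E.StronglyClosed W ∧ ∀ a ∈ U, ∀ b ∈ U, ⁅a, b⁆ ∈ W}

theorem closedDerived_le_of (U : Subgroup Ω) {W : Subgroup Ω} (hW : E.StronglyClosed W)
    (h : ∀ a ∈ U, ∀ b ∈ U, ⁅a, b⁆ ∈ W) : closedDerived E U ≤ W :=
  inf_le_right.trans (sInf_le ⟨hW, h⟩)

theorem commutator_mem_closedDerived {U : Subgroup Ω} (hU : U ≤ T) {a b : Ω} (ha : a ∈ U)
    (hb : b ∈ U) : ⁅a, b⁆ ∈ closedDerived E U := by
  refine ⟨?_, Subgroup.mem_sInf.2 fun W hW => hW.2 a ha b hb⟩
  rw [SetLike.mem_coe, commutatorElement_def]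
  exact T.mul_mem (T.mul_mem (T.mul_mem (hU ha) (hU hb)) (T.inv_mem (hU ha))) (T.inv_mem (hU hb))

theorem stronglyClosed_closedDerived (U : Subgroup Ω) : E.StronglyClosed (closedDerived E U) := by
  refine ⟨inf_le_left, fun R hR φ hφ x => ⟨(E.le_of_mem hφ).2 x, ?_⟩⟩
  exact Subgroup.mem_sInf.2 fun W hW => hW.1.2 R
    (hR.trans (inf_le_right.trans (sInf_le hW))) φ hφ x

/-- `U` is invariant under the automizer of `T`. -/
def AutStable (F : FusionSystem S) (T U : Subgroup Ω) : Prop :=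
  ∀ α ∈ F.autGroup T, ∀ u : T, (u : Ω) ∈ U → ((α u : T) : Ω) ∈ U

theorem autStable_closedDerived (hinv : E.IsInvariantIn F) {U : Subgroup Ω}
    (hU : AutStable F T U) (hUT : U ≤ T) : AutStable F T (closedDerived E U) := by
  intro α hα u hu
  refine ⟨(α u).2, Subgroup.mem_sInf.2 fun W hW => ?_⟩
  let W' : Subgroup Ω := ((W.subgroupOf T).comap α.toMonoidHom).map T.subtype
  have hmem : ∀ z : T, (z : Ω) ∈ W' ↔ ((α z : T) : Ω) ∈ W := by
    intro z
    constructor
    · rintro ⟨z', hz', he⟩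
      obtain rfl : z' = z := Subtype.ext he
      exact hz'
    · exact fun h => ⟨z, h, rfl⟩
  have hW's : E.StronglyClosed W' := by
    refine ⟨Subgroup.map_subtype_le _, fun R hR φ hφ x => ?_⟩
    have hRT : R ≤ T := hR.trans (Subgroup.map_subtype_le _)
    have hφT : φ x ∈ T := (E.le_of_mem hφ).2 x
    obtain ⟨χ, hχ, hχe⟩ := hinv.2.2.1 R hRT φ hφ α hα
    have hdom : (R.subgroupOf T).map (T.subtype.comp α.toMonoidHom) ≤ W := by
      rintro _ ⟨r, hr, rfl⟩
      exact (hmem r).1 (hR hr)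
    have hmap : ((α ⟨x, hRT x.2⟩ : T) : Ω) ∈ (R.subgroupOf T).map (T.subtype.comp α.toMonoidHom) :=
      ⟨⟨x, hRT x.2⟩, x.2, rfl⟩
    refine (hmem ⟨φ x, hφT⟩).2 ?_
    rw [← hχe x hφT hmap]
    exact hW.1.2 _ hdom χ hχ _
  have hW'c : ∀ a ∈ U, ∀ b ∈ U, ⁅a, b⁆ ∈ W' := by
    intro a ha b hb
    have h1 := hW.2 _ (hU α hα ⟨a, hUT ha⟩ ha) _ (hU α hα ⟨b, hUT hb⟩ hb)
    have h2 : ((α ⁅(⟨a, hUT ha⟩ : T), ⟨b, hUT hb⟩⁆ : T) : Ω) ∈ W := by
      rw [map_commutatorElement]
      exact h1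
    exact (hmem ⁅(⟨a, hUT ha⟩ : T), ⟨b, hUT hb⟩⁆).2 h2
  exact (hmem u).1 (Subgroup.mem_sInf.1 hu.2 W' ⟨hW's, hW'c⟩)

theorem stronglyClosed_of_autStable (hinv : E.IsInvariantIn F) {U : Subgroup Ω}
    (hU : E.StronglyClosed U) (hst : AutStable F T U) : F.StronglyClosed U := by
  refine ⟨hU.1.trans hinv.2.1.1, fun R hR φ hφ x => ?_⟩
  obtain ⟨α, hα, φ₀, hφ₀, he⟩ := hinv.2.2.2 R (hR.trans hU.1) φ hφ
  have hx := hU.2 R hR φ₀ hφ₀ x
  rw [he x (hU.1 hx)]
  exact hst α hα ⟨φ₀ x, hU.1 hx⟩ hx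

/-- The series of iterated closed derived subgroups. -/
def derivedChain (E : FusionSystem T) : ℕ → Subgroup Ω
  | 0 => T
  | k + 1 => closedDerived E (derivedChain E k)

theorem derivedChain_le (k : ℕ) : derivedChain E k ≤ T := by
  cases k with
  | zero => exact le_rfl
  | succ k => exact inf_le_left

theorem derivedChain_stronglyClosed (hinv : E.IsInvariantIn F) (k : ℕ) :
    F.StronglyClosed (derivedChain E k) := by
  have hst : ∀ k, AutStable F T (derivedChain E k) := by
    intro k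
    induction k with
    | zero => exact fun α _ u _ => (α u).2
    | succ k ih => exact autStable_closedDerived hinv ih (derivedChain_le k)
  cases k with
  | zero => exact hinv.2.1
  | succ k => exact stronglyClosed_of_autStable hinv (stronglyClosed_closedDerived _) (hst (k + 1))

universe v in
/-- Solvability of a system is solvability of a normal subsystem and of its factor. -/
theorem isSolvableSystem_iff_normal_factor [Finite S] {p : ℕ} [Fact p.Prime] (hS : IsPGroup p S)
    (hF : F.IsSaturated p) (hEs : E.IsSaturated p) (hinv : E.IsInvariantIn F) {Ω' : Type v}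
    [Group Ω'] {S' : Subgroup Ω'} (θ : S →* Ω') (D : FusionSystem S')
    (hD : F.IsFactorSystem T θ D) :
    F.IsSolvableSystem ↔ (E.IsSolvableSystem ∧ D.IsSolvableSystem) := by
  have hT := hinv.2.1
  haveI := finite_of_le hT.1
  haveI : Finite S' := by
    rw [← hD.2.2.1]
    exact Finite.of_surjective θ.rangeRestrict θ.rangeRestrict_surjective
  have hSp' : IsPGroup p S' := by
    rw [← hD.2.2.1]
    exact hS.of_surjective θ.rangeRestrict θ.rangeRestrict_surjective
  have hDs := isSaturated_factor hS hF hT hD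
  constructor
  · intro h
    obtain ⟨n, Z, h0, hn, hmono, hs, hab⟩ := exists_abelian_series hS hF h
    constructor
    · refine isSolvableSystem_of_series (hS.to_le hT.1) hEs (n := n) (Z := fun i => Z i ⊓ T)
        (by simp [h0]) (by simp [hn, hT.1]) (fun i _ => ⟨inf_le_right, fun R hR φ hφ x => ?_⟩)
        (fun i _ a ha b hb => ⟨hab i a ha.1 b hb.1, ?_⟩)
      · exact ⟨(hs i).2 R (hR.trans inf_le_left) φ (hinv.1 R hφ) x, (E.le_of_mem hφ).2 x⟩
      · rw [SetLike.mem_coe, commutatorElement_def]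
        exact T.mul_mem (T.mul_mem (T.mul_mem ha.2 hb.2) (T.inv_mem ha.2)) (T.inv_mem hb.2)
    · refine isSolvableSystem_of_series hSp' hDs (n := n)
        (Z := fun i => imageAlong θ (Z i ⊔ T)) ?_ ?_
        (fun i _ => stronglyClosed_imageAlong hT hD (stronglyClosed_sup hS hF (hs i) hT) le_sup_right)
        (fun i _ a ha b hb => ?_)
      · rw [h0, bot_sup_eq, eq_bot_iff]
        rintro _ ⟨x, hx, rfl⟩
        exact Subgroup.mem_bot.2 ((hD.2.1 x).2 hx)
      · refine le_antisymm ?_ fun y hy => ?_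
        · rintro _ ⟨x, -, rfl⟩
          exact hD.2.2.1.le ⟨x, rfl⟩
        · obtain ⟨x, rfl⟩ := hD.2.2.1.ge hy
          exact mem_imageAlong.2 ⟨x, x.2, Subgroup.mem_sup_left (hn.symm ▸ x.2), rfl⟩
      · obtain ⟨a, haS, haU, rfl⟩ := mem_imageAlong.1 ha
        obtain ⟨b, hbS, hbU, rfl⟩ := mem_imageAlong.1 hb
        obtain ⟨a₁, ha₁, a₂, ha₂, rfl⟩ := exists_mul_of_mem_sup hT (hs (i + 1)).1 haU
        obtain ⟨b₁, hb₁, b₂, hb₂, rfl⟩ := exists_mul_of_mem_sup hT (hs (i + 1)).1 hbU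
        have hred : ∀ (c₁ c₂ : Ω) (h : c₁ * c₂ ∈ S) (h1 : c₁ ∈ S), c₂ ∈ T →
            θ ⟨c₁ * c₂, h⟩ = θ ⟨c₁, h1⟩ := by
          intro c₁ c₂ h h1 h2
          rw [show (⟨c₁ * c₂, h⟩ : S) = ⟨c₁, h1⟩ * ⟨c₂, hT.1 h2⟩ from rfl, map_mul,
            (hD.2.1 ⟨c₂, hT.1 h2⟩).2 h2, mul_one]
        rw [hred a₁ a₂ haS ((hs _).1 ha₁) ha₂, hred b₁ b₂ hbS ((hs _).1 hb₁) hb₂,
          ← map_commutatorElement]
        exact mem_imageAlong.2 ⟨_, _, Subgroup.mem_sup_left (hab i a₁ ha₁ b₁ hb₁), rfl⟩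
  · rintro ⟨hE, hDsol⟩
    obtain ⟨m, Z, h0, hm, -, hs, hab⟩ := exists_abelian_series (hS.to_le hT.1) hEs hE
    obtain ⟨n, Y, hY0, hYn, -, hYs, hYab⟩ := exists_abelian_series hSp' hDs hDsol
    have hUZ : ∀ k, k ≤ m → derivedChain E k ≤ Z (m - k) := by
      intro k
      induction k with
      | zero => intro _; simp [derivedChain, hm]
      | succ k ih =>
        intro hk
        refine closedDerived_le_of _ (hs _) fun a ha b hb => ?_
        have he : m - k = m - (k + 1) + 1 := by omega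
        exact hab _ a (he ▸ ih (by omega) ha) b (he ▸ ih (by omega) hb)
    have hUm : derivedChain E m = ⊥ := by
      refine eq_bot_iff.2 ((hUZ m le_rfl).trans ?_)
      rw [Nat.sub_self, h0]
    have hpreT : preimageAlong θ (Y 0) = T := by
      refine le_antisymm (fun x hx => ?_) (kernel_le_preimageAlong hT.1 hD.2.1)
      obtain ⟨hxS, hxY⟩ := mem_preimageAlong.1 hx
      rw [hY0, Subgroup.mem_bot] at hxY
      exact (hD.2.1 ⟨x, hxS⟩).1 hxY
    refine isSolvableSystem_of_series hS hF (n := m + n)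
      (Z := fun i => if i < m then derivedChain E (m - i) else preimageAlong θ (Y (i - m))) ?_ ?_
      (fun i _ => ?_) (fun i _ => ?_)
    · skip
      split_ifs with h
      · simpa using hUm
      · rw [Nat.zero_sub, hpreT]
        obtain rfl : m = 0 := by omega
        exact hUm
    · skip
      rw [if_neg (by omega), Nat.add_sub_cancel_left, hYn]
      refine le_antisymm preimageAlong_le fun x hx => mem_preimageAlong.2 ⟨hx, ?_⟩
      exact hD.2.2.1.le ⟨_, rfl⟩
    · skip
      split_ifs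
      exacts [derivedChain_stronglyClosed hinv _,
        stronglyClosed_preimage' hS hF hT hD (hYs _)]
    · skip
      by_cases h1 : i + 1 < m
      · rw [if_pos h1, if_pos (by omega : i < m), show m - i = m - (i + 1) + 1 by omega]
        exact fun a ha b hb => commutator_mem_closedDerived (derivedChain_le _) ha hb
      · rw [if_neg h1]
        by_cases h2 : i < m
        · rw [if_pos h2, show i + 1 - m = 0 by omega, hpreT, show m - i = 0 + 1 by omega]
          exact fun a ha b hb => commutator_mem_closedDerived le_rfl ha hb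
        · rw [if_neg h2, show i + 1 - m = i - m + 1 by omega]
          intro a ha b hb
          obtain ⟨haS, haY⟩ := mem_preimageAlong.1 ha
          obtain ⟨hbS, hbY⟩ := mem_preimageAlong.1 hb
          have hcS : ⁅a, b⁆ ∈ S := (⁅(⟨a, haS⟩ : S), (⟨b, hbS⟩ : S)⁆).2
          refine mem_preimageAlong.2 ⟨hcS, ?_⟩
          rw [show (⟨⁅a, b⁆, hcS⟩ : S) = ⁅(⟨a, haS⟩ : S), (⟨b, hbS⟩ : S)⁆ from rfl, map_commutatorElement]
          exact hYab _ _ haY _ hbY

end Cfsg.Lib.FusionSys
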