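import Cfsg.Agent.Lib.FusionSys.ModelResidual
import Cfsg.Agent.Lib.FusionSys.SolvableExtension
import Cfsg.Agent.Lib.FusionSys.HyperfocalFactor
import Cfsg.Agent.Lib.FusionSys.PPowerIsNormal
import Cfsg.Agent.Lib.FusionSys.ResidualNormalMain
import Cfsg.Agent.Lib.FusionSys.QdFree
import Cfsg.Agent.Lib.FusionSys.Solvable
import Cfsg.Agent.Lib.Core.PSolvable

/-!
Terminating residual series, constrained systems and `p`-solvable models.
-/

set_option autoImplicit false
set_option linter.style.haveILetI false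

universe u v

namespace Cfsg.Lib.FusionSys

open Cfsg Cfsg.FusionSystem

variable {Ω : Type u} [Group Ω] {p : ℕ}

theorem isSolvableSystem_bot {S : Subgroup Ω} (F : FusionSystem S) (h : S = ⊥) : F.IsSolvableSystem :=
  fun R hR hne => absurd (le_antisymm hR.1 (h ▸ bot_le)) hne

theorem isSolvableSystem_of_hyperfocal_bot {S : Subgroup Ω} [Finite S] [Fact p.Prime] (hS : IsPGroup p S)
    {F : FusionSystem S} (hF : F.IsSaturated p) (h : F.hyperfocalSubgroup p = ⊥) : F.IsSolvableSystem := by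
  intro R hR hne _ E hE hcore
  have htop : E.IsNormal (⊤ : Subgroup (S ⧸ R.subgroupOf S)) := by
    refine ⟨le_rfl, fun P φ' hφ' => ?_⟩
    obtain ⟨-, φ, hφ, hind⟩ := (hE.2.2.2 P φ').1 hφ'
    rw [hom_eq_inner_of_hyperfocal hS hF h] at hφ
    obtain ⟨-, g, hg, hgφ⟩ := hφ
    obtain ⟨_, hv, hP', he⟩ := hind
    set θ := QuotientGroup.mk' (R.subgroupOf S)
    refine ⟨conjHom _ (θ ⟨g, hg⟩), E.conj_mem le_top trivial, fun y => ?_, ?_⟩
    · obtain ⟨y, hy⟩ := y
      obtain ⟨a, ha⟩ := QuotientGroup.mk'_surjective (R.subgroupOf S) y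
      subst ha
      have hm : (a : Ω) ∈ preimageAlong θ P := mem_preimageAlong.2 ⟨a.2, hy⟩
      show θ ⟨g, hg⟩ * θ a * (θ ⟨g, hg⟩)⁻¹ = φ' ⟨θ a, hy⟩
      refine Eq.trans ?_ (he ⟨a, hm⟩).symm
      rw [← map_inv, ← map_mul, ← map_mul]
      exact congrArg θ (Subtype.ext (hgφ ⟨a, hm⟩).symm)
    · refine eq_top_iff.2 fun z _ => ?_
      exact ⟨⟨(θ ⟨g, hg⟩)⁻¹ * z * θ ⟨g, hg⟩, Subgroup.mem_sup_right trivial⟩, trivial, by
        show θ ⟨g, hg⟩ * ((θ ⟨g, hg⟩)⁻¹ * z * θ ⟨g, hg⟩) * (θ ⟨g, hg⟩)⁻¹ = z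
        group⟩
  have hle : (⊤ : Subgroup (S ⧸ R.subgroupOf S)) ≤ E.core := le_sSup htop
  rw [hcore] at hle
  refine hne (le_antisymm hR.1 fun x hx => ?_)
  exact (QuotientGroup.eq_one_iff (N := R.subgroupOf S) (⟨x, hx⟩ : S)).1
    (Subgroup.mem_bot.1 (hle trivial))

theorem isInvariantIn_self {S : Subgroup Ω} [Finite S] (F : FusionSystem S) : F.IsInvariantIn F := by
  refine ⟨fun _ _ h => h, stronglyClosed_top F, fun P hP φ hφ α hα => ?_,
    fun P hP φ hφ => ⟨1, one_mem _, φ, hφ, fun x hx => rfl⟩⟩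
  set h := (S.subtype.comp α.toMonoidHom).comp (Subgroup.inclusion hP) with hh
  have hr : h.range = (P.subgroupOf S).map (S.subtype.comp α.toMonoidHom) := by
    ext y
    exact ⟨fun ⟨x, hx⟩ => ⟨Subgroup.inclusion hP x, x.2, hx⟩, fun ⟨⟨x, hxS⟩, hxP, hx⟩ => ⟨⟨x, hxP⟩, hx⟩⟩
  have hαS := (mem_autGroup le_rfl).1 hα
  obtain ⟨ψ, hψ, hψr, hψe⟩ := exists_inv (restrict_mem hαS hP) hr
  have hv : ∀ y, ψ y ∈ P := fun y => hψr.le ⟨y, rfl⟩
  have h2 := F.comp_mem hψ hφ hv
  refine ⟨_, F.comp_mem h2 hαS (fun y => hom_mem h2 y), fun x hφx hαx => ?_⟩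
  show ((α ⟨φ ⟨ψ _, _⟩, _⟩ : S) : Ω) = _
  refine congrArg (fun z : S => ((α z : S) : Ω)) (Subtype.ext (congrArg φ (Subtype.ext ?_)))
  exact hψe x hαx

theorem isSolvableSystem_of_terminating [Fact p.Prime] {S : Subgroup Ω} {F : FusionSystem S}
    (h : F.HasTerminatingResidualSeries p) :
    Finite S → IsPGroup p S → F.IsSaturated p → F.IsSolvableSystem := by
  have hp : p.Prime := Fact.out
  induction h with
  | trivial F p hbot => exact fun _ _ _ => isSolvableSystem_bot F hbot
  | @step S F E p D hE hD _ ih =>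
    intro hfin hS hF
    haveI := Fact.mk hp
    haveI := hfin
    have hTS : E.hyperfocalSubgroup p ≤ S := hyperfocal_le E
    haveI := finite_of_le hTS
    have hDs := ih hp (finite_of_le hTS) (hS.to_le hTS) hD.1
    have hEs : E.IsSaturated p := hE.1
    have hDn : D.IsNormalIn E p :=
      isNormalIn_of_pPower hS hEs hyperfocal_subgroupOf_normal le_rfl hTS hD.1 hD.2
    have hsc := stronglyClosed_of_hyperfocal_le hS hEs hyperfocal_subgroupOf_normal le_rfl hTS
    -- `E` is solvable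
    haveI hN : ((E.hyperfocalSubgroup p).subgroupOf S).Normal := hyperfocal_subgroupOf_normal
    set θ := QuotientGroup.mk' ((E.hyperfocalSubgroup p).subgroupOf S)
    have hker : ∀ s : S, θ s = 1 ↔ (s : Ω) ∈ E.hyperfocalSubgroup p := fun s => QuotientGroup.eq_one_iff s
    have hrange : θ.range = ⊤ := MonoidHom.range_eq_top.2 (QuotientGroup.mk'_surjective _)
    obtain ⟨Eq', hEq'⟩ := exists_factorSystem (F := E) (S' := (⊤ : Subgroup _)) hsc hker hrange
    have hEqs := isSaturated_factor hS hEs hsc hEq'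
    have hq : Eq'.IsSolvableSystem := by
      refine isSolvableSystem_of_hyperfocal_bot ((hS.to_quotient _).to_subgroup ⊤) hEqs ?_
      rw [hyperfocal_factor hS hEs hsc hEq', Subgroup.map_eq_bot_iff]
      intro x hx
      exact (hker x).2 hx
    have hEsol : E.IsSolvableSystem :=
      (isSolvableSystem_iff_normal_factor hS hEs hDn.1.1 hDn.1.2.2 θ Eq' hEq').2 ⟨hDs, hq⟩
    -- `F` is solvable
    have hEn : E.IsNormalIn F p := isNormalIn_residual hS ⟨hF, hF, isInvariantIn_self F⟩ hE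
    haveI hN2 : (S.subgroupOf S).Normal := by rw [Subgroup.subgroupOf_self]; infer_instance
    set θ₂ := QuotientGroup.mk' (S.subgroupOf S)
    have hker2 : ∀ s : S, θ₂ s = 1 ↔ (s : Ω) ∈ S := fun s => QuotientGroup.eq_one_iff s
    have hrange2 : θ₂.range = ⊤ := MonoidHom.range_eq_top.2 (QuotientGroup.mk'_surjective _)
    obtain ⟨Fq, hFq⟩ := exists_factorSystem (F := F) (S' := (⊤ : Subgroup _)) (stronglyClosed_top F) hker2 hrange2
    refine (isSolvableSystem_iff_normal_factor hS hF hEn.1.1 hEn.1.2.2 θ₂ Fq hFq).2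
      ⟨hEsol, isSolvableSystem_bot _ ?_⟩
    refine eq_bot_iff.2 fun x _ => ?_
    obtain ⟨a, rfl⟩ := QuotientGroup.mk'_surjective (S.subgroupOf S) x
    exact Subgroup.mem_bot.2 ((hker2 a).2 a.2)

theorem isPSolvable_ext [Fact p.Prime] : ∀ (n : ℕ) (G : Type v) [Group G] [Finite G] (N : Subgroup G) [N.Normal],
    Nat.card G = n → IsPSolvable p N → IsPSolvable p (G ⧸ N) → IsPSolvable p G := by
  intro n
  induction n using Nat.strong_induction_on with
  | _ n ih =>
  intro G _ _ N hNn hn hN hQ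
  by_cases hbot : N = ⊥
  · exact Cfsg.Lib.Core.isPSolvable_of_surjective
      ((QuotientGroup.quotientMulEquivOfEq hbot).trans QuotientGroup.quotientBot).toMonoidHom
      (MulEquiv.surjective _) hQ
  obtain ⟨M, hM, hMN⟩ := Cfsg.Lib.Core.exists_isMinNormal hNn hbot
  haveI := hM.1
  have hMs : IsPSolvable p M := Cfsg.Lib.Core.HasFactorChain.of_injective Cfsg.Lib.Core.pFactor_dvdClosed
    (Subgroup.inclusion hMN) (Subgroup.inclusion_injective hMN) hN
  haveI : Nontrivial M := (Subgroup.nontrivial_iff_ne_bot M).2 hM.2.1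
  have htop : ∀ (C : Subgroup M), C.Characteristic → C ≠ ⊥ → C = ⊤ := by
    intro C hC hne
    haveI := hC
    rcases hM.inf_eq_bot_or_le (C.map M.subtype) with h | h
    · refine absurd ?_ hne
      rw [inf_eq_right.2 (Subgroup.map_subtype_le C)] at h
      exact (Subgroup.map_eq_bot_iff_of_injective C M.subtype_injective).1 h
    · exact top_le_iff.1 fun x _ => by
        obtain ⟨y, hy, he⟩ := h x.2
        rwa [show y = x from Subtype.ext he] at hy
  have hP : Cfsg.Lib.Core.PFactor p (Nat.card M) := by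
    by_cases h0 : pPrimeCore p M = ⊥
    · have h1 := htop _ Cfsg.Lib.Core.pCore_characteristic (Cfsg.Lib.Core.pCore_ne_bot_of_isPSolvable hMs h0)
      have h2 : IsPGroup p M := ((h1 ▸ Cfsg.Lib.Core.pCore_isPGroup p M : IsPGroup p (⊤ : Subgroup M))).of_equiv Subgroup.topEquiv
      exact Or.inl (IsPGroup.iff_card.1 h2)
    · have h1 := htop _ Cfsg.Lib.Core.pPrimeCore_characteristic h0
      have h2 := Cfsg.Lib.Core.pPrimeCore_coprime p M
      rw [h1, Subgroup.card_top] at h2
      exact Or.inr h2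
  have hlt : Nat.card (G ⧸ M) < n := by
    rw [← hn, ← Subgroup.index_eq_card]
    have h := Subgroup.card_mul_index M
    have : 1 < Nat.card M := Finite.one_lt_card
    have hpos : 0 < M.index := Nat.pos_of_ne_zero Subgroup.index_ne_zero_of_finite
    rw [← h]
    exact lt_mul_of_one_lt_left hpos this
  haveI hNM : (N.map (QuotientGroup.mk' M)).Normal := hNn.map _ (QuotientGroup.mk'_surjective M)
  refine Cfsg.Lib.Core.HasFactorChain.extension M hP (ih _ hlt (G ⧸ M) (N.map (QuotientGroup.mk' M)) rfl ?_ ?_)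
  · exact Cfsg.Lib.Core.isPSolvable_of_surjective ((QuotientGroup.mk' M).subgroupMap N)
      ((QuotientGroup.mk' M).subgroupMap_surjective N) hN
  · exact Cfsg.Lib.Core.isPSolvable_of_surjective
      (QuotientGroup.quotientQuotientEquivQuotient M N hMN).symm.toMonoidHom (MulEquiv.surjective _) hQ

theorem isPSolvable_of_terminating [Fact p.Prime] {S : Subgroup Ω} {F : FusionSystem S}
    (h : F.HasTerminatingResidualSeries p) :
    Finite S → IsPGroup p S → ∀ (G : Type v) [Group G] (ι : S →* G), F.IsModel p G ι → IsPSolvable p G := by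
  have hp : p.Prime := Fact.out
  induction h with
  | @trivial S F p hbot =>
    intro _ _ G _ ι hM
    haveI := Fact.mk hp
    obtain ⟨hfin, hr, ⟨T, hT⟩, hC⟩ := hM
    haveI := hfin
    have hbot' : (T : Subgroup G) = ⊥ := by
      rw [hT]
      refine eq_bot_iff.2 ?_
      rintro _ ⟨x, rfl⟩
      have : x = 1 := Subtype.ext (Subgroup.mem_bot.1 (hbot ▸ x.2))
      rw [this, map_one]
      exact one_mem _
    have hcore : pCore p G = ⊥ := le_bot_iff.1 (hbot' ▸ Cfsg.Lib.Core.pCore_le_sylow T)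
    have htop : (⊤ : Subgroup G) = ⊥ := by
      refine le_bot_iff.1 (le_trans ?_ (hcore ▸ hC))
      intro x _
      rw [Subgroup.mem_centralizer_iff]
      intro y hy
      rw [show y = 1 from hy]; simp
    haveI : Subsingleton G := ⟨fun a b => by
      have ha : a ∈ (⊥ : Subgroup G) := htop ▸ Subgroup.mem_top a
      have hb : b ∈ (⊥ : Subgroup G) := htop ▸ Subgroup.mem_top b
      rw [Subgroup.mem_bot.1 ha, Subgroup.mem_bot.1 hb]⟩
    exact Cfsg.Lib.Core.HasFactorChain.of_subsingleton (G := G) (Cfsg.Lib.Core.PFactor p)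
  | @step S F E p D hE hD _ ih =>
    intro hfin hS G _ ι hM
    haveI := Fact.mk hp
    haveI := hfin
    haveI := hM.1
    obtain ⟨hι, hEM⟩ := pPrimeResidual_model hS hM hE
    obtain ⟨D₀, hD₀, ι', hDM⟩ := exists_pResidual_model hS hEM
    have hDD : D = D₀ := system_eq_of_hom (pResidual_unique hS rfl hD.1 hD.2 hD₀.1 hD₀.2)
    subst hDD
    have hTS : E.hyperfocalSubgroup p ≤ S := hyperfocal_le E
    have hL := ih hp (finite_of_le hTS) (hS.to_le hTS) _ ι' hDM
    -- extensions
    have hK : IsPSolvable p (pElems p G) :=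
      isPSolvable_ext _ _ (pResidual p (pElems p G)) rfl hL
        (Cfsg.Lib.Core.isPSolvable_of_isPGroup Cfsg.Lib.Fusion.isPGroup_quotient_pResidual)
    refine isPSolvable_ext _ G (pElems p G) rfl hK ?_
    have hcop : (Nat.card (G ⧸ pElems p G)).Coprime p := by
      obtain ⟨T, -⟩ := hM.2.2.1
      refine ((Nat.Prime.coprime_iff_not_dvd hp).2 fun hd => T.not_dvd_index ?_).symm
      exact hd.trans (Subgroup.index_dvd_of_le (sylow_le_pElems T))
    refine ⟨1, ![⊥, ⊤], rfl, rfl, ?_, ?_, fun i => ?_⟩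
    · intro a b hab
      fin_cases a <;> fin_cases b <;> simp_all
    · intro i; fin_cases i
      · exact inferInstanceAs ((⊥ : Subgroup _).Normal)
      · exact inferInstanceAs ((⊤ : Subgroup _).Normal)
    · fin_cases i
      right
      simpa [Subgroup.relIndex_top_right, Subgroup.index_bot] using hcop

theorem exists_proper_pFactor [Fact p.Prime] {G : Type v} [Group G] [Finite G] [Nontrivial G]
    (h : IsPSolvable p G) : ∃ N : Subgroup G, N.Normal ∧ N ≠ ⊤ ∧
      ((∃ m, N.index = p ^ m) ∨ N.index.Coprime p) := by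
  obtain ⟨n, H, h0, hl, hm, hn, hi⟩ := h
  have hex : ∀ i : Fin (n + 1), H i = ⊤ → ∃ N : Subgroup G, N.Normal ∧ N ≠ ⊤ ∧
      ((∃ m, N.index = p ^ m) ∨ N.index.Coprime p) := by
    intro i
    induction i using Fin.induction with
    | zero => intro he; exact absurd (h0 ▸ he) bot_ne_top
    | succ i ih =>
      intro he
      by_cases hc : H i.castSucc = ⊤
      · exact ih hc
      · refine ⟨_, hn i.castSucc, hc, ?_⟩
        have := hi i
        rwa [he, Subgroup.relIndex_top_right] at this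
  exact hex _ hl

theorem terminating_of_model [Fact p.Prime] : ∀ (n : ℕ) {S : Subgroup Ω} (F : FusionSystem S),
    Finite S → IsPGroup p S → ∀ (G : Type v) [Group G] (ι : S →* G), F.IsModel p G ι →
      IsPSolvable p G → Nat.card G = n → F.HasTerminatingResidualSeries p := by
  intro n
  induction n using Nat.strong_induction_on with
  | _ n ih =>
  intro S F hfin hS G _ ι hM hsol hn
  haveI := hfin
  by_cases hS1 : S = ⊥
  · exact FusionSystem.HasTerminatingResidualSeries.trivial F p hS1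
  obtain ⟨hG, hr, hT, hC⟩ := id hM
  haveI := hG
  obtain ⟨E, hE⟩ := exists_pPrimeResidual (p := p) hS (isSaturated_of_realized hr hT)
  obtain ⟨hι, hEM⟩ := pPrimeResidual_model hS hM hE
  obtain ⟨D, hD, ι', hDM⟩ := exists_pResidual_model hS hEM
  have hTS : E.hyperfocalSubgroup p ≤ S := hyperfocal_le E
  refine FusionSystem.HasTerminatingResidualSeries.step F E p D hE hD (ih _ ?_ D (finite_of_le hTS) (hS.to_le hTS) _ ι' hDM
    (Cfsg.Lib.Core.isPSolvable_subgroup (Cfsg.Lib.Core.isPSolvable_subgroup hsol _) _) rfl)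
  haveI : Nontrivial G := by
    obtain ⟨x, hx, hx1⟩ := (Subgroup.ne_bot_iff_exists_ne_one).1 hS1 |>.elim fun a ha =>
      (⟨a.1, a.2, fun h => ha (Subtype.ext h)⟩ : ∃ x, x ∈ S ∧ x ≠ 1)
    exact ⟨⟨ι ⟨x, hx⟩, 1, fun h => hx1 (congrArg Subtype.val (hr.1 (h.trans (map_one ι).symm)))⟩⟩
  obtain ⟨N, hN, hNne, hidx⟩ := exists_proper_pFactor (p := p) hsol
  haveI := hN
  have hcard : ∀ H : Subgroup G, H ≠ ⊤ → Nat.card H < Nat.card G := fun H hH => by
    refine lt_of_le_of_ne (Subgroup.card_le_card_group H) fun h => hH ?_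
    exact Subgroup.eq_top_of_card_eq H h
  rw [← hn]
  have hKle : Nat.card (pResidual p (pElems p G)) ≤ Nat.card (pElems p G) := Subgroup.card_le_card_group _
  rcases hidx with ⟨m, hm⟩ | hcop
  · refine lt_of_eq_of_lt (Subgroup.card_subtype _ _).symm (hcard _ fun h => hNne ?_)
    have h1 : (pResidual p (pElems p G)).map (pElems p G).subtype ≤ N := by
      refine (Cfsg.Lib.Fusion.map_subtype_pResidual_le (pElems p G)).trans ?_
      have := Cfsg.Lib.Fusion.pResidual_le_ker (p := p) (A := G ⧸ N)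
        (IsPGroup.of_card (n := m) (by rw [← hm]; rfl)) (QuotientGroup.mk' N)
      rwa [QuotientGroup.ker_mk'] at this
    exact top_le_iff.1 (h ▸ h1)
  · refine lt_of_le_of_lt hKle (hcard _ fun h => hNne (top_le_iff.1 (h ▸ ?_)))
    refine (Subgroup.closure_le _).2 fun g hg => ?_
    obtain ⟨k, hk⟩ := hg
    have h1 : orderOf (QuotientGroup.mk' N g) ∣ p ^ k := hk ▸ orderOf_map_dvd _ g
    have h2 : orderOf (QuotientGroup.mk' N g) ∣ N.index := by
      rw [Subgroup.index_eq_card]; exact orderOf_dvd_natCard _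
    have h3 : orderOf (QuotientGroup.mk' N g) = 1 :=
      Nat.eq_one_of_dvd_coprimes (Nat.Coprime.pow_right k hcop) h2 h1
    exact (QuotientGroup.eq_one_iff g).1 (orderOf_eq_one_iff.1 h3)

theorem terminating_iff [Fact p.Prime] {S : Subgroup Ω} [Finite S] (hS : IsPGroup p S) (F : FusionSystem S)
    (hF : F.IsSaturated p) : F.HasTerminatingResidualSeries p ↔
      (F.IsConstrained p ∧ ∀ (G : Type u) [Group G] (ι : S →* G), F.IsModel p G ι → IsPSolvable p G) := by
  constructor
  · intro h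
    exact ⟨isConstrained_of_solvable hS hF (isSolvableSystem_of_terminating h inferInstance hS hF),
      fun G _ ι hM => isPSolvable_of_terminating h inferInstance hS G ι hM⟩
  · rintro ⟨hc, hall⟩
    obtain ⟨G, hG, ι, hM⟩ := exists_model hS hc
    exact terminating_of_model _ F inferInstance hS G ι hM (hall G ι hM) rfl

end Cfsg.Lib.FusionSys
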