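import Cfsg.Agent.Lib.FusionSys.ExtremelySparse
import Cfsg.Agent.Lib.FusionSys.SylowTwoPSL
import Cfsg.Agent.Lib.Fusion.Alperin
import Cfsg.Agent.Lib.Linear.SLBasic
import Cfsg.Agent.Lib.TwoGroup.QuasiDihedral
import Cfsg.Agent.Lib.Local.LargeQuasisimple
import Cfsg.Agent.S1217
import Cfsg.Agent.S1447
import Cfsg.Agent.S1896
import Cfsg.Prelude.Def_OddOrderLocal
import Mathlib.NumberTheory.LSeries.PrimesInAP
import Mathlib.GroupTheory.SpecificGroups.KleinFour

/-!
Metacyclic groups carrying only supersoluble saturated fusion systems.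
-/

set_option autoImplicit false

universe u v

namespace Cfsg.Lib.FusionSys.MetacyclicType

open Cfsg Cfsg.FusionSystem Subgroup Matrix

/-- A finite group without normal `p`-complement whose Sylow `p`-subgroup has a `p`-group as automorphism
group realises a system in which the Sylow subgroup is not normal. -/
theorem not_resistant_of_group {Ω : Type u} [Group Ω] {S : Subgroup Ω} [Finite S] {p : ℕ} [Fact p.Prime]
    (hA : IsPGroup p (MulAut S)) {G : Type v} [Group G] [Finite G]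
    (hG : ¬ HasNormalPComplement p G) (P : Sylow p G) (e : S ≃* (P : Subgroup G)) :
    ¬ ∀ F : FusionSystem S, F.IsSaturated p → F.IsNormal S := by
  intro hres
  let ι : S →* G := (P : Subgroup G).subtype.comp e.toMonoidHom
  have hι : Function.Injective ι := Subtype.coe_injective.comp e.injective
  have hιP : ∀ s : S, ι s ∈ (P : Subgroup G) := fun s => (e s).2
  let F := pullSystem ι hι ⊤ (le_refl S) (fun _ => mem_top _)
  have hrF : F.IsRealizedBy ι := by
    refine ⟨hι, fun Q hQ φ hφ => ⟨?_, ?_⟩⟩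
    · rintro ⟨-, -, g, -, hg⟩
      exact ⟨g, fun x => hg x (hQ x.2) (hφ x)⟩
    · rintro ⟨g, hg⟩
      exact ⟨hQ, hφ, g, mem_top _, fun x _ _ => hg x⟩
  have hrange : ι.range = (P : Subgroup G) := by
    ext y
    exact ⟨fun ⟨s, hs⟩ => hs ▸ hιP s, fun hy => ⟨e.symm ⟨y, hy⟩, by simp [ι]⟩⟩
  obtain ⟨-, hext⟩ := hres F (isSaturated_of_realized hrF ⟨P, hrange.symm⟩)
  refine hG ((Cfsg.Lib.Fusion.frobenius P).mpr fun Q hQ g hg hco => ?_)
  let Q' : Subgroup Ω := (Q.comap ι).map S.subtype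
  have hQ' : Q' ≤ S := map_subtype_le _
  have hmem : ∀ x : Q', ι (Subgroup.inclusion hQ' x) ∈ Q := by
    rintro ⟨x, s, hs, rfl⟩
    exact hs
  let f : Q' →* (P : Subgroup G) :=
    ((MulAut.conj g).toMonoidHom.comp (ι.comp (Subgroup.inclusion hQ'))).codRestrict _ fun x =>
      hQ ((mem_normalizer_iff.mp hg _).mp (hmem x))
  let φ : Q' →* Ω := S.subtype.comp (e.symm.toMonoidHom.comp f)
  have hφ : φ ∈ F.Hom Q' := by
    refine ⟨hQ', fun x => (e.symm (f x)).2, g, mem_top _, fun x hx hv => ?_⟩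
    show ι ⟨φ x, hv⟩ = _
    rw [show (⟨φ x, hv⟩ : S) = e.symm (f x) from rfl]
    simp [ι, f, Subgroup.inclusion]
  obtain ⟨ψ, ⟨-, hψv, g', -, hg'⟩, hψφ, -⟩ := hext Q' φ hφ
  have hle : ∀ s : S, (s : Ω) ∈ Q' ⊔ S := fun s => mem_sup_right s.2
  have hN : g' ∈ normalizer ((P : Subgroup G) : Set G) := by
    refine mem_normalizer_fintype fun y hy => ?_
    obtain ⟨s, rfl⟩ : ∃ s : S, ι s = y := hrange.symm.le hy
    exact hg' ⟨s, hle s⟩ s.2 (hψv _) ▸ hιP ⟨_, hψv _⟩
  obtain ⟨k, hk⟩ := (hA.of_equiv (MulAut.congr e)) ((P : Subgroup G).normalizerMonoidHom ⟨g', hN⟩)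
  have hfix : ∀ y ∈ (P : Subgroup G), g' ^ p ^ k * y * (g' ^ p ^ k)⁻¹ = y := by
    intro y hy
    have h1 := congrArg Subtype.val (DFunLike.congr_fun hk ⟨y, hy⟩)
    rw [← map_pow] at h1
    exact h1
  have hstep : ∀ y ∈ Q, g * y * g⁻¹ = g' * y * g'⁻¹ := by
    intro y hy
    obtain ⟨s, rfl⟩ : ∃ s : S, ι s = y := hrange.symm.le (hQ hy)
    have hs : (s : Ω) ∈ Q' := ⟨s, hy, rfl⟩
    have h1 := hg' (Subgroup.inclusion le_sup_left ⟨s, hs⟩) s.2 (hψv _)
    have h2 : (⟨ψ (Subgroup.inclusion le_sup_left ⟨s, hs⟩), hψv _⟩ : S) = e.symm (f ⟨s, hs⟩) :=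
      Subtype.ext (hψφ ⟨s, hs⟩)
    rw [h2] at h1
    simp only [ι, f, MonoidHom.coe_comp, Function.comp_apply, MulEquiv.coe_toMonoidHom,
      MulEquiv.apply_symm_apply] at h1
    exact h1
  have hpow : ∀ (n : ℕ) (y : G), y ∈ Q → g ^ n * y * (g ^ n)⁻¹ = g' ^ n * y * (g' ^ n)⁻¹ := by
    intro n
    induction n with
    | zero => simp
    | succ n ih =>
      intro y hy
      have hy' : g * y * g⁻¹ ∈ Q := (mem_normalizer_iff.mp hg y).mp hy
      calc g ^ (n + 1) * y * (g ^ (n + 1))⁻¹ = g ^ n * (g * y * g⁻¹) * (g ^ n)⁻¹ := by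
            rw [pow_succ]; group
        _ = g' ^ n * (g * y * g⁻¹) * (g' ^ n)⁻¹ := ih _ hy'
        _ = g' ^ (n + 1) * y * (g' ^ (n + 1))⁻¹ := by rw [hstep y hy, pow_succ]; group
  have hc : g ^ p ^ k ∈ centralizer (Q : Set G) := fun y hy => by
    have h1 := hpow (p ^ k) y hy
    rw [hfix y (hQ hy), mul_inv_eq_iff_eq_mul] at h1
    exact h1.symm
  obtain ⟨m, hm⟩ := exists_pow_eq_self_of_coprime (x := g) (n := p ^ k) (hco.symm.pow_left k)
  rw [← hm]
  exact pow_mem hc m

/-- `PSL_2(q)`, `q ≥ 5` odd, has no normal `2`-complement. -/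
theorem not_two_complement_psl {F : Type} [Field F] [Fintype F] (hF : Odd (Fintype.card F))
    (h5 : 5 ≤ Fintype.card F) :
    ¬ HasNormalPComplement 2 (ProjectiveSpecialLinearGroup (Fin 2) F) := by
  classical
  haveI : Fact (Nat.Prime 2) := ⟨Nat.prime_two⟩
  haveI : IsSimpleGroup (ProjectiveSpecialLinearGroup (Fin 2) F) :=
    Cfsg.Lib.Linear.PSL_simple 2 le_rfl fun _ => by rw [Nat.card_eq_fintype_card]; omega
  have hc := Cfsg.Lib.Linear.Two.card_PSL_two (F := F)
  set q := Fintype.card F with hq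
  obtain ⟨r, hr⟩ := hF
  have hg : Nat.gcd 2 (q - 1) = 2 := Nat.gcd_eq_left ⟨r, by omega⟩
  rw [hg] at hc
  have he : q ^ 2 - 1 = 4 * (r * (r + 1)) := by rw [hr]; ring_nf; omega
  obtain ⟨w, hw⟩ := Nat.even_mul_succ_self r
  rw [he, hw] at hc
  intro h
  obtain ⟨P⟩ : Nonempty (Sylow 2 (ProjectiveSpecialLinearGroup (Fin 2) F)) := inferInstance
  obtain ⟨N, hN, hcomp⟩ := (Cfsg.Lib.Fusion.hasNormalPComplement_iff_exists P).mp h
  obtain ⟨a, ha⟩ := IsPGroup.iff_card.mp P.2
  rcases hN.eq_bot_or_eq_top with rfl | rfl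
  · have hcm := hcomp.card_mul
    rw [Subgroup.card_bot, one_mul, ha] at hcm
    have hdvd : q ∣ 2 ^ (a + 1) := ⟨4 * (w + w), by rw [pow_succ', hcm]; exact hc⟩
    obtain ⟨i, -, hi⟩ := (Nat.dvd_prime_pow Nat.prime_two).mp hdvd
    rcases i with _ | i
    · simp at hi; omega
    · rw [pow_succ] at hi; omega
  · have hb : (P : Subgroup (ProjectiveSpecialLinearGroup (Fin 2) F)) = ⊥ :=
      (disjoint_top.mp hcomp.disjoint.symm)
    refine P.not_dvd_index ?_
    rw [hb, Subgroup.index_bot]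
    exact ⟨q * 2 * w, mul_left_cancel₀ (two_ne_zero' ℕ) (by rw [hc]; ring)⟩

theorem not_two_complement_sl {F : Type} [Field F] [Fintype F] (hF : Odd (Fintype.card F))
    (h5 : 5 ≤ Fintype.card F) :
    ¬ HasNormalPComplement 2 (SpecialLinearGroup (Fin 2) F) := fun h =>
  haveI : Fact (Nat.Prime 2) := ⟨Nat.prime_two⟩
  not_two_complement_psl hF h5
    (Cfsg.Lib.Fusion.hasNormalPComplement_of_surjective (QuotientGroup.mk' _)
      (QuotientGroup.mk'_surjective _) h)

theorem not_two_complement_gl {F : Type} [Field F] [Fintype F] (hF : Odd (Fintype.card F))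
    (h5 : 5 ≤ Fintype.card F) :
    ¬ HasNormalPComplement 2 (GL (Fin 2) F) := by
  classical
  haveI : Fact (Nat.Prime 2) := ⟨Nat.prime_two⟩
  exact fun h => not_two_complement_sl hF h5
    (Cfsg.Lib.Fusion.hasNormalPComplement_of_injective SpecialLinearGroup.toGL
      SpecialLinearGroup.toGL_injective h)

theorem sylow_two_card {G : Type*} [Group G] [Finite G] (P : Sylow 2 G) {a m : ℕ}
    (h : Nat.card G = 2 ^ a * m) (hm : Odd m) : Nat.card (P : Subgroup G) = 2 ^ a := by
  haveI : Fact (Nat.Prime 2) := ⟨Nat.prime_two⟩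
  rw [P.card_eq_multiplicity, h, Nat.factorization_mul (by positivity) hm.pos.ne',
    Nat.Prime.factorization_pow Nat.prime_two]
  simp [Nat.factorization_eq_zero_of_not_dvd hm.not_two_dvd_nat]

/-- A prime with prescribed exact power of two below it. -/
theorem exists_prime_sub_one {a : ℕ} (ha : 1 ≤ a) :
    ∃ q : ℕ, q.Prime ∧ 5 ≤ q ∧ Odd q ∧ ∃ t : ℕ, q = 2 ^ a * (2 * t + 1) + 1 := by
  have h2 : 2 ≤ 2 ^ a := by simpa using Nat.pow_le_pow_right two_pos ha
  obtain ⟨q, hq, hp, hmod⟩ := Nat.forall_exists_prime_gt_and_modEq (2 ^ a + 5) (q := 2 ^ (a + 1))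
    (a := 2 ^ a + 1) (by positivity) (by
      refine Nat.Coprime.pow_right _ (Nat.coprime_two_right.mpr ?_)
      exact (Nat.even_pow.mpr ⟨even_two, by omega⟩).add_one)
  have h1 : 2 ^ a + 1 ≤ q := by omega
  obtain ⟨t, ht⟩ := (Nat.modEq_iff_dvd' h1).mp hmod.symm
  refine ⟨q, hp, by omega, hp.odd_of_ne_two (by omega), t, ?_⟩
  rw [pow_succ, mul_assoc] at ht
  rw [mul_add, mul_one]
  omega

/-- A prime with prescribed exact power of two above it. -/
theorem exists_prime_add_one {a : ℕ} (ha : 1 ≤ a) :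
    ∃ q : ℕ, q.Prime ∧ 5 ≤ q ∧ ∃ t : ℕ, q + 1 = 2 ^ a * (2 * t + 1) := by
  have h2 : 2 ≤ 2 ^ a := by simpa using Nat.pow_le_pow_right two_pos ha
  obtain ⟨q, hq, hp, hmod⟩ := Nat.forall_exists_prime_gt_and_modEq (2 ^ a + 5) (q := 2 ^ (a + 1))
    (a := 2 ^ a - 1) (by positivity) (by
      refine Nat.Coprime.pow_right _ (Nat.coprime_two_right.mpr ?_)
      refine Nat.Even.sub_odd (by omega) (Nat.even_pow.mpr ⟨even_two, by omega⟩) odd_one)
  have h1 : 2 ^ a - 1 ≤ q := by omega
  obtain ⟨t, ht⟩ := (Nat.modEq_iff_dvd' h1).mp hmod.symm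
  refine ⟨q, hp, by omega, t, ?_⟩
  rw [pow_succ, mul_assoc] at ht
  rw [mul_add, mul_one]
  omega

/-- Quasi-dihedral groups are determined by their order. -/
theorem sd_nonempty_mulEquiv {S : Type*} {T : Type*} [Group S] [Group T] [Finite S] [Finite T] {n : ℕ}
    (d : TwoGroup.SD S n) (c : TwoGroup.SD T n) : Nonempty (S ≃* T) := by
  classical
  let f : ℤ × Bool → S := fun a => d.x ^ a.1 * if a.2 then d.y else 1
  let h : ℤ × Bool → T := fun a => c.x ^ a.1 * if a.2 then c.y else 1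
  have hf : Function.Surjective f := fun s => by
    obtain ⟨k, rfl | rfl⟩ := d.normal_form s
    · exact ⟨(k, false), by simp [f]⟩
    · exact ⟨(k, true), by simp [f]⟩
  have hh : Function.Surjective h := fun s => by
    obtain ⟨k, rfl | rfl⟩ := c.normal_form s
    · exact ⟨(k, false), by simp [h]⟩
    · exact ⟨(k, true), by simp [h]⟩
  have heq : ∀ a b, f a = f b ↔ h a = h b := by
    rintro ⟨k, _ | _⟩ ⟨l, _ | _⟩ <;>
      simp only [f, h, Bool.false_eq_true, if_false, if_true, mul_one, mul_left_inj]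
    · rw [d.zx, c.zx]
    · exact iff_of_false (d.ne_mul_y k l) (c.ne_mul_y k l)
    · exact iff_of_false (d.ne_mul_y l k).symm (c.ne_mul_y l k).symm
    · rw [d.zx, c.zx]
  have hmul : ∀ a b, ∃ r, f a * f b = f r ∧ h a * h b = h r := by
    rintro ⟨k, _ | _⟩ ⟨l, _ | _⟩
    · exact ⟨(k + l, false), by simp [f, _root_.zpow_add], by simp [h, _root_.zpow_add]⟩
    · exact ⟨(k + l, true), by simp [f, _root_.zpow_add, mul_assoc], by simp [h, _root_.zpow_add, mul_assoc]⟩
    · refine ⟨(k + (2 * TwoGroup.SD.P n - 1) * l, true), ?_, ?_⟩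
      · simp [f, _root_.zpow_add, mul_assoc, d.y_mul]
      · simp [h, _root_.zpow_add, mul_assoc, c.y_mul]
    · exact ⟨(k + (2 * TwoGroup.SD.P n - 1) * l, false), by simp [f, d.mul_rule],
        by simp [h, c.mul_rule]⟩
  let g : S → T := fun s => h (Function.surjInv hf s)
  have hg : ∀ a, g (f a) = h a := fun a => (heq _ _).mp (Function.surjInv_eq hf _)
  refine ⟨MulEquiv.ofBijective (MonoidHom.mk' g ?_) ⟨?_, ?_⟩⟩
  · intro s t
    obtain ⟨a, rfl⟩ := hf s
    obtain ⟨b, rfl⟩ := hf t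
    obtain ⟨r, h1, h2⟩ := hmul a b
    rw [h1, hg, hg, hg, h2]
  · intro s t hst
    obtain ⟨a, rfl⟩ := hf s
    obtain ⟨b, rfl⟩ := hf t
    simp only [MonoidHom.mk'_apply, hg] at hst
    exact (heq a b).mpr hst
  · intro t
    obtain ⟨a, rfl⟩ := hh t
    exact ⟨f a, hg a⟩

variable {Ω : Type u} [Group Ω] {S : Subgroup Ω} [Finite S]

theorem not_resistant_dihedral (hA : IsPGroup 2 (MulAut S)) {j : ℕ} (hj : 2 ≤ j)
    (e : S ≃* DihedralGroup (2 ^ j)) :
    ¬ ∀ F : FusionSystem S, F.IsSaturated 2 → F.IsNormal S := by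
  classical
  haveI : Fact (Nat.Prime 2) := ⟨Nat.prime_two⟩
  obtain ⟨q, hq, h5, hodd, t, ht⟩ := exists_prime_sub_one (a := j + 1) (by omega)
  haveI : Fact q.Prime := ⟨hq⟩
  have hF : Odd (Fintype.card (ZMod q)) := by rwa [ZMod.card]
  have hc := Cfsg.Lib.Linear.Two.card_PSL_two (F := ZMod q)
  rw [ZMod.card] at hc
  have hg : Nat.gcd 2 (q - 1) = 2 := Nat.gcd_eq_left ⟨2 ^ j * (2 * t + 1), by rw [ht, pow_succ]; ring_nf; omega⟩
  have he : q ^ 2 - 1 = 2 ^ (j + 2) * ((2 * t + 1) * (2 ^ j * (2 * t + 1) + 1)) := by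
    rw [show q ^ 2 = 2 ^ (j + 2) * ((2 * t + 1) * (2 ^ j * (2 * t + 1) + 1)) + 1 by rw [ht]; ring]
    omega
  rw [hg, he] at hc
  obtain ⟨P⟩ : Nonempty (Sylow 2 (ProjectiveSpecialLinearGroup (Fin 2) (ZMod q))) := inferInstance
  obtain ⟨n, -, ⟨eP⟩⟩ := Cfsg.Lib.FusionSys.Lin.sylow_psl_two_equiv_dihedral hF (by
    rw [ZMod.card, he]
    exact Dvd.dvd.mul_right (pow_dvd_pow 2 (show 4 ≤ j + 2 by omega)) _) P
  have hP := sylow_two_card P (a := j + 1) (m := q * ((2 * t + 1) * (2 ^ j * (2 * t + 1) + 1)))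
    (mul_left_cancel₀ (two_ne_zero' ℕ) (by rw [hc]; ring))
    (hodd.mul ((odd_two_mul_add_one t).mul
      ((Even.mul_right (Nat.even_pow.mpr ⟨even_two, by omega⟩) _).add_one)))
  rw [Nat.card_congr eP.toEquiv, DihedralGroup.nat_card, pow_succ'] at hP
  obtain rfl : n = 2 ^ j := by omega
  exact not_resistant_of_group hA (not_two_complement_psl hF (by rwa [ZMod.card])) P (e.trans eP.symm)

theorem not_resistant_quaternion (hA : IsPGroup 2 (MulAut S)) {j : ℕ} (hj : 2 ≤ j)
    (e : S ≃* QuaternionGroup (2 ^ j)) :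
    ¬ ∀ F : FusionSystem S, F.IsSaturated 2 → F.IsNormal S := by
  classical
  haveI : Fact (Nat.Prime 2) := ⟨Nat.prime_two⟩
  obtain ⟨q, hq, h5, hodd, t, ht⟩ := exists_prime_sub_one (a := j + 1) (by omega)
  haveI : Fact q.Prime := ⟨hq⟩
  have hF : Odd (Fintype.card (ZMod q)) := by rwa [ZMod.card]
  have hc := Cfsg.Lib.Linear.Two.card_SL_two (F := ZMod q)
  rw [ZMod.card, show q ^ 2 = 2 ^ (j + 2) * ((2 * t + 1) * (2 ^ j * (2 * t + 1) + 1)) + 1 by rw [ht]; ring,
    Nat.add_sub_cancel] at hc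
  obtain ⟨P⟩ : Nonempty (Sylow 2 (SpecialLinearGroup (Fin 2) (ZMod q))) := inferInstance
  obtain ⟨k, -, ⟨eP⟩⟩ := Cfsg.Agent.S0261.result hF P
  have hP := sylow_two_card P (a := j + 2) (m := q * ((2 * t + 1) * (2 ^ j * (2 * t + 1) + 1)))
    (by rw [hc]; ring)
    (hodd.mul ((odd_two_mul_add_one t).mul
      ((Even.mul_right (Nat.even_pow.mpr ⟨even_two, by omega⟩) _).add_one)))
  haveI : NeZero (2 ^ k) := ⟨by positivity⟩
  rw [Nat.card_congr eP.toEquiv, Nat.card_eq_fintype_card, QuaternionGroup.card,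
    show (4 : ℕ) = 2 ^ 2 from rfl, ← pow_add] at hP
  obtain rfl : k = j := by have := Nat.pow_right_injective le_rfl hP; omega
  exact not_resistant_of_group hA (not_two_complement_sl hF (by rwa [ZMod.card])) P (e.trans eP.symm)

theorem not_resistant_quasiDihedral (hA : IsPGroup 2 (MulAut S)) (h : IsQuasiDihedral S) :
    ¬ ∀ F : FusionSystem S, F.IsSaturated 2 → F.IsNormal S := by
  classical
  haveI : Fact (Nat.Prime 2) := ⟨Nat.prime_two⟩
  obtain ⟨n, ⟨d⟩⟩ := TwoGroup.exists_sd h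
  obtain ⟨m, rfl⟩ : ∃ m, n = m + 3 := ⟨n - 3, by have := d.three_le; omega⟩
  obtain ⟨q, hq, h5, t, ht⟩ := exists_prime_add_one (a := m + 2) (by omega)
  haveI : Fact q.Prime := ⟨hq⟩
  have hodd : Odd q := hq.odd_of_ne_two (by omega)
  have hF : Odd (Fintype.card (ZMod q)) := by rwa [ZMod.card]
  have h4 : 2 ^ (m + 2) * (2 * t + 1) = 4 * (2 ^ m * (2 * t + 1)) := by ring
  have hc := Cfsg.Agent.S1217.card_gl (F := ZMod q)
  have hq1 : q - 1 = 2 * (2 ^ (m + 1) * (2 * t + 1) - 1) := by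
    have : 2 ^ (m + 2) * (2 * t + 1) = 2 * (2 ^ (m + 1) * (2 * t + 1)) := by ring
    omega
  rw [ZMod.card, hq1, ht] at hc
  obtain ⟨P⟩ : Nonempty (Sylow 2 (GL (Fin 2) (ZMod q))) := inferInstance
  have hQ : IsQuasiDihedral (P : Subgroup (GL (Fin 2) (ZMod q))) :=
    (Cfsg.Agent.S1217.result P).1 (by rw [ZMod.card]; omega)
  set x := 2 ^ (m + 1) * (2 * t + 1) - 1 with hx
  have hxo : Odd x := Nat.Even.sub_odd (Nat.one_le_iff_ne_zero.mpr (by positivity))
    (Even.mul_right (Nat.even_pow.mpr ⟨even_two, by omega⟩) _) odd_one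
  have hP := sylow_two_card P (a := m + 4) (m := x * x * (2 * t + 1) * q)
    (by rw [hc]; ring) (((hxo.mul hxo).mul (odd_two_mul_add_one t)).mul hodd)
  obtain ⟨c⟩ := TwoGroup.sd_of_card hQ (n := m + 3) hP
  obtain ⟨e⟩ := sd_nonempty_mulEquiv d c
  exact not_resistant_of_group hA (not_two_complement_gl hF (by rwa [ZMod.card])) P e

theorem card_le_of_exponent {Y : Type*} [Group Y] [Finite Y] [IsCyclic Y] {p : ℕ} (hp : 0 < p)
    (hy : ∀ y : Y, y ^ p = 1) : Nat.card Y ≤ p := by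
  obtain ⟨g, hg⟩ := IsCyclic.exists_ofOrder_eq_natCard (α := Y)
  exact hg ▸ Nat.le_of_dvd hp (orderOf_dvd_of_pow_eq_one (hy g))

/-- A metacyclic group has no elementary abelian subgroup of order `p ^ 3`. -/
theorem no_rank_three {X : Type*} [Group X] [Finite X] {p : ℕ} [Fact p.Prime] (hm : IsMetacyclic X)
    (f : Multiplicative (ZMod p) × Multiplicative (ZMod p) × Multiplicative (ZMod p) →* X)
    (hf : Function.Injective f) : False := by
  obtain ⟨N, hN, hNc, hQc⟩ := hm
  set E := Multiplicative (ZMod p) × Multiplicative (ZMod p) × Multiplicative (ZMod p)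
  have hpE : ∀ x : E, x ^ p = 1 := by
    have h1 : ∀ x : Multiplicative (ZMod p), x ^ p = 1 := fun x => by
      have := pow_card_eq_one' (x := x)
      simpa using this
    exact fun x => Prod.ext (h1 _) (Prod.ext (h1 _) (h1 _))
  haveI := hNc
  haveI := hQc
  let π := (QuotientGroup.mk' N).comp f
  haveI : IsCyclic π.ker := by
    let j : π.ker →* N := (f.comp π.ker.subtype).codRestrict N fun x =>
      (QuotientGroup.eq_one_iff _).mp x.2
    exact isCyclic_of_injective j fun a b hab =>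
      Subtype.ext (hf (congrArg Subtype.val hab :))
  have h1 : Nat.card π.ker ≤ p := card_le_of_exponent (Fact.out : p.Prime).pos fun y => Subtype.ext (hpE y)
  have h2 : Nat.card π.range ≤ p := card_le_of_exponent (Fact.out : p.Prime).pos fun y => by
    obtain ⟨_, x, rfl⟩ := y
    exact Subtype.ext (show π x ^ p = 1 by rw [← map_pow, hpE, map_one])
  have h3 := π.ker.card_mul_index
  rw [Subgroup.index_ker] at h3
  have h4 : Nat.card E = p * (p * p) := by simp [E, Nat.card_prod]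
  have := Nat.mul_le_mul h1 h2
  have := (Fact.out : p.Prime).two_le
  nlinarith

/-- A metacyclic group with a repeated invariant is homocyclic of rank two. -/
theorem repeat_homocyclic {X : Type*} [Group X] [Finite X] {p : ℕ} [Fact p.Prime] (hX : IsPGroup p X)
    (hm : IsMetacyclic X) {n : ℕ} (hn : 0 < n) {H : Type} [CommGroup H]
    (e : X ≃* (Multiplicative (ZMod (p ^ n)) × Multiplicative (ZMod (p ^ n))) × H) :
    Nonempty (X ≃* Multiplicative (ZMod (p ^ n)) × Multiplicative (ZMod (p ^ n))) := by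
  haveI : NeZero (p ^ n) := ⟨pow_ne_zero _ (Fact.out : p.Prime).ne_zero⟩
  haveI : Finite H := Finite.of_surjective (fun x => (e x).2)
    ((Prod.snd_surjective).comp e.surjective)
  have hH : IsPGroup p H := hX.of_surjective ((MonoidHom.snd _ _).comp e.toMonoidHom)
    (Prod.snd_surjective.comp e.surjective)
  by_cases h1 : Nat.card H = 1
  · haveI : Subsingleton H := (Nat.card_eq_one_iff_unique.mp h1).1
    haveI : Unique H := uniqueOfSubsingleton 1
    exact ⟨e.trans MulEquiv.prodUnique⟩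
  exfalso
  obtain ⟨k, hk⟩ := IsPGroup.iff_card.mp hH
  have hdvd : p ∣ Nat.card H := by
    rw [hk]; refine dvd_pow_self p ?_; rintro rfl; exact h1 (by simpa using hk)
  obtain ⟨y, hy⟩ := exists_prime_orderOf_dvd_card' p hdvd
  obtain ⟨x, hx⟩ := exists_prime_orderOf_dvd_card' (G := Multiplicative (ZMod (p ^ n))) p
    (by simpa using dvd_pow_self p hn.ne')
  have mk : ∀ {A : Type} [Group A] (a : A), orderOf a = p →
      ∃ g : Multiplicative (ZMod p) →* A, Function.Injective g := by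
    intro A _ a ha
    have hz : IsCyclic (zpowers a) := inferInstance
    let i : Multiplicative (ZMod p) ≃* zpowers a := mulEquivOfCyclicCardEq (by simp [Nat.card_zpowers, ha])
    exact ⟨(zpowers a).subtype.comp i.toMonoidHom, Subtype.coe_injective.comp i.injective⟩
  obtain ⟨gx, hgx⟩ := mk x hx
  obtain ⟨gy, hgy⟩ := mk y hy
  refine no_rank_three hm (e.symm.toMonoidHom.comp (MonoidHom.prod
    (MonoidHom.prodMap gx (gx.comp (MonoidHom.fst _ _)))
    (gy.comp ((MonoidHom.snd _ _).comp (MonoidHom.snd _ _))))) ?_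
  refine e.symm.injective.comp ?_
  rintro ⟨a, b, c⟩ ⟨a', b', c'⟩ h
  simp only [MonoidHom.prod_apply, MonoidHom.coe_comp, MonoidHom.prodMap_def, Function.comp_apply,
    MonoidHom.coe_fst, MonoidHom.coe_snd, Prod.mk.injEq] at h
  obtain ⟨⟨h1, h2⟩, h3⟩ := h
  rw [hgx h1, hgx h2, hgy h3]

theorem mulAut_cyclic_pow_sub_one {C : Type*} [Group C] [Finite C] [IsCyclic C] {p : ℕ} [Fact p.Prime]
    (hC : IsPGroup p C) {α : MulAut C} (h : (orderOf α).Coprime p) : α ^ (p - 1) = 1 := by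
  obtain ⟨k, hk⟩ := IsPGroup.iff_card.mp hC
  haveI : NeZero (Nat.card C) := ⟨Nat.card_pos.ne'⟩
  have h1 : orderOf α ∣ Nat.totient (Nat.card C) := by
    rw [← orderOf_injective (IsCyclic.mulAutMulEquiv C).toMonoidHom (MulEquiv.injective _),
      ← ZMod.card_units_eq_totient]
    exact orderOf_dvd_card
  rw [← orderOf_dvd_iff_pow_eq_one]
  rw [hk] at h1
  rcases k with _ | k
  · rw [pow_zero, Nat.totient_one, Nat.dvd_one] at h1
    rw [h1]; exact one_dvd _
  · rw [Nat.totient_prime_pow_succ Fact.out] at h1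
    exact (h.pow_right k).dvd_of_dvd_mul_left h1

/-- Coprime automorphism groups of a non-abelian metacyclic group of odd order. -/
theorem abelian_exponent_of_odd {X : Type u} [Group X] [Finite X] {p : ℕ} [Fact p.Prime] (hp : p ≠ 2)
    (hX : IsPGroup p X) (hm : IsMetacyclic X) (hna : ¬ IsMulCommutative X) (H : Subgroup (MulAut X))
    (hcop : (Nat.card H).Coprime p) : IsMulCommutative H ∧ ∀ h ∈ H, h ^ (p - 1) = 1 := by
  classical
  let G := SemidirectProduct X H H.subtype
  haveI : Finite G := Nat.finite_of_card_ne_zero (by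
    rw [SemidirectProduct.card]; exact Nat.mul_pos Nat.card_pos Nat.card_pos |>.ne')
  let R : Subgroup G := (SemidirectProduct.inl : X →* G).range
  let A : Subgroup G := (SemidirectProduct.inr : H →* G).range
  let eR : X ≃* R := MonoidHom.ofInjective SemidirectProduct.inl_injective
  let eA : H ≃* A := MonoidHom.ofInjective SemidirectProduct.inr_injective
  haveI : R.Normal := by
    show ((SemidirectProduct.inl : X →* G).range).Normal
    rw [SemidirectProduct.range_inl_eq_ker_rightHom]; infer_instance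
  have hA : A ≤ normalizer (R : Set G) := normalizer_eq_top (H := R) ▸ le_top
  have hRp : IsPGroup p R := hX.of_equiv eR
  have hmR : IsMetacyclic R :=
    Cfsg.Lib.PGroup.Huppert.isMetacyclic_map eR.toMonoidHom eR.surjective hm
  obtain ⟨-, hsup, -, hrest⟩ := Cfsg.Agent.S1447.result p hp R A hRp hmR hA
    (by rwa [← Nat.card_congr eA.toEquiv])
  have haut : ∀ (h : H) (x : X), (SemidirectProduct.inr h : G) * SemidirectProduct.inl x *
      (SemidirectProduct.inr h)⁻¹ = SemidirectProduct.inl ((h : MulAut X) x) := fun h x => by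
    rw [← map_inv]; exact (SemidirectProduct.inl_aut (φ := H.subtype) h x).symm
  by_cases hcen : A ≤ centralizer (R : Set G)
  · have htriv : ∀ h : H, (h : MulAut X) = 1 := fun h => MulEquiv.ext fun x => by
      have h1 : (SemidirectProduct.inl x : G) * SemidirectProduct.inr h =
          SemidirectProduct.inr h * SemidirectProduct.inl x :=
        hcen ⟨h, rfl⟩ _ ⟨x, rfl⟩
      apply SemidirectProduct.inl_injective (φ := H.subtype)
      rw [← haut, ← h1, mul_inv_cancel_right]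
      rfl
    refine ⟨⟨⟨fun a b => ?_⟩⟩, fun h hh => ?_⟩
    · exact Subtype.ext (by simp [htriv a, htriv b])
    · rw [show h = 1 from htriv ⟨h, hh⟩, one_pow]
  obtain ⟨-, hC, -, -, -⟩ := hrest (fun hc => hna ⟨⟨fun a b => eR.injective (by
    rw [map_mul, map_mul]; exact hc.1.1 _ _)⟩⟩) hcen
  set C : Subgroup G := ⁅R, A⁆ with hCdef
  haveI := hC
  have hAC : A ≤ normalizer (C : Set G) := by
    rw [hCdef, commutator_comm]
    exact Cfsg.Lib.Local.LargeQS.le_normalizer_commutator_left A R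
  have hCR : C ≤ R := commutator_le.mpr fun r hr a ha => by
    rw [commutatorElement_def, mul_assoc r, mul_assoc r]
    exact mul_mem hr ((mem_normalizer_iff.mp (hA ha) _).mp (inv_mem hr))
  have hCp : IsPGroup p C := hRp.of_injective _ (Subgroup.inclusion_injective hCR)
  let ρ : H →* MulAut C :=
    C.normalizerMonoidHom.comp ((Subgroup.inclusion hAC).comp eA.toMonoidHom)
  have hρ : Function.Injective ρ := by
    rw [injective_iff_map_eq_one]
    intro h hh
    have hfix : R ≤ centralizer ({(SemidirectProduct.inr h : G)} : Set G) := by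
      rw [← hsup]
      refine sup_le (fun c hc => ?_) (fun c hc => ?_)
      · rw [mem_centralizer_singleton_iff]
        have h1 := congrArg Subtype.val (DFunLike.congr_fun hh ⟨c, hc⟩)
        have h2 : (SemidirectProduct.inr h : G) * c * (SemidirectProduct.inr h)⁻¹ = c := h1
        exact ((mul_inv_eq_iff_eq_mul.mp h2)).symm
      · rw [mem_centralizer_singleton_iff]
        exact (hc.2 _ ⟨h, rfl⟩).symm
    refine Subtype.ext (MulEquiv.ext fun x => ?_)
    apply SemidirectProduct.inl_injective (φ := H.subtype)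
    have h1 := mem_centralizer_singleton_iff.mp (hfix ⟨x, rfl⟩)
    rw [← haut, ← h1, mul_inv_cancel_right]
    rfl
  refine ⟨⟨⟨fun a b => hρ ?_⟩⟩, fun h hh => ?_⟩
  · apply (IsCyclic.mulAutMulEquiv C).injective
    rw [map_mul, map_mul, map_mul, map_mul, mul_comm]
  · have h1 : (⟨h, hh⟩ : H) ^ (p - 1) = 1 := hρ (by
      rw [map_pow, map_one]
      exact mulAut_cyclic_pow_sub_one hCp
        (Nat.Coprime.coprime_dvd_left ((orderOf_map_dvd ρ _).trans (orderOf_dvd_natCard _)) hcop))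
    exact congrArg Subtype.val h1

theorem klein_equiv : Nonempty (DihedralGroup 2 ≃* Multiplicative (ZMod 2) × Multiplicative (ZMod 2)) := by
  haveI : IsKleinFour (Multiplicative (ZMod 2) × Multiplicative (ZMod 2)) := ⟨by simp, by
    rw [Monoid.exponent_prod, Monoid.exponent_multiplicative, ZMod.exponent]; rfl⟩
  exact IsKleinFour.nonempty_mulEquiv

end Cfsg.Lib.FusionSys.MetacyclicType
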