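import Cfsg.Agent.Lib.FusionSys.Normal

/-!
Centric subgroups: overgroups, and uniqueness of extensions up to the centre.
-/

set_option autoImplicit false

namespace Cfsg.Lib.FusionSys

open Cfsg Cfsg.FusionSystem

variable {Ω : Type*} [Group Ω] {S : Subgroup Ω} {F : FusionSystem S} {P Q : Subgroup Ω}

theorem centralizerIn_anti (h : Q ≤ P) : centralizerIn S P ≤ centralizerIn S Q :=
  inf_le_inf_left S (Subgroup.centralizer_le (SetLike.coe_subset_coe.2 h))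

theorem isCentric_mono (hQ : F.IsCentric Q) (h : Q ≤ P) (hP : P ≤ S) : F.IsCentric P := by
  refine ⟨hP, fun R hR => ?_⟩
  obtain ⟨φ, hφ, rfl⟩ := hR
  have hle : (φ.comp (Subgroup.inclusion h)).range ≤ φ.range := by
    rintro _ ⟨x, rfl⟩
    exact ⟨_, rfl⟩
  exact (centralizerIn_anti hle).trans ((hQ.2 _ ⟨_, restrict_mem hφ h, rfl⟩).trans hle)

theorem centric_ext_unique_of_normal [Finite S] {p : ℕ} [Fact p.Prime] (hS : IsPGroup p S)
    (hF : F.IsSaturated p) (hQ : F.IsCentric Q) (hQP : Q ≤ P)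
    (hnorm : P ≤ Subgroup.normalizer (Q : Set Ω)) {φ φ' : P →* Ω} (hφ : φ ∈ F.Hom P)
    (hφ' : φ' ∈ F.Hom P) (h : ∀ x : P, (x : Ω) ∈ Q → φ x = φ' x) :
    ∃ z : P, (z : Ω) ∈ Q ∧ (z : Ω) ∈ Subgroup.centralizer (Q : Set Ω) ∧
      ∀ y : P, φ' y = φ (z * y * z⁻¹) := by
  have hPS := hom_le hφ
  haveI := finite_of_le hPS
  have hQ' := hQ.2 _ ⟨_, restrict_mem hφ hQP, rfl⟩
  -- `φ' y` and `φ y` differ by an element of the image of `Q`
  have hdiff : ∀ y : P, ∃ w : Q,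
      (φ y)⁻¹ * φ' y = φ (Subgroup.inclusion hQP w) ∧ ∀ q ∈ Q, (w : Ω) * q = q * w := by
    intro y
    have hc : (φ y)⁻¹ * φ' y ∈ centralizerIn S (φ.comp (Subgroup.inclusion hQP)).range := by
      refine mem_centralizerIn.2 ⟨S.mul_mem (S.inv_mem (hom_mem hφ y)) (hom_mem hφ' y), ?_⟩
      rintro _ ⟨q, rfl⟩
      have hq : (y : Ω) * q * (y : Ω)⁻¹ ∈ Q :=
        (Subgroup.mem_normalizer_iff.1 (hnorm y.2) _).1 q.2
      have h1 := h (y * Subgroup.inclusion hQP q * y⁻¹) hq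
      simp only [map_mul, map_inv] at h1
      rw [← h (Subgroup.inclusion hQP q) q.2] at h1
      show (φ y)⁻¹ * φ' y * φ (Subgroup.inclusion hQP q) =
        φ (Subgroup.inclusion hQP q) * ((φ y)⁻¹ * φ' y)
      calc (φ y)⁻¹ * φ' y * φ (Subgroup.inclusion hQP q)
          = (φ y)⁻¹ * (φ' y * φ (Subgroup.inclusion hQP q) * (φ' y)⁻¹) * φ' y := by group
        _ = (φ y)⁻¹ * (φ y * φ (Subgroup.inclusion hQP q) * (φ y)⁻¹) * φ' y := by rw [← h1]
        _ = φ (Subgroup.inclusion hQP q) * ((φ y)⁻¹ * φ' y) := by group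
    obtain ⟨w, hw⟩ := hQ' hc
    refine ⟨w, hw.symm, fun q hq => ?_⟩
    have h2 := (mem_centralizerIn.1 hc).2 _ ⟨⟨q, hq⟩, rfl⟩
    rw [← hw] at h2
    simp only [MonoidHom.comp_apply, ← map_mul] at h2
    exact congrArg Subtype.val (F.injective_of_mem hφ h2)
  choose w hw hwc using hdiff
  have hval : ∀ y : P, φ' y = φ (y * Subgroup.inclusion hQP (w y)) := fun y => by
    rw [map_mul, ← hw, mul_inv_cancel_left]
  have hr : φ'.range = φ.range := by
    refine (range_eq_of_card_le hφ' (range_le hφ) (fun y => ⟨_, (hval y).symm⟩) ?_)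
    rw [card_range hφ]
  let θ : MulAut P := (homIso hφ' hr).trans (homIso hφ (rfl : φ.range = φ.range)).symm
  have hθ : IsoIn F θ := (isoIn_homIso hφ' hr).trans (isoIn_homIso hφ rfl).symm
  have hθv : ∀ y, θ y = y * Subgroup.inclusion hQP (w y) := fun y => by
    apply (homIso hφ (rfl : φ.range = φ.range)).injective
    rw [MulEquiv.trans_apply, MulEquiv.apply_symm_apply]
    exact Subtype.ext (hval y)
  have hθQ : ∀ y : P, (y : Ω) ∈ Q → θ y = y := by
    intro y hy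
    rw [hθv]
    have h1 := hw y
    rw [← h y hy, inv_mul_cancel] at h1
    have h2 : Subgroup.inclusion hQP (w y) = 1 :=
      F.injective_of_mem hφ (by rw [← h1, map_one])
    rw [h2, mul_one]
  have hθφ : ∀ y, φ' y = φ (θ y) := fun y => by rw [hθv]; exact hval y
  -- hence of `p`-power order
  obtain ⟨e, he⟩ := IsPGroup.iff_card.mp (hS.to_le hPS)
  have hpow : θ ^ p ^ (e * 2) = 1 := by
    have h3 := pow_eq_one_of_stabilizes (P := P) (D := fun i => if i = 0 then ⊥ else if i = 1 then Q else P)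
      (n := 2) rfl rfl (α := θ) ?_ ?_
    · rwa [he, ← pow_mul] at h3
    · intro i _ x hx
      match i with
      | 0 =>
        have : x = 1 := Subtype.ext (Subgroup.mem_bot.1 hx)
        simp [this]
      | 1 => simpa [hθQ x hx] using hx
      | j + 2 => exact (θ x).2
    · intro i hi x hx
      match i with
      | 0 =>
        have hxQ : (x : Ω) ∈ Q := hx
        simp [hθQ x hxQ]
      | 1 =>
        show (x : Ω)⁻¹ * (θ x : Ω) ∈ Q
        rw [hθv]
        simp [(w x).2]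
      | j + 2 => omega
  obtain ⟨R, hPR, ⟨-, T, hT⟩, -⟩ := hF P hPS
  obtain ⟨e₁, he₁⟩ := isConj_iff.1 hPR
  have hRS := he₁.le_right
  haveI := finite_of_le hRS
  let δ : F.autGroup R := ⟨MulAut.congr e₁ θ, congr_mem_autGroup he₁ ((mem_autGroup hPS).2 hθ)⟩
  have hδ : δ ^ p ^ (e * 2) = 1 := by
    apply Subtype.ext
    show (MulAut.congr e₁ θ) ^ p ^ (e * 2) = 1
    rw [← map_pow, hpow, map_one]
  have hδP : IsPGroup p (Subgroup.zpowers δ) := by
    obtain ⟨l, -, hl⟩ := (Nat.dvd_prime_pow Fact.out).1 (orderOf_dvd_of_pow_eq_one hδ)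
    exact IsPGroup.of_card (n := l) (by rw [Nat.card_zpowers, hl])
  obtain ⟨T', hT'⟩ := hδP.exists_le_sylow
  obtain ⟨η, hη⟩ := MulAction.exists_smul_eq (F.autGroup R) T' T
  have hy2 : η * δ * η⁻¹ ∈ (T : Subgroup (F.autGroup R)) := by
    rw [← hη, Sylow.coe_subgroup_smul]
    exact Subgroup.smul_mem_pointwise_smul δ (MulAut.conj η) _ (hT' (Subgroup.mem_zpowers δ))
  rw [hT, Subgroup.mem_subgroupOf] at hy2
  obtain ⟨g, hgS, hg⟩ := mem_autInducedBy.1 hy2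
  let f : P ≃* R := e₁.trans (η : MulAut R)
  have hf : IsoIn F f := he₁.trans ((mem_autGroup hRS).1 η.2)
  have hg' : ∀ y : P, (f (θ y) : Ω) = g * (f y : Ω) * g⁻¹ := by
    intro y
    rw [← hg (f y)]
    simp [f, δ, MulAut.congr, MulAut.mul_apply, MulAut.inv_apply]
  have hQ'' := hQ.2 _ ⟨_, restrict_mem hf hQP, rfl⟩
  have hgQ : g ∈ ((R.subtype.comp f.toMonoidHom).comp (Subgroup.inclusion hQP)).range := by
    refine hQ'' (mem_centralizerIn.2 ⟨hgS, ?_⟩)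
    rintro _ ⟨q, rfl⟩
    show g * (f (Subgroup.inclusion hQP q) : Ω) = (f (Subgroup.inclusion hQP q) : Ω) * g
    refine commute_of_conj_eq ?_
    rw [← hg', hθQ _ q.2]
  obtain ⟨z, hz⟩ := hgQ
  have hzy : ∀ y : P,
      θ y = Subgroup.inclusion hQP z * y * (Subgroup.inclusion hQP z)⁻¹ := by
    intro y
    apply f.injective
    apply Subtype.ext
    rw [hg', ← hz]
    simp
  refine ⟨Subgroup.inclusion hQP z, z.2, ?_, fun y => by rw [hθφ, hzy]⟩
  rw [Subgroup.mem_centralizer_iff]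
  intro q hq
  have h4 := hzy ⟨q, hQP hq⟩
  rw [hθQ _ hq] at h4
  have h5 : q = (z : Ω) * q * (z : Ω)⁻¹ := congrArg Subtype.val h4
  calc q * (z : Ω) = (z : Ω) * q * (z : Ω)⁻¹ * z := by rw [← h5]
    _ = z * q := by group

theorem centric_ext_unique [Finite S] {p : ℕ} [Fact p.Prime] (hS : IsPGroup p S)
    (hF : F.IsSaturated p) (hQ : F.IsCentric Q) (hQP : Q ≤ P) {φ φ' : P →* Ω}
    (hφ : φ ∈ F.Hom P) (hφ' : φ' ∈ F.Hom P) (h : ∀ x : P, (x : Ω) ∈ Q → φ x = φ' x) :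
    ∃ z : P, (z : Ω) ∈ Q ∧ (z : Ω) ∈ Subgroup.centralizer (Q : Set Ω) ∧
      ∀ y : P, φ' y = φ (z * y * z⁻¹) := by
  have hPS := hom_le hφ
  haveI := finite_of_le hPS
  suffices ∀ (n : ℕ) (Q : Subgroup Ω), F.IsCentric Q → Q ≤ P → Nat.card P ≤ Nat.card Q + n →
      ∀ φ φ' : P →* Ω, φ ∈ F.Hom P → φ' ∈ F.Hom P → (∀ x : P, (x : Ω) ∈ Q → φ x = φ' x) →
      ∃ z : P, (z : Ω) ∈ Q ∧ (z : Ω) ∈ Subgroup.centralizer (Q : Set Ω) ∧
        ∀ y : P, φ' y = φ (z * y * z⁻¹) from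
    this _ Q hQ hQP (Nat.le_add_left _ _) φ φ' hφ hφ' h
  intro n
  induction n with
  | zero =>
    intro Q _ hQP hc φ φ' _ _ h
    have hPQ : Q = P := Subgroup.eq_of_le_of_card_ge hQP (by simpa using hc)
    exact ⟨1, Q.one_mem, Subgroup.one_mem _, fun y => by simp [h y (hPQ ▸ y.2)]⟩
  | succ n ih =>
    intro Q hQ hQP hc φ φ' hφ hφ' h
    rcases eq_or_lt_of_le hQP with heq | hlt
    · exact ⟨1, Q.one_mem, Subgroup.one_mem _, fun y => by simp [h y (heq ▸ y.2)]⟩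
    have hlt' := lt_normalizerIn (hS.to_le hPS) hlt
    set Q₁ := normalizerIn P Q
    have hQ₁P : Q₁ ≤ P := normalizerIn_le Q
    haveI := finite_of_le (hQ₁P.trans hPS)
    have hcard : Nat.card Q < Nat.card Q₁ := by
      by_contra hcc
      exact hlt'.ne (Subgroup.eq_of_le_of_card_ge hlt'.le (not_lt.1 hcc))
    obtain ⟨z, hzQ, hzc, hz⟩ := centric_ext_unique_of_normal hS hF hQ hlt'.le (fun x hx => hx.2)
      (restrict_mem hφ hQ₁P) (restrict_mem hφ' hQ₁P) (fun x hx => h _ hx)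
    let z' : P := Subgroup.inclusion hQ₁P z
    let φ'' : P →* Ω := φ.comp (MulAut.conj z').toMonoidHom
    have hφ'' : φ'' ∈ F.Hom P := by
      refine comp_mem' (F.conj_mem hPS (hPS z'.2)) hφ (fun y => ?_) fun y => rfl
      exact P.mul_mem (P.mul_mem z'.2 y.2) (P.inv_mem z'.2)
    obtain ⟨w, hwQ, hwc, hw⟩ := ih Q₁ (isCentric_mono hQ hlt'.le (hQ₁P.trans hPS)) hQ₁P
      (by omega) φ'' φ' hφ'' hφ' (fun x hx => (hz ⟨x, hx⟩).symm)
    have hwQ' : (w : Ω) ∈ Q := hQ.2 Q (isConj_refl F hQ.1) <| mem_centralizerIn.2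
      ⟨hPS w.2, fun q hq => ((Subgroup.mem_centralizer_iff.1 hwc) q (hlt'.le hq)).symm⟩
    refine ⟨z' * w, Q.mul_mem hzQ hwQ', Subgroup.mul_mem _ hzc ?_, fun y => ?_⟩
    · rw [Subgroup.mem_centralizer_iff]
      exact fun q hq => (Subgroup.mem_centralizer_iff.1 hwc) q (hlt'.le hq)
    · rw [hw]
      show φ (z' * (w * y * w⁻¹) * z'⁻¹) = _
      congr 1
      group

end Cfsg.Lib.FusionSys
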