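import Cfsg.Agent.Lib.FusionSys.PlaneAction
import Cfsg.Agent.Lib.FusionSys.Normal
import Cfsg.Agent.Lib.FusionSys.Centric
import Cfsg.Agent.Lib.FusionSys.StronglyEmb
import Cfsg.Agent.Lib.FusionSys.Saturation
import Cfsg.Agent.Lib.PGroup.Huppert
import Cfsg.Agent.Lib.Local.QdRankTwo

/-!
# Essential subgroups of p-groups of rank two
-/

set_option autoImplicit false

namespace Cfsg.Lib.FusionSys.RankTwo

open Cfsg Cfsg.FusionSystem
open scoped commutatorElement
open Cfsg.Lib.PGroup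

universe u

section Groups

variable {p : ℕ} [hp : Fact p.Prime]

theorem rank_subgroup {G : Type*} [Group G]
    (hrk : ∀ E : Subgroup G, Cfsg.IsElementaryAbelian p E → Nat.card E ≤ p ^ 2) (H : Subgroup G)
    (E : Subgroup H) (hE : Cfsg.IsElementaryAbelian p E) : Nat.card E ≤ p ^ 2 := by
  rw [← Subgroup.card_map_of_injective (K := E) H.subtype_injective]
  refine hrk _ ⟨⟨⟨?_⟩⟩, ?_⟩
  · rintro ⟨_, x, hx, rfl⟩ ⟨_, y, hy, rfl⟩
    exact Subtype.ext (congrArg (fun z : E => ((z : H) : G)) (hE.1.is_comm.comm ⟨x, hx⟩ ⟨y, hy⟩))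
  · rintro _ ⟨x, hx, rfl⟩
    rw [← map_pow, hE.2 x hx, map_one]

variable {G : Type u} [Group G] [Finite G]

/-- The subgroup of elements killed by `p`. -/
def omega (hp3 : 3 < p) (hG : IsPGroup p G)
    (hrk : ∀ E : Subgroup G, Cfsg.IsElementaryAbelian p E → Nat.card E ≤ p ^ 2) : Subgroup G where
  carrier := {x | x ^ p = 1}
  one_mem' := one_pow p
  mul_mem' hx hy := Huppert.omega_closed hp3 hG hrk hx hy
  inv_mem' {x} hx := by
    show x⁻¹ ^ p = 1
    rw [inv_pow, show x ^ p = 1 from hx, inv_one]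

@[simp]
theorem mem_omega (hp3 : 3 < p) (hG : IsPGroup p G)
    (hrk : ∀ E : Subgroup G, Cfsg.IsElementaryAbelian p E → Nat.card E ≤ p ^ 2) {x : G} :
    x ∈ omega hp3 hG hrk ↔ x ^ p = 1 := Iff.rfl

theorem card_omega_le (hp3 : 3 < p) (hG : IsPGroup p G)
    (hrk : ∀ E : Subgroup G, Cfsg.IsElementaryAbelian p E → Nat.card E ≤ p ^ 2) :
    Nat.card (omega hp3 hG hrk) ≤ p ^ 3 :=
  Huppert.card_le_of_exponent (fun x => Subtype.ext x.2) (rank_subgroup hrk _)

/-- Restriction of automorphisms to a subgroup invariant under all of them. -/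
def res (W : Subgroup G) (hW : ∀ (α : MulAut G) (x : G), x ∈ W → α x ∈ W) : MulAut G →* MulAut W where
  toFun α :=
    { toFun := fun w => ⟨α w, hW α w w.2⟩
      invFun := fun w => ⟨α⁻¹ w, hW α⁻¹ w w.2⟩
      left_inv := fun w => Subtype.ext (α.symm_apply_apply w)
      right_inv := fun w => Subtype.ext (α.apply_symm_apply w)
      map_mul' := fun a b => Subtype.ext (map_mul α (a : G) b) }
  map_one' := rfl
  map_mul' _ _ := rfl

omit [Finite G] in
@[simp]
theorem coe_res (W : Subgroup G) (hW : ∀ (α : MulAut G) (x : G), x ∈ W → α x ∈ W) (α : MulAut G)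
    (w : W) : ((res W hW α w : W) : G) = α w := rfl

omit [Finite G] in
theorem map_center_eq (α : MulAut G) : (Subgroup.center G).map α.toMonoidHom = Subgroup.center G :=
  Subgroup.characteristic_iff_map_eq.mp inferInstance α

/-- The action of automorphisms on the central quotient. -/
noncomputable def quotAct : MulAut G →* MulAut (G ⧸ Subgroup.center G) where
  toFun α := QuotientGroup.congr _ _ α (map_center_eq α)
  map_one' := MulEquiv.ext fun q => QuotientGroup.induction_on q fun _ => rfl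
  map_mul' _ _ := MulEquiv.ext fun q => QuotientGroup.induction_on q fun _ => rfl

omit [Finite G] in
@[simp]
theorem quotAct_mk (α : MulAut G) (x : G) :
    quotAct α (x : G ⧸ Subgroup.center G) = ((α x : G) : G ⧸ Subgroup.center G) := rfl

/-- An automorphism whose `p`-th power fixes all elements of order `p` has `p`-power order. -/
theorem exists_pow_eq_one_of_fix (hp2 : p ≠ 2) (hG : IsPGroup p G) {α : MulAut G}
    (h : ∀ x : G, x ^ p = 1 → (α ^ p) x = x) : ∃ k, α ^ p ^ k = 1 := by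
  haveI : Finite (MulAut G) := Finite.of_injective (fun a : MulAut G => (a : G → G))
    DFunLike.coe_injective
  obtain ⟨k, m, hm, hmk⟩ := Nat.exists_eq_pow_mul_and_not_dvd (orderOf_pos α).ne' p hp.out.ne_one
  refine ⟨k + 1, ?_⟩
  refine mulAut_eq_one_of_fix_omega hp2 hG ?_ fun x hx => ?_
  · have h1 : orderOf (α ^ p ^ (k + 1)) ∣ m := by
      refine orderOf_dvd_of_pow_eq_one ?_
      rw [← pow_mul, ← orderOf_dvd_iff_pow_eq_one, hmk]
      exact mul_dvd_mul_right (pow_dvd_pow p (Nat.le_succ k)) m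
    exact ((hp.out.coprime_iff_not_dvd.mpr hm).symm).coprime_dvd_left h1
  · rw [pow_succ', pow_mul]
    exact smul_fix (α ^ p) x (h x hx) (p ^ k)
where
  smul_fix (β : MulAut G) (x : G) (hβ : β x = x) : ∀ n : ℕ, (β ^ n) x = x := by
    intro n
    induction n with
    | zero => simp
    | succ n ih => rw [pow_succ, MulAut.mul_apply, hβ, ih]

/-- Automorphisms of a cyclic group commute. -/
theorem aut_comm_of_isCyclic [IsCyclic G] (α β : MulAut G) : α * β = β * α := by
  obtain ⟨c, hc⟩ := IsCyclic.exists_generator (α := G)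
  refine MulEquiv.ext fun x => ?_
  obtain ⟨i, rfl⟩ := hc x
  obtain ⟨a, ha⟩ := hc (α c)
  obtain ⟨b, hb⟩ := hc (β c)
  simp only [MulAut.mul_apply, map_zpow]
  rw [← ha, ← hb]
  simp only [map_zpow]
  rw [← ha, ← hb, ← zpow_mul, ← zpow_mul, ← zpow_mul, ← zpow_mul, mul_left_comm a b i]

omit hp [Finite G] in
/-- A homomorphism with `U B = B X`, `U X = X Y`, `U Y = Y Z`, `U Z = Z`, all commuting. -/
theorem iterate_three (hcomm : ∀ a b : G, a * b = b * a) (U : MulAut G) {B X Y Z : G}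
    (hB : U B = B * X) (hX : U X = X * Y) (hY : U Y = Y * Z) (hZ : U Z = Z) (m : ℕ) :
    (U ^ m) B = B * X ^ m * Y ^ m.choose 2 * Z ^ m.choose 3 := by
  induction m with
  | zero => simp
  | succ m ih =>
    have hXY : Commute X Y := hcomm X Y
    have hYZ : Commute Y Z := hcomm Y Z
    rw [pow_succ', MulAut.mul_apply, ih, map_mul, map_mul, map_mul, map_pow, map_pow, map_pow, hB,
      hX, hY, hZ, hXY.mul_pow, hYZ.mul_pow, Nat.choose_succ_succ' m 1, Nat.choose_one_right,
      Nat.choose_succ_succ' m 2]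
    calc B * X * (X ^ m * Y ^ m) * (Y ^ m.choose 2 * Z ^ m.choose 2) * Z ^ m.choose 3 =
          B * (X * X ^ m) * (Y ^ m * Y ^ m.choose 2) * (Z ^ m.choose 2 * Z ^ m.choose 3) := by
          simp only [mul_assoc]
      _ = _ := by rw [← pow_succ', ← pow_add, ← pow_add]

end Groups

section Fusion

variable {Ω : Type u} [Group Ω] {S : Subgroup Ω} [Finite S] {p : ℕ} [hp : Fact p.Prime]
variable {F : FusionSystem S} {P : Subgroup Ω}

omit [Finite S] hp in
theorem rank_of_le (h : ∀ E : Subgroup Ω, E ≤ S → Cfsg.IsElementaryAbelian p E → Nat.card E ≤ p ^ 2)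
    {H : Subgroup Ω} (hH : H ≤ S) (E : Subgroup H) (hE : Cfsg.IsElementaryAbelian p E) :
    Nat.card E ≤ p ^ 2 := by
  rw [← Subgroup.card_map_of_injective (K := E) H.subtype_injective]
  refine h _ (by rintro _ ⟨x, -, rfl⟩; exact hH x.2) ⟨⟨⟨?_⟩⟩, ?_⟩
  · rintro ⟨_, x, hx, rfl⟩ ⟨_, y, hy, rfl⟩
    exact Subtype.ext (congrArg (fun z : E => ((z : H) : Ω)) (hE.1.is_comm.comm ⟨x, hx⟩ ⟨y, hy⟩))
  · rintro _ ⟨x, hx, rfl⟩
    rw [← map_pow, hE.2 x hx, map_one]

/-- The automorphisms of `P` induced by conjugation by elements of `N_S(P)`. -/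
def cA (F : FusionSystem S) (hP : P ≤ S) : ↥(normalizerIn S P) →* ↥(F.autGroup P) :=
  (P.normalizerMonoidHom.comp (Subgroup.inclusion inf_le_right)).codRestrict _ fun g =>
    autInducedBy_le_autGroup hP (conjAut_mem_autInducedBy g.2.2 g.2.1)

omit [Finite S] in
@[simp]
theorem coe_cA (hP : P ≤ S) (g : ↥(normalizerIn S P)) (x : P) :
    ((((cA F hP g : ↥(F.autGroup P)) : MulAut P) x : P) : Ω) = (g : Ω) * x * (g : Ω)⁻¹ := rfl

/-- Basic properties of an essential subgroup. -/
theorem basic (hS : IsPGroup p S) (hF : F.IsSaturated p) (hP : F.IsEssential p P) :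
    P < S ∧ ((Inn P).subgroupOf (F.autGroup P)).Normal ∧
      IsPGroup p ((Inn P).subgroupOf (F.autGroup P)) ∧
      (∀ N : Subgroup (F.autGroup P), N.Normal → IsPGroup p N →
        N ≤ (Inn P).subgroupOf (F.autGroup P)) ∧
      IsPGroup p ((autInducedBy S P).subgroupOf (F.autGroup P)) ∧
      ¬ (autInducedBy S P).subgroupOf (F.autGroup P) ≤ (Inn P).subgroupOf (F.autGroup P) := by
  have hPS := hP.1.1
  obtain ⟨-, R₀, hR₀⟩ := (isFullyAutomized_and_fc_of_fn hS hF hP.2.1).2
  obtain ⟨hC, -, hN, E, hE⟩ := hP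
  haveI := hN
  haveI := finite_of_le hPS
  have hRp : IsPGroup p ((autInducedBy S P).subgroupOf (F.autGroup P)) :=
    (isPGroup_autInducedBy hS).comap_subtype
  have hIp : IsPGroup p ((Inn P).subgroupOf (F.autGroup P)) :=
    ((isPGroup_autInducedBy hS).to_le (inn_le_autInducedBy hPS)).comap_subtype
  set π := QuotientGroup.mk' ((Inn P).subgroupOf (F.autGroup P)) with hπ
  have hRI : ¬ (autInducedBy S P).subgroupOf (F.autGroup P) ≤
      (Inn P).subgroupOf (F.autGroup P) := by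
    intro hle
    refine R₀.not_dvd_index ?_
    have h1 : (R₀ : Subgroup (F.autGroup P)) = (Inn P).subgroupOf (F.autGroup P) := by
      rw [hR₀]
      exact le_antisymm hle (Subgroup.subgroupOf_mono _ (inn_le_autInducedBy hPS))
    rw [h1]
    exact hE.1
  refine ⟨lt_of_le_of_ne hPS fun h => hRI ?_, hN, hIp, fun N hNn hNp => ?_, hRp, hRI⟩
  · subst h
    intro α hα
    obtain ⟨g, hg, hga⟩ := mem_autInducedBy.1 (Subgroup.mem_subgroupOf.mp hα)
    exact ⟨⟨g, hg⟩, MulEquiv.ext fun x => Subtype.ext (hga x).symm⟩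
  · haveI : (N.map π).Normal := hNn.map π (QuotientGroup.mk'_surjective _)
    have h1 := pCore_eq_bot_of_stronglyPEmbedded hE (hNp.map π)
    rwa [Subgroup.map_eq_bot_iff, QuotientGroup.ker_mk'] at h1

/-- The transvection, the diagonal automorphism and its extension to the normalizer. -/
theorem frame (hS : IsPGroup p S) (hF : F.IsSaturated p) (hp2 : p ≠ 2) (hP : F.IsEssential p P)
    (hPS : P ≤ S)
    {V : Type*} [Group V] [Finite V] (hc : Nat.card V = p ^ 2) (hexp : ∀ v : V, v ^ p = 1)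
    (r : ↥(F.autGroup P) →* MulAut V) (hker : IsPGroup p r.ker) :
    (Inn P).subgroupOf (F.autGroup P) ≤ r.ker ∧
    (∀ U : Subgroup V, (∀ a, ∀ v ∈ U, r a v ∈ U) → U = ⊥ ∨ U = ⊤) ∧
    ∃ (e f : V) (g : ↥(normalizerIn S P)) (d : ↥(F.autGroup P)) (ψ : MulAut ↥(normalizerIn S P)),
      e ≠ 1 ∧ f ∉ Subgroup.zpowers e ∧ (g : Ω) ∉ P ∧ r (cA F hPS g) e = e ∧
      r (cA F hPS g) f = e * f ∧
      d ∈ Subgroup.closure {a : ↥(F.autGroup P) | ∃ k, a ^ p ^ k = 1} ∧
      r d e = e ^ 2 ∧ r d f = f ^ ((p + 1) / 2) ∧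
      IsoIn F ψ ∧
      (∀ (x : P) (hx : (x : Ω) ∈ normalizerIn S P),
        ((ψ ⟨x, hx⟩ : ↥(normalizerIn S P)) : Ω) = ((d : MulAut P) x : Ω)) ∧
      ((g : Ω) ^ 4)⁻¹ * (ψ g : ↥(normalizerIn S P)) ∈ P ∧
      (∀ n : ↥(normalizerIn S P), ∃ i : ℕ, ((g : Ω) ^ i)⁻¹ * n ∈ P) ∧
      d * cA F hPS g * d⁻¹ * (cA F hPS g ^ 4)⁻¹ ∈ (Inn P).subgroupOf (F.autGroup P) := by
  obtain ⟨-, hIN, hIp, hO, hRp, hRI⟩ := basic hS hF hP
  set I := (Inn P).subgroupOf (F.autGroup P) with hIdef
  set R := (autInducedBy S P).subgroupOf (F.autGroup P) with hRdef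
  haveI := finite_of_le hPS
  haveI := finite_of_le (normalizerIn_le (S := S) P)
  have hIker := Plane.le_ker hc hexp r I hIN hIp hO hker R hRp hRI
  have hkerI := Plane.ker_eq hc hexp r I hIN hIp hO hker R hRp hRI
  refine ⟨hIker, fun U hU => Plane.invariant_eq hc hexp r I hO hker R hRp hRI U hU, ?_⟩
  obtain ⟨e, f, he, hf, hfix, htriv, ⟨u, hu, huf⟩, d, hdcl, hde, hdf, hdconj⟩ :=
    Plane.exists_diag hc hexp r I hIN hIp hO hker R hRp hRI hp2
  obtain ⟨g₀, hg₀, hgu⟩ := mem_autInducedBy.1 (Subgroup.mem_subgroupOf.mp hu)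
  set g : ↥(normalizerIn S P) := ⟨g₀, hg₀, mem_normalizer_of_aut hgu⟩ with hgdef
  have hcg : cA F hPS g = u := Subtype.ext (MulEquiv.ext fun x => Subtype.ext (hgu x).symm)
  -- membership in `P` is detected by the action
  have hmemP : ∀ n : ↥(normalizerIn S P), cA F hPS n ∈ r.ker → (n : Ω) ∈ P := fun n hn => by
    rw [hkerI] at hn
    exact mem_of_conjAut_mem_inn (hP.1.2 P (isConj_refl F hPS)) hPS n.2.1
      (α := (cA F hPS n : MulAut P)) (fun x => coe_cA hPS n x) (Subgroup.mem_subgroupOf.mp hn)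
  have hgP : (g : Ω) ∉ P := by
    intro hgP
    have h1 : cA F hPS g ∈ I := ⟨⟨g, hgP⟩, MulEquiv.ext fun x => Subtype.ext rfl⟩
    have h2 := MonoidHom.mem_ker.mp (hIker h1)
    rw [hcg] at h2
    rw [h2, MulAut.one_apply] at huf
    exact he (mul_eq_right.mp huf.symm)
  have hRmem : ∀ n : ↥(normalizerIn S P), cA F hPS n ∈ R := fun n =>
    conjAut_mem_autInducedBy n.2.2 n.2.1
  have hupow : ∀ i : ℕ, r (u ^ i) f = e ^ i * f := by
    intro i
    induction i with
    | zero => simp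
    | succ i ih =>
      rw [pow_succ', map_mul, MulAut.mul_apply, ih, map_mul, map_pow, hfix u hu, huf, ← mul_assoc,
        ← pow_succ]
  have hgen : ∀ n : ↥(normalizerIn S P), ∃ i : ℕ, ((g : Ω) ^ i)⁻¹ * n ∈ P := by
    intro n
    obtain ⟨i, hi⟩ := mem_powers_iff_mem_zpowers.mpr (htriv _ (hRmem n) f)
    refine ⟨i, hmemP ((g ^ i)⁻¹ * n) (MonoidHom.mem_ker.mpr ?_)⟩
    rw [map_mul, map_mul, map_inv, map_pow (cA F hPS), hcg, map_inv, inv_mul_eq_one]
    refine Plane.aut_ext hc hexp he hf ?_ ?_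
    · rw [hfix _ (pow_mem hu i), hfix _ (hRmem n)]
    · rw [hupow, eq_mul_of_mul_inv_eq hi.symm]
  have hdu : d * u * d⁻¹ * (u ^ 4)⁻¹ ∈ I := by
    rw [← hkerI, MonoidHom.mem_ker, map_mul, map_mul, map_mul, hdconj u hu, map_inv, map_inv,
      mul_inv_cancel_right, mul_inv_cancel]
  -- the extension
  have hrec := isReceptive_of_fc hS hF (isFullyAutomized_and_fc_of_fn hS hF hP.2.1).1
  have hd : IsoIn F (d : MulAut P) := (mem_autGroup hPS).1 d.2
  obtain ⟨ψ₀, hψ₀, hψe⟩ := IsReceptive_ext hrec hd (N := normalizerIn S P) (by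
    intro n hn
    obtain ⟨hnS, hnN⟩ := mem_normalizerIn.1 hn
    refine ⟨hnS, hnN, ?_⟩
    set ρ := cA F hPS ⟨n, hn⟩ with hρ
    have h1 : d * ρ * d⁻¹ * (ρ ^ 4)⁻¹ ∈ I := by
      rw [← hkerI, MonoidHom.mem_ker, map_mul, map_mul, map_mul, hdconj ρ (hRmem _), map_inv, map_inv,
        mul_inv_cancel_right, mul_inv_cancel]
    obtain ⟨y, hy⟩ := h1
    refine ⟨(y : Ω) * n ^ 4, S.mul_mem (hPS y.2) (pow_mem hnS 4), fun x z hxz => ?_⟩
    have hz : z = (ρ : MulAut P) x := Subtype.ext (by simpa [hρ] using hxz)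
    have h2 : ((d * ρ * d⁻¹ : ↥(F.autGroup P)) : MulAut P) = MulAut.conj y * (ρ : MulAut P) ^ 4 := by
      rw [hy]; simp
    have h3 := congrArg (fun a : MulAut P => ((a ((d : MulAut P) x) : P) : Ω)) h2
    have h4 : ((d * ρ * d⁻¹ : ↥(F.autGroup P)) : MulAut P) ((d : MulAut P) x) = (d : MulAut P) z := by
      rw [hz]
      show ((d : MulAut P) * (ρ : MulAut P) * (d : MulAut P)⁻¹) ((d : MulAut P) x) = _
      simp [MulAut.mul_apply]
    rw [h4] at h3
    rw [h3, MulAut.mul_apply, MulAut.conj_apply, ← SubgroupClass.coe_pow, hρ, ← map_pow]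
    simp [mul_assoc])
  have hPN : P ≤ normalizerIn S P := le_normalizerIn hPS
  have hmap : (P.subgroupOf (normalizerIn S P)).map ψ₀ = P :=
    map_subgroupOf_eq (e := (d : MulAut P)) hPN hψe
  have hval : ∀ x, ψ₀ x ∈ normalizerIn S P := fun x => by
    refine ⟨hom_mem hψ₀ x, ?_⟩
    have := map_mem_normalizer (Q := P) ψ₀ x x.2.2
    rwa [hmap] at this
  have hrange := range_eq_of_card_le hψ₀ (normalizerIn_le P) hval le_rfl
  refine ⟨e, f, g, d, homIso hψ₀ hrange, he, hf, hgP, ?_, ?_, hdcl, hde, hdf,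
    isoIn_homIso hψ₀ hrange, fun x hx => by rw [coe_homIso, hψe x x.2 hx], ?_, hgen, by rw [hcg]; exact hdu⟩
  · rw [hcg, hfix u hu]
  · rw [hcg, huf]
  set h : ↥(normalizerIn S P) := homIso hψ₀ hrange g with hh
  refine hmemP ((g ^ 4)⁻¹ * h) (hIker ?_)
  have h1 : cA F hPS h = d * cA F hPS g * d⁻¹ := by
    rw [eq_mul_inv_iff_mul_eq]
    refine Subtype.ext (MulEquiv.ext fun x => Subtype.ext ?_)
    show (h : Ω) * ((d : MulAut P) x : Ω) * (h : Ω)⁻¹ = ((d : MulAut P) ((cA F hPS g : MulAut P) x) : Ω)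
    rw [← hψe _ ((cA F hPS g : MulAut P) x).2 (hPN ((cA F hPS g : MulAut P) x).2),
      ← hψe _ x.2 (hPN x.2), hh, coe_homIso, ← map_inv, ← map_mul, ← map_mul]
    exact congrArg ψ₀ (Subtype.ext (coe_cA (F := F) hPS g x).symm)
  rw [map_mul, map_inv, map_pow (cA F hPS), h1, hcg]
  have h5 := hIN.conj_mem _ hdu (u ^ 4)⁻¹
  have eq : (u ^ 4)⁻¹ * (d * u * d⁻¹) = (u ^ 4)⁻¹ * (d * u * d⁻¹ * (u ^ 4)⁻¹) * (u ^ 4)⁻¹⁻¹ := by group
  rw [eq]
  exact h5

/-- An essential subgroup is not cyclic. -/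
theorem not_isCyclic (hS : IsPGroup p S) (hF : F.IsSaturated p) (hP : F.IsEssential p P) :
    ¬ IsCyclic P := by
  intro hcy
  obtain ⟨-, -, -, hO, hRp, hRI⟩ := basic hS hF hP
  haveI := finite_of_le hP.1.1
  refine hRI (hO _ ⟨fun n hn a => ?_⟩ hRp)
  have : a * n * a⁻¹ = n := by
    rw [Subtype.ext (aut_comm_of_isCyclic (a : MulAut P) (n : MulAut P)) (a1 := a * n) (a2 := n * a),
      mul_inv_cancel_right]
  rw [this]
  exact hn

/-- The subgroup of elements of order `p` is no plane unless it is everything. -/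
theorem omega_card_ne_sq_or_eq (hS : IsPGroup p S) (hF : F.IsSaturated p) (hp3 : 3 < p)
    (hP : F.IsEssential p P) [Finite P] (hPG : IsPGroup p P)
    (hrk : ∀ E : Subgroup P, Cfsg.IsElementaryAbelian p E → Nat.card E ≤ p ^ 2)
    (hW : Nat.card (omega hp3 hPG hrk (G := P)) = p ^ 2) :
    (∀ x : P, x ^ p = 1) ∧ Nat.card P = p ^ 2 := by
  have hp2 : p ≠ 2 := by omega
  have hPS := hP.1.1
  haveI := finite_of_le hPS
  set W := omega hp3 hPG hrk (G := P) with hWdef
  have hWinv : ∀ (α : MulAut P) (x : P), x ∈ W → α x ∈ W := fun α x hx => by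
    rw [hWdef, mem_omega, ← map_pow, (show x ^ p = 1 from hx), map_one]
  have hexp : ∀ w : W, w ^ p = 1 := fun w => Subtype.ext w.2
  have hWc := Plane.comm (V := W) hW
  set r := (res W hWinv).comp (F.autGroup P).subtype with hr
  have hker : IsPGroup p r.ker := by
    rintro ⟨a, ha⟩
    obtain ⟨k, hk⟩ := exists_pow_eq_one_of_fix hp2 hPG (α := (a : MulAut P)) fun x hx => by
      refine exists_pow_eq_one_of_fix.smul_fix _ x ?_ p
      exact congrArg Subtype.val (DFunLike.congr_fun (MonoidHom.mem_ker.mp ha) (⟨x, hx⟩ : W))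
    exact ⟨k, Subtype.ext (Subtype.ext (by simpa using hk))⟩
  obtain ⟨-, hirr, e, f, g, d, ψ, he, hf, hgP, hge, hgf, -⟩ :=
    frame hS hF hp2 hP hPS hW hexp r hker
  have hWne : Nontrivial W := Finite.one_lt_card_iff_nontrivial.mp
    (by rw [hW]; exact Nat.one_lt_pow two_ne_zero hp.out.one_lt)
  have hPne : Nontrivial P := Function.Injective.nontrivial W.subtype_injective
  -- an invariant subgroup with nontrivial intersection with `W` contains it
  have key : ∀ U : Subgroup P, (∀ (α : MulAut P) x, x ∈ U → α x ∈ U) → U ≠ ⊥ → W ≤ U := by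
    intro U hU hne
    rcases hirr (U.comap W.subtype) (fun a v hv => hU (a : MulAut P) v hv) with h | h
    · exfalso
      haveI := (Subgroup.nontrivial_iff_ne_bot U).mpr hne
      obtain ⟨x, hx⟩ := exists_prime_orderOf_dvd_card' p
        (Huppert.prime_dvd_card (hPG.to_subgroup U))
      have hxp : (x : P) ^ p = 1 := by
        rw [← Subgroup.coe_pow, ← hx, pow_orderOf_eq_one, Subgroup.coe_one]
      have hmem : (⟨(x : P), hxp⟩ : W) ∈ U.comap W.subtype := x.2
      rw [h, Subgroup.mem_bot] at hmem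
      have h3 : (x : P) = ((1 : W) : P) := congrArg (fun w : W => (w : P)) hmem
      have hx1 : x = 1 := Subtype.ext h3
      rw [hx1, orderOf_one] at hx
      exact hp.out.ne_one hx.symm
    · exact fun x hx => (show (⟨x, hx⟩ : W) ∈ U.comap W.subtype from h ▸ Subgroup.mem_top _)
  have hcen : W ≤ Subgroup.center P := key _ (fun α x hx => by
      rw [← map_center_eq α]; exact ⟨x, hx, rfl⟩)
    ((Subgroup.nontrivial_iff_ne_bot _).mp hPG.center_nontrivial)
  have hmeta : Cfsg.IsMetacyclic P := by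
    refine Huppert.metacyclic_of_omega hp3 hPG (le_trans (Subgroup.card_le_of_le ?_) hW.le)
    exact (Subgroup.closure_le _).mpr fun x hx => hx.2
  have hPcomm : ∀ a b : P, a * b = b * a := by
    have hbot : commutator P = ⊥ := by
      by_contra hne
      haveI := Huppert.isCyclic_commutator_of_metacyclic hPG hmeta
      have hle := key (commutator P) (fun α x hx => by
        rw [← Subgroup.characteristic_iff_map_eq.mp (inferInstance : (commutator P).Characteristic) α]
        exact ⟨x, hx, rfl⟩) hne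
      have : IsCyclic W := isCyclic_of_injective (Subgroup.inclusion hle) (Subgroup.inclusion_injective hle)
      obtain ⟨c, hc⟩ := IsCyclic.exists_generator (α := W)
      have h1 := orderOf_eq_card_of_forall_mem_zpowers hc
      have h2 := Nat.le_of_dvd hp.out.pos (orderOf_dvd_of_pow_eq_one (hexp c))
      rw [h1, hW] at h2
      nlinarith [hp.out.two_le]
    intro a b
    refine commutatorElement_eq_one_iff_mul_comm.mp (Subgroup.mem_bot.mp (hbot ▸ ?_))
    exact Subgroup.commutator_mem_commutator (Subgroup.mem_top a) (Subgroup.mem_top b)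
  have hexpP : ∀ x : P, x ^ p = 1 := by
    by_contra h
    push Not at h
    obtain ⟨x, hx⟩ := h
    let U : Subgroup P :=
      { carrier := {y | y ^ p = 1 ∧ ∃ z, y = z ^ p}
        one_mem' := ⟨one_pow p, 1, (one_pow p).symm⟩
        mul_mem' := by
          rintro a b ⟨ha, z, rfl⟩ ⟨hb, z', rfl⟩
          exact ⟨by rw [(show Commute _ _ from hPcomm _ _).mul_pow, ha, hb, one_mul], z * z',
            ((show Commute z z' from hPcomm _ _).mul_pow p).symm⟩
        inv_mem' := by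
          rintro a ⟨ha, z, rfl⟩
          exact ⟨by rw [inv_pow, ha, inv_one], z⁻¹, (inv_pow z p).symm⟩ }
    have hU : U ≠ ⊥ := by
      obtain ⟨k, hk⟩ := IsPGroup.iff_orderOf.mp hPG x
      have hk2 : 2 ≤ k := by
        by_contra hk2
        exact hx (orderOf_dvd_iff_pow_eq_one.mp (hk ▸ (pow_dvd_pow p (by omega : k ≤ 1)).trans
          (by rw [pow_one])))
      intro hbot
      have hmem : x ^ p ^ (k - 1) ∈ U := by
        refine ⟨?_, x ^ p ^ (k - 2), ?_⟩
        · rw [← pow_mul, ← pow_succ, show k - 1 + 1 = k by omega, ← hk, pow_orderOf_eq_one]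
        · rw [← pow_mul, ← pow_succ, show k - 2 + 1 = k - 1 by omega]
      rw [hbot, Subgroup.mem_bot, ← orderOf_dvd_iff_pow_eq_one, hk,
        Nat.pow_dvd_pow_iff_le_right hp.out.one_lt] at hmem
      omega
    obtain ⟨hfp, B, hB⟩ := key U (fun α y ⟨hy, z, hz⟩ => ⟨by rw [← map_pow, hy, map_one], α z,
      by rw [hz, map_pow]⟩) hU f.2
    set u := ((cA F hPS g : ↥(F.autGroup P)) : MulAut P) with hu
    have hue : u (e : P) = e := congrArg Subtype.val hge
    have huf : u (f : P) = (e : P) * f := congrArg Subtype.val hgf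
    set X := B⁻¹ * u B with hX
    have hXp : X ^ p = e := by
      rw [hX, (show Commute _ _ from hPcomm _ _).mul_pow, inv_pow, ← map_pow, ← hB, huf, hPcomm (e : P),
        inv_mul_cancel_left]
    set Y := X⁻¹ * u X with hY
    have hYp : Y ^ p = 1 := by
      rw [hY, (show Commute _ _ from hPcomm _ _).mul_pow, inv_pow, ← map_pow, hXp, hue, inv_mul_cancel]
    set Z := Y⁻¹ * u Y with hZ
    obtain ⟨i, j, hij⟩ := Plane.exists_coords hW hexp he hf ⟨Y, hYp⟩
    have hZe : Z = (e : P) ^ j := by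
      have hY' : Y = (e : P) ^ i * (f : P) ^ j := congrArg Subtype.val hij
      rw [hZ, hY', map_mul, map_pow, map_pow, hue, huf, (show Commute (e : P) f from hPcomm _ _).mul_pow]
      rw [hPcomm ((e : P) ^ j), ← mul_assoc ((e : P) ^ i), inv_mul_cancel_left]
    have hgp : ((g : Ω) ^ p) ∈ P := by
      have hfix : r (cA F hPS (g ^ p)) = 1 := by
        refine Plane.aut_ext hW hexp he hf ?_ ?_
        · rw [map_pow, map_pow, exists_pow_eq_one_of_fix.smul_fix (G := W) _ e hge, MulAut.one_apply]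
        · have : ∀ n : ℕ, (r (cA F hPS g) ^ n) f = e ^ n * f := by
            intro n
            induction n with
            | zero => simp
            | succ n ih =>
              rw [pow_succ', MulAut.mul_apply, ih, map_mul, map_pow, hge, hgf, ← mul_assoc, ← pow_succ]
          rw [map_pow, map_pow, this, hexp, one_mul, MulAut.one_apply]
      obtain ⟨-, hIN, hIp, hO, hRp, hRI⟩ := basic hS hF hP
      have hkerI := Plane.ker_eq hW hexp r _ hIN hIp hO hker _ hRp hRI
      have h1 : cA F hPS (g ^ p) ∈ (Inn P).subgroupOf (F.autGroup P) :=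
        hkerI ▸ MonoidHom.mem_ker.mpr hfix
      exact mem_of_conjAut_mem_inn (hP.1.2 P (isConj_refl F hPS)) hPS (g ^ p).2.1
        (fun x => coe_cA hPS (g ^ p) x) (Subgroup.mem_subgroupOf.mp h1)
    have hup : (u ^ p) B = B := by
      have h1 : cA F hPS g ^ p = cA F hPS (g ^ p) := (map_pow _ _ _).symm
      rw [hu, ← SubgroupClass.coe_pow, h1]
      refine Subtype.ext ?_
      rw [coe_cA]
      have h2 := congrArg Subtype.val (hPcomm ⟨_, hgp⟩ B)
      simp only [Subgroup.coe_mul] at h2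
      rw [SubgroupClass.coe_pow, h2, mul_inv_cancel_right]
    rw [iterate_three hPcomm u (X := X) (Y := Y) (Z := Z) (mul_inv_cancel_left _ _).symm
      (mul_inv_cancel_left _ _).symm (mul_inv_cancel_left _ _).symm
      (by rw [hZe, map_pow, hue])] at hup
    obtain ⟨s, hs⟩ := hp.out.dvd_choose_self two_ne_zero (by omega : 2 < p)
    obtain ⟨t, ht⟩ := hp.out.dvd_choose_self (k := 3) (by omega) hp3
    rw [hs, ht, pow_mul, hYp, one_pow, mul_one, pow_mul, hZe, ← pow_mul (e : P) j, mul_comm j p,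
      pow_mul (e : P), e.2, one_pow, one_pow, mul_one, hXp, mul_eq_left] at hup
    exact he (Subtype.ext hup)
  refine ⟨hexpP, ?_⟩
  rw [← hW, show W = ⊤ from eq_top_iff.mpr fun x _ => hexpP x, Subgroup.card_top]

end Fusion

end Cfsg.Lib.FusionSys.RankTwo
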