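import Cfsg.Agent.Lib.FusionSys.SylowTwoLinear
import Cfsg.Agent.Lib.Linear.HermStandard
import Cfsg.Agent.Lib.Linear.UnitaryCenter
import Cfsg.Agent.S1218
import Cfsg.Agent.S0780
import Cfsg.Agent.Lib.Linear.UnitaryThreeSimple

/-!
The Sylow 2-subgroups of `PSU_3(q)`, `q` odd, are those of `GU_2(q)`.
-/

set_option autoImplicit false
set_option linter.unusedSectionVars false

namespace Cfsg.Lib.FusionSys.Lin

open Matrix

variable {F : Type*} [Field F] [Fintype F] {q : ℕ}

/-- The block matrix `diag(g, det g⁻¹)`. -/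
noncomputable def blockThree (g : Matrix (Fin 2) (Fin 2) F) : Matrix (Fin 3) (Fin 3) F :=
  !![g 0 0, g 0 1, 0; g 1 0, g 1 1, 0; 0, 0, (g.det)⁻¹]

theorem blockThree_mul (g h : Matrix (Fin 2) (Fin 2) F) :
    blockThree (g * h) = blockThree g * blockThree h := by
  ext i j
  fin_cases i <;> fin_cases j <;>
    simp [blockThree, Matrix.mul_apply, Fin.sum_univ_two, Fin.sum_univ_three, Matrix.det_mul, mul_comm]

theorem det_blockThree {g : Matrix (Fin 2) (Fin 2) F} (hd : g.det ≠ 0) : (blockThree g).det = 1 := by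
  rw [blockThree, Matrix.det_fin_three]
  simp
  rw [Matrix.det_fin_two] at hd
  rw [Matrix.det_fin_two]
  field_simp

theorem blockThree_mem (hF : Fintype.card F = q ^ 2) (g : Cfsg.GU 2 F q) (u v : Fin 3 → F) :
    Cfsg.hermForm 3 F q (blockThree ((g : GL (Fin 2) F) : Matrix (Fin 2) (Fin 2) F) *ᵥ u)
      (blockThree ((g : GL (Fin 2) F) : Matrix (Fin 2) (Fin 2) F) *ᵥ v) = Cfsg.hermForm 3 F q u v := by
  have hd := Cfsg.Lib.Linear.Herm.det_GU_pow hF g
  have h2 : Cfsg.hermForm 2 F q (((g : GL (Fin 2) F) : Matrix (Fin 2) (Fin 2) F) *ᵥ ![u 0, u 1])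
      (((g : GL (Fin 2) F) : Matrix (Fin 2) (Fin 2) F) *ᵥ ![v 0, v 1]) =
      Cfsg.hermForm 2 F q ![u 0, u 1] ![v 0, v 1] := g.2 _ _
  generalize ((g : GL (Fin 2) F) : Matrix (Fin 2) (Fin 2) F) = M at hd h2 ⊢
  have hi : (M.det)⁻¹ * (M.det)⁻¹ ^ q = 1 := by rw [← pow_succ', inv_pow, hd, inv_one]
  simp [Cfsg.hermForm, Fin.sum_univ_two, Fin.sum_univ_three, blockThree, Matrix.mulVec, dotProduct,
    mul_pow] at h2 ⊢
  linear_combination h2 + (u 2 * v 2 ^ q) * hi

/-- The embedding of `GU_2` into `SU_3`. -/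
noncomputable def guToSUThree (hF : Fintype.card F = q ^ 2) : Cfsg.GU 2 F q →* Cfsg.SU 3 F q :=
  MonoidHom.mk' (fun g => ⟨⟨blockThree ((g : GL (Fin 2) F) : Matrix (Fin 2) (Fin 2) F),
      det_blockThree ((g : GL (Fin 2) F).isUnit.map Matrix.detMonoidHom).ne_zero⟩, blockThree_mem hF g⟩)
    fun g h => Subtype.ext (Subtype.ext (blockThree_mul ((g : GL (Fin 2) F) : Matrix (Fin 2) (Fin 2) F)
      ((h : GL (Fin 2) F) : Matrix (Fin 2) (Fin 2) F)))

theorem guToSUThree_coe (hF : Fintype.card F = q ^ 2) (g : Cfsg.GU 2 F q) :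
    (((guToSUThree hF g).1 : SpecialLinearGroup (Fin 3) F) : Matrix (Fin 3) (Fin 3) F) =
      blockThree ((g : GL (Fin 2) F) : Matrix (Fin 2) (Fin 2) F) := rfl

theorem guToSUThree_injective (hF : Fintype.card F = q ^ 2) :
    Function.Injective (guToSUThree (q := q) hF) := fun a b h => by
  have h' : blockThree ((a : GL (Fin 2) F) : Matrix (Fin 2) (Fin 2) F) =
      blockThree ((b : GL (Fin 2) F) : Matrix (Fin 2) (Fin 2) F) := by
    rw [← guToSUThree_coe hF a, h]
    exact guToSUThree_coe hF b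
  refine Subtype.ext (Units.ext (Matrix.ext fun i j => ?_))
  have h00 := congrFun (congrFun h' 0) 0
  have h01 := congrFun (congrFun h' 0) 1
  have h10 := congrFun (congrFun h' 1) 0
  have h11 := congrFun (congrFun h' 1) 1
  simp [blockThree] at h00 h01 h10 h11
  fin_cases i <;> fin_cases j <;> simp <;> assumption

theorem sylow_psu_three_equiv (hF : Fintype.card F = q ^ 2) (hq : Odd q)
    (S : Sylow 2 (Cfsg.PSU 3 F q)) (P : Sylow 2 (Cfsg.GU 2 F q)) :
    Nonempty ((P : Subgroup (Cfsg.GU 2 F q)) ≃* (S : Subgroup (Cfsg.PSU 3 F q))) := by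
  classical
  haveI : Fact (Nat.Prime 2) := ⟨Nat.prime_two⟩
  let f : (P : Subgroup (Cfsg.GU 2 F q)) →* Cfsg.PSU 3 F q :=
    (QuotientGroup.mk' (Subgroup.center (Cfsg.SU 3 F q))).comp
      ((guToSUThree hF).comp (P : Subgroup (Cfsg.GU 2 F q)).subtype)
  have hcen := Cfsg.Lib.Linear.Herm.card_center_SU (n := 3) hF (by norm_num)
  have hf : Function.Injective f := by
    rw [injective_iff_map_eq_one]
    intro x hx
    have hz : guToSUThree hF (x : Cfsg.GU 2 F q) ∈ Subgroup.center (Cfsg.SU 3 F q) :=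
      (QuotientGroup.eq_one_iff _).1 hx
    have h1 : guToSUThree hF (x : Cfsg.GU 2 F q) ^ Nat.gcd 3 (q + 1) = 1 := by
      rw [← hcen]
      exact congrArg Subtype.val (pow_card_eq_one' (x := (⟨_, hz⟩ : Subgroup.center (Cfsg.SU 3 F q))))
    have h3 : x ^ 3 = 1 := by
      apply Subtype.ext
      apply guToSUThree_injective hF
      obtain ⟨c, hc⟩ := Nat.gcd_dvd_left 3 (q + 1)
      rw [SubgroupClass.coe_pow, map_pow, OneMemClass.coe_one, map_one]
      calc guToSUThree hF (x : Cfsg.GU 2 F q) ^ 3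
          = (guToSUThree hF (x : Cfsg.GU 2 F q) ^ Nat.gcd 3 (q + 1)) ^ c := by rw [← pow_mul, ← hc]
        _ = 1 := by rw [h1, one_pow]
    obtain ⟨j, hj⟩ := P.2 x
    have h4 := pow_gcd_eq_one.2 ⟨h3, hj⟩
    rwa [Nat.Coprime.gcd_eq_one (Nat.Coprime.pow_right j (by norm_num)), pow_one] at h4
  obtain ⟨R, hR⟩ := (P.2.of_equiv (MonoidHom.ofInjective hf)).exists_le_sylow
  have heq : f.range = R := by
    refine Subgroup.eq_of_le_of_card_ge hR (le_of_eq ?_)
    rw [← Nat.card_congr (MonoidHom.ofInjective hf).toEquiv]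
    obtain ⟨e, t, ht, hGU⟩ :=
      Nat.exists_eq_two_pow_mul_odd (n := Nat.card (Cfsg.GU 2 F q)) Nat.card_pos.ne'
    rw [card_sylow_two P ht hGU]
    have hgu : Nat.card (Cfsg.GU 2 F q) = (q - 1) * (q + 1) * (q + 1) * q := Cfsg.Agent.S1218.card_gu hF
    have hgu3 := Cfsg.Lib.Linear.Herm.card_GU (q := q) hF 3
    rw [← Cfsg.Lib.Linear.Herm.card_SU hF (by norm_num : 1 ≤ 3)] at hgu3
    have hsu : Nat.card (Cfsg.SU 3 F q) = Nat.gcd 3 (q + 1) * Nat.card (Cfsg.PSU 3 F q) := by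
      rw [Subgroup.card_eq_card_quotient_mul_card_subgroup (Subgroup.center (Cfsg.SU 3 F q)), hcen, mul_comm]
    obtain ⟨c, hc⟩ : Nat.gcd 3 (q + 1) ∣ 3 := Nat.gcd_dvd_left _ _
    obtain ⟨d, hd⟩ : ∃ d, q = d + 1 := ⟨q - 1, by have := hq.pos; omega⟩
    have hG : 3 * Nat.card (Cfsg.PSU 3 F q) = 2 ^ e * (t * (c * q * q * (d * d + d + 1))) := by
      apply Nat.eq_of_mul_eq_mul_left (show 0 < q + 1 by omega)
      rw [← mul_assoc (2 ^ e), ← hGU, hgu]
      calc (q + 1) * (3 * Nat.card (Cfsg.PSU 3 F q))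
          = (q + 1) * ((Nat.gcd 3 (q + 1) * c) * Nat.card (Cfsg.PSU 3 F q)) := by rw [← hc]
        _ = c * ((q + 1) * (Nat.gcd 3 (q + 1) * Nat.card (Cfsg.PSU 3 F q))) := by ring
        _ = c * ((q + 1) * Nat.card (Cfsg.SU 3 F q)) := by rw [hsu]
        _ = _ := by
          rw [hgu3, Finset.prod_range_succ, Finset.prod_range_succ, Finset.prod_range_succ,
            Finset.prod_range_zero]
          simp only [Even.zero, if_true, Nat.not_even_one, if_false, zero_add, pow_one, one_mul,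
            show Even 2 from even_two, show 3 * (3 - 1) / 2 = 3 from rfl, Nat.reduceAdd]
          subst hd
          rw [show (d + 1) ^ 2 - 1 = d * (d + 2) from Nat.sub_eq_of_eq_add (by ring),
            show d + 1 - 1 = d from rfl]
          ring
    have h3 : 3 ∣ t * (c * q * q * (d * d + d + 1)) :=
      (Nat.Coprime.pow_right e (show Nat.Coprime 3 2 by norm_num)).dvd_of_dvd_mul_left ⟨_, hG.symm⟩
    obtain ⟨u, hu⟩ := h3
    refine card_sylow_two R (m := u) ?_ ?_
    · refine Odd.of_dvd_nat (ht.mul (((Odd.mul ?_ hq).mul hq).mul ?_)) (Dvd.intro_left _ hu.symm)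
      · exact Odd.of_dvd_nat (by decide : Odd 3) (Dvd.intro_left _ hc.symm)
      · exact ⟨(d * d + d) / 2, by
          have : (d * d + d) % 2 = 0 := by
            rw [show d * d + d = d * (d + 1) by ring]
            exact Nat.even_iff.1 (Nat.even_mul_succ_self d)
          omega⟩
    · rw [hu, show 2 ^ e * (3 * u) = 3 * (2 ^ e * u) by ring] at hG
      exact Nat.eq_of_mul_eq_mul_left (by norm_num) hG
  exact ⟨(MonoidHom.ofInjective hf).trans ((MulEquiv.subgroupCongr heq).trans (Sylow.equiv R S))⟩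

open Cfsg.Lib.Linear.Herm in
/-- `PSU_3(q)` is simple and perfect for `q ≥ 3`. -/
theorem psu_three_simple_perfect (hF : Fintype.card F = q ^ 2) (hq : 3 ≤ q) :
    IsSimpleGroup (Cfsg.PSU 3 F q) ∧ commutator (Cfsg.PSU 3 F q) = ⊤ := by
  have C : Three.Space (hB hF 3) := ⟨frob_ne_id hF, frob_frob hF, hB_isSymm hF 3, hB_nondegenerate hF 3,
    Module.finrank_fin_fun F, Cfsg.Agent.S0780.two_trace_zero hF hq⟩
  have hnorm : ∃ a : F, a ≠ 0 ∧ a * frob hF a ≠ 1 := by
    obtain ⟨g, hg⟩ := IsCyclic.exists_ofOrder_eq_natCard (α := Fˣ)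
    refine ⟨(g : F), g.ne_zero, fun h => ?_⟩
    have h1 : g ^ (q + 1) = 1 := Units.ext (by
      rw [Units.val_pow_eq_pow_val, pow_succ', ← frob_apply hF]; exact h)
    have h2 := Nat.le_of_dvd (by omega) (orderOf_dvd_of_pow_eq_one h1)
    rw [hg, card_units_sq hF] at h2
    have : 2 * (q + 1) ≤ (q + 1) * (q - 1) := by
      rw [mul_comm 2]; exact Nat.mul_le_mul_left _ (by omega)
    omega
  let ψ : Cfsg.SU 3 F q →* ((Fin 3 → F) ≃ₗ[F] (Fin 3 → F)) :=
    Matrix.SpecialLinearGroup.toLin'.comp (Cfsg.SU 3 F q).subtype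
  have hψi : Function.Injective ψ := fun A B h =>
    Subtype.ext (Matrix.SpecialLinearGroup.toLin'_injective h)
  have hran : ψ.range = tvGroup (hB hF 3) := by
    apply le_antisymm
    · rintro _ ⟨A, rfl⟩
      rw [Three.mem_tv C]
      refine ⟨fun u v => A.2 v u, Units.ext ?_⟩
      rw [LinearEquiv.coe_det, Units.val_one,
        show ((ψ A : (Fin 3 → F) ≃ₗ[F] (Fin 3 → F)) : (Fin 3 → F) →ₗ[F] (Fin 3 → F)) =
          Matrix.toLin' ((A : Matrix.SpecialLinearGroup (Fin 3) F) : Matrix (Fin 3) (Fin 3) F) from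
          LinearMap.ext fun x => rfl, LinearMap.det_toLin']
      exact (A : Matrix.SpecialLinearGroup (Fin 3) F).2
    · intro g hg
      obtain ⟨hiso, hdet⟩ := (Three.mem_tv C).1 hg
      have hd : (LinearMap.toMatrix' (g : (Fin 3 → F) →ₗ[F] (Fin 3 → F))).det = 1 := by
        rw [LinearMap.det_toMatrix', ← LinearEquiv.coe_det, hdet, Units.val_one]
      have hm : ∀ x, LinearMap.toMatrix' (g : (Fin 3 → F) →ₗ[F] (Fin 3 → F)) *ᵥ x = g x := fun x => by
        rw [← Matrix.toLin'_apply, Matrix.toLin'_toMatrix']; rfl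
      refine ⟨⟨⟨_, hd⟩, fun u v => ?_⟩, LinearEquiv.ext fun x => hm x⟩
      show Cfsg.hermForm 3 F q (LinearMap.toMatrix' (g : (Fin 3 → F) →ₗ[F] (Fin 3 → F)) *ᵥ u)
        (LinearMap.toMatrix' (g : (Fin 3 → F) →ₗ[F] (Fin 3 → F)) *ᵥ v) = _
      rw [hm, hm, ← hB_apply hF, ← hB_apply hF]
      exact hiso v u
  have hperf : commutator (Cfsg.SU 3 F q) = ⊤ := by
    refine Subgroup.map_injective hψi ?_
    rw [commutator_def, Subgroup.map_commutator, ← MonoidHom.range_eq_map, hran]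
    exact le_antisymm (by
      rw [Subgroup.commutator_le]
      exact fun a ha b hb => mul_mem (mul_mem (mul_mem ha hb) (inv_mem ha)) (inv_mem hb))
      (Three.tv_le_commutator C hnorm)
  have hcomm : commutator (Cfsg.PSU 3 F q) = ⊤ := by
    have h := congrArg (Subgroup.map (QuotientGroup.mk' (Subgroup.center (Cfsg.SU 3 F q)))) hperf
    rw [commutator_def, Subgroup.map_commutator,
      Subgroup.map_top_of_surjective _ (QuotientGroup.mk'_surjective _)] at h
    exact h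
  refine ⟨?_, hcomm⟩
  haveI : Nontrivial (Cfsg.PSU 3 F q) := by
    rw [QuotientGroup.nontrivial_iff]
    intro htop
    have h1 := card_center_SU (n := 3) hF (by norm_num)
    rw [htop, Subgroup.card_top] at h1
    have h2 := Nat.card_le_card_of_injective _ (guToSUThree_injective hF)
    have h5 : Nat.card (Cfsg.GU 2 F q) = (q - 1) * (q + 1) * (q + 1) * q := Cfsg.Agent.S1218.card_gu hF
    rw [h5, h1] at h2
    have h3 : Nat.gcd 3 (q + 1) ≤ 3 := Nat.le_of_dvd (by norm_num) (Nat.gcd_dvd_left _ _)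
    have h4 : 1 * 4 * 1 * 1 ≤ (q - 1) * (q + 1) * (q + 1) * q :=
      Nat.mul_le_mul (Nat.mul_le_mul (Nat.mul_le_mul (by omega) (by omega)) (by omega)) (by omega)
    omega
  refine ⟨fun M hM => ?_⟩
  set N := M.comap (QuotientGroup.mk' (Subgroup.center (Cfsg.SU 3 F q))) with hN
  have hMN : M = N.map (QuotientGroup.mk' (Subgroup.center (Cfsg.SU 3 F q))) :=
    (Subgroup.map_comap_eq_self_of_surjective (QuotientGroup.mk'_surjective _) M).symm
  rcases Three.scalars_or_commutator_le C (N := N.map ψ) (hran ▸ Subgroup.map_le_range ψ N) (by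
      intro t ht g hg
      rw [← hran] at ht
      obtain ⟨T, rfl⟩ := ht
      obtain ⟨g, hg, rfl⟩ := hg
      exact ⟨T * g * T⁻¹, (inferInstance : N.Normal).conj_mem g hg T, by rw [map_mul, map_mul, map_inv]⟩)
    with h | h
  · left
    rw [hMN, Subgroup.map_eq_bot_iff, QuotientGroup.ker_mk']
    intro g hg
    obtain ⟨c, hc⟩ := h _ (Subgroup.mem_map_of_mem ψ hg)
    refine Subgroup.mem_center_iff.2 fun k => hψi ?_
    rw [map_mul, map_mul]
    refine LinearEquiv.ext fun x => ?_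
    rw [LinearEquiv.mul_apply, LinearEquiv.mul_apply, hc, hc, map_smul]
  · right
    have : N = ⊤ := by
      refine eq_top_iff.2 (hperf ▸ ?_)
      rw [← Subgroup.map_le_map_iff_of_injective hψi, commutator_def, Subgroup.map_commutator,
        ← MonoidHom.range_eq_map, hran]
      exact h
    rw [hMN, this, Subgroup.map_top_of_surjective _ (QuotientGroup.mk'_surjective _)]

end Cfsg.Lib.FusionSys.Lin
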