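import Cfsg.Agent.Lib.FusionSys.Tate
import Cfsg.Agent.Lib.PGroup.Basic
import Mathlib.NumberTheory.Padics.PadicVal.Basic
import Mathlib.GroupTheory.Sylow

/-!
# Yoshida's transfer theorem for fusion systems

* `exists_wreath_quotient`: a homomorphism on a maximal subgroup with non-vanishing norm gives a
  quotient `C_p ≀ C_p`.
* `stable_of_aut_stable`: without such a quotient, a homomorphism of `S` onto a group of exponent
  `p` invariant under `Aut_F(S)` is invariant under all of `F`.
-/

set_option autoImplicit false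
set_option linter.style.haveILetI false

universe u v

namespace Cfsg.Lib.FusionSys.Yoshida

open Cfsg Cfsg.FusionSystem Cfsg.Lib.FusionSys
open MulAction

variable {p : ℕ} [hp : Fact p.Prime]

/-! ### Products of a cocycle over orbits -/

section Cocycle

variable {G : Type*} [Group G] {Q : Type*} [MulAction G Q] {C : Type*} [CommGroup C] {c : G → Q → C}
  (hc : ∀ a b q, c (a * b) q = c a (b • q) * c b q)

include hc

omit hp in
theorem prod_range_cocycle (y : G) (q : Q) (l : ℕ) :
    ∏ i ∈ Finset.range l, c y (y ^ i • q) = c (y ^ l) q := by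
  induction l with
  | zero =>
    rw [Finset.prod_range_zero, pow_zero]
    have h := hc 1 1 q
    rw [one_smul, one_mul, left_eq_mul] at h
    exact h.symm
  | succ l ih => rw [Finset.prod_range_succ, ih, pow_succ' y l, hc, mul_comm]

/-- The product over an invariant set without fixed points vanishes if all proper `p`-powers do. -/
theorem prod_eq_one_of_no_fixed [Finite G] (hG : IsPGroup p G) [DecidableEq Q] (y : G)
    (hval : ∀ (j : ℕ) (q : Q), 0 < j → y ^ p ^ j • q = q → c (y ^ p ^ j) q = 1) :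
    ∀ A : Finset Q, (∀ q ∈ A, y • q ∈ A) → (∀ q ∈ A, y • q ≠ q) → ∏ q ∈ A, c y q = 1 := by
  intro A
  induction A using Finset.strongInduction with
  | _ A ih =>
  intro hinv hmove
  rcases A.eq_empty_or_nonempty with rfl | ⟨q, hq⟩
  · exact Finset.prod_empty
  set l := MulAction.period y q with hl
  have hpowA : ∀ i : ℕ, y ^ i • q ∈ A := by
    intro i
    induction i with
    | zero => simpa using hq
    | succ i hi => rw [pow_succ', mul_smul]; exact hinv _ hi
  have hper : y ^ l • q = q := MulAction.pow_period_smul y q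
  obtain ⟨k, hk⟩ := hG y
  obtain ⟨j, -, hj⟩ := (Nat.dvd_prime_pow hp.out).1
    ((MulAction.pow_smul_eq_iff_period_dvd (m := y) (a := q)).1 (by rw [hk, one_smul]) : l ∣ p ^ k)
  rw [← hl] at hj
  have hj0 : 0 < j := by
    by_contra hj0
    obtain rfl : j = 0 := by omega
    rw [hj, pow_zero, pow_one] at hper
    exact hmove q hq hper
  set O := (Finset.range l).image (fun i => y ^ i • q) with hO
  have hOA : O ⊆ A := fun x hx => by
    obtain ⟨i, -, rfl⟩ := Finset.mem_image.1 hx
    exact hpowA i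
  have hmodl : ∀ i : ℕ, y ^ i • q = y ^ (i % l) • q := fun i => by
    conv_lhs => rw [← Nat.mod_add_div i l]
    rw [pow_add, mul_smul, (MulAction.pow_smul_eq_iff_period_dvd).2 (dvd_mul_right l (i / l))]
  have hlpos : 0 < l := by rw [hj]; exact pow_pos hp.out.pos _
  have hinj : Set.InjOn (fun i => y ^ i • q) (Finset.range l : Set ℕ) := by
    intro a ha b hb hab
    simp only [Finset.coe_range, Set.mem_Iio] at ha hb
    rcases le_total a b with h | h
    · have h1 : y ^ (b - a) • q = q := by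
        have h3 : y ^ a • (y ^ (b - a) • q) = y ^ a • q := by
          rw [← mul_smul, ← pow_add, Nat.add_sub_cancel' h]; exact hab.symm
        exact MulAction.injective _ h3
      have h4 := Nat.eq_zero_of_dvd_of_lt ((MulAction.pow_smul_eq_iff_period_dvd).1 h1) (by omega)
      omega
    · have h1 : y ^ (a - b) • q = q := by
        have h3 : y ^ b • (y ^ (a - b) • q) = y ^ b • q := by
          rw [← mul_smul, ← pow_add, Nat.add_sub_cancel' h]; exact hab
        exact MulAction.injective _ h3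
      have h4 := Nat.eq_zero_of_dvd_of_lt ((MulAction.pow_smul_eq_iff_period_dvd).1 h1) (by omega)
      omega
  have hcl : c (y ^ l) q = 1 := by rw [hj]; exact hval j q hj0 (by rw [← hj]; exact hper)
  rw [← Finset.prod_sdiff hOA, hO, Finset.prod_image hinj, prod_range_cocycle hc, hcl, mul_one]
  refine ih _ (Finset.sdiff_ssubset hOA ⟨q, Finset.mem_image.2 ⟨0, Finset.mem_range.2 hlpos, by simp⟩⟩)
    (fun x hx => ?_) fun x hx => hmove x (Finset.mem_sdiff.1 hx).1
  rw [Finset.mem_sdiff] at hx ⊢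
  refine ⟨hinv x hx.1, fun hmem => hx.2 ?_⟩
  obtain ⟨i, -, hi⟩ := Finset.mem_image.1 hmem
  refine Finset.mem_image.2 ⟨(i + (l - 1)) % l, Finset.mem_range.2 (Nat.mod_lt _ hlpos), ?_⟩
  rw [← hmodl]
  refine MulAction.injective y ?_
  show y • y ^ (i + (l - 1)) • q = y • x
  rw [← hi, ← mul_smul, ← pow_succ', show i + (l - 1) + 1 = i + l by omega, pow_add, mul_smul, hper]

end Cocycle

/-! ### The wreath quotient -/

theorem not_pow_dvd_factorial_sq : ¬ p ^ (p + 2) ∣ (p ^ 2).factorial := by
  intro h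
  have h1 : padicValNat p (p ^ 2).factorial = p + 1 := by
    rw [sq, padicValNat_factorial_mul]
    have h2 := padicValNat_factorial_mul (p := p) 1
    rw [mul_one] at h2
    rw [h2, Nat.factorial_one, padicValNat_one_right, add_comm, zero_add]
  have h3 := (padicValNat_dvd_iff_le (Nat.factorial_ne_zero _)).1 h
  omega

theorem exists_wreath_quotient {G : Type*} [Group G] [Finite G] (hG : IsPGroup p G) {M : Subgroup G}
    [M.Normal] (hM : M.index = p) {b : G} (hb : b ∉ M) (h : M →* Multiplicative (ZMod p)) (s : M)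
    (hs : ∏ i ∈ Finset.range p, h (MulAut.conjNormal (b ^ i) s) ≠ 1) :
    ∃ (W : Sylow p (Equiv.Perm (Fin (p ^ 2)))) (f : G →* ↥(W : Subgroup (Equiv.Perm (Fin (p ^ 2))))),
      Function.Surjective f := by
  classical
  haveI : NeZero p := ⟨hp.out.ne_zero⟩
  have hbp : b ^ p ∈ M := hM ▸ M.pow_index_mem b
  let C : ℕ → M → ZMod p := fun i x => Multiplicative.toAdd (h (MulAut.conjNormal (b ^ i) x))
  have hCmul : ∀ i x y, C i (x * y) = C i x + C i y := fun i x y => by
    simp only [C, map_mul, toAdd_mul]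
  have hper : ∀ i x, C (i + p) x = C i x := fun i x => by
    have he : MulAut.conjNormal (b ^ (i + p)) x =
        (⟨b ^ p, hbp⟩ : M) * MulAut.conjNormal (b ^ i) x * (⟨b ^ p, hbp⟩ : M)⁻¹ := Subtype.ext (by
      simp only [MulAut.conjNormal_apply, Subgroup.coe_mul, Subgroup.coe_inv]
      rw [add_comm, pow_add]; group)
    simp only [C]
    rw [he]
    congr 1
    simp only [map_mul, map_inv]
    exact mul_inv_cancel_comm _ _
  have hmod : ∀ i x, C i x = C (i % p) x := by
    intro i x
    induction i using Nat.strong_induction_on with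
    | _ i ih =>
      rcases lt_or_ge i p with hlt | hge
      · rw [Nat.mod_eq_of_lt hlt]
      · obtain ⟨k, rfl⟩ : ∃ k, i = k + p := ⟨i - p, by omega⟩
        rw [hper, Nat.add_mod_right]
        exact ih k (by have := hp.out.pos; omega)
  let U : Submodule (ZMod p) (ZMod p → ZMod p) :=
    AddSubgroup.toZModSubmodule p
      { carrier := {u | ∃ x : M, ∀ i : ZMod p, u i = C i.val x}
        zero_mem' := ⟨1, fun i => by simp [C]⟩
        add_mem' := by
          rintro u v ⟨x, hx⟩ ⟨y, hy⟩
          exact ⟨x * y, fun i => by rw [Pi.add_apply, hx, hy, hCmul]⟩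
        neg_mem' := by
          rintro u ⟨x, hx⟩
          exact ⟨x⁻¹, fun i => by simp [Pi.neg_apply, hx, C]⟩ }
  have hU : ∀ u, u ∈ U ↔ ∃ x : M, ∀ i : ZMod p, u i = C i.val x := fun u => Iff.rfl
  have hshift : ∀ u ∈ U, ∀ t : ZMod p, (fun i => u (i + t)) ∈ U := by
    intro u hu t
    obtain ⟨x, hx⟩ := (hU u).1 hu
    refine (hU _).2 ⟨MulAut.conjNormal (b ^ t.val) x, fun i => ?_⟩
    rw [hx]
    have hci : C i.val (MulAut.conjNormal (b ^ t.val) x) = C (i.val + t.val) x := by
      simp only [C, pow_add, map_mul, MulAut.mul_apply]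
    rw [hci, hmod (i.val + t.val), ZMod.val_add]
  have hsum : ∃ u ∈ U, ∑ i, u i ≠ 0 := by
    refine ⟨fun i => C i.val s, (hU _).2 ⟨s, fun i => rfl⟩, fun h0 => hs ?_⟩
    apply Multiplicative.toAdd.injective
    rw [toAdd_prod, toAdd_one, ← h0]
    refine (Finset.sum_nbij (fun i : ZMod p => i.val) (fun i _ => Finset.mem_range.2 (ZMod.val_lt i))
      (fun i _ j _ hij => ZMod.val_injective p hij) (fun n hn => ?_) fun i _ => rfl).symm
    exact ⟨(n : ZMod p), Finset.mem_univ _, ZMod.val_natCast_of_lt (Finset.mem_range.1 hn)⟩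
  have hUtop : U = ⊤ := by
    by_contra hne
    let A : AddSubgroup (ZMod p → ZMod p) :=
      { carrier := {a | ∀ u ∈ U, ∑ i, a i * u i = 0}
        zero_mem' := fun u _ => by simp
        add_mem' := fun {a a'} ha ha' u hu => by
          simp only [Pi.add_apply, add_mul, Finset.sum_add_distrib, ha u hu, ha' u hu, add_zero]
        neg_mem' := fun {a} ha u hu => by
          simp only [Pi.neg_apply, neg_mul, Finset.sum_neg_distrib, ha u hu, neg_zero] }
    obtain ⟨φ, hφ0, hφ⟩ := Submodule.exists_le_ker_of_lt_top U (lt_top_iff_ne_top.2 hne)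
    let a₀ : ZMod p → ZMod p := fun i => φ (Pi.single i 1)
    have hφa : ∀ u, φ u = ∑ i, a₀ i * u i := by
      intro u
      conv_lhs => rw [← Finset.univ_sum_single u, map_sum]
      refine Finset.sum_congr rfl fun i _ => ?_
      rw [mul_comm, ← smul_eq_mul, ← map_smul]
      congr 1
      rw [← Pi.single_smul, smul_eq_mul, mul_one]
    have ha₀ : a₀ ∈ A := fun u hu => by
      rw [← hφa]; exact LinearMap.mem_ker.1 (hφ hu)
    have ha₀0 : a₀ ≠ 0 := fun h0 => hφ0 (LinearMap.ext fun u => by simp [hφa, h0])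
    letI : MulAction (Multiplicative (ZMod p)) A :=
      { smul := fun t a => ⟨fun i => (a : ZMod p → ZMod p) (i + t.toAdd), fun u hu => by
          have h1 := a.2 _ (hshift u hu (-t.toAdd))
          rw [← h1]
          exact Fintype.sum_equiv (Equiv.addRight t.toAdd) _ _ fun i => by simp⟩
        one_smul := fun a => Subtype.ext (funext fun i => by
          show (a : ZMod p → ZMod p) (i + 0) = _; rw [add_zero])
        mul_smul := fun t t' a => Subtype.ext (funext fun i => by
          show (a : ZMod p → ZMod p) (i + (t * t').toAdd) = (a : ZMod p → ZMod p) (i + t.toAdd + t'.toAdd)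
          rw [toAdd_mul, add_assoc]) }
    have hTp : IsPGroup p (Multiplicative (ZMod p)) := IsPGroup.of_card (n := 1) (by simp)
    have hdvd : p ∣ Nat.card A := by
      have h1 : (p : ℕ) • (⟨a₀, ha₀⟩ : A) = 0 := Subtype.ext (funext fun i => by simp)
      have h2 := addOrderOf_dvd_natCard (⟨a₀, ha₀⟩ : A)
      rwa [addOrderOf_eq_prime h1 fun h0 => ha₀0 (congrArg Subtype.val h0)] at h2
    obtain ⟨a, ha, ha0⟩ := hTp.exists_fixed_point_of_prime_dvd_card_of_fixed_point A hdvd
      (a := 0) (MulAction.mem_fixedPoints.2 fun t => Subtype.ext (funext fun i => rfl))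
    have hconst : ∀ i, (a : ZMod p → ZMod p) i = (a : ZMod p → ZMod p) 0 := fun i => by
      have h1 := congrArg (fun z : A => (z : ZMod p → ZMod p) 0)
        (MulAction.mem_fixedPoints.1 ha (Multiplicative.ofAdd i))
      change (a : ZMod p → ZMod p) (0 + i) = _ at h1
      rwa [zero_add] at h1
    obtain ⟨u, hu, husum⟩ := hsum
    have h1 := a.2 u hu
    simp only [hconst] at h1
    rw [← Finset.mul_sum, mul_eq_zero] at h1
    exact ha0 (Subtype.ext (funext fun i => by
      rw [hconst]; exact ((h1.resolve_right husum).symm : _)))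
  -- the permutation representation
  have hhs : Function.Surjective h := by
    intro t
    obtain ⟨x, hx⟩ := (hU _).1 (hUtop ▸ Submodule.mem_top : (fun _ => t.toAdd) ∈ U)
    refine ⟨x, Multiplicative.toAdd.injective ?_⟩
    rw [hx 0, ZMod.val_zero]
    simp [C]
  set K := h.ker.map M.subtype with hK
  have hKidx : K.index = p ^ 2 := by
    rw [hK, Subgroup.index_map_subtype, Subgroup.index_ker, MonoidHom.range_eq_top.2 hhs,
      Subgroup.card_top, hM, sq]
    simp
  let Ψ : M →* Multiplicative (ZMod p → ZMod p) :=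
    { toFun := fun x => Multiplicative.ofAdd fun i => C i.val x
      map_one' := by simp [C]; rfl
      map_mul' := fun x y => by
        rw [← ofAdd_add]
        congr 1
        funext i
        rw [Pi.add_apply, hCmul] }
  have hΨs : Function.Surjective Ψ := fun t => by
    obtain ⟨x, hx⟩ := (hU _).1 (hUtop ▸ Submodule.mem_top : t.toAdd ∈ U)
    exact ⟨x, congrArg Multiplicative.ofAdd (funext fun i => (hx i).symm)⟩
  let π : G →* Equiv.Perm (Fin (p ^ 2)) :=
    (Equiv.permCongrHom ((Nat.equivFinOfCardPos (by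
      rw [← Subgroup.index, hKidx]; exact pow_ne_zero _ hp.out.ne_zero)).trans
        (finCongr hKidx))).toMonoidHom.comp (MulAction.toPermHom G (G ⧸ K))
  have hkerπ : π.ker ≤ Ψ.ker.map M.subtype := by
    intro x hx
    have hx' : x ∈ K.normalCore := by
      rw [Subgroup.normalCore_eq_ker]
      exact MonoidHom.mem_ker.2 ((Equiv.permCongrHom _).injective
        (by rw [map_one]; exact MonoidHom.mem_ker.1 hx))
    have hxM : x ∈ M := Subgroup.map_subtype_le _ (Subgroup.normalCore_le K hx')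
    refine ⟨⟨x, hxM⟩, MonoidHom.mem_ker.2 ?_, rfl⟩
    show Multiplicative.ofAdd (fun i : ZMod p => C i.val ⟨x, hxM⟩) = 1
    rw [ofAdd_eq_one]
    funext i
    obtain ⟨y, hy, hye⟩ := Subgroup.normalCore_le K
      ((inferInstance : K.normalCore.Normal).conj_mem x hx' (b ^ i.val))
    have hy' : MulAut.conjNormal (b ^ i.val) (⟨x, hxM⟩ : M) = y := Subtype.ext hye.symm
    show Multiplicative.toAdd (h _) = 0
    rw [hy', MonoidHom.mem_ker.1 hy, toAdd_one]
  have hbig : p ^ (p + 1) ∣ Nat.card π.range := by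
    rw [← Subgroup.index_ker]
    refine dvd_trans ?_ (Subgroup.index_dvd_of_le hkerπ)
    rw [Subgroup.index_map_subtype, Subgroup.index_ker, MonoidHom.range_eq_top.2 hΨs,
      Subgroup.card_top, hM, pow_succ]
    simp
  have hrp : IsPGroup p π.range := fun ⟨y, x, hxy⟩ => by
    obtain ⟨k, hk⟩ := hG x
    exact ⟨k, Subtype.ext (by
      show y ^ p ^ k = 1
      rw [← hxy, ← map_pow, hk, map_one])⟩
  obtain ⟨W, hW⟩ := hrp.exists_le_sylow
  have hWe : π.range = (W : Subgroup (Equiv.Perm (Fin (p ^ 2)))) := by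
    refine Subgroup.eq_of_le_of_card_ge hW ?_
    obtain ⟨j, hj⟩ := IsPGroup.iff_card.1 W.isPGroup'
    have h1 : p ^ j ∣ (p ^ 2).factorial := by
      rw [← hj]
      have h3 := Subgroup.card_subgroup_dvd_card (W : Subgroup (Equiv.Perm (Fin (p ^ 2))))
      rwa [Nat.card_perm, Nat.card_fin] at h3
    have hjp : j ≤ p + 1 := by
      by_contra hcon
      exact not_pow_dvd_factorial_sq ((pow_dvd_pow p (by omega)).trans h1)
    rw [hj]
    exact (Nat.pow_le_pow_right hp.out.pos hjp).trans (Nat.le_of_dvd Nat.card_pos hbig)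
  refine ⟨W, (MulEquiv.subgroupCongr hWe).toMonoidHom.comp π.rangeRestrict, ?_⟩
  exact (MulEquiv.subgroupCongr hWe).surjective.comp π.rangeRestrict_surjective

/-! ### Stability -/

variable {Ω : Type u} [Group Ω] {S : Subgroup Ω} [Finite S] {F : FusionSystem S}

/-- An `Aut_F(S)`-invariant homomorphism onto exponent `p` is stable, unless `S` has a quotient
`C_p ≀ C_p`. -/
theorem stable_of_aut_stable (hS : IsPGroup p S) (hF : F.IsSaturated p)
    (hW : ¬ ∃ (W : Sylow p (Equiv.Perm (Fin (p ^ 2))))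
      (f : ↥S →* ↥(W : Subgroup (Equiv.Perm (Fin (p ^ 2))))), Function.Surjective f)
    (f : S →* Multiplicative (ZMod p))
    (hf : ∀ (φ : S →* Ω) (hφ : φ ∈ F.Hom S) (x : S), f ⟨φ x, hom_mem hφ x⟩ = f x) :
    ∀ (P : Subgroup Ω) (φ : P →* Ω) (hφ : φ ∈ F.Hom P) (x : P),
      f ⟨φ x, hom_mem hφ x⟩ = f ⟨x, hom_le hφ x.2⟩ := by
  classical
  obtain ⟨X, _, _, hX, hst, m, hm, hpm⟩ := exists_biset hS hF
  haveI : Fintype (Quotient (rightSetoid S X)) := Fintype.ofFinite _
  have hexp : ∀ t : Multiplicative (ZMod p), t ^ p = 1 := fun t =>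
    Multiplicative.toAdd.injective (by rw [toAdd_pow, toAdd_one, nsmul_eq_mul, ZMod.natCast_self, zero_mul])
  letI : MulAction S X := MulAction.compHom X (MonoidHom.inr S S)
  obtain ⟨g, hg⟩ := exists_equivariant (K := S) (X := X) f fun t x ht => by
    rw [hX.free (show ((1 : S), t) • x = x from ht), map_one]
  have hg1 : ∀ (t : S) (x : X), g (((1 : S), t) • x) = f t * g x := hg
  set D := bisetTransfer f g hg1 with hD
  letI : MulAction S (Quotient (rightSetoid S X)) :=
    { smul := fun s q => leftOrbitPerm s q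
      one_smul := fun q => by
        induction q using Quotient.inductionOn with
        | h x =>
          show (Quotient.mk (rightSetoid S X) (((1 : S), (1 : S)) • x)) = _
          rw [← Prod.one_eq_mk, one_smul]
      mul_smul := fun a b q => by
        induction q using Quotient.inductionOn with
        | h x =>
          show Quotient.mk (rightSetoid S X) ((a * b, (1 : S)) • x) =
            Quotient.mk (rightSetoid S X) ((a, (1 : S)) • (b, (1 : S)) • x)
          rw [← mul_smul, Prod.mk_mul_mk, one_mul] }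
  set c : S → Quotient (rightSetoid S X) → Multiplicative (ZMod p) := ratioAt f g hg1 with hcdef
  have hc : ∀ a b q, c (a * b) q = c a (b • q) * c b q := by
    intro a b q
    induction q using Quotient.inductionOn with
    | h x =>
      show g ((a * b, (1 : S)) • x) / g x =
        g ((a, (1 : S)) • (b, (1 : S)) • x) / g ((b, (1 : S)) • x) * (g ((b, (1 : S)) • x) / g x)
      rw [← mul_smul, Prod.mk_mul_mk, one_mul, div_mul_div_cancel]
  -- the value at a fixed point
  have hgraph : ∀ x : X, ∃ (P : Subgroup Ω) (φ : P →* Ω) (hφ : φ ∈ F.Hom P),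
      ∀ s : S, s • Quotient.mk (rightSetoid S X) x = Quotient.mk (rightSetoid S X) x →
        ∃ hs : (s : Ω) ∈ P, c s (Quotient.mk (rightSetoid S X) x) = (f ⟨φ ⟨s, hs⟩, hom_mem hφ _⟩)⁻¹ := by
    intro x
    obtain ⟨Q, P, φ, hφ, -, hgr⟩ := hX x
    refine ⟨P, φ, hφ, fun s hs => ?_⟩
    obtain ⟨t, ht⟩ : ∃ t : S, ((1 : S), t) • ((s, (1 : S)) • x) = x := Quotient.exact hs
    have hst' : (s, t) ∈ stabilizer (↥S × ↥S) x := by
      rw [mem_stabilizer_iff, show (s, t) = ((1 : S), t) * (s, (1 : S)) by simp, mul_smul, ht]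
    rw [← hgr, mem_graph] at hst'
    obtain ⟨y, hy1, hy2⟩ := hst'
    refine ⟨hy1 ▸ y.2, ?_⟩
    show g ((s, (1 : S)) • x) / g x = _
    have h1 := hg1 t ((s, (1 : S)) • x)
    rw [ht] at h1
    have h2 : t = (⟨φ ⟨s, hy1 ▸ y.2⟩, hom_mem hφ _⟩ : S) := Subtype.ext (hy2.trans (congrArg φ (Subtype.ext hy1.symm)))
    rw [h1, ← h2, div_mul_cancel_right]
  set Q0 := MulAction.fixedPoints S (Quotient (rightSetoid S X)) with hQ0
  -- points fixed by all of `S`
  have hfull : ∀ q ∈ Q0, ∀ s : S, c s q = (f s)⁻¹ := by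
    intro q hq s
    induction q using Quotient.inductionOn with
    | h x =>
    obtain ⟨P, φ, hφ, hval⟩ := hgraph x
    have hSP : S ≤ P := fun z hz => (hval ⟨z, hz⟩ (hq ⟨z, hz⟩)).1
    obtain ⟨hs, he⟩ := hval s (hq s)
    rw [he]
    exact congrArg Inv.inv (hf _ (restrict_mem hφ hSP) s)
  have hQcard : (Fintype.card (Quotient (rightSetoid S X))) = m := by
    rw [← Nat.card_eq_fintype_card]
    exact Nat.eq_of_mul_eq_mul_right Nat.card_pos ((card_eq_orbits_mul hX).symm.trans hm)
  have hk : ¬ p ∣ Nat.card Q0 := by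
    have h1 := hS.card_modEq_card_fixedPoints (Quotient (rightSetoid S X))
    rw [Nat.card_eq_fintype_card (α := Quotient (rightSetoid S X)), hQcard] at h1
    exact fun hd => hpm ((Nat.ModEq.dvd_iff h1 dvd_rfl).2 hd)
  -- induction on the order
  suffices key : ∀ (n : ℕ) (P : Subgroup Ω) (φ : P →* Ω) (hφ : φ ∈ F.Hom P) (x : P),
      orderOf x ≤ n → f ⟨φ x, hom_mem hφ x⟩ = f ⟨x, hom_le hφ x.2⟩ from
    fun P φ hφ x => key _ P φ hφ x le_rfl
  intro n
  induction n with
  | zero =>
    intro P φ hφ x hx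
    haveI := finite_of_le (hom_le hφ)
    exact absurd (orderOf_pos x) (by omega)
  | succ n ih =>
  have hD' : ∀ s : S, orderOf s ≤ n + 1 → D s = (f s)⁻¹ ^ Nat.card Q0 := by
    intro s hs
    have hval : ∀ (j : ℕ) (q : Quotient (rightSetoid S X)), 0 < j → s ^ p ^ j • q = q →
        c (s ^ p ^ j) q = 1 := by
      intro j q hj hq
      induction q using Quotient.inductionOn with
      | h x =>
      obtain ⟨P, φ, hφ, hv⟩ := hgraph x
      obtain ⟨hsP, he⟩ := hv _ hq
      rcases eq_or_ne s 1 with rfl | hs1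
      · have h1 : (⟨φ ⟨((1 : S) ^ p ^ j : S), hsP⟩, hom_mem hφ _⟩ : S) = 1 := Subtype.ext (by
          show φ _ = 1
          rw [show (⟨((1 : S) ^ p ^ j : S), hsP⟩ : P) = 1 from Subtype.ext (by simp), map_one])
        rw [he, h1, map_one, inv_one]
      have hlt : orderOf (⟨((s ^ p ^ j : S) : Ω), hsP⟩ : P) ≤ n := by
        rw [Subgroup.orderOf_mk, Subgroup.orderOf_coe]
        obtain ⟨e, he'⟩ := hS s
        obtain ⟨e', -, he''⟩ := (Nat.dvd_prime_pow hp.out).1 (orderOf_dvd_of_pow_eq_one he')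
        have he0 : e' ≠ 0 := fun h0 => hs1 (orderOf_eq_one_iff.1 (by rw [he'', h0, pow_zero]))
        have hpe : s ^ p ^ j = (s ^ p) ^ p ^ (j - 1) := by
          rw [← pow_mul, ← pow_succ', Nat.sub_add_cancel hj]
        have h2 : orderOf (s ^ p) < orderOf s := by
          rw [orderOf_pow_of_dvd hp.out.ne_zero (he'' ▸ dvd_pow_self p he0)]
          exact Nat.div_lt_self (orderOf_pos s) hp.out.one_lt
        have h3 : orderOf (s ^ p ^ j) ≤ orderOf (s ^ p) :=
          Nat.le_of_dvd (orderOf_pos _) (hpe ▸ orderOf_pow_dvd _)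
        omega
      rw [he, ih P φ hφ ⟨_, hsP⟩ hlt, inv_eq_one]
      show f (s ^ p ^ j) = 1
      rw [map_pow, ← Nat.sub_add_cancel hj, pow_succ, pow_mul, hexp]
    show ∏ q, c s q = _
    rw [← Finset.prod_filter_mul_prod_filter_not Finset.univ (fun q => q ∈ Q0)]
    have h1 : ∏ q ∈ Finset.univ.filter (fun q => q ∈ Q0), c s q = (f s)⁻¹ ^ Nat.card Q0 := by
      rw [Finset.prod_congr rfl fun q hq => hfull q (Finset.mem_filter.1 hq).2 s, Finset.prod_const]
      congr 1
      rw [Nat.card_eq_fintype_card, Fintype.card_subtype]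
    rw [h1, mul_eq_left, ← Finset.prod_fiberwise_of_maps_to
      (g := fun q => (Quotient.mk (MulAction.orbitRel S (Quotient (rightSetoid S X))) q))
      (t := Finset.univ) (fun q _ => Finset.mem_univ _)]
    refine Finset.prod_eq_one fun o _ => ?_
    induction o using Quotient.inductionOn with
    | h q₀ =>
    by_cases hq₀ : q₀ ∈ Q0
    · refine Finset.prod_eq_one fun q hq => ?_
      simp only [Finset.mem_filter, Finset.mem_univ, true_and] at hq
      obtain ⟨a, rfl⟩ : q ∈ MulAction.orbit S q₀ := Quotient.exact hq.2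
      exact absurd ((hq₀ a).symm ▸ hq₀ : a • q₀ ∈ Q0) hq.1
    have hstab : MulAction.stabilizer S q₀ ≠ ⊤ := fun h => hq₀ fun a =>
      MulAction.mem_stabilizer_iff.1 (h ▸ Subgroup.mem_top a)
    obtain ⟨M, hMc, hMle⟩ := (eq_top_or_exists_le_coatom _).resolve_left hstab
    haveI hMn : M.Normal := Cfsg.Lib.PGroup.normal_of_isCoatom hS hMc
    have hMp : M.index = p := Cfsg.Lib.PGroup.index_of_isCoatom hS hMc
    have hfilter : ∀ q, q ∈ (Finset.univ.filter fun q => q ∉ Q0).filter
        (fun q => Quotient.mk (MulAction.orbitRel S (Quotient (rightSetoid S X))) q = Quotient.mk _ q₀) ↔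
        q ∈ MulAction.orbit S q₀ := by
      intro q
      simp only [Finset.mem_filter, Finset.mem_univ, true_and]
      refine ⟨fun h => Quotient.exact h.2, fun h => ⟨fun hq => hq₀ ?_, Quotient.sound h⟩⟩
      obtain ⟨a, rfl⟩ := h
      have h3 := hq a⁻¹
      rw [inv_smul_smul] at h3
      exact h3.symm ▸ hq
    by_cases hsM : s ∈ M
    swap
    · refine prod_eq_one_of_no_fixed hc hS s hval _ (fun q hq => ?_) (fun q hq hfix => hsM ?_)
      · rw [hfilter] at hq ⊢
        exact MulAction.mem_orbit_of_mem_orbit s hq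
      · obtain ⟨a, rfl⟩ := (hfilter q).1 hq
        have h3 : a⁻¹ * s * a ∈ M := hMle (MulAction.mem_stabilizer_iff.2 (by
          rw [mul_smul, mul_smul, hfix, inv_smul_smul]))
        have h4 := hMn.conj_mem _ h3 a
        rwa [show a * (a⁻¹ * s * a) * a⁻¹ = s by group] at h4
    -- the norm from a maximal subgroup
    obtain ⟨b, hb⟩ : ∃ b, b ∉ M := by
      by_contra hcon
      push Not at hcon
      exact hMc.1 ((Subgroup.eq_top_iff' M).2 hcon)
    set O0 := Finset.univ.filter (fun q => ∃ a ∈ M, a • q₀ = q) with hO0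
    have hO0inv : ∀ a ∈ M, ∀ q, (a • q ∈ O0 ↔ q ∈ O0) := by
      intro a ha q
      simp only [hO0, Finset.mem_filter, Finset.mem_univ, true_and]
      constructor
      · rintro ⟨a', ha', he⟩
        exact ⟨a⁻¹ * a', M.mul_mem (M.inv_mem ha) ha', by rw [mul_smul, he, inv_smul_smul]⟩
      · rintro ⟨a', ha', rfl⟩
        exact ⟨a * a', M.mul_mem ha ha', mul_smul _ _ _⟩
    let h : M →* Multiplicative (ZMod p) := MonoidHom.mk' (fun a => ∏ q ∈ O0, c (a : S) q) fun a a' => by
      simp only [Subgroup.coe_mul]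
      rw [Finset.prod_congr rfl fun q _ => hc (a : S) (a' : S) q, Finset.prod_mul_distrib]
      congr 1
      exact Finset.prod_equiv (MulAction.toPerm (a' : S)) (fun q => (hO0inv _ a'.2 q).symm) fun q _ => rfl
    have hsi : ∀ i : ℕ, (b ^ i)⁻¹ * s * b ^ i ∈ M := fun i => by
      simpa using hMn.conj_mem s hsM (b ^ i)⁻¹
    have hnorm : ∏ q ∈ (Finset.univ.filter fun q => q ∉ Q0).filter
        (fun q => Quotient.mk (MulAction.orbitRel S (Quotient (rightSetoid S X))) q = Quotient.mk _ q₀),
          c s q = ∏ i ∈ Finset.range p, h ⟨(b ^ i)⁻¹ * s * b ^ i, hsi i⟩ := by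
      have hbi : ∀ i q, c s (b ^ i • q) * c (b ^ i) q =
          c (b ^ i) (((b ^ i)⁻¹ * s * b ^ i) • q) * c ((b ^ i)⁻¹ * s * b ^ i) q := by
        intro i q
        rw [← hc, ← hc]
        congr 1
        group
      have h2 : ∀ i, h ⟨(b ^ i)⁻¹ * s * b ^ i, hsi i⟩ = ∏ q ∈ O0, c s (b ^ i • q) := by
        intro i
        have e1 : ∏ q ∈ O0, c (b ^ i) (((b ^ i)⁻¹ * s * b ^ i) • q) = ∏ q ∈ O0, c (b ^ i) q :=
          Finset.prod_equiv (MulAction.toPerm ((b ^ i)⁻¹ * s * b ^ i))
            (fun q => (hO0inv _ (hsi i) q).symm) fun q _ => rfl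
        have e2 := Finset.prod_congr (s₁ := O0) rfl fun q _ => hbi i q
        rw [Finset.prod_mul_distrib, Finset.prod_mul_distrib, e1, mul_comm (∏ q ∈ O0, c (b ^ i) q)] at e2
        exact (mul_right_cancel e2).symm
      rw [Finset.prod_congr rfl fun i _ => h2 i, ← Finset.prod_product']
      refine (Finset.prod_bij (fun z _ => b ^ z.1 • z.2) ?_ ?_ ?_ fun z _ => rfl).symm
      · intro z hz
        rw [hfilter]
        obtain ⟨-, hz2⟩ := Finset.mem_product.1 hz
        simp only [hO0, Finset.mem_filter, Finset.mem_univ, true_and] at hz2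
        obtain ⟨a, -, ha⟩ := hz2
        exact ⟨b ^ z.1 * a, by rw [← ha]; exact mul_smul _ _ _⟩
      · rintro ⟨i, q⟩ hi ⟨i', q'⟩ hi' he
        simp only [Finset.mem_product, Finset.mem_range, hO0, Finset.mem_filter, Finset.mem_univ,
          true_and] at hi hi'
        obtain ⟨hip, a, ha, rfl⟩ := hi
        obtain ⟨hip', a', ha', rfl⟩ := hi'
        have hmem : (b ^ i * a)⁻¹ * (b ^ i' * a') ∈ M := hMle (MulAction.mem_stabilizer_iff.2 (by
          rw [mul_smul, mul_smul, ← he, ← mul_smul (b ^ i), inv_smul_smul]))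
        have h5 : (b ^ i)⁻¹ * b ^ i' ∈ M := by
          have h6 := M.mul_mem (M.mul_mem ha hmem) (M.inv_mem ha')
          simpa [mul_assoc] using h6
        have h7 : ((b : S) : S ⧸ M) ^ i = ((b : S) : S ⧸ M) ^ i' := by
          rw [← QuotientGroup.mk_pow, ← QuotientGroup.mk_pow]
          exact QuotientGroup.eq.2 h5
        have h8 : orderOf ((b : S) : S ⧸ M) = p := orderOf_eq_prime (by
          rw [← QuotientGroup.mk_pow, QuotientGroup.eq_one_iff, ← hMp]
          exact M.pow_index_mem b) fun h => hb ((QuotientGroup.eq_one_iff b).1 h)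
        have h9 : i = i' := (pow_injOn_Iio_orderOf (x := ((b : S) : S ⧸ M)))
          (by rw [h8]; exact hip) (by rw [h8]; exact hip') h7
        subst h9
        exact Prod.ext rfl (MulAction.injective (b ^ i) he)
      · intro q hq
        obtain ⟨a, rfl⟩ := (hfilter q).1 hq
        haveI : Fact (Nat.card (S ⧸ M)).Prime := ⟨by rw [← Subgroup.index, hMp]; exact hp.out⟩
        have hb' : ((b : S) : S ⧸ M) ≠ 1 := fun h => hb ((QuotientGroup.eq_one_iff b).1 h)
        obtain ⟨i, hi, hie⟩ := Finset.mem_image.1 (show ((a : S) : S ⧸ M) ∈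
          (Finset.range (orderOf ((b : S) : S ⧸ M))).image (((b : S) : S ⧸ M) ^ ·) from
            (mem_zpowers_iff_mem_range_orderOf).1 (mem_zpowers_of_prime_card rfl hb'))
        have h8 : orderOf ((b : S) : S ⧸ M) = p := orderOf_eq_prime (by
          rw [← QuotientGroup.mk_pow, QuotientGroup.eq_one_iff, ← hMp]
          exact M.pow_index_mem b) hb'
        rw [← QuotientGroup.mk_pow, QuotientGroup.eq] at hie
        refine ⟨⟨i, ((b ^ i)⁻¹ * a) • q₀⟩, Finset.mem_product.2 ⟨by rwa [h8] at hi,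
          Finset.mem_filter.2 ⟨Finset.mem_univ _, _, hie, rfl⟩⟩, ?_⟩
        show b ^ i • ((b ^ i)⁻¹ * a) • q₀ = a • q₀
        rw [← mul_smul, mul_inv_cancel_left]
    rw [hnorm]
    by_contra hne
    refine hW (exists_wreath_quotient hS hMp (b := b⁻¹) (fun h => hb (inv_mem_iff.1 h)) h ⟨s, hsM⟩ ?_)
    have e : ∀ i : ℕ, MulAut.conjNormal (b⁻¹ ^ i) (⟨s, hsM⟩ : M) = ⟨(b ^ i)⁻¹ * s * b ^ i, hsi i⟩ :=
      fun i => Subtype.ext (by rw [MulAut.conjNormal_apply, inv_pow, inv_inv])
    simp only [e]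
    exact hne
  intro P φ hφ x hx
  have hx1 : orderOf (⟨x, hom_le hφ x.2⟩ : S) ≤ n + 1 := by
    rwa [Subgroup.orderOf_mk, Subgroup.orderOf_coe]
  have hx2 : orderOf (⟨φ x, hom_mem hφ x⟩ : S) ≤ n + 1 := by
    rwa [Subgroup.orderOf_mk, orderOf_injective φ (F.injective_of_mem hφ)]
  have h1 := bisetTransfer_conj hX hst f g hg1 (isoIn_homIso hφ rfl) x
  change D (⟨φ x, hom_mem hφ x⟩ : S) = D (⟨x, hom_le hφ x.2⟩ : S) at h1
  rw [hD' _ hx1, hD' _ hx2, inv_pow, inv_pow, inv_inj] at h1
  have hpk : ∀ t u : Multiplicative (ZMod p), t ^ Nat.card Q0 = u ^ Nat.card Q0 → t = u := by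
    intro t u htu
    have h3 : (t / u) ^ Nat.card Q0 = 1 := by rw [div_pow, htu, div_self']
    have h4 := pow_gcd_eq_one.2 ⟨h3, hexp (t / u)⟩
    rw [((hp.out.coprime_iff_not_dvd).2 hk).symm.gcd_eq_one, pow_one, div_eq_one] at h4
    exact h4
  exact hpk _ _ h1

end Cfsg.Lib.FusionSys.Yoshida
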