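import Cfsg.Agent.Lib.FusionSys.SimpleTwoCentral
import Cfsg.Agent.Lib.Concrete.MathieuOut
import Cfsg.Agent.Lib.Concrete.SporMathieu

/-!
Certificates for the simplicity of the 2-fusion systems of the Mathieu groups.
-/

set_option autoImplicit false

namespace Cfsg.Lib.FusionSys.MathieuCert

open Cfsg Cfsg.Lib.Concrete
open scoped Pointwise

/-- A search tree of packed permutations with their exponent vectors. -/
inductive KT where
  | leaf : KT
  | node : KT → ℕ → ℕ → KT → KT

/-- The nodes in order. -/
def KT.toList : KT → List (ℕ × ℕ)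
  | .leaf => []
  | .node l p e r => l.toList ++ (p, e) :: r.toList

/-- Search. -/
def KT.find : KT → ℕ → Option ℕ
  | .leaf, _ => none
  | .node l p e r, x => bif Nat.blt x p then l.find x else bif Nat.beq x p then some e else r.find x

theorem KT.find_mem : ∀ {t : KT} {x e : ℕ}, t.find x = some e → (x, e) ∈ t.toList := by
  intro t
  induction t with
  | leaf => intro x e h; simp [KT.find] at h
  | node l p e' r ihl ihr =>
    intro x e h
    simp only [KT.find] at h
    simp only [KT.toList, List.mem_append, List.mem_cons]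
    cases h1 : Nat.blt x p with
    | true => rw [h1] at h; exact Or.inl (ihl h)
    | false =>
      rw [h1] at h
      cases h2 : Nat.beq x p with
      | true =>
        rw [h2] at h
        simp only [cond_false, cond_true, Option.some.injEq] at h
        rw [Nat.eq_of_beq_eq_true h2, h]
        exact Or.inr (Or.inl rfl)
      | false =>
        rw [h2] at h
        exact Or.inr (Or.inr (ihr h))

/-- Packing of twenty-four images. -/
def pack (f : ℕ → ℕ) : ℕ := (bits24.map f).foldr (fun x acc => x + 32 * acc) 0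

/-- The packed product. -/
def pmul (p q : ℕ) : ℕ := pack fun i => pget p (pget q i)

/-- The check of a packed product. -/
def chk (p q : ℕ) : Bool := prodCheck p q (pmul p q)

/-- The packed form of a permutation. -/
def pcode (g : Equiv.Perm GolayPt) : ℕ := pack fun i => (gidx (g (gpt (Fin.ofNat 24 i)))).val

theorem pmul_eq_pcode {g h : Equiv.Perm GolayPt} {p q : ℕ} (hg : Rep g p) (hh : Rep h q) :
    pmul p q = pcode (g * h) := by
  unfold pmul pcode pack
  congr 1
  refine List.map_congr_left fun i hi => ?_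
  rw [Equiv.Perm.mul_apply, hg, hh, gidx_gpt]
  simp [Nat.mod_eq_of_lt (mem_bits24.1 hi)]

theorem pId_eq : pId = pcode 1 := by decide +kernel

/-- The permutation with a given packed form. -/
noncomputable def toPerm (p : ℕ) : Equiv.Perm GolayPt :=
  open Classical in if h : ∃ g, Rep g p then h.choose else 1

theorem rep_toPerm {g : Equiv.Perm GolayPt} {p : ℕ} (h : Rep g p) : Rep (toPerm p) p := by
  unfold toPerm
  rw [dif_pos ⟨g, h⟩]
  exact (⟨g, h⟩ : ∃ g, Rep g p).choose_spec

theorem toPerm_eq {g : Equiv.Perm GolayPt} {p : ℕ} (h : Rep g p) : toPerm p = g := (rep_toPerm h).ext h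

/-- The packed product of a list. -/
def prodL : List ℕ → ℕ
  | [] => pId
  | a :: L => pmul a (prodL L)

/-- Strictly increasing. -/
def incr : List ℕ → Bool
  | [] => true
  | [_] => true
  | a :: b :: L => Nat.blt a b && incr (b :: L)

theorem nodup_of_incr : ∀ {L : List ℕ}, incr L = true → L.Pairwise (· < ·)
  | [], _ => List.Pairwise.nil
  | [_], _ => List.pairwise_singleton _ _
  | a :: b :: L, h => by
    simp only [incr, Bool.and_eq_true, Nat.blt_eq] at h
    have ih := nodup_of_incr h.2
    refine List.pairwise_cons.2 ⟨fun x hx => ?_, ih⟩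
    rcases List.mem_cons.1 hx with rfl | hx
    · exact h.1
    · exact h.1.trans ((List.pairwise_cons.1 ih).1 x hx)

/-- The checks of a packed product of a list. -/
def prodLOK : List ℕ → Bool
  | [] => true
  | a :: L => chk a (prodL L) && prodLOK L

theorem rep_prodL : ∀ {L : List ℕ}, (∀ a ∈ L, Rep (toPerm a) a) → prodLOK L = true →
    Rep (L.map toPerm).prod (prodL L) ∧ prodL L = pcode (L.map toPerm).prod := by
  intro L
  induction L with
  | nil => intro _ _; exact ⟨rep_one, pId_eq⟩
  | cons a L ih =>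
    intro h hok
    simp only [prodLOK, Bool.and_eq_true] at hok
    obtain ⟨h1, -⟩ := ih (fun b hb => h b (List.mem_cons_of_mem _ hb)) hok.2
    rw [List.map_cons, List.prod_cons]
    exact ⟨(h a (List.mem_cons_self ..)).mul h1 hok.1, pmul_eq_pcode (h a (List.mem_cons_self ..)) h1⟩

/-- The sublist selected by the digits of `e`. -/
def sel : List ℕ → ℕ → List ℕ
  | [], _ => []
  | a :: L, e => bif Nat.beq (e % 2) 1 then a :: sel L (e / 2) else sel L (e / 2)

theorem mem_sel : ∀ {L : List ℕ} {e a : ℕ}, a ∈ sel L e → ∃ k, L[k]? = some a ∧ e.testBit k = true := by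
  intro L
  induction L with
  | nil => intro e a h; simp [sel] at h
  | cons b L ih =>
    intro e a h
    simp only [sel] at h
    cases hb : Nat.beq (e % 2) 1 with
    | true =>
      rw [hb] at h
      simp only [cond_true, List.mem_cons] at h
      rcases h with rfl | h
      · exact ⟨0, rfl, by rw [Nat.testBit_zero]; simpa using Nat.eq_of_beq_eq_true hb⟩
      · obtain ⟨k, hk, he⟩ := ih h
        exact ⟨k + 1, by simpa using hk, by rw [Nat.testBit_succ]; exact he⟩
    | false =>
      rw [hb] at h
      obtain ⟨k, hk, he⟩ := ih h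
      exact ⟨k + 1, by simpa using hk, by rw [Nat.testBit_succ]; exact he⟩

/-- The data of a certificate: `2 ^ n` is the order, the first `m` generators generate the Frattini subgroup. -/
structure Cert where
  n : ℕ
  m : ℕ
  gens : List (ℕ × ℕ)
  t : KT
  z : ℕ
  deriv : List (ℕ × ℕ × ℕ × ℕ × ℕ)
  sq : List (List ℕ)
  side : ℕ
  labels : List (ℕ × Bool)
  wit : List (ℕ × List ℕ)

namespace Cert

variable (c : Cert)

/-- The packed generators. -/
def gp : List ℕ := c.gens.map Prod.fst

/-- The packed elements. -/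
def keys : List ℕ := c.t.toList.map Prod.fst

/-- The image in the Frattini quotient. -/
def vOf (p : ℕ) : ℕ := ((c.t.find p).getD 0) >>> c.m

/-- The generators. -/
def genOK (ok : ℕ → Bool) : Bool :=
  c.gens.all (fun g => elemCheck 0 16777215 g.1 g.2 && ok g.1) && Nat.beq c.gens.length c.n &&
    Nat.blt 0 c.n && Nat.ble c.m c.n

/-- The list of elements. -/
def treeOK : Bool :=
  incr c.keys &&
  Nat.beq c.keys.length (2 ^ c.n) &&
  (c.t.toList.all fun x => Nat.blt x.2 (2 ^ c.n) && prodLOK (sel c.gp x.2) &&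
    Nat.beq (prodL (sel c.gp x.2)) x.1 && (c.t.find x.1 == some x.2))

/-- Closedness and linearity. -/
def closedOK : Bool :=
  (c.t.find pId == some 0) &&
  c.t.toList.all fun x => (List.range c.n).all fun k =>
    chk x.1 (c.gp.getD k 0) &&
    match c.t.find (pmul x.1 (c.gp.getD k 0)) with
    | none => false
    | some e => Nat.beq (e >>> c.m) (Nat.xor (x.2 >>> c.m) ((1 <<< k) >>> c.m))

/-- The centre. -/
def centerOK : Bool :=
  c.keys.all fun p => !(c.gp.all fun g => Nat.beq (pmul p g) (pmul g p)) || Nat.beq p pId || Nat.beq p c.z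

/-- The values of the derivation. -/
def dv : List ℕ := pId :: c.z :: c.deriv.map fun d => d.2.2.2.2

/-- The derivation by fusion. -/
def derivOK (ok : ℕ → Bool) : Bool :=
  (c.t.find c.z).isSome && (c.gp.all fun g => c.dv.contains g) &&
  (List.range c.deriv.length).all fun k =>
    match c.deriv.getD k (0, 0, 0, 0, 0) with
    | (g, gi, i, j, p) =>
      elemCheck 0 16777215 g gi && ok g && Nat.blt i (k + 2) && Nat.blt j (k + 2) && (c.t.find p).isSome &&
        chk (c.dv.getD i 0) (c.dv.getD j 0) && chk g (pmul (c.dv.getD i 0) (c.dv.getD j 0)) && chk p g &&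
        Nat.beq (pmul g (pmul (c.dv.getD i 0) (c.dv.getD j 0))) (pmul p g)

/-- The first generators are products of squares. -/
def sqOK : Bool :=
  (List.range c.m).all fun k =>
    (c.sq.getD k []).all (fun p => (c.t.find p).isSome) &&
      prodLOK ((c.sq.getD k []).map fun p => pmul p p) &&
      Nat.beq (prodL ((c.sq.getD k []).map fun p => pmul p p)) (c.gp.getD k 0)

/-- The orbit of a point, as a mask. -/
def orb (i : ℕ) : ℕ := orMask c.keys (fun _ => true) (fun p => pget p i)

/-- The points with a given label. -/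
def area (l : ℕ × Bool) : ℕ :=
  orMask bits24 (fun i => Nat.beq (pcnt (c.orb i)) l.1 && (c.side.testBit i == l.2)) id

/-- The masks of the labels. -/
def areas : List ℕ := c.labels.map c.area

/-- The number of fixed points in a mask. -/
def cnt (p U : ℕ) : ℕ := pcnt (orMask bits24 (fun i => U.testBit i && Nat.beq (pget p i) i) id)

/-- The invariants of an element. -/
def sig (As : List ℕ) (p : ℕ) : List ℕ :=
  let p2 := pmul p p
  let p4 := pmul p2 p2
  let p8 := pmul p4 p4
  As.flatMap fun U => [cnt p U, cnt p2 U, cnt p4 U, cnt p8 U]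

/-- The witnesses for the automizer. -/
def autOK : Bool :=
  ((List.range c.n).all fun k => Nat.blt k c.m || (c.wit.map Prod.fst).contains k) &&
  c.wit.all fun kw =>
    let As := c.areas
    let vc := (1 <<< kw.1) >>> c.m
    kw.2.all (fun w => (c.t.find w).isSome && Nat.beq (c.vOf w) vc) &&
    let Vs := kw.2.map fun w => (c.t.toList.filter fun x => sig As x.1 == sig As w).map fun x => x.2 >>> c.m
    (List.range (2 ^ (c.n - c.m))).all fun v => !(Vs.all fun V => V.contains v) || Nat.beq v vc

variable {c}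

attribute [local irreducible] pcode pmul toPerm prodL
variable {K : Subgroup (Equiv.Perm GolayPt)} {ok : ℕ → Bool}

theorem elem_mem (hok : ∀ g p, g ∈ M24 → Rep g p → ok p = true → g ∈ K) {p q : ℕ}
    (h : elemCheck 0 16777215 p q = true) (hp : ok p = true) : Rep (toPerm p) p ∧ toPerm p ∈ K := by
  obtain ⟨g, hg, hr, -⟩ := exists_of_elemCheck (by norm_num) h
  rw [toPerm_eq hr]
  exact ⟨hr, hok g p (mSub_le_M24 _ _ hg) hr hp⟩

variable (c) in
/-- The group generated by the generators. -/
noncomputable def grp : Subgroup (Equiv.Perm GolayPt) := Subgroup.closure {g | ∃ p ∈ c.gp, g = toPerm p}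

variable (hok : ∀ g p, g ∈ M24 → Rep g p → ok p = true → g ∈ K) (hgen : c.genOK ok = true)
  (htree : c.treeOK = true) (hclosed : c.closedOK = true)

include hok hgen in
theorem gp_rep {p : ℕ} (hp : p ∈ c.gp) : Rep (toPerm p) p ∧ toPerm p ∈ K := by
  simp only [genOK, Bool.and_eq_true, List.all_eq_true] at hgen
  obtain ⟨⟨g, q⟩, hg, rfl⟩ := List.mem_map.1 hp
  exact elem_mem hok (hgen.1.1.1 _ hg).1 (hgen.1.1.1 _ hg).2

include hok hgen in
theorem grp_le : c.grp ≤ K := by
  rw [grp, Subgroup.closure_le]
  rintro _ ⟨p, hp, rfl⟩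
  exact (gp_rep hok hgen hp).2

include hok hgen htree in
theorem node_spec {p e : ℕ} (hx : (p, e) ∈ c.t.toList) :
    Rep (toPerm p) p ∧ pcode (toPerm p) = p ∧ toPerm p ∈ c.grp ∧ e < 2 ^ c.n ∧
      toPerm p = ((sel c.gp e).map toPerm).prod ∧ c.t.find p = some e := by
  simp only [treeOK, Bool.and_eq_true, List.all_eq_true, Nat.blt_eq, Nat.beq_eq, beq_iff_eq] at htree
  obtain ⟨⟨⟨he, hokL⟩, hp⟩, hfind⟩ := htree.2 _ hx
  have hsel : ∀ a ∈ sel c.gp e, a ∈ c.gp := fun a ha => by
    obtain ⟨k, hk, -⟩ := mem_sel ha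
    exact List.mem_of_getElem? hk
  obtain ⟨hr, hc⟩ := rep_prodL (fun a ha => (gp_rep hok hgen (hsel a ha)).1) hokL
  rw [hp] at hr hc
  have := toPerm_eq hr
  refine ⟨this ▸ hr, by rw [this]; exact hc.symm, ?_, he, this, hfind⟩
  rw [this]
  refine Subgroup.list_prod_mem _ fun g hg => ?_
  obtain ⟨a, ha, rfl⟩ := List.mem_map.1 hg
  exact Subgroup.subset_closure ⟨a, hsel a ha, rfl⟩

include hok hgen htree hclosed in
theorem key_of_mem {h : Equiv.Perm GolayPt} (hh : h ∈ c.grp) :
    ∃ e, (pcode h, e) ∈ c.t.toList ∧ Rep h (pcode h) := by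
  classical
  let S₀ : Set (Equiv.Perm GolayPt) := {h | ∃ x ∈ c.t.toList, h = toPerm x.1}
  suffices h ∈ S₀ by
    obtain ⟨⟨p, e⟩, hx, rfl⟩ := this
    obtain ⟨h1, h2, -⟩ := node_spec hok hgen htree hx
    exact ⟨e, by rw [h2]; exact hx, by rw [h2]; exact h1⟩
  simp only [closedOK, Bool.and_eq_true, List.all_eq_true, beq_iff_eq, List.mem_range] at hclosed
  have hfin : S₀.Finite := Set.toFinite _
  have hmul : ∀ s ∈ S₀, ∀ p ∈ c.gp, s * toPerm p ∈ S₀ := by
    rintro _ ⟨⟨q, e⟩, hx, rfl⟩ p hp
    obtain ⟨k, hk, rfl⟩ := List.getElem_of_mem hp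
    have hkn : k < c.n := by
      have := hgen
      simp only [genOK, Bool.and_eq_true, Nat.beq_eq] at this
      rw [← this.1.1.2]
      simpa [gp] using hk
    obtain ⟨hchk, hm⟩ := hclosed.2 _ hx k hkn
    rw [List.getD_eq_getElem _ _ hk] at hchk hm
    cases hf : c.t.find (pmul q c.gp[k]) with
    | none => rw [hf] at hm; exact absurd hm (by simp)
    | some e' =>
      refine ⟨_, KT.find_mem hf, (toPerm_eq ?_).symm⟩
      exact ((node_spec hok hgen htree hx).1).mul (gp_rep hok hgen (List.getElem_mem hk)).1 hchk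
  refine Subgroup.closure_induction_right (p := fun x _ => x ∈ S₀) ?_ ?_ ?_ hh
  · exact ⟨_, KT.find_mem hclosed.1, (toPerm_eq rep_one).symm⟩
  · rintro x - y ⟨p, hp, rfl⟩ hx
    exact hmul x hx p hp
  · rintro x - y ⟨p, hp, rfl⟩ hx
    haveI : Finite S₀ := hfin.to_subtype
    let f : S₀ → S₀ := fun s => ⟨s.1 * toPerm p, hmul s.1 s.2 p hp⟩
    have hf : Function.Injective f := fun a b h =>
      Subtype.ext (mul_right_cancel (congrArg Subtype.val h : a.1 * toPerm p = b.1 * toPerm p))
    obtain ⟨s, hse⟩ := Finite.injective_iff_surjective.1 hf ⟨x, hx⟩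
    have he : s.1 * toPerm p = x := congrArg Subtype.val hse
    subst he
    rw [mul_inv_cancel_right]
    exact s.2

include hok hgen htree hclosed in
theorem card_grp : Nat.card c.grp = 2 ^ c.n := by
  classical
  have hnd : c.keys.Nodup := by
    have h := htree
    simp only [treeOK, Bool.and_eq_true] at h
    exact (nodup_of_incr h.1.1).imp fun hab => hab.ne
  have h1 : Nat.card c.grp = c.keys.toFinset.card := by
    rw [← Nat.card_eq_finsetCard]
    refine Nat.card_congr (Equiv.ofBijective (fun h : c.grp => (⟨pcode h.1, List.mem_toFinset.2 ?_⟩ :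
      {p // p ∈ c.keys.toFinset})) ⟨fun a b hab => ?_, fun p => ?_⟩)
    · obtain ⟨e, he, -⟩ := key_of_mem hok hgen htree hclosed h.2
      exact List.mem_map.2 ⟨_, he, rfl⟩
    · obtain ⟨-, -, ha⟩ := key_of_mem hok hgen htree hclosed a.2
      obtain ⟨-, -, hb⟩ := key_of_mem hok hgen htree hclosed b.2
      have he : pcode a.1 = pcode b.1 := congrArg Subtype.val hab
      rw [he] at ha
      exact Subtype.ext (ha.ext hb)
    · obtain ⟨⟨q, e⟩, hx, hq⟩ := List.mem_map.1 (List.mem_toFinset.1 p.2)
      obtain ⟨-, h2, h3, -⟩ := node_spec hok hgen htree hx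
      exact ⟨⟨_, h3⟩, Subtype.ext (h2.trans hq)⟩
  rw [h1, List.toFinset_card_of_nodup hnd]
  simp only [treeOK, Bool.and_eq_true, Nat.beq_eq] at htree
  exact htree.1.2

end Cert

end Cfsg.Lib.FusionSys.MathieuCert
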