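import Cfsg.Agent.Lib.FusionSys.LieSimplePSpElems

/-!
The fusion system of `PSp_{2m}(q)` at the characteristic is simple.
-/

set_option autoImplicit false
set_option linter.unusedSectionVars false

namespace Cfsg.Lib.FusionSys.PSpChar

open Matrix Cfsg.Lib.Linear.Symp

variable {K : Type*} [Field K] [Fintype K] {m : ℕ}

set_option quotPrecheck false in
local notation "G" => Matrix.symplecticGroup (Fin m) K
local notation "M" => Matrix (Fin m) (Fin m) K
local notation "Vm" => (Fin m → K)

theorem vmv_smul_left (t : K) (u v : Vm) : Matrix.vecMulVec (t • u) v = t • Matrix.vecMulVec u v :=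
  Matrix.smul_vecMulVec ..

/-- `1 + w eᵦᵀ`. -/
def rankOne (w : Vm) (b : Fin m) (h : 1 + w b ≠ 0) : GL (Fin m) K where
  val := 1 + Matrix.vecMulVec w (Pi.single b 1)
  inv := 1 - (1 + w b)⁻¹ • Matrix.vecMulVec w (Pi.single b 1)
  val_inv := by
    simp only [mul_sub, mul_one, add_mul, one_mul, Matrix.mul_smul, Matrix.vecMulVec_mul_vecMulVec]
    ext x y
    simp [Matrix.vecMulVec, Pi.single_apply]
    split_ifs <;> field_simp <;> ring
  inv_val := by
    simp only [sub_mul, one_mul, mul_add, mul_one, Matrix.smul_mul, Matrix.vecMulVec_mul_vecMulVec]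
    ext x y
    simp [Matrix.vecMulVec, Pi.single_apply]
    split_ifs <;> field_simp <;> ring

theorem rankOne_mulVec (w : Vm) (b : Fin m) (h : 1 + w b ≠ 0) (x : Vm) :
    (rankOne w b h).1 *ᵥ x = x + x b • w := by
  show (1 + Matrix.vecMulVec w (Pi.single b 1)) *ᵥ x = _
  rw [Matrix.add_mulVec, Matrix.one_mulVec, Matrix.vecMulVec_mulVec]
  simp [mul_comm]

/-- A permutation matrix. -/
def permU (σ : Equiv.Perm (Fin m)) : GL (Fin m) K where
  val := (1 : M).submatrix σ.symm id
  inv := (1 : M).submatrix σ id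
  val_inv := by
    ext a b
    rw [Matrix.mul_apply, Finset.sum_eq_single (σ.symm a) (fun x _ hx => by simp [Matrix.one_apply, Ne.symm hx])
      (by simp)]
    simp [Matrix.one_apply]
  inv_val := by
    ext a b
    rw [Matrix.mul_apply, Finset.sum_eq_single (σ a) (fun x _ hx => by simp [Matrix.one_apply, Ne.symm hx])
      (by simp)]
    simp [Matrix.one_apply]

theorem permU_single (σ : Equiv.Perm (Fin m)) (i : Fin m) (t : K) :
    (permU σ : GL (Fin m) K).1 *ᵥ Pi.single i t = Pi.single (σ i) t := by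
  funext a
  show ((1 : M).submatrix σ.symm id *ᵥ Pi.single i t) a = _
  simp [Matrix.mulVec, dotProduct, Matrix.one_apply, Pi.single_apply, Equiv.symm_apply_eq]

theorem dU_mulVec (d : Fin m → Kˣ) (x : Vm) (a : Fin m) : ((dU d).1 *ᵥ x) a = (d a : K) * x a :=
  Matrix.mulVec_diagonal ..

theorem dU_mul (d e : Fin m → Kˣ) : dU (d * e) = dU d * dU e := Units.ext (by
  show Matrix.diagonal _ = Matrix.diagonal _ * Matrix.diagonal _
  rw [Matrix.diagonal_mul_diagonal]
  rfl)

theorem cross_single (i j : Fin m) (c : K) :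
    cross (c • Pi.single i 1) (Pi.single j 1) = Matrix.single i j c + Matrix.single j i c := by
  ext a b
  have h : ∀ x y : Fin m, Matrix.vecMulVec (c • Pi.single x (1 : K)) (Pi.single y 1) a b =
      Matrix.single x y c a b ∧ Matrix.vecMulVec (Pi.single y (1 : K)) (c • Pi.single x 1) a b =
      Matrix.single y x c a b := fun x y => by
    constructor
    all_goals
      simp only [Matrix.vecMulVec_apply, Pi.smul_apply, smul_eq_mul, Matrix.single_apply, Pi.single_apply]
      by_cases ha : a = x <;> by_cases hb : b = y <;> by_cases ha' : a = y <;> by_cases hb' : b = x <;>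
        simp_all [eq_comm]
  rw [cross, Matrix.add_apply, Matrix.add_apply, (h i j).1, (h i j).2]

theorem exists_third {α : Type*} [Fintype α] (h : 2 < Fintype.card α) (a b : α) : ∃ x, x ≠ a ∧ x ≠ b := by
  classical
  obtain ⟨x, y, z, hxy, hxz, hyz⟩ := Fintype.two_lt_card_iff.1 h
  by_contra hc
  push_neg at hc
  have := hc x
  have := hc y
  have := hc z
  by_cases x = a <;> by_cases y = a <;> by_cases z = a <;> simp_all

theorem single_eq_vmv (i : Fin m) (t : K) :
    Matrix.single i i t = Matrix.vecMulVec (Pi.single i t) (Pi.single i 1) := by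
  ext a b
  rw [Matrix.vecMulVec_apply, Matrix.single_apply, Pi.single_apply, Pi.single_apply]
  by_cases ha : a = i <;> by_cases hb : b = i <;> simp [ha, hb, eq_comm]
  all_goals tauto

/-- A nonzero congruence-invariant group of symmetric matrices contains all `Eᵢⱼ + Eⱼᵢ`. -/
theorem cross_mem (hm : 2 ≤ m) (hex : m = 2 → ∃ ν : K, ν ≠ 0 ∧ ν ≠ 1) (W : AddSubgroup M)
    (hWs : ∀ S ∈ W, Sᵀ = S) (hcong : ∀ (A : GL (Fin m) K), ∀ S ∈ W, A.1 * S * A.1ᵀ ∈ W)
    {S : M} (hS : S ∈ W) (hS0 : S ≠ 0) (i j : Fin m) (hij : i ≠ j) (c : K) :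
    cross (c • Pi.single i 1) (Pi.single j 1) ∈ W := by
  classical
  have hP : ∀ (u : Vm) (l : Fin m), u l = 0 → cross u (S l) + S l l • Matrix.vecMulVec u u ∈ W := by
    intro u l hu
    have h := W.sub_mem (hcong (rankOne u l (by rw [hu, add_zero]; exact one_ne_zero)) S hS) hS
    have hsym := hWs S hS
    convert h using 1
    show _ = (1 + Matrix.vecMulVec u (Pi.single l 1)) * S * (1 + Matrix.vecMulVec u (Pi.single l 1))ᵀ - S
    have hcol : S *ᵥ Pi.single l 1 = S l := by
      funext a
      rw [Matrix.mulVec_single_one]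
      exact congrFun (congrFun hsym l) a
    have hrow : Pi.single l 1 ᵥ* S = S l := by rw [Matrix.single_one_vecMul]; rfl
    simp only [Matrix.transpose_add, Matrix.transpose_one, Matrix.transpose_vecMulVec, mul_add, add_mul, one_mul,
      mul_one, Matrix.mul_vecMulVec, Matrix.vecMulVec_mul, hcol, hrow, Matrix.vecMulVec_mulVec, cross]
    simp only [op_smul_eq_smul, dotProduct_single_one, vmv_smul_left]
    abel
  obtain ⟨k, l, hkl, d, hd0, hd⟩ : ∃ k l : Fin m, k ≠ l ∧ ∃ d : K, d ≠ 0 ∧
      cross (d • Pi.single k 1) (Pi.single l 1) ∈ W := by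
    by_cases hdiag : ∃ l, S l l ≠ 0
    · obtain ⟨l, hl⟩ := hdiag
      haveI : Nontrivial (Fin m) := Fin.nontrivial_iff_two_le.2 hm
      obtain ⟨k, hk⟩ := exists_ne l
      rcases hm.eq_or_lt with hm2 | hm3
      · obtain ⟨ν, hν0, hν1⟩ := hex hm2.symm
        have h1 := hP (Pi.single k 1) l (by simp [hk.symm])
        have h2 := W.sub_mem (hcong (dU (Function.update 1 l (Units.mk0 ν hν0))) _ h1) h1
        refine ⟨k, l, hk, (ν - 1) * S l l, mul_ne_zero (sub_ne_zero.2 hν1) hl, ?_⟩
        convert h2 using 1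
        ext a b
        simp [cross, dU, Matrix.vecMulVec, Matrix.mul_diagonal, Matrix.diagonal_mul, Function.update_apply,
          Pi.single_apply, Matrix.diagonal_transpose]
        split_ifs <;> simp_all <;> ring
      · obtain ⟨k', hk', hk'l⟩ := exists_third (α := Fin m) (by simpa using hm3) k l
        have h2 := W.sub_mem (W.sub_mem (hP (Pi.single k 1 + Pi.single k' 1) l (by simp [hk.symm, hk'l.symm]))
          (hP (Pi.single k 1) l (by simp [hk.symm]))) (hP (Pi.single k' 1) l (by simp [hk'l.symm]))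
        refine ⟨k, k', hk'.symm, S l l, hl, ?_⟩
        convert h2 using 1
        ext a b
        simp [cross, Matrix.vecMulVec]
        ring
    · push_neg at hdiag
      obtain ⟨a, b, hab⟩ : ∃ a b, S a b ≠ 0 := by
        by_contra hc
        push_neg at hc
        exact hS0 (Matrix.ext hc)
      have hne : a ≠ b := fun h => hab (h ▸ hdiag a)
      by_cases h3 : ∃ k, k ≠ a ∧ k ≠ b
      · obtain ⟨k, hka, hkb⟩ := h3
        have h1 := hP (Pi.single k 1) a (by simp [hka.symm])
        rw [hdiag a, zero_smul, add_zero] at h1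
        set w : Vm := (S a b)⁻¹ • (Pi.single b 1 - S a) with hw
        have hwb : 1 + w b ≠ 0 := by
          have : 1 + w b = (S a b)⁻¹ := by simp [hw]; field_simp; ring
          rw [this]; exact inv_ne_zero hab
        have h2 := hcong (rankOne w b hwb) _ h1
        rw [cross_congr, rankOne_mulVec, rankOne_mulVec, Pi.single_eq_of_ne hkb.symm, zero_smul, add_zero, hw,
          smul_smul, mul_inv_cancel₀ hab, one_smul, add_sub_cancel] at h2
        exact ⟨k, b, hkb, 1, one_ne_zero, by rwa [one_smul]⟩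
      · push_neg at h3
        refine ⟨a, b, hne, S a b, hab, ?_⟩
        convert hS using 1
        ext x y
        have hsym : S b a = S a b := congrFun (congrFun (hWs S hS) a) b
        by_cases hx : x = a
        · by_cases hy : y = a
          · subst hx hy; simp [cross, Matrix.vecMulVec, hne, hdiag]
          · have := h3 y hy; subst hx this
            simp [cross, Matrix.vecMulVec, hne, hne.symm]
        · have := h3 x hx
          subst this
          by_cases hy : y = a
          · subst hy; simp [cross, Matrix.vecMulVec, hne, hne.symm, hsym]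
          · have := h3 y hy; subst this
            simp [cross, Matrix.vecMulVec, hne.symm, hdiag]
  obtain ⟨σ, hσk, hσl⟩ : ∃ σ : Equiv.Perm (Fin m), σ k = i ∧ σ l = j := by
    refine ⟨Equiv.swap (Equiv.swap k i l) j * Equiv.swap k i, ?_, ?_⟩
    · rw [Equiv.Perm.mul_apply, Equiv.swap_apply_left, Equiv.swap_apply_of_ne_of_ne ?_ hij]
      intro h
      have := (Equiv.swap k i).injective ((Equiv.swap_apply_left k i).trans h)
      exact hkl this
    · rw [Equiv.Perm.mul_apply, Equiv.swap_apply_left]
  by_cases hc : c = 0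
  · subst hc
    have : cross ((0 : K) • Pi.single i 1) (Pi.single j 1 : Vm) = 0 := by simp [cross]
    rw [this]; exact W.zero_mem
  have h1 := hcong (permU σ) _ hd
  rw [cross_congr, Matrix.mulVec_smul, permU_single, permU_single, hσk, hσl] at h1
  have h2 := hcong (dU (Function.update 1 i (Units.mk0 (c / d) (div_ne_zero hc hd0)))) _ h1
  rw [cross_congr] at h2
  convert h2 using 2
  · funext a
    by_cases ha : a = i
    · subst ha; simp [dU_mulVec]; field_simp
    · simp [dU_mulVec, ha]
  · funext a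
    by_cases ha : a = j
    · subst ha; simp [dU_mulVec, hij.symm]
    · simp [dU_mulVec, ha]

theorem eq_of_closed (hm : 2 ≤ m) (hex : m = 2 → ∃ ν : K, ν ≠ 0 ∧ ν ≠ 1) (p : ℕ) [Fact p.Prime] [CharP K p]
    (T : Subgroup G) (hTU : T ≤ borelU (K := K) (m := m)) (hT1 : T ≠ ⊥)
    (hUT : borelU (K := K) (m := m) ≤ Subgroup.normalizer (T : Set G))
    (hclT : ∀ t ∈ T, ∀ g : G, g * t * g⁻¹ ∈ borelU (K := K) (m := m) → g * t * g⁻¹ ∈ T) :
    T = borelU (K := K) (m := m) := by
  classical
  let W : AddSubgroup M :=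
    { carrier := {S | ∃ h : Sᵀ = S, (qE S h : G) ∈ T}
      zero_mem' := ⟨Matrix.transpose_zero, by rw [qE_zero]; exact one_mem T⟩
      add_mem' := fun {S S'} ⟨h, hh⟩ ⟨h', hh'⟩ => ⟨by rw [Matrix.transpose_add, h, h'], by
        rw [← qE_mul (hS := h) (hS' := h')]; exact mul_mem hh hh'⟩
      neg_mem' := fun {S} ⟨h, hh⟩ => ⟨by rw [Matrix.transpose_neg, h], by
        refine (congrArg (· ∈ T) ?_).mpr (inv_mem hh)
        symm
        apply inv_eq_of_mul_eq_one_right
        rw [qE_mul (by rw [add_neg_cancel, Matrix.transpose_zero]), ← qE_zero (h := Matrix.transpose_zero)]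
        exact qE_congr (add_neg_cancel S)⟩ }
  have hcong : ∀ (A : GL (Fin m) K), ∀ S ∈ W, A.1 * S * A.1ᵀ ∈ W := by
    rintro A S ⟨h, hh⟩
    have h' : (A.1 * S * A.1ᵀ)ᵀ = A.1 * S * A.1ᵀ := by
      simp [Matrix.transpose_mul, h, Matrix.mul_assoc]
    refine ⟨h', ?_⟩
    have he : levi A * qE S h * (levi A)⁻¹ = (qE _ h' : G) :=
      (conj_qE (levi_mem_siegel A) (by rw [levi_blocks.1]; exact h')).trans (qE_congr (by rw [levi_blocks.1]))
    rw [← he]
    exact hclT _ hh _ (he ▸ qE_mem_borelU)
  obtain ⟨S, hS, hS0⟩ : ∃ S ∈ W, S ≠ 0 := by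
    haveI : (T.subgroupOf (borelU (K := K) (m := m))).Normal := Subgroup.normal_subgroupOf_of_le_normalizer hUT
    have hT' : T.subgroupOf (borelU (K := K) (m := m)) ≠ ⊥ := by
      rw [Ne, Subgroup.subgroupOf_eq_bot, disjoint_iff, inf_eq_left.2 hTU]
      exact hT1
    obtain ⟨⟨x, hx⟩, hx1⟩ := Subgroup.ne_bot_iff_exists_ne_one.1
      (Cfsg.Lib.PGroup.inf_center_ne_bot (isPGroup_borelU (K := K) (m := m) p) hT')
    obtain ⟨c, hc, S, hS, hxe⟩ := centralizer_siegelRadical (x := (x : G)) (by omega) fun r hr =>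
      congrArg Subtype.val (Subgroup.mem_center_iff.1 hx.2 ⟨r, siegelRadical_le hr⟩).symm
    have hc1 : c = 1 := by
      obtain ⟨-, a, ⟨-, ha⟩, hax⟩ := x.2
      have h := ha ⟨0, by omega⟩
      rw [hax, hxe, bA_mul, scal_blocks c hc |>.1, scal_blocks c hc |>.2.1, qE_blocks.1] at h
      simpa using h
    subst hc1
    rw [show (scal (1 : K) hc : G) = 1 from act_ext fun y => by simp [scal_act], one_mul] at hxe
    refine ⟨S, ⟨hS, hxe ▸ hx.1⟩, fun h => hx1 (Subtype.ext (Subtype.ext ?_))⟩
    show (x : G) = 1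
    rw [hxe, ← qE_zero (h := Matrix.transpose_zero)]
    exact qE_congr h
  have hcross : ∀ (i j : Fin m), i ≠ j → ∀ c : K, cross (c • Pi.single i 1) (Pi.single j 1) ∈ W :=
    fun i j hij c => cross_mem hm hex W (fun S h => h.1) hcong hS hS0 i j hij c
  have hsl : ∀ (i j : Fin m) (hij : i < j) (c : K),
      (sl (Matrix.SpecialLinearGroup.transvection hij.ne c) : G) ∈ T := by
    intro i j hij c
    obtain ⟨_, hh⟩ := hcross i j hij.ne (-c)
    have he := swap_conj_cross (K := K) hij.ne (-c)
    rw [neg_neg] at he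
    rw [← he]
    exact hclT _ hh _ (he ▸ sl_mem_borelU (PSLChar.transvection_mem hij c))
  obtain ⟨z, o, hzo⟩ : ∃ z o : Fin m, z < o := ⟨⟨0, by omega⟩, ⟨1, by omega⟩, Nat.zero_lt_one⟩
  have hsing : ∀ (i : Fin m) (t : K), Matrix.single i i t ∈ W := by
    intro i t
    have hzz : Matrix.single z z t ∈ W := by
      set A := Matrix.SpecialLinearGroup.transvection hzo.ne (1 : K)
      have hs : (Matrix.single o o t)ᵀ = Matrix.single o o t := Matrix.transpose_single ..
      have hd : A.1 * Matrix.single o o t * A.1ᵀ =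
          Matrix.single o o t + (cross (t • Pi.single z 1) (Pi.single o 1) + Matrix.single z z t) := by
        rw [cross_single, PSLChar.tv_val]
        simp [mul_add, add_mul, Matrix.transpose_single]
        abel
      have hs' : (A.1 * Matrix.single o o t * A.1ᵀ)ᵀ = A.1 * Matrix.single o o t * A.1ᵀ := by
        simp [Matrix.transpose_mul, hs, Matrix.mul_assoc]
      have he : (sl A : G) * qE _ hs * (sl A)⁻¹ = qE _ hs' :=
        (conj_qE (levi_mem_siegel _) (by rw [levi_blocks.1]; exact hs')).trans (qE_congr (by rw [levi_blocks.1]; rfl))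
      have hmem : (sl A : G) * qE _ hs * (sl A)⁻¹ * (qE _ hs)⁻¹ ∈ T := by
        have h1 : qE _ hs * (sl A : G)⁻¹ * (qE _ hs)⁻¹ ∈ T :=
          ((hUT qE_mem_borelU) _).1 (inv_mem (hsl z o hzo 1))
        have := mul_mem (hsl z o hzo 1) h1
        simpa only [mul_assoc] using this
      rw [he] at hmem
      have hs'' : (cross (t • Pi.single z 1) (Pi.single o 1) + Matrix.single z z t : M)ᵀ =
          cross (t • Pi.single z 1) (Pi.single o 1) + Matrix.single z z t := by
        rw [Matrix.transpose_add, cross_transpose, Matrix.transpose_single]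
      have hW : cross (t • Pi.single z 1) (Pi.single o 1) + Matrix.single z z t ∈ W := by
        refine ⟨hs'', ?_⟩
        have hdiff : (qE _ hs' : G) * (qE _ hs)⁻¹ = qE _ hs'' := by
          rw [mul_inv_eq_iff_eq_mul, qE_mul (by rw [Matrix.transpose_add, hs'', hs])]
          exact qE_congr (by rw [hd]; abel)
        rwa [← hdiff]
      have := W.sub_mem hW (hcross z o hzo.ne t)
      rwa [add_sub_cancel_left] at this
    have h := hcong (permU (Equiv.swap z i)) _ hzz
    rw [single_eq_vmv, Matrix.mul_vecMulVec, Matrix.vecMulVec_mul, Matrix.vecMul_transpose, permU_single,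
      permU_single, Equiv.swap_apply_left, ← single_eq_vmv] at h
    exact h
  have hall : ∀ S : M, Sᵀ = S → S ∈ W := by
    have hsymm : ∀ X : M, X + Xᵀ ∈ W := fun X => by
      induction X using Matrix.induction_on' with
      | h_zero => simp
      | h_add X Y hX hY =>
        rw [Matrix.transpose_add, add_add_add_comm]
        exact W.add_mem hX hY
      | h_std_basis i j c =>
        rw [Matrix.transpose_single]
        by_cases hij : i = j
        · subst hij; exact W.add_mem (hsing i c) (hsing i c)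
        · rw [← cross_single]; exact hcross i j hij c
    have hdiag : ∀ X : M, Matrix.diagonal (fun a => X a a) ∈ W := fun X => by
      induction X using Matrix.induction_on' with
      | h_zero => simp
      | h_add X Y hX hY =>
        have := W.add_mem hX hY
        rw [Matrix.diagonal_add] at this
        exact this
      | h_std_basis i j c =>
        by_cases hij : i = j
        · subst hij
          convert hsing i c using 1
          ext a b
          by_cases hab : a = b
          · subst hab; simp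
          · rw [Matrix.diagonal_apply_ne _ hab, Matrix.single_apply, if_neg (fun h => hab (h.1.symm.trans h.2))]
        · convert W.zero_mem using 1
          ext a b
          simp [Matrix.diagonal_apply, Matrix.single_apply]
          intro _ h1 h2
          exact absurd (h1.trans h2.symm) hij
    intro S hS
    convert W.add_mem (hsymm (Matrix.of fun a b => if a < b then S a b else 0)) (hdiag S) using 1
    ext a b
    have hab : S b a = S a b := congrFun (congrFun hS a) b
    rcases lt_trichotomy a b with h | rfl | h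
    · simp [h, h.not_gt, h.ne]
    · simp
    · simp [h, h.not_gt, h.ne', hab]
  refine le_antisymm hTU fun g hg => ?_
  obtain ⟨hC, a, ha, hag⟩ := hg
  obtain ⟨S', hS', he⟩ := decomp (g := g) hC
  rw [he]
  refine mul_mem (hall S' hS').2 ?_
  rw [show levi (lev (g := g) hC) = (sl a : G) from congrArg levi (Units.ext hag.symm)]
  exact PSLChar.upper_le (T := T.comap (sl (K := K) (m := m))) (fun i j h c => hsl i j h c) ha

theorem isSimple_psp (p : ℕ) [Fact p.Prime] [CharP K p] (hm : 2 ≤ m) (hex : m = 2 → 3 ≤ Fintype.card K)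
    (S : Sylow p (Cfsg.PSp m K)) :
    (Cfsg.groupFusionSystem (S : Subgroup (Cfsg.PSp m K))).IsSimple p := by
  classical
  have hex' : m = 2 → ∃ ν : K, ν ≠ 0 ∧ ν ≠ 1 := fun h =>
    exists_third (hex h) 0 1
  obtain ⟨P, hP⟩ := exists_sylow_borelU (K := K) (m := m) p
  set q := QuotientGroup.mk' (Subgroup.center G)
  obtain ⟨g₀, hg₀⟩ := MulAction.exists_smul_eq (Cfsg.PSp m K)
    (P.mapSurjective (f := q) (QuotientGroup.mk'_surjective _)) S
  let π : G →* Cfsg.PSp m K := (MulAut.conj g₀).toMonoidHom.comp q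
  have hker : π.ker = Subgroup.center G := by
    ext x
    rw [MonoidHom.mem_ker, ← QuotientGroup.eq_one_iff x]
    exact map_eq_one_iff (MulAut.conj g₀) (MulAut.conj g₀).injective
  obtain ⟨i₀, hi₀⟩ : ∃ i : Fin m, i.1 = 0 := ⟨⟨0, by omega⟩, rfl⟩
  obtain ⟨l, hl⟩ : ∃ i : Fin m, i.1 = m - 1 := ⟨⟨m - 1, by omega⟩, rfl⟩
  have hil : i₀ ≠ l := by intro h; rw [h] at hi₀; omega
  have hmin : ∀ a, i₀ ≤ a := fun a => by show i₀.1 ≤ a.1; omega
  refine isSimple_of_lie π ((MulAut.conj g₀).surjective.comp (QuotientGroup.mk'_surjective _)) hker.le ?_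
    (borelU (K := K) (m := m)) (isPGroup_borelU p) S ?_ ?_
    (fun T h1 h2 h3 h4 => eq_of_closed hm hex' p T h1 h2 h3 h4)
    {h : G | ∃ d : Fin m → Kˣ, ((∏ a, d a) = 1 ∨ ∃ δ : Kˣ, d = Function.update (1 : Fin m → Kˣ) l δ) ∧ h = levi (dU d)} ?_ ?_
  · rw [hker, Cfsg.Agent.S0246.result rfl m (by omega)]
    obtain ⟨f, -, hcard⟩ := FiniteField.card K p
    refine (Nat.Coprime.coprime_dvd_left (Nat.gcd_dvd_right _ _) ?_)
    rw [Nat.coprime_comm, (Fact.out : p.Prime).coprime_iff_not_dvd]
    intro hdvd
    have h1 : p ∣ Fintype.card K := hcard ▸ dvd_pow_self p f.pos.ne'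
    have h2 := Nat.dvd_sub h1 hdvd
    rw [show Fintype.card K - (Fintype.card K - 1) = 1 by
      have : 1 ≤ Fintype.card K := Fintype.card_pos
      omega] at h2
    exact (Fact.out : p.Prime).one_lt.ne' (Nat.dvd_one.1 h2)
  · rw [← hg₀, Sylow.coe_subgroup_smul, Sylow.coe_mapSurjective, hP, ← Subgroup.map_map]
    rfl
  · intro h
    have h1 : (sl (Matrix.SpecialLinearGroup.transvection hil (1 : K)) : G) = 1 :=
      Subgroup.mem_bot.1 (h ▸ sl_mem_borelU (PSLChar.transvection_mem (lt_of_le_of_ne (hmin l) hil) (1 : K)))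
    have h2 := congrFun (congrFun (congrArg bA h1) i₀) l
    rw [sl_bA, bA_one, PSLChar.tv_val] at h2
    simp [hil] at h2
  · intro g hg
    obtain ⟨hC, htri⟩ := normalizer_borelU hg
    have hd0 : ∀ a, bA g a a ≠ 0 := by
      intro a h
      have h1 := congrArg Matrix.det (bA_mul_inv (g := g) hC)
      rw [Matrix.det_mul, Matrix.det_one, Matrix.det_of_upperTriangular (fun a b h => htri a b h),
        show (∏ i, bA g i i) = 0 from Finset.prod_eq_zero (Finset.mem_univ a) h, zero_mul] at h1
      exact zero_ne_one h1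
    set d : Fin m → Kˣ := fun a => Units.mk0 (bA g a a) (hd0 a) with hd
    set δ : Kˣ := ∏ a, d a
    have hu : g * (levi (dU d))⁻¹ ∈ borelU (K := K) (m := m) := by
      have hlC : (levi (dU d) : G)⁻¹ ∈ siegel (K := K) (m := m) := inv_mem (levi_mem_siegel _)
      have he : bA (g * (levi (dU d))⁻¹) = bA g * Matrix.diagonal fun a => (((d a)⁻¹ : Kˣ) : K) := by
        rw [bA_mul_of_mem _ hlC, ← map_inv, levi_blocks.1]
        rfl
      refine ⟨siegel.mul_mem hC hlC, exists_upper (fun a b h => ?_) fun a => ?_⟩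
      · rw [he, Matrix.mul_diagonal, htri a b h, zero_mul]
      · rw [he, Matrix.mul_diagonal, hd]
        simp [hd0]
    rw [show g = g * (levi (dU d))⁻¹ * levi (dU d) by group, map_mul π]
    refine mul_mem (Subgroup.subset_closure (Or.inl ⟨_, hu, rfl⟩)) ?_
    have hsplit : d = d * Function.update (1 : Fin m → Kˣ) l δ⁻¹ * Function.update (1 : Fin m → Kˣ) l δ := by
      funext a; by_cases ha : a = l
      · subst ha; simp
      · simp [ha]
    rw [hsplit, dU_mul _ (Function.update (1 : Fin m → Kˣ) l δ), map_mul levi, map_mul π]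
    refine mul_mem (Subgroup.subset_closure (Or.inr ⟨_, ⟨_, Or.inl ?_, rfl⟩, rfl⟩))
      (Subgroup.subset_closure (Or.inr ⟨_, ⟨_, Or.inr ⟨δ, rfl⟩, rfl⟩, rfl⟩))
    · simp only [Pi.mul_apply]
      rw [Finset.prod_mul_distrib, Finset.prod_update_of_mem (Finset.mem_univ l)]
      simp [δ]
  · rintro _ ⟨d, hd, rfl⟩
    refine ⟨Subgroup.mem_normalizer_fintype fun u hu => ?_, ?_⟩
    · obtain ⟨hC, a, ⟨ha, ha'⟩, hau⟩ := hu
      have hlC := levi_mem_siegel (K := K) (dU d)
      have huC : u ∈ siegel (K := K) (m := m) := hC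
      have he : bA (levi (dU d) * u * (levi (dU d))⁻¹) =
          Matrix.diagonal (fun a => (d a : K)) * bA u * Matrix.diagonal fun a => (((d a)⁻¹ : Kˣ) : K) := by
        rw [bA_mul_of_mem _ (inv_mem hlC), bA_mul_of_mem _ huC, ← map_inv, levi_blocks.1, levi_blocks.1]
        rfl
      refine ⟨siegel.mul_mem (siegel.mul_mem hlC huC) (inv_mem hlC), exists_upper (fun i j h => ?_) fun i => ?_⟩
      · rw [he, Matrix.mul_diagonal, Matrix.diagonal_mul, ← hau, ha i j h, mul_zero, zero_mul]
      · rw [he, Matrix.mul_diagonal, Matrix.diagonal_mul, ← hau, ha', mul_one, Units.mul_inv]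
    rcases hd with hd | ⟨δ, rfl⟩
    · refine ⟨siegelRadical, ⟨siegelRadical_le, fun u hu => siegelRadical_normalizer hu.1, fun x hx => ?_⟩, ?_⟩
      · obtain ⟨c, hc, S', hS', rfl⟩ := centralizer_siegelRadical (by omega) hx
        refine ⟨qE S' hS', ⟨S', hS', rfl⟩, ?_⟩
        rw [map_mul, (MonoidHom.mem_ker (f := π)).1 (hker.ge (scal_mem_center c hc)), one_mul]
      · let s : Matrix.SpecialLinearGroup (Fin m) K := ⟨Matrix.diagonal fun a => (d a : K), by
          rw [Matrix.det_diagonal, ← Units.coe_prod, hd, Units.val_one]⟩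
        have hs : (levi (dU d) : G) = sl s := congrArg levi (Units.ext rfl)
        rw [hs]
        have htop := Cfsg.Lib.Linear.closure_transvection_eq_top (ι := Fin m) (F := K)
        have := Subgroup.mem_map_of_mem (sl (K := K) (m := m)) (htop.ge (Subgroup.mem_top s))
        rw [MonoidHom.map_closure] at this
        refine Subgroup.closure_mono ?_ this
        rintro _ ⟨t, ⟨i, j, hij, c, rfl⟩, rfl⟩
        refine ⟨siegelRadical_normalizer levi_blocks.2.2.1, 1, ?_⟩
        rw [pow_one, ← map_pow, show Matrix.SpecialLinearGroup.transvection hij c ^ p = 1 from ?_, map_one]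
        apply Subtype.ext
        haveI : Nonempty (Fin m) := ⟨i⟩
        have hcom : Commute (1 : Matrix (Fin m) (Fin m) K) (Matrix.single i j c) := Commute.one_left _
        rw [PSLChar.pow_val, PSLChar.tv_val, ← pow_one p, add_pow_char_pow_of_commute p 1 hcom, one_pow, pow_one,
          pow_eq_zero_of_le (Fact.out : p.Prime).two_le (by
            rw [pow_two, Matrix.single_mul_single_of_ne _ _ _ _ hij.symm]), add_zero]
        rfl
    · refine ⟨pointRadical i₀, ⟨pointRadical_le hmin, fun u hu => pointRadical_normalizer one_ne_zero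
        (by rw [borelU_fix hmin hu, one_smul]), fun x hx => ?_⟩, ?_⟩
      · obtain ⟨c, hc, hcx⟩ := centralizer_pointRadical hx
        refine ⟨_, hcx, ?_⟩
        rw [map_mul, (MonoidHom.mem_ker (f := π)).1 (hker.ge (scal_mem_center c hc)), one_mul]
      · rw [levi_dU_update]
        have hmem : ∀ c : K, (tvS (eV l) c : G) ∈ Subgroup.closure
              {x : G | x ∈ Subgroup.normalizer (pointRadical (K := K) i₀ : Set G) ∧ ∃ k : ℕ, x ^ p ^ k = 1} ∧
            (tvS (fV l) c : G) ∈ Subgroup.closure
              {x : G | x ∈ Subgroup.normalizer (pointRadical (K := K) i₀ : Set G) ∧ ∃ k : ℕ, x ^ p ^ k = 1} := by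
          intro c
          refine ⟨Subgroup.subset_closure ⟨pointRadical_normalizer one_ne_zero ?_, 1, ?_⟩,
            Subgroup.subset_closure ⟨pointRadical_normalizer one_ne_zero ?_, 1, ?_⟩⟩
          · rw [tvS_act, bil_eV]; simp [eV]
          · rw [pow_one, tvS_pow_char p]
          · rw [tvS_act, bil_fV]; simp [eV, hil.symm]
          · rw [pow_one, tvS_pow_char p]
        exact mul_mem (mul_mem (mul_mem (hmem _).1 (hmem _).2) (hmem _).1)
          (mul_mem (mul_mem (hmem _).1 (hmem _).2) (hmem _).1)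

end Cfsg.Lib.FusionSys.PSpChar
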