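import Mathlib.GroupTheory.Sylow
import Mathlib.GroupTheory.QuotientGroup.Basic
import Mathlib.FieldTheory.Finite.Basic
import Mathlib.GroupTheory.Commutator.Basic
import Mathlib.Tactic.Group
import Mathlib.Tactic.Ring

/-!
# Groups acting on a plane over the field with `p` elements; groups of order `p ^ 3` of exponent `p`
-/

set_option autoImplicit false

namespace Cfsg.Lib.FusionSys.Plane

open Subgroup
open scoped commutatorElement

variable {p : ℕ} [hp : Fact p.Prime]

theorem mem_of_pow_mem {G : Type*} [Group G] {H : Subgroup G} {x : G} {k m : ℕ} (hx : x ^ p ^ k = 1)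
    (hm : ¬ p ∣ m) (h : x ^ m ∈ H) : x ∈ H := by
  have hco : Nat.Coprime m (orderOf x) :=
    ((Nat.Coprime.pow_left k ((hp.out.coprime_iff_not_dvd).mpr hm)).coprime_dvd_left
      (orderOf_dvd_of_pow_eq_one hx)).symm
  obtain ⟨t, ht⟩ := exists_pow_eq_self_of_coprime hco
  rw [← ht]
  exact pow_mem h t

theorem pow_eq_pow_of_modEq {G : Type*} [Group G] {x : G} (hx : x ^ p = 1) {i j : ℕ}
    (h : i ≡ j [MOD p]) : x ^ i = x ^ j :=
  pow_eq_pow_iff_modEq.mpr (h.of_dvd (orderOf_dvd_of_pow_eq_one hx))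

theorem modEq_of_pow_eq {G : Type*} [Group G] {x : G} (hx : x ^ p = 1) (hx1 : x ≠ 1) {i j : ℕ}
    (h : x ^ i = x ^ j) : i ≡ j [MOD p] :=
  orderOf_eq_prime hx hx1 ▸ pow_eq_pow_iff_modEq.mp h

theorem exists_mul_modEq {c : ℕ} (hc : ¬ p ∣ c) (y : ℕ) : ∃ m, c * m ≡ y [MOD p] := by
  obtain ⟨t, -, ht⟩ := Nat.exists_mul_mod_eq_one_of_coprime
    ((hp.out.coprime_iff_not_dvd.mpr hc).symm) hp.out.one_lt
  refine ⟨t * y, ?_⟩
  have h1 : c * t ≡ 1 [MOD p] := by rw [Nat.ModEq, ht, Nat.mod_eq_of_lt hp.out.one_lt]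
  have h2 := h1.mul_right y
  rwa [one_mul, mul_assoc] at h2

theorem half_modEq (hp2 : p ≠ 2) : 2 * ((p + 1) / 2) ≡ 1 [MOD p] := by
  obtain ⟨k, hk⟩ := hp.out.odd_of_ne_two hp2
  rw [hk, show 2 * ((2 * k + 1 + 1) / 2) = (2 * k + 1) + 1 by omega]
  exact Nat.add_modEq_left

section V

variable {V : Type*} [Group V] [Finite V]
variable (hc : Nat.card V = p ^ 2) (hexp : ∀ v : V, v ^ p = 1)

include hc

theorem comm (a b : V) : a * b = b * a :=
  (IsPGroup.isMulCommutative_of_card_eq_prime_sq (p := p) hc).is_comm.comm a b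

include hexp

theorem card_zpowers_eq {e : V} (he : e ≠ 1) : Nat.card (zpowers e) = p := by
  rw [Nat.card_zpowers, orderOf_eq_prime (hexp e) he]

theorem card_of_ne {U : Subgroup V} (h0 : U ≠ ⊥) (h1 : U ≠ ⊤) : Nat.card U = p := by
  obtain ⟨i, hi, hU⟩ := (Nat.dvd_prime_pow hp.out).mp (hc ▸ U.card_subgroup_dvd_card)
  match i, hi with
  | 0, _ => exact absurd (Subgroup.card_eq_one.mp (by rw [hU, pow_zero])) h0
  | 1, _ => rw [hU, pow_one]
  | 2, _ => exact absurd ((Subgroup.card_eq_iff_eq_top U).mp (hU.trans hc.symm)) h1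
  | i + 3, hi => omega

theorem eq_zpowers_of_mem {U : Subgroup V} (hU : Nat.card U = p) {e : V} (he : e ≠ 1) (h : e ∈ U) :
    zpowers e = U :=
  eq_of_le_of_card_ge (zpowers_le.mpr h) (by rw [hU, card_zpowers_eq hc hexp he])

theorem exists_coords {e f : V} (he : e ≠ 1) (hf : f ∉ zpowers e) (v : V) :
    ∃ i j : ℕ, v = e ^ i * f ^ j := by
  haveI : (zpowers e).Normal :=
    ⟨fun a ha b => by rw [comm hc b a, mul_inv_cancel_right]; exact ha⟩
  have hq : Nat.card (V ⧸ zpowers e) = p := by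
    have h1 := Subgroup.card_eq_card_quotient_mul_card_subgroup (zpowers e)
    rw [hc, card_zpowers_eq hc hexp he, sq] at h1
    exact (Nat.eq_of_mul_eq_mul_right hp.out.pos h1).symm
  have hf1 : (f : V ⧸ zpowers e) ≠ 1 := by rwa [Ne, QuotientGroup.eq_one_iff]
  obtain ⟨j, hj⟩ := mem_powers_iff_mem_zpowers.mpr
    (mem_zpowers_of_prime_card hq hf1 (g' := (v : V ⧸ zpowers e)))
  have h2 : v * (f ^ j)⁻¹ ∈ zpowers e := by
    rw [← QuotientGroup.eq_one_iff, QuotientGroup.mk_mul, QuotientGroup.mk_inv, QuotientGroup.mk_pow,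
      (show (f : V ⧸ zpowers e) ^ j = v from hj), mul_inv_cancel]
  obtain ⟨i, hi⟩ := mem_powers_iff_mem_zpowers.mpr h2
  exact ⟨i, j, (eq_mul_of_mul_inv_eq hi.symm)⟩

theorem aut_ext {e f : V} (he : e ≠ 1) (hf : f ∉ zpowers e) {α β : MulAut V} (h1 : α e = β e)
    (h2 : α f = β f) : α = β := by
  refine MulEquiv.ext fun v => ?_
  obtain ⟨i, j, rfl⟩ := exists_coords hc hexp he hf v
  simp [map_mul, map_pow, h1, h2]

/-- A `p`-group of automorphisms of a plane fixes a line pointwise and acts trivially modulo it. -/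
theorem unipotent {R : Type*} [Group R] [Finite R] (hR : IsPGroup p R) (r : R →* MulAut V) :
    ∃ e : V, e ≠ 1 ∧ (∀ ρ, r ρ e = e) ∧ ∀ ρ v, r ρ v * v⁻¹ ∈ zpowers e := by
  letI : MulAction R V := MulAction.compHom V r
  obtain ⟨e, hefix, hene⟩ := hR.exists_fixed_point_of_prime_dvd_card_of_fixed_point V
    (hc ▸ dvd_pow_self p two_ne_zero) (a := (1 : V)) (fun ρ => map_one (r ρ))
  have he : e ≠ 1 := fun h => hene h.symm
  refine ⟨e, he, fun ρ => hefix ρ, fun ρ v => ?_⟩
  have hfix : ∀ ρ, r ρ e = e := fun ρ => hefix ρ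
  by_cases hv : v ∈ zpowers e
  · obtain ⟨n, rfl⟩ := hv
    simp [map_zpow, hfix]
  obtain ⟨i, j, hij⟩ := exists_coords hc hexp he hv (r ρ v)
  have hiter : ∀ m : ℕ, ∃ i' : ℕ, r (ρ ^ m) v = e ^ i' * v ^ j ^ m := by
    intro m
    induction m with
    | zero => exact ⟨0, by simp⟩
    | succ m ih =>
      obtain ⟨i', hi'⟩ := ih
      refine ⟨i' + i * j ^ m, ?_⟩
      rw [pow_succ', map_mul, MulAut.mul_apply, hi', map_mul, map_pow, map_pow, hfix, hij,
        (show Commute (e ^ i) (v ^ j) from comm hc _ _).mul_pow, ← mul_assoc, ← pow_mul, ← pow_add,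
        ← pow_mul, ← pow_succ']
  obtain ⟨k, hk⟩ := hR ρ
  obtain ⟨i', hi'⟩ := hiter (p ^ k)
  rw [hk, map_one, MulAut.one_apply] at hi'
  have hj : j ^ p ^ k ≡ j [MOD p] := by
    rw [← ZMod.natCast_eq_natCast_iff, Nat.cast_pow, ZMod.pow_card_pow]
  rw [pow_eq_pow_of_modEq (hexp v) hj] at hi'
  have h3 : v ^ j * v⁻¹ = (e ^ i')⁻¹ := by
    conv_lhs => arg 2; rw [hi']
    rw [mul_inv_rev, mul_inv_cancel_left]
  rw [hij, mul_assoc, h3]
  exact mul_mem (pow_mem (mem_zpowers e) i) (inv_mem (pow_mem (mem_zpowers e) i'))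

end V

section Diag

variable {V : Type*} [Group V] [Finite V] {A : Type*} [Group A] [Finite A]
variable (hc : Nat.card V = p ^ 2) (hexp : ∀ v : V, v ^ p = 1) (r : A →* MulAut V)
variable (I : Subgroup A) (hI : I.Normal) (hIp : IsPGroup p I)
variable (hO : ∀ N : Subgroup A, N.Normal → IsPGroup p N → N ≤ I) (hker : IsPGroup p r.ker)
variable (R : Subgroup A) (hR : IsPGroup p R) (hRI : ¬ R ≤ I)

/-- The stabiliser of the series `1 ≤ K ≤ V`. -/
def stab (K : Subgroup V) : Subgroup A where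
  carrier := {a | (∀ v ∈ K, r a v = v) ∧ ∀ v, r a v * v⁻¹ ∈ K}
  one_mem' := ⟨fun v _ => by simp, fun v => by simp⟩
  mul_mem' := by
    rintro a b ⟨ha1, ha2⟩ ⟨hb1, hb2⟩
    refine ⟨fun v hv => by rw [map_mul, MulAut.mul_apply, hb1 v hv, ha1 v hv], fun v => ?_⟩
    rw [map_mul, MulAut.mul_apply,
      show r a (r b v) * v⁻¹ = (r a (r b v) * (r b v)⁻¹) * (r b v * v⁻¹) by group]
    exact mul_mem (ha2 _) (hb2 v)
  inv_mem' := by
    rintro a ⟨ha1, ha2⟩
    have key : ∀ v, r a (r a⁻¹ v) = v := fun v => by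
      rw [← MulAut.mul_apply, ← map_mul, mul_inv_cancel, map_one, MulAut.one_apply]
    refine ⟨fun v hv => (r a).injective (by rw [key, ha1 v hv]), fun v => ?_⟩
    have h := ha2 (r a⁻¹ v)
    rw [key] at h
    simpa using inv_mem h

include hc hexp hO hker hR hRI

/-- No line is invariant under `A`. -/
theorem no_invariant_line (K : Subgroup V) (hK : Nat.card K = p)
    (hinv : ∀ a, ∀ v ∈ K, r a v ∈ K) : False := by
  have hN : (stab r K).Normal := by
    refine ⟨fun n hn a => ?_⟩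
    have key : ∀ v, r a (r a⁻¹ v) = v := fun v => by
      rw [← MulAut.mul_apply, ← map_mul, mul_inv_cancel, map_one, MulAut.one_apply]
    refine ⟨fun v hv => ?_, fun v => ?_⟩
    · rw [map_mul, map_mul, MulAut.mul_apply, MulAut.mul_apply, hn.1 _ (hinv a⁻¹ v hv), key]
    · rw [map_mul, map_mul, MulAut.mul_apply, MulAut.mul_apply]
      nth_rewrite 2 [← key v]
      rw [← map_inv (r a), ← map_mul]
      exact hinv a _ (hn.2 _)
  have hNp : IsPGroup p (stab r K) := by
    rintro ⟨n, hn1, hn2⟩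
    have hpow : ∀ (m : ℕ) (v : V), r (n ^ m) v = (r n v * v⁻¹) ^ m * v := by
      intro m v
      induction m with
      | zero => simp
      | succ m ih =>
        rw [pow_succ', map_mul, MulAut.mul_apply, ih, map_mul, map_pow, hn1 _ (hn2 v),
          pow_succ (r n v * v⁻¹), mul_assoc, inv_mul_cancel_right]
    have hk : n ^ p ∈ r.ker := MonoidHom.mem_ker.mpr (MulEquiv.ext fun v => by
      rw [hpow, hexp, one_mul, MulAut.one_apply])
    obtain ⟨k, hk'⟩ := hker ⟨n ^ p, hk⟩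
    refine ⟨k + 1, Subtype.ext ?_⟩
    have := congrArg Subtype.val hk'
    simpa [pow_succ', pow_mul] using this
  refine hRI fun ρ hρ => hO _ hN hNp ?_
  obtain ⟨e, he, hfix, htriv⟩ := unipotent hc hexp hR (r.comp R.subtype)
  by_cases heK : e ∈ K
  · rw [← eq_zpowers_of_mem hc hexp hK he heK]
    refine ⟨fun v hv => ?_, fun v => htriv ⟨ρ, hρ⟩ v⟩
    obtain ⟨i, rfl⟩ := hv
    show r ρ (e ^ i) = e ^ i
    rw [map_zpow]
    exact congrArg (· ^ i) (hfix ⟨ρ, hρ⟩)
  · have hmeet : ∀ v, v ∈ K → v ∈ zpowers e → v = 1 := by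
      intro v hvK hve
      by_contra hv1
      exact heK (((eq_zpowers_of_mem hc hexp (card_zpowers_eq hc hexp he) hv1 hve).symm.trans
        (eq_zpowers_of_mem hc hexp hK hv1 hvK)) ▸ mem_zpowers e)
    have hfixK : ∀ v ∈ K, r ρ v = v := fun v hv => mul_inv_eq_one.mp
      (hmeet _ (mul_mem (hinv ρ v hv) (inv_mem hv)) (htriv ⟨ρ, hρ⟩ v))
    obtain ⟨f, hfK, hf1⟩ : ∃ f ∈ K, f ≠ 1 := by
      by_contra hne
      push Not at hne
      rw [(eq_bot_iff_forall K).mpr hne, card_bot] at hK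
      exact hp.out.ne_one hK.symm
    have hfe : f ∉ zpowers e := fun h => hf1 (hmeet f hfK h)
    have h1 : r ρ = 1 := aut_ext hc hexp he hfe (hfix ⟨ρ, hρ⟩) (hfixK f hfK)
    exact ⟨fun v _ => by rw [h1, MulAut.one_apply], fun v => by
      rw [h1, MulAut.one_apply, mul_inv_cancel]; exact K.one_mem⟩

/-- An invariant subgroup is trivial or the whole plane. -/
theorem invariant_eq (U : Subgroup V) (hinv : ∀ a, ∀ v ∈ U, r a v ∈ U) : U = ⊥ ∨ U = ⊤ := by
  by_contra h
  push Not at h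
  exact no_invariant_line hc hexp r I hO hker R hR hRI U (card_of_ne hc hexp h.1 h.2) hinv

include hI hIp

theorem le_ker : I ≤ r.ker := by
  let K : Subgroup V :=
    { carrier := {v | ∀ i ∈ I, r i v = v}
      one_mem' := fun i _ => map_one _
      mul_mem' := fun ha hb i hi => by rw [map_mul, ha i hi, hb i hi]
      inv_mem' := fun ha i hi => by rw [map_inv, ha i hi] }
  have hinv : ∀ a, ∀ v ∈ K, r a v ∈ K := fun a v hv i hi => by
    have h := hv (a⁻¹ * i * a) (hI.conj_mem' i hi a)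
    calc r i (r a v) = r a (r (a⁻¹ * i * a) v) := by
          simp only [← MulAut.mul_apply, ← map_mul]; group
      _ = r a v := by rw [h]
  obtain ⟨e, he, hfix, -⟩ := unipotent hc hexp hIp (r.comp I.subtype)
  rcases invariant_eq hc hexp r I hO hker R hR hRI K hinv with hK | hK
  · exact absurd (mem_bot.mp (hK ▸ (show e ∈ K from fun i hi => hfix ⟨i, hi⟩))) he
  · exact fun i hi => MonoidHom.mem_ker.mpr
      (MulEquiv.ext fun v => (show v ∈ K from hK ▸ mem_top v) i hi)

theorem ker_eq : r.ker = I :=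
  le_antisymm (hO _ inferInstance hker) (le_ker hc hexp r I hI hIp hO hker R hR hRI)

/-- A transvection `u` and a diagonal element `d` of determinant one normalising it. -/
theorem exists_diag (hp2 : p ≠ 2) :
    ∃ e f : V, e ≠ 1 ∧ f ∉ zpowers e ∧ (∀ ρ ∈ R, r ρ e = e) ∧
      (∀ ρ ∈ R, ∀ v, r ρ v * v⁻¹ ∈ zpowers e) ∧
      (∃ u ∈ R, r u f = e * f) ∧
      ∃ d ∈ closure {a : A | ∃ k, a ^ p ^ k = 1}, r d e = e ^ 2 ∧ r d f = f ^ ((p + 1) / 2) ∧
        ∀ ρ ∈ R, r d * r ρ = r (ρ ^ 4) * r d := by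
  obtain ⟨e, he, hfix', htriv'⟩ := unipotent hc hexp hR (r.comp R.subtype)
  have hfix : ∀ ρ ∈ R, r ρ e = e := fun ρ hρ => hfix' ⟨ρ, hρ⟩
  have htriv : ∀ ρ ∈ R, ∀ v, r ρ v * v⁻¹ ∈ zpowers e := fun ρ hρ v => htriv' ⟨ρ, hρ⟩ v
  obtain ⟨a, ha⟩ : ∃ a, r a e ∉ zpowers e := by
    by_contra h
    push Not at h
    refine no_invariant_line hc hexp r I hO hker R hR hRI (zpowers e) (card_zpowers_eq hc hexp he)
      fun a v hv => ?_
    obtain ⟨i, rfl⟩ := hv
    rw [map_zpow]
    exact zpow_mem (h a) i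
  set f := r a e with hfdef
  -- a nontrivial element of `R`
  have hkerI := ker_eq hc hexp r I hI hIp hO hker R hR hRI
  obtain ⟨ρ0, hρ0, hρ0I⟩ := SetLike.not_le_iff_exists.mp hRI
  obtain ⟨i, hi⟩ := mem_powers_iff_mem_zpowers.mpr (htriv ρ0 hρ0 f)
  have hi' : r ρ0 f = e ^ i * f := eq_mul_of_mul_inv_eq hi.symm
  have hpi : ¬ p ∣ i := by
    rintro ⟨t, rfl⟩
    rw [pow_mul, hexp, one_pow, one_mul] at hi'
    exact hρ0I (hkerI ▸ MonoidHom.mem_ker.mpr (aut_ext hc hexp he ha (hfix ρ0 hρ0) hi'))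
  have hpowf : ∀ ρ ∈ R, ∀ (i : ℕ), r ρ f = e ^ i * f → ∀ m : ℕ, r (ρ ^ m) f = e ^ (i * m) * f := by
    intro ρ hρ i h m
    induction m with
    | zero => simp
    | succ m ih =>
      rw [pow_succ', map_mul, MulAut.mul_apply, ih, map_mul, map_pow, hfix ρ hρ, h, ← mul_assoc,
        ← pow_add]
      ring_nf
  obtain ⟨s, hs⟩ := exists_mul_modEq hpi 1
  set u := ρ0 ^ s with hudef
  have hu : u ∈ R := pow_mem hρ0 s
  have huf : r u f = e ^ 1 * f := by rw [hudef, hpowf ρ0 hρ0 i hi' s, pow_eq_pow_of_modEq (hexp e) hs]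
  -- the opposite transvection
  set w := r a⁻¹ e with hwdef
  have haw : r a w = e := by
    rw [hwdef, ← MulAut.mul_apply, ← map_mul, mul_inv_cancel, map_one, MulAut.one_apply]
  have hw : w ∉ zpowers e := by
    intro hwe
    obtain ⟨k, hk⟩ := hwe
    have : e ∈ zpowers f := ⟨k, by show f ^ k = e; rw [hfdef, ← map_zpow, (show e ^ k = w from hk), haw]⟩
    exact ha ((eq_zpowers_of_mem hc hexp (card_zpowers_eq hc hexp
      (fun h => ha (by rw [h]; exact one_mem _))) he this).symm ▸ mem_zpowers f)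
  obtain ⟨c, hcw⟩ := mem_powers_iff_mem_zpowers.mpr (htriv u hu w)
  have hcw' : r u w = e ^ c * w := eq_mul_of_mul_inv_eq hcw.symm
  have hpc : ¬ p ∣ c := by
    rintro ⟨t, rfl⟩
    rw [pow_mul, hexp, one_pow, one_mul] at hcw'
    have h1 : r u = 1 := aut_ext hc hexp he hw (hfix u hu) hcw'
    rw [h1, MulAut.one_apply, pow_one] at huf
    exact he (mul_eq_right.mp huf.symm)
  set l := a * u * a⁻¹ with hldef
  have hlf : r l f = f := by
    have h1 : r a⁻¹ (r a e) = e := by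
      rw [← MulAut.mul_apply, ← map_mul, inv_mul_cancel, map_one, MulAut.one_apply]
    rw [hldef, map_mul, map_mul, MulAut.mul_apply, MulAut.mul_apply, hfdef, h1, hfix u hu]
  have hle : r l e = e * f ^ c := by
    rw [hldef, map_mul, map_mul, MulAut.mul_apply, MulAut.mul_apply, ← hwdef, hcw', map_mul, map_pow,
      haw, ← hfdef, comm hc]
  have hlpow : ∀ m : ℕ, r (l ^ m) e = e * f ^ (c * m) := by
    intro m
    induction m with
    | zero => simp
    | succ m ih =>
      rw [pow_succ', map_mul, MulAut.mul_apply, ih, map_mul, map_pow, hlf, hle, mul_assoc, ← pow_add]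
      ring_nf
  have hlpowf : ∀ m : ℕ, r (l ^ m) f = f := by
    intro m
    induction m with
    | zero => simp
    | succ m ih => rw [pow_succ', map_mul, MulAut.mul_apply, ih, hlf]
  obtain ⟨k, hk⟩ := hp.out.odd_of_ne_two hp2
  obtain ⟨m₁, hm₁⟩ := exists_mul_modEq hpc k
  obtain ⟨m₂, hm₂⟩ := exists_mul_modEq hpc 1
  have hTe : ∀ n : ℕ, r (u ^ n) e = e := fun n => hfix _ (pow_mem hu n)
  have hTf : ∀ n : ℕ, r (u ^ n) f = e ^ n * f := fun n => by rw [hpowf u hu 1 huf n, one_mul]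
  have hLe₁ : r (l ^ m₁) e = e * f ^ k := by rw [hlpow, pow_eq_pow_of_modEq (hexp f) hm₁]
  have hLe₂ : r (l ^ m₂) e = e * f ^ 1 := by rw [hlpow, pow_eq_pow_of_modEq (hexp f) hm₂]
  have h2k : 2 * k + 1 = p := hk.symm
  set W := u ^ 2 * l ^ m₁ * u ^ 2 with hW
  set W' := u ^ (p - 1) * l ^ m₂ * u ^ (p - 1) with hW'
  have hC : ∀ x y : V, Commute x y := fun x y => comm hc x y
  have hWe : r W e = f ^ k := by
    rw [hW, map_mul, map_mul, MulAut.mul_apply, MulAut.mul_apply, hTe, hLe₁, map_mul (r (u ^ 2)), map_pow (r (u ^ 2)), hTe, hTf,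
      (hC _ _).mul_pow, ← mul_assoc, ← pow_mul, ← pow_succ', h2k, hexp, one_mul]
  have hWf : r W f = e ^ 2 := by
    rw [hW, map_mul, map_mul, MulAut.mul_apply, MulAut.mul_apply, hTf, map_mul (r (l ^ m₁)), map_pow (r (l ^ m₁)), hLe₁, hlpowf,
      (hC _ _).mul_pow, mul_assoc, ← pow_mul f, ← pow_succ f, mul_comm k 2, h2k, hexp, mul_one, map_pow (r _), hTe]
  have hp1 : p - 1 + 1 = p := Nat.sub_add_cancel hp.out.one_le
  have hW'e : r W' e = f := by
    rw [hW', map_mul, map_mul, MulAut.mul_apply, MulAut.mul_apply, hTe, hLe₂, pow_one, map_mul (r (u ^ (p - 1))), hTe, hTf,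
      ← mul_assoc, ← pow_succ', hp1, hexp, one_mul]
  have hW'f : r W' f = e ^ (p - 1) := by
    rw [hW', map_mul, map_mul, MulAut.mul_apply, MulAut.mul_apply, hTf, map_mul (r (l ^ m₂)), map_pow (r (l ^ m₂)), hLe₂, pow_one,
      hlpowf, (hC _ _).mul_pow, mul_assoc, ← pow_succ, hp1, hexp, mul_one, map_pow (r _), hTe]
  have hde : r (W * W') e = e ^ 2 := by rw [map_mul, MulAut.mul_apply, hW'e, hWf]
  have hdf : r (W * W') f = f ^ ((p + 1) / 2) := by
    rw [map_mul, MulAut.mul_apply, hW'f, map_pow, hWe, ← pow_mul]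
    refine pow_eq_pow_of_modEq (hexp f) ?_
    refine Nat.ModEq.add_right_cancel' k ?_
    rw [show k * (p - 1) + k = k * p by rw [← Nat.mul_succ, Nat.succ_eq_add_one, hp1],
      show (p + 1) / 2 + k = p by omega]
    exact (Nat.modEq_zero_iff_dvd.mpr (dvd_mul_left p k)).trans
      (Nat.modEq_zero_iff_dvd.mpr dvd_rfl).symm
  refine ⟨e, f, he, ha, hfix, htriv, ⟨u, hu, by rw [huf, pow_one]⟩, W * W', ?_, hde, hdf, ?_⟩
  · obtain ⟨n, hn⟩ := hR ⟨u, hu⟩
    have hun : u ^ p ^ n = 1 := congrArg Subtype.val hn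
    have hl1 : l ^ p ^ n = 1 := by rw [hldef, conj_pow, hun, mul_one, mul_inv_cancel]
    have hum : u ∈ closure {a : A | ∃ k, a ^ p ^ k = 1} := subset_closure ⟨n, hun⟩
    have hlm : l ∈ closure {a : A | ∃ k, a ^ p ^ k = 1} := subset_closure ⟨n, hl1⟩
    exact mul_mem (mul_mem (mul_mem (pow_mem hum _) (pow_mem hlm _)) (pow_mem hum _))
      (mul_mem (mul_mem (pow_mem hum _) (pow_mem hlm _)) (pow_mem hum _))
  · intro ρ hρ
    refine aut_ext hc hexp he ha ?_ ?_
    · rw [MulAut.mul_apply, MulAut.mul_apply, hfix ρ hρ, hde, map_pow, hfix _ (pow_mem hρ 4)]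
    · obtain ⟨j, hj⟩ := mem_powers_iff_mem_zpowers.mpr (htriv ρ hρ f)
      have hj' : r ρ f = e ^ j * f := eq_mul_of_mul_inv_eq hj.symm
      rw [MulAut.mul_apply, MulAut.mul_apply, hj', map_mul, map_pow, hde, hdf, map_pow,
        hpowf ρ hρ j hj' 4, (hC _ _).mul_pow, ← pow_mul, ← pow_mul]
      congr 1
      refine pow_eq_pow_of_modEq (hexp e) ?_
      have h := (half_modEq hp2).mul_left (2 * j)
      rw [mul_one] at h
      rw [show j * 4 * ((p + 1) / 2) = 2 * j * (2 * ((p + 1) / 2)) by ring]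
      exact h.symm

end Diag

section Cube

variable {W : Type*} [Group W] [Finite W]

/-- The centre and central quotient of a nonabelian group of order `p ^ 3`. -/
theorem cube_center (hc : Nat.card W = p ^ 3) (hna : ¬ IsMulCommutative W) :
    Nat.card (center W) = p ∧ Nat.card (W ⧸ center W) = p ^ 2 ∧ ∀ x y : W, ⁅x, y⁆ ∈ center W := by
  have hW : IsPGroup p W := IsPGroup.of_card hc
  haveI : Nontrivial W := Finite.one_lt_card_iff_nontrivial.mp
    (by rw [hc]; exact Nat.one_lt_pow three_ne_zero hp.out.one_lt)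
  have hmul := Subgroup.card_eq_card_quotient_mul_card_subgroup (center W)
  obtain ⟨i, hi3, hi⟩ := (Nat.dvd_prime_pow hp.out).mp (hc ▸ (center W).card_subgroup_dvd_card)
  have hi0 : i ≠ 0 := fun h0 => by
    have := hW.center_nontrivial
    rw [h0, pow_zero, Subgroup.card_eq_one] at hi
    exact (Subgroup.nontrivial_iff_ne_bot _).mp this hi
  have hi1 : i = 1 := by
    by_contra hne
    have hle : Nat.card (W ⧸ center W) ≤ p := by
      have h1 : p ^ 3 = Nat.card (W ⧸ center W) * p ^ i := by rw [← hc, hmul, hi]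
      have h2 : p ^ 2 ≤ p ^ i := Nat.pow_le_pow_right hp.out.pos (by omega)
      refine Nat.le_of_mul_le_mul_right ?_ (pow_pos hp.out.pos 2)
      calc Nat.card (W ⧸ center W) * p ^ 2 ≤ Nat.card (W ⧸ center W) * p ^ i :=
            Nat.mul_le_mul_left _ h2
        _ = p * p ^ 2 := by rw [← h1]; ring
    haveI : IsCyclic (W ⧸ center W) := by
      rcases (Nat.dvd_prime_pow hp.out).mp (show Nat.card (W ⧸ center W) ∣ p ^ 3 from
        hc ▸ Dvd.intro _ hmul.symm) with ⟨k, -, hk⟩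
      rcases Nat.eq_zero_or_pos k with h | h
      · haveI : Subsingleton (W ⧸ center W) :=
          (Nat.card_eq_one_iff_unique.mp (by rw [hk, h, pow_zero])).1
        exact isCyclic_of_subsingleton
      · exact isCyclic_of_prime_card (le_antisymm hle
          (hk ▸ Nat.le_self_pow (by omega) p))
    exact hna ⟨⟨fun a b => commutative_of_cyclic_center_quotient (QuotientGroup.mk' (center W))
      (by rw [QuotientGroup.ker_mk']) a b⟩⟩
  rw [hi1, pow_one] at hi
  have hq : Nat.card (W ⧸ center W) = p ^ 2 := by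
    rw [hc, hi] at hmul
    exact (Nat.eq_of_mul_eq_mul_right hp.out.pos (hmul.symm.trans (pow_succ p 2)))
  have hcomm : ∀ x y : W, ⁅x, y⁆ ∈ center W := by
    intro x y
    rw [← QuotientGroup.eq_one_iff]
    show QuotientGroup.mk' (center W) ⁅x, y⁆ = 1
    rw [map_commutatorElement]
    exact commutatorElement_eq_one_iff_mul_comm.mpr
      ((IsPGroup.isMulCommutative_of_card_eq_prime_sq (p := p) hq).is_comm.comm _ _)
  exact ⟨hi, hq, hcomm⟩

/-- A nonabelian group of order `p ^ 3` and exponent `p`: central quotient and central automorphisms. -/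
theorem cube_data (hc : Nat.card W = p ^ 3) (hexp : ∀ w : W, w ^ p = 1)
    (hna : ¬ IsMulCommutative W) :
    Nat.card (center W) = p ∧ Nat.card (W ⧸ center W) = p ^ 2 ∧
      (∀ x y : W, ⁅x, y⁆ ∈ center W) ∧
      ∀ φ : MulAut W, (∀ x, φ x * x⁻¹ ∈ center W) → ∃ w : W, φ = MulAut.conj w := by
  obtain ⟨hi, hq, hcomm⟩ := cube_center hc hna
  refine ⟨hi, hq, hcomm, fun φ hφ => ?_⟩
  obtain ⟨a, b, hab⟩ : ∃ a b : W, a * b ≠ b * a := by
    by_contra h
    push Not at h
    exact hna ⟨⟨h⟩⟩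
  set z := ⁅a, b⁆ with hz
  have hz1 : z ≠ 1 := fun h => hab (commutatorElement_eq_one_iff_mul_comm.mp h)
  have hzZ : zpowers z = center W := eq_of_le_of_card_ge (zpowers_le.mpr (hcomm a b))
    (by rw [hi, Nat.card_zpowers, orderOf_eq_prime (hexp z) hz1])
  obtain ⟨i₁, hi₁⟩ := mem_powers_iff_mem_zpowers.mpr (hzZ.symm ▸ hφ a)
  obtain ⟨i₂, hi₂⟩ := mem_powers_iff_mem_zpowers.mpr (hzZ.symm ▸ hφ b)
  have hzc : ∀ x : W, Commute z x := fun x => (mem_center_iff.mp (hcomm a b) x).symm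
  -- conjugation by `a` and `b`
  have hca : ∀ n : ℕ, (MulAut.conj (a ^ n)) b = z ^ n * b := by
    intro n
    induction n with
    | zero => simp
    | succ n ih =>
      rw [pow_succ', map_mul, MulAut.mul_apply, ih, map_mul, map_pow, MulAut.conj_apply,
        MulAut.conj_apply, (show a * b * a⁻¹ = z * b by rw [hz, commutatorElement_def, inv_mul_cancel_right]),
        show a * z * a⁻¹ = z by rw [← (hzc a).eq, mul_inv_cancel_right], pow_succ, mul_assoc]
  have hcb : ∀ n : ℕ, z ^ n * (MulAut.conj (b ^ n)) a = a := by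
    intro n
    induction n with
    | zero => simp
    | succ n ih =>
      have h1 : z * (b * a * b⁻¹) = a := by
        have h2 : a * b = z * (b * a) := by rw [hz, commutatorElement_def]; group
        rw [← mul_assoc, ← mul_assoc, mul_assoc z, ← h2, mul_inv_cancel_right]
      have h3 := congrArg (MulAut.conj b) ih
      rw [map_mul (MulAut.conj b), map_pow (MulAut.conj b), MulAut.conj_apply b z, ← (hzc b).eq,
        mul_inv_cancel_right, ← MulAut.mul_apply, ← map_mul MulAut.conj, ← pow_succ', MulAut.conj_apply b a] at h3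
      rw [pow_succ' z, mul_assoc, h3, h1]
  refine ⟨a ^ i₂ * b ^ ((p - 1) * i₁), ?_⟩
  have hgen : closure ({a, b} : Set W) = ⊤ := by
    refine eq_top_of_le_card _ ?_
    obtain ⟨j, hj3, hj⟩ := (Nat.dvd_prime_pow hp.out).mp
      (hc ▸ (closure ({a, b} : Set W)).card_subgroup_dvd_card)
    by_contra hlt
    push Not at hlt
    rw [hc, hj] at hlt
    have hj2 : j ≤ 2 := by
      have := (Nat.pow_lt_pow_iff_right hp.out.one_lt).mp hlt
      omega
    have hcomm2 : IsMulCommutative ↥(closure ({a, b} : Set W)) := by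
      interval_cases j
      · haveI : Subsingleton ↥(closure ({a, b} : Set W)) :=
          (Nat.card_eq_one_iff_unique.mp (by simpa using hj)).1
        exact ⟨⟨fun x y => Subsingleton.elim _ _⟩⟩
      · haveI : IsCyclic ↥(closure ({a, b} : Set W)) := isCyclic_of_prime_card (by simpa using hj)
        exact IsCyclic.isMulCommutative
      · exact IsPGroup.isMulCommutative_of_card_eq_prime_sq (p := p) hj
    exact hab (congrArg Subtype.val (hcomm2.is_comm.comm
      (⟨a, subset_closure (by simp)⟩ : closure ({a, b} : Set W)) ⟨b, subset_closure (by simp)⟩))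
  refine MulEquiv.toMonoidHom_injective (MonoidHom.eq_of_eqOn_dense hgen ?_)
  have hfb : (MulAut.conj (b ^ ((p - 1) * i₁))) b = b := by
    rw [MulAut.conj_apply, ((Commute.refl b).pow_left _).eq, mul_inv_cancel_right]
  have hzfix : ∀ x : W, MulAut.conj x z = z := fun x => by
    rw [MulAut.conj_apply, ← (hzc x).eq, mul_inv_cancel_right]
  rintro x (rfl | rfl)
  · show φ x = (MulAut.conj (x ^ i₂ * b ^ ((p - 1) * i₁))) x
    have h1 := hcb ((p - 1) * i₁)
    have h2 : z ^ i₁ * z ^ ((p - 1) * i₁) = 1 := by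
      rw [← pow_add, show i₁ + (p - 1) * i₁ = p * i₁ by
        rw [Nat.sub_one_mul]; exact Nat.add_sub_cancel' (Nat.le_mul_of_pos_left _ hp.out.pos),
        pow_mul, hexp, one_pow]
    have h3 : (MulAut.conj (b ^ ((p - 1) * i₁))) x = z ^ i₁ * x := by
      conv_rhs => rw [← h1, ← mul_assoc, h2, one_mul]
    rw [map_mul, MulAut.mul_apply, h3, map_mul, map_pow, hzfix, MulAut.conj_apply,
      ((Commute.refl x).pow_left _).eq, mul_inv_cancel_right]
    exact eq_mul_of_mul_inv_eq hi₁.symm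
  · show φ x = (MulAut.conj (a ^ i₂ * x ^ ((p - 1) * i₁))) x
    rw [map_mul, MulAut.mul_apply, hfb, hca]
    exact eq_mul_of_mul_inv_eq hi₂.symm

end Cube

end Cfsg.Lib.FusionSys.Plane
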