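import Cfsg.Agent.Lib.FusionSys.CommonAxis
import Cfsg.Agent.Lib.FusionSys.RankTwoEssential
import Cfsg.Agent.Lib.FusionSys.Normal
import Cfsg.Agent.Lib.PGroup.AbelianIndexMap

/-!
# Essential subgroups when there is a unique abelian subgroup of index `p`
-/

set_option autoImplicit false

namespace Cfsg.Lib.FusionSys.AbelianIndex

open Cfsg Cfsg.FusionSystem
open scoped commutatorElement

universe u

variable {Ω : Type u} [Group Ω] {S : Subgroup Ω} {p : ℕ}

/-- The hypotheses. -/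
structure Setting (p : ℕ) (F : FusionSystem S) (A : Subgroup Ω) : Prop where
  hS : IsPGroup p S
  hF : F.IsSaturated p
  hna : ¬ IsMulCommutative ↥S
  hAS : A ≤ S
  hAc : IsMulCommutative ↥A
  hAi : (A.subgroupOf S).index = p
  huniq : ∀ B : Subgroup Ω, B ≤ S → IsMulCommutative ↥B → (B.subgroupOf S).index = p → B = A

variable {F : FusionSystem S} {A P : Subgroup Ω}

theorem Setting.data (h : Setting p F A) {x : Ω} (hx : x ∈ S) (hxA : x ∉ A) :
    PGroup.AbelianIndex.Data p (A.subgroupOf S) ⟨x, hx⟩ := by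
  refine ⟨h.hS, h.hna, ⟨⟨fun a b => ?_⟩⟩, h.hAi, hxA⟩
  exact Subtype.ext (Subtype.ext (congrArg (fun t : A => (t : Ω))
    (h.hAc.is_comm.comm ⟨_, a.2⟩ ⟨_, b.2⟩) :))

theorem Setting.commute (h : Setting p F A) {a b : Ω} (ha : a ∈ A) (hb : b ∈ A) : Commute a b :=
  congrArg (fun t : A => (t : Ω)) (h.hAc.is_comm.comm ⟨a, ha⟩ ⟨b, hb⟩)

/-- `Z(S)` inside `Ω`. -/
theorem mem_zS {z : Ω} :
    z ∈ S ⊓ Subgroup.centralizer (S : Set Ω) ↔ ∃ hz : z ∈ S, (⟨z, hz⟩ : S) ∈ Subgroup.center ↥S := by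
  constructor
  · rintro ⟨hz, hc⟩
    exact ⟨hz, Subgroup.mem_center_iff.mpr fun g =>
      Subtype.ext (Subgroup.mem_centralizer_iff.mp hc g g.2)⟩
  · rintro ⟨hz, hc⟩
    exact ⟨hz, Subgroup.mem_centralizer_iff.mpr fun g hg =>
      congrArg Subtype.val (Subgroup.mem_center_iff.mp hc ⟨g, hg⟩)⟩

theorem map_center_eq_zS : (Subgroup.center ↥S).map S.subtype = S ⊓ Subgroup.centralizer (S : Set Ω) := by
  ext z
  rw [mem_zS]
  constructor
  · rintro ⟨w, hw, rfl⟩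
    exact ⟨w.2, hw⟩
  · rintro ⟨hz, hc⟩
    exact ⟨⟨z, hz⟩, hc, rfl⟩

theorem card_zS : Nat.card ↥(S ⊓ Subgroup.centralizer (S : Set Ω)) = Nat.card (Subgroup.center ↥S) := by
  rw [← map_center_eq_zS, Subgroup.card_map_of_injective S.subtype_injective]

theorem commute_zS {z g : Ω} (hz : z ∈ S ⊓ Subgroup.centralizer (S : Set Ω)) (hg : g ∈ S) :
    Commute g z := Subgroup.mem_centralizer_iff.mp hz.2 g hg

variable [Finite S] [hp : Fact p.Prime]

theorem Setting.zS_le (h : Setting p F A) {x : Ω} (hx : x ∈ S) (hxA : x ∉ A) :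
    S ⊓ Subgroup.centralizer (S : Set Ω) ≤ A := fun z hz => by
  obtain ⟨hzS, hzc⟩ := mem_zS.mp hz
  exact (h.data hx hxA).center_le hzc

theorem Setting.mem_zS_of_commute (h : Setting p F A) {a x : Ω} (ha : a ∈ A) (hx : x ∈ S)
    (hxA : x ∉ A) (hc : Commute a x) : a ∈ S ⊓ Subgroup.centralizer (S : Set Ω) :=
  mem_zS.mpr ⟨h.hAS ha, ((h.data hx hxA).mem_center_iff (a := ⟨a, h.hAS ha⟩) ha).mpr (Subtype.ext hc)⟩

theorem Setting.conj_mem (h : Setting p F A) {a x : Ω} (ha : a ∈ A) (hx : x ∈ S) :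
    x * a * x⁻¹ ∈ A := by
  have hn : (A.subgroupOf S).Normal := PGroup.normal_of_index_eq h.hS h.hAi
  exact hn.conj_mem ⟨a, h.hAS ha⟩ ha ⟨x, hx⟩

theorem Setting.comm_mem (h : Setting p F A) {a x : Ω} (ha : a ∈ A) (hx : x ∈ S) : ⁅a, x⁆ ∈ A := by
  rw [commutatorElement_def, mul_assoc, mul_assoc]
  have := h.conj_mem (inv_mem ha) hx
  rw [mul_assoc] at this
  exact mul_mem ha this

theorem Setting.exists_pow (h : Setting p F A) {g x : Ω} (hg : g ∈ S) (hx : x ∈ S) (hxA : x ∉ A) :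
    ∃ i : ℕ, (x ^ i)⁻¹ * g ∈ A := (h.data hx hxA).exists_pow ⟨g, hg⟩

theorem Setting.pow_p_mem (h : Setting p F A) {x : Ω} (hx : x ∈ S) : x ^ p ∈ A := by
  haveI := PGroup.normal_of_index_eq h.hS h.hAi
  have := Subgroup.pow_index_mem (A.subgroupOf S) ⟨x, hx⟩
  rwa [h.hAi] at this

theorem Setting.pow_p_mem_zS (h : Setting p F A) {x : Ω} (hx : x ∈ S) (hxA : x ∉ A) :
    x ^ p ∈ S ⊓ Subgroup.centralizer (S : Set Ω) :=
  h.mem_zS_of_commute (h.pow_p_mem hx) hx hxA ((Commute.refl x).pow_left p)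

theorem Setting.mem_zTwo (h : Setting p F A) {a x : Ω} (ha : a ∈ A) (hx : x ∈ S) (hxA : x ∉ A) :
    a ∈ (Subgroup.upperCentralSeries ↥S 2).map S.subtype ↔
      ⁅a, x⁆ ∈ S ⊓ Subgroup.centralizer (S : Set Ω) := by
  have key := (h.data hx hxA).mem_upperTwo (a := ⟨a, h.hAS ha⟩) ha
  constructor
  · rintro ⟨⟨b, hb⟩, hb2, rfl⟩
    exact mem_zS.mpr ⟨(⁅(⟨b, hb⟩ : S), (⟨x, hx⟩ : S)⁆).2, key.mp hb2⟩
  · intro hc
    obtain ⟨_, hcc⟩ := mem_zS.mp hc
    exact ⟨⟨a, h.hAS ha⟩, key.mpr hcc, rfl⟩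

theorem Setting.comm_mul (h : Setting p F A) {a b x : Ω} (ha : a ∈ A) (hb : b ∈ A) (hx : x ∈ S) :
    ⁅a * b, x⁆ = ⁅a, x⁆ * ⁅b, x⁆ := by
  have h1 : a * ⁅b, x⁆ = ⁅b, x⁆ * a := h.commute ha (h.comm_mem hb hx)
  calc ⁅a * b, x⁆ = a * ⁅b, x⁆ * a⁻¹ * ⁅a, x⁆ := by simp [commutatorElement_def, mul_assoc]
    _ = ⁅b, x⁆ * ⁅a, x⁆ := by rw [h1, mul_inv_cancel_right]
    _ = _ := h.commute (h.comm_mem hb hx) (h.comm_mem ha hx)

theorem Setting.comm_pow (h : Setting p F A) {a x : Ω} (ha : a ∈ A) (hx : x ∈ S) (n : ℕ) :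
    ⁅a ^ n, x⁆ = ⁅a, x⁆ ^ n := by
  induction n with
  | zero => simp
  | succ n ih => rw [pow_succ, h.comm_mul (pow_mem ha n) ha hx, ih, pow_succ]

theorem Setting.comm_inv_mul (h : Setting p F A) {a b x : Ω} (ha : a ∈ A) (hb : b ∈ A) (hx : x ∈ S) :
    ⁅a⁻¹ * b, x⁆ = ⁅a, x⁆⁻¹ * ⁅b, x⁆ := by
  have h1 := h.comm_mul ha (mul_mem (inv_mem ha) hb) hx
  rw [mul_inv_cancel_left] at h1
  rw [h1, inv_mul_cancel_left]

variable (S A) in
/-- A generator of an essential subgroup outside `A`, with its intersection with `A`. -/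
structure Gen (P : Subgroup Ω) (x : Ω) : Prop where
  memP : x ∈ P
  memS : x ∈ S
  not_mem : x ∉ A
  comm : ∀ w ∈ P, w ∈ A → ⁅w, x⁆ ∈ S ⊓ Subgroup.centralizer (S : Set Ω)
  zle : S ⊓ Subgroup.centralizer (S : Set Ω) ≤ P
  gen : ∀ g ∈ P, ∃ i : ℕ, (x ^ i)⁻¹ * g ∈ P ∧ (x ^ i)⁻¹ * g ∈ A
  dich : ((∀ a ∈ P, ∀ b ∈ P, Commute a b) ∧ ∀ w ∈ P, w ∈ A → w ∈ S ⊓ Subgroup.centralizer (S : Set Ω)) ∨
    ((∀ a ∈ A, a ∈ (Subgroup.upperCentralSeries ↥S 2).map S.subtype → a ∈ P) ∧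
      ∃ w ∈ P, w ∈ A ∧ w ∉ S ⊓ Subgroup.centralizer (S : Set Ω) ∧
        ∀ v ∈ P, v ∈ A → ∃ i : ℕ, (w ^ i)⁻¹ * v ∈ S ⊓ Subgroup.centralizer (S : Set Ω))

theorem Setting.zS_le_of_ess (h : Setting p F A) (hP : F.IsEssential p P) :
    S ⊓ Subgroup.centralizer (S : Set Ω) ≤ P := fun z hz =>
  hP.1.2 P (isConj_refl F hP.1.1) (mem_centralizerIn.2
    ⟨hz.1, fun y hy => (commute_zS hz (hP.1.1 hy)).symm.eq⟩)

theorem Setting.exists_gen (h : Setting p F A) (hP : F.IsEssential p P) (hPA : P ≠ A) :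
    ∃ x, Gen S A P x := by
  have hPS := hP.1.1
  haveI := finite_of_le hPS
  haveI := finite_of_le h.hAS
  have hcen := hP.1.2 P (isConj_refl F hPS)
  obtain ⟨x₀, hx₀, hx₀A⟩ : ∃ x ∈ P, x ∉ A := by
    by_contra hle
    push Not at hle
    exact hPA (le_antisymm hle fun a ha => hcen (mem_centralizerIn.2
      ⟨h.hAS ha, fun y hy => (h.commute ha (hle y hy)).eq⟩))
  have hgen : ∀ x ∈ P, x ∉ A → ∀ g ∈ P, ∃ i : ℕ, (x ^ i)⁻¹ * g ∈ P ∧ (x ^ i)⁻¹ * g ∈ A :=
    fun x hx hxA g hg => by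
      obtain ⟨i, hi⟩ := h.exists_pow (hPS hg) (hPS hx) hxA
      exact ⟨i, mul_mem (inv_mem (pow_mem hx i)) hg, hi⟩
  by_cases hab : ∀ a ∈ P, ∀ b ∈ P, Commute a b
  · refine ⟨x₀, hx₀, hPS hx₀, hx₀A, fun w hw _ => ?_, h.zS_le_of_ess hP, hgen x₀ hx₀ hx₀A,
      Or.inl ⟨hab, fun w hw hwA => h.mem_zS_of_commute hwA (hPS hx₀) hx₀A (hab w hw x₀ hx₀)⟩⟩
    rw [commutatorElement_eq_one_iff_commute.mpr (hab w hw x₀ hx₀)]
    exact one_mem _
  -- the abelian subgroup `P ∩ A` is moved by some automorphism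
  set W := A.subgroupOf P with hW
  obtain ⟨α, hα, hmove⟩ : ∃ α ∈ F.autGroup P, ∃ w ∈ W, α w ∉ W := by
    by_contra hinv
    push Not at hinv
    obtain ⟨g, hg, hgP⟩ := SetLike.exists_of_lt
      (lt_normalizerIn h.hS (RankTwo.basic h.hS h.hF hP).1)
    obtain ⟨i, hi⟩ := h.exists_pow hg.1 (hPS hx₀) hx₀A
    set n := (x₀ ^ i)⁻¹ * g with hn
    have hnN : n ∈ normalizerIn S P := mul_mem (inv_mem (pow_mem
      (show x₀ ∈ normalizerIn S P from ⟨hPS hx₀, Subgroup.le_normalizer hx₀⟩) i)) hg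
    have hnP : n ∉ P := fun hnP => hgP (by
      have := mul_mem (pow_mem hx₀ i) hnP
      rwa [hn, mul_inv_cancel_left] at this)
    let D : ℕ → Subgroup Ω := fun j => if j = 0 then ⊥ else if j = 1 then P ⊓ A else P
    have hmem := mem_inn_of_stabilizes (D := D) (n := 2) h.hS (isRadical_of_isEssential h.hS hP)
      rfl rfl ?_ (α := (RankTwo.cA F hPS ⟨n, hnN⟩ : MulAut P)) (RankTwo.cA F hPS ⟨n, hnN⟩).2 ?_
    · exact hnP (mem_of_conjAut_mem_inn hcen hPS hnN.1 (fun y => RankTwo.coe_cA hPS ⟨n, hnN⟩ y) hmem)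
    · intro a ha j hj y hy
      interval_cases j
      · have : y = 1 := Subtype.ext (Subgroup.mem_bot.mp hy)
        simp [D, this]
      · exact ⟨(a y).2, hinv a ha y hy.2⟩
      · exact (a y).2
    · intro j hj y hy
      have hny : n * (y : Ω) * n⁻¹ ∈ P := ((RankTwo.cA F hPS ⟨n, hnN⟩ : MulAut P) y).2
      interval_cases j
      · show (y : Ω)⁻¹ * (n * y * n⁻¹) ∈ (⊥ : Subgroup Ω)
        rw [Subgroup.mem_bot, (h.commute hi hy.2).eq, mul_inv_cancel_right, inv_mul_cancel]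
      · refine ⟨P.mul_mem (P.inv_mem y.2) hny, ?_⟩
        show (y : Ω)⁻¹ * (n * y * n⁻¹) ∈ A
        rw [show (y : Ω)⁻¹ * (n * y * n⁻¹) = ((y : Ω)⁻¹ * n * ((y : Ω)⁻¹)⁻¹) * n⁻¹ by group]
        exact mul_mem (h.conj_mem hi (inv_mem (hPS y.2))) (inv_mem hi)
  obtain ⟨w, hw, hwα⟩ := hmove
  set x := ((α w : P) : Ω) with hxdef
  have hxA : x ∉ A := hwα
  have hxP : x ∈ P := (α w).2
  -- elements commuting with the image of `P ∩ A`
  have hWn : W.Normal := ⟨fun a ha g => h.conj_mem ha (hPS g.2)⟩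
  haveI := hWn
  have hW2n : (W.map α.toMonoidHom).Normal := hWn.map _ α.surjective
  have hmeetZ : ∀ v : P, v ∈ W → v ∈ W.map α.toMonoidHom →
      (v : Ω) ∈ S ⊓ Subgroup.centralizer (S : Set Ω) := by
    rintro v hv ⟨v', hv', rfl⟩
    refine h.mem_zS_of_commute hv (hPS hxP) hxA ?_
    have hc : Commute v' w := Subtype.ext (h.commute hv' hw)
    exact congrArg (fun t : P => (t : Ω)) (hc.map α.toMonoidHom).eq
  have hcomm : ∀ v ∈ P, v ∈ A → ⁅v, x⁆ ∈ S ⊓ Subgroup.centralizer (S : Set Ω) := by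
    intro v hvP hvA
    have h1 : ⁅(⟨v, hvP⟩ : P), α w⁆ ∈ W ⊓ W.map α.toMonoidHom :=
      Subgroup.commutator_le_inf W (W.map α.toMonoidHom)
        (Subgroup.commutator_mem_commutator hvA ⟨w, hw, rfl⟩)
    exact hmeetZ _ h1.1 h1.2
  refine ⟨x, hxP, hPS hxP, hxA, hcomm, h.zS_le_of_ess hP, hgen x hxP hxA, Or.inr ⟨?_, ?_⟩⟩
  · -- elements of the second centre normalize and stabilize
    intro a ha haZ
    have hax := (h.mem_zTwo ha (hPS hxP) hxA).mp haZ
    have hconj : ∀ y ∈ P, y⁻¹ * (a * y * a⁻¹) ∈ S ⊓ Subgroup.centralizer (S : Set Ω) := by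
      intro y hy
      obtain ⟨i, hiP, hiA⟩ := hgen x hxP hxA y hy
      set v := (x ^ i)⁻¹ * y with hv
      have hy' : y = x ^ i * v := (mul_inv_cancel_left _ _).symm
      have hpow : ∀ k : ℕ, ∃ z ∈ S ⊓ Subgroup.centralizer (S : Set Ω), a * x ^ k * a⁻¹ = x ^ k * z := by
        intro k
        induction k with
        | zero => exact ⟨1, one_mem _, by simp⟩
        | succ k ih =>
          obtain ⟨z, hz, he⟩ := ih
          refine ⟨z * ⁅a, x⁆, mul_mem hz hax, ?_⟩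
          have h1 : a * x * a⁻¹ = ⁅a, x⁆ * x := by simp [commutatorElement_def]
          calc a * x ^ (k + 1) * a⁻¹ = (a * x ^ k * a⁻¹) * (a * x * a⁻¹) := by rw [pow_succ]; group
            _ = x ^ k * z * (⁅a, x⁆ * x) := by rw [he, h1]
            _ = x ^ k * (z * ⁅a, x⁆ * x) := by group
            _ = x ^ k * (x * (z * ⁅a, x⁆)) := by
              rw [(commute_zS (mul_mem hz hax) (hPS hxP)).eq]
            _ = _ := by rw [pow_succ, mul_assoc]
      obtain ⟨z, hz, he⟩ := hpow i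
      have h2 : a * y * a⁻¹ = y * z := by
        calc a * y * a⁻¹ = (a * x ^ i * a⁻¹) * (a * v * a⁻¹) := by rw [hy']; group
          _ = x ^ i * z * v := by rw [he, (h.commute ha hiA).eq, mul_inv_cancel_right]
          _ = x ^ i * (v * z) := by rw [mul_assoc, (commute_zS hz (hPS hiP)).eq]
          _ = _ := by rw [← mul_assoc, ← hy']
      rw [h2, inv_mul_cancel_left]
      exact hz
    have hnorm : a ∈ Subgroup.normalizer (P : Set Ω) := by
      refine Subgroup.mem_normalizer_fintype fun y hy => ?_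
      have := mul_mem hy (h.zS_le_of_ess hP (hconj y hy))
      rwa [mul_inv_cancel_left] at this
    have hanN : a ∈ normalizerIn S P := ⟨h.hAS ha, hnorm⟩
    let D : ℕ → Subgroup Ω := fun j => if j = 0 then ⊥ else if j = 1 then
      S ⊓ Subgroup.centralizer (S : Set Ω) else P
    have hmem := mem_inn_of_stabilizes (D := D) (n := 2) h.hS (isRadical_of_isEssential h.hS hP)
      rfl rfl ?_ (α := (RankTwo.cA F hPS ⟨a, hanN⟩ : MulAut P)) (RankTwo.cA F hPS ⟨a, hanN⟩).2 ?_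
    · exact mem_of_conjAut_mem_inn hcen hPS hanN.1 (fun y => RankTwo.coe_cA hPS ⟨a, hanN⟩ y) hmem
    · intro b _ j hj y hy
      interval_cases j
      · have : y = 1 := Subtype.ext (Subgroup.mem_bot.mp hy)
        simp [D, this]
      · -- the centre of `P` is `Z(S)`
        have hyc : y ∈ Subgroup.center P := Subgroup.mem_center_iff.mpr fun q =>
          Subtype.ext (commute_zS hy (hPS q.2)).eq
        have hbyc : b y ∈ Subgroup.center P := by
          rw [← RankTwo.map_center_eq b]; exact ⟨y, hyc, rfl⟩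
        have hbyA : ((b y : P) : Ω) ∈ A := by
          by_contra hn
          apply hab
          intro u hu v hv
          obtain ⟨i, -, hiA⟩ := hgen _ (b y).2 hn u hu
          obtain ⟨k, -, hkA⟩ := hgen _ (b y).2 hn v hv
          have hu' : u = ((b y : P) : Ω) ^ i * ((((b y : P) : Ω) ^ i)⁻¹ * u) := (mul_inv_cancel_left _ _).symm
          have hcu : ∀ q ∈ P, Commute ((b y : P) : Ω) q := fun q hq =>
            (congrArg (fun t : P => (t : Ω)) (Subgroup.mem_center_iff.mp hbyc ⟨q, hq⟩)).symm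
          have c1 := (hcu v hv).pow_left i
          have c2 : Commute ((((b y : P) : Ω) ^ i)⁻¹ * u) v := by
            have hv' : v = ((b y : P) : Ω) ^ k * ((((b y : P) : Ω) ^ k)⁻¹ * v) :=
              (mul_inv_cancel_left _ _).symm
            rw [hv']
            exact (((hcu _ (mul_mem (inv_mem (pow_mem (b y).2 i)) hu)).pow_left k).symm).mul_right
              (h.commute hiA hkA)
          rw [hu']
          exact c1.mul_left c2
        exact h.mem_zS_of_commute hbyA (hPS hxP) hxA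
          (congrArg (fun t : P => (t : Ω)) (Subgroup.mem_center_iff.mp hbyc ⟨x, hxP⟩)).symm
      · exact (b y).2
    · intro j hj y hy
      interval_cases j
      · show (y : Ω)⁻¹ * (a * y * a⁻¹) ∈ (⊥ : Subgroup Ω)
        rw [Subgroup.mem_bot, (commute_zS hy (h.hAS ha)).eq, mul_inv_cancel_right, inv_mul_cancel]
      · exact hconj y y.2
  · -- `P ∩ A` has index at most `p` over the centre
    have hidx : W.index = p := by
      haveI := PGroup.normal_of_index_eq h.hS h.hAi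
      have h1 := Subgroup.relIndex_dvd_index_of_normal (A.subgroupOf S) (P.subgroupOf S)
      have h2 : (A.subgroupOf S).relIndex (P.subgroupOf S) = W.index := by
        rw [Subgroup.relIndex_subgroupOf hPS]; rfl
      rw [h2, h.hAi] at h1
      refine ((Nat.dvd_prime hp.out).mp h1).resolve_left fun h1 => hx₀A ?_
      exact ((Subgroup.index_eq_one.mp h1).symm ▸ Subgroup.mem_top (⟨x₀, hx₀⟩ : P) : (⟨x₀, hx₀⟩ : P) ∈ W)
    obtain ⟨w₁, hw₁W, hw₁Z⟩ : ∃ w₁ : P, w₁ ∈ W ∧ (w₁ : Ω) ∉ S ⊓ Subgroup.centralizer (S : Set Ω) := by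
      by_contra hall
      push Not at hall
      apply hab
      intro u hu v hv
      obtain ⟨i, hiP, hiA⟩ := hgen x hxP hxA u hu
      obtain ⟨k, hkP, hkA⟩ := hgen x hxP hxA v hv
      have hz1 := hall ⟨_, hiP⟩ hiA
      have hz2 := hall ⟨_, hkP⟩ hkA
      rw [← mul_inv_cancel_left (x ^ i) u, ← mul_inv_cancel_left (x ^ k) v]
      exact (((Commute.refl x).pow_pow i k).mul_right (commute_zS hz2 (pow_mem (hPS hxP) i))).mul_left
        ((commute_zS hz1 (mul_mem (pow_mem (hPS hxP) k) hz2.1)).symm)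
    refine ⟨w₁, w₁.2, hw₁W, hw₁Z, fun v hvP hvA => ?_⟩
    have hidx2 : (W.map α.toMonoidHom).index = p := by
      rw [Subgroup.index_map_of_bijective (f := α.toMonoidHom) α.bijective, hidx]
    haveI := hW2n
    have hcyc : (W.map α.toMonoidHom) ⊔ Subgroup.zpowers w₁ = ⊤ :=
      PGroup.sup_zpowers_eq_top_of_index hidx2 fun hm => hw₁Z (hmeetZ _ hw₁W hm)
    obtain ⟨u, hu, q, hq, huq⟩ := Subgroup.mem_sup_of_normal_left.mp
      (hcyc ▸ Subgroup.mem_top (⟨v, hvP⟩ : P))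
    obtain ⟨i, rfl⟩ := mem_powers_iff_mem_zpowers.mpr hq
    have huW : u ∈ W := by
      have : u = ⟨v, hvP⟩ * (w₁ ^ i)⁻¹ := eq_mul_inv_of_mul_eq huq
      rw [this]
      exact mul_mem hvA (inv_mem (pow_mem hw₁W i))
    refine ⟨i, ?_⟩
    have hz := hmeetZ u huW hu
    have hv' : v = (u : Ω) * (w₁ : Ω) ^ i := by simpa using (congrArg Subtype.val huq).symm
    rw [hv', (commute_zS hz (pow_mem (hPS w₁.2) i)).symm.eq, inv_mul_cancel_left]
    exact hz

theorem index_eq_prime_of_gen {H N : Subgroup Ω} [Finite N] (hN : IsPGroup p N) (hHN : H ≤ N) {n : Ω}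
    (hn : n ∈ N) (hnH : n ∉ H) (hnp : n ^ p ∈ H) (hnorm : n ∈ Subgroup.normalizer (H : Set Ω))
    (hgen : ∀ g ∈ N, ∃ i : ℕ, (n ^ i)⁻¹ * g ∈ H) : (H.subgroupOf N).index = p := by
  haveI : Fact p.Prime := hp
  haveI := finite_of_le hHN
  have hlt : (H.subgroupOf N).index ≠ 1 := fun h1 => by
    rw [Subgroup.index_eq_one, Subgroup.subgroupOf_eq_top] at h1
    exact hnH (h1 hn)
  have hle : Nat.card N ≤ p * Nat.card H := by
    rw [← Nat.card_fin p, ← Nat.card_prod]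
    refine Nat.card_le_card_of_surjective (fun t : Fin p × H =>
      (⟨n ^ (t.1 : ℕ) * (t.2 : Ω), mul_mem (pow_mem hn _) (hHN t.2.2)⟩ : N)) ?_
    rintro ⟨g, hg⟩
    obtain ⟨i, hi⟩ := hgen g hg
    refine ⟨(⟨i % p, Nat.mod_lt _ hp.out.pos⟩,
      ⟨(n ^ p) ^ (i / p) * ((n ^ i)⁻¹ * g), mul_mem (pow_mem hnp _) hi⟩), Subtype.ext ?_⟩
    show n ^ (i % p) * ((n ^ p) ^ (i / p) * ((n ^ i)⁻¹ * g)) = g
    rw [← pow_mul, ← mul_assoc, ← pow_add, Nat.mod_add_div, mul_inv_cancel_left]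
  have h1 := (H.subgroupOf N).card_mul_index
  rw [Nat.card_congr (Subgroup.subgroupOfEquivOfLe hHN).toEquiv] at h1
  rw [← h1, mul_comm p] at hle
  obtain ⟨j, hj⟩ := hN.index (H.subgroupOf N)
  have h2 := Nat.le_of_mul_le_mul_left hle Nat.card_pos
  rw [hj] at h2 hlt ⊢
  have hj1 : j ≤ 1 := (Nat.pow_le_pow_iff_right hp.out.one_lt).mp (by rwa [pow_one])
  rcases Nat.le_one_iff_eq_zero_or_eq_one.mp hj1 with rfl | rfl
  · exact absurd (pow_zero p) hlt
  · exact pow_one p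

/-- The normalizer of an essential subgroup different from `A`, and the second centre. -/
theorem Setting.structure_of_gen (h : Setting p F A) (hP : F.IsEssential p P) {x : Ω}
    (hx : Gen S A P x) :
    ∃ n ∈ A, n ∈ normalizerIn S P ∧ n ∉ P ∧ n ^ p ∈ P ∧ n ∈ Subgroup.normalizer (P : Set Ω) ∧
      ∀ g ∈ A, ⁅g, x⁆ ∈ P → ∃ i : ℕ, (n ^ i)⁻¹ * g ∈ P := by
  have hPS := hP.1.1
  haveI := finite_of_le hPS
  have hcen := hP.1.2 P (isConj_refl F hPS)
  -- elements of `A` whose commutator with `x` is in `P` normalize `P`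
  have hnormal : ∀ a ∈ A, ⁅a, x⁆ ∈ P → a ∈ Subgroup.normalizer (P : Set Ω) := by
    intro a ha hax
    refine Subgroup.mem_normalizer_fintype fun y hy => ?_
    obtain ⟨i, hiP, hiA⟩ := hx.gen y hy
    have h1 : a * x * a⁻¹ ∈ P := by
      rw [show a * x * a⁻¹ = ⁅a, x⁆ * x by simp [commutatorElement_def]]
      exact mul_mem hax hx.memP
    have h2 : a * y * a⁻¹ = (a * x * a⁻¹) ^ i * ((x ^ i)⁻¹ * y) := by
      rw [conj_pow, mul_assoc (a * x ^ i), ← mul_inv_cancel_right ((x ^ i)⁻¹ * y) a,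
        ← (h.commute ha hiA).eq]
      group
    rw [h2]
    exact mul_mem (pow_mem h1 i) hiP
  obtain ⟨g, hg, hgP⟩ := SetLike.exists_of_lt (lt_normalizerIn h.hS (RankTwo.basic h.hS h.hF hP).1)
  obtain ⟨i, hi⟩ := h.exists_pow hg.1 hx.memS hx.not_mem
  set n := (x ^ i)⁻¹ * g with hn
  have hxN : x ∈ normalizerIn S P := ⟨hx.memS, Subgroup.le_normalizer hx.memP⟩
  have hnN : n ∈ normalizerIn S P := mul_mem (inv_mem (pow_mem hxN i)) hg
  have hnP : n ∉ P := fun hnP => hgP (by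
    have := mul_mem (pow_mem hx.memP i) hnP
    rwa [hn, mul_inv_cancel_left] at this)
  have hnA : n ∈ A := hi
  have hnx : ⁅n, x⁆ ∈ P := by
    rw [show ⁅n, x⁆ = (n * x * n⁻¹) * x⁻¹ by simp [commutatorElement_def]]
    exact mul_mem ((Subgroup.mem_normalizer_iff.mp hnN.2 x).mp hx.memP) (inv_mem hx.memP)
  have hnxA : ⁅n, x⁆ ∈ A := h.comm_mem hnA hx.memS
  have hzTwo : ∀ a ∈ A, a ∈ P → ⁅a, x⁆ ∈ S ⊓ Subgroup.centralizer (S : Set Ω) := fun a ha haP =>
    hx.comm a haP ha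
  rcases hx.dich with ⟨hab, hWZ⟩ | ⟨hZtwo, w, hwP, hwA, hwZ, hwgen⟩
  · -- the abelian case
    have hc : ∀ a ∈ A, ⁅a, x⁆ ∈ P → ⁅a, x⁆ ∈ S ⊓ Subgroup.centralizer (S : Set Ω) := fun a ha hax =>
      hWZ _ hax (h.comm_mem ha hx.memS)
    have hpow : ∀ a ∈ A, ⁅a, x⁆ ∈ P → ⁅a, x⁆ ^ p = 1 := by
      intro a ha hax
      have hcz := hc a ha hax
      have h1 : (a * x * a⁻¹) ^ p = x ^ p := by
        rw [conj_pow, (h.commute ha (h.pow_p_mem hx.memS)).eq, mul_inv_cancel_right]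
      rw [show a * x * a⁻¹ = ⁅a, x⁆ * x by simp [commutatorElement_def],
        (commute_zS hcz hx.memS).symm.mul_pow, mul_eq_right] at h1
      exact h1
    have hap : ∀ a ∈ A, ⁅a, x⁆ ∈ P → a ^ p ∈ P := fun a ha hax =>
      hx.zle (h.mem_zS_of_commute (pow_mem ha p) hx.memS hx.not_mem
        (commutatorElement_eq_one_iff_commute.mp (by rw [h.comm_pow ha hx.memS, hpow a ha hax])))
    refine ⟨n, hnA, hnN, hnP, hap n hnA hnx, hnN.2, fun a ha hax => ?_⟩
    by_cases hmem : ⁅a, x⁆ ∈ Subgroup.zpowers ⁅n, x⁆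
    · obtain ⟨k, hk⟩ : ∃ k : ℕ, ⁅n, x⁆ ^ k = ⁅a, x⁆ :=
        ((isOfFinOrder_iff_pow_eq_one.mpr ⟨p, hp.out.pos, hpow n hnA hnx⟩).mem_powers_iff_mem_zpowers.mpr
          hmem)
      refine ⟨k, hx.zle (h.mem_zS_of_commute (mul_mem (inv_mem (pow_mem hnA k)) ha) hx.memS hx.not_mem
        (commutatorElement_eq_one_iff_commute.mp ?_))⟩
      rw [h.comm_inv_mul (pow_mem hnA k) ha hx.memS, h.comm_pow hnA hx.memS, hk, inv_mul_cancel]
    exfalso
    have habP : ∀ u v : P, u * v = v * u := fun u v => Subtype.ext (hab u u.2 v v.2).eq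
    let K : Set Ω := {b | b ∈ A ∧ ⁅b, x⁆ ∈ P}
    refine not_essential_of_common_axis h.hS h.hF hP habP
      ((S ⊓ Subgroup.centralizer (S : Set Ω)).subgroupOf P) K (fun b hb => h.hAS hb.1)
      (fun b hb => hnormal b hb.1 hb.2) (fun b hb => hap b hb.1 hb.2)
      (fun b hb v hv => (commute_zS hv (h.hAS hb.1)).eq) fun α _ => ?_
    set H := (S ⊓ Subgroup.centralizer (S : Set Ω)).subgroupOf P with hH
    let C : Subgroup P :=
      { carrier := {c | ∃ b ∈ A, ⁅b, x⁆ ∈ P ∧ (c : Ω) = ⁅b, x⁆}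
        one_mem' := ⟨1, one_mem _, by simp, by simp⟩
        mul_mem' := by
          rintro u v ⟨b, hb, hbP, hu⟩ ⟨b', hb', hbP', hv⟩
          refine ⟨b * b', mul_mem hb hb', ?_, ?_⟩
          · rw [h.comm_mul hb hb' hx.memS]; exact mul_mem hbP hbP'
          · rw [h.comm_mul hb hb' hx.memS, Subgroup.coe_mul, hu, hv]
        inv_mem' := by
          rintro u ⟨b, hb, hbP, hu⟩
          have h1 := h.comm_inv_mul hb (one_mem A) hx.memS
          rw [mul_one, commutatorElement_one_left, mul_one] at h1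
          exact ⟨b⁻¹, inv_mem hb, by rw [h1]; exact inv_mem hbP,
            by rw [h1, InvMemClass.coe_inv, hu]⟩ }
    obtain ⟨d, hd, hd'⟩ : ∃ d ∈ C, d ∈ H.map α.toMonoidHom ∧ d ≠ 1 := by
      by_contra hdis
      push Not at hdis
      -- `H` has index at most `p` and `C` has order more than `p`
      have hHp : H.index ≤ p := by
        rw [Subgroup.index_eq_card]
        refine le_trans (Nat.card_le_card_of_surjective (fun i : Fin p =>
          (QuotientGroup.mk ((⟨x, hx.memP⟩ : P) ^ (i : ℕ)) : P ⧸ H)) ?_) (le_of_eq (Nat.card_fin p))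
        intro v
        obtain ⟨y, rfl⟩ := QuotientGroup.mk_surjective v
        obtain ⟨k, hkP, hkA⟩ := hx.gen y y.2
        refine ⟨⟨k % p, Nat.mod_lt _ hp.out.pos⟩, QuotientGroup.eq.mpr ?_⟩
        show ((((⟨x, hx.memP⟩ : P) ^ (k % p))⁻¹ * y : P) : Ω) ∈ S ⊓ Subgroup.centralizer (S : Set Ω)
        rw [Subgroup.coe_mul, InvMemClass.coe_inv, SubgroupClass.coe_pow]
        have h2 : (x ^ (k % p))⁻¹ * (y : Ω) = (x ^ p) ^ (k / p) * ((x ^ k)⁻¹ * y) := by
          rw [← pow_mul, ← mul_assoc]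
          congr 1
          rw [eq_mul_inv_iff_mul_eq, inv_mul_eq_iff_eq_mul, ← pow_add, Nat.mod_add_div]
        show (x ^ (k % p))⁻¹ * (y : Ω) ∈ _
        rw [h2]
        exact mul_mem (pow_mem (h.pow_p_mem_zS hx.memS hx.not_mem) _) (hWZ _ hkP hkA)
      have hCH : C ⊓ H.map α.toMonoidHom = ⊥ := eq_bot_iff.mpr fun d hd =>
        Subgroup.mem_bot.mpr (hdis d hd.1 hd.2)
      have hcard : Nat.card C ≤ p := by
        rw [← Subgroup.relIndex_bot_left C, ← hCH, Subgroup.inf_relIndex_left]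
        refine le_trans (Nat.le_of_dvd (Nat.pos_of_ne_zero Subgroup.index_ne_zero_of_finite) ?_)
          ((Subgroup.index_map_of_bijective (f := α.toMonoidHom) α.bijective H).le.trans hHp)
        haveI : (H.map α.toMonoidHom).Normal := ⟨fun u hu v => by
          rwa [habP v u, mul_inv_cancel_right]⟩
        exact Subgroup.relIndex_dvd_index_of_normal _ _
      have hnC : (⟨⁅n, x⁆, hnx⟩ : P) ∈ C := ⟨n, hnA, hnx, rfl⟩
      have haC : (⟨⁅a, x⁆, hax⟩ : P) ∈ C := ⟨a, ha, hax, rfl⟩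
      have hn1 : ⁅n, x⁆ ≠ 1 := fun h1 => hnP (hx.zle (h.mem_zS_of_commute hnA hx.memS hx.not_mem
        (commutatorElement_eq_one_iff_commute.mp h1)))
      have hC : Subgroup.zpowers (⟨⁅n, x⁆, hnx⟩ : P) = C :=
        Subgroup.eq_of_le_of_card_ge (Subgroup.zpowers_le.mpr hnC) (by
          rw [Nat.card_zpowers, orderOf_eq_prime (p := p) (Subtype.ext (by
              rw [SubgroupClass.coe_pow]; exact hpow n hnA hnx))
            (fun h1 => hn1 (congrArg (fun t : P => (t : Ω)) h1 :))]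
          exact hcard)
      obtain ⟨k, hk⟩ := hC.ge haC
      exact hmem ⟨k, by simpa using congrArg (fun t : P => (t : Ω)) hk⟩
    obtain ⟨⟨b, hb, hbP, hdb⟩, ⟨⟨d₀, hd₀, hd₀d⟩, hd1⟩⟩ := And.intro hd hd'
    refine ⟨b, ⟨hb, hbP⟩, fun hbP' => hd1 (Subtype.ext ?_), d, ?_, ⟨d₀, hd₀, hd₀d⟩, fun v => ?_⟩
    · rw [hdb, OneMemClass.coe_one, commutatorElement_eq_one_iff_commute]
      exact hab b hbP' x hx.memP
    · show (d : Ω) ∈ S ⊓ Subgroup.centralizer (S : Set Ω)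
      rw [hdb]; exact hc b hb hbP
    · obtain ⟨k, hkP, hkA⟩ := hx.gen v v.2
      refine ⟨k, ?_⟩
      have hz := hc b hb hbP
      have h1 : b * x ^ k * b⁻¹ = x ^ k * ⁅b, x⁆ ^ k := by
        rw [← conj_pow, show b * x * b⁻¹ = ⁅b, x⁆ * x by simp [commutatorElement_def],
          (commute_zS hz hx.memS).symm.mul_pow,
          ((commute_zS hz hx.memS).pow_pow k k).eq]
      calc b * (v : Ω) * b⁻¹ = (b * x ^ k * b⁻¹) * (b * ((x ^ k)⁻¹ * v) * b⁻¹) := by group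
        _ = x ^ k * ⁅b, x⁆ ^ k * ((x ^ k)⁻¹ * v) := by
          rw [h1, (h.commute hb hkA).eq, mul_inv_cancel_right]
        _ = x ^ k * (((x ^ k)⁻¹ * v) * ⁅b, x⁆ ^ k) := by
          rw [mul_assoc, ((commute_zS hz (hPS hkP)).pow_right k).eq]
        _ = _ := by rw [hdb, ← mul_assoc, mul_inv_cancel_left, zpow_natCast]
  · -- the nonabelian case
    have hback : ∀ a ∈ A, ⁅a, x⁆ ∈ S ⊓ Subgroup.centralizer (S : Set Ω) → a ∈ P := fun a ha hax =>
      hZtwo a ha ((h.mem_zTwo ha hx.memS hx.not_mem).mpr hax)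
    have hwp : w ^ p ∈ S ⊓ Subgroup.centralizer (S : Set Ω) := by
      have hcz := hx.comm w hwP hwA
      refine h.mem_zS_of_commute (pow_mem hwA p) hx.memS hx.not_mem
        (commutatorElement_eq_one_iff_commute.mp ?_)
      have h1 : (w * x * w⁻¹) ^ p = x ^ p := by
        rw [conj_pow, (h.commute hwA (h.pow_p_mem hx.memS)).eq, mul_inv_cancel_right]
      rw [show w * x * w⁻¹ = ⁅w, x⁆ * x by simp [commutatorElement_def],
        (commute_zS hcz hx.memS).symm.mul_pow, mul_eq_right] at h1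
      rw [h.comm_pow hwA hx.memS, h1]
    obtain ⟨k, hk⟩ := hwgen _ hnx hnxA
    have hkp : ¬ p ∣ k := by
      rintro ⟨t, rfl⟩
      refine hnP (hback n hnA ?_)
      have := mul_mem (pow_mem hwp t) hk
      rwa [← pow_mul, mul_inv_cancel_left] at this
    obtain ⟨j, -, hj⟩ := Nat.exists_mul_mod_eq_one_of_coprime
      ((hp.out.coprime_iff_not_dvd.mpr hkp).symm) hp.out.one_lt
    have hZn : ∀ b ∈ A, ⁅b, x⁆ ∈ P → ∀ e : ℕ, ⁅b, x⁆ ^ (p * e) ∈ S ⊓ Subgroup.centralizer (S : Set Ω) := by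
      intro b hb hbP e
      obtain ⟨l, hl⟩ := hwgen _ hbP (h.comm_mem hb hx.memS)
      have hwA' : ∀ m : ℕ, w ^ m ∈ A := fun m => pow_mem hwA m
      have hc : Commute (w ^ l) ((w ^ l)⁻¹ * ⁅b, x⁆) :=
        h.commute (hwA' l) (mul_mem (inv_mem (hwA' l)) (h.comm_mem hb hx.memS))
      have h2 : ⁅b, x⁆ ^ (p * e) = (w ^ p) ^ (l * e) * ((w ^ l)⁻¹ * ⁅b, x⁆) ^ (p * e) := by
        conv_lhs => rw [← mul_inv_cancel_left (w ^ l) ⁅b, x⁆]
        rw [hc.mul_pow, ← pow_mul, ← pow_mul]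
        congr 2
        ring
      rw [h2]
      exact mul_mem (pow_mem hwp _) (pow_mem hl _)
    refine ⟨n, hnA, hnN, hnP, hback _ (pow_mem hnA p) ?_, hnN.2, fun a ha hax => ?_⟩
    · rw [h.comm_pow hnA hx.memS]
      have := hZn n hnA hnx 1
      rwa [mul_one] at this
    · obtain ⟨l, hl⟩ := hwgen _ hax (h.comm_mem ha hx.memS)
      refine ⟨j * l, hback _ (mul_mem (inv_mem (pow_mem hnA _)) ha) ?_⟩
      rw [h.comm_inv_mul (pow_mem hnA _) ha hx.memS, h.comm_pow hnA hx.memS]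
      -- both sides are congruent to a power of `w`
      set c := ⁅n, x⁆ with hcdef
      set z₁ := (w ^ k)⁻¹ * c with hz₁
      set z₂ := (w ^ l)⁻¹ * ⁅a, x⁆ with hz₂
      have hc1 : c = w ^ k * z₁ := (mul_inv_cancel_left _ _).symm
      have hc2 : ⁅a, x⁆ = w ^ l * z₂ := (mul_inv_cancel_left _ _).symm
      have hcw : Commute (w ^ k) z₁ := commute_zS hk (pow_mem (hPS hwP) k)
      have hmod : k * (j * l) = p * (k * j / p * l) + l := by
        calc k * (j * l) = (p * (k * j / p) + 1) * l := by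
              rw [← hj, Nat.div_add_mod, mul_assoc]
          _ = _ := by ring
      have h3 : (c ^ (j * l))⁻¹ * ⁅a, x⁆ =
          (z₁ ^ (j * l))⁻¹ * ((w ^ p) ^ (k * j / p * l))⁻¹ * z₂ := by
        rw [hc1, hcw.mul_pow, ← pow_mul, hmod, pow_add, pow_mul, hc2]
        group
      rw [h3]
      exact mul_mem (mul_mem (inv_mem (pow_mem hk _)) (inv_mem (pow_mem hwp _))) hl

/-- Everything about an essential subgroup different from `A`. -/
theorem Setting.main (h : Setting p F A) (hP : F.IsEssential p P) (hPA : P ≠ A) :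
    ∃ x ∈ S, x ∉ A ∧
      (P.subgroupOf (S ⊓ Subgroup.normalizer (P : Set Ω))).index = p ∧
      (Subgroup.upperCentralSeries ↥S 2).map S.subtype ≤ A ∧
      Nat.card (Subgroup.upperCentralSeries ↥S 2) = p * Nat.card (Subgroup.center ↥S) ∧
      (((∀ a ∈ P, ∀ b ∈ P, Commute a b) ∧
          P = (S ⊓ Subgroup.centralizer (S : Set Ω)) ⊔ Subgroup.zpowers x) ∨
        ((∀ z ∈ P, (∀ y ∈ P, Commute y z) → z ∈ S ⊓ Subgroup.centralizer (S : Set Ω)) ∧
          P = (Subgroup.upperCentralSeries ↥S 2).map S.subtype ⊔ Subgroup.zpowers x)) := by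
  obtain ⟨x, hx⟩ := h.exists_gen hP hPA
  obtain ⟨n, hnA, hnN, hnP, hnp, hnorm, hngen⟩ := h.structure_of_gen hP hx
  have hPS := hP.1.1
  haveI := finite_of_le (normalizerIn_le (S := S) P)
  have hidx : (P.subgroupOf (normalizerIn S P)).index = p := by
    refine index_eq_prime_of_gen (h.hS.to_le (normalizerIn_le P))
      (fun y hy => ⟨hPS hy, Subgroup.le_normalizer hy⟩) hnN hnP hnp hnorm fun g hg => ?_
    obtain ⟨i, hi⟩ := h.exists_pow hg.1 hx.memS hx.not_mem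
    have hxN : x ∈ normalizerIn S P := ⟨hx.memS, Subgroup.le_normalizer hx.memP⟩
    have hgN : (x ^ i)⁻¹ * g ∈ normalizerIn S P := mul_mem (inv_mem (pow_mem hxN i)) hg
    obtain ⟨l, hl⟩ := hngen _ hi (by
      rw [show ⁅(x ^ i)⁻¹ * g, x⁆ = ((x ^ i)⁻¹ * g * x * ((x ^ i)⁻¹ * g)⁻¹) * x⁻¹ by
        simp [commutatorElement_def]]
      exact mul_mem ((Subgroup.mem_normalizer_iff.mp hgN.2 x).mp hx.memP) (inv_mem hx.memP))
    refine ⟨l, ?_⟩
    have h1 : (n ^ l)⁻¹ * x ^ i * (n ^ l)⁻¹⁻¹ ∈ P :=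
      (Subgroup.mem_normalizer_iff.mp (inv_mem (pow_mem hnorm l)) _).mp (pow_mem hx.memP i)
    rw [show (n ^ l)⁻¹ * g = ((n ^ l)⁻¹ * x ^ i * (n ^ l)⁻¹⁻¹) * ((n ^ l)⁻¹ * ((x ^ i)⁻¹ * g)) by group]
    exact mul_mem h1 hl
  have hZA := h.zS_le hx.memS hx.not_mem
  set Z2 := (Subgroup.upperCentralSeries ↥S 2).map S.subtype with hZ2
  have hZZ2 : S ⊓ Subgroup.centralizer (S : Set Ω) ≤ Z2 := by
    rw [← map_center_eq_zS, hZ2, ← Subgroup.upperCentralSeries_one]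
    exact Subgroup.map_mono (Subgroup.upperCentralSeries_mono _ (by norm_num))
  -- a single element generates `Z₂(S) ∩ A` over the centre
  obtain ⟨v, hvA, hvZ2, hvZ, hvp, hvgen⟩ : ∃ v ∈ A, v ∈ Z2 ∧ v ∉ S ⊓ Subgroup.centralizer (S : Set Ω) ∧
      v ^ p ∈ S ⊓ Subgroup.centralizer (S : Set Ω) ∧
      ∀ g ∈ A, g ∈ Z2 → ∃ i : ℕ, (v ^ i)⁻¹ * g ∈ S ⊓ Subgroup.centralizer (S : Set Ω) := by
    rcases hx.dich with ⟨hab, hWZ⟩ | ⟨hZtwo, w, hwP, hwA, hwZ, hwgen⟩
    · have hnx : ⁅n, x⁆ ∈ P := by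
        rw [show ⁅n, x⁆ = (n * x * n⁻¹) * x⁻¹ by simp [commutatorElement_def]]
        exact mul_mem ((Subgroup.mem_normalizer_iff.mp hnorm x).mp hx.memP) (inv_mem hx.memP)
      refine ⟨n, hnA, (h.mem_zTwo hnA hx.memS hx.not_mem).mpr (hWZ _ hnx (h.comm_mem hnA hx.memS)),
        fun hz => hnP (hx.zle hz), hWZ _ hnp (pow_mem hnA p), fun g hgA hg2 => ?_⟩
      obtain ⟨i, hi⟩ := hngen g hgA (hx.zle ((h.mem_zTwo hgA hx.memS hx.not_mem).mp hg2))
      exact ⟨i, hWZ _ hi (mul_mem (inv_mem (pow_mem hnA i)) hgA)⟩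
    · have hwp : w ^ p ∈ S ⊓ Subgroup.centralizer (S : Set Ω) := by
        have hcz := hx.comm w hwP hwA
        refine h.mem_zS_of_commute (pow_mem hwA p) hx.memS hx.not_mem
          (commutatorElement_eq_one_iff_commute.mp ?_)
        have h1 : (w * x * w⁻¹) ^ p = x ^ p := by
          rw [conj_pow, (h.commute hwA (h.pow_p_mem hx.memS)).eq, mul_inv_cancel_right]
        rw [show w * x * w⁻¹ = ⁅w, x⁆ * x by simp [commutatorElement_def],
          (commute_zS hcz hx.memS).symm.mul_pow, mul_eq_right] at h1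
        rw [h.comm_pow hwA hx.memS, h1]
      exact ⟨w, hwA, (h.mem_zTwo hwA hx.memS hx.not_mem).mpr (hx.comm w hwP hwA), hwZ, hwp,
        fun g hgA hg2 => hwgen g (hZtwo g hgA hg2) hgA⟩
  haveI := finite_of_le h.hAS
  have hcardA : Nat.card ↥(A ⊓ Z2) = p * Nat.card ↥(S ⊓ Subgroup.centralizer (S : Set Ω)) := by
    haveI := finite_of_le (inf_le_left : S ⊓ Subgroup.centralizer (S : Set Ω) ≤ S)
    haveI := finite_of_le (inf_le_left.trans h.hAS : A ⊓ Z2 ≤ S)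
    have h1 := index_eq_prime_of_gen (N := A ⊓ Z2) (H := S ⊓ Subgroup.centralizer (S : Set Ω))
      (h.hS.to_le (inf_le_left.trans h.hAS)) (le_inf hZA hZZ2) (n := v) ⟨hvA, hvZ2⟩ hvZ hvp
      (Subgroup.mem_normalizer_fintype fun y hy => by
        rw [(commute_zS hy (h.hAS hvA)).eq, mul_inv_cancel_right]; exact hy)
      fun g hg => hvgen g hg.1 hg.2
    have h2 := ((S ⊓ Subgroup.centralizer (S : Set Ω)).subgroupOf (A ⊓ Z2)).card_mul_index
    rw [Nat.card_congr (Subgroup.subgroupOfEquivOfLe (le_inf hZA hZZ2)).toEquiv, h1] at h2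
    rw [← h2, mul_comm]
  have hZ2A : Z2 ≤ A := by
    intro y hy
    by_contra hyA
    have hyS : y ∈ S := Subgroup.map_subtype_le _ hy
    have hAZ2 : A ≤ Z2 := by
      intro a ha
      refine (h.mem_zTwo ha hyS hyA).mpr ?_
      obtain ⟨⟨y', hy'⟩, hy2, rfl⟩ := hy
      rw [← commutatorElement_inv]
      refine inv_mem (mem_zS.mpr ⟨(⁅(⟨y', hy'⟩ : S), (⟨a, h.hAS ha⟩ : S)⁆).2, ?_⟩)
      have := Subgroup.mem_upperCentralSeries_succ_iff.mp hy2 ⟨a, h.hAS ha⟩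
      rwa [Subgroup.upperCentralSeries_one] at this
    rw [inf_eq_left.mpr hAZ2] at hcardA
    rcases hx.dich with ⟨hab, hWZ⟩ | ⟨hZtwo, -⟩
    · apply hPA
      refine h.huniq P hPS ⟨⟨fun u v => Subtype.ext (hab u u.2 v v.2).eq⟩⟩ ?_
      haveI := finite_of_le hPS
      have hge : p * Nat.card ↥(S ⊓ Subgroup.centralizer (S : Set Ω)) ≤ Nat.card P := by
        haveI := finite_of_le (inf_le_left : S ⊓ Subgroup.centralizer (S : Set Ω) ≤ S)
        have h1 := index_eq_prime_of_gen (N := P) (H := S ⊓ Subgroup.centralizer (S : Set Ω))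
          (h.hS.to_le hPS) hx.zle hx.memP (fun hz => hx.not_mem (hZA hz))
          (h.pow_p_mem_zS hx.memS hx.not_mem)
          (Subgroup.mem_normalizer_fintype fun q hq => by
            rw [(commute_zS hq hx.memS).eq, mul_inv_cancel_right]; exact hq)
          fun g hg => by
            obtain ⟨i, hiP, hiA⟩ := hx.gen g hg
            exact ⟨i, hWZ _ hiP hiA⟩
        have h2 := ((S ⊓ Subgroup.centralizer (S : Set Ω)).subgroupOf P).card_mul_index
        rw [Nat.card_congr (Subgroup.subgroupOfEquivOfLe hx.zle).toEquiv, h1] at h2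
        rw [← h2, mul_comm]
      have h3 := (P.subgroupOf S).card_mul_index
      have h4 := (A.subgroupOf S).card_mul_index
      rw [Nat.card_congr (Subgroup.subgroupOfEquivOfLe hPS).toEquiv] at h3
      rw [Nat.card_congr (Subgroup.subgroupOfEquivOfLe h.hAS).toEquiv, h.hAi, hcardA] at h4
      have h5 : (P.subgroupOf S).index ≤ p := by
        by_contra hlt
        rw [← h3] at h4
        have := Nat.mul_lt_mul_of_le_of_lt hge (not_le.mp hlt) Nat.card_pos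
        omega
      obtain ⟨j, hj⟩ := h.hS.index (P.subgroupOf S)
      rw [hj] at h5 ⊢
      have hj1 : j ≤ 1 := (Nat.pow_le_pow_iff_right hp.out.one_lt).mp (by rwa [pow_one])
      rcases Nat.le_one_iff_eq_zero_or_eq_one.mp hj1 with rfl | rfl
      · exfalso
        rw [pow_zero, Subgroup.index_eq_one, Subgroup.subgroupOf_eq_top] at hj
        exact (RankTwo.basic h.hS h.hF hP).1.not_ge hj
      · exact pow_one p
    · refine (RankTwo.basic h.hS h.hF hP).1.not_ge fun g hg => ?_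
      obtain ⟨i, hi⟩ := h.exists_pow hg hx.memS hx.not_mem
      have := mul_mem (pow_mem hx.memP i) (hZtwo _ hi (hAZ2 hi))
      rwa [mul_inv_cancel_left] at this
  have hcard2 : Nat.card (Subgroup.upperCentralSeries ↥S 2) = p * Nat.card (Subgroup.center ↥S) := by
    rw [← card_zS, ← hcardA, inf_eq_right.mpr hZ2A, hZ2, Subgroup.card_map_of_injective S.subtype_injective]
  refine ⟨x, hx.memS, hx.not_mem, hidx, hZ2A, hcard2, ?_⟩
  rcases hx.dich with ⟨hab, hWZ⟩ | ⟨hZtwo, w, hwP, hwA, hwZ, hwgen⟩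
  · refine Or.inl ⟨hab, le_antisymm (fun g hg => ?_) (sup_le hx.zle (Subgroup.zpowers_le.mpr hx.memP))⟩
    obtain ⟨i, hiP, hiA⟩ := hx.gen g hg
    have := mul_mem (Subgroup.mem_sup_right (Subgroup.npow_mem_zpowers x i) :
      x ^ i ∈ (S ⊓ Subgroup.centralizer (S : Set Ω)) ⊔ Subgroup.zpowers x)
      (Subgroup.mem_sup_left (hWZ _ hiP hiA))
    rwa [mul_inv_cancel_left] at this
  · refine Or.inr ⟨fun z hz hzc => ?_, le_antisymm (fun g hg => ?_)
      (sup_le (fun g hg => hZtwo g (hZ2A hg) hg) (Subgroup.zpowers_le.mpr hx.memP))⟩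
    · by_cases hzA : z ∈ A
      · exact h.mem_zS_of_commute hzA hx.memS hx.not_mem (hzc x hx.memP).symm
      · exact absurd (h.mem_zS_of_commute hwA (hPS hz) hzA (hzc w hwP)) hwZ
    · obtain ⟨i, hiP, hiA⟩ := hx.gen g hg
      have := mul_mem (Subgroup.mem_sup_right (Subgroup.npow_mem_zpowers x i) :
        x ^ i ∈ Z2 ⊔ Subgroup.zpowers x)
        (Subgroup.mem_sup_left ((h.mem_zTwo hiA hx.memS hx.not_mem).mpr (hx.comm _ hiP hiA)))
      rwa [mul_inv_cancel_left] at this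

end Cfsg.Lib.FusionSys.AbelianIndex
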