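import Mathlib

/-!
Finite abelian `p`-groups with pairwise distinct invariants.
-/

set_option autoImplicit false

namespace Cfsg.Lib.FusionSys

universe u

/-- In a product of cyclic `p`-groups of distinct orders, the layers of the socle are cyclic. -/
theorem socle_layer_cyclic {ι : Type*} {p : ℕ} [Fact p.Prime] (e : ι → ℕ)
    (he : Function.Injective e) (j : ℕ) (z w z₀ w₀ : (i : ι) → ZMod (p ^ e i))
    (hz : p • z = 0) (hw : p • w = 0) (hz₀ : p ^ j • z₀ = z) (hw₀ : p ^ j • w₀ = w)
    (hzj : ¬ ∃ u, p ^ (j + 1) • u = z) :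
    ∃ (k : ℕ) (u : (i : ι) → ZMod (p ^ e i)), p ^ (j + 1) • u = w - k • z := by
  classical
  have hcomp : ∀ i, e i ≠ j + 1 → ∀ a : ZMod (p ^ e i), p • a = 0 → (∃ b, p ^ j • b = a) →
      ∃ b, p ^ (j + 1) • b = a := by
    intro i hi a ha ⟨b, hb⟩
    haveI : NeZero (p ^ e i) := ⟨pow_ne_zero _ (Fact.out : p.Prime).ne_zero⟩
    by_cases hle : e i ≤ j
    · refine ⟨0, ?_⟩
      rw [smul_zero, ← hb, nsmul_eq_mul]
      have : ((p ^ j : ℕ) : ZMod (p ^ e i)) = 0 :=
        (ZMod.natCast_eq_zero_iff _ _).2 (pow_dvd_pow p hle)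
      rw [this, zero_mul]
    · obtain ⟨a', rfl⟩ := ZMod.natCast_zmod_surjective a
      rw [nsmul_eq_mul, ← Nat.cast_mul, ZMod.natCast_eq_zero_iff,
        show p ^ e i = p * p ^ (e i - 1) by rw [← pow_succ']; congr 1; omega] at ha
      obtain ⟨c, hc⟩ := (Nat.dvd_of_mul_dvd_mul_left (Fact.out : p.Prime).pos ha :
        p ^ (e i - 1) ∣ a')
      refine ⟨((p ^ (e i - 1 - (j + 1)) * c : ℕ) : ZMod (p ^ e i)), ?_⟩
      rw [nsmul_eq_mul, ← Nat.cast_mul]
      congr 1
      rw [hc, ← mul_assoc, ← pow_add]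
      congr 2
      omega
  by_cases ha : ∃ a, e a = j + 1
  · obtain ⟨a, hea⟩ := ha
    haveI : NeZero (p ^ e a) := ⟨pow_ne_zero _ (Fact.out : p.Prime).ne_zero⟩
    obtain ⟨c, hc⟩ := ZMod.natCast_zmod_surjective (z₀ a)
    obtain ⟨d, hd⟩ := ZMod.natCast_zmod_surjective (w₀ a)
    have hcp : ¬ p ∣ c := by
      rintro ⟨c', rfl⟩
      refine hzj ?_
      have hall : ∀ i, ∃ b, p ^ (j + 1) • b = z i := fun i => by
        by_cases hi : i = a
        · subst hi
          refine ⟨0, ?_⟩
          rw [smul_zero, ← hz₀, Pi.smul_apply, ← hc, nsmul_eq_mul, ← Nat.cast_mul, eq_comm,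
            ZMod.natCast_eq_zero_iff, hea, pow_succ]
          exact mul_dvd_mul_left _ (dvd_mul_right p c')
        · exact hcomp i (fun h => hi (he (h.trans hea.symm))) _ (congrFun hz i)
            ⟨z₀ i, congrFun hz₀ i⟩
      choose b hb using hall
      exact ⟨b, funext hb⟩
    set k : ℕ := ((d : ZMod p) * (c : ZMod p)⁻¹).val with hk
    haveI : NeZero p := ⟨(Fact.out : p.Prime).ne_zero⟩
    have hkp : (p : ℤ) ∣ (d : ℤ) - k * c := by
      rw [← ZMod.intCast_zmod_eq_zero_iff_dvd]
      have hc0 : (c : ZMod p) ≠ 0 := fun h => hcp ((ZMod.natCast_eq_zero_iff c p).1 h)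
      push_cast
      rw [hk, ZMod.natCast_zmod_val, inv_mul_cancel_right₀ hc0, sub_self]
    have hall : ∀ i, ∃ b, p ^ (j + 1) • b = w i - k • z i := fun i => by
      by_cases hi : i = a
      · subst hi
        refine ⟨0, ?_⟩
        rw [smul_zero, ← hw₀, ← hz₀, Pi.smul_apply, Pi.smul_apply, ← hc, ← hd]
        obtain ⟨t, ht⟩ := hkp
        simp only [nsmul_eq_mul]
        have h0 : ((p ^ (j + 1) : ℕ) : ZMod (p ^ e i)) = 0 := by
          rw [ZMod.natCast_eq_zero_iff, hea]
        have ht' : (d : ZMod (p ^ e i)) - k * c = p * (t : ZMod (p ^ e i)) := by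
          have := congrArg (fun z : ℤ => (z : ZMod (p ^ e i))) ht
          push_cast at this
          exact this
        calc (0 : ZMod (p ^ e i)) = ((p ^ (j + 1) : ℕ) : ZMod (p ^ e i)) * t := by rw [h0, zero_mul]
          _ = ((p ^ j : ℕ) : ZMod (p ^ e i)) * ((d : ZMod (p ^ e i)) - k * c) := by
            rw [ht']; push_cast; ring
          _ = ((p ^ j : ℕ) : ZMod (p ^ e i)) * (d : ZMod (p ^ e i))
              - (k : ZMod (p ^ e i)) * (((p ^ j : ℕ) : ZMod (p ^ e i)) * (c : ZMod (p ^ e i))) := by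
            ring
      · refine hcomp i (fun h => hi (he (h.trans hea.symm))) _ ?_
          ⟨w₀ i - k • z₀ i, ?_⟩
        · have h1 := congrFun hz i
          have h2 := congrFun hw i
          simp only [Pi.smul_apply, Pi.zero_apply] at h1 h2
          rw [nsmul_sub, h2, nsmul_left_comm, h1, nsmul_zero, sub_zero]
        · rw [nsmul_sub, nsmul_left_comm]
          simp only [← hw₀, ← hz₀, Pi.smul_apply]
    choose b hb using hall
    exact ⟨k, b, funext hb⟩
  · refine absurd ?_ hzj
    choose b hb using fun i => hcomp i (fun h => ha ⟨i, h⟩) _ (congrFun hz i) ⟨z₀ i, congrFun hz₀ i⟩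
    exact ⟨b, funext hb⟩

/-- Either two invariants agree, or the layers of the socle are cyclic. -/
theorem layers_cyclic_of_no_repeat {G : Type u} [CommGroup G] [Finite G] {p : ℕ} [Fact p.Prime]
    (hG : IsPGroup p G)
    (hno : ¬ ∃ (n : ℕ) (H : Type) (_ : CommGroup H), 0 < n ∧
      Nonempty (G ≃* (Multiplicative (ZMod (p ^ n)) × Multiplicative (ZMod (p ^ n))) × H))
    (j : ℕ) (z w z₀ w₀ : G) (hz : z ^ p = 1) (hw : w ^ p = 1) (hz₀ : z₀ ^ p ^ j = z)
    (hw₀ : w₀ ^ p ^ j = w) (hzj : ¬ ∃ u, u ^ p ^ (j + 1) = z) :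
    ∃ (k : ℕ) (u : G), u ^ p ^ (j + 1) = w * (z ^ k)⁻¹ := by
  classical
  obtain ⟨ι, _, n, hn, ⟨f⟩⟩ := CommGroup.equiv_prod_multiplicative_zmod_of_finite G
  have hpow : ∀ i, ∃ k, n i = p ^ k := by
    intro i
    haveI : ∀ i, NeZero (n i) := fun i => ⟨(zero_lt_one.trans (hn i)).ne'⟩
    obtain ⟨k, hk⟩ := (hG.of_surjective f.toMonoidHom f.surjective).exists_card_eq
    rw [Nat.card_pi] at hk
    have hd : n i ∣ p ^ k := hk ▸ (by
      refine dvd_trans ?_ (Finset.dvd_prod_of_mem _ (Finset.mem_univ i))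
      rw [Nat.card_congr Multiplicative.toAdd, Nat.card_zmod])
    obtain ⟨m, -, hm⟩ := (Nat.dvd_prime_pow Fact.out).1 hd
    exact ⟨m, hm⟩
  choose e he using hpow
  obtain rfl : n = fun i => p ^ e i := funext he
  by_cases hinj : Function.Injective e
  · let g : G → ((i : ι) → ZMod (p ^ e i)) := fun x i => Multiplicative.toAdd (f x i)
    have hgpow : ∀ (x : G) (m : ℕ), g (x ^ m) = m • g x := fun x m => funext fun i => by
      simp only [g, map_pow, Pi.pow_apply, Pi.smul_apply, toAdd_pow]
    have hg1 : g 1 = 0 := funext fun i => by simp [g]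
    have hgi : Function.Injective g := fun a b h =>
      f.injective (funext fun i => Multiplicative.toAdd.injective (congrFun h i))
    have hgs : Function.Surjective g := fun v =>
      ⟨f.symm fun i => Multiplicative.ofAdd (v i), funext fun i => by simp [g]⟩
    obtain ⟨k, v, hv⟩ := socle_layer_cyclic e hinj j (g z) (g w) (g z₀) (g w₀)
      (by rw [← hgpow, hz, hg1]) (by rw [← hgpow, hw, hg1]) (by rw [← hgpow, hz₀])
      (by rw [← hgpow, hw₀])
      (by
        rintro ⟨v, hv⟩
        obtain ⟨x, rfl⟩ := hgs v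
        exact hzj ⟨x, hgi (by rw [hgpow, hv])⟩)
    obtain ⟨x, rfl⟩ := hgs v
    refine ⟨k, x, hgi ?_⟩
    rw [hgpow, hv, ← hgpow]
    funext i
    simp [g, sub_eq_add_neg]
  · refine absurd ?_ hno
    rw [Function.not_injective_iff] at hinj
    obtain ⟨a, b, heab, hab⟩ := hinj
    let H := (i : {i // i ≠ a ∧ i ≠ b}) → Multiplicative (ZMod (p ^ e i))
    refine ⟨e a, H, inferInstance, ?_, ⟨f.trans ?_⟩⟩
    · by_contra h0
      have := hn a
      simp [Nat.eq_zero_of_not_pos h0] at this
    · let T : Multiplicative (ZMod (p ^ e b)) ≃* Multiplicative (ZMod (p ^ e a)) :=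
        AddEquiv.toMultiplicative (ZMod.ringEquivCongr (by rw [heab])).toAddEquiv
      refine MonoidHom.toMulEquiv
        ({ toFun := fun v => ((v a, T (v b)), fun i => v i.1)
           map_one' := by simp; rfl
           map_mul' := fun v w => by simp; rfl } :
          ((i : ι) → Multiplicative (ZMod (p ^ e i))) →* (_ × _) × H)
        ({ toFun := fun x i => if hia : i = a then hia ▸ x.1.1 else
              if hib : i = b then hib ▸ T.symm x.1.2 else x.2 ⟨i, hia, hib⟩
           map_one' := by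
            funext i
            split_ifs with h1 h2
            · subst h1; rfl
            · subst h2; exact map_one _
            · rfl
           map_mul' := fun x y => by
            funext i
            simp only [Pi.mul_apply]
            split_ifs with h1 h2
            · subst h1; rfl
            · subst h2; exact map_mul _ _ _
            · rfl } : (_ × _) × H →* ((i : ι) → Multiplicative (ZMod (p ^ e i)))) ?_ ?_
      · refine MonoidHom.ext fun v => funext fun i => ?_
        show (if hia : i = a then _ else _) = v i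
        split_ifs with h1 h2
        · subst h1; rfl
        · subst h2; exact T.symm_apply_apply _
        · rfl
      · refine MonoidHom.ext fun x => ?_
        refine Prod.ext (Prod.ext ?_ ?_) (funext fun i => ?_)
        · show (if hia : a = a then _ else _) = x.1.1
          rw [dif_pos rfl]
        · show T (if hia : b = a then _ else _) = x.1.2
          rw [dif_neg hab.symm, dif_pos rfl]
          exact T.apply_symm_apply _
        · show (if hia : i.1 = a then _ else _) = x.2 i
          rw [dif_neg i.2.1, dif_neg i.2.2]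

end Cfsg.Lib.FusionSys
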