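import Cfsg.Agent.Lib.FusionSys.Normal
import Mathlib.GroupTheory.SemidirectProduct
import Mathlib.GroupTheory.Nilpotent

/-!
# A strongly closed subgroup with abelian quotient over a normal subgroup with `p`-group automizer is
normal
-/

set_option autoImplicit false

namespace Cfsg.Lib.FusionSys

open Cfsg Cfsg.FusionSystem
open scoped commutatorElement

variable {Ω : Type*} [Group Ω] {S : Subgroup Ω} {F : FusionSystem S}

/-- A `p`-group of automorphisms of a `p`-group stabilizes a series. -/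
theorem exists_series_of_pGroup_aut {p : ℕ} [Fact p.Prime] {Q : Type*} [Group Q] [Finite Q]
    (hQ : IsPGroup p Q) {A : Subgroup (MulAut Q)} (hA : IsPGroup p A) :
    ∃ (W : ℕ → Subgroup Q) (m : ℕ), W 0 = ⊥ ∧ W m = ⊤ ∧
      (∀ a ∈ A, ∀ j, ∀ x ∈ W j, a x ∈ W j) ∧ ∀ a ∈ A, ∀ j, ∀ x ∈ W (j + 1), x⁻¹ * a x ∈ W j := by
  haveI : Finite (MulAut Q) := Finite.of_injective (fun a : MulAut Q => (a : Q → Q))
    DFunLike.coe_injective
  haveI : Finite (Q ⋊[A.subtype] A) := Finite.of_equiv _ SemidirectProduct.equivProd.symm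
  obtain ⟨a, ha⟩ := IsPGroup.iff_card.mp hQ
  obtain ⟨b, hb⟩ := IsPGroup.iff_card.mp hA
  haveI : Group.IsNilpotent (Q ⋊[A.subtype] A) :=
    (IsPGroup.of_card (p := p) (n := a + b) (by
      rw [SemidirectProduct.card, ha, hb, pow_add])).isNilpotent
  obtain ⟨m, hm⟩ := Group.IsNilpotent.nilpotent' (G := Q ⋊[A.subtype] A)
  let U := Subgroup.upperCentralSeries (Q ⋊[A.subtype] A)
  have hconj : ∀ (c : MulAut Q) (hc : c ∈ A) (x : Q),
      (SemidirectProduct.inr ⟨c, hc⟩ : Q ⋊[A.subtype] A) * SemidirectProduct.inl x *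
        (SemidirectProduct.inr ⟨c, hc⟩)⁻¹ = SemidirectProduct.inl (c x) := fun c hc x => by
    rw [← map_inv]
    exact (SemidirectProduct.inl_aut (φ := A.subtype) ⟨c, hc⟩ x).symm
  refine ⟨fun j => (U j).comap SemidirectProduct.inl, m, ?_, ?_, ?_, ?_⟩
  · ext x
    show SemidirectProduct.inl x ∈ U 0 ↔ _
    rw [show U 0 = ⊥ from Subgroup.upperCentralSeries_zero _, Subgroup.mem_bot, Subgroup.mem_bot]
    exact (map_eq_one_iff _ SemidirectProduct.inl_injective)
  · show (U m).comap _ = ⊤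
    rw [show U m = ⊤ from hm, Subgroup.comap_top]
  · intro c hc j x hx
    show SemidirectProduct.inl (c x) ∈ U j
    rw [← hconj c hc]
    exact (inferInstance : (Subgroup.upperCentralSeries _ j).Normal).conj_mem _ hx _
  · intro c hc j x hx
    have h1 := (Subgroup.mem_upperCentralSeries_succ_iff.1 ((U (j + 1)).inv_mem hx))
      (SemidirectProduct.inr ⟨c, hc⟩)
    show SemidirectProduct.inl (x⁻¹ * c x) ∈ U j
    have h3 : SemidirectProduct.inl (x⁻¹ * c x) =
        ((SemidirectProduct.inl x : Q ⋊[A.subtype] A))⁻¹ *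
          ((SemidirectProduct.inr ⟨c, hc⟩ : Q ⋊[A.subtype] A) * SemidirectProduct.inl x *
            (SemidirectProduct.inr ⟨c, hc⟩)⁻¹) := by
      rw [hconj, map_mul, map_inv]
    rw [h3]
    simpa [commutatorElement_def, mul_assoc] using h1

theorem isNormal_of_abelian_over [Finite S] {p : ℕ} [Fact p.Prime] (hS : IsPGroup p S)
    (hF : F.IsSaturated p) {Q Q₁ : Subgroup Ω} (hQ : F.StronglyClosed Q) (hQ₁Q : Q₁ ≤ Q)
    (hQ₁ : F.IsNormal Q₁) (hab : ⁅Q, Q⁆ ≤ Q₁) (hAut : IsPGroup p (F.autGroup Q₁)) :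
    F.IsNormal Q := by
  have hQ₁S := hQ₁.1
  have hQ₁s := isNormal_stronglyClosed hQ₁
  haveI := finite_of_le hQ₁S
  obtain ⟨V, m, hV0, hVm, hVinv, hVs⟩ := exists_series_of_pGroup_aut (hS.to_le hQ₁S) hAut
  refine isNormal_of_stronglyClosed hS hF hQ fun P hc hrad => ?_
  have hPS := hc.1
  haveI := finite_of_le hPS
  have hQ₁P : Q₁ ≤ P := le_of_isNormal hS hQ₁ hc hrad
  have hQn := stronglyClosed_le_normalizer hQ
  -- the restriction to `Q₁`
  have hres : ∀ a ∈ F.autGroup P, ∃ a₁ ∈ F.autGroup Q₁, ∀ x : Q₁,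
      ((a₁ x : Q₁) : Ω) = (a (Subgroup.inclusion hQ₁P x) : Ω) := by
    intro a ha
    have h1 := restrict_mem ((mem_autGroup hPS).1 ha) hQ₁P
    have hr := range_eq_of_card_le h1 hQ₁S
      (fun y => stronglyClosed_aut_mem hQ₁s ha hPS (x := Subgroup.inclusion hQ₁P y) y.2) le_rfl
    exact ⟨_, (mem_autGroup hQ₁S).2 (isoIn_homIso h1 hr), fun x => rfl⟩
  let W : ℕ → Subgroup Ω := fun j => (V j).map Q₁.subtype
  have hW0 : W 0 = ⊥ := by simp [W, hV0]
  have hWm : W m = Q₁ := by simp [W, hVm, ← MonoidHom.range_eq_map]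
  have hWinv : ∀ a ∈ F.autGroup P, ∀ j, ∀ x : P, (x : Ω) ∈ W j → (a x : Ω) ∈ W j := by
    intro a ha j x hx
    obtain ⟨y, hy, hyx⟩ := hx
    obtain ⟨a₁, ha₁, he⟩ := hres a ha
    refine ⟨a₁ y, hVinv a₁ ha₁ j y hy, (he y).trans ?_⟩
    rw [show Subgroup.inclusion hQ₁P y = x from Subtype.ext hyx]
  let D : ℕ → Subgroup Ω := fun i => if i ≤ m then W i else if i = m + 1 then P ⊓ Q else P
  have hNQ : ∀ g ∈ Q, g ∈ Subgroup.normalizer (P : Set Ω) → g ∈ P := by
    intro g hg hgN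
    have hgS : g ∈ S := hQ.1 hg
    have hα : conjAut P hgN ∈ F.autGroup P :=
      autInducedBy_le_autGroup hPS (conjAut_mem_autInducedBy hgN hgS)
    refine mem_of_conjAut_mem_inn (α := conjAut P hgN) (hc.2 P (isConj_refl F hPS)) hPS hgS
      (fun _ => rfl) (mem_inn_of_stabilizes (D := D) (n := m + 2) hS hrad ?_ ?_ ?_ hα ?_)
    · simp [D, hW0]
    · simp [D]
    · intro a ha i _ x hx
      simp only [D] at hx ⊢
      split_ifs at hx ⊢ with hi hi'
      · exact hWinv a ha i x hx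
      · exact ⟨(a x).2, stronglyClosed_aut_mem hQ ha hPS hx.2⟩
      · exact (a x).2
    · intro i hi x hx
      have hxP : (x : Ω)⁻¹ * (conjAut P hgN x : Ω) ∈ P :=
        P.mul_mem (P.inv_mem x.2) (conjAut P hgN x).2
      simp only [D] at hx ⊢
      rcases (show i < m ∨ i = m ∨ i = m + 1 by omega) with h | rfl | rfl
      · rw [if_pos (by omega : i + 1 ≤ m)] at hx
        rw [if_pos h.le]
        obtain ⟨y, hy, hyx⟩ := hx
        obtain ⟨a₁, ha₁, he⟩ := hres _ hα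
        refine ⟨y⁻¹ * a₁ y, hVs a₁ ha₁ i y hy, ?_⟩
        rw [map_mul, map_inv, hyx]
        refine congrArg _ ((he y).trans ?_)
        rw [show Subgroup.inclusion hQ₁P y = x from Subtype.ext hyx]
      · rw [if_neg (by omega : ¬ i + 1 ≤ i), if_pos rfl] at hx
        rw [if_pos le_rfl, hWm, coe_conjAut]
        have h1 : ⁅(x : Ω)⁻¹, g⁆ ∈ Q₁ :=
          hab (Subgroup.commutator_mem_commutator (Q.inv_mem hx.2) hg)
        simpa [commutatorElement_def, mul_assoc] using h1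
      · rw [if_neg (by omega : ¬ m + 1 ≤ m), if_pos rfl]
        refine ⟨hxP, ?_⟩
        rw [coe_conjAut]
        have h1 : (x : Ω)⁻¹ * g * (x : Ω) ∈ Q :=
          (Subgroup.mem_normalizer_iff''.1 (hQn (hPS x.2)) g).1 hg
        simpa [mul_assoc] using Q.mul_mem h1 (Q.inv_mem hg)
  intro q hq
  by_contra hqP
  haveI := finite_of_le (sup_le hPS hQ.1)
  have hlt : P < P ⊔ Q :=
    lt_of_le_of_ne le_sup_left fun h => hqP (h ▸ Subgroup.mem_sup_right hq)
  obtain ⟨y, hy, hyP⟩ :=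
    SetLike.exists_of_lt (lt_normalizerIn (hS.to_le (sup_le hPS hQ.1)) hlt)
  have h1 : y ∈ ((P ⊔ Q : Subgroup Ω) : Set Ω) := hy.1
  rw [Subgroup.coe_mul_of_left_le_normalizer_right _ _ (hPS.trans hQn)] at h1
  obtain ⟨a, ha, b, hb, rfl⟩ := h1
  apply hyP
  refine P.mul_mem ha (hNQ b hb ?_)
  have h2 := Subgroup.mul_mem _ (Subgroup.inv_mem _ (Subgroup.le_normalizer ha)) hy.2
  simpa using h2

end Cfsg.Lib.FusionSys
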