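import Cfsg.Agent.Lib.FusionSys.Centric
import Cfsg.Agent.Lib.FusionSys.OfGroup

/-!
Invariant subsystems over the whole of `S`, and the criterion for simplicity.
-/

set_option autoImplicit false

namespace Cfsg.Lib.FusionSys

open Cfsg Cfsg.FusionSystem
open scoped Pointwise

variable {Ω : Type*} [Group Ω] {S : Subgroup Ω} {F : FusionSystem S} {P Q : Subgroup Ω}

/-- Centric subgroups are fully centralized. -/
theorem isFullyCentralized_of_isCentric [Finite S] (hP : F.IsCentric P) :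
    F.IsFullyCentralized P := by
  refine ⟨hP.1, fun Q hQ => ?_⟩
  obtain ⟨e, he⟩ := isConj_iff.1 hQ
  haveI := finite_of_le (centralizerIn_le (S := S) P)
  have hQc := hP.2 Q hQ
  have hmem : ∀ c : centralizerIn S Q,
      (e.symm (Subgroup.inclusion hQc c) : Ω) ∈ centralizerIn S P := by
    intro c
    refine mem_centralizerIn.2 ⟨hP.1 (e.symm _).2, fun y hy => ?_⟩
    have h2 : e.symm (Subgroup.inclusion hQc c * e ⟨y, hy⟩) =
        e.symm (e ⟨y, hy⟩ * Subgroup.inclusion hQc c) := by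
      congr 1
      exact Subtype.ext ((mem_centralizerIn.1 c.2).2 _ (e ⟨y, hy⟩).2)
    simpa [Subtype.ext_iff] using h2
  refine Nat.card_le_card_of_injective (fun c => (⟨_, hmem c⟩ : centralizerIn S P)) ?_
  intro a b hab
  have h1 : e.symm (Subgroup.inclusion hQc a) = e.symm (Subgroup.inclusion hQc b) :=
    Subtype.ext (congrArg (fun z : centralizerIn S P => (z : Ω)) hab)
  exact Subgroup.inclusion_injective _ (e.symm.injective h1)

/-- The automizers of an invariant subsystem over `S` are normal in those of the system. -/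
theorem autGroup_conj_mem {E : FusionSystem S} (hE : E.IsInvariantIn F) (hPS : P ≤ S)
    {β : MulAut P} (hβ : β ∈ F.autGroup P) {ε : MulAut P} (hε : ε ∈ E.autGroup P) :
    β * ε * β⁻¹ ∈ E.autGroup P := by
  obtain ⟨-, -, hinv, hfrat⟩ := hE
  obtain ⟨α, hα, φ₀, hφ₀, hfac⟩ := hfrat P hPS _ ((mem_autGroup hPS).1 hβ)
  -- `φ₀` has image `P'`
  let e₀ : P ≃* φ₀.range := homIso hφ₀ rfl
  have he₀ : IsoIn E e₀ := isoIn_homIso hφ₀ rfl
  have hεm : IsoIn E (e₀.symm.trans (ε.trans e₀)) :=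
    he₀.symm.trans (((mem_autGroup hPS).1 hε).trans he₀)
  obtain ⟨χ, hχ, hχv⟩ := hinv φ₀.range (range_le hφ₀) _ hεm α hα
  have hval : ∀ x : P, ((β x : P) : Ω) = (α ⟨φ₀ x, hom_mem hφ₀ x⟩ : Ω) := fun x => hfac x _
  have himg : (φ₀.range.subgroupOf S).map (S.subtype.comp α.toMonoidHom) = P := by
    ext y
    constructor
    · rintro ⟨⟨z, hzS⟩, ⟨x, hx⟩, rfl⟩
      show (α ⟨z, hzS⟩ : Ω) ∈ P
      have h1 : (⟨z, hzS⟩ : S) = ⟨φ₀ x, hom_mem hφ₀ x⟩ := Subtype.ext hx.symm
      rw [h1, ← hval]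
      exact (β x).2
    · intro hy
      refine ⟨⟨φ₀ (β⁻¹ ⟨y, hy⟩), hom_mem hφ₀ _⟩, ⟨_, rfl⟩, ?_⟩
      show (α _ : Ω) = y
      rw [← hval, MulAut.apply_inv_self]
  refine (mem_autGroup hPS).2 ?_
  refine hom_congr (restrict_mem hχ himg.ge) fun y => ?_
  obtain ⟨x, rfl⟩ := β.surjective y
  have hl : P.subtype.comp (β * ε * β⁻¹ : MulAut P).toMonoidHom (β x) = ((β (ε x) : P) : Ω) := by
    simp [MulAut.mul_apply, MulAut.inv_apply]
  rw [hl, hval (ε x)]
  have h2 : ((α ⟨((e₀ x : φ₀.range) : Ω), range_le hφ₀ (e₀ x).2⟩ : S) : Ω) ∈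
      (φ₀.range.subgroupOf S).map (S.subtype.comp α.toMonoidHom) :=
    ⟨⟨_, range_le hφ₀ (e₀ x).2⟩, (e₀ x).2, rfl⟩
  have h3 := hχv (e₀ x)
    (by simpa [e₀] using hom_mem hφ₀ (ε x)) h2
  simp only [MonoidHom.comp_apply]
  refine Eq.trans ?_ (Eq.trans h3.symm (congrArg χ (Subtype.ext ?_)))
  · congr 2
    exact Subtype.ext (by simp [e₀])
  · exact (hval x).symm

/-- A normal subgroup containing a Sylow `p`-subgroup contains every `p`-element. -/
theorem mem_of_sylow_le_normal {G : Type*} [Group G] [Finite G] {p : ℕ} [Fact p.Prime]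
    {N : Subgroup G} [hN : N.Normal] (R : Sylow p G) (hR : (R : Subgroup G) ≤ N) {g : G} {k : ℕ}
    (hg : g ^ p ^ k = 1) : g ∈ N := by
  obtain ⟨l, -, hl⟩ := (Nat.dvd_prime_pow Fact.out).1 (orderOf_dvd_of_pow_eq_one hg)
  obtain ⟨R', hR'⟩ := (IsPGroup.of_card (n := l)
    (show Nat.card (Subgroup.zpowers g) = p ^ l by rw [Nat.card_zpowers, hl])).exists_le_sylow
  obtain ⟨x, hx⟩ := MulAction.exists_smul_eq G R' R
  have h1 : x * g * x⁻¹ ∈ N := hR (by
    rw [← hx, Sylow.coe_subgroup_smul]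
    exact Subgroup.smul_mem_pointwise_smul g (MulAut.conj x) _ (hR' (Subgroup.mem_zpowers g)))
  have h2 := hN.conj_mem _ h1 x⁻¹
  simpa [mul_assoc] using h2

theorem autGroup_pElement_mem [Finite S] {E : FusionSystem S} (hE : E.IsInvariantIn F) {p : ℕ}
    [Fact p.Prime] (hP : F.IsFullyAutomized p P) {β : MulAut P} (hβ : β ∈ F.autGroup P) {k : ℕ}
    (hβp : β ^ p ^ k = 1) : β ∈ E.autGroup P := by
  obtain ⟨hPS, R, hR⟩ := hP
  haveI := finite_of_le hPS
  haveI : ((E.autGroup P).subgroupOf (F.autGroup P)).Normal :=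
    ⟨fun n hn g => autGroup_conj_mem hE hPS g.2 hn⟩
  have h := mem_of_sylow_le_normal (N := (E.autGroup P).subgroupOf (F.autGroup P)) R
    (by rw [hR]; exact Subgroup.comap_mono (autInducedBy_le_autGroup hPS))
    (g := ⟨β, hβ⟩) (k := k) (Subtype.ext hβp)
  exact h

/-- An invariant subsystem over `S` with all automorphisms of `S` is the whole system. -/
theorem eq_of_autGroup_top_le [Finite S] {E : FusionSystem S} (hE : E.IsInvariantIn F)
    (htop : F.autGroup S ≤ E.autGroup S) (P : Subgroup Ω) : E.Hom P = F.Hom P := by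
  refine Set.Subset.antisymm (hE.1 P) fun φ hφ => ?_
  obtain ⟨α, hα, φ₀, hφ₀, hfac⟩ := hE.2.2.2 P (hom_le hφ) φ hφ
  exact comp_mem' hφ₀ ((mem_autGroup le_rfl).1 (htop hα)) (hom_mem hφ₀) fun x =>
    hfac x (hom_mem hφ₀ x)

theorem isSimple_of_forall [Finite S] {p : ℕ} (hF : F.IsSaturated p) (hS1 : S ≠ ⊥)
    (hsc : ∀ T : Subgroup Ω, F.StronglyClosed T → T = ⊥ ∨ T = S)
    (h : ∀ E : FusionSystem S, E.IsSaturated p → E.IsInvariantIn F →
      F.autGroup S ≤ E.autGroup S) : F.IsSimple p := by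
  refine ⟨hF, hS1, fun T E hE => ?_⟩
  obtain ⟨⟨hEs, -, hEi⟩, -⟩ := hE
  rcases hsc T hEi.2.1 with hT | hT
  · exact Or.inl hT
  · subst hT
    exact Or.inr ⟨rfl, eq_of_autGroup_top_le hEi (h E hEs hEi)⟩

/-- Conjugation by a normalizer of `S` that lies in an invariant subsystem on a centric subgroup lies in it on `S`. -/
theorem conj_mem_of_centric [Finite S] {p : ℕ} [Fact p.Prime] (hS : IsPGroup p S)
    (hF : F.IsSaturated p) {E : FusionSystem S} (hE : E.IsSaturated p) (hEF : E.IsSubsystemOf F)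
    {α : MulAut S} (hα : α ∈ F.autGroup S) {R : Subgroup Ω} (hRS : R ≤ S) (hR : F.IsCentric R)
    (hαR : (S.subtype.comp α.toMonoidHom).comp (Subgroup.inclusion hRS) ∈ E.Hom R) :
    α ∈ E.autGroup S := by
  suffices ∀ (n : ℕ) (U : Subgroup Ω) (hUS : U ≤ S), F.IsCentric U →
      Nat.card S ≤ Nat.card U + n →
      (S.subtype.comp α.toMonoidHom).comp (Subgroup.inclusion hUS) ∈ E.Hom U →
      α ∈ E.autGroup S from this _ R hRS hR (Nat.le_add_left _ _) hαR
  intro n
  induction n with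
  | zero =>
    intro U hUS _ hc hU
    have hU' : U = S := eq_of_le_of_card_le le_rfl hUS (by simpa using hc)
    subst hU'
    exact (mem_autGroup le_rfl).2 (hom_congr hU fun _ => rfl)
  | succ n ih =>
    intro U hUS hU hc hαU
    rcases eq_or_lt_of_le hUS with h | hlt
    · subst h
      exact (mem_autGroup le_rfl).2 (hom_congr hαU fun _ => rfl)
    have hlt' := lt_normalizerIn hS hlt
    set V := normalizerIn S U
    have hVS : V ≤ S := normalizerIn_le U
    haveI := finite_of_le hVS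
    have hcard : Nat.card U < Nat.card V := by
      by_contra hcc
      exact hlt'.ne (Subgroup.eq_of_le_of_card_ge hlt'.le (not_lt.1 hcc))
    refine ih V hVS (isCentric_mono hU hlt'.le hVS) (by omega) ?_
    set φ := (S.subtype.comp α.toMonoidHom).comp (Subgroup.inclusion hUS) with hφ
    have hU'c : E.IsCentric φ.range := by
      refine ⟨range_le hαU, fun Q hQ => hU.2 Q ?_⟩
      refine isConj_trans ⟨φ, hEF U hαU, rfl⟩ ?_
      obtain ⟨ψ, hψ, hψr⟩ := hQ
      exact ⟨ψ, hEF _ hψ, hψr⟩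
    have hrec := isReceptive_of_fc hS hE (isFullyCentralized_of_isCentric hU'c)
    obtain ⟨ψ, hψ, hψe⟩ := IsReceptive_ext hrec (isoIn_homIso hαU rfl) (N := V) (by
      intro g hg
      refine ⟨hg.1, hg.2, (α ⟨g, hg.1⟩ : Ω), (α ⟨g, hg.1⟩).2, fun x y hxy => ?_⟩
      have h1 : (⟨(y : Ω), hUS y.2⟩ : S) = ⟨g, hg.1⟩ * ⟨x, hUS x.2⟩ * ⟨g, hg.1⟩⁻¹ :=
        Subtype.ext hxy
      show ((α ⟨(y : Ω), hUS y.2⟩ : S) : Ω) = _
      rw [h1, map_mul, map_mul, map_inv]
      rfl)
    obtain ⟨z, -, -, hz⟩ := centric_ext_unique hS hF hU hlt'.le (hEF _ hψ)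
      (restrict_mem ((mem_autGroup le_rfl).1 hα) hVS)
      (fun x hx => hψe x hx x.2)
    refine comp_mem' (E.conj_mem hVS (hVS z.2)) hψ
      (fun y => V.mul_mem (V.mul_mem z.2 y.2) (V.inv_mem z.2)) fun y => ?_
    exact hz y

end Cfsg.Lib.FusionSys
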