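import Cfsg.Agent.Lib.FusionSys.BisetExists
import Cfsg.Agent.Lib.FusionSys.Normal

/-!
Transfer in saturated fusion systems, built from a characteristic biset.
-/

set_option autoImplicit false

universe u v

namespace Cfsg.Lib.FusionSys

open Cfsg Cfsg.FusionSystem
open MulAction

/-- A set with the action pulled back along a homomorphism. -/
def Twist {G H : Type*} [Group G] [Group H] (X : Type*) (_f : G →* H) : Type _ := X

instance twistMulAction {G H : Type*} [Group G] [Group H] (X : Type*) [MulAction H X]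
    (f : G →* H) : MulAction G (Twist X f) :=
  (MulAction.compHom X f : MulAction G X)

instance twistFinite {G H : Type*} [Group G] [Group H] (X : Type*) [h : Finite X]
    (f : G →* H) : Finite (Twist X f) := h

theorem mark_twist {G H : Type*} [Group G] [Group H] {X : Type*} [MulAction H X]
    (f : G →* H) (E : Subgroup G) : mark (Twist X f) E = mark X (E.map f) := by
  refine Nat.card_congr (Equiv.subtypeEquivRight fun x => ?_)
  constructor
  · rintro h _ ⟨e, he, rfl⟩
    exact h e he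
  · exact fun h e he => h (f e) ⟨e, he, rfl⟩

theorem exists_equivariant {K : Type*} [Group K] {X : Type*} [MulAction K X] {M : Type*}
    [CommGroup M] (χ : K →* M) (h : ∀ (k : K) (x : X), k • x = x → χ k = 1) :
    ∃ g : X → M, ∀ (k : K) (x : X), g (k • x) = χ k * g x := by
  classical
  let r : X → X := fun x => (Quotient.mk (orbitRel K X) x : Quotient (orbitRel K X)).out
  have hr : ∀ x, ∃ k : K, k • r x = x := by
    intro x
    have h1 : orbitRel K X x (r x) := (orbitRel K X).symm' (Quotient.mk_out (s := orbitRel K X) x)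
    rw [orbitRel_apply] at h1
    exact h1
  choose k hk using hr
  refine ⟨fun x => χ (k x), fun a x => ?_⟩
  have hra : r (a • x) = r x := by
    show (Quotient.mk (orbitRel K X) (a • x)).out = _
    rw [Quotient.sound (s := orbitRel K X) (show orbitRel K X (a • x) x from
      (orbitRel_apply).2 (mem_orbit x a))]
  have h2 : ((k x)⁻¹ * a⁻¹ * k (a • x)) • r x = r x := by
    conv_lhs => rw [mul_smul, ← hra, hk, mul_smul, inv_smul_smul, inv_smul_eq_iff.2 (hk x).symm]
  have h3 := h _ _ h2
  rw [map_mul, map_mul, map_inv, map_inv, ← mul_inv, inv_mul_eq_one] at h3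
  show χ (k (a • x)) = χ a * χ (k x)
  rw [← h3, mul_comm]

variable {Ω : Type u} [Group Ω] {S : Subgroup Ω} {F : FusionSystem S}

/-- Orbits of the right factor. -/
def rightSetoid (S : Subgroup Ω) (X : Type u) [MulAction (↥S × ↥S) X] : Setoid X where
  r x y := ∃ t : S, ((1 : S), t) • x = y
  iseqv :=
    { refl := fun x => ⟨1, by simp [← Prod.one_eq_mk]⟩
      symm := fun {x y} ⟨t, ht⟩ => ⟨t⁻¹, by
        rw [← ht, ← mul_smul, Prod.mk_mul_mk, one_mul, inv_mul_cancel, ← Prod.one_eq_mk, one_smul]⟩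
      trans := fun {x y z} ⟨t, ht⟩ ⟨t', ht'⟩ => ⟨t' * t, by
        rw [← ht', ← ht, ← mul_smul, Prod.mk_mul_mk, one_mul]⟩ }

variable {X : Type u} [MulAction (↥S × ↥S) X]

theorem smul_comm_pair (s t : S) (x : X) :
    (s, (1 : S)) • ((1 : S), t) • x = ((1 : S), t) • (s, (1 : S)) • x := by
  rw [← mul_smul, ← mul_smul, Prod.mk_mul_mk, Prod.mk_mul_mk, one_mul, mul_one, one_mul, mul_one]

theorem GraphStabilizers.free (hX : GraphStabilizers F X) {t : S} {x : X}
    (h : ((1 : S), t) • x = x) : t = 1 := by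
  obtain ⟨Q, hQ⟩ := hX x
  exact hQ.inl_mem h

theorem GraphStabilizers.eq_of_fixed (hX : GraphStabilizers F X) {a b : S} {x : X}
    (hfix : ∀ (P : Subgroup Ω) (φ : P →* Ω), φ ∈ F.Hom P → ∀ y : P, (y : Ω) = a → φ y = a)
    (h : (a, b) • x = x) : b = a := by
  obtain ⟨Q, P, φ, hφ, -, hD⟩ := hX x
  have h1 : (a, b) ∈ stabilizer (↥S × ↥S) x := h
  rw [← hD, mem_graph] at h1
  obtain ⟨y, hy1, hy2⟩ := h1
  exact Subtype.ext (hy2.trans (hfix P φ hφ y hy1.symm))

/-- Transporting the first coordinate of a graph along an isomorphism of the system. -/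
theorem isGraph_transport {P P' : Subgroup Ω} {e : P ≃* P'} (he : IsoIn F e)
    (hP : P ≤ S) (hP' : P' ≤ S) {E : Subgroup (↥P × ↥S)} {Q : Subgroup Ω}
    (h : IsGraph F (E.map ((Subgroup.inclusion hP).prodMap (MonoidHom.id S))) Q) :
    IsGraph F (E.map (((Subgroup.inclusion hP').comp e.toMonoidHom).prodMap (MonoidHom.id S))) Q := by
  obtain ⟨R, ψ, hψ, rfl, hg⟩ := h
  have hRP : R ≤ P := by
    intro x hx
    have h1 : graphHom hψ ⟨x, hx⟩ ∈ (graphHom hψ).range := ⟨_, rfl⟩
    rw [hg] at h1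
    obtain ⟨⟨a, b⟩, -, hab⟩ := h1
    have h2 : (a : Ω) = x := congrArg (fun z : ↥S × ↥S => (z.1 : Ω)) hab
    exact h2 ▸ a.2
  have hφ : (P'.subtype.comp e.toMonoidHom).comp (Subgroup.inclusion hRP) ∈ F.Hom R :=
    restrict_mem he hRP
  set φ := (P'.subtype.comp e.toMonoidHom).comp (Subgroup.inclusion hRP) with hφdef
  obtain ⟨χ, hχ, hχe⟩ := F.inv_mem hφ
  have hχR : ∀ y, χ y ∈ R := by
    rintro ⟨_, x, rfl⟩
    rw [hχe]
    exact x.2
  refine ⟨_, _, F.comp_mem hχ hψ hχR, ?_, ?_⟩
  · ext y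
    constructor
    · rintro ⟨x, rfl⟩
      exact ⟨_, rfl⟩
    · rintro ⟨x, rfl⟩
      exact ⟨⟨φ x, x, rfl⟩, congrArg ψ (Subtype.ext (hχe x))⟩
  · ext ⟨s, t⟩
    rw [mem_graph, Subgroup.mem_map]
    constructor
    · rintro ⟨⟨_, x, rfl⟩, hs, ht⟩
      have h1 : graphHom hψ x ∈ (graphHom hψ).range := ⟨_, rfl⟩
      rw [hg] at h1
      obtain ⟨⟨a, b⟩, hab, he'⟩ := h1
      have ha : a = Subgroup.inclusion hRP x :=
        Subtype.ext (congrArg (fun z : ↥S × ↥S => (z.1 : Ω)) he')
      have hb : b = t := Subtype.ext ((congrArg (fun z : ↥S × ↥S => (z.2 : Ω)) he').trans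
        (((congrArg ψ (Subtype.ext (hχe x))).symm).trans ht.symm))
      exact ⟨(a, b), hab, Prod.ext (Subtype.ext (by rw [ha]; exact hs.symm)) hb⟩
    · rintro ⟨⟨a, b⟩, hab, he'⟩
      have h1 : (Subgroup.inclusion hP a, b) ∈ (graphHom hψ).range := by
        rw [hg]
        exact ⟨(a, b), hab, rfl⟩
      obtain ⟨x, hx1, hx2⟩ := (mem_graph hψ).1 h1
      refine ⟨⟨φ x, x, rfl⟩, ?_, ?_⟩
      · have ha : a = Subgroup.inclusion hRP x := Subtype.ext hx1
        rw [← he', ha]
        rfl
      · rw [← he']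
        exact hx2.trans (congrArg ψ (Subtype.ext (hχe x))).symm

theorem exists_twist_equiv [Finite S] [Finite X] (hX : GraphStabilizers F X)
    (hst : StableAbove F X 0) {P P' : Subgroup Ω} {e : P ≃* P'} (he : IsoIn F e) :
    ∃ f : X ≃ X, ∀ (a : P) (t : S) (x : X),
      f ((Subgroup.inclusion he.le_left a, t) • x) =
        (Subgroup.inclusion he.le_right (e a), t) • f x := by
  set j₁ := (Subgroup.inclusion he.le_left).prodMap (MonoidHom.id S)
  set j₂ := ((Subgroup.inclusion he.le_right).comp e.toMonoidHom).prodMap (MonoidHom.id S)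
  haveI := finite_of_le he.le_left
  have hm : ∀ E : Subgroup (↥P × ↥S), mark (Twist X j₁) E = mark (Twist X j₂) E := by
    intro E
    rw [mark_twist, mark_twist]
    by_cases h : ∃ Q, IsGraph F (E.map j₁) Q
    · obtain ⟨Q, hQ⟩ := h
      haveI := finite_of_le hQ.range_le
      exact hst Q _ _ Nat.card_pos hQ (isGraph_transport he _ _ hQ)
    · have h2 : ∀ Q, ¬ IsGraph F (E.map j₂) Q := by
        intro Q hQ
        refine h ⟨Q, ?_⟩
        have h1 : IsGraph F ((E.map (e.toMonoidHom.prodMap (MonoidHom.id S))).map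
            ((Subgroup.inclusion he.le_right).prodMap (MonoidHom.id S))) Q := by
          rw [Subgroup.map_map]
          exact hQ
        have h3 := isGraph_transport he.symm he.le_right he.le_left h1
        rw [Subgroup.map_map] at h3
        convert h3 using 2
        ext ⟨a, b⟩
        · simp [j₁]
        · simp [j₁]
      rw [mark_eq_zero_of_not_graph hX fun Q hQ => h ⟨Q, hQ⟩, mark_eq_zero_of_not_graph hX h2]
  obtain ⟨f, hf⟩ := exists_equiv_of_marks _ le_rfl hm
  exact ⟨f, fun a t x => hf (a, t) x⟩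

section Value

variable {M : Type v} [CommGroup M]

/-- The change of `g` along the left action of `s` on a right orbit. -/
noncomputable def ratioAt (f : S →* M) (g : X → M)
    (hg : ∀ (t : S) (x : X), g (((1 : S), t) • x) = f t * g x) (s : S) :
    Quotient (rightSetoid S X) → M :=
  Quotient.lift (fun x => g ((s, (1 : S)) • x) / g x) (by
    rintro x _ ⟨t, rfl⟩
    rw [smul_comm_pair, hg, hg, mul_div_mul_left_eq_div])

/-- The left action on right orbits. -/
def leftOrbitPerm (s : S) : Equiv.Perm (Quotient (rightSetoid S X)) :=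
  Quotient.congr (MulAction.toPerm (s, (1 : S))) fun x y => by
    constructor
    · rintro ⟨t, rfl⟩
      exact ⟨t, (smul_comm_pair s t x).symm⟩
    · rintro ⟨t, ht⟩
      refine ⟨t, MulAction.injective (s, (1 : S)) ?_⟩
      show (s, (1 : S)) • ((1 : S), t) • x = (s, (1 : S)) • y
      rw [smul_comm_pair]
      exact ht

variable [Fintype (Quotient (rightSetoid S X))]

/-- The transfer homomorphism of a biset. -/
noncomputable def bisetTransfer (f : S →* M) (g : X → M)
    (hg : ∀ (t : S) (x : X), g (((1 : S), t) • x) = f t * g x) : S →* M where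
  toFun s := ∏ q, ratioAt f g hg s q
  map_one' := Finset.prod_eq_one fun q _ => by
    induction q using Quotient.inductionOn with
    | h x => show g (((1 : S), (1 : S)) • x) / g x = 1; rw [← Prod.one_eq_mk, one_smul, div_self']
  map_mul' a b := by
    have h : ∀ q, ratioAt f g hg (a * b) q =
        ratioAt f g hg a (leftOrbitPerm b q) * ratioAt f g hg b q := by
      intro q
      induction q using Quotient.inductionOn with
      | h x =>
        show g ((a * b, (1 : S)) • x) / g x =
          g ((a, (1 : S)) • (b, (1 : S)) • x) / g ((b, (1 : S)) • x) *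
            (g ((b, (1 : S)) • x) / g x)
        rw [← mul_smul, Prod.mk_mul_mk, one_mul, div_mul_div_cancel]
    rw [Finset.prod_congr rfl fun q _ => h q, Finset.prod_mul_distrib,
      Equiv.prod_comp (leftOrbitPerm b) (ratioAt f g hg a)]

theorem bisetTransfer_indep (f : S →* M) (g g' : X → M)
    (hg : ∀ (t : S) (x : X), g (((1 : S), t) • x) = f t * g x)
    (hg' : ∀ (t : S) (x : X), g' (((1 : S), t) • x) = f t * g' x) (s : S) :
    bisetTransfer f g' hg' s = bisetTransfer f g hg s := by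
  let h : Quotient (rightSetoid S X) → M := Quotient.lift (fun x => g' x / g x) (by
    rintro x _ ⟨t, rfl⟩
    rw [hg, hg', mul_div_mul_left_eq_div])
  show ∏ q, ratioAt f g' hg' s q = ∏ q, ratioAt f g hg s q
  have h1 : ∀ q, ratioAt f g' hg' s q = ratioAt f g hg s q * (h (leftOrbitPerm s q) / h q) := by
    intro q
    induction q using Quotient.inductionOn with
    | h x =>
      show g' ((s, (1 : S)) • x) / g' x = g ((s, (1 : S)) • x) / g x *
        (g' ((s, (1 : S)) • x) / g ((s, (1 : S)) • x) / (g' x / g x))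
      rw [div_div_div_comm (g' ((s, (1 : S)) • x)), mul_comm, div_mul_cancel]
  rw [Finset.prod_congr rfl fun q _ => h1 q, Finset.prod_mul_distrib, Finset.prod_div_distrib,
    Equiv.prod_comp (leftOrbitPerm s) h, div_self', mul_one]

theorem bisetTransfer_conj [Finite S] [Finite X] (hX : GraphStabilizers F X)
    (hst : StableAbove F X 0) (f : S →* M) (g : X → M)
    (hg : ∀ (t : S) (x : X), g (((1 : S), t) • x) = f t * g x) {P P' : Subgroup Ω} {e : P ≃* P'}
    (he : IsoIn F e) (a : P) :
    bisetTransfer f g hg (Subgroup.inclusion he.le_right (e a)) =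
      bisetTransfer f g hg (Subgroup.inclusion he.le_left a) := by
  obtain ⟨k, hk⟩ := exists_twist_equiv hX hst he
  have hk1 : ∀ (t : S) (x : X), k (((1 : S), t) • x) = ((1 : S), t) • k x := by
    intro t x
    simpa using hk 1 t x
  have hg' : ∀ (t : S) (x : X), (g ∘ k) (((1 : S), t) • x) = f t * (g ∘ k) x := fun t x => by
    show g (k _) = _
    rw [hk1, hg]
    rfl
  rw [← bisetTransfer_indep f g (g ∘ k) hg hg' (Subgroup.inclusion he.le_left a)]
  let kq : Quotient (rightSetoid S X) ≃ Quotient (rightSetoid S X) :=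
    Quotient.congr k fun x y => by
      constructor
      · rintro ⟨t, rfl⟩
        exact ⟨t, (hk1 t x).symm⟩
      · rintro ⟨t, ht⟩
        exact ⟨t, k.injective ((hk1 t x).trans ht)⟩
  refine (Fintype.prod_equiv kq _ _ fun q => ?_).symm
  induction q using Quotient.inductionOn with
  | h x =>
    show g (k ((Subgroup.inclusion he.le_left a, (1 : S)) • x)) / g (k x) =
      g ((Subgroup.inclusion he.le_right (e a), (1 : S)) • k x) / g (k x)
    rw [hk a 1 x]

end Value

theorem card_eq_orbits_mul [Finite S] [Finite X] (hX : GraphStabilizers F X) :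
    Nat.card X = Nat.card (Quotient (rightSetoid S X)) * Nat.card S := by
  rw [← Nat.card_prod]
  refine (Nat.card_congr (Equiv.ofBijective
    (fun z : Quotient (rightSetoid S X) × S => ((1 : S), z.2) • z.1.out) ⟨?_, ?_⟩)).symm
  · rintro ⟨q, t⟩ ⟨q', t'⟩ h
    simp only at h
    have hq : q = q' := by
      rw [← Quotient.out_eq q, ← Quotient.out_eq q']
      refine Quotient.sound ⟨t'⁻¹ * t, ?_⟩
      show ((1 : S), t'⁻¹ * t) • q.out = q'.out
      rw [show ((1 : S), t'⁻¹ * t) = ((1 : S), t'⁻¹) * ((1 : S), t) by simp, mul_smul, h,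
        ← mul_smul]
      simp [← Prod.one_eq_mk]
    subst hq
    have h1 := congrArg (((1 : S), t'⁻¹) • ·) h
    simp only [← mul_smul, Prod.mk_mul_mk, one_mul, inv_mul_cancel, ← Prod.one_eq_mk,
      one_smul] at h1
    simp [(inv_mul_eq_one.1 (hX.free h1)).symm]
  · intro x
    obtain ⟨t, ht⟩ := Quotient.mk_out (s := rightSetoid S X) x
    exact ⟨(Quotient.mk _ x, t), ht⟩

/-- The transfer of a saturated fusion system along a homomorphism to an abelian group. -/
theorem exists_transfer [Finite S] {p : ℕ} [Fact p.Prime] (hS : IsPGroup p S)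
    (hF : F.IsSaturated p) {M : Type v} [CommGroup M] (f : S →* M) (Z : Subgroup S)
    (hZ : ∀ z ∈ Z, ∀ (P : Subgroup Ω) (φ : P →* Ω), φ ∈ F.Hom P →
      ∀ y : P, (y : Ω) = (z : Ω) → φ y = (z : Ω)) :
    ∃ (D : S →* M) (m : ℕ), ¬ p ∣ m ∧
      (∀ (P : Subgroup Ω) (φ : P →* Ω) (hφ : φ ∈ F.Hom P) (x : P),
        D ⟨φ x, hom_mem hφ x⟩ = D ⟨x, hom_le hφ x.2⟩) ∧
      ∀ z ∈ Z, D z = ((f z)⁻¹) ^ m := by
  classical
  obtain ⟨X, _, _, hX, hst, m, hm, hpm⟩ := exists_biset hS hF
  haveI : Fintype (Quotient (rightSetoid S X)) := Fintype.ofFinite _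
  set K := Z.prod (⊤ : Subgroup S)
  let χ : K →* M := (f.comp ((MonoidHom.fst S S).comp K.subtype))⁻¹ *
    f.comp ((MonoidHom.snd S S).comp K.subtype)
  obtain ⟨g, hg⟩ := exists_equivariant (X := X) χ fun k x hk => by
    have hb : k.1.2 = k.1.1 :=
      hX.eq_of_fixed (hZ _ (Subgroup.mem_prod.1 k.2).1) (show (k.1.1, k.1.2) • x = x from hk)
    show (f k.1.1)⁻¹ * f k.1.2 = 1
    rw [hb, inv_mul_cancel]
  have hg1 : ∀ (t : S) (x : X), g (((1 : S), t) • x) = f t * g x := fun t x => by
    refine (hg ⟨(1, t), Z.one_mem, trivial⟩ x).trans ?_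
    show (f 1)⁻¹ * f t * g x = _
    rw [map_one, inv_one, one_mul]
  refine ⟨bisetTransfer f g hg1, m, hpm, fun P φ hφ x => ?_, fun z hz => ?_⟩
  · exact bisetTransfer_conj hX hst f g hg1 (isoIn_homIso hφ rfl) x
  · have hq : ∀ q, ratioAt f g hg1 z q = (f z)⁻¹ := by
      intro q
      induction q using Quotient.inductionOn with
      | h x =>
        show g ((z, (1 : S)) • x) / g x = _
        rw [show g ((z, (1 : S)) • x) = _ from hg ⟨(z, 1), hz, trivial⟩ x]
        show (f z)⁻¹ * f 1 * g x / g x = _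
        rw [map_one, mul_one, mul_div_cancel_right]
    show ∏ q, ratioAt f g hg1 z q = _
    rw [Finset.prod_congr rfl fun q _ => hq q, Finset.prod_const, Finset.card_univ,
      ← Nat.card_eq_fintype_card]
    congr 1
    exact Nat.eq_of_mul_eq_mul_right Nat.card_pos ((card_eq_orbits_mul hX).symm.trans hm)

theorem center_fixed [Finite S] (F : FusionSystem S) {z : Ω} (hz : z ∈ F.center)
    {P : Subgroup Ω} {φ : P →* Ω} (hφ : φ ∈ F.Hom P) {y : P} (hy : (y : Ω) = z) : φ y = z := by
  obtain ⟨ψ, -, h1, h2⟩ := (isCentral_center F).2 P φ hφ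
  rw [← h1 y]
  refine Eq.trans (congrArg ψ ?_) (h2 ⟨z, hz⟩)
  exact Subtype.ext hy

/-- The commutator subgroup lies in the focal subgroup. -/
theorem commutator_le_focal (F : FusionSystem S) : ⁅S, S⁆ ≤ F.focalSubgroup := by
  refine Subgroup.commutator_le.2 fun a ha b hb => ?_
  refine Subgroup.subset_closure ⟨S, conjHom S b, ⟨a⁻¹, S.inv_mem ha⟩,
    F.conj_mem le_rfl hb, ?_⟩
  show a * b * a⁻¹ * b⁻¹ = a⁻¹⁻¹ * (b * a⁻¹ * b⁻¹)
  simp [mul_assoc]

theorem focal_le (F : FusionSystem S) : F.focalSubgroup ≤ S := by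
  refine (Subgroup.closure_le _).2 ?_
  rintro _ ⟨P, φ, x, hφ, rfl⟩
  exact S.mul_mem (S.inv_mem (hom_le hφ x.2)) (hom_mem hφ x)

theorem focal_inf_center [Finite S] {p : ℕ} [Fact p.Prime] (hS : IsPGroup p S)
    (hF : F.IsSaturated p) : F.focalSubgroup ⊓ F.center = ⁅S, S⁆ ⊓ F.center := by
  refine le_antisymm ?_ (inf_le_inf_right _ (commutator_le_focal F))
  rintro z ⟨hzf, hzc⟩
  refine ⟨?_, hzc⟩
  obtain ⟨D, m, hpm, hD, hDZ⟩ := exists_transfer hS hF (Abelianization.of (G := S))
    (F.center.subgroupOf S) fun w hw P φ hφ y hy => center_fixed F hw hφ hy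
  have hker : F.focalSubgroup ≤ D.ker.map S.subtype := by
    refine (Subgroup.closure_le _).2 ?_
    rintro _ ⟨P, φ, x, hφ, rfl⟩
    refine ⟨⟨x, hom_le hφ x.2⟩⁻¹ * ⟨φ x, hom_mem hφ x⟩, ?_, rfl⟩
    show D _ = 1
    rw [map_mul, map_inv, hD P φ hφ x, inv_mul_cancel]
  obtain ⟨w, hw, hwz⟩ := hker hzf
  have hwZ : w ∈ F.center.subgroupOf S := by
    show S.subtype w ∈ F.center
    rw [hwz]
    exact hzc
  have h1 := hDZ w hwZ
  rw [show D w = 1 from hw, inv_pow, eq_comm, inv_eq_one] at h1
  obtain ⟨k, hk⟩ := hS w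
  have h2 : Abelianization.of w ^ (p ^ k) = 1 := by rw [← map_pow, hk, map_one]
  have h3 : Abelianization.of w = 1 := by
    have h4 := pow_gcd_eq_one.2 ⟨h1, h2⟩
    rwa [Nat.Coprime.pow_right k ((Nat.Prime.coprime_iff_not_dvd Fact.out).2 hpm).symm,
      pow_one] at h4
  have h5 : w ∈ commutator S := by
    rw [← Abelianization.ker_of]
    exact h3
  rw [← hwz]
  have h6 := Subgroup.mem_map_of_mem S.subtype h5
  rwa [commutator_def, Subgroup.map_commutator, ← MonoidHom.range_eq_map,
    Subgroup.range_subtype] at h6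

end Cfsg.Lib.FusionSys
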