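import Cfsg.Agent.Lib.FusionSys.ModelBiset
import Cfsg.Agent.Lib.FusionSys.Transfer
import Cfsg.Agent.Lib.FusionSys.Simple
import Cfsg.Agent.Lib.FusionSys.FactorSat
import Cfsg.Agent.Lib.Core.Cores

/-!
Models of constrained fusion systems: existence, uniqueness, rigidity.
-/

set_option autoImplicit false

universe u v w

namespace Cfsg.Lib.FusionSys

open Cfsg Cfsg.FusionSystem
open MulAction

variable {Ω : Type u} [Group Ω] {S : Subgroup Ω} {F : FusionSystem S}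

/-- The image of a subgroup of `S` in a group into which `S` maps. -/
def imageOf {G : Type v} [Group G] (ι : S →* G) (Q : Subgroup Ω) : Subgroup G :=
  (Q.subgroupOf S).map ι

theorem mem_imageOf {G : Type v} [Group G] {ι : S →* G} {Q : Subgroup Ω} {y : G} :
    y ∈ imageOf ι Q ↔ ∃ x : S, (x : Ω) ∈ Q ∧ ι x = y := Iff.rfl

theorem isSaturated_of_realized [Finite S] {p : ℕ} [Fact p.Prime] {G : Type v} [Group G] [Finite G]
    {ι : S →* G} (hr : F.IsRealizedBy ι) (hT : ∃ T : Sylow p G, (T : Subgroup G) = ι.range) :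
    F.IsSaturated p := by
  obtain ⟨T, hT⟩ := hT
  obtain ⟨hinj, hiff⟩ := hr
  let e : S ≃* (T : Subgroup G) :=
    (MonoidHom.ofInjective hinj).trans (MulEquiv.subgroupCongr hT.symm)
  let θ : (T : Subgroup G) →* Ω := S.subtype.comp e.symm.toMonoidHom
  have he : ∀ s : S, ((e s : (T : Subgroup G)) : G) = ι s := fun s => rfl
  have hθ : ∀ y : (T : Subgroup G), ι (e.symm y) = y := fun y => by
    rw [← he, MulEquiv.apply_symm_apply]
  have hker : ∀ y : (T : Subgroup G), θ y = 1 ↔ (y : G) ∈ (⊥ : Subgroup G) := by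
    intro y
    rw [Subgroup.mem_bot, OneMemClass.coe_eq_one]
    exact ⟨fun h => e.symm.injective ((Subtype.ext h : e.symm y = 1).trans e.symm.map_one.symm),
      fun h => by rw [h, map_one]⟩
  have hrange : θ.range = S := by
    ext x
    constructor
    · rintro ⟨y, rfl⟩; exact (e.symm y).2
    · intro hx; exact ⟨e ⟨x, hx⟩, by simp [θ]⟩
  have hF : (groupFusionSystem (T : Subgroup G)).IsFactorSystem ⊥ θ F := by
    refine ⟨bot_le, hker, hrange, fun P φ => ⟨fun h => ?_, ?_⟩⟩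
    · have hP := hom_le h
      refine ⟨hP, ?_⟩
      obtain ⟨g, hg⟩ := (hiff P hP φ (hom_mem h)).1 h
      let U := preimageAlong θ P
      have hU : ∀ x : U, ∃ hx : (x : G) ∈ (T : Subgroup G), ((e.symm ⟨x, hx⟩ : S) : Ω) ∈ P :=
        fun x => mem_preimageAlong.1 x.2
      have hv : ∀ x : U, conjHom U g x ∈ (T : Subgroup G) := by
        intro x
        obtain ⟨hx, hxP⟩ := hU x
        have h1 := hg ⟨_, hxP⟩
        rw [hθ ⟨x, hx⟩] at h1
        show g * x * g⁻¹ ∈ _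
        refine hT.ge ?_
        exact ⟨_, h1⟩
      refine ⟨conjHom U g, ⟨preimageAlong_le, hv, g, fun _ => rfl⟩, preimageAlong_le, hv,
        fun x => (mem_preimageAlong.1 x.2).2, fun x => ?_⟩
      obtain ⟨hx, hxP⟩ := hU x
      have h1 := hg ⟨_, hxP⟩
      rw [hθ ⟨x, hx⟩] at h1
      show φ ⟨((e.symm ⟨x, hx⟩ : S) : Ω), hxP⟩ =
        ((e.symm ⟨conjHom U g x, hv x⟩ : S) : Ω)
      have h2 : (⟨φ ⟨_, hxP⟩, hom_mem h _⟩ : S) = e.symm ⟨conjHom U g x, hv x⟩ :=
        hinj (h1.trans (hθ ⟨conjHom U g x, hv x⟩).symm)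
      exact congrArg Subtype.val h2
    · rintro ⟨hP, ψ, ⟨hUT, hψv, g, hg⟩, hi⟩
      have hv : ∀ z : P, φ z ∈ S := by
        intro z
        obtain ⟨x, hx⟩ := exists_lift_val hrange hP z
        rw [inducedAlong_apply hi hx.symm (hx' := hψv x), ← hrange]
        exact ⟨_, rfl⟩
      refine (hiff P hP φ hv).2 ⟨g, fun z => ?_⟩
      obtain ⟨x, hx⟩ := exists_lift_val hrange hP z
      have h1 := inducedAlong_apply hi hx.symm (hx' := hψv x)
      have h2 : (⟨φ z, hv z⟩ : S) = e.symm ⟨ψ x, hψv x⟩ := Subtype.ext h1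
      have h3 : (⟨z, hP z.2⟩ : S) = e.symm ⟨x, preimageAlong_le x.2⟩ := Subtype.ext hx.symm
      rw [h2, h3, hθ, hθ]
      exact hg x
  exact isSaturated_factor T.isPGroup' (isSaturated_groupFusionSystem T)
    (stronglyClosed_bot _) hF

section Models

variable {G : Type v} [Group G] {ι : S →* G} {p : ℕ}

theorem exists_of_realized {P : Subgroup Ω} (hr : F.IsRealizedBy ι) {φ : P →* Ω}
    (hφ : φ ∈ F.Hom P) :
    ∃ g : G, ∀ (x : P), ι ⟨φ x, hom_mem hφ x⟩ = g * ι ⟨x, hom_le hφ x.2⟩ * g⁻¹ :=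
  (hr.2 P (hom_le hφ) φ (hom_mem hφ)).1 hφ

/-- A conjugation in the group carrying a subgroup of `S` into `S` gives a map of the system. -/
theorem exists_hom_of_realized {P : Subgroup Ω} (hr : F.IsRealizedBy ι) (hP : P ≤ S) (g : G)
    (hg : ∀ x : P, g * ι ⟨x, hP x.2⟩ * g⁻¹ ∈ ι.range) :
    ∃ (φ : P →* Ω) (hφ : φ ∈ F.Hom P),
      ∀ x : P, ι ⟨φ x, hom_mem hφ x⟩ = g * ι ⟨x, hP x.2⟩ * g⁻¹ := by
  let c : P →* ι.range := ((MulAut.conj g).toMonoidHom.comp (ι.comp (Subgroup.inclusion hP))).codRestrict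
    ι.range hg
  let φ : P →* Ω := S.subtype.comp ((MonoidHom.ofInjective hr.1).symm.toMonoidHom.comp c)
  have hv : ∀ x, φ x ∈ S := fun x => ((MonoidHom.ofInjective hr.1).symm (c x)).2
  have he : ∀ x : P, ι ⟨φ x, hv x⟩ = g * ι ⟨x, hP x.2⟩ * g⁻¹ := fun x =>
    congrArg Subtype.val ((MonoidHom.ofInjective hr.1).apply_symm_apply (c x))
  exact ⟨φ, (hr.2 P hP φ hv).2 ⟨g, he⟩, he⟩

theorem isNormal_pCore_preimage [Finite G] [Fact p.Prime] (hr : F.IsRealizedBy ι)
    (hT : ∃ T : Sylow p G, (T : Subgroup G) = ι.range) :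
    F.IsNormal (((pCore p G).comap ι).map S.subtype) := by
  obtain ⟨T, hT⟩ := hT
  set R := ((pCore p G).comap ι).map S.subtype
  have hRS : R ≤ S := by rintro _ ⟨x, -, rfl⟩; exact x.2
  have hcore : pCore p G ≤ ι.range := hT ▸ Cfsg.Lib.Core.pCore_le_sylow T
  haveI : (pCore p G).Normal := inferInstance
  refine ⟨hRS, fun P φ hφ => ?_⟩
  have hP := hom_le hφ
  obtain ⟨g, hg⟩ := exists_of_realized hr hφ
  have hsup : (P ⊔ R).subgroupOf S = P.subgroupOf S ⊔ R.subgroupOf S :=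
    Subgroup.subgroupOf_sup hP hRS
  have hle : ((P ⊔ R).subgroupOf S).map ((MulAut.conj g).toMonoidHom.comp ι) ≤ ι.range := by
    rw [hsup, Subgroup.map_sup, sup_le_iff]
    constructor
    · rintro _ ⟨x, hx, rfl⟩
      exact ⟨_, hg ⟨x, hx⟩⟩
    · rintro _ ⟨x, hx, rfl⟩
      obtain ⟨k, hk, hke⟩ := hx
      have hxc : ι x ∈ pCore p G := by
        rw [show x = k from Subtype.ext hke.symm]
        exact hk
      exact hcore (Subgroup.Normal.conj_mem inferInstance _ hxc g)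
  obtain ⟨ψ, hψ, hψe⟩ := exists_hom_of_realized hr (sup_le hP hRS) g
    fun x => hle ⟨⟨x, sup_le hP hRS x.2⟩, x.2, rfl⟩
  refine ⟨ψ, hψ, fun x => ?_, ?_⟩
  · have h1 := hψe (Subgroup.inclusion le_sup_left x)
    rw [show (⟨((Subgroup.inclusion le_sup_left x : (P ⊔ R : Subgroup Ω)) : Ω),
      sup_le hP hRS (Subgroup.inclusion le_sup_left x).2⟩ : S) = ⟨x, hP x.2⟩ from rfl, ← hg x] at h1
    exact congrArg Subtype.val (hr.1 h1)
  · ext y
    rw [mem_map_subgroupOf]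
    constructor
    · rintro ⟨x, hx, ⟨k, hk, hke⟩, rfl⟩
      refine ⟨⟨ψ ⟨x, hx⟩, hom_mem hψ _⟩, ?_, rfl⟩
      rw [SetLike.mem_coe, Subgroup.mem_comap, hψe]
      refine Subgroup.Normal.conj_mem inferInstance _ ?_ g
      rw [show (⟨x, sup_le hP hRS hx⟩ : S) = k from Subtype.ext hke.symm]
      exact hk
    · rintro ⟨k, hk, rfl⟩
      have h1 : g⁻¹ * ι k * g ∈ pCore p G := by
        simpa using Subgroup.Normal.conj_mem inferInstance _ (show ι k ∈ pCore p G from hk) g⁻¹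
      obtain ⟨j, hj⟩ := hcore h1
      have hjR : (j : Ω) ∈ R := ⟨j, by rw [SetLike.mem_coe, Subgroup.mem_comap, hj]; exact h1, rfl⟩
      refine ⟨j, Subgroup.mem_sup_right hjR, hjR, ?_⟩
      refine congrArg Subtype.val (hr.1 ((hψe ⟨j, Subgroup.mem_sup_right hjR⟩).trans ?_) :
        (⟨ψ ⟨j, _⟩, hom_mem hψ _⟩ : S) = k)
      show g * ι j * g⁻¹ = ι k
      rw [hj]
      simp [mul_assoc]

theorem isCentric_pCore_preimage [Finite G] [Fact p.Prime] (hM : F.IsModel p G ι) :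
    F.IsCentric (((pCore p G).comap ι).map S.subtype) := by
  obtain ⟨-, hr, hT, hC⟩ := hM
  have hn := isNormal_pCore_preimage hr hT
  refine ⟨hn.1, fun U hU => ?_⟩
  haveI : Finite S := Finite.of_injective ι hr.1
  obtain ⟨φ, hφ, rfl⟩ := hU
  have hsc := isNormal_stronglyClosed hn
  rw [range_eq_of_card_le hφ hn.1 (fun x => hsc.2 _ le_rfl φ hφ x) le_rfl]
  intro c hc
  obtain ⟨hcS, hcc⟩ := mem_centralizerIn.1 hc
  refine ⟨⟨c, hcS⟩, hC ?_, rfl⟩
  rw [Subgroup.mem_centralizer_iff]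
  intro y hy
  obtain ⟨k, hk⟩ : y ∈ ι.range := by
    obtain ⟨T, hT⟩ := hT
    exact hT ▸ Cfsg.Lib.Core.pCore_le_sylow T hy
  rw [← hk, ← map_mul, ← map_mul]
  refine congrArg ι (Subtype.ext ?_)
  exact (hcc k ⟨k, by rw [SetLike.mem_coe, Subgroup.mem_comap, hk]; exact hy, rfl⟩).symm

theorem isConstrained_of_isModel [Finite S] [Fact p.Prime] (hM : F.IsModel p G ι) :
    F.IsConstrained p := by
  obtain ⟨hG, hr, hT, hC⟩ := hM
  haveI := hG
  exact ⟨isSaturated_of_realized hr hT, _, isNormal_pCore_preimage hr hT,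
    isCentric_pCore_preimage ⟨hG, hr, hT, hC⟩⟩

theorem imageOf_normal [Finite G] [Fact p.Prime] (hM : F.IsModel p G ι) {Q : Subgroup Ω}
    (hQ : F.IsNormal Q) : (imageOf ι Q).Normal := by
  obtain ⟨-, hr, hT, hC⟩ := hM
  obtain ⟨T, hT⟩ := hT
  have hcore : pCore p G ≤ ι.range := hT ▸ Cfsg.Lib.Core.pCore_le_sylow T
  set R := ((pCore p G).comap ι).map S.subtype
  have hRS : R ≤ S := by rintro _ ⟨x, -, rfl⟩; exact x.2
  refine ⟨fun y hy g => ?_⟩
  obtain ⟨φ, hφ, hφe⟩ := exists_hom_of_realized hr hRS g fun x => by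
    obtain ⟨k, hk, hke⟩ := x.2
    rw [show (⟨x, hRS x.2⟩ : S) = k from Subtype.ext hke.symm]
    exact hcore (Subgroup.Normal.conj_mem (H := pCore p G) inferInstance _ hk g)
  obtain ⟨ψ, hψ, hψe, hψQ⟩ := hQ.2 R φ hφ
  obtain ⟨g', hg'⟩ := exists_of_realized hr hψ
  have hd : g⁻¹ * g' ∈ ι.range := by
    refine hcore (hC (Subgroup.mem_centralizer_iff.2 fun z hz => ?_))
    obtain ⟨k, rfl⟩ := hcore hz
    have hkR : (k : Ω) ∈ R := ⟨k, hz, rfl⟩
    have h1 := hg' ⟨k, Subgroup.mem_sup_left hkR⟩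
    have h2 := hφe ⟨k, hkR⟩
    rw [show (⟨ψ ⟨k, Subgroup.mem_sup_left hkR⟩, hom_mem hψ _⟩ : S) =
      ⟨φ ⟨k, hkR⟩, hom_mem hφ _⟩ from Subtype.ext (hψe ⟨k, hkR⟩), h2] at h1
    change g * ι k * g⁻¹ = g' * ι k * g'⁻¹ at h1
    calc ι k * (g⁻¹ * g') = g⁻¹ * (g * ι k * g⁻¹) * g' := by group
      _ = g⁻¹ * (g' * ι k * g'⁻¹) * g' := by rw [h1]
      _ = g⁻¹ * g' * ι k := by group
  obtain ⟨s, hs⟩ := hd
  obtain ⟨x, hx, rfl⟩ := mem_imageOf.1 hy
  have hsc := isNormal_stronglyClosed hQ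
  have hxs : ((s⁻¹ * x * s : S) : Ω) ∈ Q := by
    have := stronglyClosed_conj_mem hsc (S.inv_mem s.2) hx
    simpa using this
  have h1 := hg' ⟨_, Subgroup.mem_sup_right hxs⟩
  change _ = g' * ι (s⁻¹ * x * s) * g'⁻¹ at h1
  refine mem_imageOf.2 ⟨⟨ψ ⟨_, Subgroup.mem_sup_right hxs⟩, hom_mem hψ _⟩,
    hψQ.le (mem_map_subgroupOf.2 ⟨_, _, hxs, rfl⟩), h1.trans ?_⟩
  have hg2 : g' = g * ι s := by rw [hs, mul_inv_cancel_left]
  rw [hg2, map_mul, map_mul, map_inv]
  group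

theorem centralizer_imageOf_le [Finite G] [Fact p.Prime] (hM : F.IsModel p G ι) {Q : Subgroup Ω}
    (hQ : F.IsNormal Q) (hc : centralizerIn S Q ≤ Q) :
    Subgroup.centralizer (imageOf ι Q : Set G) ≤ imageOf ι Q := by
  haveI := imageOf_normal hM hQ
  obtain ⟨-, hr, hT, hC⟩ := hM
  obtain ⟨T, hT⟩ := hT
  have hcore : pCore p G ≤ ι.range := hT ▸ Cfsg.Lib.Core.pCore_le_sylow T
  set C := Subgroup.centralizer (imageOf ι Q : Set G)
  have hCS : ∀ y ∈ C, y ∈ ι.range → y ∈ imageOf ι Q := by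
    rintro y hy ⟨k, rfl⟩
    refine mem_imageOf.2 ⟨k, hc (mem_centralizerIn.2 ⟨k.2, fun q hq => ?_⟩), rfl⟩
    have h1 := Subgroup.mem_centralizer_iff.1 hy (ι ⟨q, hQ.1 hq⟩) ⟨⟨q, hQ.1 hq⟩, hq, rfl⟩
    rw [← map_mul, ← map_mul] at h1
    exact (congrArg Subtype.val (hr.1 h1)).symm
  have hCp : IsPGroup p C := by
    rintro ⟨c, hc'⟩
    obtain ⟨k, hk⟩ := IsPGroup.iff_card.mp (Cfsg.Lib.Core.pCore_isPGroup (p := p) (G := G))
    have hn : c ^ p ^ k ∈ pCore p G := by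
      refine hC (Subgroup.mem_centralizer_iff.2 fun x hx => ?_)
      set z := x⁻¹ * (c * x * c⁻¹)
      have hzR : z ∈ pCore p G :=
        Subgroup.mul_mem _ (Subgroup.inv_mem _ hx) (Subgroup.Normal.conj_mem inferInstance _ hx c)
      have hzC : z ∈ C := by
        have hCn : C.Normal := inferInstanceAs (Subgroup.centralizer (imageOf ι Q : Set G)).Normal
        have := C.mul_mem (hCn.conj_mem _ hc' x⁻¹) (C.inv_mem hc')
        simpa [z, mul_assoc] using this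
      have hzQ := hCS z hzC (hcore hzR)
      have hcz : c * z = z * c := (Subgroup.mem_centralizer_iff.1 hc' z hzQ).symm
      have hzk : z ^ p ^ k = 1 := by
        have h3 : (⟨z, hzR⟩ : pCore p G) ^ Nat.card (pCore p G) = 1 := pow_card_eq_one'
        rw [hk] at h3
        simpa [Subtype.ext_iff] using h3
      have hpow : ∀ n : ℕ, c ^ n * x * (c ^ n)⁻¹ = x * z ^ n := by
        intro n
        induction n with
        | zero => simp
        | succ n ih =>
          rw [pow_succ' c, mul_inv_rev]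
          calc c * c ^ n * x * ((c ^ n)⁻¹ * c⁻¹) = c * (c ^ n * x * (c ^ n)⁻¹) * c⁻¹ := by group
            _ = c * x * c⁻¹ * (c * z ^ n * c⁻¹) := by rw [ih]; group
            _ = x * z * z ^ n := by
                rw [(show Commute c z from hcz).pow_right n |>.eq, mul_inv_cancel_right]
                simp [z]
            _ = x * z ^ (n + 1) := by rw [pow_succ' z, mul_assoc]
      have h4 := hpow (p ^ k)
      rw [hzk, mul_one] at h4
      exact (mul_inv_eq_iff_eq_mul.1 h4).symm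
    obtain ⟨j, hj⟩ := Cfsg.Lib.Core.pCore_isPGroup (p := p) (G := G) ⟨_, hn⟩
    refine ⟨k + j, Subtype.ext ?_⟩
    have hj' : (c ^ p ^ k) ^ p ^ j = 1 := congrArg Subtype.val hj
    rw [SubmonoidClass.coe_pow, pow_add, pow_mul]
    exact hj'
  intro c hc'
  exact hCS c hc' (hcore (Cfsg.Lib.Core.le_pCore' (Subgroup.normal_centralizer (H := imageOf ι Q)) hCp hc'))

end Models

/-! ### The biset of a model -/

/-- A group as a biset over `S` through a homomorphism. -/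
@[ext]
structure ModelPts {G : Type v} [Group G] (ι : S →* G) : Type v where
  /-- The underlying group element. -/
  val : G

instance modelPtsAction {G : Type v} [Group G] (ι : S →* G) :
    MulAction (↥S × ↥S) (ModelPts ι) where
  smul z g := ⟨ι z.1 * g.val * (ι z.2)⁻¹⟩
  one_smul g := by
    refine ModelPts.ext ?_
    show ι (1 : S) * g.val * (ι (1 : S))⁻¹ = g.val
    simp
  mul_smul a b g := by
    refine ModelPts.ext ?_
    show ι (a.1 * b.1) * g.val * (ι (a.2 * b.2))⁻¹ = ι a.1 * (ι b.1 * g.val * (ι b.2)⁻¹) * (ι a.2)⁻¹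
    simp [mul_assoc]

theorem modelPts_smul {G : Type v} [Group G] {ι : S →* G} (z : ↥S × ↥S) (g : ModelPts ι) :
    (z • g).val = ι z.1 * g.val * (ι z.2)⁻¹ := rfl

theorem modelPts_fixed_iff {G : Type v} [Group G] {ι : S →* G} (z : ↥S × ↥S) (g : ModelPts ι) :
    z • g = g ↔ ι z.1 * g.val * (ι z.2)⁻¹ = g.val := ModelPts.ext_iff

/-- The points are the group elements. -/
def modelPtsEquiv {G : Type v} [Group G] (ι : S →* G) : ModelPts ι ≃ G :=
  ⟨ModelPts.val, ModelPts.mk, fun _ => rfl, fun _ => rfl⟩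

instance modelPtsFinite {G : Type v} [Group G] [Finite G] (ι : S →* G) :
    Finite (ModelPts ι) := Finite.of_equiv _ (modelPtsEquiv ι).symm

theorem modelSet_modelPts [Finite S] {p : ℕ} [Fact p.Prime] {G : Type v} [Group G] [Finite G]
    {ι : S →* G} (hS : IsPGroup p S) (hM : F.IsModel p G ι) {Q : Subgroup Ω} (hQ : F.IsNormal Q)
    (hc : centralizerIn S Q ≤ Q) : ModelSet F p Q (ModelPts ι) := by
  obtain ⟨-, hr, ⟨T, hT⟩, -⟩ := hM
  refine ⟨isNormal_stronglyClosed hQ, hc, hS, fun g => ?_, ?_⟩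
  · let g' : G := g.val
    let P : Subgroup Ω :=
      ((ι.range).comap ((MulAut.conj g'⁻¹).toMonoidHom.comp ι)).map S.subtype
    have hP : P ≤ S := by rintro _ ⟨x, -, rfl⟩; exact x.2
    obtain ⟨φ, hφ, hφe⟩ := exists_hom_of_realized hr hP g'⁻¹ fun x => by
      obtain ⟨k, hk, hke⟩ := x.2
      rw [show (⟨x, hP x.2⟩ : S) = k from Subtype.ext hke.symm]
      exact hk
    refine ⟨P, φ, hφ, ?_⟩
    ext ⟨s, t⟩
    rw [mem_graph]
    rw [mem_stabilizer_iff, modelPts_fixed_iff]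
    show _ ↔ ι s * g' * (ι t)⁻¹ = g'
    constructor
    · rintro ⟨x, h1, h2⟩
      have h3 := hφe x
      rw [show (⟨φ x, hom_mem hφ x⟩ : S) = t from Subtype.ext h2.symm,
        show (⟨x, hP x.2⟩ : S) = s from Subtype.ext h1.symm, inv_inv] at h3
      rw [h3]
      group
    · intro h
      have h1 : ι t = g'⁻¹ * ι s * g' := by
        rw [mul_inv_eq_iff_eq_mul] at h
        rw [mul_assoc, h, inv_mul_cancel_left]
      have hsP : (s : Ω) ∈ P := ⟨s, ⟨t, by rw [h1]; simp⟩, rfl⟩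
      refine ⟨⟨s, hsP⟩, rfl, ?_⟩
      have h3 := hφe ⟨s, hsP⟩
      rw [inv_inv] at h3
      exact (congrArg Subtype.val (hr.1 (h3.trans h1.symm))).symm
  · refine ⟨(ι.range).index, ?_, hT ▸ T.not_dvd_index⟩
    rw [Nat.card_congr (modelPtsEquiv ι)]
    rw [← Subgroup.card_mul_index ι.range,
      ← Nat.card_congr (MonoidHom.ofInjective hr.1).toEquiv, mul_comm]

/-- The automorphism of `Q` induced by an element of a model. -/
noncomputable def modelAut {G : Type v} [Group G] (ι : S →* G) (hinj : Function.Injective ι)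
    {Q : Subgroup Ω} (hQS : Q ≤ S) (hn : (imageOf ι Q).Normal) : G →* MulAut Q :=
  (MulAut.congr ((Subgroup.subgroupOfEquivOfLe hQS).symm.trans
      (Subgroup.equivMapOfInjective _ ι hinj)).symm).toMonoidHom.comp
    (@MulAut.conjNormal G _ (imageOf ι Q) hn)

theorem modelAut_spec {G : Type v} [Group G] (ι : S →* G) (hinj : Function.Injective ι)
    {Q : Subgroup Ω} (hQS : Q ≤ S) (hn : (imageOf ι Q).Normal) (g : G) (q : Q) :
    ι (Subgroup.inclusion hQS (modelAut ι hinj hQS hn g q)) =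
      g * ι (Subgroup.inclusion hQS q) * g⁻¹ := by
  haveI := hn
  set e := (Subgroup.subgroupOfEquivOfLe hQS).symm.trans
    (Subgroup.equivMapOfInjective _ ι hinj)
  have he : ∀ a : Q, ((e a : imageOf ι Q) : G) = ι (Subgroup.inclusion hQS a) := fun a => rfl
  rw [← he, ← he]
  show ((e (e.symm (@MulAut.conjNormal G _ (imageOf ι Q) hn g (e q))) : imageOf ι Q) : G) = _
  exact (congrArg Subtype.val (e.apply_symm_apply _)).trans (MulAut.conjNormal_apply _ _)

theorem modelAut_eq {G : Type v} [Group G] (ι : S →* G) (hinj : Function.Injective ι)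
    {Q : Subgroup Ω} (hQS : Q ≤ S) (hn : (imageOf ι Q).Normal) {g : G} {α : MulAut Q}
    (h : ∀ q : Q, ι (Subgroup.inclusion hQS (α q)) = g * ι (Subgroup.inclusion hQS q) * g⁻¹) :
    modelAut ι hinj hQS hn g = α :=
  MulEquiv.ext fun q => Subgroup.inclusion_injective hQS
    (hinj ((modelAut_spec ι hinj hQS hn g q).trans (h q).symm))

theorem modelAut_eq_one_iff {G : Type v} [Group G] (ι : S →* G) (hinj : Function.Injective ι)
    {Q : Subgroup Ω} (hQS : Q ≤ S) (hn : (imageOf ι Q).Normal) (g : G) :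
    modelAut ι hinj hQS hn g = 1 ↔ g ∈ Subgroup.centralizer (imageOf ι Q : Set G) := by
  rw [Subgroup.mem_centralizer_iff]
  constructor
  · rintro h _ ⟨x, hx, rfl⟩
    have h1 := modelAut_spec ι hinj hQS hn g ⟨x, hx⟩
    rw [h] at h1
    exact (eq_mul_inv_iff_mul_eq.1 h1)
  · intro h
    refine modelAut_eq ι hinj hQS hn fun q => ?_
    show ι (Subgroup.inclusion hQS q) = _
    rw [← h _ ⟨_, q.2, rfl⟩, mul_inv_cancel_right]

section Embed

variable {X : Type w} [MulAction (↥S × ↥S) X] {Q : Subgroup Ω} {p : ℕ}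
variable {G : Type v} [Group G] {ι : S →* G}

/-- A model acting on an isomorphic biset. -/
noncomputable def modelToInter (hX : ModelSet F p Q X) (hinj : Function.Injective ι)
    (hn : (imageOf ι Q).Normal) (f : ModelPts ι ≃ X) (hf : ∀ (z : ↥S × ↥S) g, f (z • g) = z • f g) :
    G →* intertwiners hX.hQS X :=
  MonoidHom.codRestrict
    ((modelAut ι hinj hX.hQS hn).prod
      (MonoidHom.mk' (fun g : G =>
          f.symm.trans (((modelPtsEquiv ι).trans ((Equiv.mulLeft g).trans (modelPtsEquiv ι).symm)).trans f))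
        fun a b => Equiv.ext fun x => by
          show f ⟨(a * b) * (f.symm x).val⟩ = f ⟨a * (f.symm (f ⟨b * (f.symm x).val⟩)).val⟩
          rw [Equiv.symm_apply_apply, mul_assoc])) _
    fun g => by
      refine ⟨fun t x => ?_, fun q x => ?_⟩
      · obtain ⟨y, rfl⟩ := f.surjective x
        show f ⟨g * (f.symm (((1 : S), t) • f y)).val⟩ = ((1 : S), t) • f ⟨g * (f.symm (f y)).val⟩
        rw [← hf, ← hf, Equiv.symm_apply_apply, Equiv.symm_apply_apply]
        refine congrArg f (ModelPts.ext ?_)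
        simp [modelPts_smul, mul_assoc]
      · obtain ⟨y, rfl⟩ := f.surjective x
        show f ⟨g * (f.symm ((Subgroup.inclusion hX.hQS q, (1 : S)) • f y)).val⟩ =
          (Subgroup.inclusion hX.hQS (modelAut ι hinj hX.hQS hn g q), (1 : S)) •
            f ⟨g * (f.symm (f y)).val⟩
        rw [← hf, ← hf, Equiv.symm_apply_apply, Equiv.symm_apply_apply]
        refine congrArg f (ModelPts.ext ?_)
        simp [modelPts_smul, modelAut_spec, mul_assoc]

theorem modelToInter_ι (hX : ModelSet F p Q X) (hinj : Function.Injective ι)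
    (hn : (imageOf ι Q).Normal) (f : ModelPts ι ≃ X) (hf : ∀ (z : ↥S × ↥S) g, f (z • g) = z • f g)
    (s : S) : modelToInter hX hinj hn f hf (ι s) = leftPair hX.hQS hX.hQn X s := by
  refine Subtype.ext (Prod.ext ?_ (Equiv.ext fun x => ?_))
  · refine modelAut_eq ι hinj hX.hQS hn fun q => ?_
    rw [← map_inv, ← map_mul, ← map_mul]
    exact congrArg ι (Subtype.ext rfl)
  · obtain ⟨y, rfl⟩ := f.surjective x
    show f ⟨ι s * (f.symm (f y)).val⟩ = (s, (1 : S)) • f y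
    rw [← hf, Equiv.symm_apply_apply]
    refine congrArg f (ModelPts.ext ?_)
    simp [modelPts_smul]

variable [Finite S] [Finite X] [Fact p.Prime]

theorem modelToQuotient_bijective [Finite G] (hX : ModelSet F p Q X) (hM : F.IsModel p G ι)
    (hQ : F.IsNormal Q) (f : ModelPts ι ≃ X) (hf : ∀ (z : ↥S × ↥S) g, f (z • g) = z • f g)
    (M : Subgroup (intertwiners hX.hQS X)) [M.Normal] (hMk : M ≤ (sigmaOn hX.hQS X).ker)
    (hgen : ∀ c ∈ (sigmaOn hX.hQS X).ker, ∃ q ∈ Subgroup.center Q,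
      (leftPair hX.hQS hX.hQn X (Subgroup.inclusion hX.hQS q))⁻¹ * c ∈ M)
    (hdis : ∀ q ∈ Subgroup.center Q,
      leftPair hX.hQS hX.hQn X (Subgroup.inclusion hX.hQS q) ∈ M → q = 1) :
    Function.Bijective ((QuotientGroup.mk' M).comp
      (modelToInter hX hM.2.1.1 (imageOf_normal hM hQ) f hf)) := by
  have hinj := hM.2.1.1
  have hn := imageOf_normal hM hQ
  set θ := modelToInter hX hinj hn f hf
  constructor
  · rw [injective_iff_map_eq_one]
    intro g hg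
    have hgM : θ g ∈ M := (QuotientGroup.eq_one_iff _).1 hg
    have h1 : modelAut ι hinj hX.hQS hn g = 1 := hMk hgM
    obtain ⟨x, hx, rfl⟩ := mem_imageOf.1
      (centralizer_imageOf_le hM hQ hX.centric ((modelAut_eq_one_iff ι hinj hX.hQS hn g).1 h1))
    have hz : (⟨x, hx⟩ : Q) ∈ Subgroup.center Q := by
      refine Subgroup.mem_center_iff.2 fun y => ?_
      have h2 := modelAut_spec ι hinj hX.hQS hn (ι x) y
      rw [h1] at h2
      have h3 : ι (Subgroup.inclusion hX.hQS y) * ι x = ι x * ι (Subgroup.inclusion hX.hQS y) :=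
        eq_mul_inv_iff_mul_eq.1 h2
      rw [← map_mul, ← map_mul] at h3
      exact Subtype.ext (show (y : Ω) * x = x * y from congrArg Subtype.val (hinj h3))
    have := hdis ⟨x, hx⟩ hz (by
      have h4 : Subgroup.inclusion hX.hQS ⟨x, hx⟩ = x := Subtype.ext rfl
      rw [h4, ← modelToInter_ι hX hinj hn f hf]
      exact hgM)
    rw [show x = 1 from Subtype.ext (congrArg Subtype.val this : (x : Ω) = 1), map_one]
  · intro y
    obtain ⟨z, rfl⟩ := QuotientGroup.mk'_surjective M y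
    have hα := (mem_autGroup hX.hQS).1 (hX.sigmaOn_mem z)
    obtain ⟨g, hg⟩ := exists_of_realized hM.2.1 hα
    have hgα : modelAut ι hinj hX.hQS hn g = sigmaOn hX.hQS X z :=
      modelAut_eq ι hinj hX.hQS hn fun q => hg q
    have hk : (θ g)⁻¹ * z ∈ (sigmaOn hX.hQS X).ker := by
      rw [MonoidHom.mem_ker, map_mul, map_inv,
        show sigmaOn hX.hQS X (θ g) = modelAut ι hinj hX.hQS hn g from rfl, hgα, inv_mul_cancel]
    obtain ⟨q, -, hq⟩ := hgen _ hk
    refine ⟨g * ι (Subgroup.inclusion hX.hQS q), ?_⟩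
    rw [MonoidHom.comp_apply, map_mul θ, QuotientGroup.mk'_apply, QuotientGroup.mk'_apply,
      QuotientGroup.eq, modelToInter_ι hX hinj hn f hf, mul_inv_rev, mul_assoc]
    exact hq

end Embed

/-! ### Uniqueness, rigidity, existence -/

theorem card_centralizer_model {p : ℕ} [Fact p.Prime] [Finite S] {G : Type v} {G' : Type w}
    [Group G] [Group G'] {ι : S →* G} {ι' : S →* G'} (hM : F.IsModel p G ι)
    (hM' : F.IsModel p G' ι') {Q : Subgroup Ω} (hQ : F.IsNormal Q) (hc : centralizerIn S Q ≤ Q)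
    (U : Subgroup S) :
    Nat.card (Subgroup.centralizer (U.map ι : Set G)) =
      Nat.card (Subgroup.centralizer (U.map ι' : Set G')) := by
  haveI := hM.1
  haveI := hM'.1
  have hQS := hQ.1
  let r := (modelAut ι hM.2.1.1 hQS (imageOf_normal hM hQ)).comp
    (Subgroup.centralizer (U.map ι : Set G)).subtype
  let r' := (modelAut ι' hM'.2.1.1 hQS (imageOf_normal hM' hQ)).comp
    (Subgroup.centralizer (U.map ι' : Set G')).subtype
  have hUS : U.map S.subtype ≤ S := by rintro _ ⟨x, -, rfl⟩; exact x.2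
  have hrange : r.range = r'.range := by
    refine le_antisymm ?_ ?_
    · rintro _ ⟨⟨g, hg⟩, rfl⟩
      haveI := imageOf_normal hM hQ
      have hle : ((U.map S.subtype ⊔ Q).subgroupOf S).map
          ((MulAut.conj g).toMonoidHom.comp ι) ≤ ι.range := by
        rw [Subgroup.subgroupOf_sup hUS hQS, Subgroup.map_sup, sup_le_iff]
        constructor
        · rintro _ ⟨x, ⟨k, hk, hke⟩, rfl⟩
          show g * ι x * g⁻¹ ∈ ι.range
          rw [show x = k from Subtype.ext hke.symm,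
            ← Subgroup.mem_centralizer_iff.1 hg (ι k) ⟨k, hk, rfl⟩, mul_inv_cancel_right]
          exact ⟨k, rfl⟩
        · rintro _ ⟨x, hx, rfl⟩
          obtain ⟨y, -, hy⟩ := mem_imageOf.1
            (Subgroup.Normal.conj_mem inferInstance _ (mem_imageOf.2 ⟨x, hx, rfl⟩) g :
              g * ι x * g⁻¹ ∈ imageOf ι Q)
          exact ⟨y, hy⟩
      obtain ⟨ψ, hψ, hψe⟩ := exists_hom_of_realized hM.2.1 (sup_le hUS hQS) g
        fun x => hle ⟨⟨x, sup_le hUS hQS x.2⟩, x.2, rfl⟩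
      obtain ⟨g', hg'⟩ := exists_of_realized hM'.2.1 hψ
      have hg'c : g' ∈ Subgroup.centralizer (U.map ι' : Set G') := by
        rw [Subgroup.mem_centralizer_iff]
        rintro _ ⟨k, hk, rfl⟩
        have hkU : (k : Ω) ∈ U.map S.subtype ⊔ Q := Subgroup.mem_sup_left ⟨k, hk, rfl⟩
        have h1 := hψe ⟨k, hkU⟩
        change _ = g * ι k * g⁻¹ at h1
        rw [← Subgroup.mem_centralizer_iff.1 hg (ι k) ⟨k, hk, rfl⟩, mul_inv_cancel_right] at h1
        have h2 := hg' ⟨k, hkU⟩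
        rw [hM.2.1.1 h1] at h2
        exact eq_mul_inv_iff_mul_eq.1 h2
      refine ⟨⟨g', hg'c⟩, modelAut_eq ι' hM'.2.1.1 hQS (imageOf_normal hM' hQ) fun q => ?_⟩
      have h1 := hψe ⟨q, Subgroup.mem_sup_right q.2⟩
      have h2 := hg' ⟨q, Subgroup.mem_sup_right q.2⟩
      rw [hM.2.1.1 (h1.trans (modelAut_spec ι hM.2.1.1 hQS (imageOf_normal hM hQ) g q).symm)] at h2
      exact h2
    · rintro _ ⟨⟨g, hg⟩, rfl⟩
      haveI := imageOf_normal hM' hQ
      have hle : ((U.map S.subtype ⊔ Q).subgroupOf S).map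
          ((MulAut.conj g).toMonoidHom.comp ι') ≤ ι'.range := by
        rw [Subgroup.subgroupOf_sup hUS hQS, Subgroup.map_sup, sup_le_iff]
        constructor
        · rintro _ ⟨x, ⟨k, hk, hke⟩, rfl⟩
          show g * ι' x * g⁻¹ ∈ ι'.range
          rw [show x = k from Subtype.ext hke.symm,
            ← Subgroup.mem_centralizer_iff.1 hg (ι' k) ⟨k, hk, rfl⟩, mul_inv_cancel_right]
          exact ⟨k, rfl⟩
        · rintro _ ⟨x, hx, rfl⟩
          obtain ⟨y, -, hy⟩ := mem_imageOf.1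
            (Subgroup.Normal.conj_mem inferInstance _ (mem_imageOf.2 ⟨x, hx, rfl⟩) g :
              g * ι' x * g⁻¹ ∈ imageOf ι' Q)
          exact ⟨y, hy⟩
      obtain ⟨ψ, hψ, hψe⟩ := exists_hom_of_realized hM'.2.1 (sup_le hUS hQS) g
        fun x => hle ⟨⟨x, sup_le hUS hQS x.2⟩, x.2, rfl⟩
      obtain ⟨g', hg'⟩ := exists_of_realized hM.2.1 hψ
      have hg'c : g' ∈ Subgroup.centralizer (U.map ι : Set G) := by
        rw [Subgroup.mem_centralizer_iff]
        rintro _ ⟨k, hk, rfl⟩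
        have hkU : (k : Ω) ∈ U.map S.subtype ⊔ Q := Subgroup.mem_sup_left ⟨k, hk, rfl⟩
        have h1 := hψe ⟨k, hkU⟩
        change _ = g * ι' k * g⁻¹ at h1
        rw [← Subgroup.mem_centralizer_iff.1 hg (ι' k) ⟨k, hk, rfl⟩, mul_inv_cancel_right] at h1
        have h2 := hg' ⟨k, hkU⟩
        rw [hM'.2.1.1 h1] at h2
        exact eq_mul_inv_iff_mul_eq.1 h2
      refine ⟨⟨g', hg'c⟩, modelAut_eq ι hM.2.1.1 hQS (imageOf_normal hM hQ) fun q => ?_⟩
      have h1 := hψe ⟨q, Subgroup.mem_sup_right q.2⟩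
      have h2 := hg' ⟨q, Subgroup.mem_sup_right q.2⟩
      rw [hM'.2.1.1 (h1.trans (modelAut_spec ι' hM'.2.1.1 hQS (imageOf_normal hM' hQ) g q).symm)] at h2
      exact h2
  -- both kernels are the images of the same subgroup of `S`
  let Z : Subgroup S := Q.subgroupOf S ⊓ Subgroup.centralizer (Q.subgroupOf S : Set S) ⊓
    Subgroup.centralizer (U : Set S)
  have hk1 : Nat.card r.ker = Nat.card Z := by
    refine (Nat.card_congr (Equiv.ofBijective (fun z : Z => (⟨⟨ι z, ?_⟩, ?_⟩ : r.ker)) ⟨?_, ?_⟩)).symm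
    · rw [Subgroup.mem_centralizer_iff]
      rintro _ ⟨k, hk, rfl⟩
      rw [← map_mul, ← map_mul, Subgroup.mem_centralizer_iff.1 z.2.2 k hk]
    · refine (modelAut_eq_one_iff ι hM.2.1.1 hQS (imageOf_normal hM hQ) _).2 (Subgroup.mem_centralizer_iff.2 ?_)
      rintro _ ⟨k, hk, rfl⟩
      show ι k * ι z = ι z * ι k
      rw [← map_mul, ← map_mul, Subgroup.mem_centralizer_iff.1 z.2.1.2 k hk]
    · intro a b hab
      exact Subtype.ext (hM.2.1.1 (congrArg (fun y => ((Subtype.val y : Subgroup.centralizer _) : G)) hab))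
    · rintro ⟨⟨g, hg⟩, hgk⟩
      have hgC := (modelAut_eq_one_iff ι hM.2.1.1 hQS (imageOf_normal hM hQ) g).1 hgk
      obtain ⟨x, hx, rfl⟩ := mem_imageOf.1 (centralizer_imageOf_le hM hQ hc hgC)
      refine ⟨⟨x, ⟨hx, Subgroup.mem_centralizer_iff.2 fun k hk => ?_⟩,
        Subgroup.mem_centralizer_iff.2 fun k hk => ?_⟩, rfl⟩
      · exact hM.2.1.1 (by rw [map_mul, map_mul]; exact Subgroup.mem_centralizer_iff.1 hgC _ ⟨k, hk, rfl⟩)
      · exact hM.2.1.1 (by rw [map_mul, map_mul]; exact Subgroup.mem_centralizer_iff.1 hg _ ⟨k, hk, rfl⟩)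
  have hk2 : Nat.card r'.ker = Nat.card Z := by
    refine (Nat.card_congr (Equiv.ofBijective (fun z : Z => (⟨⟨ι' z, ?_⟩, ?_⟩ : r'.ker)) ⟨?_, ?_⟩)).symm
    · rw [Subgroup.mem_centralizer_iff]
      rintro _ ⟨k, hk, rfl⟩
      rw [← map_mul, ← map_mul, Subgroup.mem_centralizer_iff.1 z.2.2 k hk]
    · refine (modelAut_eq_one_iff ι' hM'.2.1.1 hQS (imageOf_normal hM' hQ) _).2 (Subgroup.mem_centralizer_iff.2 ?_)
      rintro _ ⟨k, hk, rfl⟩
      show ι' k * ι' z = ι' z * ι' k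
      rw [← map_mul, ← map_mul, Subgroup.mem_centralizer_iff.1 z.2.1.2 k hk]
    · intro a b hab
      exact Subtype.ext (hM'.2.1.1 (congrArg (fun y => ((Subtype.val y : Subgroup.centralizer _) : G')) hab))
    · rintro ⟨⟨g, hg⟩, hgk⟩
      have hgC := (modelAut_eq_one_iff ι' hM'.2.1.1 hQS (imageOf_normal hM' hQ) g).1 hgk
      obtain ⟨x, hx, rfl⟩ := mem_imageOf.1 (centralizer_imageOf_le hM' hQ hc hgC)
      refine ⟨⟨x, ⟨hx, Subgroup.mem_centralizer_iff.2 fun k hk => ?_⟩,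
        Subgroup.mem_centralizer_iff.2 fun k hk => ?_⟩, rfl⟩
      · exact hM'.2.1.1 (by rw [map_mul, map_mul]; exact Subgroup.mem_centralizer_iff.1 hgC _ ⟨k, hk, rfl⟩)
      · exact hM'.2.1.1 (by rw [map_mul, map_mul]; exact Subgroup.mem_centralizer_iff.1 hg _ ⟨k, hk, rfl⟩)
  rw [← Subgroup.card_mul_index r.ker, ← Subgroup.card_mul_index r'.ker, Subgroup.index_ker,
    Subgroup.index_ker, hk1, hk2, hrange]

theorem card_fixed_model {p : ℕ} [Fact p.Prime] [Finite S] {G : Type v} [Group G] {ι : S →* G}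
    (hM : F.IsModel p G ι) (E : Subgroup (↥S × ↥S)) {g₀ : ModelPts ι}
    (h₀ : ∀ e ∈ E, e • g₀ = g₀) :
    mark (ModelPts ι) E =
      Nat.card (Subgroup.centralizer ((E.map (MonoidHom.snd S S)).map ι : Set G)) := by
  refine Nat.card_congr
    { toFun := fun g => ⟨g₀.val⁻¹ * g.1.val, ?_⟩
      invFun := fun c => ⟨⟨g₀.val * c⟩, ?_⟩
      left_inv := fun g => Subtype.ext (ModelPts.ext (mul_inv_cancel_left _ _))
      right_inv := fun c => Subtype.ext (inv_mul_cancel_left _ _) }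
  · rw [Subgroup.mem_centralizer_iff]
    rintro _ ⟨_, ⟨e, he, rfl⟩, rfl⟩
    have h1 : ι e.1 * g₀.val * (ι e.2)⁻¹ = g₀.val := congrArg ModelPts.val (h₀ e he)
    have h2 : ι e.1 * g.1.val * (ι e.2)⁻¹ = g.1.val := congrArg ModelPts.val (g.2 e he)
    rw [mul_inv_eq_iff_eq_mul] at h1 h2
    have h3 : ι e.1 = g₀.val * ι e.2 * g₀.val⁻¹ := eq_mul_inv_iff_mul_eq.2 h1
    rw [h3] at h2
    show ι e.2 * (g₀.val⁻¹ * g.1.val) = g₀.val⁻¹ * g.1.val * ι e.2
    rw [mul_assoc _ g.1.val, ← h2]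
    group
  · intro e he
    have h1 : ι e.1 * g₀.val * (ι e.2)⁻¹ = g₀.val := congrArg ModelPts.val (h₀ e he)
    refine ModelPts.ext ?_
    show ι e.1 * (g₀.val * c) * (ι e.2)⁻¹ = g₀.val * c
    have hc := Subgroup.mem_centralizer_iff.1 c.2 (ι e.2) ⟨_, ⟨e, he, rfl⟩, rfl⟩
    rw [mul_inv_eq_iff_eq_mul] at h1 ⊢
    rw [← mul_assoc, h1, mul_assoc, hc, ← mul_assoc]

theorem exists_fixed_of_model {p : ℕ} {G : Type v} {G' : Type w} [Group G] [Group G']
    {ι : S →* G} {ι' : S →* G'} (hM : F.IsModel p G ι) (hM' : F.IsModel p G' ι')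
    (E : Subgroup (↥S × ↥S)) {g₀ : ModelPts ι} (h₀ : ∀ e ∈ E, e • g₀ = g₀) :
    ∃ g₁ : ModelPts ι', ∀ e ∈ E, e • g₁ = g₁ := by
  let g : G := g₀.val
  let P : Subgroup Ω := (E.map (MonoidHom.snd S S)).map S.subtype
  have hP : P ≤ S := by rintro _ ⟨x, -, rfl⟩; exact x.2
  have hv : ∀ e ∈ E, g * ι e.2 * g⁻¹ = ι e.1 := by
    intro e he
    have h1 : ι e.1 * g * (ι e.2)⁻¹ = g := congrArg ModelPts.val (h₀ e he)
    rw [mul_inv_eq_iff_eq_mul] at h1
    rw [← h1, mul_inv_cancel_right]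
  obtain ⟨φ, hφ, hφe⟩ := exists_hom_of_realized hM.2.1 hP g fun x => by
    obtain ⟨k, ⟨e, he, rfl⟩, hke⟩ := x.2
    rw [show (⟨x, hP x.2⟩ : S) = e.2 from Subtype.ext hke.symm, hv e he]
    exact ⟨_, rfl⟩
  obtain ⟨g', hg'⟩ := exists_of_realized hM'.2.1 hφ
  refine ⟨⟨g'⟩, fun e he => ?_⟩
  refine ModelPts.ext ?_
  show ι' e.1 * g' * (ι' e.2)⁻¹ = g'
  have hx : (e.2 : Ω) ∈ P := ⟨e.2, ⟨e, he, rfl⟩, rfl⟩
  have h2 := hφe ⟨e.2, hx⟩
  change _ = g * ι e.2 * g⁻¹ at h2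
  rw [hv e he] at h2
  have h3 := hg' ⟨e.2, hx⟩
  rw [hM.2.1.1 h2] at h3
  change ι' e.1 = g' * ι' e.2 * g'⁻¹ at h3
  rw [h3]
  group

theorem exists_model_equiv {p : ℕ} [Fact p.Prime] [Finite S] {G : Type v} {G' : Type w}
    [Group G] [Group G'] {ι : S →* G} {ι' : S →* G'} (hS : IsPGroup p S)
    (hc : F.IsConstrained p) (hM : F.IsModel p G ι) (hM' : F.IsModel p G' ι') :
    ∃ φ : G ≃* G', ∀ x : S, φ (ι x) = ι' x := by
  haveI := hM.1
  haveI := hM'.1
  obtain ⟨-, Q, hQ, hQc⟩ := hc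
  have hC : centralizerIn S Q ≤ Q := hQc.2 Q (isConj_refl F hQ.1)
  have hm : ∀ E : Subgroup (↥S × ↥S), mark (ModelPts ι) E = mark (ModelPts ι') E := by
    intro E
    by_cases h : ∃ g₀ : ModelPts ι, ∀ e ∈ E, e • g₀ = g₀
    · obtain ⟨g₀, h₀⟩ := h
      obtain ⟨g₁, h₁⟩ := exists_fixed_of_model hM hM' E h₀
      rw [card_fixed_model hM E h₀, card_fixed_model hM' E h₁]
      exact card_centralizer_model hM hM' hQ hC _
    · have h1 : IsEmpty {x : ModelPts ι // ∀ e ∈ E, e • x = x} := ⟨fun x => h ⟨x.1, x.2⟩⟩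
      have h2 : IsEmpty {x : ModelPts ι' // ∀ e ∈ E, e • x = x} :=
        ⟨fun x => h (exists_fixed_of_model hM' hM E x.2)⟩
      simp only [mark, Nat.card_of_isEmpty]
  obtain ⟨f, hf⟩ := exists_equiv_of_marks (Nat.card (ModelPts ι)) le_rfl hm
  have hX := modelSet_modelPts hS hM' hQ hC
  obtain ⟨M, hMn, hMk, hgen, hdis⟩ := hX.exists_model_kernel
  haveI := hMn
  let e₁ := MulEquiv.ofBijective _ (modelToQuotient_bijective hX hM hQ f hf M hMk hgen hdis)
  let e₂ := MulEquiv.ofBijective _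
    (modelToQuotient_bijective hX hM' hQ (Equiv.refl _) (fun _ _ => rfl) M hMk hgen hdis)
  refine ⟨e₁.trans e₂.symm, fun x => ?_⟩
  rw [MulEquiv.trans_apply, MulEquiv.symm_apply_eq]
  exact congrArg (QuotientGroup.mk' M)
    ((modelToInter_ι hX _ _ _ _ x).trans (modelToInter_ι hX _ _ _ _ x).symm)

theorem model_rigid {p : ℕ} [Fact p.Prime] [Finite S] {G : Type v} [Group G] {ι : S →* G}
    (hS : IsPGroup p S) (hc : F.IsConstrained p) (hM : F.IsModel p G ι) (ψ : G ≃* G)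
    (hψ : ∀ x : S, ψ (ι x) = ι x) :
    ∃ z : S, z ∈ Subgroup.center S ∧ ∀ g : G, ψ g = ι z * g * (ι z)⁻¹ := by
  haveI := hM.1
  obtain ⟨-, Q, hQ, hQc⟩ := hc
  have hC : centralizerIn S Q ≤ Q := hQc.2 Q (isConj_refl F hQ.1)
  have hX := modelSet_modelPts hS hM hQ hC
  obtain ⟨M, hMn, hMk, hgen, hdis⟩ := hX.exists_model_kernel
  haveI := hMn
  have hn := imageOf_normal hM hQ
  have hb := modelToQuotient_bijective hX hM hQ (Equiv.refl _) (fun _ _ => rfl) M hMk hgen hdis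
  set θ := modelToInter hX hM.2.1.1 hn (Equiv.refl _) (fun _ _ => rfl)
  let c : intertwiners hX.hQS (ModelPts ι) :=
    ⟨(1, (modelPtsEquiv ι).trans (ψ.toEquiv.trans (modelPtsEquiv ι).symm)), fun t x => by
      refine ModelPts.ext ?_
      show ψ (ι (1 : S) * x.val * (ι t)⁻¹) = ι (1 : S) * ψ x.val * (ι t)⁻¹
      rw [map_mul, map_mul, map_inv ψ, hψ, hψ],
    fun q x => by
      refine ModelPts.ext ?_
      show ψ (ι _ * x.val * (ι (1 : S))⁻¹) =
        ι (Subgroup.inclusion hX.hQS q) * ψ x.val * (ι (1 : S))⁻¹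
      rw [map_mul, map_mul, map_inv ψ, hψ, hψ]⟩
  obtain ⟨q, -, hq⟩ := hgen c rfl
  set z := Subgroup.inclusion hX.hQS q
  have hmk : QuotientGroup.mk' M c = QuotientGroup.mk' M (θ (ι z)) := by
    refine Eq.trans ?_ (congrArg (QuotientGroup.mk' M) (modelToInter_ι hX _ _ _ _ z)).symm
    exact (QuotientGroup.eq.2 hq).symm
  have key : ∀ g : G, ψ g = ι z * g * (ι z)⁻¹ := by
    intro g
    apply hb.1
    have h1 : θ (ψ g) = c * θ g * c⁻¹ := by
      refine eq_mul_inv_iff_mul_eq.2 (Subtype.ext (Prod.ext ?_ (Equiv.ext fun x => ?_)))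
      · show modelAut ι hM.2.1.1 hX.hQS hn (ψ g) * 1 = 1 * modelAut ι hM.2.1.1 hX.hQS hn g
        rw [mul_one, one_mul]
        refine modelAut_eq ι hM.2.1.1 hX.hQS hn fun y => ?_
        rw [← hψ (Subgroup.inclusion hX.hQS y), ← map_inv ψ, ← map_mul, ← map_mul, ← modelAut_spec ι
          hM.2.1.1 hX.hQS hn g y, hψ]
      · refine ModelPts.ext ?_
        show ψ g * ψ x.val = ψ (g * x.val)
        rw [map_mul]
    show QuotientGroup.mk' M (θ (ψ g)) = QuotientGroup.mk' M (θ (ι z * g * (ι z)⁻¹))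
    rw [h1, map_mul θ, map_mul θ, map_inv θ]
    simp only [map_mul, map_inv, hmk]
  refine ⟨z, Subgroup.mem_center_iff.2 fun s => hM.2.1.1 ?_, key⟩
  have h := key (ι s)
  rw [hψ] at h
  rw [map_mul, map_mul]
  exact eq_mul_inv_iff_mul_eq.1 h

theorem exists_model [Finite S] {p : ℕ} [Fact p.Prime] (hS : IsPGroup p S)
    (hc : F.IsConstrained p) : ∃ (G : Type u) (_ : Group G) (ι : S →* G), F.IsModel p G ι := by
  obtain ⟨hF, Q, hQ, hQc⟩ := hc
  have hC : centralizerIn S Q ≤ Q := hQc.2 Q (isConj_refl F hQ.1)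
  obtain ⟨X, instX, hXfin, hgraph, hst, m, hcard, hm⟩ := exists_biset hS hF
  haveI := hXfin
  have hX : ModelSet F p Q X := by
    refine ⟨isNormal_stronglyClosed hQ, hC, hS, fun x => ?_, m, hcard, hm⟩
    obtain ⟨R, P, φ, hφ, -, hD⟩ := hgraph x
    exact ⟨P, φ, hφ, hD⟩
  obtain ⟨M, hMn, hMk, hgen, hdis⟩ := hX.exists_model_kernel
  haveI := hMn
  haveI := finite_of_le hX.hQS
  haveI : Finite (MulAut Q) := Finite.of_injective MulEquiv.toEquiv MulEquiv.toEquiv_injective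
  have hinjL := hX.leftPair_injective
  let L := leftPair hX.hQS hX.hQn X
  let ι : S →* intertwiners hX.hQS X ⧸ M := (QuotientGroup.mk' M).comp L
  have hconj1 : ∀ s, sigmaOn hX.hQS X (L s) = conjOn hX.hQn s := fun s => rfl
  have hι : Function.Injective ι := by
    rw [injective_iff_map_eq_one]
    intro s hs
    have hsM : L s ∈ M := (QuotientGroup.eq_one_iff _).1 hs
    obtain ⟨hm, hcen⟩ := hX.mem_of_conjOn_eq_one (show conjOn hX.hQn s = 1 from hMk hsM)
    exact Subtype.ext (congrArg Subtype.val (hdis ⟨s, hm⟩ hcen hsM) : (s : Ω) = 1)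
  let σbar : intertwiners hX.hQS X ⧸ M →* MulAut Q := QuotientGroup.lift M (sigmaOn hX.hQS X) hMk
  have hkσ : ∀ g, σbar g = 1 → ∃ q ∈ Subgroup.center Q, g = ι (Subgroup.inclusion hX.hQS q) := by
    intro g hg
    obtain ⟨z, rfl⟩ := QuotientGroup.mk'_surjective M g
    obtain ⟨q, hq, hqz⟩ := hgen z hg
    exact ⟨q, hq, (QuotientGroup.eq.2 hqz).symm⟩
  have hσconj : ∀ g (q : Q), g * ι (Subgroup.inclusion hX.hQS q) * g⁻¹ =
      ι (Subgroup.inclusion hX.hQS (σbar g q)) := by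
    intro g q
    obtain ⟨z, rfl⟩ := QuotientGroup.mk'_surjective M g
    show QuotientGroup.mk' M z * QuotientGroup.mk' M _ * (QuotientGroup.mk' M z)⁻¹ = _
    rw [← map_inv, ← map_mul, ← map_mul]
    refine congrArg (QuotientGroup.mk' M) (mul_inv_eq_iff_eq_mul.2 ?_)
    refine Subtype.ext (Prod.ext ?_ (Equiv.ext fun x => intertwiner_left z q x))
    apply MulEquiv.ext
    intro y
    refine Subtype.ext ?_
    show ((sigmaOn hX.hQS X z (conjOn hX.hQn (Subgroup.inclusion hX.hQS q) y) : Q) : Ω) =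
      ((conjOn hX.hQn (Subgroup.inclusion hX.hQS (sigmaOn hX.hQS X z q))
        (sigmaOn hX.hQS X z y) : Q) : Ω)
    have h1 : conjOn hX.hQn (Subgroup.inclusion hX.hQS q) y = q * y * q⁻¹ := Subtype.ext rfl
    rw [h1, map_mul, map_mul, map_inv]
    rfl
  -- maps of the system are realized
  have hfwd : ∀ (P : Subgroup Ω) (φ : P →* Ω) (hφ : φ ∈ F.Hom P), ∃ g : intertwiners hX.hQS X ⧸ M, ∀ x : P,
      ι ⟨φ x, hom_mem hφ x⟩ = g * ι ⟨x, hom_le hφ x.2⟩ * g⁻¹ := by
    intro P φ hφ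
    obtain ⟨ψ, hψ, hψe, hψQ⟩ := hQ.2 P φ hφ
    obtain ⟨γ, hγ⟩ := exists_twist_equiv hgraph hst (isoIn_homIso hψ (rfl : ψ.range = ψ.range))
    have hres := restrict_mem hψ (le_sup_right : Q ≤ P ⊔ Q)
    have hr := range_eq_of_card_le hres hX.hQS
      (fun q => hψQ.le (mem_map_subgroupOf.2 ⟨q, Subgroup.mem_sup_right q.2, q.2, rfl⟩)) le_rfl
    let z : intertwiners hX.hQS X := ⟨(homIso hres hr, γ), fun t x => by
        have h1 := hγ 1 t x
        simpa using h1,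
      fun q x => hγ (Subgroup.inclusion le_sup_right q) 1 x⟩
    refine ⟨QuotientGroup.mk' M z, fun x => ?_⟩
    show QuotientGroup.mk' M _ = QuotientGroup.mk' M z * QuotientGroup.mk' M _ *
      (QuotientGroup.mk' M z)⁻¹
    rw [← map_inv, ← map_mul, ← map_mul]
    refine congrArg (QuotientGroup.mk' M) (eq_mul_inv_iff_mul_eq.2 ?_)
    refine Subtype.ext (Prod.ext ?_ (Equiv.ext fun y => ?_))
    · apply MulEquiv.ext
      intro q
      refine Subtype.ext ?_
      have hxq : (x : Ω) * q * (x : Ω)⁻¹ ∈ Q :=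
        stronglyClosed_conj_mem hX.closed (hom_le hφ x.2) q.2
      show φ x * ψ (Subgroup.inclusion le_sup_right q) * (φ x)⁻¹ =
        ψ (Subgroup.inclusion le_sup_right ⟨(x : Ω) * q * (x : Ω)⁻¹, hxq⟩)
      rw [← hψe x, ← map_inv, ← map_mul, ← map_mul]
      rfl
    · show ((⟨φ x, hom_mem hφ x⟩ : S), (1 : S)) • γ y =
        γ (((⟨(x : Ω), hom_le hφ x.2⟩ : S), (1 : S)) • y)
      refine Eq.trans ?_ (hγ (Subgroup.inclusion le_sup_left x) 1 y).symm
      refine congrArg (fun a : S => (a, (1 : S)) • γ y) (Subtype.ext ?_)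
      exact (hψe x).symm
  have hσsurj : ∀ α ∈ F.autGroup Q, ∃ g, σbar g = α := by
    intro α hα
    obtain ⟨g, hg⟩ := hfwd Q _ ((mem_autGroup hX.hQS).1 hα)
    refine ⟨g, MulEquiv.ext fun q => Subgroup.inclusion_injective hX.hQS (hι ?_)⟩
    exact (hσconj g q).symm.trans (hg q).symm
  have hσmem : ∀ g, σbar g ∈ F.autGroup Q := by
    intro g
    obtain ⟨z, rfl⟩ := QuotientGroup.mk'_surjective M g
    exact hX.sigmaOn_mem z
  have hrp : IsPGroup p ι.range := hS.of_surjective ι.rangeRestrict ι.rangeRestrict_surjective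
  have hidx : ¬ p ∣ ι.range.index := by
    let π : intertwiners hX.hQS X ⧸ M →* F.autGroup Q := σbar.codRestrict _ hσmem
    have hπ : Function.Surjective π := fun α => by
      obtain ⟨g, hg⟩ := hσsurj α α.2
      exact ⟨g, Subtype.ext hg⟩
    have hkle : π.ker ≤ ι.range := by
      intro g hg
      obtain ⟨q, -, rfl⟩ := hkσ g (congrArg Subtype.val hg)
      exact ⟨_, rfl⟩
    rw [← Subgroup.index_map_eq ι.range hπ hkle]
    have hfn : F.IsFullyNormalized Q :=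
      ⟨hX.hQS, fun R hR => by
        obtain ⟨φ, hφ, rfl⟩ := hR
        rw [range_eq_of_card_le hφ hX.hQS
          (fun y => hX.closed.2 _ le_rfl φ hφ y) le_rfl]⟩
    obtain ⟨-, -, R, hR⟩ := isFullyAutomized_and_fc_of_fn hS hF hfn
    have heq : ι.range.map π = (R : Subgroup (F.autGroup Q)) := by
      rw [hR]
      ext α
      rw [Subgroup.mem_subgroupOf, mem_autInducedBy]
      constructor
      · rintro ⟨_, ⟨s, rfl⟩, rfl⟩
        exact ⟨s, s.2, fun q => rfl⟩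
      · rintro ⟨a, ha, hae⟩
        exact ⟨_, ⟨⟨a, ha⟩, rfl⟩, Subtype.ext (MulEquiv.ext fun q => Subtype.ext (hae q).symm)⟩
    rw [heq]
    exact R.not_dvd_index
  refine ⟨intertwiners hX.hQS X ⧸ M, inferInstance, ι, inferInstance,
    ⟨hι, fun P hP φ hv => ⟨fun hφ => hfwd P φ hφ, ?_⟩⟩, ⟨hrp.toSylow hidx, rfl⟩, ?_⟩
  · rintro ⟨g, hg⟩
    have hrec : F.IsReceptive Q :=
      isReceptive_of_fc hS hF (isFullyCentralized_of_isCentric hQc)
    have hαi := (mem_autGroup hX.hQS).1 (hσmem g)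
    obtain ⟨ψ, hψ, hψe⟩ := hrec.2 Q _ hαi (by
      ext y
      exact ⟨by rintro ⟨q, rfl⟩; exact (σbar g q).2,
        fun hy => ⟨(σbar g).symm ⟨y, hy⟩, by simp⟩⟩)
    have hR : P ⊔ Q ≤ extender S Q (Q.subtype.comp (σbar g : MulAut Q).toMonoidHom) := by
      refine sup_le (fun x hx => ?_) (le_extender hX.hQS fun q => hX.hQS (σbar g q).2)
      refine mem_extender_of (hP hx) (hX.hQn (hP hx)) (hv ⟨x, hx⟩) fun q hq => ?_
      have h1 := hσconj g ⟨_, hq⟩
      have h2 := hσconj g q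
      have h3 : Subgroup.inclusion hX.hQS ⟨x * q * x⁻¹, hq⟩ =
          (⟨x, hP hx⟩ : S) * Subgroup.inclusion hX.hQS q * (⟨x, hP hx⟩ : S)⁻¹ := Subtype.ext rfl
      rw [h3, map_mul, map_mul, map_inv] at h1
      have h4 : ι (Subgroup.inclusion hX.hQS (σbar g ⟨_, hq⟩)) =
          ι (⟨φ ⟨x, hx⟩, hv _⟩ * Subgroup.inclusion hX.hQS (σbar g q) *
            (⟨φ ⟨x, hx⟩, hv _⟩ : S)⁻¹) := by
        rw [map_mul, map_mul, map_inv, hg ⟨x, hx⟩, ← h1, ← h2]
        group
      exact congrArg Subtype.val (hι h4)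
    have hψR := restrict_mem hψ hR
    obtain ⟨h, hh⟩ := hfwd _ _ hψR
    have hdiff : σbar (g⁻¹ * h) = 1 := by
      rw [map_mul, map_inv, inv_mul_eq_one]
      refine MulEquiv.ext fun q => Subgroup.inclusion_injective hX.hQS (hι ?_)
      rw [← hσconj h q]
      refine Eq.trans ?_ (hh ⟨q, Subgroup.mem_sup_right q.2⟩)
      exact congrArg ι (Subtype.ext (hψe q q.2 _).symm)
    obtain ⟨a, -, ha⟩ := hkσ _ hdiff
    have hmemc : ∀ x : P, conjHom P ((a : Ω)⁻¹) x ∈ P ⊔ Q := fun x =>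
      Subgroup.mul_mem _ (Subgroup.mul_mem _ (Subgroup.mem_sup_right (Q.inv_mem a.2))
        (Subgroup.mem_sup_left x.2)) (Subgroup.inv_mem _ (Subgroup.mem_sup_right (Q.inv_mem a.2)))
    refine hom_congr (F.comp_mem (F.conj_mem hP (S.inv_mem (hX.hQS a.2))) hψR hmemc) fun x => ?_
    have h1 := hh ⟨_, hmemc x⟩
    have h2 : (⟨_, hom_le hψR (hmemc x)⟩ : S) = (Subgroup.inclusion hX.hQS a)⁻¹ * ⟨x, hP x.2⟩ *
        (Subgroup.inclusion hX.hQS a)⁻¹⁻¹ := Subtype.ext rfl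
    rw [h2, map_mul, map_mul, inv_inv, map_inv, ← ha] at h1
    have h5 : ι ⟨φ x, hv x⟩ = ι ⟨_, hom_mem hψR ⟨_, hmemc x⟩⟩ := by
      rw [hg x, h1]
      group
    exact congrArg Subtype.val (hι h5)
  · set Qi := (Q.subgroupOf S).map ι
    have hQn : Qi.Normal := ⟨by
      rintro _ ⟨x, hx, rfl⟩ g
      rw [show x = Subgroup.inclusion hX.hQS ⟨x, hx⟩ from rfl, hσconj]
      exact ⟨_, (σbar g ⟨x, hx⟩).2, rfl⟩⟩
    have hQp : IsPGroup p Qi := (hS.to_subgroup _).map ι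
    have hle := Cfsg.Lib.Core.le_pCore' hQn hQp
    refine le_trans (Subgroup.centralizer_le hle) ?_
    intro g hg
    have h1 : σbar g = 1 := by
      refine MulEquiv.ext fun q => Subgroup.inclusion_injective hX.hQS (hι ?_)
      rw [← hσconj g q, ← Subgroup.mem_centralizer_iff.1 hg _ ⟨_, q.2, rfl⟩, mul_inv_cancel_right]
      rfl
    obtain ⟨q, -, rfl⟩ := hkσ g h1
    exact hle ⟨_, q.2, rfl⟩

end Cfsg.Lib.FusionSys
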