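import Cfsg.Agent.Lib.FusionSys.Abelian
import Cfsg.Agent.Lib.FusionSys.Model
import Cfsg.Agent.Lib.FusionSys.AbelianInvariants

/-!
All saturated systems over an abelian `p`-group are supersoluble exactly when its invariants are
pairwise distinct.
-/

set_option autoImplicit false

namespace Cfsg.Lib.FusionSys

open Cfsg Cfsg.FusionSystem

universe u

variable {Ω : Type u} [Group Ω] {S : Subgroup Ω} {p : ℕ}

/-- The system in which a group of automorphisms of the abelian group `S` acts. -/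
noncomputable def actSystem (hab : ∀ x ∈ S, ∀ y ∈ S, x * y = y * x) (A : Subgroup (MulAut S)) : FusionSystem S where
  Hom P := {φ | P ≤ S ∧ ∃ α ∈ A, ∀ (x : P) (hx : (x : Ω) ∈ S), φ x = ((α ⟨x, hx⟩ : S) : Ω)}
  le_of_mem := by
    rintro P φ ⟨hP, α, -, h⟩
    exact ⟨hP, fun x => by rw [h x (hP x.2)]; exact SetLike.coe_mem _⟩
  injective_of_mem := by
    rintro P φ ⟨hP, α, -, h⟩ a b hab'
    rw [h a (hP a.2), h b (hP b.2)] at hab'
    exact Subtype.ext (congrArg Subtype.val (α.injective (Subtype.ext hab')) :)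
  conj_mem := by
    intro P g hP hg
    refine ⟨hP, 1, A.one_mem, fun x hx => ?_⟩
    show g * x * g⁻¹ = (x : Ω)
    rw [hab g hg x hx, mul_inv_cancel_right]
  comp_mem := by
    rintro P Q φ ψ ⟨hP, α, hα, h⟩ ⟨hQ, β, hβ, h'⟩ hv
    refine ⟨hP, β * α, A.mul_mem hβ hα, fun x hx => ?_⟩
    show ψ (φ.codRestrict Q hv x) = _
    rw [h' _ (hQ (hv x)), MulAut.mul_apply]
    exact congrArg (fun z : S => ((β z : S) : Ω)) (Subtype.ext (h x hx))
  inv_mem := by
    rintro P φ ⟨hP, α, hα, h⟩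
    have hinj : Function.Injective φ := fun a b hab' => by
      rw [h a (hP a.2), h b (hP b.2)] at hab'
      exact Subtype.ext (congrArg Subtype.val (α.injective (Subtype.ext hab')) :)
    let e := MonoidHom.ofInjective hinj
    refine ⟨P.subtype.comp e.symm.toMonoidHom, ⟨?_, α⁻¹, A.inv_mem hα, fun y hy => ?_⟩,
      fun x => congrArg Subtype.val (e.symm_apply_apply x)⟩
    · rintro _ ⟨x, rfl⟩
      rw [h x (hP x.2)]
      exact SetLike.coe_mem _
    · obtain ⟨_, x, rfl⟩ := y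
      have hex : P.subtype.comp e.symm.toMonoidHom ⟨φ x, ⟨x, rfl⟩⟩ = (x : Ω) :=
        congrArg Subtype.val (e.symm_apply_apply x)
      rw [hex, show (⟨φ x, hy⟩ : S) = α ⟨x, hP x.2⟩ from Subtype.ext (h x (hP x.2)),
        MulAut.inv_apply_self]

theorem actSystem_isSaturated [Finite S] [Fact p.Prime] (hS : IsPGroup p S)
    (hab : ∀ x ∈ S, ∀ y ∈ S, x * y = y * x) (A : Subgroup (MulAut S))
    (hA : ¬ p ∣ Nat.card A) : (actSystem hab A).IsSaturated p := by
  let G := ↥S ⋊[A.subtype] ↥A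
  haveI : Finite A := Nat.finite_of_card_ne_zero fun h => hA (h ▸ dvd_zero p)
  haveI : Finite G := Finite.of_equiv _ SemidirectProduct.equivProd.symm
  have key : ∀ (g : G) (s : S),
      g * SemidirectProduct.inl s * g⁻¹ = SemidirectProduct.inl (A.subtype g.right s) := by
    intro g s
    have hl : g.left * A.subtype g.right s * g.left⁻¹ = A.subtype g.right s := Subtype.ext (by
      push_cast
      rw [hab _ g.left.2 _ (SetLike.coe_mem _), mul_inv_cancel_right])
    conv_lhs => rw [← SemidirectProduct.inl_left_mul_inr_right g]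
    rw [mul_inv_rev, show SemidirectProduct.inl g.left * SemidirectProduct.inr g.right *
      SemidirectProduct.inl s * ((SemidirectProduct.inr g.right)⁻¹ *
      (SemidirectProduct.inl g.left)⁻¹) = SemidirectProduct.inl g.left *
        (SemidirectProduct.inr g.right * SemidirectProduct.inl s * (SemidirectProduct.inr g.right)⁻¹)
        * (SemidirectProduct.inl g.left)⁻¹ by simp only [mul_assoc],
      ← map_inv SemidirectProduct.inr, ← SemidirectProduct.inl_aut, ← map_inv, ← map_mul,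
      ← map_mul, hl]
  refine isSaturated_of_realized (ι := (SemidirectProduct.inl : S →* G))
    ⟨SemidirectProduct.inl_injective, fun P hP φ hv => ?_⟩ ?_
  · constructor
    · rintro ⟨-, α, hα, h⟩
      refine ⟨SemidirectProduct.inr ⟨α, hα⟩, fun x => ?_⟩
      rw [key]
      exact congrArg SemidirectProduct.inl (Subtype.ext (h x (hP x.2)))
    · rintro ⟨g, hg⟩
      refine ⟨hP, _, g.right.2, fun x hx => ?_⟩
      have h1 := hg x
      rw [key] at h1
      exact congrArg Subtype.val (SemidirectProduct.inl_injective h1)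
  · have hr : (SemidirectProduct.inl : S →* G).range = (SemidirectProduct.rightHom : G →* A).ker :=
      SemidirectProduct.range_inl_eq_ker_rightHom
    have hidx : ¬ p ∣ (SemidirectProduct.inl : S →* G).range.index := by
      rw [hr, Subgroup.index_ker, MonoidHom.range_eq_top.2 SemidirectProduct.rightHom_surjective,
        Subgroup.card_top]
      exact hA
    have hp : IsPGroup p (SemidirectProduct.inl : S →* G).range :=
      hS.of_surjective _ (MonoidHom.rangeRestrict_surjective _)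
    refine exists_sylow_eq hp (Nat.le_of_dvd Nat.card_pos ?_)
    have h1 := Nat.ordProj_dvd (Nat.card G) p
    rw [← Subgroup.card_mul_index (SemidirectProduct.inl : S →* G).range] at h1 ⊢
    exact ((Nat.Prime.coprime_iff_not_dvd Fact.out).2 hidx).pow_left _ |>.dvd_of_dvd_mul_right h1

theorem stronglyClosed_of_characteristic [Finite S] [Fact p.Prime] (hS : IsPGroup p S)
    (hab : ∀ x ∈ S, ∀ y ∈ S, x * y = y * x) (F : FusionSystem S) (hF : F.IsSaturated p)
    {U : Subgroup S} (hU : U.Characteristic) : F.StronglyClosed (U.map S.subtype) := by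
  refine ⟨Subgroup.map_subtype_le _, fun R hR φ hφ x => ?_⟩
  obtain ⟨α, -, he⟩ := exists_aut_of_abelian hS hF hab R φ hφ
  rw [he x]
  refine ⟨_, ?_, rfl⟩
  obtain ⟨y, hy, hye⟩ := hR x.2
  obtain rfl : y = Subgroup.inclusion (hom_le hφ) x := Subtype.ext hye
  exact (Subgroup.characteristic_iff_comap_eq.1 hU α).symm.le hy

/-- A larger characteristic subgroup with a cyclic step. -/
theorem exists_char_step {G : Type*} [CommGroup G] [Finite G] [Fact p.Prime] (hG : IsPGroup p G)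
    (hlay : ∀ (j : ℕ) (z w z₀ w₀ : G), z ^ p = 1 → w ^ p = 1 → z₀ ^ p ^ j = z → w₀ ^ p ^ j = w →
      (¬ ∃ u, u ^ p ^ (j + 1) = z) → ∃ (k : ℕ) (u : G), u ^ p ^ (j + 1) = w * (z ^ k)⁻¹)
    {U : Subgroup G} (hU : U.Characteristic) (hne : U ≠ ⊤) :
    ∃ U' : Subgroup G, U'.Characteristic ∧ U < U' ∧ ∃ x, U' = U ⊔ Subgroup.zpowers x := by
  classical
  have hex : ∃ i, ∃ g : G, g ∉ U ∧ g ^ p ^ i = 1 := by
    obtain ⟨g, hg⟩ : ∃ g, g ∉ U := by
      by_contra hc
      push Not at hc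
      exact hne (eq_top_iff.2 fun g _ => hc g)
    obtain ⟨k, hk⟩ := hG g
    exact ⟨k, g, hg, hk⟩
  obtain ⟨g₀, hg₀U, hg₀⟩ := Nat.find_spec hex
  obtain ⟨i, hi⟩ : ∃ i, Nat.find hex = i + 1 := by
    refine ⟨Nat.find hex - 1, ?_⟩
    have : Nat.find hex ≠ 0 := fun h => by
      rw [h, pow_zero, pow_one] at hg₀
      exact hg₀U (hg₀ ▸ U.one_mem)
    omega
  rw [hi] at hg₀
  have hlow : ∀ g : G, g ^ p ^ i = 1 → g ∈ U := fun g hg => by
    by_contra h
    exact Nat.find_min hex (show i < Nat.find hex by omega) ⟨g, h, hg⟩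
  let W : ℕ → Subgroup G := fun j =>
    (powMonoidHom (p ^ (i + 1))).ker ⊓
      (MonoidHom.range (powMonoidHom (p ^ j) : G →* G)).comap (powMonoidHom (p ^ i))
  have hWmem : ∀ j g, g ∈ W j ↔ g ^ p ^ (i + 1) = 1 ∧ ∃ u, u ^ p ^ j = g ^ p ^ i :=
    fun j g => Iff.rfl
  obtain ⟨N, hN⟩ := hG.exists_card_eq
  have hWN : W N ≤ U := fun g hg => by
    obtain ⟨-, u, hu⟩ := (hWmem N g).1 hg
    rw [← hN, pow_card_eq_one'] at hu
    exact hlow g hu.symm
  have hexj : ∃ j, W j ≤ U := ⟨N, hWN⟩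
  have hspec := Nat.find_spec hexj
  obtain ⟨j, hj⟩ : ∃ j, Nat.find hexj = j + 1 := by
    refine ⟨Nat.find hexj - 1, ?_⟩
    have : Nat.find hexj ≠ 0 := fun h => by
      rw [h] at hspec
      exact hg₀U (hspec ((hWmem 0 g₀).2 ⟨hg₀, _, pow_one _⟩))
    omega
  rw [hj] at hspec
  obtain ⟨x, hxW, hxU⟩ := SetLike.not_le_iff_exists.1 (Nat.find_min hexj (show j < _ by omega))
  have hWc : (W j).Characteristic := Subgroup.characteristic_iff_le_comap.2 fun φ g hg => by
    obtain ⟨h1, u, hu⟩ := (hWmem j g).1 hg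
    refine (hWmem j _).2 ⟨?_, φ u, ?_⟩
    · show (φ g) ^ _ = 1
      rw [← map_pow, h1, map_one]
    · show _ = (φ g) ^ _
      rw [← map_pow, ← map_pow, hu]
  haveI := hU
  haveI := hWc
  refine ⟨U ⊔ W j, ?_, left_lt_sup.2 fun h => hxU (h hxW), x, ?_⟩
  · refine Subgroup.characteristic_iff_map_le.2 fun φ => ?_
    rw [Subgroup.map_sup]
    exact sup_le_sup (Subgroup.characteristic_iff_map_le.1 hU φ)
      (Subgroup.characteristic_iff_map_le.1 hWc φ)
  · refine le_antisymm (sup_le le_sup_left fun y hy => ?_)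
      (sup_le_sup_left (Subgroup.zpowers_le.2 hxW) _)
    obtain ⟨hx1, xu, hxu⟩ := (hWmem j x).1 hxW
    obtain ⟨hy1, yu, hyu⟩ := (hWmem j y).1 hy
    obtain ⟨k, u, hu⟩ := hlay j (x ^ p ^ i) (y ^ p ^ i) xu yu
      (by rw [← pow_mul, ← pow_succ]; exact hx1) (by rw [← pow_mul, ← pow_succ]; exact hy1) hxu hyu
      (fun hc => hxU (hspec ((hWmem _ x).2 ⟨hx1, hc⟩)))
    have h2 : y * (x ^ k)⁻¹ ∈ U := hspec ((hWmem _ _).2 ⟨by
      rw [mul_pow, inv_pow, ← pow_mul, mul_comm k, pow_mul, hx1, hy1, one_pow, inv_one, mul_one],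
      u, by rw [hu, mul_pow, inv_pow, ← pow_mul, ← pow_mul, mul_comm k]⟩)
    rw [show y = y * (x ^ k)⁻¹ * x ^ k by rw [inv_mul_cancel_right]]
    exact Subgroup.mul_mem _ (Subgroup.mem_sup_left h2)
      (Subgroup.mem_sup_right (Subgroup.npow_mem_zpowers x k))

theorem exists_supersoluble_chain [Finite S] [Fact p.Prime] (hS : IsPGroup p S)
    (hab : ∀ x ∈ S, ∀ y ∈ S, x * y = y * x)
    (hno : ¬ ∃ (n : ℕ) (H : Type) (_ : CommGroup H), 0 < n ∧
      Nonempty (↥S ≃* (Multiplicative (ZMod (p ^ n)) × Multiplicative (ZMod (p ^ n))) × H))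
    (F : FusionSystem S) (hF : F.IsSaturated p) :
    ∃ (m : ℕ) (c : Fin (m + 1) → Subgroup Ω), c 0 = ⊥ ∧ c (Fin.last m) = S ∧
      (∀ i : Fin (m + 1), F.StronglyClosed (c i)) ∧
      ∀ i : Fin m, c i.castSucc ≤ c i.succ ∧ ∃ x ∈ S, c i.succ = c i.castSucc ⊔ Subgroup.zpowers x := by
  letI : CommGroup S :=
    { (inferInstance : Group S) with mul_comm := fun a b => Subtype.ext (hab a a.2 b b.2) }
  have hlay := layers_cyclic_of_no_repeat hS hno
  suffices H : ∀ (k : ℕ) (U : Subgroup S), U.Characteristic → Nat.card S ≤ Nat.card U + k →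
      ∃ (m : ℕ) (c : ℕ → Subgroup S), c 0 = U ∧ c m = ⊤ ∧ (∀ i, (c i).Characteristic) ∧
        ∀ i, i < m → c i ≤ c (i + 1) ∧ ∃ x, c (i + 1) = c i ⊔ Subgroup.zpowers x by
    obtain ⟨m, c, h0, hm, hc, hstep⟩ := H _ ⊥ inferInstance (le_add_self)
    refine ⟨m, fun i => (c i).map S.subtype, ?_, ?_, fun i => ?_, fun i => ?_⟩
    · simp [h0]
    · simp [hm, ← MonoidHom.range_eq_map, Subgroup.range_subtype]
    · exact stronglyClosed_of_characteristic (p := p) hS hab F hF (hc i)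
    · obtain ⟨hle, x, hx⟩ := hstep i i.2
      refine ⟨?_, (x : Ω), x.2, ?_⟩
      · simpa using Subgroup.map_mono (f := S.subtype) hle
      · simp only [Fin.val_succ, Fin.val_castSucc, hx, Subgroup.map_sup, MonoidHom.map_zpowers]
        rfl
  intro k
  induction k using Nat.strong_induction_on with
  | _ k ih =>
  intro U hU hk
  by_cases hne : U = ⊤
  · exact ⟨0, fun _ => U, rfl, hne, fun _ => hU, fun i hi => absurd hi (Nat.not_lt_zero i)⟩
  obtain ⟨U', hU', hlt, x, hx⟩ := exists_char_step hS hlay hU hne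
  have hcard : Nat.card U < Nat.card U' :=
    Set.ncard_lt_ncard (show (U : Set S) ⊂ U' from hlt) |>.trans_eq' rfl
  have hle := Subgroup.card_le_card_group U'
  obtain ⟨m, c, h0, hm, hc, hstep⟩ := ih (k - 1) (by omega) U' hU' (by omega)
  refine ⟨m + 1, fun i => if i = 0 then U else c (i - 1), rfl, by simpa using hm, fun i => ?_, ?_⟩
  · show (if i = 0 then U else c (i - 1)).Characteristic
    split_ifs
    exacts [hU, hc _]
  · intro i hi
    cases i with
    | zero =>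
      show (if (0 : ℕ) = 0 then U else c (0 - 1)) ≤ (if 0 + 1 = 0 then U else c (0 + 1 - 1)) ∧
        ∃ x, (if 0 + 1 = 0 then U else c (0 + 1 - 1)) =
          (if (0 : ℕ) = 0 then U else c (0 - 1)) ⊔ Subgroup.zpowers x
      simp only [Nat.zero_add, one_ne_zero, if_false, if_true, Nat.sub_self, h0]
      exact ⟨hlt.le, x, hx⟩
    | succ n =>
      show (if n + 1 = 0 then U else c (n + 1 - 1)) ≤ (if n + 1 + 1 = 0 then U else c (n + 1 + 1 - 1)) ∧
        ∃ x, (if n + 1 + 1 = 0 then U else c (n + 1 + 1 - 1)) =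
          (if n + 1 = 0 then U else c (n + 1 - 1)) ⊔ Subgroup.zpowers x
      simpa using hstep n (by omega)

section Repeated

variable {A H : Type*} [CommGroup A] [CommGroup H]

/-- `(a, b) ↦ (b, a⁻¹)`. -/
def quarterTurn (A : Type*) [CommGroup A] : MulAut (A × A) where
  toFun v := (v.2, v.1⁻¹)
  invFun v := (v.2⁻¹, v.1)
  left_inv v := by simp
  right_inv v := by simp
  map_mul' v w := by simp [mul_comm]

/-- `(a, b) ↦ (a⁻¹, b)`. -/
def halfFlip (A : Type*) [CommGroup A] : MulAut (A × A) where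
  toFun v := (v.1⁻¹, v.2)
  invFun v := (v.1⁻¹, v.2)
  left_inv v := by simp
  right_inv v := by simp
  map_mul' v w := by simp [mul_comm]

/-- `(a, b) ↦ (b, a⁻¹ b⁻¹)`. -/
def thirdTurn (A : Type*) [CommGroup A] : MulAut (A × A) where
  toFun v := (v.2, v.1⁻¹ * v.2⁻¹)
  invFun v := (v.1⁻¹ * v.2⁻¹, v.1)
  left_inv v := by simp [mul_comm]
  right_inv v := by simp [mul_comm]
  map_mul' v w := by simp [mul_comm, mul_left_comm, mul_assoc]

theorem isPGroup_two_turns : IsPGroup 2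
    ↥(Subgroup.zpowers (quarterTurn A) ⊔ Subgroup.zpowers (halfFlip A)) := by
  have hr : quarterTurn A ^ 4 = 1 := MulEquiv.ext fun v => by
    simp [quarterTurn, pow_succ, MulAut.mul_apply]
  have hs : halfFlip A ^ 2 = 1 := MulEquiv.ext fun v => by
    simp [halfFlip, pow_succ, MulAut.mul_apply]
  have hp : ∀ (g : MulAut (A × A)) (k : ℕ), g ^ 2 ^ k = 1 → IsPGroup 2 (Subgroup.zpowers g) := by
    intro g k hg
    obtain ⟨i, -, hi⟩ := (Nat.dvd_prime_pow Nat.prime_two).1 (orderOf_dvd_of_pow_eq_one hg)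
    exact IsPGroup.of_card (n := i) (by rw [Nat.card_zpowers, hi])
  refine (hp _ 2 hr).to_sup_of_normal_left' (hp _ 1 hs) ?_
  rw [Subgroup.zpowers_le]
  refine Subgroup.mem_normalizer_iff.2 fun y => ?_
  have hconj : halfFlip A * quarterTurn A * (halfFlip A)⁻¹ = (quarterTurn A)⁻¹ :=
    MulEquiv.ext fun v => by
      rw [MulAut.mul_apply, MulAut.mul_apply]
      show (((v.1⁻¹, v.2).2 : A)⁻¹, (v.1⁻¹, v.2).1⁻¹) = (v.2⁻¹, v.1)
      simp
  have hsinv : (halfFlip A)⁻¹ = halfFlip A := MulEquiv.ext fun v => rfl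
  have h1 : ∀ z ∈ Subgroup.zpowers (quarterTurn A),
      halfFlip A * z * (halfFlip A)⁻¹ ∈ Subgroup.zpowers (quarterTurn A) := by
    rintro z ⟨k, rfl⟩
    refine ⟨-k, ?_⟩
    show (quarterTurn A) ^ (-k) = _
    rw [zpow_neg, ← inv_zpow, ← hconj, conj_zpow]
  refine ⟨h1 y, fun hy => ?_⟩
  have := h1 _ hy
  simpa [hsinv, mul_assoc, ← pow_two, hs, ← mul_assoc (halfFlip A) (halfFlip A)] using this

theorem not_invariant_line (hp : p.Prime) (hp2 : p ≠ 2) {a b : A} (ha : a ^ p = 1) (hb : b ^ p = 1)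
    {k l : ℕ} (h1 : (b, a⁻¹) = (a, b) ^ k) (h2 : (a⁻¹, b) = (a, b) ^ l) : a = 1 ∧ b = 1 := by
  simp only [Prod.pow_mk, Prod.ext_iff] at h1 h2
  have h3 : a ^ l = a := by
    have : (a⁻¹) ^ l = a⁻¹ := by
      calc (a⁻¹) ^ l = (b ^ k) ^ l := by rw [h1.2]
        _ = (b ^ l) ^ k := by rw [← pow_mul, ← pow_mul, mul_comm]
        _ = a⁻¹ := by rw [← h2.2, ← h1.2]
    rwa [inv_pow, inv_inj] at this
  have h4 : a ^ 2 = 1 := by
    rw [sq]
    nth_rw 1 [← h3]
    rw [← h2.1, inv_mul_cancel]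
  have h5 : a = 1 := by
    have hcop : Nat.Coprime 2 p := (Nat.coprime_primes Nat.prime_two hp).2 hp2.symm
    have := (pow_gcd_eq_one (a := a) (m := 2) (n := p)).2 ⟨h4, ha⟩
    rwa [hcop.gcd_eq_one, pow_one] at this
  refine ⟨h5, ?_⟩
  rw [h1.1, h5, one_pow]

theorem not_invariant_line_two {a b : A} (ha : a ^ 2 = 1) (hb : b ^ 2 = 1)
    {k : ℕ} (h : (b, a⁻¹ * b⁻¹) = (a, b) ^ k) : a = 1 ∧ b = 1 := by
  simp only [Prod.pow_mk, Prod.ext_iff] at h
  obtain ⟨q, rfl | rfl⟩ := Nat.even_or_odd' k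
  · simp only [pow_mul, ha, hb, one_pow] at h
    obtain ⟨hb1, h2⟩ := h
    rw [hb1, inv_one, mul_one, inv_eq_one] at h2
    exact ⟨h2, hb1⟩
  · simp only [pow_succ, pow_mul, ha, hb, one_pow, one_mul] at h
    obtain ⟨hba, h2⟩ := h
    subst hba
    rw [← mul_inv, ← sq, hb, inv_one] at h2
    exact ⟨h2.symm, h2.symm⟩

end Repeated

theorem not_supersoluble_of_repeat [Finite S] [Fact p.Prime] (hS : IsPGroup p S)
    (hab : ∀ x ∈ S, ∀ y ∈ S, x * y = y * x) {A H : Type*} [CommGroup A] [CommGroup H]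
    (a₀ : A) (ha₀ : a₀ ≠ 1) (ha₀p : a₀ ^ p = 1) (f : ↥S ≃* (A × A) × H) :
    ∃ F : FusionSystem S, F.IsSaturated p ∧
      ¬ ∃ (m : ℕ) (c : Fin (m + 1) → Subgroup Ω), c 0 = ⊥ ∧ c (Fin.last m) = S ∧
        (∀ i : Fin (m + 1), F.StronglyClosed (c i)) ∧
        ∀ i : Fin m, c i.castSucc ≤ c i.succ ∧ ∃ x ∈ S, c i.succ = c i.castSucc ⊔ Subgroup.zpowers x := by
  classical
  let lift : MulAut (A × A) →* MulAut S :=
    { toFun := fun g => (f.trans (g.prodCongr (MulEquiv.refl H))).trans f.symm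
      map_one' := MulEquiv.ext fun s => f.symm_apply_apply s
      map_mul' := fun g g' => MulEquiv.ext fun s => f.injective (by simp; rfl) }
  haveI : Fintype S := Fintype.ofFinite S
  haveI : Finite (MulAut S) := Finite.of_injective MulEquiv.toEquiv MulEquiv.toEquiv_injective
  let B : Subgroup (MulAut (A × A)) := if p = 2 then Subgroup.zpowers (thirdTurn A)
    else Subgroup.zpowers (quarterTurn A) ⊔ Subgroup.zpowers (halfFlip A)
  have hB : ¬ p ∣ Nat.card (B.map lift) := by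
    intro hd
    obtain ⟨g, hg⟩ := exists_prime_orderOf_dvd_card' p hd
    obtain ⟨g', hg', hge⟩ := g.2
    rw [← Subgroup.orderOf_coe, ← hge] at hg
    by_cases hp2 : p = 2
    · have h3 : thirdTurn A ^ 3 = 1 := MulEquiv.ext fun v => by
        simp [thirdTurn, pow_succ, MulAut.mul_apply, mul_comm]
      simp only [B, if_pos hp2] at hg'
      have h : (lift g') ^ 3 = 1 := by
        obtain ⟨k, rfl⟩ := hg'
        rw [← map_pow, ← zpow_natCast (thirdTurn A ^ k), ← zpow_mul, mul_comm, zpow_mul,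
          zpow_natCast, h3, one_zpow, map_one]
      have := orderOf_dvd_of_pow_eq_one h
      rw [hg, hp2] at this
      omega
    · simp only [B, if_neg hp2] at hg'
      obtain ⟨k, hk⟩ := isPGroup_two_turns (A := A) ⟨g', hg'⟩
      have h : (lift g') ^ 2 ^ k = 1 := by
        rw [← map_pow, show g' ^ 2 ^ k = 1 from congrArg Subtype.val hk, map_one]
      have := orderOf_dvd_of_pow_eq_one h
      rw [hg] at this
      exact hp2 ((Nat.prime_dvd_prime_iff_eq Fact.out Nat.prime_two).1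
        ((Fact.out : p.Prime).dvd_of_dvd_pow this))
  refine ⟨actSystem hab (B.map lift), actSystem_isSaturated hS hab _ hB, ?_⟩
  rintro ⟨m, c, h0, hm, hcl, hstep⟩
  -- the socle of the repeated part
  let V : Subgroup S :=
    { carrier := {s | s ^ p = 1 ∧ (f s).2 = 1}
      one_mem' := ⟨one_pow p, by simp⟩
      mul_mem' := fun {a b} ha hb =>
        ⟨by rw [Commute.mul_pow (Subtype.ext (hab a a.2 b b.2)), ha.1, hb.1, mul_one],
          by rw [map_mul, Prod.snd_mul, ha.2, hb.2, mul_one]⟩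
      inv_mem' := fun {a} ha => ⟨by rw [inv_pow, ha.1, inv_one], by
        rw [map_inv, Prod.snd_inv, ha.2, inv_one]⟩ }
  have hex : ∃ i : ℕ, ∃ hi : i < m + 1, ∃ v ∈ V, v ≠ 1 ∧ (v : Ω) ∈ c ⟨i, hi⟩ := by
    refine ⟨m, Nat.lt_succ_self m, f.symm ((a₀, 1), 1), ⟨?_, ?_⟩, ?_, ?_⟩
    · rw [← map_pow]
      simp [Prod.pow_mk, ha₀p]
    · simp
    · intro h
      have := congrArg f h
      rw [MulEquiv.apply_symm_apply, map_one, Prod.ext_iff, Prod.ext_iff] at this
      exact ha₀ this.1.1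
    · have : c ⟨m, Nat.lt_succ_self m⟩ = S := hm
      rw [this]
      exact SetLike.coe_mem _
  obtain ⟨hi, v, hvV, hv1, hvc⟩ := Nat.find_spec hex
  obtain ⟨i, hi'⟩ : ∃ i, Nat.find hex = i + 1 := by
    refine ⟨Nat.find hex - 1, ?_⟩
    have : Nat.find hex ≠ 0 := fun h => by
      have hb : c ⟨Nat.find hex, hi⟩ = ⊥ := by
        rw [show (⟨Nat.find hex, hi⟩ : Fin (m + 1)) = 0 from Fin.ext h, h0]
      rw [hb, Subgroup.mem_bot] at hvc
      exact hv1 (Subtype.ext hvc)
    omega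
  have hlow : ∀ w ∈ V, (w : Ω) ∈ c ⟨i, by omega⟩ → w = 1 := fun w hwV hw => by
    by_contra hne
    exact Nat.find_min hex (show i < Nat.find hex by omega) ⟨by omega, w, hwV, hne, hw⟩
  obtain ⟨-, x, hxS, hx⟩ := hstep ⟨i, by omega⟩
  have hci : c (Fin.succ ⟨i, by omega⟩) = c ⟨Nat.find hex, hi⟩ := congrArg c (Fin.ext hi'.symm)
  rw [hci] at hx
  set C := (c ⟨i, by omega⟩).subgroupOf S with hC
  set D := (c ⟨Nat.find hex, hi⟩).subgroupOf S with hD
  haveI : C.Normal := ⟨fun n hn g => by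
    rwa [show g * n * g⁻¹ = n by
      rw [show g * n = n * g from Subtype.ext (hab g g.2 n n.2), mul_inv_cancel_right]]⟩
  haveI : IsCyclic ↥(Subgroup.zpowers (QuotientGroup.mk' C ⟨x, hxS⟩)) := inferInstance
  have hq : ∀ w : ↥(D ⊓ V : Subgroup S),
      QuotientGroup.mk' C (w : S) ∈ Subgroup.zpowers (QuotientGroup.mk' C ⟨x, hxS⟩) := by
    intro w
    have hle : c ⟨Nat.find hex, hi⟩ ≤ (((Subgroup.zpowers (QuotientGroup.mk' C ⟨x, hxS⟩)).comap
        (QuotientGroup.mk' C)).map S.subtype) := by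
      rw [hx]
      refine sup_le (fun u hu => ?_) ?_
      · refine ⟨⟨u, (hcl _).1 hu⟩, ?_, rfl⟩
        rw [SetLike.mem_coe, Subgroup.mem_comap,
          show QuotientGroup.mk' C ⟨u, (hcl _).1 hu⟩ = 1 from (QuotientGroup.eq_one_iff (N := C) _).2 hu]
        exact Subgroup.one_mem _
      · rw [Subgroup.zpowers_le]
        exact ⟨⟨x, hxS⟩, Subgroup.mem_zpowers _, rfl⟩
    obtain ⟨u, hu, hue⟩ := hle w.2.1
    obtain rfl : u = (w : S) := Subtype.ext hue
    exact hu
  let ψ : ↥(D ⊓ V : Subgroup S) →* Subgroup.zpowers (QuotientGroup.mk' C ⟨x, hxS⟩) :=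
    ((QuotientGroup.mk' C).comp (D ⊓ V).subtype).codRestrict _ hq
  have hψ : Function.Injective ψ := by
    rw [injective_iff_map_eq_one]
    intro w hw
    exact Subtype.ext (hlow _ w.2.2 ((QuotientGroup.eq_one_iff (N := C) _).1
      (congrArg Subtype.val hw :)))
  haveI : IsCyclic ↥(D ⊓ V : Subgroup S) := isCyclic_of_injective ψ hψ
  obtain ⟨g, hg⟩ := IsCyclic.exists_generator (α := ↥(D ⊓ V : Subgroup S))
  have hgen : ∀ w : S, w ∈ D → w ∈ V → ∃ k : ℕ, w = v ^ k := by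
    intro w hwD hwV
    have hgp : g ^ p = 1 := Subtype.ext g.2.2.1
    have hgne : g ≠ 1 := fun h => by
      have hv' : (⟨v, hvc, hvV⟩ : ↥(D ⊓ V : Subgroup S)) = 1 := by
        obtain ⟨r, hr⟩ := hg ⟨v, hvc, hvV⟩
        rw [← hr]
        simp [h]
      exact hv1 (congrArg Subtype.val hv' :)
    have hcard : Nat.card ↥(D ⊓ V : Subgroup S) = p := by
      rw [← orderOf_eq_card_of_forall_mem_zpowers hg]
      exact orderOf_eq_prime hgp hgne
    have := mem_zpowers_of_prime_card (g := (⟨v, hvc, hvV⟩ : ↥(D ⊓ V : Subgroup S)))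
      (g' := ⟨w, hwD, hwV⟩) hcard (fun h => hv1 (congrArg Subtype.val h :))
    obtain ⟨k, hk⟩ := (isOfFinOrder_of_finite _).mem_powers_iff_mem_zpowers.2 this
    exact ⟨k, (congrArg Subtype.val hk).symm⟩
  have hmove : ∀ g' ∈ B, ∃ k : ℕ, g' (f v).1 = (f v).1 ^ k := by
    intro g' hg'
    let φ : ↥(c ⟨Nat.find hex, hi⟩) →* Ω :=
      S.subtype.comp ((lift g').toMonoidHom.comp (Subgroup.inclusion (hcl _).1))
    have hφ : φ ∈ (actSystem hab (B.map lift)).Hom _ :=
      ⟨(hcl _).1, lift g', ⟨g', hg', rfl⟩, fun u _ => rfl⟩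
    have hD' : lift g' v ∈ D := (hcl _).2 _ le_rfl φ hφ ⟨v, hvc⟩
    have hf : f (lift g' v) = (g' (f v).1, (f v).2) := f.apply_symm_apply _
    have hV' : lift g' v ∈ V := ⟨by rw [← map_pow, hvV.1, map_one], by rw [hf]; exact hvV.2⟩
    obtain ⟨k, hk⟩ := hgen _ hD' hV'
    refine ⟨k, ?_⟩
    have := congrArg (fun z => (f z).1) hk
    simp only [hf, map_pow, Prod.pow_fst] at this
    exact this
  have hvp : (f v).1.1 ^ p = 1 ∧ (f v).1.2 ^ p = 1 := by
    have := congrArg f hvV.1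
    rw [map_pow, map_one] at this
    exact ⟨congrArg (fun z => z.1.1) this, congrArg (fun z => z.1.2) this⟩
  have hfin : (f v).1.1 = 1 ∧ (f v).1.2 = 1 := by
    by_cases hp2 : p = 2
    · obtain ⟨k, hk⟩ := hmove (thirdTurn A) (by
        simp only [B, if_pos hp2]; exact Subgroup.mem_zpowers _)
      subst hp2
      exact not_invariant_line_two hvp.1 hvp.2 hk
    · obtain ⟨k, hk⟩ := hmove (quarterTurn A) (by
        simp only [B, if_neg hp2]; exact Subgroup.mem_sup_left (Subgroup.mem_zpowers _))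
      obtain ⟨l, hl⟩ := hmove (halfFlip A) (by
        simp only [B, if_neg hp2]; exact Subgroup.mem_sup_right (Subgroup.mem_zpowers _))
      exact not_invariant_line Fact.out hp2 hvp.1 hvp.2 hk hl
  refine hv1 (f.injective ?_)
  rw [map_one]
  exact Prod.ext (Prod.ext hfin.1 hfin.2) hvV.2

end Cfsg.Lib.FusionSys
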