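import Cfsg.Agent.Lib.FusionSys.AltSimpleOdd

/-!
Abelian Sylow subgroups of alternating groups.
-/

set_option autoImplicit false
set_option linter.unusedSectionVars false

namespace Cfsg.Lib.FusionSys.AltWreath

open Equiv

variable {p : ℕ} [Fact p.Prime]

theorem sylow_alt_commutative_iff (n : ℕ) (hn : 6 ≤ n) (S : Sylow p (alternatingGroup (Fin n))) :
    IsMulCommutative S ↔ n < p ^ 2 := by
  classical
  have hpp := (Fact.out : p.Prime)
  set m := n / p with hm
  set r := n % p with hr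
  have hrp : r < p := Nat.mod_lt _ hpp.pos
  have hn' : n = p * m + r := (Nat.div_add_mod n p).symm
  obtain ⟨P⟩ : Nonempty (Sylow p (Perm (Fin m))) := inferInstance
  obtain ⟨W, hW⟩ := exists_sylow_wr (p := p) (ι := Fin r) (by rw [Nat.card_fin]; exact hrp) P
  obtain ⟨Q, hQ⟩ := exists_sylow_alt W
  rw [hW] at hQ
  obtain ⟨e⟩ : Nonempty (Pt p (Fin m) (Fin r) ≃ Fin n) :=
    ⟨Finite.equivFinOfCardEq (by rw [Nat.card_sum, Nat.card_prod, Nat.card_zmod, Nat.card_fin, Nat.card_fin, ← hn'])⟩
  have hes : Function.Surjective (e.altCongrHom : alternatingGroup _ ≃* alternatingGroup (Fin n)).toMonoidHom :=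
    e.altCongrHom.surjective
  let φ : (Q : Subgroup (alternatingGroup (Pt p (Fin m) (Fin r)))) ≃* (S : Subgroup (alternatingGroup (Fin n))) :=
    ((Q : Subgroup _).equivMapOfInjective e.altCongrHom.toMonoidHom e.altCongrHom.injective).trans
      ((MulEquiv.subgroupCongr (Sylow.coe_mapSurjective hes Q).symm).trans
        ((Q.mapSurjective (f := e.altCongrHom.toMonoidHom) hes).equiv S))
  constructor
  · intro hS
    by_contra hlt
    push Not at hlt
    have hpm : p ≤ m := by rw [hm, Nat.le_div_iff_mul_le hpp.pos, ← pow_two]; exact hlt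
    have hm3 : 3 ≤ m := by
      have := hpp.two_le
      by_cases hp2 : p = 2
      · subst hp2; omega
      · omega
    have hdvd : p ∣ Nat.card (Perm (Fin m)) := by
      rw [Nat.card_perm, Nat.card_fin]
      exact Nat.dvd_factorial hpp.pos hpm
    obtain ⟨σ, hσ, hσ1⟩ := (Subgroup.bot_or_exists_ne_one (P : Subgroup (Perm (Fin m)))).resolve_left
      (P.ne_bot_of_dvd_card hdvd)
    obtain ⟨b, hb⟩ : ∃ b, σ b ≠ b := by
      by_contra h
      push Not at h
      exact hσ1 (Equiv.ext h)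
    obtain ⟨c, hcb, hcs⟩ := OddPrime.exists_third (by rw [Fintype.card_fin]; exact hm3) b (σ b)
    set f : Fin m → ZMod p := Pi.single b 1 + Pi.single c 1
    have hfA : Perm.sign (tr f : Perm (Pt p (Fin m) (Fin r))) = 1 := by
      by_cases hp : p = 2
      · subst hp; exact Two.sign_pair b c
      · exact sign_tr_odd hp f
    have hσA : Perm.sign (lift σ : Perm (Pt p (Fin m) (Fin r))) = 1 := by
      by_cases hp : p = 2
      · subst hp; exact Two.sign_lift' σ
      · exact OddPrime.sign_wr hp P (lift_mem_wr hσ)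
    have hx : (⟨tr f, Perm.mem_alternatingGroup.mpr hfA⟩ : alternatingGroup _) ∈ (Q : Subgroup _) := by
      rw [hQ]; exact tr_mem_wr _ _
    have hy : (⟨lift σ, Perm.mem_alternatingGroup.mpr hσA⟩ : alternatingGroup _) ∈ (Q : Subgroup _) := by
      rw [hQ]; exact lift_mem_wr hσ
    have h1 : φ (⟨_, hx⟩ * ⟨_, hy⟩) = φ (⟨_, hy⟩ * ⟨_, hx⟩) := by
      rw [map_mul, map_mul]
      exact hS.is_comm.comm _ _
    have h2 : (tr f * lift σ : Perm (Pt p (Fin m) (Fin r))) = lift σ * tr f :=
      congrArg (fun z : (Q : Subgroup (alternatingGroup (Pt p (Fin m) (Fin r)))) =>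
        ((z : alternatingGroup (Pt p (Fin m) (Fin r))) : Perm (Pt p (Fin m) (Fin r)))) (φ.injective h1)
    rw [lift_tr] at h2
    have h3 := congrFun (wr_coords h2).1 (σ b)
    simp [f, hb, hcs.symm, hcb.symm] at h3
  · intro hlt
    have hmp : m < p := by rw [hm, Nat.div_lt_iff_lt_mul hpp.pos, ← pow_two]; exact hlt
    have hbot : (P : Subgroup (Perm (Fin m))) = ⊥ := by
      rw [← Subgroup.card_eq_one, P.card_eq_multiplicity, factorization_card_perm, Nat.card_fin,
        padicValNat.eq_zero_of_not_dvd, pow_zero]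
      rw [hpp.dvd_factorial]
      omega
    refine ⟨⟨fun x y => ?_⟩⟩
    obtain ⟨x, rfl⟩ := φ.surjective x
    obtain ⟨y, rfl⟩ := φ.surjective y
    rw [← map_mul, ← map_mul]
    refine congrArg φ (Subtype.ext (Subtype.ext ?_))
    obtain ⟨f, σ, hσ, hx⟩ := Subgroup.mem_subgroupOf.mp (hQ.le x.2)
    obtain ⟨g, τ, hτ, hy⟩ := Subgroup.mem_subgroupOf.mp (hQ.le y.2)
    rw [hbot, Subgroup.mem_bot] at hσ hτ
    show (_ : Perm (Pt p (Fin m) (Fin r))) * _ = _ * _
    rw [hx, hy, hσ, hτ, lift_one, mul_one, mul_one, tr_comm]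

end Cfsg.Lib.FusionSys.AltWreath
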