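import Cfsg.Agent.Lib.FusionSys.AltWreath

/-!
Normalizers of Sylow subgroups of symmetric and alternating groups in block coordinates, and conjugation of
elements of prime order into the base group.
-/

set_option autoImplicit false
set_option linter.unusedSectionVars false

namespace Cfsg.Lib.FusionSys.AltWreath

open Equiv Nat
open scoped Pointwise

variable {p : ℕ} [Fact p.Prime] {B ι : Type*} [Finite B] [Finite ι]

theorem lift_comm_tr_one (σ : Perm B) :
    (lift σ : Perm (Pt p B ι)) * tr 1 = tr 1 * lift σ := lift_tr σ 1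

theorem commute_tr_one {P : Subgroup (Perm B)} {g : Perm (Pt p B ι)} (hg : g ∈ wr p ι P) :
    g * tr 1 = tr 1 * g := by
  obtain ⟨f, σ, -, rfl⟩ := hg
  rw [mul_assoc, lift_comm_tr_one, ← mul_assoc, tr_comm, mul_assoc]

theorem mem_of_tr_mul_lift_mem {P : Subgroup (Perm B)} {f : B → ZMod p} {σ : Perm B}
    (h : (tr f * lift σ : Perm (Pt p B ι)) ∈ wr p ι P) : σ ∈ P := by
  obtain ⟨g, τ, hτ, e⟩ := h
  exact (wr_coords e).2 ▸ hτ

theorem mem_of_lift_mem {P : Subgroup (Perm B)} {σ : Perm B} (h : (lift σ : Perm (Pt p B ι)) ∈ wr p ι P) :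
    σ ∈ P := mem_of_tr_mul_lift_mem (f := 0) (by rwa [tr_zero, one_mul])

theorem full_support [Subsingleton ι] {g : Perm (Pt p B ι)} {f' : B → ZMod p} (h : g * tr 1 = tr f' * g) :
    ∀ b, f' b ≠ 0 := by
  intro b hb
  have key : ∀ x, ∃ i, g (Sum.inr i) = Sum.inl (x, b) := by
    intro x
    rcases h0 : g.symm (Sum.inl (x, b)) with ⟨y, c⟩ | i
    · exfalso
      have h1 := Equiv.congr_fun h (Sum.inl (y, c))
      rw [Perm.mul_apply, Perm.mul_apply, ← h0, Equiv.apply_symm_apply, tr_inl, hb, add_zero, h0, tr_inl,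
        Pi.one_apply] at h1
      have h2 := g.injective (h1.trans ((Equiv.eq_symm_apply g).mp h0.symm).symm)
      simp at h2
    · exact ⟨i, (Equiv.eq_symm_apply g).mp h0.symm⟩
  obtain ⟨i, hi⟩ := key 0
  obtain ⟨j, hj⟩ := key 1
  rw [Subsingleton.elim j i, hi] at hj
  simp at hj

/-- An element normalizing a wreath product whose centralizer lies in the base respects the blocks. -/
theorem coords_of_normalizer [Subsingleton ι] {P : Subgroup (Perm B)} {M : Subgroup (Perm (Pt p B ι))}
    (hM : M ≤ wr p ι P) (hC : ∀ c, (∀ x ∈ M, c * x = x * c) → ∃ f, c = tr f) {g : Perm (Pt p B ι)}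
    (hg : g ∈ Subgroup.normalizer (M : Set (Perm (Pt p B ι)))) : ∃ e σ d, g = tr e * lift σ * scl d := by
  obtain ⟨f', hf'⟩ := hC (g * tr 1 * g⁻¹) fun x hx => by
    have h1 := commute_tr_one (hM ((Subgroup.mem_normalizer_iff''.mp hg x).mp hx))
    calc g * tr 1 * g⁻¹ * x = g * (tr 1 * (g⁻¹ * x * g)) * g⁻¹ := by group
      _ = g * ((g⁻¹ * x * g) * tr 1) * g⁻¹ := by rw [h1]
      _ = _ := by group
  rw [mul_inv_eq_iff_eq_mul] at hf'
  exact exists_coords (full_support hf') hf'

/-- Sylow `2`-subgroups of symmetric groups are self-normalizing. -/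
theorem normalizer_sylow_two : ∀ (n : ℕ) (X : Type) [Finite X], Nat.card X = n → ∀ Q : Sylow 2 (Perm X),
    Subgroup.normalizer ((Q : Subgroup (Perm X)) : Set (Perm X)) = (Q : Subgroup (Perm X)) := by
  haveI : Fact (Nat.Prime 2) := ⟨Nat.prime_two⟩
  intro n
  induction n using Nat.strong_induction_on with
  | _ n ih =>
    intro X _ hX Q
    refine le_antisymm ?_ Subgroup.le_normalizer
    by_cases hn : n < 2
    · haveI : Subsingleton X := (Finite.card_le_one_iff_subsingleton).mp (by omega)
      intro g _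
      rw [show g = 1 from Equiv.ext fun x => Subsingleton.elim _ _]
      exact one_mem _
    push Not at hn
    set B' := Fin (n / 2)
    set J := Fin (n % 2)
    haveI : Subsingleton J := ⟨fun a b => Fin.ext (by omega)⟩
    obtain ⟨P⟩ : Nonempty (Sylow 2 (Perm B')) := inferInstance
    obtain ⟨R, hR⟩ := exists_sylow_wr (p := 2) (ι := J) (by rw [Nat.card_fin]; exact Nat.mod_lt _ (by omega)) P
    have hP := ih _ (Nat.div_lt_self (by omega) (by omega)) B' (Nat.card_fin _) P
    have hRN : Subgroup.normalizer ((R : Subgroup (Perm (Pt 2 B' J))) : Set (Perm (Pt 2 B' J))) ≤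
        (R : Subgroup (Perm (Pt 2 B' J))) := by
      intro g hg
      rw [hR] at hg ⊢
      classical
      obtain ⟨e, σ, d, rfl⟩ := coords_of_normalizer le_rfl (fun c hc => eq_base_of_commute Set.univ
        (fun b b' hb => ⟨Pi.single b 1, Set.mem_univ _, by simp, by simp [hb]⟩)
        (fun b => ⟨Pi.single b 1, Set.mem_univ _, by simp⟩) fun f _ => hc _ (tr_mem_wr _ f)) hg
      have hd : (scl d : Perm (Pt 2 B' J)) = 1 := by
        have : d = 1 := funext fun b => Subsingleton.elim _ _
        rw [this]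
        exact map_one (sclHom (p := 2) (ι := J))
      rw [hd, mul_one] at hg ⊢
      refine ⟨e, σ, hP.le (Subgroup.mem_normalizer_fintype fun τ hτ => ?_), rfl⟩
      have h1 := (Subgroup.mem_normalizer_iff.mp hg (lift τ)).mp (lift_mem_wr hτ)
      have h2 := mul_mem (mul_mem (tr_mem_wr (p := 2) (ι := J) (P : Subgroup (Perm B')) (-e)) h1)
        (tr_mem_wr (P : Subgroup (Perm B')) e)
      rw [← tr_inv, show (tr e)⁻¹ * (tr e * lift σ * lift τ * (tr e * lift σ)⁻¹) * tr e =
        lift σ * lift τ * (lift σ : Perm (Pt 2 B' J))⁻¹ by group, lift_inv, ← lift_mul, ← lift_mul] at h2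
      exact mem_of_lift_mem h2
    obtain ⟨e⟩ : Nonempty (Pt 2 B' J ≃ X) := by
      refine ⟨(Finite.equivFinOfCardEq (n := n) ?_).trans (Finite.equivFinOfCardEq hX).symm⟩
      rw [Nat.card_sum, Nat.card_prod, Nat.card_zmod, Nat.card_fin, Nat.card_fin, Nat.div_add_mod]
    set ε : Perm (Pt 2 B' J) ≃* Perm X := e.permCongrHom
    have hεs : Function.Surjective ε.toMonoidHom := ε.surjective
    obtain ⟨g, hg⟩ := MulAction.exists_smul_eq (Perm X) (R.mapSurjective (f := ε.toMonoidHom) hεs) Q
    rw [← hg, Sylow.coe_subgroup_smul, Sylow.coe_mapSurjective]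
    set ψ : Perm (Pt 2 B' J) ≃* Perm X := ε.trans (MulAut.conj g)
    have hmem : ∀ y, ψ y ∈ MulAut.conj g • Subgroup.map ε.toMonoidHom (R : Subgroup (Perm (Pt 2 B' J))) ↔
        y ∈ (R : Subgroup (Perm (Pt 2 B' J))) := fun y => by
      constructor
      · rintro ⟨_, ⟨z, hz, rfl⟩, hzy⟩
        exact ψ.injective (a₁ := z) (a₂ := y) hzy ▸ hz
      · exact fun hy => ⟨_, ⟨y, hy, rfl⟩, rfl⟩
    intro x hx
    obtain ⟨y, rfl⟩ := ψ.surjective x
    refine (hmem y).mpr (hRN (Subgroup.mem_normalizer_fintype fun z hz => ?_))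
    refine (hmem _).mp ?_
    rw [map_mul, map_mul, map_inv]
    exact (Subgroup.mem_normalizer_iff.mp hx _).mp ((hmem z).mpr hz)

section Conj

variable [Fintype B] [DecidableEq B] [Fintype ι] [DecidableEq ι]

theorem support_tr (f : B → ZMod p) :
    (tr f : Perm (Pt p B ι)).support.card = p * (Finset.univ.filter fun b => f b ≠ 0).card := by
  have h : (tr f : Perm (Pt p B ι)).support =
      ((Finset.univ : Finset (ZMod p)) ×ˢ (Finset.univ.filter fun b => f b ≠ 0)).map Function.Embedding.inl := by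
    ext z
    rcases z with ⟨x, b⟩ | i <;> simp
  rw [h, Finset.card_map, Finset.card_product, Finset.card_univ, ZMod.card]

theorem sign_tr_odd (hp : p ≠ 2) (f : B → ZMod p) : Perm.sign (tr f : Perm (Pt p B ι)) = 1 := by
  have h := congrArg Perm.sign (tr_pow_p (ι := ι) f)
  rw [map_pow, map_one] at h
  obtain ⟨k, hk⟩ := (Fact.out : p.Prime).odd_of_ne_two hp
  have h' : Perm.sign (tr f : Perm (Pt p B ι)) ^ (2 * k + 1) = 1 :=
    (congrArg (fun n => Perm.sign (tr f : Perm (Pt p B ι)) ^ n) hk).symm.trans h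
  rw [pow_succ, pow_mul, Int.units_sq, one_pow, one_mul] at h'
  exact h'

theorem cycleType_eq_replicate {X : Type*} [Fintype X] [DecidableEq X] {x : Perm X} (hx : x ^ p = 1) :
    x.cycleType = Multiset.replicate (x.support.card / p) p := by
  have hp := (Fact.out : p.Prime)
  rcases eq_or_ne x 1 with rfl | hne
  · simp
  have ho : orderOf x = p := orderOf_eq_prime hx hne
  obtain ⟨k, hk⟩ := Perm.cycleType_prime_order (σ := x) (by rw [ho]; exact hp)
  rw [ho] at hk
  have hs := Perm.sum_cycleType x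
  rw [hk, Multiset.sum_replicate, smul_eq_mul] at hs
  rw [hk, ← hs, Nat.mul_div_cancel _ hp.pos]

/-- An element of order dividing `p` is conjugate to a translation by an indicator function. -/
theorem exists_conj_tr (hι : Fintype.card ι < p) {x : Perm (Pt p B ι)} (hx : x ^ p = 1) :
    ∃ (g : Perm (Pt p B ι)) (s : Finset B), g * x * g⁻¹ = tr (fun b => if b ∈ s then 1 else 0) ∧
      x.support.card = p * s.card := by
  have hp := (Fact.out : p.Prime)
  have hdvd : p ∣ x.support.card := by
    rcases eq_or_ne x 1 with rfl | hne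
    · simp
    have ho : orderOf x = p := orderOf_eq_prime hx hne
    obtain ⟨k, hk⟩ := Perm.cycleType_prime_order (σ := x) (by rw [ho]; exact hp)
    rw [← Perm.sum_cycleType, hk, ho, Multiset.sum_replicate, smul_eq_mul]
    exact dvd_mul_left _ _
  obtain ⟨k, hk⟩ := hdvd
  have hle : k ≤ (Finset.univ : Finset B).card := by
    have h1 : x.support.card ≤ Fintype.card (Pt p B ι) := Finset.card_le_univ _
    rw [hk, Fintype.card_sum, Fintype.card_prod, ZMod.card] at h1
    rw [Finset.card_univ]
    by_contra hc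
    push Not at hc
    have : p * (Fintype.card B + 1) ≤ p * k := Nat.mul_le_mul_left _ hc
    rw [mul_add, mul_one] at this
    omega
  obtain ⟨s, -, hs⟩ := Finset.exists_subset_card_eq hle
  have hsupp : (tr (fun b => if b ∈ s then 1 else 0) : Perm (Pt p B ι)).support.card = p * k := by
    rw [support_tr, ← hs]
    congr 2
    ext b
    simp
  have hc : IsConj x (tr fun b => if b ∈ s then 1 else 0) := Perm.isConj_iff_cycleType_eq.mpr (by
    rw [cycleType_eq_replicate hx, cycleType_eq_replicate (tr_pow_p _), hk, hsupp])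
  obtain ⟨g, hg⟩ := _root_.isConj_iff.mp hc
  exact ⟨g, s, hg, by rw [hk, hs]⟩

end Conj

end Cfsg.Lib.FusionSys.AltWreath
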