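import Cfsg.Agent.Lib.FusionSys.AltSimpleTwo

/-!
The `p`-fusion system of an alternating group of degree `n`, for odd `p` with `p² ≤ n` and `n % p ≤ 1`, is simple.
-/

set_option autoImplicit false
set_option linter.unusedSectionVars false

namespace Cfsg.Lib.FusionSys.AltWreath.OddPrime

open Equiv

variable {p : ℕ} [Fact p.Prime]

theorem units_pow_odd (hp : p ≠ 2) (u : ℤˣ) : u ^ p = u := by
  obtain ⟨k, hk⟩ := (Fact.out : p.Prime).odd_of_ne_two hp
  calc u ^ p = u ^ (2 * k + 1) := congrArg (fun n => u ^ n) hk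
    _ = u := by rw [pow_succ, pow_mul, Int.units_sq, one_pow, one_mul]

theorem sign_of_pow {α : Type*} [Fintype α] [DecidableEq α] (hp : p ≠ 2) {x : Perm α} {k : ℕ}
    (h : x ^ p ^ k = 1) : Perm.sign x = 1 := by
  have key : ∀ (u : ℤˣ) (k : ℕ), u ^ p ^ k = u := fun u k => by
    induction k with
    | zero => rw [pow_zero, pow_one]
    | succ k ih => rw [pow_succ, pow_mul, ih, units_pow_odd hp]
  rw [← key (Perm.sign x) k, ← map_pow, h, map_one]

section General

variable {B ι : Type*} [Fintype B] [DecidableEq B] [Fintype ι] [DecidableEq ι]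

theorem sign_lift_odd (hp : p ≠ 2) (σ : Perm B) : Perm.sign (lift σ : Perm (Pt p B ι)) = Perm.sign σ := by
  rw [sign_lift, units_pow_odd hp]

theorem sign_scl (d : B → (ZMod p)ˣ) :
    Perm.sign (scl d : Perm (Pt p B ι)) = ∏ b, Perm.sign (Units.mulLeft (d b) : Perm (ZMod p)) := by
  rw [scl]
  erw [Perm.sign_sumCongr]
  rw [Perm.sign_refl, mul_one, Perm.sign_prodCongrLeft]

theorem sign_scl_single (b : B) (u : (ZMod p)ˣ) :
    Perm.sign (scl (Pi.mulSingle b u) : Perm (Pt p B ι)) = Perm.sign (Units.mulLeft u : Perm (ZMod p)) := by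
  rw [sign_scl, Finset.prod_eq_single b]
  · rw [Pi.mulSingle_eq_same]
  · intro c _ hc
    rw [Pi.mulSingle_eq_of_ne hc]
    have : (Units.mulLeft (1 : (ZMod p)ˣ) : Perm (ZMod p)) = 1 := Equiv.ext fun x => by simp
    rw [this, map_one]
  · simp

theorem sign_scl_pair (b c : B) (u : (ZMod p)ˣ) :
    Perm.sign (scl (Pi.mulSingle b u * Pi.mulSingle c u) : Perm (Pt p B ι)) = 1 := by
  rw [scl_mul, map_mul, sign_scl_single, sign_scl_single, Int.units_mul_self]

theorem sign_wr (hp : p ≠ 2) (P : Sylow p (Perm B)) {x : Perm (Pt p B ι)}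
    (hx : x ∈ wr p ι (P : Subgroup (Perm B))) : Perm.sign x = 1 := by
  obtain ⟨f, σ, hσ, rfl⟩ := hx
  rw [map_mul, sign_tr_odd hp, one_mul, sign_lift_odd hp]
  obtain ⟨k, hk⟩ := P.isPGroup' ⟨σ, hσ⟩
  exact sign_of_pow hp (congrArg Subtype.val hk)

theorem comp_mulSingle (τ : Perm B) (x : B) (u : (ZMod p)ˣ) :
    Pi.mulSingle x u ∘ τ.symm = Pi.mulSingle (τ x) u := by
  funext a
  simp [Pi.mulSingle_apply, Equiv.symm_apply_eq]

theorem exists_third (hB : 3 ≤ Fintype.card B) (b b' : B) : ∃ c, c ≠ b ∧ c ≠ b' := by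
  by_contra h
  push Not at h
  have hle : (Finset.univ : Finset B) ⊆ {b, b'} := fun c _ => by
    by_cases hc : c = b
    · simp [hc]
    · simp [h c hc]
  have := (Finset.card_le_card hle).trans Finset.card_le_two
  rw [Finset.card_univ] at this
  omega

theorem eq_top_of_closed [Subsingleton ι] (hι : Fintype.card ι < p) (hp : p ≠ 2) (hB : 3 ≤ Fintype.card B)
    (P : Sylow p (Perm B)) (hPgen : (P : Subgroup (Perm B)) ≤
      Subgroup.closure {x | x ∈ (P : Subgroup (Perm B)) ∧ x ^ p = 1})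
    (T : Subgroup (Perm (Pt p B ι))) (hT : T ≤ wr p ι (P : Subgroup (Perm B))) (hT1 : T ≠ ⊥)
    (hcl : ∀ t ∈ T, ∀ g : Perm (Pt p B ι), Perm.sign g = 1 →
      g * t * g⁻¹ ∈ wr p ι (P : Subgroup (Perm B)) → g * t * g⁻¹ ∈ T) :
    wr p ι (P : Subgroup (Perm B)) ≤ T := by
  classical
  set M := wr p ι (P : Subgroup (Perm B))
  have hnorm : ∀ t ∈ T, ∀ x ∈ M, x * t * x⁻¹ ∈ T := fun t ht x hx =>
    hcl t ht x (sign_wr hp P hx) (mul_mem (mul_mem hx (hT ht)) (inv_mem hx))
  let W : AddSubgroup (B → ZMod p) :=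
    { carrier := {f | tr f ∈ T}
      zero_mem' := by show tr 0 ∈ T; rw [tr_zero]; exact one_mem T
      add_mem' := fun {f g} hf hg => by show tr (f + g) ∈ T; rw [tr_add]; exact mul_mem hf hg
      neg_mem' := fun {f} hf => by show tr (-f) ∈ T; rw [← tr_inv]; exact inv_mem hf }
  obtain ⟨f, hf, hf0⟩ : ∃ f ∈ W, f ≠ 0 := by
    obtain ⟨t, ht, ht1⟩ := (Subgroup.bot_or_exists_ne_one T).resolve_left hT1
    by_cases hcom : ∀ f, t * tr f = tr f * t
    · obtain ⟨f, rfl⟩ := eq_base_of_commute Set.univ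
        (fun b b' hb => ⟨Pi.single b 1, Set.mem_univ _, by simp, by simp [hb]⟩)
        (fun b => ⟨Pi.single b 1, Set.mem_univ _, by simp⟩) fun f _ => hcom f
      exact ⟨f, ht, fun e => ht1 (by rw [e, tr_zero])⟩
    · push Not at hcom
      obtain ⟨g, hne⟩ := hcom
      obtain ⟨g', hg'⟩ := normal_base (hT ht) g
      refine ⟨g' + -g, ?_, fun e => hne ?_⟩
      · show tr (g' + -g) ∈ T
        rw [tr_add, ← hg', ← tr_inv, show t * tr g * t⁻¹ * (tr g)⁻¹ = t * (tr g * t⁻¹ * (tr g)⁻¹) by group]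
        exact mul_mem ht (hnorm _ (inv_mem ht) _ (tr_mem_wr _ _))
      · rw [add_neg_eq_zero] at e
        rw [e, mul_inv_eq_iff_eq_mul] at hg'
        exact hg'
  have htwo : (2 : ZMod p) ≠ 0 := fun h => hp (by
    have h2 : ((2 : ℕ) : ZMod p) = 0 := by exact_mod_cast h
    rw [ZMod.natCast_eq_zero_iff] at h2 <;> exact (Nat.prime_dvd_prime_iff_eq Fact.out Nat.prime_two).mp h2)
  have hflip : ∀ f ∈ W, ∀ b c : B, b ≠ c → (2 * f b) • Pi.single b 1 + (2 * f c) • Pi.single c 1 ∈ W := by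
    intro f hf b c hbc
    set d : B → (ZMod p)ˣ := Pi.mulSingle b (-1) * Pi.mulSingle c (-1)
    have h1 : (scl d : Perm (Pt p B ι)) * tr f * (scl d)⁻¹ = tr (fun a => (d a : ZMod p) * f a) := by
      rw [scl_tr, mul_inv_cancel_right]
    have h2 : (fun a => (d a : ZMod p) * f a) ∈ W := by
      show tr _ ∈ T
      rw [← h1]
      exact hcl _ hf _ (sign_scl_pair b c _) (h1 ▸ tr_mem_wr _ _)
    convert W.sub_mem hf h2 using 1
    funext a
    by_cases ha : a = b
    · subst ha
      simp [d, hbc, two_mul]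
    · by_cases ha' : a = c
      · subst ha'
        simp [d, ha, two_mul]
      · simp [d, ha, ha']
  have hscal : ∀ (z : ZMod p), ∀ g ∈ W, z • g ∈ W := fun z g hg => by
    obtain ⟨k, rfl⟩ : ∃ k : ℕ, z = (k : ZMod p) := ⟨z.val, (ZMod.natCast_zmod_val z).symm⟩
    rw [Nat.cast_smul_eq_nsmul]
    exact W.nsmul_mem hg k
  obtain ⟨b, hfb⟩ := Function.ne_iff.mp hf0
  rw [Pi.zero_apply] at hfb
  have hsingle : Pi.single b (1 : ZMod p) ∈ W := by
    obtain ⟨c, hcb, -⟩ := exists_third hB b b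
    obtain ⟨c', hc'b, hc'c⟩ := exists_third hB b c
    have h1 := hflip _ (hflip f hf b c hcb.symm) b c' hc'b.symm
    have h2 := hscal (2 * (2 * f b))⁻¹ _ h1
    convert h2 using 1
    funext a
    simp [hcb, hc'b, hc'c, hcb.symm, hc'b.symm, hc'c.symm, mul_ne_zero htwo hfb]
    by_cases ha : a = b
    · subst ha
      simp [hc'b.symm, htwo, hfb]
      field_simp
    · simp [ha]
  have hall : ∀ c, Pi.single c (1 : ZMod p) ∈ W := by
    intro c
    by_cases hcb : c = b
    · rw [hcb]; exact hsingle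
    obtain ⟨z, hzb, hzc⟩ := exists_third hB b c
    set τ := Equiv.swap b c * Equiv.swap b z
    have hτ : Perm.sign (lift τ⁻¹ : Perm (Pt p B ι)) = 1 := by
      rw [sign_lift_odd hp, map_inv,
        (Perm.isThreeCycle_swap_mul_swap_same (Ne.symm hcb) hzb.symm hzc.symm).sign, inv_one]
    have h1 : (lift τ⁻¹ : Perm (Pt p B ι)) * tr (Pi.single b 1) * (lift τ⁻¹)⁻¹ = tr (Pi.single c 1) := by
      rw [lift_tr, mul_inv_cancel_right]
      congr 1
      funext a
      have hc : τ c = b := by simp [τ, Equiv.swap_apply_of_ne_of_ne hcb hzc.symm]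
      simp only [Function.comp, Perm.inv_def, Equiv.symm_symm]
      rcases eq_or_ne a c with rfl | ha
      · simp [hc]
      · have hne : τ a ≠ b := fun h => ha (τ.injective (h.trans hc.symm))
        simp [ha, hne]
    show tr _ ∈ T
    rw [← h1]
    exact hcl _ hsingle _ hτ (h1 ▸ tr_mem_wr _ _)
  have hbase : ∀ f : B → ZMod p, tr f ∈ T := fun f => by
    show f ∈ W
    rw [← Finset.univ_sum_single f]
    refine W.sum_mem fun c _ => ?_
    have := hscal (f c) _ (hall c)
    rwa [← Pi.single_smul, smul_eq_mul, mul_one] at this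
  have hinv : ∀ x ∈ M, x ^ p = 1 → x ∈ T := by
    intro x hx hxp
    obtain ⟨g, s, hg, -⟩ := exists_conj_tr hι hxp
    set e : B → ZMod p := fun b => if b ∈ s then 1 else 0
    obtain ⟨g, hgs, hg⟩ : ∃ g : Perm (Pt p B ι), Perm.sign g = 1 ∧ g * x * g⁻¹ = tr e := by
      rcases Int.units_eq_one_or (Perm.sign g) with h | h
      · exact ⟨g, h, hg⟩
      · obtain ⟨u, v, huv, he⟩ := Fintype.exists_ne_map_eq_of_card_lt (fun b => decide (b ∈ s))
          (by rw [Fintype.card_bool]; omega)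
        refine ⟨lift (Equiv.swap u v) * g, ?_, ?_⟩
        · rw [map_mul, sign_lift_odd hp, Perm.sign_swap huv, h]
          decide
        rw [show lift (Equiv.swap u v) * g * x * (lift (Equiv.swap u v) * g)⁻¹ =
          lift (Equiv.swap u v) * (g * x * g⁻¹) * (lift (Equiv.swap u v))⁻¹ by group,
          hg, lift_tr, mul_inv_cancel_right]
        congr 1
        funext a
        simp only [decide_eq_decide] at he
        simp only [Function.comp, Equiv.symm_swap, e]
        by_cases ha : a = u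
        · subst ha; simp [he]
        · by_cases ha' : a = v
          · subst ha'; simp [he]
          · rw [Equiv.swap_apply_of_ne_of_ne ha ha']
    have h1 : g⁻¹ * tr e * g⁻¹⁻¹ = x := by rw [← hg]; group
    rw [← h1]
    exact hcl _ (hbase e) _ (by rw [map_inv, hgs, inv_one]) (h1.symm ▸ hx)
  rintro x ⟨e, σ, hσ, rfl⟩
  refine mul_mem (hbase e) ?_
  have h1 := Subgroup.mem_map_of_mem (liftHom (p := p) (ι := ι)) (hPgen hσ)
  rw [MonoidHom.map_closure] at h1
  refine (Subgroup.closure_le T).mpr ?_ h1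
  rintro _ ⟨τ, ⟨hτ, hτp⟩, rfl⟩
  exact hinv _ (lift_mem_wr hτ) (by rw [← map_pow, hτp, map_one])

end General

end Cfsg.Lib.FusionSys.AltWreath.OddPrime
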