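import Cfsg.Agent.Lib.FusionSys.AltSimpleOdd

/-!
Automizers of the Sylow subgroup of an alternating group in terms of centric moves, for odd primes.
-/

set_option autoImplicit false
set_option linter.unusedSectionVars false

namespace Cfsg.Lib.FusionSys.AltWreath.OddPrime

open Equiv
open scoped Pointwise

variable {p : ℕ} [Fact p.Prime]

section Moves

variable {G : Type*} [Group G]

/-- Products of conjugates, under the normalizer of `R`, of elements of `S` normalizing `R`. -/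
def moves (S R : Subgroup G) : Subgroup G :=
  Subgroup.closure {x : G | ∃ w ∈ Subgroup.normalizer (R : Set G), ∃ u ∈ S,
    u ∈ Subgroup.normalizer (R : Set G) ∧ x = w * u * w⁻¹}

theorem conj_mem_moves {S R : Subgroup G} {n x : G} (hn : n ∈ Subgroup.normalizer (R : Set G))
    (hx : x ∈ moves S R) : n * x * n⁻¹ ∈ moves S R := by
  have h1 := Subgroup.mem_map_of_mem (MulAut.conj n).toMonoidHom hx
  rw [moves, MonoidHom.map_closure] at h1
  refine Subgroup.closure_mono ?_ h1
  rintro _ ⟨_, ⟨w, hw, u, hu, huN, rfl⟩, rfl⟩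
  exact ⟨n * w, mul_mem hn hw, u, hu, huN, by simp [MulAut.conj_apply, mul_assoc]⟩

end Moves

section General

variable {B ι : Type*} [Fintype B] [DecidableEq B] [Fintype ι] [DecidableEq ι]

/-- The translations as a subgroup of the alternating group. -/
abbrev baseA (p : ℕ) [Fact p.Prime] (B ι : Type*) [Fintype B] [DecidableEq B] [Fintype ι] [DecidableEq ι] :
    Subgroup (alternatingGroup (Pt p B ι)) :=
  (base p B ι).subgroupOf (alternatingGroup (Pt p B ι))

theorem mem_normalizer_baseA {n : alternatingGroup (Pt p B ι)}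
    (hn : ∀ f : B → ZMod p, ∃ f', (n : Perm (Pt p B ι)) * tr f * (n : Perm (Pt p B ι))⁻¹ = tr f') :
    n ∈ Subgroup.normalizer (baseA p B ι : Set (alternatingGroup (Pt p B ι))) := by
  refine Subgroup.mem_normalizer_fintype fun x hx => ?_
  obtain ⟨f, hf⟩ := hx
  obtain ⟨f', hf'⟩ := hn f
  refine ⟨f', ?_⟩
  simp only [Subgroup.subtype_apply, Subgroup.coe_mul, Subgroup.coe_inv] at hf ⊢
  rw [← hf']
  exact congrArg (fun y => (n : Perm (Pt p B ι)) * y * (n : Perm (Pt p B ι))⁻¹) hf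

/-- The moves through the base group, as permutations. -/
def baseMoves (P : Subgroup (Perm B)) : Subgroup (Perm (Pt p B ι)) :=
  (moves ((wr p ι P).subgroupOf (alternatingGroup (Pt p B ι))) (baseA p B ι)).map
    (alternatingGroup (Pt p B ι)).subtype

theorem conj_mem_baseMoves {P : Subgroup (Perm B)} {n k : Perm (Pt p B ι)} (hns : Perm.sign n = 1)
    (hn : ∀ f : B → ZMod p, ∃ f', n * tr f * n⁻¹ = tr f') (hk : k ∈ baseMoves P) :
    n * k * n⁻¹ ∈ baseMoves P := by
  obtain ⟨x, hx, rfl⟩ := hk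
  exact ⟨_, conj_mem_moves (mem_normalizer_baseA (n := ⟨n, Perm.mem_alternatingGroup.mpr hns⟩) hn) hx, rfl⟩

theorem wr_le_baseMoves (hp : p ≠ 2) (P : Sylow p (Perm B)) :
    (wr p ι (P : Subgroup (Perm B))) ≤ baseMoves (P : Subgroup (Perm B)) := by
  intro x hx
  have hA : x ∈ alternatingGroup (Pt p B ι) := Perm.mem_alternatingGroup.mpr (sign_wr hp P hx)
  refine ⟨⟨x, hA⟩, Subgroup.subset_closure ⟨1, one_mem _, ⟨x, hA⟩, hx, ?_, ?_⟩, rfl⟩
  · exact mem_normalizer_baseA fun f => normal_base hx f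
  · rw [one_mul, inv_one, mul_one]

theorem lift_pow_p_mem (hp : p ≠ 2) (P : Sylow p (Perm B)) {v : Perm B} (hv : v ^ p = 1) :
    (lift v : Perm (Pt p B ι)) ∈ baseMoves (P : Subgroup (Perm B)) := by
  have hvA : v ∈ alternatingGroup B :=
    Perm.mem_alternatingGroup.mpr (sign_of_pow hp (k := 1) (by rw [pow_one]; exact hv))
  obtain ⟨R, hR⟩ := exists_sylow_alt P
  have hzp : IsPGroup p (Subgroup.zpowers (⟨v, hvA⟩ : alternatingGroup B)) := by
    rcases eq_or_ne (⟨v, hvA⟩ : alternatingGroup B) 1 with h | h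
    · rw [h, Subgroup.zpowers_one_eq_bot]; exact IsPGroup.of_bot
    · refine IsPGroup.of_card (n := 1) ?_
      rw [Nat.card_zpowers, pow_one]
      exact orderOf_eq_prime (Subtype.ext hv) h
  obtain ⟨Rv, hRv⟩ := hzp.exists_le_sylow
  obtain ⟨g, hg⟩ := MulAction.exists_smul_eq (alternatingGroup B) Rv R
  have h1 : g * ⟨v, hvA⟩ * g⁻¹ ∈ (R : Subgroup (alternatingGroup B)) := by
    rw [← hg, Sylow.coe_subgroup_smul]
    exact ⟨⟨v, hvA⟩, hRv (Subgroup.mem_zpowers _), rfl⟩
  rw [hR] at h1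
  have h2 : ((g : Perm B) * v * (g : Perm B)⁻¹) ∈ (P : Subgroup (Perm B)) := h1
  have h3 := conj_mem_baseMoves (n := (lift (g : Perm B) : Perm (Pt p B ι))⁻¹)
    (by rw [map_inv, sign_lift_odd hp, Perm.mem_alternatingGroup.mp g.2, inv_one])
    (fun f => ⟨f ∘ (g : Perm B)⁻¹.symm, by rw [lift_inv, lift_tr, mul_inv_cancel_right]⟩)
    (wr_le_baseMoves (ι := ι) hp P (lift_mem_wr h2))
  rw [lift_inv, lift_inv, inv_inv, ← lift_mul, ← lift_mul] at h3
  rwa [show (g : Perm B)⁻¹ * ((g : Perm B) * v * (g : Perm B)⁻¹) * (g : Perm B) = v by group] at h3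

theorem lift_even_mem (hp : p ≠ 2) (hB : p ≤ Fintype.card B) (P : Sylow p (Perm B)) {σ : Perm B}
    (hσ : Perm.sign σ = 1) : (lift σ : Perm (Pt p B ι)) ∈ baseMoves (P : Subgroup (Perm B)) := by
  have hdvd : p ∣ Nat.card (Perm B) := by
    rw [Nat.card_perm, Nat.card_eq_fintype_card]
    exact Nat.dvd_factorial (Fact.out : p.Prime).pos hB
  obtain ⟨c, hc⟩ := exists_prime_orderOf_dvd_card' p hdvd
  have hc1 : c ≠ 1 := fun h => by
    rw [h, orderOf_one] at hc
    exact (Fact.out : p.Prime).ne_one hc.symm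
  have hcp : c ^ p = 1 := hc ▸ pow_orderOf_eq_one c
  obtain ⟨u, hu⟩ : ∃ u, c u ≠ u := by
    by_contra h
    push Not at h
    exact hc1 (Equiv.ext h)
  set w := c u with hw
  have hwcw : w ≠ c w := fun h => hu (c.injective h).symm
  have hcwu : c w ≠ u := by
    intro h
    obtain ⟨k, hk⟩ := (Fact.out : p.Prime).odd_of_ne_two hp
    have h2 : ∀ j : ℕ, (c ^ (2 * j)) u = u := fun j => by
      induction j with
      | zero => rfl
      | succ j ih =>
        rw [Nat.mul_succ, pow_add, Perm.mul_apply, pow_two, Perm.mul_apply, ← hw, h, ih]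
    have h3 : (c ^ p) u = (c ^ (2 * k + 1)) u := congrArg (fun n => (c ^ n) u) hk
    rw [hcp, pow_succ', Perm.mul_apply, h2] at h3
    exact hu h3.symm
  set t := Equiv.swap u w * c⁻¹ * (Equiv.swap u w)⁻¹
  have h3c : Perm.IsThreeCycle (c * t) := by
    have h1 : c * t = Equiv.swap w (c w) * Equiv.swap w u := by
      have h2 : Equiv.swap w (c w) = c * Equiv.swap u w * c⁻¹ := by
        conv_lhs => rw [hw]
        exact Equiv.swap_apply_apply c u w
      simp only [t, h2, Equiv.swap_inv, Equiv.swap_comm w u]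
      group
    rw [h1]
    exact Perm.isThreeCycle_swap_mul_swap_same hwcw hu hcwu
  have htp : t ^ p = 1 := by rw [conj_pow, inv_pow, hcp, inv_one, mul_one, mul_inv_cancel]
  have hthree : ∀ τ : Perm B, Perm.IsThreeCycle τ → (lift τ : Perm (Pt p B ι)) ∈ baseMoves (P : Subgroup (Perm B)) := by
    intro τ hτ
    obtain ⟨g, rfl⟩ := _root_.isConj_iff.mp (Perm.isConj_iff_cycleType_eq.mpr (h3c.cycleType.trans hτ.cycleType.symm))
    rw [show g * (c * t) * g⁻¹ = (g * c * g⁻¹) * (g * t * g⁻¹) by group, lift_mul]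
    refine mul_mem (lift_pow_p_mem hp P ?_) (lift_pow_p_mem hp P ?_)
    · rw [conj_pow, hcp, mul_one, mul_inv_cancel]
    · rw [conj_pow, htp, mul_one, mul_inv_cancel]
  have h1 : σ ∈ Subgroup.closure {τ : Perm B | Perm.IsThreeCycle τ} := by
    rw [Perm.closure_three_cycles_eq_alternating]
    exact Perm.mem_alternatingGroup.mpr hσ
  have h2 := Subgroup.mem_map_of_mem (liftHom (p := p) (ι := ι)) h1
  rw [MonoidHom.map_closure] at h2
  refine (Subgroup.closure_le _).mpr ?_ h2
  rintro _ ⟨τ, hτ, rfl⟩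
  exact hthree τ hτ

theorem scl_mem (hp : p ≠ 2) (hB : p ≤ Fintype.card B) (P : Sylow p (Perm B)) {d : B → (ZMod p)ˣ}
    (hd : ∏ b, d b = 1) : (scl d : Perm (Pt p B ι)) ∈ baseMoves (P : Subgroup (Perm B)) := by
  have h3 : 3 ≤ Fintype.card B := by
    have := (Fact.out : p.Prime).two_le
    omega
  have hpair : ∀ (x y : B), x ≠ y → ∀ u, (scl (Pi.mulSingle x u * Pi.mulSingle y u⁻¹) : Perm (Pt p B ι)) ∈
      baseMoves (P : Subgroup (Perm B)) := by
    intro x y hxy u
    obtain ⟨b, hbx, hby⟩ := exists_third h3 x y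
    set τ := Equiv.swap b x * Equiv.swap b y
    have hτ : Perm.IsThreeCycle τ := Perm.isThreeCycle_swap_mul_swap_same hbx hby hxy
    have hlift := lift_even_mem (ι := ι) hp hB P hτ.sign
    set D : B → (ZMod p)ˣ := Pi.mulSingle b u * Pi.mulSingle x u
    have h1 := conj_mem_baseMoves (n := (scl D : Perm (Pt p B ι))) (sign_scl_pair b x u)
      (fun f => ⟨fun a => (D a : ZMod p) * f a, by rw [scl_tr, mul_inv_cancel_right]⟩) hlift
    have h2 := mul_mem h1 (inv_mem hlift)
    rw [scl_inv, mul_assoc (scl D), lift_scl, ← mul_assoc, ← scl_mul, mul_inv_cancel_right] at h2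
    have hb : τ b = y := by simp [τ, Equiv.swap_apply_of_ne_of_ne hby.symm hxy.symm]
    have hx : τ x = b := by simp [τ, Equiv.swap_apply_of_ne_of_ne hbx.symm hxy]
    have h5 : D⁻¹ ∘ τ.symm = (Pi.mulSingle y u * Pi.mulSingle b u : B → (ZMod p)ˣ)⁻¹ := by
      have : D⁻¹ ∘ τ.symm = ((Pi.mulSingle b u ∘ τ.symm) * (Pi.mulSingle x u ∘ τ.symm) : B → (ZMod p)ˣ)⁻¹ := rfl
      rw [this, comp_mulSingle, comp_mulSingle, hb, hx]
    rw [h5] at h2
    convert h2 using 2
    rw [Pi.mulSingle_inv]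
    simp [D, mul_comm, mul_left_comm, mul_assoc]
  obtain ⟨b₀, -⟩ : ∃ b₀ : B, True := by
    obtain ⟨b₀⟩ : Nonempty B := Fintype.card_pos_iff.mp (by omega)
    exact ⟨b₀, trivial⟩
  have hd' : d = ∏ b, (Pi.mulSingle b (d b) * Pi.mulSingle b₀ (d b)⁻¹) := by
    have h1 : ∀ s : Finset B, (∏ b ∈ s, (Pi.mulSingle b₀ (d b)⁻¹ : B → (ZMod p)ˣ)) =
        Pi.mulSingle b₀ (∏ b ∈ s, (d b)⁻¹) := fun s =>
      (map_prod (MonoidHom.mulSingle (fun _ : B => (ZMod p)ˣ) b₀) _ s).symm
    rw [Finset.prod_mul_distrib, Finset.univ_prod_mulSingle, h1, Finset.prod_inv_distrib, hd, inv_one,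
      Pi.mulSingle_one, mul_one]
  have key : ∀ s : Finset B, (scl (∏ b ∈ s, (Pi.mulSingle b (d b) * Pi.mulSingle b₀ (d b)⁻¹)) :
      Perm (Pt p B ι)) ∈ baseMoves (P : Subgroup (Perm B)) := by
    intro s
    induction s using Finset.induction_on with
    | empty =>
      rw [Finset.prod_empty]
      rw [show (scl 1 : Perm (Pt p B ι)) = 1 from map_one (sclHom (p := p) (ι := ι))]; exact one_mem _
    | insert a s ha ih =>
      rw [Finset.prod_insert ha, scl_mul]
      refine mul_mem ?_ ih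
      by_cases hab : a = b₀
      · rw [hab, Pi.mulSingle_inv, mul_inv_cancel]
        rw [show (scl 1 : Perm (Pt p B ι)) = 1 from map_one (sclHom (p := p) (ι := ι))]; exact one_mem _
      · exact hpair a b₀ hab _
  rw [hd']
  exact key _

/-- Elements of block form with scaling of product one are moves through the base group. -/
theorem coords_mem (hp : p ≠ 2) (hB : p ≤ Fintype.card B) (P : Sylow p (Perm B)) {e : B → ZMod p} {σ : Perm B}
    {d : B → (ZMod p)ˣ} (hs : Perm.sign (tr e * lift σ * scl d : Perm (Pt p B ι)) = 1) (hd : ∏ b, d b = 1) :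
    (tr e * lift σ * scl d : Perm (Pt p B ι)) ∈ baseMoves (P : Subgroup (Perm B)) := by
  have hscl := scl_mem (ι := ι) hp hB P hd
  have h1 : Perm.sign (scl d : Perm (Pt p B ι)) = 1 := by
    obtain ⟨x, -, hx⟩ := hscl
    rw [← hx]
    exact Perm.mem_alternatingGroup.mp x.2
  rw [map_mul, map_mul, sign_tr_odd hp, h1, one_mul, mul_one, sign_lift_odd hp] at hs
  exact mul_mem (mul_mem (wr_le_baseMoves hp P (tr_mem_wr _ e)) (lift_even_mem hp hB P hs)) hscl

end General

end Cfsg.Lib.FusionSys.AltWreath.OddPrime
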