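import Cfsg.Agent.Lib.FusionSys.AltSimpleOddTorus

/-!
Simplicity of the fusion systems of alternating groups for odd primes.
-/

set_option autoImplicit false
set_option linter.unusedSectionVars false

namespace Cfsg.Lib.FusionSys.AltWreath.OddPrime

open Equiv

variable {p : ℕ} [Fact p.Prime] {Y J ι : Type*} [Fintype Y] [DecidableEq Y] [Fintype J] [DecidableEq J]
  [Fintype ι] [DecidableEq ι] [Subsingleton ι]

/-- Inner scaling of the torus element. -/
def dIn (O : Finset Y) (a : (ZMod p)ˣ) : Y → (ZMod p)ˣ := fun y => if y ∈ O then a⁻¹ else 1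

/-- Outer scaling of the torus element. -/
def dOut (O : Finset Y) (a : (ZMod p)ˣ) : Pt p Y J → (ZMod p)ˣ :=
  Sum.elim (fun iy => if iy.2 ∈ O then a else 1) fun _ => 1

theorem onO_dg (O : Finset Y) (a : (ZMod p)ˣ) :
    (onO O (dg a) : Perm (Pt p (Pt p Y J) ι)) = lift (scl (dIn O a)) * scl (dOut O a) := by
  refine perm_ext (fun x b => ?_) fun k => rfl
  obtain ⟨i, y⟩ | j := b
  · by_cases hy : y ∈ O
    · rw [onO_inl_mem O _ _ _ hy, Perm.mul_apply, scl_inl, lift_inl, scl_inl]; simp only [dg_apply, dIn, dOut, Sum.elim_inl, if_pos hy]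
    · rw [onO_inl_not_mem O _ _ _ hy]; simp [dIn, dOut, hy]
  · rw [onO_inl_inr]; simp [dOut]

theorem onO_shU (O : Finset Y) (t : ZMod p) :
    (onO O (shU t) : Perm (Pt p (Pt p Y J) ι)) =
      tr (Sum.elim (fun iy => if iy.2 ∈ O then t * iy.1 else 0) fun _ => 0) := by
  refine perm_ext (fun x b => ?_) fun k => rfl
  obtain ⟨i, y⟩ | j := b
  · by_cases hy : y ∈ O
    · rw [onO_inl_mem O _ _ _ hy]; simp [hy]
    · rw [onO_inl_not_mem O _ _ _ hy]; simp [hy]
  · rw [onO_inl_inr]; simp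

theorem prod_dOut (O : Finset Y) {k : ℕ} (hO : O.card = p ^ k) (a : (ZMod p)ˣ) :
    ∏ b, dOut (J := J) O a b = a := by
  have hpow : ∀ u : (ZMod p)ˣ, u ^ p = u := fun u => Units.ext (by rw [Units.val_pow_eq_pow_val, ZMod.pow_card])
  have hpowk : ∀ k : ℕ, a ^ p ^ k = a := fun k => by
    induction k with
    | zero => rw [pow_zero, pow_one]
    | succ k ih => rw [pow_succ, pow_mul, ih, hpow]
  rw [Fintype.prod_sum_type]
  simp only [dOut, Sum.elim_inl, Sum.elim_inr, Finset.prod_const_one, mul_one]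
  rw [Fintype.prod_prod_type]
  simp only [Finset.prod_ite_mem, Finset.univ_inter, Finset.prod_const, hO, hpowk, Finset.card_univ, ZMod.card, hpow]

variable (hp : p ≠ 2) (O : Finset Y) (PY : Sylow p (Perm Y))
  (P : Sylow p (Perm (Pt p Y J))) (hP : (P : Subgroup (Perm (Pt p Y J))) = wr p J (PY : Subgroup (Perm Y)))
  (hO : ∀ σ ∈ (PY : Subgroup (Perm Y)), ∀ y, σ y ∈ O ↔ y ∈ O)

include hP hO in
theorem onO_dg_conj (a : (ZMod p)ˣ) {x : Perm (Pt p (Pt p Y J) ι)}
    (hx : x ∈ wr p ι (P : Subgroup (Perm (Pt p Y J)))) :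
    onO O (dg a) * x * (onO O (dg a))⁻¹ ∈ wr p ι (P : Subgroup (Perm (Pt p Y J))) := by
  obtain ⟨f, τ, hτ, rfl⟩ := hx
  rw [hP] at hτ
  obtain ⟨v, σ, hσ, rfl⟩ := hτ
  have hc : dOut (J := J) O a ∘ (tr v * lift σ : Perm (Pt p Y J)).symm = dOut O a := by
    funext b
    obtain ⟨b, rfl⟩ := (tr v * lift σ : Perm (Pt p Y J)).surjective b
    rw [Function.comp, Equiv.symm_apply_apply]
    obtain ⟨i, y⟩ | j := b <;> simp [dOut, hO σ hσ]
  have hd : dIn O a ∘ σ.symm = dIn O a := by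
    funext y
    obtain ⟨y, rfl⟩ := σ.surjective y
    simp [dIn, hO σ hσ]
  set δ : Perm (Pt p Y J) := scl (dIn O a)
  have hin : δ * (tr v * lift σ) * δ⁻¹ = tr (fun y => (dIn O a y : ZMod p) * v y) * lift σ := by
    rw [mul_inv_eq_iff_eq_mul, ← mul_assoc, scl_tr, mul_assoc _ _ (lift σ), mul_assoc _ (lift σ), lift_scl, hd]
  refine ⟨(fun b => (dOut O a b : ZMod p) * f b) ∘ δ.symm, δ * (tr v * lift σ) * δ⁻¹, ?_, ?_⟩
  · rw [hP, hin]
    exact ⟨_, σ, hσ, rfl⟩
  rw [onO_dg, mul_inv_eq_iff_eq_mul]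
  calc lift δ * scl (dOut O a) * (tr f * lift (tr v * lift σ))
      = lift δ * (scl (dOut O a) * tr f) * lift (tr v * lift σ) := by simp only [mul_assoc]
    _ = (lift δ * tr (fun b => (dOut O a b : ZMod p) * f b)) * (scl (dOut O a) * lift (tr v * lift σ)) := by
      rw [scl_tr]; simp only [mul_assoc]
    _ = tr ((fun b => (dOut O a b : ZMod p) * f b) ∘ δ.symm) * lift δ *
          (lift (tr v * lift σ) * scl (dOut O a)) := by
      rw [lift_tr, lift_scl, hc]
    _ = _ := by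
      simp only [← mul_assoc, mul_assoc _ (lift _) (lift _), ← lift_mul]
      rw [show scl (dIn O a) = δ from rfl, inv_mul_cancel_right]

include hp in
theorem sign_onO_dg (a : (ZMod p)ˣ) : Perm.sign (onO O (dg a) : Perm (Pt p (Pt p Y J) ι)) = 1 := by
  rw [dg_eq, map_mul, map_mul, map_mul, map_mul, map_mul, map_mul, map_mul, map_mul, map_mul, map_mul,
    sign_shU O hp, sign_shU O hp, sign_shL O hp, sign_shL O hp]
  rfl

include hp hP hO in
theorem torus_mem_centricMoves (a : (ZMod p)ˣ) :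
    ⟨onO O (dg a), Perm.mem_alternatingGroup.mpr (sign_onO_dg hp O a)⟩ ∈
      centricMoves ((wr p ι (P : Subgroup (Perm (Pt p Y J)))).subgroupOf
        (alternatingGroup (Pt p (Pt p Y J) ι))) := by
  set M := wr p ι (P : Subgroup (Perm (Pt p Y J)))
  set S := M.subgroupOf (alternatingGroup (Pt p (Pt p Y J) ι))
  set R := (R2 O).subgroupOf (alternatingGroup (Pt p (Pt p Y J) ι))
  have hR2M : R2 O ≤ M := by
    rintro _ ⟨f, v, -, rfl⟩
    exact mul_mem (tr_mem_wr _ f) (lift_mem_wr (hP ▸ tr_mem_wr _ v))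
  have hUM : ∀ t, (onO O (shU t) : Perm (Pt p (Pt p Y J) ι)) ∈ M := fun t => by
    rw [onO_shU]; exact tr_mem_wr _ _
  have hN : ∀ (π : Perm (ZMod p × ZMod p)), (∀ z z', π (z + z') = π z + π z') →
      ∀ h : (onO O π : Perm (Pt p (Pt p Y J) ι)) ∈ alternatingGroup (Pt p (Pt p Y J) ι),
        (⟨onO O π, h⟩ : alternatingGroup (Pt p (Pt p Y J) ι)) ∈ Subgroup.normalizer (R : Set _) := fun π hπ h =>
    Subgroup.mem_normalizer_fintype fun x hx => onO_conj_el O π hπ hx
  have haddU : ∀ t : ZMod p, ∀ z z' : ZMod p × ZMod p, shU t (z + z') = shU t z + shU t z' := by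
    rintro t ⟨x, i⟩ ⟨x', i'⟩
    simp only [Prod.mk_add_mk, shU_apply]
    ext <;> ring
  have haddL : ∀ t : ZMod p, ∀ z z' : ZMod p × ZMod p, shL t (z + z') = shL t z + shL t z' := by
    rintro t ⟨x, i⟩ ⟨x', i'⟩
    simp only [Prod.mk_add_mk, shL_apply]
    ext <;> ring
  refine ⟨Subgroup.mem_normalizer_fintype fun x hx => onO_dg_conj O PY P hP hO a hx, R,
    fun x hx => hR2M hx, fun x hx => centralizer_R2 O fun y hy => ?_, ?_⟩
  · exact (congrArg Subtype.val (Subgroup.mem_centralizer_iff.mp hx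
      ⟨y, Perm.mem_alternatingGroup.mpr (sign_wr hp P (hR2M hy))⟩ hy)).symm
  set U : ZMod p → alternatingGroup (Pt p (Pt p Y J) ι) := fun t =>
    ⟨onO O (shU t), Perm.mem_alternatingGroup.mpr (sign_shU O hp t)⟩
  set L : ZMod p → alternatingGroup (Pt p (Pt p Y J) ι) := fun t =>
    ⟨onO O (shL t), Perm.mem_alternatingGroup.mpr (sign_shL O hp t)⟩
  have hU : ∀ t, U t ∈ moves S R := fun t => Subgroup.subset_closure
    ⟨1, one_mem _, U t, hUM t, hN _ (haddU t) _, by rw [one_mul, inv_one, mul_one]⟩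
  have hUn : ∀ t, U t ∈ Subgroup.normalizer (R : Set _) := fun t => hN _ (haddU t) _
  have hLn : ∀ t, L t ∈ Subgroup.normalizer (R : Set _) := fun t => hN _ (haddL t) _
  have hL : ∀ t, L t ∈ moves S R := fun t => by
    refine Subgroup.subset_closure ⟨U 1 * L (-1) * U 1, mul_mem (mul_mem (hUn _) (hLn _)) (hUn _), U (-t), hUM _,
      hUn _, Subtype.ext ?_⟩
    show (onO O (shL t) : Perm (Pt p (Pt p Y J) ι)) = _
    rw [shL_eq, map_mul, map_mul, map_inv, map_mul, map_mul]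
    rfl
  have h : (⟨onO O (dg a), Perm.mem_alternatingGroup.mpr (sign_onO_dg hp O a)⟩ :
      alternatingGroup (Pt p (Pt p Y J) ι)) =
        (U (a : ZMod p) * L (-((a⁻¹ : (ZMod p)ˣ) : ZMod p)) * U (a : ZMod p)) * (U (-1) * L 1 * U (-1)) := by
    refine Subtype.ext ?_
    show (onO O (dg a) : Perm (Pt p (Pt p Y J) ι)) = _
    rw [dg_eq, map_mul, map_mul, map_mul, map_mul, map_mul]
    rfl
  rw [h]
  exact mul_mem (mul_mem (mul_mem (hU _) (hL _)) (hU _)) (mul_mem (mul_mem (hU _) (hL _)) (hU _))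

include hp hP hO in
theorem normalizer_le {k : ℕ} (hk : O.card = p ^ k) (hB : p ≤ Fintype.card (Pt p Y J)) :
    Subgroup.normalizer (((wr p ι (P : Subgroup (Perm (Pt p Y J)))).subgroupOf
        (alternatingGroup (Pt p (Pt p Y J) ι)) : Subgroup _) : Set (alternatingGroup (Pt p (Pt p Y J) ι))) ≤
      Subgroup.closure ((((wr p ι (P : Subgroup (Perm (Pt p Y J)))).subgroupOf
        (alternatingGroup (Pt p (Pt p Y J) ι)) : Subgroup _) : Set (alternatingGroup (Pt p (Pt p Y J) ι))) ∪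
        centricMoves ((wr p ι (P : Subgroup (Perm (Pt p Y J)))).subgroupOf
          (alternatingGroup (Pt p (Pt p Y J) ι)))) := by
  classical
  set M := wr p ι (P : Subgroup (Perm (Pt p Y J)))
  set S := M.subgroupOf (alternatingGroup (Pt p (Pt p Y J) ι))
  intro g hg
  have hgM : (g : Perm (Pt p (Pt p Y J) ι)) ∈ Subgroup.normalizer (M : Set (Perm (Pt p (Pt p Y J) ι))) :=
    Subgroup.mem_normalizer_fintype fun x hx =>
      (Subgroup.mem_normalizer_iff.mp hg ⟨x, Perm.mem_alternatingGroup.mpr (sign_wr hp P hx)⟩).mp hx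
  have hbaseC : ∀ c : Perm (Pt p (Pt p Y J) ι), (∀ f, c * tr f = tr f * c) → ∃ f, c = tr f := fun c hc =>
    eq_base_of_commute Set.univ
      (fun b b' hb => ⟨Pi.single b 1, Set.mem_univ _, by simp, by simp [hb]⟩)
      (fun b => ⟨Pi.single b 1, Set.mem_univ _, by simp⟩) fun f _ => hc f
  obtain ⟨e, σ, d, he⟩ := coords_of_normalizer le_rfl
    (fun c hc => hbaseC c fun f => hc _ (tr_mem_wr _ f)) hgM
  set a := ∏ b, d b with ha
  set h : alternatingGroup (Pt p (Pt p Y J) ι) :=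
    ⟨onO O (dg a), Perm.mem_alternatingGroup.mpr (sign_onO_dg hp O a)⟩
  have hhm : h ∈ centricMoves S := torus_mem_centricMoves hp O PY P hP hO a
  set g' := g * h⁻¹ with hg'
  set δ : Perm (Pt p Y J) := scl (dIn O a)
  have hcoord : (g' : Perm (Pt p (Pt p Y J) ι)) =
      tr e * lift (σ * δ⁻¹) * scl (fun b => d (δ⁻¹ b) * (dOut O a (δ⁻¹ b))⁻¹) := by
    show (g : Perm (Pt p (Pt p Y J) ι)) * (onO O (dg a))⁻¹ = _
    rw [he, onO_dg, mul_inv_rev, scl_inv, lift_inv, mul_assoc (tr e * lift σ), ← mul_assoc (scl d), ← scl_mul,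
      lift_mul, ← mul_assoc (tr e), mul_assoc (tr e * lift σ) (lift δ⁻¹), lift_scl]
    congr 3
    funext b
    simp [Perm.inv_def, δ]
  have hmem : (g' : Perm (Pt p (Pt p Y J) ι)) ∈ baseMoves (P : Subgroup (Perm (Pt p Y J))) := by
    rw [hcoord]
    refine coords_mem hp hB P ?_ ?_
    · rw [← hcoord]; exact Perm.mem_alternatingGroup.mp g'.2
    · rw [Equiv.prod_comp δ⁻¹ (fun b => d b * (dOut O a b)⁻¹), Finset.prod_mul_distrib, Finset.prod_inv_distrib,
        prod_dOut O hk, ← ha, mul_inv_cancel]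
  obtain ⟨x, hx, hxg⟩ := hmem
  have hx' : x = g' := Subtype.ext hxg
  subst hx'
  have hg'm : g' ∈ centricMoves S := by
    refine ⟨mul_mem hg (inv_mem hhm.1), baseA p (Pt p Y J) ι, ?_, ?_, hx⟩
    · rintro y ⟨f, hf⟩
      show (y : Perm (Pt p (Pt p Y J) ι)) ∈ M
      rw [show (y : Perm (Pt p (Pt p Y J) ι)) = tr f from hf.symm]
      exact tr_mem_wr _ f
    · intro c hc
      obtain ⟨f, hf⟩ := hbaseC c fun f => (congrArg Subtype.val (Subgroup.mem_centralizer_iff.mp hc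
        ⟨tr f, Perm.mem_alternatingGroup.mpr (sign_tr_odd hp f)⟩ ⟨f, rfl⟩)).symm
      exact ⟨f, hf.symm⟩
  have : g = g' * h := by rw [hg', inv_mul_cancel_right]
  rw [this]
  exact mul_mem (Subgroup.subset_closure (Or.inr hg'm)) (Subgroup.subset_closure (Or.inr hhm))

theorem isSimple_odd {q s r : ℕ} (hp : p ≠ 2) (hq : 1 ≤ q) (hs : s < p) (hr : r ≤ 1) {H : Type*} [Group H]
    [Finite H] (e : alternatingGroup (Pt p (Pt p (Fin q) (Fin s)) (Fin r)) ≃* H) (S : Sylow p H) :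
    (Cfsg.groupFusionSystem (S : Subgroup H)).IsSimple p := by
  classical
  haveI : Subsingleton (Fin r) := ⟨fun a b => Fin.ext (by omega)⟩
  have hp3 : 3 ≤ p := by
    have := (Fact.out : p.Prime).two_le
    omega
  have hB : p ≤ Fintype.card (Pt p (Fin q) (Fin s)) := by
    rw [Fintype.card_sum, Fintype.card_prod, ZMod.card, Fintype.card_fin, Fintype.card_fin]
    nlinarith
  obtain ⟨PY⟩ : Nonempty (Sylow p (Perm (Fin q))) := inferInstance
  obtain ⟨P, hP⟩ := exists_sylow_wr (p := p) (ι := Fin s) (by rw [Nat.card_fin]; exact hs) PY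
  obtain ⟨W, hW⟩ := exists_sylow_wr (p := p) (ι := Fin r) (by rw [Nat.card_fin]; omega) P
  obtain ⟨Q, hQ⟩ := exists_sylow_alt W
  rw [hW] at hQ
  set y₀ : Fin q := ⟨0, hq⟩
  set O : Finset (Fin q) := Finset.univ.filter fun y => y ∈ MulAction.orbit (PY : Subgroup (Perm (Fin q))) y₀
  have hO : ∀ σ ∈ (PY : Subgroup (Perm (Fin q))), ∀ y, σ y ∈ O ↔ y ∈ O := by
    intro σ hσ y
    simp only [O, Finset.mem_filter, Finset.mem_univ, true_and]
    constructor
    · rintro ⟨τ, hτ⟩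
      have hτ' : τ • y₀ = (⟨σ, hσ⟩ : (PY : Subgroup (Perm (Fin q)))) • y := hτ
      exact ⟨⟨σ, hσ⟩⁻¹ * τ, by show (⟨σ, hσ⟩⁻¹ * τ) • y₀ = y; rw [mul_smul, hτ', inv_smul_smul]⟩
    · rintro ⟨τ, hτ⟩
      have hτ' : τ • y₀ = y := hτ
      refine ⟨⟨σ, hσ⟩ * τ, ?_⟩
      show ((⟨σ, hσ⟩ : (PY : Subgroup (Perm (Fin q)))) * τ) • y₀ = σ y
      rw [mul_smul, hτ']
      rfl
  obtain ⟨k, hk⟩ := PY.isPGroup'.card_orbit y₀
  have hOc : O.card = p ^ k := by
    rw [← hk, Nat.card_eq_fintype_card, Fintype.card_of_subtype O fun y => by simp [O]]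
  refine isSimple_of_centric_equiv e Q ?_ ?_ (hQ ▸ normalizer_le hp O PY P hP hO hOc hB) S
  · intro h
    have hA : (tr 1 : Perm (Pt p (Pt p (Fin q) (Fin s)) (Fin r))) ∈ alternatingGroup _ :=
      Perm.mem_alternatingGroup.mpr (sign_tr_odd hp _)
    have h1 : (⟨tr 1, hA⟩ : alternatingGroup _) ∈ (Q : Subgroup (alternatingGroup _)) := by
      rw [hQ]; exact tr_mem_wr _ _
    rw [h, Subgroup.mem_bot] at h1
    have h2 := congrArg Subtype.val h1
    rw [Subgroup.coe_one, ← tr_zero] at h2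
    have h3 := congrFun (tr_injective h2) (Sum.inl (0, y₀))
    simp at h3
  · intro T hTQ hT0 hcl
    refine le_antisymm hTQ fun x hx => ?_
    rw [hQ] at hx
    have hgen := sylow_le_closure_order_p (p := p) _ _ rfl P
    have h1 := eq_top_of_closed (ι := Fin r) (by rw [Fintype.card_fin]; omega) hp (by omega) P hgen
      (T.map (alternatingGroup _).subtype) ?_ ?_ ?_ hx
    · obtain ⟨y, hy, hyx⟩ := h1
      rwa [← Subtype.ext hyx]
    · rintro _ ⟨t, ht, rfl⟩
      have := hTQ ht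
      rw [hQ] at this
      exact this
    · exact fun h => hT0 ((Subgroup.map_eq_bot_iff_of_injective _ (Subgroup.subtype_injective _)).mp h)
    · rintro _ ⟨t, ht, rfl⟩ g hgs hg
      refine ⟨⟨g, Perm.mem_alternatingGroup.mpr hgs⟩ * t * ⟨g, Perm.mem_alternatingGroup.mpr hgs⟩⁻¹,
        hcl t ht _ ?_, rfl⟩
      rw [hQ]
      exact hg

end Cfsg.Lib.FusionSys.AltWreath.OddPrime
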