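import Cfsg.Agent.Lib.FusionSys.AltSimpleOddGen

/-!
A torus element of `SL₂(p)` acting diagonally on an orbit of `p²`-point blocks.
-/

set_option autoImplicit false
set_option linter.unusedSectionVars false

namespace Cfsg.Lib.FusionSys.AltWreath.OddPrime

open Equiv

variable {p : ℕ} [Fact p.Prime] {Y J ι : Type*} [Fintype Y] [DecidableEq Y] [Fintype J] [DecidableEq J]
  [Fintype ι] [DecidableEq ι] (O : Finset Y)

/-- The map underlying the action on the blocks over `O`. -/
def blkFun (π : Perm (ZMod p × ZMod p)) : ZMod p × Pt p Y J → ZMod p × Pt p Y J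
  | (x, Sum.inl (i, y)) => if y ∈ O then ((π (x, i)).1, Sum.inl ((π (x, i)).2, y)) else (x, Sum.inl (i, y))
  | (x, Sum.inr j) => (x, Sum.inr j)

theorem blkFun_mul (π π' : Perm (ZMod p × ZMod p)) (z : ZMod p × Pt p Y J) :
    blkFun O (π * π') z = blkFun O π (blkFun O π' z) := by
  obtain ⟨x, ⟨i, y⟩ | j⟩ := z
  · by_cases hy : y ∈ O <;> simp [blkFun, hy]
  · rfl

theorem blkFun_one (z : ZMod p × Pt p Y J) : blkFun O 1 z = z := by
  obtain ⟨x, ⟨i, y⟩ | j⟩ := z
  · by_cases hy : y ∈ O <;> simp [blkFun, hy]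
  · rfl

/-- The permutation acting as `π` on each block over `O`. -/
def blk (π : Perm (ZMod p × ZMod p)) : Perm (ZMod p × Pt p Y J) where
  toFun := blkFun O π
  invFun := blkFun O π⁻¹
  left_inv z := by rw [← blkFun_mul, inv_mul_cancel, blkFun_one]
  right_inv z := by rw [← blkFun_mul, mul_inv_cancel, blkFun_one]

/-- Permutations of a square acting diagonally on the blocks over `O`. -/
def onO : Perm (ZMod p × ZMod p) →* Perm (Pt p (Pt p Y J) ι) :=
  MonoidHom.mk' (fun π => Equiv.sumCongr (blk O π) (Equiv.refl ι)) fun π π' => perm_ext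
    (fun x b => congrArg Sum.inl (blkFun_mul O π π' (x, b))) fun _ => rfl

theorem onO_inl_mem (π : Perm (ZMod p × ZMod p)) (x i : ZMod p) {y : Y} (hy : y ∈ O) :
    (onO O π : Perm (Pt p (Pt p Y J) ι)) (Sum.inl (x, Sum.inl (i, y))) =
      Sum.inl ((π (x, i)).1, Sum.inl ((π (x, i)).2, y)) :=
  congrArg Sum.inl (if_pos hy)

theorem onO_inl_not_mem (π : Perm (ZMod p × ZMod p)) (x i : ZMod p) {y : Y} (hy : y ∉ O) :
    (onO O π : Perm (Pt p (Pt p Y J) ι)) (Sum.inl (x, Sum.inl (i, y))) = Sum.inl (x, Sum.inl (i, y)) :=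
  congrArg Sum.inl (if_neg hy)

theorem onO_inl_inr (π : Perm (ZMod p × ZMod p)) (x : ZMod p) (j : J) :
    (onO O π : Perm (Pt p (Pt p Y J) ι)) (Sum.inl (x, Sum.inr j)) = Sum.inl (x, Sum.inr j) := rfl

theorem onO_inr (π : Perm (ZMod p × ZMod p)) (k : ι) :
    (onO O π : Perm (Pt p (Pt p Y J) ι)) (Sum.inr k) = Sum.inr k := rfl

/-- An upper shear. -/
def shU (t : ZMod p) : Perm (ZMod p × ZMod p) where
  toFun z := (z.1 + t * z.2, z.2)
  invFun z := (z.1 - t * z.2, z.2)
  left_inv z := by simp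
  right_inv z := by simp

/-- A lower shear. -/
def shL (t : ZMod p) : Perm (ZMod p × ZMod p) where
  toFun z := (z.1, z.2 + t * z.1)
  invFun z := (z.1, z.2 - t * z.1)
  left_inv z := by simp
  right_inv z := by simp

/-- A diagonal scaling of determinant one. -/
def dg (a : (ZMod p)ˣ) : Perm (ZMod p × ZMod p) :=
  (Units.mulLeft a).prodCongr (Units.mulLeft a⁻¹)

@[simp] theorem shU_apply (t x i : ZMod p) : shU t (x, i) = (x + t * i, i) := rfl

@[simp] theorem shL_apply (t x i : ZMod p) : shL t (x, i) = (x, i + t * x) := rfl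

@[simp] theorem dg_apply (a : (ZMod p)ˣ) (x i : ZMod p) :
    dg a (x, i) = ((a : ZMod p) * x, ((a⁻¹ : (ZMod p)ˣ) : ZMod p) * i) := rfl

theorem shL_eq (t : ZMod p) :
    shL t = (shU 1 * shL (-1) * shU 1) * shU (-t) * (shU 1 * shL (-1) * shU 1)⁻¹ := by
  rw [eq_mul_inv_iff_mul_eq]
  refine Equiv.ext fun z => ?_
  obtain ⟨x, i⟩ := z
  simp only [Perm.mul_apply, shU_apply, shL_apply]
  ext <;> ring

theorem dg_eq (a : (ZMod p)ˣ) :
    dg a = (shU (a : ZMod p) * shL (-((a⁻¹ : (ZMod p)ˣ) : ZMod p)) * shU (a : ZMod p)) *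
      (shU (-1) * shL 1 * shU (-1)) := by
  refine Equiv.ext fun z => ?_
  obtain ⟨x, i⟩ := z
  have ha : (a : ZMod p) * ((a⁻¹ : (ZMod p)ˣ) : ZMod p) = 1 := by rw [← Units.val_mul, mul_inv_cancel, Units.val_one]
  simp only [Perm.mul_apply, shU_apply, shL_apply, dg_apply, Prod.mk.injEq]
  constructor <;> grind

theorem shL_pow (t : ZMod p) (n : ℕ) : shL t ^ n = shL ((n : ZMod p) * t) := by
  induction n with
  | zero => refine Equiv.ext fun z => ?_; obtain ⟨x, i⟩ := z; simp
  | succ n ih =>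
    refine Equiv.ext fun z => ?_
    obtain ⟨x, i⟩ := z
    rw [pow_succ, ih, Perm.mul_apply, shL_apply, shL_apply, shL_apply, Nat.cast_succ]
    ext
    · rfl
    · ring

theorem shU_pow (t : ZMod p) (n : ℕ) : shU t ^ n = shU ((n : ZMod p) * t) := by
  induction n with
  | zero => refine Equiv.ext fun z => ?_; obtain ⟨x, i⟩ := z; simp
  | succ n ih =>
    refine Equiv.ext fun z => ?_
    obtain ⟨x, i⟩ := z
    rw [pow_succ, ih, Perm.mul_apply, shU_apply, shU_apply, shU_apply, Nat.cast_succ]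
    ext
    · ring
    · rfl

theorem sign_shU (hp : p ≠ 2) (t : ZMod p) : Perm.sign (onO O (shU t) : Perm (Pt p (Pt p Y J) ι)) = 1 := by
  refine sign_of_pow hp (k := 1) ?_
  rw [pow_one, ← map_pow, shU_pow, ZMod.natCast_self, zero_mul]
  refine perm_ext (fun x b => ?_) fun k => rfl
  obtain ⟨i, y⟩ | j := b
  · by_cases hy : y ∈ O
    · rw [onO_inl_mem O _ _ _ hy]; simp
    · rw [onO_inl_not_mem O _ _ _ hy]; rfl
  · rfl

theorem sign_shL (hp : p ≠ 2) (t : ZMod p) : Perm.sign (onO O (shL t) : Perm (Pt p (Pt p Y J) ι)) = 1 := by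
  rw [shL_eq, map_mul, map_mul, map_inv, map_mul, map_mul, map_inv, sign_shU O hp, mul_one, mul_inv_cancel]

/-- The representative of the class of a point of `Pt p Y J`. -/
def proj : Pt p Y J → Pt p Y J
  | Sum.inl (i, y) => if y ∈ O then Sum.inl (0, y) else Sum.inl (i, y)
  | Sum.inr j => Sum.inr j

theorem proj_inl_mem (i : ZMod p) {y : Y} (hy : y ∈ O) :
    proj (J := J) O (Sum.inl (i, y)) = Sum.inl (0, y) := if_pos hy

theorem proj_inl_not_mem (i : ZMod p) {y : Y} (hy : y ∉ O) :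
    proj (J := J) O (Sum.inl (i, y)) = Sum.inl (i, y) := if_neg hy

theorem proj_proj (b : Pt p Y J) : proj O (proj O b) = proj O b := by
  obtain ⟨i, y⟩ | j := b
  · by_cases hy : y ∈ O
    · rw [proj_inl_mem O i hy, proj_inl_mem O 0 hy]
    · rw [proj_inl_not_mem O i hy, proj_inl_not_mem O i hy]
  · rfl

/-- Admissible coordinates. -/
def Adm (f : Pt p Y J → ZMod p) (v : Y → ZMod p) : Prop :=
  (∀ b, f (proj O b) = f b) ∧ ∀ y, y ∉ O → v y = 0

theorem comp_tr {f : Pt p Y J → ZMod p} {v : Y → ZMod p} (hf : ∀ b, f (proj O b) = f b)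
    (hv : ∀ y, y ∉ O → v y = 0) : f ∘ (tr v : Perm (Pt p Y J)).symm = f := by
  funext b
  obtain ⟨b, rfl⟩ := (tr v : Perm (Pt p Y J)).surjective b
  rw [Function.comp, Equiv.symm_apply_apply]
  obtain ⟨i, y⟩ | j := b
  · rw [tr_inl]
    by_cases hy : y ∈ O
    · rw [← hf, ← hf (Sum.inl (i + v y, y)), proj_inl_mem O _ hy, proj_inl_mem O _ hy]
    · rw [hv y hy, add_zero]
  · rw [tr_inr]

/-- A translation on the blocks. -/
def el (f : Pt p Y J → ZMod p) (v : Y → ZMod p) : Perm (Pt p (Pt p Y J) ι) := tr f * lift (tr v)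

theorem el_mul {f g : Pt p Y J → ZMod p} {v w : Y → ZMod p} (h : Adm O f v) (h' : Adm O g w) :
    (el (f + g) (v + w) : Perm (Pt p (Pt p Y J) ι)) = el f v * el g w := by
  rw [el, el, el, mul_assoc (tr f), ← mul_assoc (lift (tr v)), lift_tr, comp_tr O h'.1 h.2, tr_add f g,
    tr_add v w, lift_mul]
  simp only [mul_assoc]

theorem el_zero : (el 0 0 : Perm (Pt p (Pt p Y J) ι)) = 1 := by
  rw [el, tr_zero, tr_zero, lift_one, one_mul]

/-- The translations on the blocks over `O` and the translations elsewhere. -/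
def R2 : Subgroup (Perm (Pt p (Pt p Y J) ι)) where
  carrier := {x | ∃ f v, Adm O f v ∧ x = el f v}
  one_mem' := ⟨0, 0, ⟨fun _ => rfl, fun _ _ => rfl⟩, el_zero.symm⟩
  mul_mem' := by
    rintro _ _ ⟨f, v, h, rfl⟩ ⟨g, w, h', rfl⟩
    refine ⟨f + g, v + w, ⟨fun b => ?_, fun y hy => ?_⟩, (el_mul O h h').symm⟩
    · simp [h.1 b, h'.1 b]
    · simp [h.2 y hy, h'.2 y hy]
  inv_mem' := by
    rintro _ ⟨f, v, h, rfl⟩
    have h' : Adm O (-f) (-v) := ⟨fun b => by simp [h.1 b], fun y hy => by simp [h.2 y hy]⟩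
    refine ⟨-f, -v, h', inv_eq_of_mul_eq_one_right ?_⟩
    rw [← el_mul O h h', add_neg_cancel, add_neg_cancel, el_zero]

theorem el_inl_inl (f : Pt p Y J → ZMod p) (v : Y → ZMod p) (x i : ZMod p) (y : Y) :
    (el f v : Perm (Pt p (Pt p Y J) ι)) (Sum.inl (x, Sum.inl (i, y))) =
      Sum.inl (x + f (Sum.inl (i + v y, y)), Sum.inl (i + v y, y)) := rfl

theorem el_inl_inr (f : Pt p Y J → ZMod p) (v : Y → ZMod p) (x : ZMod p) (j : J) :
    (el f v : Perm (Pt p (Pt p Y J) ι)) (Sum.inl (x, Sum.inr j)) =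
      Sum.inl (x + f (Sum.inr j), Sum.inr j) := rfl

theorem adm_apply {f : Pt p Y J → ZMod p} (hf : ∀ b, f (proj O b) = f b) (i : ZMod p) {y : Y} (hy : y ∈ O) :
    f (Sum.inl (i, y)) = f (Sum.inl (0, y)) := by rw [← hf, proj_inl_mem O i hy]

theorem onO_conj_el (π : Perm (ZMod p × ZMod p)) (hπ : ∀ z z', π (z + z') = π z + π z')
    {x : Perm (Pt p (Pt p Y J) ι)} (hx : x ∈ R2 O) : onO O π * x * (onO O π)⁻¹ ∈ R2 O := by
  obtain ⟨f, v, h, rfl⟩ := hx
  set z : Y → ZMod p × ZMod p := fun y => π (f (Sum.inl (0, y)), v y)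
  set f' : Pt p Y J → ZMod p := fun b => match b with
    | Sum.inl (i, y) => if y ∈ O then (z y).1 else f (Sum.inl (i, y))
    | Sum.inr j => f (Sum.inr j)
  set v' : Y → ZMod p := fun y => if y ∈ O then (z y).2 else 0
  refine ⟨f', v', ⟨fun b => ?_, fun y hy => if_neg hy⟩, ?_⟩
  · obtain ⟨i, y⟩ | j := b
    · by_cases hy : y ∈ O
      · rw [proj_inl_mem O i hy]; simp [f', hy]
      · rw [proj_inl_not_mem O i hy]
    · rfl
  rw [mul_inv_eq_iff_eq_mul]
  refine perm_ext (fun x b => ?_) fun k => rfl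
  obtain ⟨i, y⟩ | j := b
  · rw [Perm.mul_apply, Perm.mul_apply, el_inl_inl]
    by_cases hy : y ∈ O
    · rw [onO_inl_mem O _ _ _ hy, onO_inl_mem O _ _ _ hy, el_inl_inl, adm_apply O h.1 _ hy]
      have hadd := hπ (x, i) (f (Sum.inl (0, y)), v y)
      rw [Prod.mk_add_mk] at hadd
      simp [f', v', z, hy, hadd]
    · rw [onO_inl_not_mem O _ _ _ hy, onO_inl_not_mem O _ _ _ hy, el_inl_inl]
      simp [f', v', hy, h.2 y hy]
  · rw [Perm.mul_apply, Perm.mul_apply, el_inl_inr, onO_inl_inr, onO_inl_inr, el_inl_inr]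

theorem centralizer_R2 [Subsingleton ι] {c : Perm (Pt p (Pt p Y J) ι)}
    (hc : ∀ x ∈ (R2 O : Subgroup (Perm (Pt p (Pt p Y J) ι))), c * x = x * c) : c ∈ R2 O := by
  classical
  have hcx : ∀ f v, Adm O f v → ∀ z, c ((el f v : Perm (Pt p (Pt p Y J) ι)) z) = el f v (c z) :=
    fun f v h z => Equiv.congr_fun (hc _ ⟨f, v, h, rfl⟩) z
  have hctr : ∀ f : Pt p Y J → ZMod p, (∀ b, f (proj O b) = f b) → ∀ z,
      c ((tr f : Perm (Pt p (Pt p Y J) ι)) z) = tr f (c z) := fun f hf z => by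
    have h1 := hcx f 0 ⟨hf, fun _ _ => rfl⟩ z
    rwa [el, tr_zero, lift_one, mul_one] at h1
  set ind : Pt p Y J → Pt p Y J → ZMod p := fun b b' => if proj O b' = proj O b then 1 else 0
  have hind : ∀ b b', ind b (proj O b') = ind b b' := fun b b' => by simp only [ind, proj_proj]
  have hinl : ∀ x b, ∃ u b', c (Sum.inl (x, b)) = Sum.inl (u, b') ∧ proj O b' = proj O b := by
    intro x b
    rcases h : c (Sum.inl (x, b)) with ⟨u, b'⟩ | k
    · refine ⟨u, b', rfl, ?_⟩
      by_contra hb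
      have h1 := hctr (ind b) (hind b) (Sum.inl (x, b))
      rw [h, tr_inl, tr_inl, show ind b b' = 0 from if_neg hb, show ind b b = 1 from if_pos rfl, add_zero, ← h] at h1
      simpa using c.injective h1
    · exfalso
      have h1 := hctr (ind b) (hind b) (Sum.inl (x, b))
      rw [h, tr_inl, tr_inr, show ind b b = 1 from if_pos rfl, ← h] at h1
      simpa using c.injective h1
  have hinr : ∀ k, c (Sum.inr k) = Sum.inr k := by
    intro k
    rcases h : c (Sum.inr k) with ⟨u, b⟩ | k'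
    · exfalso
      have h1 := hctr (ind b) (hind b) (Sum.inr k)
      rw [tr_inr, h, tr_inl, show ind b b = 1 from if_pos rfl] at h1
      simp at h1
    · rw [Subsingleton.elim k' k]
  choose u s hs hsp using fun b => hinl 0 b
  have hlin : ∀ x b, c (Sum.inl (x, b)) = Sum.inl (u b + x, s b) := fun x b => by
    have h1 := hctr (fun _ => x) (fun _ => rfl) (Sum.inl (0, b))
    rw [tr_inl, zero_add, hs, tr_inl] at h1
    exact h1
  set β : Y → ZMod p := fun y => if y ∈ O then
    (match s (Sum.inl (0, y)) with | Sum.inl (i, _) => i | Sum.inr _ => 0) else 0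
  set g : Pt p Y J → ZMod p := fun b => u (proj O b)
  refine ⟨g, β, ⟨fun b => by simp only [g, proj_proj], fun y hy => if_neg hy⟩, ?_⟩
  refine perm_ext (fun x b => ?_) fun k => hinr k
  obtain ⟨i, y⟩ | j := b
  · by_cases hy : y ∈ O
    · have hs0 : s (Sum.inl (0, y)) = Sum.inl (β y, y) := by
        have h2 := hsp (Sum.inl (0, y))
        simp only [β, if_pos hy]
        rw [proj_inl_mem O 0 hy] at h2
        rcases h : s (Sum.inl (0, y)) with ⟨i', y'⟩ | j
        · rw [h] at h2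
          by_cases hy' : y' ∈ O
          · rw [proj_inl_mem O i' hy'] at h2
            simp at h2
            rw [h2]
          · rw [proj_inl_not_mem O i' hy'] at h2
            simp at h2
            exact absurd (h2.2 ▸ hy) hy'
        · rw [h] at h2
          simp [proj] at h2
      have h1 := hcx 0 (Pi.single y i) ⟨fun _ => rfl, fun y' hy' => by
        have : y' ≠ y := fun e => hy' (e ▸ hy)
        simp [this]⟩ (Sum.inl (x, Sum.inl (0, y)))
      rw [el_inl_inl, hlin x (Sum.inl (0, y)), hs0, el_inl_inl] at h1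
      simp only [Pi.zero_apply, add_zero, zero_add, Pi.single_eq_same] at h1
      rw [el_inl_inl]
      rw [h1]
      simp only [g, proj_inl_mem O _ hy, add_comm x, add_comm i]
    · have h2 := hsp (Sum.inl (i, y))
      rw [proj_inl_not_mem O i hy] at h2
      have hs1 : s (Sum.inl (i, y)) = Sum.inl (i, y) := by
        rcases h : s (Sum.inl (i, y)) with ⟨i', y'⟩ | j
        · rw [h] at h2
          by_cases hy' : y' ∈ O
          · rw [proj_inl_mem O i' hy'] at h2
            simp at h2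
            exact absurd (h2.2 ▸ hy') hy
          · rwa [proj_inl_not_mem O i' hy'] at h2
        · rw [h] at h2
          simp [proj] at h2
      rw [hlin, hs1, el_inl_inl]
      simp [g, β, hy, proj_inl_not_mem O i hy, add_comm x]
  · have h2 := hsp (Sum.inr j)
    have hs1 : s (Sum.inr j) = Sum.inr j := by
      rcases h : s (Sum.inr j) with ⟨i', y'⟩ | j'
      · rw [h] at h2
        by_cases hy' : y' ∈ O
        · rw [proj_inl_mem O i' hy'] at h2; simp [proj] at h2
        · rw [proj_inl_not_mem O i' hy'] at h2; simp [proj] at h2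
      · rw [h] at h2
        exact h2
    rw [hlin, hs1, el_inl_inr]
    simp [g, proj, add_comm x]

end Cfsg.Lib.FusionSys.AltWreath.OddPrime
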