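import Mathlib.GroupTheory.Sylow
import Mathlib.GroupTheory.Nilpotent
import Mathlib.GroupTheory.Subgroup.Centralizer
import Cfsg.Prelude.Def_FusionSystem

/-!
Basic facts about the Prelude's fusion systems: maps, isomorphisms of the system, automizers, extenders,
conjugates with maximal normalizer or centralizer.
-/

set_option autoImplicit false

namespace Cfsg.Lib.FusionSys

open Cfsg Cfsg.FusionSystem

variable {Ω : Type*} [Group Ω] {S : Subgroup Ω}

/-! ### Finiteness -/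

theorem finite_of_le [Finite S] {P : Subgroup Ω} (h : P ≤ S) : Finite P :=
  Finite.of_injective (Subgroup.inclusion h) (Subgroup.inclusion_injective h)

theorem card_le_of_le [Finite S] {P : Subgroup Ω} (h : P ≤ S) : Nat.card P ≤ Nat.card S :=
  Nat.card_le_card_of_injective (Subgroup.inclusion h) (Subgroup.inclusion_injective h)

theorem eq_of_le_of_card_le [Finite S] {P Q : Subgroup Ω} (hQ : Q ≤ S) (h : P ≤ Q)
    (hc : Nat.card Q ≤ Nat.card P) : P = Q := by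
  haveI := finite_of_le hQ
  exact Subgroup.eq_of_le_of_card_ge h hc

theorem normalizerIn_le (P : Subgroup Ω) : normalizerIn S P ≤ S := inf_le_left

theorem centralizerIn_le (P : Subgroup Ω) : centralizerIn S P ≤ S := inf_le_left

theorem centralizerIn_le_normalizerIn (P : Subgroup Ω) : centralizerIn S P ≤ normalizerIn S P :=
  inf_le_inf_left S (Subgroup.centralizer_le_normalizer _)

theorem le_normalizerIn {P : Subgroup Ω} (hP : P ≤ S) : P ≤ normalizerIn S P :=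
  le_inf hP Subgroup.le_normalizer

theorem mem_normalizerIn {P : Subgroup Ω} {g : Ω} :
    g ∈ normalizerIn S P ↔ g ∈ S ∧ g ∈ Subgroup.normalizer (P : Set Ω) := Iff.rfl

theorem mem_centralizerIn {P : Subgroup Ω} {g : Ω} :
    g ∈ centralizerIn S P ↔ g ∈ S ∧ ∀ x ∈ P, g * x = x * g := by
  rw [centralizerIn, Subgroup.mem_inf, Subgroup.mem_centralizer_iff]
  constructor
  · rintro ⟨h1, h2⟩
    exact ⟨h1, fun x hx => (h2 x hx).symm⟩
  · rintro ⟨h1, h2⟩
    exact ⟨h1, fun x hx => (h2 x hx).symm⟩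

theorem conj_eq_of_commute {g x : Ω} (h : g * x = x * g) : g * x * g⁻¹ = x := by
  rw [h, mul_inv_cancel_right]

theorem commute_of_conj_eq {g x : Ω} (h : g * x * g⁻¹ = x) : g * x = x * g :=
  mul_inv_eq_iff_eq_mul.mp h

/-! ### Maps -/

section Maps

variable {F : FusionSystem S} {P Q R : Subgroup Ω}

theorem hom_le {φ : P →* Ω} (h : φ ∈ F.Hom P) : P ≤ S := (F.le_of_mem h).1

theorem hom_mem {φ : P →* Ω} (h : φ ∈ F.Hom P) (x : P) : φ x ∈ S := (F.le_of_mem h).2 x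

theorem range_le {φ : P →* Ω} (h : φ ∈ F.Hom P) : φ.range ≤ S := by
  rintro _ ⟨x, rfl⟩
  exact hom_mem h x

theorem card_range {φ : P →* Ω} (h : φ ∈ F.Hom P) : Nat.card φ.range = Nat.card P :=
  (Nat.card_congr (MonoidHom.ofInjective (F.injective_of_mem h)).toEquiv).symm

theorem hom_congr {φ ψ : P →* Ω} (hφ : φ ∈ F.Hom P) (h : ∀ x, ψ x = φ x) : ψ ∈ F.Hom P := by
  have : ψ = φ := MonoidHom.ext h
  rwa [this]

theorem subtype_mem (F : FusionSystem S) (hP : P ≤ S) : P.subtype ∈ F.Hom P := by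
  refine hom_congr (F.conj_mem hP S.one_mem) fun x => ?_
  simp [conjHom]

theorem restrict_mem {φ : P →* Ω} (hφ : φ ∈ F.Hom P) (hQ : Q ≤ P) :
    φ.comp (Subgroup.inclusion hQ) ∈ F.Hom Q := by
  have h : ∀ x : Q, Q.subtype x ∈ P := fun x => hQ x.2
  exact hom_congr (F.comp_mem (subtype_mem F (hQ.trans (hom_le hφ))) hφ h) fun x => rfl

theorem comp_mem' {φ : P →* Ω} {ψ : Q →* Ω} {χ : P →* Ω} (hφ : φ ∈ F.Hom P) (hψ : ψ ∈ F.Hom Q)
    (h : ∀ x, φ x ∈ Q) (hχ : ∀ x, χ x = ψ ⟨φ x, h x⟩) : χ ∈ F.Hom P :=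
  hom_congr (F.comp_mem hφ hψ h) hχ

theorem exists_inv {φ : P →* Ω} (hφ : φ ∈ F.Hom P) (hr : φ.range = Q) :
    ∃ ψ ∈ F.Hom Q, ψ.range = P ∧ ∀ (x : P) (hx : φ x ∈ Q), ψ ⟨φ x, hx⟩ = x := by
  subst hr
  obtain ⟨ψ, hψ, h⟩ := F.inv_mem hφ
  refine ⟨ψ, hψ, ?_, fun x _ => h x⟩
  ext y
  constructor
  · rintro ⟨⟨_, x, rfl⟩, rfl⟩
    rw [h x]
    exact x.2
  · intro hy
    exact ⟨⟨φ ⟨y, hy⟩, ⟨_, rfl⟩⟩, h ⟨y, hy⟩⟩

theorem range_eq_of_card_le [Finite S] {φ : P →* Ω} (hφ : φ ∈ F.Hom P) (hQ : Q ≤ S)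
    (hv : ∀ x, φ x ∈ Q) (hc : Nat.card Q ≤ Nat.card P) : φ.range = Q := by
  refine eq_of_le_of_card_le hQ ?_ (by rwa [card_range hφ])
  rintro _ ⟨x, rfl⟩
  exact hv x

end Maps

/-! ### Isomorphisms of the system -/

/-- The isomorphism `e` followed by the inclusion is a map of the system. -/
def IsoIn (F : FusionSystem S) {P Q : Subgroup Ω} (e : P ≃* Q) : Prop :=
  Q.subtype.comp e.toMonoidHom ∈ F.Hom P

section Iso

variable {F : FusionSystem S} {P Q R : Subgroup Ω}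

theorem IsoIn.le_left {e : P ≃* Q} (h : IsoIn F e) : P ≤ S := hom_le h

theorem IsoIn.le_right {e : P ≃* Q} (h : IsoIn F e) : Q ≤ S := by
  intro y hy
  have := hom_mem h (e.symm ⟨y, hy⟩)
  simpa using this

theorem isoIn_refl (F : FusionSystem S) (hP : P ≤ S) : IsoIn F (MulEquiv.refl P) :=
  hom_congr (subtype_mem F hP) fun _ => rfl

theorem IsoIn.trans {e : P ≃* Q} {f : Q ≃* R} (he : IsoIn F e) (hf : IsoIn F f) :
    IsoIn F (e.trans f) :=
  comp_mem' he hf (fun x => (e x).2) fun _ => rfl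

theorem IsoIn.symm {e : P ≃* Q} (he : IsoIn F e) : IsoIn F e.symm := by
  have hr : (Q.subtype.comp e.toMonoidHom).range = Q := by
    ext y
    constructor
    · rintro ⟨x, rfl⟩
      exact (e x).2
    · intro hy
      exact ⟨e.symm ⟨y, hy⟩, by simp⟩
  obtain ⟨ψ, hψ, -, h⟩ := exists_inv he hr
  refine hom_congr hψ fun y => ?_
  have hy : ((Q.subtype.comp e.toMonoidHom) (e.symm y)) ∈ Q := by simp
  have := h (e.symm y) hy
  have h2 : (⟨(Q.subtype.comp e.toMonoidHom) (e.symm y), hy⟩ : Q) = y := Subtype.ext (by simp)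
  rw [h2] at this
  simpa using this.symm

theorem IsoIn.of_eq {e f : P ≃* Q} (he : IsoIn F e) (h : ∀ x, f x = e x) : IsoIn F f :=
  hom_congr he fun x => by simp [h x]

/-- The isomorphism onto its image defined by a map of the system. -/
noncomputable def homIso {φ : P →* Ω} (hφ : φ ∈ F.Hom P) (hr : φ.range = Q) : P ≃* Q :=
  (MonoidHom.ofInjective (F.injective_of_mem hφ)).trans (MulEquiv.subgroupCongr hr)

@[simp]
theorem coe_homIso {φ : P →* Ω} (hφ : φ ∈ F.Hom P) (hr : φ.range = Q) (x : P) :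
    ((homIso hφ hr x : Q) : Ω) = φ x := rfl

theorem isoIn_homIso {φ : P →* Ω} (hφ : φ ∈ F.Hom P) (hr : φ.range = Q) :
    IsoIn F (homIso hφ hr) :=
  hom_congr hφ fun _ => rfl

theorem isConj_iff : F.IsConj P Q ↔ ∃ e : P ≃* Q, IsoIn F e := by
  constructor
  · rintro ⟨φ, hφ, hr⟩
    exact ⟨homIso hφ hr, isoIn_homIso hφ hr⟩
  · rintro ⟨e, he⟩
    refine ⟨_, he, ?_⟩
    ext y
    constructor
    · rintro ⟨x, rfl⟩
      exact (e x).2
    · intro hy
      exact ⟨e.symm ⟨y, hy⟩, by simp⟩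

theorem isConj_refl (F : FusionSystem S) (hP : P ≤ S) : F.IsConj P P :=
  isConj_iff.2 ⟨_, isoIn_refl F hP⟩

theorem isConj_symm (h : F.IsConj P Q) : F.IsConj Q P := by
  obtain ⟨e, he⟩ := isConj_iff.1 h
  exact isConj_iff.2 ⟨_, he.symm⟩

theorem isConj_trans (h : F.IsConj P Q) (h' : F.IsConj Q R) : F.IsConj P R := by
  obtain ⟨e, he⟩ := isConj_iff.1 h
  obtain ⟨f, hf⟩ := isConj_iff.1 h'
  exact isConj_iff.2 ⟨_, he.trans hf⟩

theorem isConj_le (h : F.IsConj P Q) : P ≤ S ∧ Q ≤ S := by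
  obtain ⟨e, he⟩ := isConj_iff.1 h
  exact ⟨he.le_left, he.le_right⟩

theorem card_eq_of_isConj (h : F.IsConj P Q) : Nat.card P = Nat.card Q := by
  obtain ⟨e, -⟩ := isConj_iff.1 h
  exact Nat.card_congr e.toEquiv

/-- The only conjugate of the top subgroup is itself. -/
theorem eq_top_of_isConj [Finite S] (h : F.IsConj S Q) : Q = S :=
  eq_of_le_of_card_le le_rfl (isConj_le h).2 (card_eq_of_isConj h).le

end Iso

/-! ### Automizers -/

section Aut

variable {F : FusionSystem S} {P Q : Subgroup Ω}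

theorem mem_autGroup (hP : P ≤ S) {α : MulAut P} : α ∈ F.autGroup P ↔ IsoIn F α := by
  constructor
  · intro h
    refine Subgroup.closure_induction (p := fun a _ => IsoIn F a) (fun a ha => ha) (isoIn_refl F hP)
      (fun a b _ _ ha hb => ?_) (fun a _ ha => ha.symm) h
    exact IsoIn.of_eq (hb.trans ha) fun _ => rfl
  · intro h
    exact Subgroup.subset_closure h

theorem congr_mem_autGroup {e : P ≃* Q} (he : IsoIn F e) {α : MulAut P}
    (hα : α ∈ F.autGroup P) : MulAut.congr e α ∈ F.autGroup Q :=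
  (mem_autGroup he.le_right).2 <|
    IsoIn.of_eq (he.symm.trans (((mem_autGroup he.le_left).1 hα).trans he)) fun _ => rfl

theorem autGroup_map_congr {e : P ≃* Q} (he : IsoIn F e) :
    (F.autGroup P).map (MulAut.congr e).toMonoidHom = F.autGroup Q := by
  apply le_antisymm
  · rintro _ ⟨α, hα, rfl⟩
    exact congr_mem_autGroup he hα
  · intro β hβ
    refine ⟨MulAut.congr e.symm β, congr_mem_autGroup he.symm hβ, ?_⟩
    apply MulEquiv.ext
    intro x
    simp [MulAut.congr]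

theorem card_autGroup_eq {e : P ≃* Q} (he : IsoIn F e) :
    Nat.card (F.autGroup P) = Nat.card (F.autGroup Q) := by
  rw [← autGroup_map_congr he]
  exact Nat.card_congr
    ((F.autGroup P).equivMapOfInjective _ (MulAut.congr e).injective).toEquiv

theorem mem_autInducedBy {K : Subgroup Ω} {α : MulAut P} :
    α ∈ autInducedBy K P ↔ ∃ g ∈ K, ∀ x : P, ((α x : P) : Ω) = g * (x : Ω) * g⁻¹ := by
  constructor
  · intro h
    refine Subgroup.closure_induction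
      (p := fun a _ => ∃ g ∈ K, ∀ x : P, ((a x : P) : Ω) = g * (x : Ω) * g⁻¹)
      (fun a ha => ha) ⟨1, K.one_mem, fun x => by simp⟩ (fun a b _ _ ha hb => ?_)
      (fun a _ ha => ?_) h
    · obtain ⟨g, hg, hga⟩ := ha
      obtain ⟨k, hk, hkb⟩ := hb
      refine ⟨g * k, K.mul_mem hg hk, fun x => ?_⟩
      rw [MulAut.mul_apply, hga, hkb, mul_inv_rev]
      simp only [mul_assoc]
    · obtain ⟨g, hg, hga⟩ := ha
      refine ⟨g⁻¹, K.inv_mem hg, fun x => ?_⟩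
      have h1 := hga (a⁻¹ x)
      rw [MulAut.apply_inv_self] at h1
      rw [h1, inv_inv]
      simp only [mul_assoc, inv_mul_cancel_left, inv_mul_cancel, mul_one]
  · intro h
    exact Subgroup.subset_closure h

theorem autInducedBy_mono {K L : Subgroup Ω} (h : K ≤ L) :
    autInducedBy K P ≤ autInducedBy L P := fun α hα => by
  obtain ⟨g, hg, hga⟩ := mem_autInducedBy.1 hα
  exact mem_autInducedBy.2 ⟨g, h hg, hga⟩

theorem mem_normalizer_of_aut {g : Ω} {α : MulAut P}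
    (h : ∀ x : P, ((α x : P) : Ω) = g * (x : Ω) * g⁻¹) :
    g ∈ Subgroup.normalizer (P : Set Ω) := by
  rw [Subgroup.mem_normalizer_iff]
  intro n
  constructor
  · intro hn
    rw [← h ⟨n, hn⟩]
    exact (α ⟨n, hn⟩).2
  · intro hn
    have := h (α⁻¹ ⟨_, hn⟩)
    rw [MulAut.apply_inv_self] at this
    have h2 : n = ((α⁻¹ ⟨_, hn⟩ : P) : Ω) := mul_left_cancel (mul_right_cancel this)
    rw [h2]
    exact (α⁻¹ ⟨_, hn⟩).2

/-- Conjugation by an element of the normalizer, as an automorphism. -/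
def conjAut (P : Subgroup Ω) {g : Ω} (hg : g ∈ Subgroup.normalizer (P : Set Ω)) : MulAut P :=
  P.normalizerMonoidHom ⟨g, hg⟩

@[simp]
theorem coe_conjAut (P : Subgroup Ω) {g : Ω} (hg : g ∈ Subgroup.normalizer (P : Set Ω)) (x : P) :
    ((conjAut P hg x : P) : Ω) = g * (x : Ω) * g⁻¹ := rfl

theorem conjAut_mem_autInducedBy {K : Subgroup Ω} {g : Ω} (hg : g ∈ Subgroup.normalizer (P : Set Ω))
    (hgK : g ∈ K) : conjAut P hg ∈ autInducedBy K P :=
  mem_autInducedBy.2 ⟨g, hgK, fun _ => rfl⟩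

theorem autInducedBy_le_autGroup (hP : P ≤ S) : autInducedBy S P ≤ F.autGroup P := by
  intro α hα
  obtain ⟨g, hg, h⟩ := mem_autInducedBy.1 hα
  exact (mem_autGroup hP).2 (hom_congr (F.conj_mem hP hg) fun x => h x)

theorem aut_pow_apply {α : MulAut P} {g : Ω}
    (h : ∀ x : P, ((α x : P) : Ω) = g * (x : Ω) * g⁻¹) (n : ℕ) (x : P) :
    (((α ^ n) x : P) : Ω) = g ^ n * (x : Ω) * (g ^ n)⁻¹ := by
  induction n generalizing x with
  | zero => simp
  | succ n ih =>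
    rw [pow_succ, MulAut.mul_apply, ih, h, pow_succ, mul_inv_rev]
    simp only [mul_assoc]

theorem isPGroup_autInducedBy {p : ℕ} {K : Subgroup Ω} (hK : IsPGroup p K) :
    IsPGroup p (autInducedBy K P) := by
  rintro ⟨α, hα⟩
  obtain ⟨g, hg, h⟩ := mem_autInducedBy.1 hα
  obtain ⟨k, hk⟩ := hK ⟨g, hg⟩
  have hk' : g ^ p ^ k = 1 := by simpa [Subtype.ext_iff] using hk
  refine ⟨k, Subtype.ext (MulEquiv.ext fun x => Subtype.ext ?_)⟩
  have := aut_pow_apply h (p ^ k) x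
  simp [hk'] at this
  simpa using this

end Aut

/-! ### Extenders -/

section Extender

variable {F : FusionSystem S} {P Q : Subgroup Ω}

theorem mem_extender_of {φ : P →* Ω} {g h : Ω} (hgS : g ∈ S)
    (hgN : g ∈ Subgroup.normalizer (P : Set Ω)) (hhS : h ∈ S)
    (H : ∀ (x : P) (hx : g * (x : Ω) * g⁻¹ ∈ P), φ ⟨g * x * g⁻¹, hx⟩ = h * φ x * h⁻¹) :
    g ∈ extender S P φ :=
  Subgroup.subset_closure ⟨hgS, hgN, h, hhS, H⟩

theorem mem_extender {φ : P →* Ω} {g : Ω} :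
    g ∈ extender S P φ ↔ g ∈ S ∧ g ∈ Subgroup.normalizer (P : Set Ω) ∧
      ∃ h ∈ S, ∀ (x : P) (hx : g * (x : Ω) * g⁻¹ ∈ P), φ ⟨g * x * g⁻¹, hx⟩ = h * φ x * h⁻¹ := by
  constructor
  · intro hg
    refine Subgroup.closure_induction
      (p := fun g _ => g ∈ S ∧ g ∈ Subgroup.normalizer (P : Set Ω) ∧
        ∃ h ∈ S, ∀ (x : P) (hx : g * (x : Ω) * g⁻¹ ∈ P), φ ⟨g * x * g⁻¹, hx⟩ = h * φ x * h⁻¹)
      (fun g hg => hg) ⟨S.one_mem, Subgroup.one_mem _, 1, S.one_mem, fun x hx => by simp⟩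
      (fun a b _ _ ha hb => ?_) (fun a _ ha => ?_) hg
    · obtain ⟨haS, haN, h, hh, ha⟩ := ha
      obtain ⟨hbS, hbN, k, hk, hb⟩ := hb
      refine ⟨S.mul_mem haS hbS, Subgroup.mul_mem _ haN hbN, h * k, S.mul_mem hh hk,
        fun x hx => ?_⟩
      have hbx : b * (x : Ω) * b⁻¹ ∈ P := (Subgroup.mem_normalizer_iff.1 hbN x).1 x.2
      have habx : a * ((⟨_, hbx⟩ : P) : Ω) * a⁻¹ ∈ P :=
        (Subgroup.mem_normalizer_iff.1 haN _).1 hbx
      have h1 := ha ⟨_, hbx⟩ habx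
      rw [hb x hbx] at h1
      have h2 : (⟨a * b * (x : Ω) * (a * b)⁻¹, hx⟩ : P) =
          ⟨a * ((⟨_, hbx⟩ : P) : Ω) * a⁻¹, habx⟩ :=
        Subtype.ext (by simp [mul_assoc])
      rw [h2, h1, mul_inv_rev]
      simp only [mul_assoc]
    · obtain ⟨haS, haN, h, hh, ha⟩ := ha
      refine ⟨S.inv_mem haS, Subgroup.inv_mem _ haN, h⁻¹, S.inv_mem hh, fun x hx => ?_⟩
      have hax : a * ((⟨a⁻¹ * (x : Ω) * a⁻¹⁻¹, hx⟩ : P) : Ω) * a⁻¹ ∈ P := by
        simp [mul_assoc]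
      have h1 := ha ⟨_, hx⟩ hax
      have h2 : (⟨a * ((⟨a⁻¹ * (x : Ω) * a⁻¹⁻¹, hx⟩ : P) : Ω) * a⁻¹, hax⟩ : P) = x :=
        Subtype.ext (by simp [mul_assoc])
      rw [h2] at h1
      rw [h1]
      simp [mul_assoc]
  · rintro ⟨h1, h2, h, h3, h4⟩
    exact mem_extender_of h1 h2 h3 h4

theorem extender_le (φ : P →* Ω) : extender S P φ ≤ normalizerIn S P := fun _ hg =>
  ⟨(mem_extender.1 hg).1, (mem_extender.1 hg).2.1⟩

theorem centralizerIn_le_extender (φ : P →* Ω) : centralizerIn S P ≤ extender S P φ := by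
  intro g hg
  obtain ⟨hgS, hgc⟩ := mem_centralizerIn.1 hg
  refine mem_extender_of hgS (centralizerIn_le_normalizerIn P hg).2 S.one_mem fun x hx => ?_
  have h2 : (⟨g * (x : Ω) * g⁻¹, hx⟩ : P) = x := Subtype.ext (conj_eq_of_commute (hgc x x.2))
  simp [h2]

theorem le_extender (hP : P ≤ S) {φ : P →* Ω} (hφ : ∀ x, φ x ∈ S) : P ≤ extender S P φ := by
  intro g hg
  refine mem_extender_of (hP hg) (Subgroup.le_normalizer hg) (hφ ⟨g, hg⟩) fun x hx => ?_
  have h2 : (⟨g * (x : Ω) * g⁻¹, hx⟩ : P) = ⟨g, hg⟩ * x * ⟨g, hg⟩⁻¹ := Subtype.ext rfl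
  simp [h2, map_mul, map_inv]

/-- Receptiveness, read through an isomorphism of the system. -/
theorem IsReceptive_ext (hP : F.IsReceptive P) {e : Q ≃* P} (he : IsoIn F e) {N : Subgroup Ω}
    (hN : ∀ g ∈ N, g ∈ S ∧ g ∈ Subgroup.normalizer (Q : Set Ω) ∧
      ∃ h ∈ S, ∀ x y : Q, (y : Ω) = g * (x : Ω) * g⁻¹ → (e y : Ω) = h * (e x : Ω) * h⁻¹) :
    ∃ ψ ∈ F.Hom N, ∀ (x : Ω) (hQ : x ∈ Q) (hx : x ∈ N), ψ ⟨x, hx⟩ = (e ⟨x, hQ⟩ : Ω) := by
  have hr : (P.subtype.comp e.toMonoidHom).range = P := by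
    ext y
    constructor
    · rintro ⟨x, rfl⟩
      exact (e x).2
    · intro hy
      exact ⟨e.symm ⟨y, hy⟩, by simp⟩
  obtain ⟨ψ, hψ, h⟩ := hP.2 Q _ he hr
  have hle : N ≤ extender S Q (P.subtype.comp e.toMonoidHom) := by
    intro g hg
    obtain ⟨h1, h2, k, h3, h4⟩ := hN g hg
    exact mem_extender_of h1 h2 h3 fun x hx => h4 x ⟨_, hx⟩ rfl
  exact ⟨_, restrict_mem hψ hle, fun x hQ hx => h x hQ (hle hx)⟩

end Extender

/-! ### Images of normalizers and centralizers -/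

section Image

variable {N Q : Subgroup Ω}

theorem mem_map_subgroupOf {ψ : N →* Ω} {y : Ω} :
    y ∈ (Q.subgroupOf N).map ψ ↔ ∃ (x : Ω) (hx : x ∈ N), x ∈ Q ∧ ψ ⟨x, hx⟩ = y := by
  constructor
  · rintro ⟨⟨x, hx⟩, hxQ, rfl⟩
    exact ⟨x, hx, hxQ, rfl⟩
  · rintro ⟨x, hx, hxQ, rfl⟩
    exact ⟨⟨x, hx⟩, hxQ, rfl⟩

theorem map_subgroupOf_eq {ψ : N →* Ω} {P : Subgroup Ω} {e : Q ≃* P} (hQN : Q ≤ N)
    (h : ∀ (x : Ω) (hQ : x ∈ Q) (hx : x ∈ N), ψ ⟨x, hx⟩ = (e ⟨x, hQ⟩ : Ω)) :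
    (Q.subgroupOf N).map ψ = P := by
  ext y
  rw [mem_map_subgroupOf]
  constructor
  · rintro ⟨x, hx, hxQ, rfl⟩
    rw [h x hxQ hx]
    exact (e _).2
  · intro hy
    refine ⟨_, hQN (e.symm ⟨y, hy⟩).2, (e.symm ⟨y, hy⟩).2, ?_⟩
    rw [h _ (e.symm ⟨y, hy⟩).2]
    simp

theorem map_mem_normalizer (ψ : N →* Ω) (g : N)
    (hg : (g : Ω) ∈ Subgroup.normalizer (Q : Set Ω)) :
    ψ g ∈ Subgroup.normalizer (((Q.subgroupOf N).map ψ : Subgroup Ω) : Set Ω) := by
  rw [Subgroup.mem_normalizer_iff]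
  intro n
  constructor
  · rintro ⟨x, hx, rfl⟩
    refine ⟨g * x * g⁻¹, ?_, by simp⟩
    rw [SetLike.mem_coe, Subgroup.mem_subgroupOf] at hx ⊢
    exact (Subgroup.mem_normalizer_iff.1 hg _).1 hx
  · rintro ⟨x, hx, hxe⟩
    refine ⟨g⁻¹ * x * g, ?_, by simp [hxe, mul_assoc]⟩
    rw [SetLike.mem_coe, Subgroup.mem_subgroupOf] at hx ⊢
    exact (Subgroup.mem_normalizer_iff''.1 hg _).1 hx

theorem map_mem_centralizer (ψ : N →* Ω) (g : N)
    (hg : ∀ x ∈ Q, (g : Ω) * x = x * g) :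
    ψ g ∈ Subgroup.centralizer (((Q.subgroupOf N).map ψ : Subgroup Ω) : Set Ω) := by
  rw [Subgroup.mem_centralizer_iff]
  rintro _ ⟨x, hx, rfl⟩
  rw [← map_mul, ← map_mul]
  congr 1
  exact Subtype.ext (hg x hx).symm

end Image

/-! ### Conjugates with maximal normalizer or centralizer -/

section Fully

variable {F : FusionSystem S} {P : Subgroup Ω}

theorem exists_max_conj [Finite S] (hP : P ≤ S) (f : Subgroup Ω → ℕ)
    (hf : ∀ Q, Q ≤ S → f Q ≤ Nat.card S) :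
    ∃ Q, F.IsConj P Q ∧ ∀ R, F.IsConj P R → f R ≤ f Q := by
  let s : Set ℕ := f '' {Q | F.IsConj P Q}
  have hne : s.Nonempty := ⟨f P, P, isConj_refl F hP, rfl⟩
  have hbd : BddAbove s := ⟨Nat.card S, by rintro _ ⟨Q, hQ, rfl⟩; exact hf Q (isConj_le hQ).2⟩
  obtain ⟨Q, hQ, he⟩ := Nat.sSup_mem hne hbd
  exact ⟨Q, hQ, fun R hR => by rw [he]; exact le_csSup hbd ⟨R, hR, rfl⟩⟩

theorem exists_isFullyNormalized [Finite S] (F : FusionSystem S) (hP : P ≤ S) :
    ∃ Q, F.IsConj P Q ∧ F.IsFullyNormalized Q := by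
  obtain ⟨Q, hQ, h⟩ := exists_max_conj (F := F) hP (fun Q => Nat.card (normalizerIn S Q))
    (fun Q _ => card_le_of_le (normalizerIn_le Q))
  exact ⟨Q, hQ, (isConj_le hQ).2, fun R hR => h R (isConj_trans hQ hR)⟩

theorem exists_isFullyCentralized [Finite S] (F : FusionSystem S) (hP : P ≤ S) :
    ∃ Q, F.IsConj P Q ∧ F.IsFullyCentralized Q := by
  obtain ⟨Q, hQ, h⟩ := exists_max_conj (F := F) hP (fun Q => Nat.card (centralizerIn S Q))
    (fun Q _ => card_le_of_le (centralizerIn_le Q))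
  exact ⟨Q, hQ, (isConj_le hQ).2, fun R hR => h R (isConj_trans hQ hR)⟩

theorem isFullyNormalized_top [Finite S] (F : FusionSystem S) : F.IsFullyNormalized S :=
  ⟨le_rfl, fun Q hQ => le_of_eq (by rw [eq_top_of_isConj hQ])⟩

theorem lt_normalizerIn [Finite S] {p : ℕ} [Fact p.Prime] (hS : IsPGroup p S) (hP : P < S) :
    P < normalizerIn S P := by
  haveI : Group.IsNilpotent S := hS.isNilpotent
  have h1 : P.subgroupOf S < ⊤ := by
    rw [lt_top_iff_ne_top, Ne, Subgroup.subgroupOf_eq_top]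
    exact not_le_of_gt hP
  have h2 := Group.normalizerCondition_of_isNilpotent (G := S) _ h1
  obtain ⟨g, hgN, hgP⟩ := SetLike.exists_of_lt h2
  refine lt_of_le_of_ne (le_normalizerIn hP.le) fun he => hgP ?_
  rw [Subgroup.mem_subgroupOf, he]
  refine ⟨g.2, ?_⟩
  rw [Subgroup.mem_normalizer_iff] at hgN
  show (g : Ω) ∈ Subgroup.normalizer (P : Set Ω)
  rw [Subgroup.mem_normalizer_iff]
  intro n
  constructor
  · intro hn
    exact (hgN ⟨n, hP.le hn⟩).1 hn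
  · intro hn
    have hnS : n ∈ S := by
      have := S.mul_mem (S.mul_mem (S.inv_mem g.2) (hP.le hn)) g.2
      simpa [mul_assoc] using this
    exact (hgN ⟨n, hnS⟩).2 hn

end Fully

/-! ### Extensionality -/

theorem fusionSystem_ext {F E : FusionSystem S} (h : ∀ P, F.Hom P = E.Hom P) : F = E := by
  cases F
  cases E
  congr 1
  exact funext h

theorem fusionSystem_le_antisymm {F E : FusionSystem S} (h : F ≤ E) (h' : E ≤ F) : F = E :=
  fusionSystem_ext fun P => Set.Subset.antisymm (h P) (h' P)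

theorem innerFusionSystem_le (F : FusionSystem S) : innerFusionSystem S ≤ F := by
  rintro P φ ⟨hP, g, hg, h⟩
  exact hom_congr (F.conj_mem hP hg) fun x => h x

end Cfsg.Lib.FusionSys

namespace Cfsg.Lib.FusionSys

open Cfsg Cfsg.FusionSystem

variable {Ω : Type*} [Group Ω] {S : Subgroup Ω} {F : FusionSystem S}

/-- A characteristic subgroup of a normal subgroup of the system is normal in it. -/
theorem isNormal_of_characteristic {Q U : Subgroup Ω} (hQ : F.IsNormal Q) (hUQ : U ≤ Q)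
    (hU : (U.subgroupOf Q).Characteristic) : F.IsNormal U := by
  refine ⟨hUQ.trans hQ.1, fun P φ hφ => ?_⟩
  obtain ⟨ψ, hψ, hψe, hψQ⟩ := hQ.2 P φ hφ
  have hle : P ⊔ U ≤ P ⊔ Q := sup_le_sup_left hUQ P
  refine ⟨_, restrict_mem hψ hle, fun x => ?_, ?_⟩
  · exact hψe x
  let ψQ : Q →* Ω := ψ.comp (Subgroup.inclusion le_sup_right)
  have hr : ψQ.range = Q := by
    conv_rhs => rw [← hψQ]
    ext y
    rw [mem_map_subgroupOf]
    constructor
    · rintro ⟨x, rfl⟩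
      exact ⟨x, _, x.2, rfl⟩
    · rintro ⟨x, hx, hxQ, rfl⟩
      exact ⟨⟨x, hxQ⟩, rfl⟩
  let β := homIso (restrict_mem hψ le_sup_right : ψQ ∈ F.Hom Q) hr
  have hfix := hU.fixed β
  ext y
  rw [mem_map_subgroupOf]
  constructor
  · rintro ⟨x, hx, hxU, rfl⟩
    have h2 : (⟨x, hUQ hxU⟩ : Q) ∈ (U.subgroupOf Q).comap β.toMonoidHom := hfix.symm ▸ hxU
    exact h2
  · intro hy
    refine ⟨β.symm ⟨y, hUQ hy⟩, le_sup_right (a := P) ?_, ?_, ?_⟩
    · have h2 : β.symm ⟨y, hUQ hy⟩ ∈ (U.subgroupOf Q).comap β.toMonoidHom := by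
        simpa [Subgroup.mem_subgroupOf] using hy
      rw [hfix] at h2
      exact h2
    · have h2 : β.symm ⟨y, hUQ hy⟩ ∈ (U.subgroupOf Q).comap β.toMonoidHom := by
        simpa [Subgroup.mem_subgroupOf] using hy
      rw [hfix] at h2
      exact h2
    · exact congrArg Subtype.val (β.apply_symm_apply ⟨y, hUQ hy⟩)

end Cfsg.Lib.FusionSys
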