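import Cfsg.Agent.Lib.FusionSys.Simple
import Cfsg.Agent.Lib.FusionSys.OfGroup
import Cfsg.Agent.Lib.FusionSys.Basic

/-!
A criterion for the simplicity of the fusion system of a group by means of centric subgroups and conjugates of
elements of the Sylow subgroup.
-/

set_option autoImplicit false

namespace Cfsg.Lib.FusionSys

open Cfsg Cfsg.FusionSystem

variable {G : Type*} [Group G] [Finite G] {p : ℕ} [Fact p.Prime]

/-- The elements used to generate the automorphisms of `S` through centric subgroups. -/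
def centricMoves (S : Subgroup G) : Set G :=
  {h | h ∈ Subgroup.normalizer (S : Set G) ∧ ∃ R : Subgroup G, R ≤ S ∧ Subgroup.centralizer (R : Set G) ≤ R ∧
    h ∈ Subgroup.closure {x : G | ∃ w ∈ Subgroup.normalizer (R : Set G), ∃ u ∈ S,
      u ∈ Subgroup.normalizer (R : Set G) ∧ x = w * u * w⁻¹}}

theorem isSimple_of_centric (S : Sylow p G) (hS1 : (S : Subgroup G) ≠ ⊥)
    (hsc : ∀ T : Subgroup G, T ≤ (S : Subgroup G) → T ≠ ⊥ →
      (∀ t ∈ T, ∀ g : G, g * t * g⁻¹ ∈ (S : Subgroup G) → g * t * g⁻¹ ∈ T) → T = (S : Subgroup G))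
    (hgen : Subgroup.normalizer ((S : Subgroup G) : Set G) ≤
      Subgroup.closure (((S : Subgroup G) : Set G) ∪ centricMoves (S : Subgroup G))) :
    (groupFusionSystem (S : Subgroup G)).IsSimple p := by
  have hSp : IsPGroup p (S : Subgroup G) := S.isPGroup'
  have hF := isSaturated_groupFusionSystem S
  refine isSimple_of_forall hF hS1 ?_ fun E hE hEi => ?_
  · intro T hT
    by_cases hT0 : T = ⊥
    · exact Or.inl hT0
    right
    refine hsc T hT.1 hT0 fun t ht g hgS => ?_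
    refine hT.2 (Subgroup.zpowers t) (Subgroup.zpowers_le.2 ht)
      ((MulAut.conj g).toMonoidHom.comp (Subgroup.zpowers t).subtype) ?_ ⟨t, Subgroup.mem_zpowers _⟩
    refine ⟨Subgroup.zpowers_le.2 (hT.1 ht), fun y => ?_, g, fun y => rfl⟩
    obtain ⟨k, hk⟩ := Subgroup.mem_zpowers_iff.1 y.2
    show MulAut.conj g (y : G) ∈ (S : Subgroup G)
    rw [← hk, map_zpow]
    exact zpow_mem (by simpa using hgS) k
  let K : Subgroup (Subgroup.normalizer ((S : Subgroup G) : Set G)) :=
    (E.autGroup (S : Subgroup G)).comap (S : Subgroup G).normalizerMonoidHom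
  have hgood : ∀ y ∈ ((S : Subgroup G) : Set G) ∪ centricMoves (S : Subgroup G),
      ∃ hy : y ∈ Subgroup.normalizer ((S : Subgroup G) : Set G),
        (⟨y, hy⟩ : Subgroup.normalizer ((S : Subgroup G) : Set G)) ∈ K := by
    rintro y (hy | ⟨hyN, R, hRS, hRc, hclo⟩)
    · exact ⟨Subgroup.le_normalizer hy, inn_le_autGroup le_rfl ⟨⟨y, hy⟩, MulEquiv.ext fun x => Subtype.ext rfl⟩⟩
    refine ⟨hyN, ?_⟩
    have hcentric : (groupFusionSystem (S : Subgroup G)).IsCentric R := by
      refine ⟨hRS, fun Q hQ => ?_⟩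
      obtain ⟨φ, ⟨-, -, g, hg⟩, rfl⟩ := hQ
      rintro x ⟨-, hx⟩
      have hxR : g⁻¹ * x * g ∈ R := hRc (Subgroup.mem_centralizer_iff.2 fun r hr => by
        have h1 : φ ⟨r, hr⟩ * x = x * φ ⟨r, hr⟩ := Subgroup.mem_centralizer_iff.1 hx _ ⟨_, rfl⟩
        rw [hg] at h1
        calc r * (g⁻¹ * x * g) = g⁻¹ * ((g * r * g⁻¹) * x) * g := by group
          _ = g⁻¹ * (x * (g * r * g⁻¹)) * g := by rw [h1]
          _ = g⁻¹ * x * g * r := by group)
      refine ⟨⟨g⁻¹ * x * g, hxR⟩, ?_⟩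
      rw [hg]
      group
    have key : ∀ x ∈ Subgroup.closure {x : G | ∃ w ∈ Subgroup.normalizer (R : Set G), ∃ u ∈ (S : Subgroup G),
        u ∈ Subgroup.normalizer (R : Set G) ∧ x = w * u * w⁻¹},
        ∃ hx : x ∈ Subgroup.normalizer (R : Set G), R.normalizerMonoidHom ⟨x, hx⟩ ∈ E.autGroup R := by
      intro x hx
      induction hx using Subgroup.closure_induction with
      | mem x hx =>
        obtain ⟨w, hw, u, hu, huN, rfl⟩ := hx
        refine ⟨mul_mem (mul_mem hw huN) (inv_mem hw), ?_⟩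
        have hu' : R.normalizerMonoidHom ⟨u, huN⟩ ∈ E.autGroup R :=
          autInducedBy_le_autGroup hRS (conjAut_mem_autInducedBy huN hu)
        have hw' : R.normalizerMonoidHom ⟨w, hw⟩ ∈ (groupFusionSystem (S : Subgroup G)).autGroup R := by
          rw [autGroup_groupFusionSystem _ hRS]
          exact conjAut_mem_autInducedBy hw (Subgroup.mem_top _)
        have h1 := autGroup_conj_mem hEi hRS hw' hu'
        rw [← map_inv, ← map_mul, ← map_mul] at h1
        exact h1
      | one =>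
        refine ⟨one_mem _, ?_⟩
        have h1 : (⟨1, Subgroup.one_mem _⟩ : Subgroup.normalizer (R : Set G)) = 1 := rfl
        rw [h1, map_one]
        exact one_mem _
      | mul a b _ _ ha hb =>
        obtain ⟨haN, ha⟩ := ha
        obtain ⟨hbN, hb⟩ := hb
        refine ⟨mul_mem haN hbN, ?_⟩
        have h1 : (⟨a * b, mul_mem haN hbN⟩ : Subgroup.normalizer (R : Set G)) = ⟨a, haN⟩ * ⟨b, hbN⟩ := rfl
        rw [h1, map_mul]
        exact mul_mem ha hb
      | inv a _ ha =>
        obtain ⟨haN, ha⟩ := ha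
        refine ⟨inv_mem haN, ?_⟩
        have h1 : (⟨a⁻¹, inv_mem haN⟩ : Subgroup.normalizer (R : Set G)) = ⟨a, haN⟩⁻¹ := rfl
        rw [h1, map_inv]
        exact inv_mem ha
    obtain ⟨hyR, hyE⟩ := key y hclo
    refine conj_mem_of_centric hSp hF hE hEi.1 ?_ hRS hcentric ?_
    · rw [autGroup_groupFusionSystem _ le_rfl]
      exact conjAut_mem_autInducedBy hyN (Subgroup.mem_top _)
    · exact hom_congr ((mem_autGroup hRS).1 hyE) fun x => rfl
  have hclK : ∀ y ∈ Subgroup.closure (((S : Subgroup G) : Set G) ∪ centricMoves (S : Subgroup G)),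
      ∃ hy : y ∈ Subgroup.normalizer ((S : Subgroup G) : Set G),
        (⟨y, hy⟩ : Subgroup.normalizer ((S : Subgroup G) : Set G)) ∈ K := by
    intro y hy
    induction hy using Subgroup.closure_induction with
    | mem y hy => exact hgood y hy
    | one => exact ⟨one_mem _, one_mem K⟩
    | mul a b _ _ ha hb =>
      obtain ⟨haN, ha⟩ := ha
      obtain ⟨hbN, hb⟩ := hb
      exact ⟨mul_mem haN hbN, mul_mem ha hb⟩
    | inv a _ ha =>
      obtain ⟨haN, ha⟩ := ha
      exact ⟨inv_mem haN, inv_mem ha⟩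
  intro α hα
  rw [autGroup_groupFusionSystem _ le_rfl, mem_autInducedBy] at hα
  obtain ⟨g, -, hg⟩ := hα
  have hgN : g ∈ Subgroup.normalizer ((S : Subgroup G) : Set G) := Subgroup.mem_normalizer_fintype fun s hs =>
    (hg ⟨s, hs⟩) ▸ (α _).2
  obtain ⟨hgS, hgK⟩ := hclK g (hgen hgN)
  have : α = (S : Subgroup G).normalizerMonoidHom ⟨g, hgS⟩ := MulEquiv.ext fun x => Subtype.ext (hg x)
  exact this ▸ hgK

variable {H : Type*} [Group H] [Finite H]

theorem map_normalizer_equiv (φ : G ≃* H) (R : Subgroup G) {x : G} :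
    x ∈ Subgroup.normalizer (R : Set G) ↔ φ x ∈ Subgroup.normalizer ((R.map φ.toMonoidHom : Subgroup H) : Set H) := by
  have hm : ∀ y : G, φ y ∈ R.map φ.toMonoidHom ↔ y ∈ R := fun y =>
    ⟨fun ⟨z, hz, e⟩ => φ.injective e ▸ hz, fun hy => ⟨y, hy, rfl⟩⟩
  rw [Subgroup.mem_normalizer_iff, Subgroup.mem_normalizer_iff]
  constructor
  · intro h z
    obtain ⟨y, rfl⟩ := φ.surjective z
    rw [← map_inv, ← map_mul, ← map_mul, hm, hm]
    exact h y
  · intro h y
    rw [← hm, ← hm (x * y * x⁻¹), map_mul, map_mul, map_inv]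
    exact h (φ y)

theorem isSimple_of_centric_equiv (e : G ≃* H) (S₀ : Sylow p G) (hS1 : (S₀ : Subgroup G) ≠ ⊥)
    (hsc : ∀ T : Subgroup G, T ≤ (S₀ : Subgroup G) → T ≠ ⊥ →
      (∀ t ∈ T, ∀ g : G, g * t * g⁻¹ ∈ (S₀ : Subgroup G) → g * t * g⁻¹ ∈ T) → T = (S₀ : Subgroup G))
    (hgen : Subgroup.normalizer ((S₀ : Subgroup G) : Set G) ≤
      Subgroup.closure (((S₀ : Subgroup G) : Set G) ∪ centricMoves (S₀ : Subgroup G)))
    (S : Sylow p H) : (groupFusionSystem (S : Subgroup H)).IsSimple p := by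
  have hes : Function.Surjective e.toMonoidHom := e.surjective
  obtain ⟨g₀, hg₀⟩ := MulAction.exists_smul_eq H (S₀.mapSurjective (f := e.toMonoidHom) hes) S
  set φ : G ≃* H := e.trans (MulAut.conj g₀) with hφ
  have hS : (S₀ : Subgroup G).map φ.toMonoidHom = (S : Subgroup H) := by
    rw [← hg₀, Sylow.coe_subgroup_smul, Sylow.coe_mapSurjective]
    ext x
    simp only [Subgroup.mem_map, hφ]
    constructor
    · rintro ⟨y, hy, rfl⟩
      exact ⟨e y, ⟨y, hy, rfl⟩, rfl⟩
    · rintro ⟨_, ⟨y, hy, rfl⟩, rfl⟩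
      exact ⟨y, hy, rfl⟩
  refine isSimple_of_centric S ?_ ?_ ?_
  · rw [← hS]
    exact fun h => hS1 ((Subgroup.map_eq_bot_iff_of_injective _ φ.injective).1 h)
  · intro T hTS hT0 hcl
    set T₀ := T.comap φ.toMonoidHom with hT₀
    have hback : T₀.map φ.toMonoidHom = T := Subgroup.map_comap_eq_self_of_surjective φ.surjective T
    have h1 := hsc T₀ ?_ ?_ ?_
    · rw [← hback, h1, hS]
    · intro x hx
      obtain ⟨y, hy, hyx⟩ : φ x ∈ (S₀ : Subgroup G).map φ.toMonoidHom := hS ▸ hTS hx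
      exact φ.injective hyx ▸ hy
    · intro h
      exact hT0 (by rw [← hback, h, Subgroup.map_bot])
    · intro t ht g hg
      show φ (g * t * g⁻¹) ∈ T
      rw [map_mul, map_mul, map_inv]
      refine hcl (φ t) ht (φ g) ?_
      rw [← map_inv, ← map_mul, ← map_mul, ← hS]
      exact Subgroup.mem_map_of_mem _ hg
  · intro x hx
    obtain ⟨x, rfl⟩ := φ.surjective x
    have hx' : x ∈ Subgroup.normalizer ((S₀ : Subgroup G) : Set G) := by
      rw [map_normalizer_equiv φ, hS]; exact hx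
    have h1 := Subgroup.mem_map_of_mem φ.toMonoidHom (hgen hx')
    rw [MonoidHom.map_closure] at h1
    refine Subgroup.closure_mono ?_ h1
    rintro _ ⟨y, hy | ⟨hyN, R, hR, hRc, hclo⟩, rfl⟩
    · exact Or.inl (hS ▸ Subgroup.mem_map_of_mem _ hy)
    refine Or.inr ⟨hS ▸ (map_normalizer_equiv φ _).1 hyN, R.map φ.toMonoidHom, hS ▸ Subgroup.map_mono hR, ?_, ?_⟩
    · intro z hz
      obtain ⟨z, rfl⟩ := φ.surjective z
      refine Subgroup.mem_map_of_mem _ (hRc (Subgroup.mem_centralizer_iff.2 fun r hr => φ.injective ?_))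
      rw [map_mul, map_mul]
      exact Subgroup.mem_centralizer_iff.1 hz _ (Subgroup.mem_map_of_mem _ hr)
    · have h2 := Subgroup.mem_map_of_mem φ.toMonoidHom hclo
      rw [MonoidHom.map_closure] at h2
      refine Subgroup.closure_mono ?_ h2
      rintro _ ⟨_, ⟨w, hw, u, hu, huN, rfl⟩, rfl⟩
      exact ⟨φ w, (map_normalizer_equiv φ R).1 hw, φ u, hS ▸ Subgroup.mem_map_of_mem _ hu,
        (map_normalizer_equiv φ R).1 huN, by simp⟩

end Cfsg.Lib.FusionSys
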