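import Cfsg.Agent.Lib.FusionSys.AltBlocks
import Cfsg.Agent.Lib.FusionSys.SimpleCentric

/-!
The `2`-fusion system of an alternating group of degree at least six is simple.
-/

set_option autoImplicit false
set_option linter.unusedSectionVars false

namespace Cfsg.Lib.FusionSys.AltWreath

open Equiv

theorem exists_sylow_alt {X : Type*} [Fintype X] [DecidableEq X] {p : ℕ} [Fact p.Prime] (W : Sylow p (Perm X)) :
    ∃ Q : Sylow p (alternatingGroup X),
      (Q : Subgroup (alternatingGroup X)) = (W : Subgroup (Perm X)).subgroupOf (alternatingGroup X) := by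
  obtain ⟨Q₀⟩ : Nonempty (Sylow p (alternatingGroup X)) := inferInstance
  obtain ⟨W₀, hW₀⟩ := Sylow.exists_comap_subtype_eq Q₀
  obtain ⟨g, hg⟩ := MulAction.exists_smul_eq (Perm X) W₀ W
  set c : alternatingGroup X ≃* alternatingGroup X := MulAut.conjNormal g
  have hc : Function.Surjective c.toMonoidHom := c.surjective
  refine ⟨Q₀.mapSurjective (f := c.toMonoidHom) hc, ?_⟩
  rw [Sylow.coe_mapSurjective, ← hg, Sylow.coe_subgroup_smul, ← hW₀]
  ext x
  constructor
  · rintro ⟨y, hy, rfl⟩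
    exact ⟨(y : Perm X), hy, (MulAut.conjNormal_apply g y).symm⟩
  · rintro ⟨y, hy, hyx⟩
    have hyA : y ∈ alternatingGroup X := by
      have hx := x.2
      rw [Perm.mem_alternatingGroup] at hx ⊢
      rw [show (x : Perm X) = g * y * g⁻¹ from hyx.symm, map_mul, map_mul, map_inv, mul_comm _ (Perm.sign y),
        mul_inv_cancel_right] at hx
      exact hx
    exact ⟨⟨y, hyA⟩, hy, Subtype.ext ((MulAut.conjNormal_apply g _).trans hyx)⟩

theorem normal_base {p : ℕ} [Fact p.Prime] {B ι : Type*} [Finite B] [Finite ι] {P : Subgroup (Perm B)} {t : Perm (Pt p B ι)}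
    (ht : t ∈ wr p ι P) (f : B → ZMod p) : ∃ f', t * tr f * t⁻¹ = tr f' := by
  obtain ⟨e, σ, -, rfl⟩ := ht
  refine ⟨f ∘ σ.symm, ?_⟩
  rw [mul_inv_eq_iff_eq_mul, mul_assoc, lift_tr, ← mul_assoc, tr_comm, mul_assoc]

namespace Two

local instance : Fact (Nat.Prime 2) := ⟨Nat.prime_two⟩

variable {m r : ℕ}

theorem zmod_two (a : ZMod 2) : a = 0 ∨ a = 1 := by
  have h : ∀ a : ZMod 2, a = 0 ∨ a = 1 := by decide
  exact h a

theorem add_self' {B : Type*} (f : B → ZMod 2) : f + f = 0 := funext fun _ => CharTwo.add_self_eq_zero _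

set_option quotPrecheck false in
local notation "X" => Pt 2 (Fin m) (Fin r)

theorem sign_lift' (σ : Perm (Fin m)) : Perm.sign (lift σ : Perm X) = 1 := by
  rw [sign_lift]; exact Int.units_sq _

theorem sign_single (b : Fin m) : Perm.sign (tr (Pi.single b 1) : Perm X) = -1 := by
  refine Perm.IsSwap.sign_eq (Perm.card_support_eq_two.mp ?_)
  rw [support_tr, show (Finset.univ.filter fun a => (Pi.single b (1 : ZMod 2) : Fin m → ZMod 2) a ≠ 0) = {b} from
    Finset.ext fun a => by simp [Pi.single_apply], Finset.card_singleton]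

theorem sign_pair (b c : Fin m) : Perm.sign (tr (Pi.single b 1 + Pi.single c 1) : Perm X) = 1 := by
  rw [tr_add, map_mul, sign_single, sign_single]; rfl

theorem sep (hm : 3 ≤ m) (b b' : Fin m) (_ : b' ≠ b) :
    ∃ c, c ≠ b ∧ c ≠ b' := by
  by_contra h
  push Not at h
  have hle : (Finset.univ : Finset (Fin m)) ⊆ {b, b'} := fun c _ => by
    by_cases hc : c = b
    · simp [hc]
    · simp [h c hc]
  have := (Finset.card_le_card hle).trans Finset.card_le_two
  simp at this
  omega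

theorem centralizer_even (hm : 3 ≤ m) (hr : r ≤ 1) {c : Perm X}
    (hc : ∀ f, Perm.sign (tr f : Perm X) = 1 → c * tr f = tr f * c) : ∃ f, c = tr f := by
  haveI : Subsingleton (Fin r) := ⟨fun a b => Fin.ext (by omega)⟩
  refine eq_base_of_commute {f | Perm.sign (tr f : Perm X) = 1} (fun b b' hb => ?_) (fun b => ?_) hc
  · obtain ⟨c', h1, h2⟩ := sep hm b b' hb
    exact ⟨_, sign_pair b c', by simp [h1.symm], by simp [h2.symm, hb]⟩
  · obtain ⟨c', h1⟩ : ∃ c' : Fin m, c' ≠ b := by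
      by_cases h : b = ⟨0, by omega⟩
      · exact ⟨⟨1, by omega⟩, fun e => by rw [h] at e; exact absurd (congrArg Fin.val e) (by simp)⟩
      · exact ⟨⟨0, by omega⟩, Ne.symm h⟩
    exact ⟨_, sign_pair b c', by simp [h1.symm]⟩

theorem mem_base_pairs (hm : 3 ≤ m) (W : AddSubgroup (Fin m → ZMod 2))
    (hcyc : ∀ τ : Perm (Fin m), Perm.IsThreeCycle τ → ∀ f ∈ W, f ∘ τ.symm ∈ W) {x y : Fin m} (hxy : x ≠ y)
    (hW : Pi.single x 1 + Pi.single y 1 ∈ W) (f : Fin m → ZMod 2) (hf : Perm.sign (tr f : Perm X) = 1)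
    (heven : ∀ g ∈ W, Perm.sign (tr g : Perm X) = 1) : f ∈ W := by
  have hall : ∀ z, z ≠ x → z ≠ y → Pi.single x 1 + Pi.single z 1 ∈ W := by
    intro z hzx hzy
    have h1 := hcyc (Equiv.swap x y * Equiv.swap x z) (Perm.isThreeCycle_swap_mul_swap_same hxy hzx.symm hzy.symm) _ hW
    have h2 : (Pi.single x 1 + Pi.single y 1 : Fin m → ZMod 2) ∘ (Equiv.swap x y * Equiv.swap x z).symm =
        Pi.single ((Equiv.swap x y * Equiv.swap x z) x) 1 + Pi.single ((Equiv.swap x y * Equiv.swap x z) y) 1 := by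
      funext a
      simp [Pi.single_apply, Equiv.symm_apply_eq, Function.comp]
    rw [h2, Perm.mul_apply, Perm.mul_apply, Equiv.swap_apply_left, Equiv.swap_apply_of_ne_of_ne hzx hzy,
      Equiv.swap_apply_of_ne_of_ne hxy.symm hzy.symm, Equiv.swap_apply_right] at h1
    rwa [add_comm]
  have hall' : ∀ z, Pi.single x (1 : ZMod 2) + Pi.single z 1 ∈ W := fun z => by
    by_cases hzx : z = x
    · rw [hzx, add_self']; exact W.zero_mem
    · by_cases hzy : z = y
      · rw [hzy]; exact hW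
      · exact hall z hzx hzy
  set f' : Fin m → ZMod 2 := ∑ b, f b • (Pi.single x 1 + Pi.single b 1)
  have hf' : f' ∈ W := W.sum_mem fun b _ => by
    rcases zmod_two (f b) with e | e <;> rw [e]
    · rw [zero_smul]; exact W.zero_mem
    · rw [one_smul]; exact hall' b
  have he : f' = Pi.single x (∑ b, f b) + f := by
    funext a
    simp only [f', Finset.sum_apply, Pi.smul_apply, Pi.add_apply, smul_eq_mul, mul_add, Finset.sum_add_distrib]
    simp [Pi.single_apply]
  rcases zmod_two (∑ b, f b) with e | e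
  · rwa [he, e, Pi.single_zero, zero_add] at hf'
  · exfalso
    have h1 := heven f' hf'
    rw [he, e, tr_add, map_mul, sign_single, hf] at h1
    exact absurd h1 (by decide)

theorem eq_top_of_closed (hm : 3 ≤ m) (hr : r ≤ 1) (P : Sylow 2 (Perm (Fin m))) {b₀ b₁ : Fin m} (hb : b₀ ≠ b₁)
    (hswap : Equiv.swap b₀ b₁ ∈ (P : Subgroup (Perm (Fin m)))) (T : Subgroup (Perm X))
    (hT : ∀ t ∈ T, t ∈ wr 2 (Fin r) (P : Subgroup (Perm (Fin m))) ∧ Perm.sign t = 1) (hT1 : T ≠ ⊥)
    (hcl : ∀ t ∈ T, ∀ g : Perm X, Perm.sign g = 1 → g * t * g⁻¹ ∈ wr 2 (Fin r) (P : Subgroup (Perm (Fin m))) →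
      g * t * g⁻¹ ∈ T) :
    ∀ x ∈ wr 2 (Fin r) (P : Subgroup (Perm (Fin m))), Perm.sign x = 1 → x ∈ T := by
  classical
  haveI : Subsingleton (Fin r) := ⟨fun a b => Fin.ext (by omega)⟩
  set M := wr 2 (Fin r) (P : Subgroup (Perm (Fin m)))
  have hnorm : ∀ t ∈ T, ∀ x ∈ M, Perm.sign x = 1 → x * t * x⁻¹ ∈ T := fun t ht x hx hxs =>
    hcl t ht x hxs (mul_mem (mul_mem hx (hT t ht).1) (inv_mem hx))
  let W : AddSubgroup (Fin m → ZMod 2) :=
    { carrier := {f | tr f ∈ T}
      zero_mem' := by show tr 0 ∈ T; rw [tr_zero]; exact one_mem T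
      add_mem' := fun {f g} hf hg => by show tr (f + g) ∈ T; rw [tr_add]; exact mul_mem hf hg
      neg_mem' := fun {f} hf => by show tr (-f) ∈ T; rw [← tr_inv]; exact inv_mem hf }
  have heven : ∀ g ∈ W, Perm.sign (tr g : Perm X) = 1 := fun g hg => (hT _ hg).2
  obtain ⟨f, hf, hf0⟩ : ∃ f ∈ W, f ≠ 0 := by
    obtain ⟨t, ht, ht1⟩ := (Subgroup.bot_or_exists_ne_one T).resolve_left hT1
    by_cases hcom : ∀ f, Perm.sign (tr f : Perm X) = 1 → t * tr f = tr f * t
    · obtain ⟨f, rfl⟩ := centralizer_even hm hr hcom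
      exact ⟨f, ht, fun e => ht1 (by rw [e, tr_zero])⟩
    · push Not at hcom
      obtain ⟨g, hg, hne⟩ := hcom
      obtain ⟨g', hg'⟩ := normal_base (hT t ht).1 g
      refine ⟨g' + -g, ?_, fun e => hne ?_⟩
      · show tr (g' + -g) ∈ T
        rw [tr_add, ← hg', ← tr_inv, show t * tr g * t⁻¹ * (tr g)⁻¹ = t * (tr g * t⁻¹ * (tr g)⁻¹) by group]
        exact mul_mem ht (hnorm _ (inv_mem ht) _ (tr_mem_wr _ _) hg)
      · rw [add_neg_eq_zero] at e
        rw [e, mul_inv_eq_iff_eq_mul] at hg'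
        exact hg'
  have hcyc : ∀ τ : Perm (Fin m), Perm.IsThreeCycle τ → ∀ f ∈ W, f ∘ τ.symm ∈ W := by
    intro τ hτ f hf
    have h1 : (lift τ : Perm X) * tr f * (lift τ)⁻¹ = tr (f ∘ τ.symm) := by
      rw [lift_tr, mul_inv_cancel_right]
    show tr _ ∈ T
    rw [← h1]
    exact hcl _ hf _ (sign_lift' τ) (h1 ▸ tr_mem_wr _ _)
  obtain ⟨x, y, hxy, hpair⟩ : ∃ x y, x ≠ y ∧ Pi.single x 1 + Pi.single y 1 ∈ W := by
    by_cases hconst : ∀ b b', f b = f b'
    · have hone : f = 1 := by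
        funext b
        refine (zmod_two (f b)).resolve_left fun e => hf0 (funext fun b' => ?_)
        rw [hconst b' b, e]; rfl
      subst hone
      set f'' : Fin m → ZMod 2 := 1 + Pi.single b₀ 1 + Pi.single b₁ 1 with hf''
      have hsign : Perm.sign (tr f'' * lift (Equiv.swap b₀ b₁) : Perm X) = 1 := by
        rw [hf'', tr_add, tr_add, map_mul, map_mul, map_mul, sign_lift', sign_single, sign_single,
          (hT _ hf).2]
        decide
      have hmem : (tr f'' * lift (Equiv.swap b₀ b₁) : Perm X) ∈ M := mul_mem (tr_mem_wr _ _) (lift_mem_wr hswap)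
      have hf0' : f'' b₀ = 0 ∧ f'' b₁ = 0 := by
        constructor
        · simp [hf'', hb, CharTwo.add_self_eq_zero]
        · simp [hf'', hb.symm, CharTwo.add_self_eq_zero]
      have hsymm : f'' ∘ (Equiv.swap b₀ b₁).symm = f'' := by
        funext a
        simp only [Function.comp, Equiv.symm_swap]
        by_cases h0 : a = b₀
        · rw [h0, Equiv.swap_apply_left, hf0'.1, hf0'.2]
        · by_cases h1 : a = b₁
          · rw [h1, Equiv.swap_apply_right, hf0'.1, hf0'.2]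
          · rw [Equiv.swap_apply_of_ne_of_ne h0 h1]
      have hsq : (tr f'' * lift (Equiv.swap b₀ b₁) : Perm X) ^ 2 = 1 := by
        rw [pow_two, mul_assoc (tr f''), ← mul_assoc (lift (Equiv.swap b₀ b₁)), lift_tr, hsymm, ← mul_assoc,
          ← mul_assoc, ← tr_add, add_self', tr_zero, one_mul, ← lift_mul, Equiv.swap_mul_self, lift_one]
      obtain ⟨g, s, hg, hs⟩ := exists_conj_tr (by rw [Fintype.card_fin]; omega) hsq
      have hsupp : (tr f'' * lift (Equiv.swap b₀ b₁) : Perm X).support =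
          (Finset.univ : Finset (ZMod 2 × Fin m)).map Function.Embedding.inl := by
        ext z
        rcases z with ⟨a, b⟩ | i
        · simp only [Perm.mem_support, Perm.mul_apply, lift_inl, tr_inl, Finset.mem_map, Finset.mem_univ, true_and,
            Function.Embedding.inl_apply, Sum.inl.injEq, exists_eq, iff_true]
          intro he
          simp only [Sum.inl.injEq, Prod.mk.injEq] at he
          obtain ⟨h1, h2⟩ := he
          have hb0 : b ≠ b₀ := fun e => by rw [e, Equiv.swap_apply_left] at h2; exact hb h2.symm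
          have hb1 : b ≠ b₁ := fun e => by rw [e, Equiv.swap_apply_right] at h2; exact hb h2
          rw [Equiv.swap_apply_of_ne_of_ne hb0 hb1, hf''] at h1
          simp [hb0, hb1] at h1
        · simp
      have hsu : s = Finset.univ := Finset.eq_univ_of_card _ (by
        rw [hsupp, Finset.card_map, Finset.card_univ, Fintype.card_prod, ZMod.card] at hs
        omega)
      have hg1 : g * (tr f'' * lift (Equiv.swap b₀ b₁)) * g⁻¹ = (tr 1 : Perm X) := by
        rw [hg, hsu]
        congr 1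
        funext b
        simp
      obtain ⟨g, hgs, hg2⟩ : ∃ g : Perm X, Perm.sign g = 1 ∧ g * (tr f'' * lift (Equiv.swap b₀ b₁)) * g⁻¹ = tr 1 := by
        rcases Int.units_eq_one_or (Perm.sign g) with h | h
        · exact ⟨g, h, hg1⟩
        · refine ⟨tr (Pi.single b₀ 1) * g, by rw [map_mul, sign_single, h]; decide, ?_⟩
          rw [show tr (Pi.single b₀ 1) * g * (tr f'' * lift (Equiv.swap b₀ b₁)) * (tr (Pi.single b₀ 1) * g)⁻¹ =
            tr (Pi.single b₀ 1) * (g * (tr f'' * lift (Equiv.swap b₀ b₁)) * g⁻¹) * (tr (Pi.single b₀ 1))⁻¹ by group,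
            hg1, tr_comm, mul_inv_cancel_right]
      have hz : (tr f'' * lift (Equiv.swap b₀ b₁) : Perm X) ∈ T := by
        have h1 : g⁻¹ * tr 1 * g⁻¹⁻¹ = tr f'' * lift (Equiv.swap b₀ b₁) := by rw [← hg2]; group
        rw [← h1]
        exact hcl _ hf _ (by rw [map_inv, hgs, inv_one]) (h1.symm ▸ hmem)
      obtain ⟨c, hc0, hc1⟩ := sep hm b₀ b₁ hb.symm
      refine ⟨b₁, b₀, hb.symm, ?_⟩
      show tr _ ∈ T
      set e := (Pi.single b₀ 1 + Pi.single c 1 : Fin m → ZMod 2) with he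
      have h1 : (tr f'' * lift (Equiv.swap b₀ b₁) : Perm X) *
          (tr e * (tr f'' * lift (Equiv.swap b₀ b₁))⁻¹ * (tr e)⁻¹) ∈ T :=
        mul_mem hz (hnorm _ (inv_mem hz) _ (tr_mem_wr _ _) (sign_pair b₀ c))
      have h2 : (tr f'' * lift (Equiv.swap b₀ b₁) : Perm X) *
          (tr e * (tr f'' * lift (Equiv.swap b₀ b₁))⁻¹ * (tr e)⁻¹) = tr (e ∘ (Equiv.swap b₀ b₁).symm + -e) := by
        clear_value f'' e
        rw [tr_add (e ∘ _) (-e), ← tr_inv e, ← mul_assoc, ← mul_assoc, mul_assoc (tr f''), lift_tr, ← mul_assoc (tr f''),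
          tr_comm f'']
        group
      rw [h2] at h1
      convert h1 using 2
      funext a
      simp only [he, Function.comp, Equiv.symm_swap, Pi.add_apply, Pi.neg_apply, Pi.single_apply, CharTwo.neg_eq]
      by_cases h0 : a = b₀
      · simp [h0, hb, hb.symm, hc0.symm, hc1.symm]
      · by_cases h1' : a = b₁
        · simp [h1', hb.symm, hc1.symm, hc0.symm]
        · by_cases h2' : a = c
          · simp [h2', hc0, hc1, Equiv.swap_apply_of_ne_of_ne, CharTwo.add_self_eq_zero]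
          · simp [h0, h1', h2', Equiv.swap_apply_of_ne_of_ne]
    · push Not at hconst
      obtain ⟨b, b', hne⟩ := hconst
      have hbb : b ≠ b' := fun e => hne (by rw [e])
      obtain ⟨c, hcb, hcb'⟩ := sep hm b b' hbb.symm
      obtain ⟨u, w, v, huw, huv, hwv, hf1, hf2⟩ : ∃ u w v, u ≠ w ∧ u ≠ v ∧ w ≠ v ∧ f u ≠ f w ∧ f v = f w := by
        have key : ∀ a a' a'' : ZMod 2, a ≠ a' → a'' ≠ a' → a'' = a := by decide
        by_cases e : f c = f b'
        · exact ⟨b, b', c, hbb, hcb.symm, hcb'.symm, hne, e⟩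
        · exact ⟨b', b, c, hbb.symm, hcb'.symm, hcb.symm, hne.symm, key _ _ _ hne e⟩
      refine ⟨u, v, huv, ?_⟩
      have h1 := W.add_mem (hcyc (Equiv.swap u w * Equiv.swap u v)
        (Perm.isThreeCycle_swap_mul_swap_same huw huv hwv) f hf) hf
      convert h1 using 1
      funext a
      simp only [Pi.add_apply, Function.comp, Perm.mul_def, Equiv.symm_trans_apply, Equiv.symm_swap, Pi.single_apply]
      have key : ∀ a' a : ZMod 2, a' ≠ a → a + a' = 1 ∧ a' + a = 1 := by decide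
      obtain ⟨k1, k2⟩ := key _ _ hf1
      by_cases ha : a = u
      · subst ha
        rw [Equiv.swap_apply_left, Equiv.swap_apply_of_ne_of_ne huw.symm hwv, if_pos rfl, if_neg huv, add_zero, k1]
      · by_cases ha' : a = w
        · subst ha'
          rw [Equiv.swap_apply_right, Equiv.swap_apply_left, if_neg ha, if_neg hwv, add_zero, hf2,
            CharTwo.add_self_eq_zero]
        · rw [Equiv.swap_apply_of_ne_of_ne ha ha', if_neg ha, zero_add]
          by_cases ha'' : a = v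
          · subst ha''
            rw [Equiv.swap_apply_right, if_pos rfl, hf2, k2]
          · rw [Equiv.swap_apply_of_ne_of_ne ha ha'', if_neg ha'', CharTwo.add_self_eq_zero]
  have hbase : ∀ f, Perm.sign (tr f : Perm X) = 1 → tr f ∈ T := fun f hf =>
    mem_base_pairs hm W hcyc hxy hpair f hf heven
  have hinv : ∀ x ∈ M, Perm.sign x = 1 → x ^ 2 = 1 → x ∈ T := by
    intro x hx hxs hx2
    obtain ⟨g, s, hg, -⟩ := exists_conj_tr (by rw [Fintype.card_fin]; omega) hx2
    set e : Fin m → ZMod 2 := fun b => if b ∈ s then 1 else 0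
    have hes : Perm.sign (tr e : Perm X) = 1 := by
      rw [← hg, map_mul, map_mul, hxs, map_inv, mul_one, mul_inv_cancel]
    obtain ⟨g, hgs, hg⟩ : ∃ g : Perm X, Perm.sign g = 1 ∧ g * x * g⁻¹ = tr e := by
      rcases Int.units_eq_one_or (Perm.sign g) with h | h
      · exact ⟨g, h, hg⟩
      · refine ⟨tr (Pi.single b₀ 1) * g, by rw [map_mul, sign_single, h]; decide, ?_⟩
        rw [show tr (Pi.single b₀ 1) * g * x * (tr (Pi.single b₀ 1) * g)⁻¹ =
          tr (Pi.single b₀ 1) * (g * x * g⁻¹) * (tr (Pi.single b₀ 1))⁻¹ by group,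
          hg, tr_comm, mul_inv_cancel_right]
    have h1 : g⁻¹ * tr e * g⁻¹⁻¹ = x := by rw [← hg]; group
    rw [← h1]
    exact hcl _ (hbase e hes) _ (by rw [map_inv, hgs, inv_one]) (h1.symm ▸ hx)
  intro x hx hxs
  obtain ⟨e, σ, hσ, rfl⟩ := hx
  rw [map_mul, sign_lift', mul_one] at hxs
  refine mul_mem (hbase e hxs) ?_
  have h1 := Subgroup.mem_map_of_mem (liftHom (p := 2) (ι := Fin r))
    (sylow_le_closure_order_p (p := 2) m (Fin m) (Nat.card_fin m) P hσ)
  rw [MonoidHom.map_closure] at h1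
  refine (Subgroup.closure_le T).mpr ?_ h1
  rintro _ ⟨τ, ⟨hτ, hτ2⟩, rfl⟩
  exact hinv _ (lift_mem_wr hτ) (sign_lift' τ) (by rw [← map_pow, hτ2, map_one])

theorem normalizer_eq (hm : 3 ≤ m) (hr : r ≤ 1) (P : Sylow 2 (Perm (Fin m))) (S : Subgroup (alternatingGroup X))
    (hS : S = (wr 2 (Fin r) (P : Subgroup (Perm (Fin m)))).subgroupOf (alternatingGroup X)) :
    Subgroup.normalizer (S : Set (alternatingGroup X)) ≤ S := by
  classical
  haveI : Subsingleton (Fin r) := ⟨fun a b => Fin.ext (by omega)⟩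
  intro g hg
  set M := S.map (alternatingGroup X).subtype
  have hM : M ≤ wr 2 (Fin r) (P : Subgroup (Perm (Fin m))) := by
    rintro _ ⟨x, hx, rfl⟩; rw [hS] at hx; exact hx
  have hmemM : ∀ {y : Perm X}, y ∈ wr 2 (Fin r) (P : Subgroup (Perm (Fin m))) → Perm.sign y = 1 → y ∈ M :=
    fun {y} h1 h2 => ⟨⟨y, Perm.mem_alternatingGroup.mpr h2⟩, by rw [hS]; exact h1, rfl⟩
  have hgM : (g : Perm X) ∈ Subgroup.normalizer (M : Set (Perm X)) := Subgroup.mem_normalizer_fintype (by
    rintro _ ⟨x, hx, rfl⟩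
    exact ⟨g * x * g⁻¹, (Subgroup.mem_normalizer_iff.mp hg x).mp hx, rfl⟩)
  obtain ⟨e, σ, d, he⟩ := coords_of_normalizer hM
    (fun c hc => centralizer_even hm hr fun f hf => hc _ (hmemM (tr_mem_wr _ f) hf)) hgM
  have hd : (scl d : Perm X) = 1 := by
    have : d = 1 := funext fun b => Subsingleton.elim _ _
    rw [this]
    exact map_one (sclHom (p := 2) (ι := Fin r))
  rw [hd, mul_one] at he
  rw [hS]
  show (g : Perm X) ∈ wr 2 (Fin r) (P : Subgroup (Perm (Fin m)))
  rw [he] at hgM ⊢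
  refine ⟨e, σ, (normalizer_sylow_two m (Fin m) (Nat.card_fin m) P).le (Subgroup.mem_normalizer_fintype
    fun τ hτ => ?_), rfl⟩
  have h1 := hM ((Subgroup.mem_normalizer_iff.mp hgM (lift τ)).mp (hmemM (lift_mem_wr hτ) (sign_lift' τ)))
  have h2 := mul_mem (mul_mem (tr_mem_wr (p := 2) (ι := Fin r) (P : Subgroup (Perm (Fin m))) (-e)) h1)
    (tr_mem_wr (P : Subgroup (Perm (Fin m))) e)
  rw [← tr_inv, show (tr e)⁻¹ * (tr e * lift σ * lift τ * (tr e * lift σ)⁻¹) * tr e =
    lift σ * lift τ * (lift σ : Perm X)⁻¹ by group, lift_inv, ← lift_mul, ← lift_mul] at h2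
  exact mem_of_lift_mem h2

theorem isSimple_two (hm : 3 ≤ m) (hr : r ≤ 1) {H : Type*} [Group H] [Finite H]
    (e : alternatingGroup X ≃* H) (S : Sylow 2 H) :
    (Cfsg.groupFusionSystem (S : Subgroup H)).IsSimple 2 := by
  classical
  set b₀ : Fin m := ⟨0, by omega⟩
  set b₁ : Fin m := ⟨1, by omega⟩
  have hb : b₀ ≠ b₁ := fun h => absurd (congrArg Fin.val h) (by simp [b₀, b₁])
  have hp2 : IsPGroup 2 (Subgroup.zpowers (Equiv.swap b₀ b₁)) := by
    refine IsPGroup.of_card (n := 1) ?_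
    rw [Nat.card_zpowers, pow_one]
    exact orderOf_eq_prime (by rw [pow_two, Equiv.swap_mul_self]) (by simpa [Equiv.swap_eq_one_iff] using hb)
  obtain ⟨P, hP⟩ := hp2.exists_le_sylow
  have hswap : Equiv.swap b₀ b₁ ∈ (P : Subgroup (Perm (Fin m))) := hP (Subgroup.mem_zpowers _)
  obtain ⟨W, hW⟩ := exists_sylow_wr (p := 2) (ι := Fin r) (by rw [Nat.card_fin]; omega) P
  obtain ⟨Q, hQ⟩ := exists_sylow_alt W
  rw [hW] at hQ
  have hmemQ : ∀ {y : alternatingGroup X}, y ∈ (Q : Subgroup (alternatingGroup X)) ↔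
      (y : Perm X) ∈ wr 2 (Fin r) (P : Subgroup (Perm (Fin m))) := fun {y} => by rw [hQ]; rfl
  refine isSimple_of_centric_equiv e Q ?_ ?_ ?_ S
  · intro h
    have h1 : (⟨tr (Pi.single b₀ 1 + Pi.single b₁ 1), Perm.mem_alternatingGroup.mpr (sign_pair b₀ b₁)⟩ :
        alternatingGroup X) ∈ (Q : Subgroup (alternatingGroup X)) := hmemQ.mpr (tr_mem_wr _ _)
    rw [h, Subgroup.mem_bot] at h1
    have h2 := congrArg Subtype.val h1
    rw [Subgroup.coe_one, ← tr_zero] at h2
    have h3 := congrFun (tr_injective h2) b₀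
    simp [hb] at h3
  · intro T hTQ hT0 hcl
    refine le_antisymm hTQ fun x hx => ?_
    have h1 := eq_top_of_closed hm hr P hb hswap (T.map (alternatingGroup X).subtype) ?_ ?_ ?_ (x : Perm X)
      (hmemQ.mp hx) (Perm.mem_alternatingGroup.mp x.2)
    · obtain ⟨y, hy, hyx⟩ := h1
      rwa [← Subtype.ext hyx]
    · rintro _ ⟨t, ht, rfl⟩
      exact ⟨hmemQ.mp (hTQ ht), Perm.mem_alternatingGroup.mp t.2⟩
    · exact fun h => hT0 ((Subgroup.map_eq_bot_iff_of_injective _ (Subgroup.subtype_injective _)).mp h)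
    · rintro _ ⟨t, ht, rfl⟩ g hgs hg
      exact ⟨⟨g, Perm.mem_alternatingGroup.mpr hgs⟩ * t * ⟨g, Perm.mem_alternatingGroup.mpr hgs⟩⁻¹,
        hcl t ht _ (hmemQ.mpr hg), rfl⟩
  · exact (normalizer_eq hm hr P _ hQ).trans fun x hx => Subgroup.subset_closure (Or.inl hx)

end Two

end Cfsg.Lib.FusionSys.AltWreath
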