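import Mathlib

/-!
Wreath products of a group of prime order with a permutation group, as permutation groups, and Sylow subgroups
of symmetric groups.
-/

set_option autoImplicit false
set_option linter.unusedSectionVars false

namespace Cfsg.Lib.FusionSys.AltWreath

open Equiv Nat
open scoped commutatorElement

variable {p : ℕ} {B ι : Type*}

/-- The points: `p` copies of `B` and some further points. -/
abbrev Pt (p : ℕ) (B ι : Type*) := (ZMod p × B) ⊕ ι

/-- The translation by `f`. -/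
def tr (f : B → ZMod p) : Perm (Pt p B ι) :=
  Equiv.sumCongr (prodCongrLeft fun b => Equiv.addRight (f b)) (Equiv.refl ι)

@[simp] theorem tr_inl (f : B → ZMod p) (x : ZMod p) (b : B) :
    (tr f : Perm (Pt p B ι)) (Sum.inl (x, b)) = Sum.inl (x + f b, b) := rfl

@[simp] theorem tr_inr (f : B → ZMod p) (i : ι) : (tr f : Perm (Pt p B ι)) (Sum.inr i) = Sum.inr i := rfl

/-- A permutation of `B` applied in every copy. -/
def lift (σ : Perm B) : Perm (Pt p B ι) :=
  Equiv.sumCongr (prodCongrRight fun _ => σ) (Equiv.refl ι)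

@[simp] theorem lift_inl (σ : Perm B) (x : ZMod p) (b : B) :
    (lift σ : Perm (Pt p B ι)) (Sum.inl (x, b)) = Sum.inl (x, σ b) := rfl

@[simp] theorem lift_inr (σ : Perm B) (i : ι) : (lift σ : Perm (Pt p B ι)) (Sum.inr i) = Sum.inr i := rfl

/-- Scaling in every copy. -/
def scl (d : B → (ZMod p)ˣ) : Perm (Pt p B ι) :=
  Equiv.sumCongr (prodCongrLeft fun b => Units.mulLeft (d b)) (Equiv.refl ι)

@[simp] theorem scl_inl (d : B → (ZMod p)ˣ) (x : ZMod p) (b : B) :
    (scl d : Perm (Pt p B ι)) (Sum.inl (x, b)) = Sum.inl ((d b : ZMod p) * x, b) := rfl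

@[simp] theorem scl_inr (d : B → (ZMod p)ˣ) (i : ι) : (scl d : Perm (Pt p B ι)) (Sum.inr i) = Sum.inr i := rfl

theorem perm_ext {g h : Perm (Pt p B ι)} (h1 : ∀ x b, g (Sum.inl (x, b)) = h (Sum.inl (x, b)))
    (h2 : ∀ i, g (Sum.inr i) = h (Sum.inr i)) : g = h :=
  Equiv.ext fun z => match z with
    | Sum.inl (x, b) => h1 x b
    | Sum.inr i => h2 i

theorem tr_add (f g : B → ZMod p) : (tr (f + g) : Perm (Pt p B ι)) = tr f * tr g :=
  perm_ext (fun x b => by simp [add_assoc, add_comm (f b)]) fun i => by simp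

theorem tr_zero : (tr (0 : B → ZMod p) : Perm (Pt p B ι)) = 1 :=
  perm_ext (fun x b => by simp) fun i => by simp

theorem tr_inv (f : B → ZMod p) : (tr f : Perm (Pt p B ι))⁻¹ = tr (-f) := by
  refine inv_eq_of_mul_eq_one_right ?_
  rw [← tr_add, add_neg_cancel, tr_zero]

theorem tr_comm (f g : B → ZMod p) : (tr f : Perm (Pt p B ι)) * tr g = tr g * tr f := by
  rw [← tr_add, add_comm, tr_add]

theorem tr_nsmul (n : ℕ) (f : B → ZMod p) : (tr (n • f) : Perm (Pt p B ι)) = tr f ^ n := by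
  induction n with
  | zero => rw [zero_smul, tr_zero, pow_zero]
  | succ n ih => rw [succ_nsmul, tr_add, ih, pow_succ]

theorem tr_pow_p (f : B → ZMod p) : (tr f : Perm (Pt p B ι)) ^ p = 1 := by
  rw [← tr_nsmul]
  have : p • f = 0 := funext fun b => by simp
  rw [this, tr_zero]

theorem lift_mul (σ τ : Perm B) : (lift (σ * τ) : Perm (Pt p B ι)) = lift σ * lift τ :=
  perm_ext (fun x b => by simp) fun i => by simp

/-- `lift` as a homomorphism. -/
def liftHom : Perm B →* Perm (Pt p B ι) := MonoidHom.mk' lift lift_mul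

theorem lift_inv (σ : Perm B) : (lift σ : Perm (Pt p B ι))⁻¹ = lift σ⁻¹ := (map_inv (liftHom (p := p) (ι := ι)) σ).symm

theorem lift_one : (lift (1 : Perm B) : Perm (Pt p B ι)) = 1 := map_one (liftHom (p := p) (ι := ι))

theorem scl_mul (d e : B → (ZMod p)ˣ) : (scl (d * e) : Perm (Pt p B ι)) = scl d * scl e :=
  perm_ext (fun x b => by simp [mul_assoc]) fun i => by simp

/-- `scl` as a homomorphism. -/
def sclHom : (B → (ZMod p)ˣ) →* Perm (Pt p B ι) := MonoidHom.mk' scl scl_mul

theorem scl_inv (d : B → (ZMod p)ˣ) : (scl d : Perm (Pt p B ι))⁻¹ = scl d⁻¹ :=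
  (map_inv (sclHom (p := p) (ι := ι)) d).symm

theorem lift_tr (σ : Perm B) (f : B → ZMod p) :
    (lift σ : Perm (Pt p B ι)) * tr f = tr (f ∘ σ.symm) * lift σ :=
  perm_ext (fun x b => by simp) fun i => by simp

theorem lift_scl (σ : Perm B) (d : B → (ZMod p)ˣ) :
    (lift σ : Perm (Pt p B ι)) * scl d = scl (d ∘ σ.symm) * lift σ :=
  perm_ext (fun x b => by simp) fun i => by simp

theorem scl_tr (d : B → (ZMod p)ˣ) (f : B → ZMod p) :
    (scl d : Perm (Pt p B ι)) * tr f = tr (fun b => (d b : ZMod p) * f b) * scl d :=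
  perm_ext (fun x b => by simp [mul_add]) fun i => by simp

theorem conj_tr (e : B → ZMod p) (σ : Perm B) (d : B → (ZMod p)ˣ) (f : B → ZMod p) :
    (tr e * lift σ * scl d : Perm (Pt p B ι)) * tr f * (tr e * lift σ * scl d)⁻¹ =
      tr ((fun b => (d b : ZMod p) * f b) ∘ σ.symm) := by
  rw [mul_inv_eq_iff_eq_mul, mul_assoc _ (scl d), scl_tr, ← mul_assoc, mul_assoc (tr e), lift_tr, ← mul_assoc,
    tr_comm]
  simp only [mul_assoc]

/-- The base group of all translations. -/
def base (p : ℕ) (B ι : Type*) : Subgroup (Perm (Pt p B ι)) where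
  carrier := Set.range tr
  one_mem' := ⟨0, tr_zero⟩
  mul_mem' := by rintro _ _ ⟨f, rfl⟩ ⟨g, rfl⟩; exact ⟨f + g, tr_add f g⟩
  inv_mem' := by rintro _ ⟨f, rfl⟩; exact ⟨-f, (tr_inv f).symm⟩

theorem tr_injective : Function.Injective (tr : (B → ZMod p) → Perm (Pt p B ι)) := fun f g h =>
  funext fun b => by
    have := congrArg (fun e : Perm (Pt p B ι) => e (Sum.inl (0, b))) h
    simpa using this

/-- The wreath product of a group of order `p` with `P`. -/
def wr (p : ℕ) (ι : Type*) (P : Subgroup (Perm B)) : Subgroup (Perm (Pt p B ι)) where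
  carrier := {g | ∃ f, ∃ σ ∈ P, g = tr f * lift σ}
  one_mem' := ⟨0, 1, one_mem P, by rw [tr_zero, lift_one, one_mul]⟩
  mul_mem' := by
    rintro _ _ ⟨f, σ, hσ, rfl⟩ ⟨g, τ, hτ, rfl⟩
    refine ⟨f + g ∘ σ.symm, σ * τ, mul_mem hσ hτ, ?_⟩
    rw [tr_add, lift_mul, mul_assoc (tr f), ← mul_assoc (lift σ), lift_tr]
    simp only [mul_assoc]
  inv_mem' := by
    rintro _ ⟨f, σ, hσ, rfl⟩
    refine ⟨(-f) ∘ σ, σ⁻¹, inv_mem hσ, ?_⟩
    rw [mul_inv_rev, tr_inv, lift_inv, lift_tr]
    rfl

theorem tr_mem_wr (P : Subgroup (Perm B)) (f : B → ZMod p) : (tr f : Perm (Pt p B ι)) ∈ wr p ι P :=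
  ⟨f, 1, one_mem P, by rw [lift_one, mul_one]⟩

theorem lift_mem_wr {P : Subgroup (Perm B)} {σ : Perm B} (h : σ ∈ P) :
    (lift σ : Perm (Pt p B ι)) ∈ wr p ι P := ⟨0, σ, h, by rw [tr_zero, one_mul]⟩

section Finite

variable [Fact p.Prime] [Finite B] [Finite ι]

theorem wr_coords {f g : B → ZMod p} {σ τ : Perm B}
    (h : (tr f * lift σ : Perm (Pt p B ι)) = tr g * lift τ) : f = g ∧ σ = τ := by
  have hb : ∀ b, σ b = τ b ∧ f (σ b) = g (τ b) := fun b => by
    have := congrArg (fun e : Perm (Pt p B ι) => e (Sum.inl (0, b))) h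
    simpa [and_comm] using this
  have hστ : σ = τ := Equiv.ext fun b => (hb b).1
  subst hστ
  refine ⟨funext fun b => ?_, rfl⟩
  simpa using (hb (σ.symm b)).2

theorem card_wr (P : Subgroup (Perm B)) :
    Nat.card (wr p ι P) = p ^ Nat.card B * Nat.card P := by
  let e : (B → ZMod p) × P → wr p ι P := fun x => ⟨tr x.1 * lift x.2.1, x.1, x.2, x.2.2, rfl⟩
  have he : Function.Bijective e := by
    refine ⟨fun x y h => ?_, fun ⟨g, f, σ, hσ, hg⟩ => ⟨(f, ⟨σ, hσ⟩), Subtype.ext hg.symm⟩⟩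
    obtain ⟨h1, h2⟩ := wr_coords (congrArg Subtype.val h)
    exact Prod.ext h1 (Subtype.ext h2)
  rw [← Nat.card_congr (Equiv.ofBijective e he), Nat.card_prod, Nat.card_fun, Nat.card_zmod]

theorem factorization_card_perm (X : Type*) [Finite X] :
    (Nat.card (Perm X)).factorization p = padicValNat p (Nat.card X)! := by
  rw [Nat.card_perm, Nat.factorization_def _ Fact.out]

theorem exists_sylow_wr (hι : Nat.card ι < p) (P : Sylow p (Perm B)) :
    ∃ Q : Sylow p (Perm (Pt p B ι)), (Q : Subgroup (Perm (Pt p B ι))) = wr p ι (P : Subgroup (Perm B)) := by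
  refine ⟨Sylow.ofCard _ ?_, Sylow.coe_ofCard ..⟩
  rw [card_wr, P.card_eq_multiplicity, ← pow_add]
  congr 1
  rw [factorization_card_perm B, factorization_card_perm (Pt p B ι), Nat.card_sum, Nat.card_prod, Nat.card_zmod,
    padicValNat_factorial_mul_add _ hι, padicValNat_factorial_mul]
  ring

theorem exists_sylow_sum {α β : Type*} [Finite α] [Finite β] (P : Sylow p (Perm α)) (Q : Sylow p (Perm β))
    (h : padicValNat p (Nat.choose (Nat.card α + Nat.card β) (Nat.card α)) = 0) :
    ∃ R : Sylow p (Perm (α ⊕ β)), (R : Subgroup (Perm (α ⊕ β))) =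
      ((P : Subgroup (Perm α)).prod (Q : Subgroup (Perm β))).map (Perm.sumCongrHom α β) := by
  refine ⟨Sylow.ofCard _ ?_, Sylow.coe_ofCard ..⟩
  rw [Subgroup.card_map_of_injective Perm.sumCongrHom_injective,
    Nat.card_congr ((P : Subgroup (Perm α)).prodEquiv (Q : Subgroup (Perm β))).toEquiv, Nat.card_prod,
    P.card_eq_multiplicity, Q.card_eq_multiplicity, ← pow_add]
  congr 1
  rw [factorization_card_perm α, factorization_card_perm β, factorization_card_perm (α ⊕ β), Nat.card_sum,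
    ← Nat.add_choose_mul_factorial_mul_factorial, padicValNat.mul (mul_ne_zero ?_ (factorial_ne_zero _))
      (factorial_ne_zero _), padicValNat.mul ?_ (factorial_ne_zero _)]
  · rw [← Nat.choose_symm_add, h]; ring
  · exact (Nat.choose_pos (Nat.le_add_left _ _)).ne'
  · exact (Nat.choose_pos (Nat.le_add_left _ _)).ne'

/-- Every Sylow subgroup of a symmetric group is generated by its elements of order dividing `p`. -/
theorem sylow_le_closure_order_p : ∀ (n : ℕ) (X : Type) [Finite X], Nat.card X = n → ∀ Q : Sylow p (Perm X),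
    (Q : Subgroup (Perm X)) ≤ Subgroup.closure {x | x ∈ (Q : Subgroup (Perm X)) ∧ x ^ p = 1} := by
  intro n
  induction n using Nat.strong_induction_on with
  | _ n ih =>
    intro X _ hX Q
    have hp := (Fact.out : p.Prime).two_le
    by_cases hn : n < p
    · have hc : Nat.card (Q : Subgroup (Perm X)) = 1 := by
        rw [Q.card_eq_multiplicity, factorization_card_perm, hX,
          padicValNat.eq_zero_of_not_dvd, pow_zero]
        rw [(Fact.out : p.Prime).dvd_factorial]
        omega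
      rw [Subgroup.card_eq_one.mp hc]
      exact bot_le
    push Not at hn
    set B' := Fin (n / p)
    set J := Fin (n % p)
    obtain ⟨P⟩ : Nonempty (Sylow p (Perm B')) := inferInstance
    obtain ⟨R, hR⟩ := exists_sylow_wr (p := p) (ι := J) (by rw [Nat.card_fin]; exact Nat.mod_lt _ (by omega)) P
    have hPgen := ih _ (Nat.div_lt_self (by omega) (by omega)) B' (Nat.card_fin _) P
    have hRgen : (R : Subgroup (Perm (Pt p B' J))) ≤ Subgroup.closure {x | x ∈ (R : Subgroup _) ∧ x ^ p = 1} := by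
      intro g hg
      rw [hR] at hg
      obtain ⟨f, σ, hσ, rfl⟩ := hg
      refine mul_mem (Subgroup.subset_closure ⟨hR ▸ tr_mem_wr _ f, tr_pow_p f⟩) ?_
      have h1 := Subgroup.mem_map_of_mem (liftHom (p := p) (ι := J)) (hPgen hσ)
      rw [MonoidHom.map_closure] at h1
      refine Subgroup.closure_mono ?_ h1
      rintro _ ⟨τ, ⟨hτ, hτp⟩, rfl⟩
      exact ⟨hR ▸ lift_mem_wr hτ, by rw [← map_pow, hτp, map_one]⟩
    obtain ⟨e⟩ : Nonempty (Pt p B' J ≃ X) := by
      refine ⟨(Finite.equivFinOfCardEq (n := n) ?_).trans (Finite.equivFinOfCardEq hX).symm⟩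
      rw [Nat.card_sum, Nat.card_prod, Nat.card_zmod, Nat.card_fin, Nat.card_fin, Nat.div_add_mod]
    set ε : Perm (Pt p B' J) ≃* Perm X := e.permCongrHom
    have hεs : Function.Surjective ε.toMonoidHom := ε.surjective
    obtain ⟨g, hg⟩ := MulAction.exists_smul_eq (Perm X) (R.mapSurjective (f := ε.toMonoidHom) hεs) Q
    rw [← hg, Sylow.coe_subgroup_smul, Sylow.coe_mapSurjective]
    intro x hx
    obtain ⟨_, ⟨y, hy, rfl⟩, rfl⟩ := hx
    have h1 := Subgroup.mem_map_of_mem ((MulAut.conj g).toMonoidHom.comp ε.toMonoidHom) (hRgen hy)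
    rw [MonoidHom.map_closure] at h1
    refine Subgroup.closure_mono ?_ h1
    rintro _ ⟨τ, ⟨hτ, hτp⟩, rfl⟩
    exact ⟨⟨_, Subgroup.mem_map_of_mem _ hτ, rfl⟩, by rw [← map_pow, hτp, map_one]⟩

theorem eq_base_of_commute [Subsingleton ι] (G₀ : Set (B → ZMod p))
    (hsep : ∀ b b' : B, b' ≠ b → ∃ g ∈ G₀, g b ≠ 0 ∧ g b' = 0) (hmove : ∀ b, ∃ g ∈ G₀, g b ≠ 0)
    {c : Perm (Pt p B ι)} (hc : ∀ g ∈ G₀, c * tr g = tr g * c) : ∃ f, c = tr f := by
  have hcc : ∀ g ∈ G₀, ∀ z, c (tr g z) = tr g (c z) := fun g hg z => Equiv.congr_fun (hc g hg) z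
  have hinl : ∀ x b, ∃ u, c (Sum.inl (x, b)) = Sum.inl (u, b) := by
    intro x b
    rcases h : c (Sum.inl (x, b)) with ⟨u, b'⟩ | i
    · by_cases hb : b' = b
      · exact ⟨u, by rw [hb]⟩
      obtain ⟨g, hg, h1, h2⟩ := hsep b b' hb
      have h3 := hcc g hg (Sum.inl (x, b))
      rw [h, tr_inl, tr_inl, h2, add_zero, ← h] at h3
      exact absurd (by simpa using c.injective h3) h1
    · obtain ⟨g, hg, h1⟩ := hmove b
      have h3 := hcc g hg (Sum.inl (x, b))
      rw [h, tr_inl, tr_inr, ← h] at h3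
      exact absurd (by simpa using c.injective h3) h1
  choose u hu using hinl
  refine ⟨fun b => u 0 b, perm_ext (fun x b => ?_) fun i => ?_⟩
  · obtain ⟨g, hg, h1⟩ := hmove b
    obtain ⟨k, rfl⟩ : ∃ k : ℕ, x = k • g b :=
      ⟨(x / g b).val, by rw [nsmul_eq_mul, ZMod.natCast_zmod_val, div_mul_cancel₀ _ h1]⟩
    rw [tr_inl]
    induction k with
    | zero => rw [zero_smul, hu]; simp
    | succ k ih =>
      have h3 := hcc g hg (Sum.inl (k • g b, b))
      rw [tr_inl, ih, tr_inl] at h3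
      rw [succ_nsmul, h3]
      congr 2
      abel
  · rcases h : c (Sum.inr i) with ⟨y, b⟩ | j
    · obtain ⟨g, hg, h1⟩ := hmove b
      have h3 := hcc g hg (Sum.inr i)
      rw [tr_inr, h, tr_inl] at h3
      exact absurd (by simpa using h3.symm) h1
    · rw [tr_inr, Subsingleton.elim j i]

/-- A permutation carrying the product of all blocks to a fixed point free translation respects the blocks. -/
theorem exists_coords [Subsingleton ι] {g : Perm (Pt p B ι)} {f' : B → ZMod p} (hf' : ∀ b, f' b ≠ 0)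
    (h : g * tr 1 = tr f' * g) : ∃ e σ d, g = tr e * lift σ * scl d := by
  have hcc : ∀ z, g (tr 1 z) = tr f' (g z) := fun z => Equiv.congr_fun h z
  have hinl : ∀ b : B, ∃ u b', g (Sum.inl ((0 : ZMod p), b)) = Sum.inl (u, b') := by
    intro b
    rcases h0 : g (Sum.inl ((0 : ZMod p), b)) with ⟨u, b'⟩ | i
    · exact ⟨u, b', rfl⟩
    · have h1 := hcc (Sum.inl (0, b))
      rw [h0, tr_inl, tr_inr, ← h0] at h1
      have := g.injective h1
      simp at this
  choose u s hs using hinl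
  have hx : ∀ (x : ZMod p) b, g (Sum.inl (x, b)) = Sum.inl (u b + x * f' (s b), s b) := by
    intro x b
    obtain ⟨k, rfl⟩ : ∃ k : ℕ, x = (k : ZMod p) := ⟨x.val, (ZMod.natCast_zmod_val x).symm⟩
    induction k with
    | zero => rw [Nat.cast_zero, hs]; simp
    | succ k ih =>
      have h1 := hcc (Sum.inl ((k : ZMod p), b))
      rw [tr_inl, ih, tr_inl] at h1
      rw [Pi.one_apply] at h1
      rw [Nat.cast_succ, h1]
      congr 2
      ring
  have hinj : Function.Injective s := by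
    intro b b' hbb
    have h1 := hx ((u b' - u b) / f' (s b)) b
    rw [div_mul_cancel₀ _ (hf' _), add_sub_cancel, hbb, ← hs b'] at h1
    have h2 := g.injective h1
    simp at h2
    exact h2.2
  haveI := Fintype.ofFinite B
  set σ : Perm B := Equiv.ofBijective s (Finite.injective_iff_bijective.mp hinj) with hσ
  refine ⟨fun b => u (σ.symm b), σ, fun b => Units.mk0 (f' (s b)) (hf' _), perm_ext (fun x b => ?_) fun i => ?_⟩
  · rw [hx, Perm.mul_apply, Perm.mul_apply, scl_inl, lift_inl, tr_inl, Equiv.symm_apply_apply, Units.val_mk0]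
    show Sum.inl (u b + x * f' (s b), s b) = Sum.inl (f' (s b) * x + u b, s b)
    rw [add_comm, mul_comm]
  · simp only [Perm.mul_apply, scl_inr, lift_inr, tr_inr]
    rcases h0 : g (Sum.inr i) with ⟨y, b⟩ | j
    · exfalso
      have h1 := hcc (Sum.inr i)
      rw [tr_inr, h0, tr_inl] at h1
      simp at h1
      exact hf' b h1
    · rw [Subsingleton.elim j i]

theorem sign_lift [Fintype B] [DecidableEq B] [Fintype ι] [DecidableEq ι] (σ : Perm B) :
    Perm.sign (lift σ : Perm (Pt p B ι)) = Perm.sign σ ^ p := by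
  rw [lift]
  erw [Perm.sign_sumCongr]
  rw [Perm.sign_prodCongrRight, Finset.prod_const, Finset.card_univ, ZMod.card, Perm.sign_refl, mul_one]

end Finite

end Cfsg.Lib.FusionSys.AltWreath
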