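import Cfsg.Agent.Lib.FusionSys.IndexPrime

/-!
The subsystem generated by a group of automorphisms of `S` and an invariant subsystem.
-/

set_option autoImplicit false

namespace Cfsg.Lib.FusionSys

open Cfsg Cfsg.FusionSystem

variable {Ω : Type*} [Group Ω] {S : Subgroup Ω} {F E : FusionSystem S}

/-- The maps that are an element of `A` after a map of the invariant subsystem. -/
def autTimesIn (F E : FusionSystem S) (A : Subgroup (MulAut S)) (hA : A ≤ F.autGroup S) : FusionSystem S where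
  Hom P := {φ | ∃ α ∈ A, ∃ φ₀ ∈ (twistCore F E).Hom P,
    ∀ (x : P) (hx : φ₀ x ∈ S), φ x = ((α ⟨φ₀ x, hx⟩ : S) : Ω)}
  le_of_mem := by
    rintro P φ ⟨α, -, φ₀, hφ₀, he⟩
    exact ⟨hom_le hφ₀, fun x => by rw [he x (hom_mem hφ₀ x)]; exact (α _).2⟩
  injective_of_mem := by
    rintro P φ ⟨α, -, φ₀, hφ₀, he⟩ a b hab
    rw [he a (hom_mem hφ₀ a), he b (hom_mem hφ₀ b)] at hab
    exact (twistCore F E).injective_of_mem hφ₀ (congrArg Subtype.val (α.injective (Subtype.ext hab)))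
  conj_mem := fun hP hg =>
    ⟨1, A.one_mem, _, (twistCore F E).conj_mem hP hg, fun _ _ => rfl⟩
  comp_mem := by
    rintro P Q φ ψ ⟨α, hα, φ₀, hφ₀, he⟩ ⟨β, hβ, ψ₀, hψ₀, he'⟩ h
    obtain ⟨χ, hχ, hχe⟩ := twistCore_invariant ((F.autGroup S).inv_mem (hA hα)) hψ₀
    have hback : ∀ x : P, ((α⁻¹ ⟨φ x, hom_le hψ₀ (h x)⟩ : S) : Ω) = φ₀ x := fun x => by
      rw [show (⟨φ x, hom_le hψ₀ (h x)⟩ : S) = α ⟨φ₀ x, hom_mem hφ₀ x⟩ from Subtype.ext (he x _),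
        MulAut.inv_apply_self]
    have hm : ∀ x, φ₀ x ∈ autImage α⁻¹ Q := fun x => hback x ▸ mem_autImage_of_mem _ (h x)
    refine ⟨β * α, A.mul_mem hβ hα, _, (twistCore F E).comp_mem hφ₀ hχ hm,
      fun x hx => ?_⟩
    show ψ ⟨φ x, h x⟩ = _
    rw [he' _ (hom_mem hψ₀ _)]
    show _ = ((β (α ⟨χ ⟨φ₀ x, hm x⟩, hx⟩) : S) : Ω)
    refine congrArg (fun s => ((β s : S) : Ω)) ?_
    rw [show (⟨χ ⟨φ₀ x, hm x⟩, hx⟩ : S) = α⁻¹ ⟨ψ₀ ⟨φ x, h x⟩, hom_mem hψ₀ _⟩ from Subtype.ext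
      ((congrArg χ (Subtype.ext (hback x).symm)).trans
        (hχe ⟨φ x, h x⟩ (mem_autImage_of_mem _ (h x)))), MulAut.apply_inv_self]
  inv_mem := by
    rintro P φ ⟨α, hα, φ₀, hφ₀, he⟩
    obtain ⟨ψ₀, hψ₀, -, hψ₀e⟩ := exists_inv hφ₀ rfl
    obtain ⟨χ, hχ, hχe⟩ := twistCore_invariant (hA hα) hψ₀
    have hle : φ.range ≤ autImage α φ₀.range := by
      rintro _ ⟨x, rfl⟩
      rw [he x (hom_mem hφ₀ x)]
      exact mem_autImage_of_mem _ ⟨x, rfl⟩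
    have hr := restrict_mem hχ hle
    refine ⟨(S.subtype.comp (α⁻¹ : MulAut S).toMonoidHom).comp
        ((χ.comp (Subgroup.inclusion hle)).codRestrict S (hom_mem hr)),
      ⟨α⁻¹, A.inv_mem hα, _, hr, fun _ _ => rfl⟩, fun x => ?_⟩
    show ((α⁻¹ ⟨χ ⟨φ x, hle ⟨x, rfl⟩⟩, _⟩ : S) : Ω) = _
    rw [show (⟨χ ⟨φ x, hle ⟨x, rfl⟩⟩, hom_mem hr ⟨φ x, ⟨x, rfl⟩⟩⟩ : S) = α ⟨x, hom_le hφ₀ x.2⟩ from
      Subtype.ext ((congrArg χ (Subtype.ext (he x (hom_mem hφ₀ x)))).trans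
        ((hχe ⟨φ₀ x, ⟨x, rfl⟩⟩ (mem_autImage_of_mem _ ⟨x, rfl⟩)).trans
          (congrArg (fun s => ((α s : S) : Ω)) (Subtype.ext (hψ₀e x ⟨x, rfl⟩))))),
      MulAut.inv_apply_self]

theorem twistCore_le_autTimesIn {A : Subgroup (MulAut S)} {hA : A ≤ F.autGroup S} :
    twistCore F E ≤ autTimesIn F E A hA := fun _ φ hφ =>
  ⟨1, A.one_mem, φ, hφ, fun _ _ => rfl⟩

end Cfsg.Lib.FusionSys
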