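import Cfsg.Agent.Lib.FusionSys.SatFamilyCore

/-!
The saturation criterion on a conjugation-closed family.
-/

set_option autoImplicit false

namespace Cfsg.Lib.FusionSys

open Cfsg Cfsg.FusionSystem

variable {Ω : Type*} [Group Ω] {S : Subgroup Ω} {F : FusionSystem S}
variable {p : ℕ} {A B P Pm R : Subgroup Ω}

theorem lt_coreNorm [Finite S] [Fact p.Prime] (hS : IsPGroup p S)
    (hclass : ∀ A, F.IsConj Pm A → ToP F Pm A) (hPm : Pm ≤ S)
    (h : ¬ F.IsCentric Pm ∨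
      ∃ Q, F.IsConj Pm Q ∧ ¬ (autInducedBy S Q ⊓ coreAut F p Q ≤ Inn Q)) :
    Pm < coreNorm F p Pm := by
  obtain ⟨Q, hQ, g, hg, hgQ⟩ :
      ∃ Q, F.IsConj Pm Q ∧ ∃ g, g ∈ coreNorm F p Q ∧ g ∉ Q := by
    rcases h with h | ⟨Q, hQ, h⟩
    · by_contra hh
      refine h ⟨hPm, fun Q hQ g hg => ?_⟩
      by_contra hgQ
      refine hh ⟨Q, hQ, g, mem_coreNorm.2 ⟨centralizerIn_le_normalizerIn Q hg, ?_⟩, hgQ⟩
      rw [show conjAut Q (centralizerIn_le_normalizerIn Q hg).2 = 1 from MulEquiv.ext fun x =>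
        Subtype.ext (conj_eq_of_commute ((mem_centralizerIn.1 hg).2 x x.2))]
      exact Subgroup.one_mem _
    · obtain ⟨a, ⟨ha, hak⟩, hai⟩ := SetLike.not_le_iff_exists.1 h
      obtain ⟨g, hgS, hga⟩ := mem_autInducedBy.1 ha
      refine ⟨Q, hQ, g, mem_nK.2 ⟨hgS, a, hak, hga⟩, fun hgQ => hai ⟨⟨g, hgQ⟩, ?_⟩⟩
      exact MulEquiv.ext fun x => Subtype.ext (hga x).symm
  obtain ⟨e, he⟩ := hclass Q hQ
  have hQS : Q ≤ S := (isConj_le hQ).2
  have h1 := (he.mono (le_coreNorm hS hQS) (coreNorm_le (p := p)) le_rfl).into_coreNorm le_rfl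
  refine lt_of_le_of_ne (le_coreNorm hS hPm) fun heq => hgQ ?_
  have hLS : coreNorm F p Pm ≤ S := coreNorm_le.trans (normalizerIn_le Pm)
  have hc := h1.card_le hLS
  rw [← heq, ← Nat.card_congr e.toEquiv] at hc
  have h2 := eq_of_le_of_card_le (coreNorm_le.trans (normalizerIn_le Q)) (le_coreNorm hS hQS) hc
  exact h2.symm ▸ hg

/-- Move a member with largest normalizer so that the associated subgroup is fully automized and receptive. -/
theorem exists_good_coreNorm [Finite S] [Fact p.Prime] (hS : IsPGroup p S)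
    (hgood : GoodAbove F p Pm) (hPm : Pm ≤ S) (hlt : Pm < coreNorm F p Pm) :
    ∃ Ps, F.IsConj Pm Ps ∧ Nat.card (normalizerIn S Pm) ≤ Nat.card (normalizerIn S Ps) ∧
      ((∀ A, F.IsConj Pm A → Nat.card (normalizerIn S A) ≤ Nat.card (normalizerIn S Pm)) →
        F.IsFullyAutomized p (coreNorm F p Ps) ∧ F.IsReceptive (coreNorm F p Ps) ∧
          SylowStab F p (coreNorm F p Ps) Ps) := by
  have hNS : normalizerIn S Pm ≤ S := normalizerIn_le Pm
  have hLS : coreNorm F p Pm ≤ S := coreNorm_le.trans hNS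
  have hcard : Nat.card Pm < Nat.card (coreNorm F p Pm) := by
    haveI := finite_of_le hLS
    by_contra hh
    exact hlt.ne (Subgroup.eq_of_le_of_card_ge hlt.le (not_lt.1 hh))
  obtain ⟨L₀, hL₀, hfa, hrec⟩ := hgood _ hLS hcard
  obtain ⟨Ps, e, g, hPsL, hst, he, hg, hgc⟩ := exists_good_move (A := Pm) hS hfa hrec hL₀ hlt.le
    coreNorm_le (le_inf hNS (normalizerIn_le_normalizer_coreNorm hPm)) inf_le_right
  have hle := (he.mono he.1 le_rfl inf_le_right).card_le (normalizerIn_le Ps)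
  have hPs : F.IsConj Pm Ps := isConj_iff.2 ⟨e, he.isoIn⟩
  refine ⟨Ps, hPs, hle, fun hmax => ?_⟩
  suffices h : coreNorm F p Ps = L₀ by
    rw [h]
    exact ⟨hfa, hrec, hst⟩
  have hPsS : Ps ≤ S := (isConj_le hPs).2
  have hLs : coreNorm F p Ps ≤ S := coreNorm_le.trans (normalizerIn_le Ps)
  have h1 : L₀ ≤ coreNorm F p Ps := by
    intro y hy
    have hx : ((g.symm ⟨y, hy⟩ : coreNorm F p Pm) : Ω) ∈ coreNorm F p Pm := (g.symm ⟨y, hy⟩).2
    obtain ⟨hxN, hxk⟩ := mem_coreNorm.1 hx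
    have hy2 : y ∈ Subgroup.normalizer (Ps : Set Ω) :=
      normalizes_of_compat g e hlt.le hPsL hgc (coreNorm_le.trans inf_le_right) hy
    refine mem_coreNorm.2 ⟨⟨hrec.1 hy, hy2⟩, ?_⟩
    have e1 : conjAut Ps hy2 = MulAut.congr e (conjAut Pm hxN.2) := by
      refine MulEquiv.ext fun b => Subtype.ext ?_
      obtain ⟨a, rfl⟩ := e.surjective b
      have h1 : ((g (g.symm ⟨y, hy⟩ * ⟨a, hlt.le a.2⟩ * (g.symm ⟨y, hy⟩)⁻¹) : L₀) : Ω) =
          (e (conjAut Pm hxN.2 a) : Ω) := by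
        rw [hgc]
        exact congrArg (fun z : coreNorm F p Pm => (g z : Ω)) (Subtype.ext rfl)
      rw [map_mul, map_mul, map_inv, MulEquiv.apply_symm_apply] at h1
      simp only [Subgroup.coe_mul, Subgroup.coe_inv, ← hgc] at h1
      simpa [MulAut.congr] using h1
    rw [e1]
    exact congr_mem_coreAut he.isoIn hxk
  have h2 : Nat.card (coreNorm F p Ps) ≤ Nat.card L₀ := by
    rw [← Nat.card_congr g.toEquiv]
    have h3 := (he.mono he.1 le_rfl inf_le_right).symm_of_card (normalizerIn_le Ps) (hmax Ps hPs)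
    exact ((h3.mono (le_coreNorm hS hPsS) coreNorm_le le_rfl).into_coreNorm le_rfl).card_le hLS
  exact (eq_of_le_of_card_le hLs h1 h2).symm

theorem good_of_coreNorm [Finite S] [Fact p.Prime] (hS : IsPGroup p S)
    (hclass : ∀ A, F.IsConj Pm A → ToP F Pm A) (hPm : Pm ≤ S)
    (hext : ∀ α ∈ F.autGroup Pm,
      ExtIso F (coreNorm F p Pm) (coreNorm F p Pm) (α : Pm ≃* Pm))
    (hrec : F.IsReceptive (coreNorm F p Pm)) (hst : SylowStab F p (coreNorm F p Pm) Pm) :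
    F.IsFullyAutomized p Pm ∧ F.IsReceptive Pm := by
  set L := coreNorm F p Pm with hLdef
  have hPL : Pm ≤ L := le_coreNorm hS hPm
  have hLS : L ≤ S := hrec.1
  haveI := finite_of_le hLS
  haveI := finite_mulAut_of_le hLS
  haveI := finite_mulAut_of_le hPm
  set K := stabAut F L Pm with hKdef
  set ρ := restrAut (F := F) hPL with hρdef
  obtain ⟨W, hW⟩ := hst
  have hsurj : ∀ α ∈ F.autGroup Pm, ∃ k : K, ρ k = α := by
    intro α hα
    obtain ⟨hA, ψ, hψ, hv, hψe⟩ := hext α hα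
    let β : MulAut L := homIso hψ (range_eq_of_card_le hψ hLS hv le_rfl)
    have hβ : β ∈ F.autGroup L := (mem_autGroup hLS).2 (isoIn_homIso hψ _)
    have hc : ∀ a : Pm, ((α a : Pm) : Ω) = (β ⟨a, hPL a.2⟩ : Ω) := fun a => (hψe a a.2 (hPL a.2)).symm
    exact ⟨⟨β, hβ, mem_iff_of_compat β α hPL hc⟩, MulEquiv.ext fun a => Subtype.ext (hc a).symm⟩
  have hWim : (W : Subgroup K).map ρ = autInducedBy S Pm := by
    refine le_antisymm ?_ fun α hα => ?_
    · rintro _ ⟨k, hk, rfl⟩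
      rw [SetLike.mem_coe, hW, Subgroup.mem_subgroupOf] at hk
      obtain ⟨g, hg, hgk⟩ := mem_autInducedBy.1 hk
      exact mem_autInducedBy.2 ⟨g, hg, fun a => hgk ⟨a, hPL a.2⟩⟩
    · obtain ⟨g, hg, hga⟩ := mem_autInducedBy.1 hα
      have hgN : g ∈ normalizerIn S Pm := ⟨hg, mem_normalizer_of_aut hga⟩
      have hgL := normalizerIn_le_normalizer_coreNorm (F := F) (p := p) hPm hgN
      refine ⟨⟨conjAut L hgL, conjAut_mem_stabAut hLS hg hgL hgN.2⟩, ?_, ?_⟩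
      · rw [SetLike.mem_coe, hW, Subgroup.mem_subgroupOf]
        exact conjAut_mem_autInducedBy hgL hg
      · exact MulEquiv.ext fun a => Subtype.ext (hga a).symm
  constructor
  · let f : K →* F.autGroup Pm := ρ.codRestrict _ fun k => restrAut_mem hPL hLS k
    have hf : Function.Surjective f := fun ⟨α, hα⟩ => by
      obtain ⟨k, hk⟩ := hsurj α hα
      exact ⟨k, Subtype.ext hk⟩
    refine ⟨hPm, W.mapSurjective (f := f) hf, ?_⟩
    show (W : Subgroup K).map f = _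
    rw [← hWim]
    ext x
    rw [Subgroup.mem_subgroupOf]
    exact ⟨fun ⟨k, hk, he⟩ => ⟨k, hk, congrArg Subtype.val he⟩,
      fun ⟨k, hk, he⟩ => ⟨k, hk, Subtype.ext he⟩⟩
  · refine ⟨hPm, fun A φ hφ hr => ?_⟩
    let e := homIso hφ hr
    have he : IsoIn F e := isoIn_homIso hφ hr
    have hAS : A ≤ S := hom_le hφ
    obtain ⟨χ, hχ⟩ := hclass A (isConj_symm (isConj_iff.2 ⟨e, he⟩))
    let α : MulAut Pm := χ.symm.trans e
    have hα : α ∈ F.autGroup Pm := (mem_autGroup hPm).2 (hχ.isoIn.symm.trans he)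
    obtain ⟨k₀, hk₀⟩ := hsurj α hα
    let T₃ := extender S Pm (Pm.subtype.comp α.toMonoidHom)
    have hT₃N : T₃ ≤ normalizerIn S Pm := extender_le _
    have hT₃L : T₃ ≤ Subgroup.normalizer (L : Set Ω) :=
      hT₃N.trans (normalizerIn_le_normalizer_coreNorm hPm)
    have hcomp : ∀ a : Pm, (((k₀ : MulAut L) ⟨a, hPL a.2⟩ : L) : Ω) = (α a : Ω) := fun a => by
      rw [← hk₀]
      rfl
    have hLT₃ : L ≤ T₃ := by
      intro l hl
      refine mem_extender_of (hLS hl) (coreNorm_le hl).2 (hLS ((k₀ : MulAut L) ⟨l, hl⟩).2)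
        fun x hx => ?_
      have e1 : (⟨((⟨l * x * l⁻¹, hx⟩ : Pm) : Ω), hPL hx⟩ : L) =
          ⟨l, hl⟩ * ⟨x, hPL x.2⟩ * ⟨l, hl⟩⁻¹ := Subtype.ext rfl
      show ((α ⟨l * x * l⁻¹, hx⟩ : Pm) : Ω) = _ * ((α x : Pm) : Ω) * _
      rw [← hcomp, ← hcomp, e1, map_mul, map_mul, map_inv]
      rfl
    let c₀ : T₃ →* K :=
      { toFun := fun u => ⟨conjAut L (hT₃L u.2),
          conjAut_mem_stabAut hLS (hT₃N u.2).1 (hT₃L u.2) (hT₃N u.2).2⟩
        map_one' := Subtype.ext (MulEquiv.ext fun x => Subtype.ext (by simp))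
        map_mul' := fun a b => Subtype.ext (conjAut_mul (hT₃L a.2) (hT₃L b.2)) }
    let τ : T₃ →* K := (MulAut.conj k₀).toMonoidHom.comp c₀
    have hρτ : ∀ u : T₃, ρ (τ u) ∈ (W : Subgroup K).map ρ := by
      intro u
      obtain ⟨hu1, hu2, h, hhS, hh⟩ := mem_extender.1 u.2
      rw [hWim]
      refine mem_autInducedBy.2 ⟨h, hhS, fun a => ?_⟩
      obtain ⟨b, rfl⟩ := (α : Pm ≃* Pm).surjective a
      have hb : (u : Ω) * b * (u : Ω)⁻¹ ∈ Pm := (Subgroup.mem_normalizer_iff.1 hu2 b).1 b.2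
      show (((k₀ : MulAut L) ((conjAut L (hT₃L u.2)) ((k₀ : MulAut L)⁻¹ ⟨α b, _⟩)) : L) : Ω) = _
      rw [show (k₀ : MulAut L)⁻¹ ⟨α b, hPL (α b).2⟩ = ⟨b, hPL b.2⟩ by
        rw [show (⟨(α b : Ω), hPL (α b).2⟩ : L) = (k₀ : MulAut L) ⟨b, hPL b.2⟩ from
          Subtype.ext (hcomp b).symm, MulAut.inv_apply_self]]
      refine (congrArg (fun z : L => (((k₀ : MulAut L) z : L) : Ω)) (Subtype.ext ?_)).trans
        ((hcomp ⟨_, hb⟩).trans (hh b hb))
      rfl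
    let X : Subgroup K := (⊤ : Subgroup T₃).map τ
    have hX : IsPGroup p X :=
      (((hS.to_le (hT₃N.trans (normalizerIn_le Pm)))).to_subgroup _).map τ
    obtain ⟨c, hcker, hcX⟩ := exists_ker_conj ρ W X hX (by
      rintro _ ⟨_, ⟨u, -, rfl⟩, rfl⟩
      exact hρτ u)
    have hδext : ExtIso F T₃ (normalizerIn S L) ((c * k₀ : K) : MulAut L) := by
      refine exists_extIso_of_receptive hrec ((mem_autGroup hLS).1 (c * k₀).2.1) hLT₃
        (le_inf (hT₃N.trans (normalizerIn_le Pm)) hT₃L) fun u hu => ?_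
      have h1 := hcX (τ ⟨u, hu⟩) ⟨⟨u, hu⟩, Subgroup.mem_top _, rfl⟩
      rw [hW, Subgroup.mem_subgroupOf] at h1
      convert h1 using 1
      exact MulEquiv.ext fun x => rfl
    have hα₃ : ExtIso F T₃ (normalizerIn S L) (α : Pm ≃* Pm) := hδext.restrict hPL fun a => by
      show (α a : Ω) = _
      have h1 : ρ (c * k₀) = α := by rw [map_mul, MonoidHom.mem_ker.1 hcker, one_mul, hk₀]
      rw [← h1]
      rfl
    obtain ⟨hAN, ψ, hψ, hv, hψe⟩ := hχ
    have hle : extender S A φ ≤ normalizerIn S A := extender_le φ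
    have hmem : ∀ t (ht : t ∈ extender S A φ), ψ ⟨t, hle ht⟩ ∈ T₃ := by
      intro t ht
      obtain ⟨htS, htN, h, hhS, hh⟩ := mem_extender.1 ht
      refine mem_extender_of (hom_mem hψ _) (hv _).2 hhS fun x hx => ?_
      obtain ⟨a, rfl⟩ := χ.surjective x
      have hta : t * (a : Ω) * t⁻¹ ∈ A := (Subgroup.mem_normalizer_iff.1 htN a).1 a.2
      have e2 : (⟨_, hx⟩ : Pm) = χ ⟨_, hta⟩ := Subtype.ext (by
        have := hψe (t * a * t⁻¹) hta ((normalizerIn S A).mul_mem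
          ((normalizerIn S A).mul_mem (hle ht) (hAN a.2)) ((normalizerIn S A).inv_mem (hle ht)))
        show ψ ⟨t, hle ht⟩ * (χ a : Ω) * (ψ ⟨t, hle ht⟩)⁻¹ = (χ ⟨_, hta⟩ : Ω)
        calc ψ ⟨t, hle ht⟩ * (χ a : Ω) * (ψ ⟨t, hle ht⟩)⁻¹
            = ψ (⟨t, hle ht⟩ * ⟨(a : Ω), hAN a.2⟩ * ⟨t, hle ht⟩⁻¹) := by
              rw [map_mul, map_mul, map_inv, hψe a a.2 (hAN a.2)]
          _ = _ := this)
      show ((α ⟨_, hx⟩ : Pm) : Ω) = h * ((α (χ a) : Pm) : Ω) * h⁻¹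
      rw [e2]
      simp only [α, MulEquiv.trans_apply, MulEquiv.symm_apply_apply]
      exact hh a hta
    have hA₃ : ExtIso F (extender S A φ) T₃ χ :=
      ⟨le_extender hAS (hom_mem hφ), ψ.comp (Subgroup.inclusion hle), restrict_mem hψ hle,
        fun t => hmem t t.2, fun x hx hT => hψe x hx (hle hT)⟩
    obtain ⟨-, ψ', hψ', -, hψ'e⟩ := (hA₃.trans hα₃).congr (e' := e) fun x => by simp [α]
    exact ⟨ψ', hψ', fun x hx hT => hψ'e x hx hT⟩

theorem goodClass_of_family [Finite S] [Fact p.Prime] (hS : IsPGroup p S)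
    (ℋ : Set (Subgroup Ω)) (hℋconj : ∀ P ∈ ℋ, ∀ Q, F.IsConj P Q → Q ∈ ℋ)
    (hsat : ∀ P ∈ ℋ, ∃ Q, F.IsConj P Q ∧ F.IsFullyAutomized p Q ∧ F.IsReceptive Q)
    (hgen : ∀ E : FusionSystem S, (∀ P ∈ ℋ, F.Hom P ⊆ E.Hom P) → F ≤ E)
    (hstar : ∀ P : Subgroup Ω, F.IsCentric P → P ∉ ℋ →
      ∃ Q, F.IsConj P Q ∧ ¬ (autInducedBy S Q ⊓ coreAut F p Q ≤ Inn Q))
    (hP : P ≤ S) (hgood : GoodAbove F p P) : GoodClass F p P := by
  by_cases hℋ : P ∈ ℋ
  · exact hsat P hℋ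
  have hPS : Nat.card P < Nat.card S := by
    refine lt_of_le_of_ne (card_le_of_le hP) fun h => ?_
    obtain rfl := eq_of_le_of_card_le le_rfl hP h.ge
    obtain ⟨Q, hQ, hnot⟩ := hstar P ⟨le_rfl, fun Q hQ => by
      rw [eq_top_of_isConj hQ]
      exact centralizerIn_le P⟩ hℋ
    obtain rfl := eq_top_of_isConj hQ
    refine hnot fun a ha => ?_
    obtain ⟨g, hg, hga⟩ := mem_autInducedBy.1 ha.1
    exact ⟨⟨g, hg⟩, MulEquiv.ext fun x => Subtype.ext (hga x).symm⟩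
  obtain ⟨P₁, hP₁, hmax₁⟩ := exists_max_conj (F := F) hP (fun Q => Nat.card (normalizerIn S Q))
    (fun Q _ => card_le_of_le (normalizerIn_le Q))
  -- facts shared by the class members with largest normalizer
  have facts : ∀ Pm, F.IsConj P Pm →
      (∀ A, F.IsConj P A → Nat.card (normalizerIn S A) ≤ Nat.card (normalizerIn S Pm)) →
      GoodAbove F p Pm ∧
        (∀ (A B : Subgroup Ω) (e : A ≃* B), IsoIn F e → F.IsConj Pm A → BigIso F e) ∧
        (∀ A, F.IsConj Pm A → Nat.card (normalizerIn S A) ≤ Nat.card (normalizerIn S Pm)) ∧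
        (∀ A, F.IsConj Pm A → ToP F Pm A) := by
    intro Pm hPm hmax
    have hg : GoodAbove F p Pm := fun R hR hc => hgood R hR (by rwa [card_eq_of_isConj hPm])
    have hb : ∀ (A B : Subgroup Ω) (e : A ≃* B), IsoIn F e → F.IsConj Pm A → BigIso F e :=
      fun A B e he hA => bigIso_of_generated ℋ hℋconj hgen hℋ hPS e he (isConj_trans hPm hA)
    have hm : ∀ A, F.IsConj Pm A → Nat.card (normalizerIn S A) ≤ Nat.card (normalizerIn S Pm) :=
      fun A hA => hmax A (isConj_trans hPm hA)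
    exact ⟨hg, hb, hm, fun A hA => toP_of_isConj hS hg hb hm hA⟩
  obtain ⟨hg₁, hb₁, hm₁, hc₁⟩ := facts P₁ hP₁ hmax₁
  have hP₁S : P₁ ≤ S := (isConj_le hP₁).2
  have hlt : P₁ < coreNorm F p P₁ := by
    refine lt_coreNorm hS hc₁ hP₁S ?_
    by_cases hcen : F.IsCentric P₁
    · obtain ⟨Q, hQ, hn⟩ := hstar P₁ hcen fun h => hℋ (hℋconj P₁ h P (isConj_symm hP₁))
      exact Or.inr ⟨Q, hQ, hn⟩
    · exact Or.inl hcen
  obtain ⟨Pm, hconj, hle, hL⟩ := exists_good_coreNorm hS hg₁ hP₁S hlt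
  obtain ⟨-, hrec, hst⟩ := hL hm₁
  have hPm : F.IsConj P Pm := isConj_trans hP₁ hconj
  obtain ⟨hg, hb, -, hc⟩ := facts Pm hPm fun A hA => (hmax₁ A hA).trans hle
  have hPmS : Pm ≤ S := (isConj_le hPm).2
  obtain ⟨hfa, hr⟩ := good_of_coreNorm hS hc hPmS
    (fun α hα => extIso_coreNorm_of_mem hS hg hc hb hPmS hα) hrec hst
  exact ⟨Pm, hPm, hfa, hr⟩

theorem isSaturated_of_family [Finite S] [Fact p.Prime] (hS : IsPGroup p S)
    (ℋ : Set (Subgroup Ω)) (hℋconj : ∀ P ∈ ℋ, ∀ Q, F.IsConj P Q → Q ∈ ℋ)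
    (hsat : ∀ P ∈ ℋ, ∃ Q, F.IsConj P Q ∧ F.IsFullyAutomized p Q ∧ F.IsReceptive Q)
    (hgen : ∀ E : FusionSystem S, (∀ P ∈ ℋ, F.Hom P ⊆ E.Hom P) → F ≤ E)
    (hstar : ∀ P : Subgroup Ω, F.IsCentric P → P ∉ ℋ →
      ∃ Q, F.IsConj P Q ∧ ¬ (autInducedBy S Q ⊓ coreAut F p Q ≤ Inn Q)) :
    F.IsSaturated p := by
  suffices h : ∀ (n : ℕ) (P : Subgroup Ω), P ≤ S → Nat.card S - Nat.card P ≤ n → GoodClass F p P from
    fun P hP => h _ P hP le_rfl
  intro n
  induction n using Nat.strong_induction_on with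
  | _ n ih =>
    intro P hP hn
    refine goodClass_of_family hS ℋ hℋconj hsat hgen hstar hP fun R hR hc => ?_
    have := card_le_of_le hR
    exact ih (Nat.card S - Nat.card R) (by omega) R hR le_rfl

end Cfsg.Lib.FusionSys
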