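import Cfsg.Prelude.Def_CaseTheorems
import Cfsg.Agent.Lib.PGroup.Basic
import Cfsg.Agent.Lib.PGroup.Regular
import Mathlib.Data.ZMod.Basic
import Mathlib.Tactic.Group

/-!
# Commutator and counting tools for `p`-groups of sectional rank three
-/

set_option linter.style.haveILetI false
set_option autoImplicit false

namespace Cfsg.Lib.FusionSys.RankThree

open Subgroup
open scoped commutatorElement


section Commutators

variable {Q : Type*} [Group Q]

theorem comm_mul_left_central {a b c : Q} (h : ⁅b, c⁆ ∈ center Q) : ⁅a * b, c⁆ = ⁅a, c⁆ * ⁅b, c⁆ := by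
  rw [commutatorElement_mul_left_eq_conj_mul, mem_center_iff.mp h a, mul_inv_cancel_right,
    mem_center_iff.mp h ⁅a, c⁆]

theorem comm_mul_right_central {a b c : Q} (h : ⁅a, c⁆ ∈ center Q) : ⁅a, b * c⁆ = ⁅a, b⁆ * ⁅a, c⁆ := by
  rw [← commutatorElement_inv, comm_mul_left_central (by rw [← commutatorElement_inv]; exact inv_mem h),
    mul_inv_rev, commutatorElement_inv, commutatorElement_inv, mem_center_iff.mp h ⁅a, b⁆]

theorem comm_mul_central_left {a z c : Q} (h : z ∈ center Q) : ⁅a * z, c⁆ = ⁅a, c⁆ := by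
  have h1 : ⁅z, c⁆ = 1 := commutatorElement_eq_one_iff_mul_comm.mpr (mem_center_iff.mp h c).symm
  rw [comm_mul_left_central (by rw [h1]; exact one_mem _), h1, mul_one]

theorem comm_mul_central_right {a z c : Q} (h : z ∈ center Q) : ⁅a, c * z⁆ = ⁅a, c⁆ := by
  have h1 : ⁅a, z⁆ = 1 := commutatorElement_eq_one_iff_mul_comm.mpr (mem_center_iff.mp h a)
  rw [comm_mul_right_central (by rw [h1]; exact one_mem _), h1, mul_one]

theorem comm_pow_left {a c : Q} (h : Commute a ⁅a, c⁆) : ∀ n : ℕ, ⁅a ^ n, c⁆ = ⁅a, c⁆ ^ n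
  | 0 => by simp
  | n + 1 => by
    rw [pow_succ', commutatorElement_mul_left_eq_conj_mul, comm_pow_left h n, (h.pow_right n).eq,
      mul_inv_cancel_right, pow_succ]

theorem comm_pow_right {a c : Q} (h : Commute c ⁅a, c⁆) (n : ℕ) : ⁅a, c ^ n⁆ = ⁅a, c⁆ ^ n := by
  have h' : Commute c ⁅c, a⁆ := by rw [← commutatorElement_inv]; exact h.inv_right
  rw [← commutatorElement_inv, comm_pow_left h', ← inv_pow, commutatorElement_inv]

theorem mul_pow_class_two {x y : Q} (hx : Commute x ⁅y, x⁆) (hy : Commute y ⁅y, x⁆) :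
    ∀ n : ℕ, (x * y) ^ n = x ^ n * y ^ n * ⁅y, x⁆ ^ n.choose 2
  | 0 => by simp
  | n + 1 => by
    have hxy : y ^ n * x = x * y ^ n * ⁅y, x⁆ ^ n := by
      have h1 : y ^ n * x = ⁅y, x⁆ ^ n * (x * y ^ n) := by
        rw [← comm_pow_left hy, commutatorElement_def]; group
      rw [h1]
      exact (((hx.mul_left (hy.pow_left n))).pow_right n).eq.symm
    have hz : Commute (⁅y, x⁆ ^ n.choose 2) (x * y) := ((hx.mul_left hy).pow_right _).symm
    calc (x * y) ^ (n + 1) = x ^ n * y ^ n * ⁅y, x⁆ ^ n.choose 2 * (x * y) := by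
          rw [pow_succ, mul_pow_class_two hx hy n]
      _ = x ^ n * (y ^ n * x) * y * ⁅y, x⁆ ^ n.choose 2 := by
          rw [mul_assoc (x ^ n * y ^ n), hz.eq]; simp only [mul_assoc]
      _ = x ^ n * x * y ^ n * (⁅y, x⁆ ^ n * y) * ⁅y, x⁆ ^ n.choose 2 := by
          rw [hxy]; simp only [mul_assoc]
      _ = x ^ (n + 1) * y ^ (n + 1) * ⁅y, x⁆ ^ (n + 1).choose 2 := by
          rw [(hy.symm.pow_left n).eq, Nat.choose_succ_succ', Nat.choose_one_right, pow_add ⁅y, x⁆,
            pow_succ x, pow_succ y]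
          simp only [mul_assoc]

variable {p : ℕ} [hp : Fact p.Prime]

theorem mul_pow_prime {x y : Q} (hp2 : p ≠ 2) (hx : Commute x ⁅y, x⁆) (hy : Commute y ⁅y, x⁆)
    (h : ⁅y, x⁆ ^ p = 1) : (x * y) ^ p = x ^ p * y ^ p := by
  obtain ⟨t, ht⟩ := hp.out.dvd_choose_self two_ne_zero (lt_of_le_of_ne hp.out.two_le (Ne.symm hp2))
  rw [mul_pow_class_two hx hy, ht, pow_mul, h, one_pow, mul_one]

omit hp in
theorem pow_prime_mul_eq_one {x : Q} (h : x ^ p = 1) {n : ℕ} (hn : p ∣ n) : x ^ n = 1 := by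
  obtain ⟨t, rfl⟩ := hn
  rw [pow_mul, h, one_pow]

/-- Multiplicativity of `p`-th powers in class at most three. -/
theorem mul_pow_of_series [Finite Q] (hp5 : 5 ≤ p) (hQ : IsPGroup p Q) (A B : Subgroup Q)
    (hA : commutator Q ≤ A) (hB : ⁅A, (⊤ : Subgroup Q)⁆ ≤ B) (hB1 : B ≤ center Q)
    (hexp : ∀ a ∈ A, a ^ p = 1) (x y : Q) : (x * y) ^ p = x ^ p * y ^ p := by
  have h3 : (⊤ : Subgroup Q).lowerCentralSeries 3 = ⊥ := by
    have h1 : (⊤ : Subgroup Q).lowerCentralSeries 1 ≤ A := by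
      rw [Subgroup.top_lowerCentralSeries_one]; exact hA
    have h2 : (⊤ : Subgroup Q).lowerCentralSeries 2 ≤ B := by
      rw [Subgroup.lowerCentralSeries_succ]; exact (commutator_mono h1 le_rfl).trans hB
    rw [Subgroup.lowerCentralSeries_succ, eq_bot_iff]
    refine (commutator_mono h2 le_rfl).trans (commutator_le.mpr fun b hb q _ => ?_)
    exact mem_bot.mpr (commutatorElement_eq_one_iff_mul_comm.mpr (mem_center_iff.mp (hB1 hb) q).symm)
  have hcl : (⊤ : Subgroup Q).lowerCentralSeries (p - 1) = ⊥ :=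
    eq_bot_iff.mpr ((Subgroup.lowerCentralSeries_antitone _ (by omega)).trans h3.le)
  have := Cfsg.Lib.PGroup.Regular.mul_pow_eq 1 hQ (Cfsg.Lib.PGroup.Regular.powLaw_of_lcs hcl)
    (fun z hz => by rw [pow_one]; exact hexp z (hA hz)) x y
  simpa using this

end Commutators

section Counting

variable {T : Type*} [Group T] [Finite T] {p : ℕ} [hp : Fact p.Prime]

omit [Finite T] hp in
/-- An elementary section has order at most `p ^ 3`. -/
theorem section_bound (hsr : Cfsg.SectionalPRankLE p 3 T) (L N : Subgroup T) [N.Normal] (hN : N ≤ L)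
    (hc : ∀ a ∈ L, ∀ b ∈ L, ⁅a, b⁆ ∈ N) (he : ∀ a ∈ L, a ^ p ∈ N) :
    Nat.card L ≤ p ^ 3 * Nat.card N := by
  have hab : ∀ a b : L ⧸ N.subgroupOf L, a * b = b * a := by
    intro a b
    obtain ⟨a, rfl⟩ := QuotientGroup.mk_surjective a
    obtain ⟨b, rfl⟩ := QuotientGroup.mk_surjective b
    rw [← commutatorElement_eq_one_iff_mul_comm]
    show ⁅QuotientGroup.mk' (N.subgroupOf L) a, QuotientGroup.mk' (N.subgroupOf L) b⁆ = 1
    rw [← map_commutatorElement, ← MonoidHom.mem_ker, QuotientGroup.ker_mk', mem_subgroupOf]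
    exact hc a a.2 b b.2
  have := hsr L (N.subgroupOf L) ⊤ ⟨⟨fun a b => Subtype.ext (hab a.1 b.1)⟩⟩ fun q _ => by
    obtain ⟨a, rfl⟩ := QuotientGroup.mk_surjective q
    rw [← QuotientGroup.mk_pow, QuotientGroup.eq_one_iff, mem_subgroupOf, SubmonoidClass.coe_pow]
    exact he a a.2
  rw [card_top, ← index_eq_card] at this
  rw [← (N.subgroupOf L).index_mul_card, Nat.card_congr (subgroupOfEquivOfLe hN).toEquiv]
  exact Nat.mul_le_mul_right _ this

theorem card_mul_le_of_lt (hT : IsPGroup p T) {N L : Subgroup T} (h : N < L) :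
    p * Nat.card N ≤ Nat.card L := by
  obtain ⟨a, ha⟩ := IsPGroup.iff_card.mp (hT.to_subgroup N)
  obtain ⟨b, hb⟩ := IsPGroup.iff_card.mp (hT.to_subgroup L)
  have hlt : Nat.card N < Nat.card L :=
    lt_of_le_of_ne (card_le_of_le h.le) fun he => h.ne (eq_of_le_of_card_ge h.le he.ge)
  rw [ha, hb] at hlt ⊢
  rw [← pow_succ']
  exact Nat.pow_le_pow_right hp.out.pos ((Nat.pow_lt_pow_iff_right hp.out.one_lt).mp hlt)

theorem card_lt_sup_zpowers (hT : IsPGroup p T) (N : Subgroup T) {v : T} (hv : v ∉ N) :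
    p * Nat.card N ≤ Nat.card ↥(N ⊔ zpowers v) :=
  card_mul_le_of_lt hT (lt_of_le_of_ne le_sup_left fun h =>
    hv (h ▸ mem_sup_right (mem_zpowers v)))

omit [Finite T] hp in
theorem exists_pow_of_mem_sup [Finite T] (N : Subgroup T) [N.Normal] {v w : T}
    (h : w ∈ N ⊔ zpowers v) : ∃ i : ℕ, (v ^ i)⁻¹ * w ∈ N := by
  rw [← SetLike.mem_coe, Subgroup.normal_mul] at h
  obtain ⟨x, hx, y, hy, rfl⟩ := Set.mem_mul.mp h
  obtain ⟨i, rfl⟩ := mem_powers_iff_mem_zpowers.mpr hy
  refine ⟨i, ?_⟩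
  have : (v ^ i)⁻¹ * (x * v ^ i) = (v ^ i)⁻¹ * x * (v ^ i)⁻¹⁻¹ := by group
  rw [this]
  exact Normal.conj_mem inferInstance x hx _

end Counting

section FrattiniIn

variable {T : Type*} [Group T] [Finite T] {p : ℕ} [hp : Fact p.Prime]

/-- The Frattini subgroup of a subgroup, as a subgroup of the ambient group. -/
def frattiniIn (E : Subgroup T) : Subgroup T := (frattini E).map E.subtype

omit [Finite T] in
theorem frattiniIn_le (E : Subgroup T) : frattiniIn E ≤ E := map_subtype_le _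

instance frattiniIn_normal (E : Subgroup T) [E.Normal] : (frattiniIn E).Normal :=
  inferInstanceAs ((frattini E).map E.subtype).Normal

theorem comm_mem_frattiniIn (hT : IsPGroup p T) {E : Subgroup T} {v w : T} (hv : v ∈ E) (hw : w ∈ E) :
    ⁅v, w⁆ ∈ frattiniIn E :=
  ⟨⁅(⟨v, hv⟩ : E), ⟨w, hw⟩⁆, Cfsg.Lib.PGroup.commutator_le_frattini (hT.to_subgroup E)
    (commutator_mem_commutator (mem_top _) (mem_top _)), rfl⟩

theorem pow_mem_frattiniIn (hT : IsPGroup p T) {E : Subgroup T} {v : T} (hv : v ∈ E) :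
    v ^ p ∈ frattiniIn E :=
  ⟨(⟨v, hv⟩ : E) ^ p, Cfsg.Lib.PGroup.pow_mem_frattini (hT.to_subgroup E) _, rfl⟩

omit [Finite T] in
theorem card_frattiniIn_mul (E : Subgroup T) :
    Nat.card E = (frattini E).index * Nat.card (frattiniIn E) := by
  rw [frattiniIn, card_map_of_injective E.subtype_injective, index_mul_card]

theorem frattiniIn_le_of (hT : IsPGroup p T) {E N : Subgroup T}
    (hc : ∀ v ∈ E, ∀ w ∈ E, ⁅v, w⁆ ∈ N) (he : ∀ v ∈ E, v ^ p ∈ N) : frattiniIn E ≤ N := by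
  rw [frattiniIn, map_le_iff_le_comap]
  refine Cfsg.Lib.PGroup.frattini_le_of_commutator_le_of_pow_mem (hp := hp) ?_ fun v => he v v.2
  exact commutator_le.mpr fun v _ w _ => hc v v.2 w w.2

theorem comm_mem_frattini (hT : IsPGroup p T) (v w : T) : ⁅v, w⁆ ∈ frattini T :=
  Cfsg.Lib.PGroup.commutator_le_frattini hT (commutator_mem_commutator (mem_top v) (mem_top w))

theorem frattini_le_of (hT : IsPGroup p T) {N : Subgroup T}
    (hc : ∀ v w : T, ⁅v, w⁆ ∈ N) (he : ∀ v : T, v ^ p ∈ N) : frattini T ≤ N :=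
  Cfsg.Lib.PGroup.frattini_le_of_commutator_le_of_pow_mem
    (commutator_le.mpr fun v _ w _ => hc v w) he

theorem frattiniIn_le_frattini (hT : IsPGroup p T) (E : Subgroup T) : frattiniIn E ≤ frattini T :=
  frattiniIn_le_of hT (fun v _ w _ => comm_mem_frattini hT v w)
    fun v _ => Cfsg.Lib.PGroup.pow_mem_frattini hT v

/-- Conjugation-invariance of a subgroup lying between `frattiniIn E` and `E`. -/
theorem normal_of_between (hT : IsPGroup p T) {E K : Subgroup T} (h1 : frattiniIn E ≤ K) (h2 : K ≤ E)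
    {b : T} (htop : E ⊔ zpowers b = ⊤) (hb : ∀ k ∈ K, b * k * b⁻¹ ∈ K) : K.Normal := by
  rw [← normalizer_eq_top_iff, eq_top_iff, ← htop]
  refine sup_le (fun v hv => ?_) (zpowers_le.mpr ?_)
  · refine mem_normalizer_fintype fun k hk => ?_
    have : v * k * v⁻¹ = ⁅v, k⁆ * k := by rw [commutatorElement_def, inv_mul_cancel_right]
    rw [this]
    exact mul_mem (h1 (comm_mem_frattiniIn hT hv (h2 hk))) hk
  · exact mem_normalizer_fintype hb

omit hp in
theorem sup_zpowers_eq_top_of_index [Fact p.Prime] {E : Subgroup T} (hE : E.index = p) {b : T}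
    (hb : b ∉ E) : E ⊔ zpowers b = ⊤ := by
  rw [← index_eq_one]
  have h1 := relIndex_mul_index (le_sup_left : E ≤ E ⊔ zpowers b)
  rw [hE] at h1
  rcases (Nat.dvd_prime (Fact.out : p.Prime)).mp (Dvd.intro_left _ h1) with h | h
  · exact h
  · exfalso
    rw [h] at h1
    have h2 : E.relIndex (E ⊔ zpowers b) = 1 :=
      Nat.eq_of_mul_eq_mul_right (Fact.out : p.Prime).pos (h1.trans (one_mul p).symm)
    exact hb (relIndex_eq_one.mp h2 (mem_sup_right (mem_zpowers b)))

end FrattiniIn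

section Auto

variable {T : Type*} [Group T]

/-- Automorphisms act on the quotient by a characteristic subgroup. -/
def quotAut (N : Subgroup T) [N.Normal] [hN : N.Characteristic] : MulAut T →* MulAut (T ⧸ N) where
  toFun α := QuotientGroup.congr _ _ α (Subgroup.characteristic_iff_map_eq.mp hN α)
  map_one' := MulEquiv.ext fun q => QuotientGroup.induction_on q fun _ => rfl
  map_mul' _ _ := MulEquiv.ext fun q => QuotientGroup.induction_on q fun _ => rfl

@[simp]
theorem quotAut_mk (N : Subgroup T) [N.Normal] [N.Characteristic] (α : MulAut T) (x : T) :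
    quotAut N α (x : T ⧸ N) = ((α x : T) : T ⧸ N) := rfl

theorem map_powerClosure_eq (p : ℕ) (K : Subgroup T) (α : MulAut T) :
    (Cfsg.powerClosure p 1 K).map α.toMonoidHom = Cfsg.powerClosure p 1 (K.map α.toMonoidHom) :=
  Cfsg.Lib.PGroup.Regular.map_powerClosure _ _ _

instance powerClosure_characteristic (p : ℕ) (K : Subgroup T) [hK : K.Characteristic] :
    (Cfsg.powerClosure p 1 K).Characteristic :=
  Subgroup.characteristic_iff_map_eq.mpr fun α => by
    rw [map_powerClosure_eq, Subgroup.characteristic_iff_map_eq.mp hK α]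

theorem pow_mem_powerClosure (p : ℕ) {K : Subgroup T} {x : T} (hx : x ∈ K) :
    x ^ p ∈ Cfsg.powerClosure p 1 K := subset_closure ⟨x, hx, by rw [pow_one]⟩

end Auto

section Low

variable {T : Type*} [Group T] [Finite T] {p : ℕ}

/-- `[Φ(E), E] Φ(E)^p` as a subgroup of the ambient group. -/
def low (p : ℕ) (E : Subgroup T) : Subgroup T :=
  (⁅frattini E, (⊤ : Subgroup E)⁆ ⊔ Cfsg.powerClosure p 1 (frattini E)).map E.subtype

instance low_characteristic (p : ℕ) (E : Subgroup T) :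
    (⁅frattini E, (⊤ : Subgroup E)⁆ ⊔ Cfsg.powerClosure p 1 (frattini E)).Characteristic := by
  refine Subgroup.characteristic_iff_map_eq.mpr fun α => ?_
  rw [Subgroup.map_sup, map_commutator, map_powerClosure_eq,
    Subgroup.characteristic_iff_map_eq.mp (inferInstance : (frattini E).Characteristic) α,
    map_top_of_surjective α.toMonoidHom α.surjective]

instance low_normal (p : ℕ) (E : Subgroup T) [E.Normal] : (low p E).Normal :=
  inferInstanceAs ((⁅frattini E, (⊤ : Subgroup E)⁆ ⊔ Cfsg.powerClosure p 1 (frattini E)).map E.subtype).Normal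

theorem low_le (p : ℕ) (E : Subgroup T) : low p E ≤ frattiniIn E := by
  refine map_mono (sup_le (commutator_le_left _ _) ((closure_le _).mpr ?_))
  rintro _ ⟨x, hx, rfl⟩
  exact pow_mem hx _

theorem comm_mem_low {E : Subgroup T} {x v : T} (hx : x ∈ frattiniIn E) (hv : v ∈ E) :
    ⁅x, v⁆ ∈ low p E := by
  obtain ⟨y, hy, rfl⟩ := hx
  exact ⟨⁅y, ⟨v, hv⟩⁆, mem_sup_left (commutator_mem_commutator hy (mem_top _)), rfl⟩

theorem pow_mem_low {E : Subgroup T} {x : T} (hx : x ∈ frattiniIn E) : x ^ p ∈ low p E := by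
  obtain ⟨y, hy, rfl⟩ := hx
  exact ⟨y ^ p, mem_sup_right (pow_mem_powerClosure p hy), rfl⟩

/-- `frattiniIn` and `low` are kept by every automorphism of `E`. -/
theorem auto_mem {E : Subgroup T} (K : Subgroup E) [hK : K.Characteristic] (α : MulAut E) (v : E)
    (hv : (v : T) ∈ K.map E.subtype) : (α v : T) ∈ K.map E.subtype := by
  obtain ⟨w, hw, hwv⟩ := hv
  obtain rfl := Subtype.ext hwv
  exact ⟨α w, by rw [← Subgroup.characteristic_iff_map_eq.mp hK α]; exact mem_map_of_mem _ hw, rfl⟩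

end Low

section Eigen

variable {T : Type*} [Group T] {p : ℕ} [hp : Fact p.Prime]

/-- An element with eigenvalue `ν` in a layer where `ψ` acts by `μ ≢ ν` lies below. -/
theorem eigen_mem {N : Subgroup T} [N.Normal] (ψ : MulAut T) {v : T} {μ ν : ℕ}
    (hvp : v ^ p ∈ N) (hμ : (v ^ μ)⁻¹ * ψ v ∈ N) (hν : (v ^ ν)⁻¹ * ψ v ∈ N)
    (hne : (μ : ZMod p) ≠ (ν : ZMod p)) : v ∈ N := by
  rw [← QuotientGroup.eq, QuotientGroup.mk_pow] at hμ hν
  rw [← QuotientGroup.eq_one_iff] at hvp ⊢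
  rw [QuotientGroup.mk_pow] at hvp
  by_contra hv
  refine hne ((ZMod.natCast_eq_natCast_iff _ _ _).mpr ?_)
  have h := pow_eq_pow_iff_modEq.mp (hμ.trans hν.symm)
  rwa [orderOf_eq_prime hvp hv] at h

omit hp in
/-- The elements of an abelian layer on which `ψ` acts by `μ`. -/
theorem scalar_of_gen {N M : Subgroup T} [N.Normal] (ψ : MulAut T) (μ : ℕ)
    (hN : ∀ x ∈ N, ψ x ∈ N) (hcomm : ∀ x ∈ M, ∀ y ∈ M, ⁅x, y⁆ ∈ N) (S : Set T) (hM : M ≤ closure S)
    (hS : S ⊆ M) (hgen : ∀ x ∈ S, (x ^ μ)⁻¹ * ψ x ∈ N) : ∀ x ∈ M, (x ^ μ)⁻¹ * ψ x ∈ N := by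
  let π := QuotientGroup.mk' N
  let K : Subgroup T :=
    { carrier := {x | x ∈ M ∧ π (ψ x) = π x ^ μ}
      one_mem' := ⟨one_mem _, by simp⟩
      mul_mem' := fun {x y} hx hy => ⟨mul_mem hx.1 hy.1, by
        have hc : Commute (π x) (π y) := commutatorElement_eq_one_iff_commute.mp (by
          rw [← map_commutatorElement]
          exact (QuotientGroup.eq_one_iff _).mpr (hcomm x hx.1 y hy.1))
        rw [map_mul, map_mul, map_mul, hx.2, hy.2, hc.mul_pow]⟩
      inv_mem' := fun {x} hx => ⟨inv_mem hx.1, by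
        rw [map_inv, map_inv, map_inv, hx.2, inv_pow]⟩ }
  have hle : closure S ≤ K := by
    refine (closure_le _).mpr fun x hx => ⟨hS hx, ?_⟩
    have h := hgen x hx
    rw [← QuotientGroup.eq, QuotientGroup.mk_pow] at h
    exact h.symm
  intro x hx
  have h := (hle (hM hx)).2
  rw [← QuotientGroup.eq, QuotientGroup.mk_pow]
  exact h.symm

omit hp in
theorem mem_sup_iff_exists [Finite T] {N : Subgroup T} [N.Normal] {v w : T} :
    w ∈ N ⊔ zpowers v ↔ ∃ i : ℕ, (v ^ i)⁻¹ * w ∈ N := by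
  refine ⟨fun h => exists_pow_of_mem_sup N h, fun ⟨i, hi⟩ => ?_⟩
  have := mul_mem (mem_sup_right (S := N) (pow_mem (mem_zpowers v) i))
    (mem_sup_left (T := zpowers v) hi)
  rwa [mul_inv_cancel_left] at this

theorem dvd_of_pow_mem [Finite T] (hT : IsPGroup p T) {N : Subgroup T} {v : T} (hv : v ∉ N) {i : ℕ}
    (h : v ^ i ∈ N) : p ∣ i := by
  by_contra hi
  obtain ⟨j, hj⟩ := hT v
  obtain ⟨t, ht⟩ := exists_pow_eq_self_of_coprime (n := i) (x := v)
    (((Nat.Coprime.pow_left j ((hp.out.coprime_iff_not_dvd).mpr hi)).coprime_dvd_left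
      (orderOf_dvd_of_pow_eq_one hj)).symm)
  exact hv (ht ▸ pow_mem h t)

omit hp in
theorem low_eq [Finite T] (p : ℕ) (E : Subgroup T) :
    low p E = ⁅frattiniIn E, E⁆ ⊔ Cfsg.powerClosure p 1 (frattiniIn E) := by
  rw [low, Subgroup.map_sup, map_commutator, Cfsg.Lib.PGroup.Regular.map_powerClosure,
    ← MonoidHom.range_eq_map, range_subtype]
  rfl

/-- An automorphism keeping `E` keeps `frattiniIn E` and `low`. -/
theorem frattiniIn_apply [Finite T] (hT : IsPGroup p T) {E : Subgroup T} (ψ : MulAut T)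
    (hψ : ∀ v ∈ E, ψ v ∈ E) : ∀ x ∈ frattiniIn E, ψ x ∈ frattiniIn E := by
  refine frattiniIn_le_of (N := (frattiniIn E).comap ψ.toMonoidHom) hT (fun v hv w hw => ?_)
    fun v hv => ?_
  · show ψ ⁅v, w⁆ ∈ frattiniIn E
    rw [map_commutatorElement]
    exact comm_mem_frattiniIn hT (hψ v hv) (hψ w hw)
  · show ψ (v ^ p) ∈ frattiniIn E
    rw [map_pow]
    exact pow_mem_frattiniIn hT (hψ v hv)

theorem low_apply [Finite T] (hT : IsPGroup p T) {E : Subgroup T} (ψ : MulAut T)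
    (hψ : ∀ v ∈ E, ψ v ∈ E) : ∀ x ∈ low p E, ψ x ∈ low p E := by
  have hle : low p E ≤ (low p E).comap ψ.toMonoidHom := by
    nth_rewrite 1 [low_eq]
    refine sup_le (commutator_le.mpr fun x hx v hv => ?_) ((closure_le _).mpr ?_)
    · show ψ ⁅x, v⁆ ∈ low p E
      rw [map_commutatorElement]
      exact comm_mem_low (frattiniIn_apply hT ψ hψ x hx) (hψ v hv)
    · rintro _ ⟨x, hx, rfl⟩
      show ψ (x ^ p ^ 1) ∈ low p E
      rw [map_pow, pow_one]
      exact pow_mem_low (frattiniIn_apply hT ψ hψ x hx)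
  exact fun x hx => hle hx

end Eigen

end Cfsg.Lib.FusionSys.RankThree
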