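import Cfsg.Agent.Lib.FusionSys.Marks
import Cfsg.Agent.Lib.FusionSys.Saturation

/-!
Characteristic bisets of saturated fusion systems: a finite `S × S`-set whose point stabilizers are graphs of maps
of the system, whose marks at graphs depend only on the image of the map, and whose number of orbits of `1 × S`
is prime to `p`.
-/

set_option autoImplicit false

universe u

namespace Cfsg.Lib.FusionSys

open Cfsg Cfsg.FusionSystem
open MulAction

variable {Ω : Type u} [Group Ω] {S : Subgroup Ω} {F : FusionSystem S} {P Q : Subgroup Ω}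

/-- The graph of a map of the system, as a homomorphism into `S × S`. -/
noncomputable def graphHom {φ : P →* Ω} (hφ : φ ∈ F.Hom P) : P →* ↥S × ↥S :=
  (Subgroup.inclusion (hom_le hφ)).prod (φ.codRestrict S (hom_mem hφ))

/-- `D` is the graph of a map of the system with image `Q`. -/
def IsGraph (F : FusionSystem S) (D : Subgroup (↥S × ↥S)) (Q : Subgroup Ω) : Prop :=
  ∃ (P : Subgroup Ω) (φ : P →* Ω) (hφ : φ ∈ F.Hom P), φ.range = Q ∧ (graphHom hφ).range = D

theorem isGraph_graphHom {φ : P →* Ω} (hφ : φ ∈ F.Hom P) :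
    IsGraph F (graphHom hφ).range φ.range :=
  ⟨P, φ, hφ, rfl, rfl⟩

theorem mem_graph {φ : P →* Ω} (hφ : φ ∈ F.Hom P) {z : ↥S × ↥S} :
    z ∈ (graphHom hφ).range ↔ ∃ x : P, (z.1 : Ω) = x ∧ (z.2 : Ω) = φ x := by
  constructor
  · rintro ⟨x, rfl⟩
    exact ⟨x, rfl, rfl⟩
  · rintro ⟨x, h1, h2⟩
    exact ⟨x, Prod.ext (Subtype.ext h1.symm) (Subtype.ext h2.symm)⟩

theorem graphHom_injective {φ : P →* Ω} (hφ : φ ∈ F.Hom P) :
    Function.Injective (graphHom hφ) := fun a b h =>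
  Subgroup.inclusion_injective (hom_le hφ) (congrArg Prod.fst h)

theorem IsGraph.card {D : Subgroup (↥S × ↥S)} (h : IsGraph F D Q) :
    Nat.card D = Nat.card Q := by
  obtain ⟨P, φ, hφ, rfl, rfl⟩ := h
  rw [card_range hφ]
  exact (Nat.card_congr (MonoidHom.ofInjective (graphHom_injective hφ)).toEquiv).symm

theorem IsGraph.range_le {D : Subgroup (↥S × ↥S)} (h : IsGraph F D Q) : Q ≤ S := by
  obtain ⟨P, φ, hφ, rfl, rfl⟩ := h
  exact Cfsg.Lib.FusionSys.range_le hφ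

theorem IsGraph.range_unique {D : Subgroup (↥S × ↥S)} {Q' : Subgroup Ω} (h : IsGraph F D Q)
    (h' : IsGraph F D Q') : Q = Q' := by
  suffices ∀ {Q Q' : Subgroup Ω}, IsGraph F D Q → IsGraph F D Q' → Q ≤ Q' from
    le_antisymm (this h h') (this h' h)
  rintro Q Q' ⟨P, φ, hφ, rfl, rfl⟩ ⟨P', φ', hφ', rfl, heq⟩ _ ⟨x, rfl⟩
  obtain ⟨y, -, hy⟩ := (mem_graph hφ').1 (heq.ge ⟨x, rfl⟩)
  exact ⟨y, hy.symm⟩

theorem IsGraph.inl_mem {D : Subgroup (↥S × ↥S)} (h : IsGraph F D Q) {t : S}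
    (ht : ((1 : S), t) ∈ D) : t = 1 := by
  obtain ⟨P, φ, hφ, rfl, rfl⟩ := h
  obtain ⟨x, h1, h2⟩ := (mem_graph hφ).1 ht
  have hx : x = 1 := Subtype.ext h1.symm
  rw [hx, map_one] at h2
  exact Subtype.ext h2

theorem IsGraph.of_le {D E : Subgroup (↥S × ↥S)} (h : IsGraph F D Q) (hE : E ≤ D) :
    ∃ Q', IsGraph F E Q' ∧ Q' ≤ Q := by
  obtain ⟨P, φ, hφ, rfl, rfl⟩ := h
  have hle : (E.comap (graphHom hφ)).map P.subtype ≤ P := Subgroup.map_subtype_le _
  refine ⟨_, ⟨_, _, restrict_mem hφ hle, rfl, ?_⟩, ?_⟩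
  · ext z
    rw [mem_graph]
    constructor
    · rintro ⟨⟨x, ⟨y, hy, rfl⟩⟩, h1, h2⟩
      have hz : z = graphHom hφ y := Prod.ext (Subtype.ext h1) (Subtype.ext h2)
      rw [hz]
      exact hy
    · intro hz
      obtain ⟨x, h1, h2⟩ := (mem_graph hφ).1 (hE hz)
      refine ⟨⟨x, ⟨x, ?_, rfl⟩⟩, h1, h2⟩
      have hz' : graphHom hφ x = z := Prod.ext (Subtype.ext h1.symm) (Subtype.ext h2.symm)
      show graphHom hφ x ∈ E
      rw [hz']
      exact hz
  · rintro _ ⟨x, rfl⟩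
    exact ⟨_, rfl⟩

theorem IsGraph.conj {D : Subgroup (↥S × ↥S)} (h : IsGraph F D Q) (g : ↥S × ↥S) :
    IsGraph F (D.map (MulAut.conj g).toMonoidHom)
      (Q.map (MulAut.conj (g.2 : Ω)).toMonoidHom) := by
  obtain ⟨P, φ, hφ, rfl, rfl⟩ := h
  let P' : Subgroup Ω := P.map (MulAut.conj (g.1 : Ω)).toMonoidHom
  have hP' : P' ≤ S := by
    rintro _ ⟨x, hx, rfl⟩
    exact S.mul_mem (S.mul_mem g.1.2 (hom_le hφ hx)) (S.inv_mem g.1.2)
  have hinv : ∀ y : P', conjHom P' (g.1 : Ω)⁻¹ y ∈ P := by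
    rintro ⟨_, x, hx, rfl⟩
    simpa [conjHom, mul_assoc] using hx
  have h1 := F.comp_mem (F.conj_mem (g := (g.1 : Ω)⁻¹) hP' (S.inv_mem g.1.2)) hφ hinv
  have hS : ∀ y, (φ.comp ((conjHom P' (g.1 : Ω)⁻¹).codRestrict P hinv)) y ∈ S :=
    fun y => hom_mem h1 y
  have h2 := F.comp_mem h1 (F.conj_mem (g := (g.2 : Ω)) le_rfl g.2.2) hS
  set ψ := (conjHom S (g.2 : Ω)).comp
    ((φ.comp ((conjHom P' (g.1 : Ω)⁻¹).codRestrict P hinv)).codRestrict S hS) with hψ
  have hψv : ∀ (x : P) (hx : (g.1 : Ω) * x * (g.1 : Ω)⁻¹ ∈ P'),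
      ψ ⟨_, hx⟩ = (g.2 : Ω) * φ x * (g.2 : Ω)⁻¹ := by
    intro x hx
    have hx' : (conjHom P' (g.1 : Ω)⁻¹).codRestrict P hinv ⟨_, hx⟩ = x :=
      Subtype.ext (by simp [conjHom, mul_assoc])
    show (g.2 : Ω) * φ ((conjHom P' (g.1 : Ω)⁻¹).codRestrict P hinv ⟨_, hx⟩) * (g.2 : Ω)⁻¹ = _
    rw [hx']
  refine ⟨P', ψ, h2, ?_, ?_⟩
  · ext y
    constructor
    · rintro ⟨⟨_, x, hx, rfl⟩, rfl⟩
      exact ⟨φ ⟨x, hx⟩, ⟨_, rfl⟩, (hψv ⟨x, hx⟩ _).symm⟩
    · rintro ⟨_, ⟨x, rfl⟩, rfl⟩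
      exact ⟨⟨_, x, x.2, rfl⟩, hψv x _⟩
  · ext z
    rw [mem_graph]
    constructor
    · rintro ⟨⟨_, x, hx, rfl⟩, e1, e2⟩
      refine ⟨graphHom hφ ⟨x, hx⟩, ⟨_, rfl⟩, ?_⟩
      exact Prod.ext (Subtype.ext e1.symm)
        (Subtype.ext ((hψv ⟨x, hx⟩ _).symm.trans e2.symm))
    · rintro ⟨_, ⟨x, rfl⟩, rfl⟩
      exact ⟨⟨_, x, x.2, rfl⟩, rfl, (hψv x _).symm⟩

/-! ### The construction -/

section Construction

variable [Finite S]

/-- The marks agree at all graphs above `n` with equal images. -/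
def StableAbove (F : FusionSystem S) (X : Type u) [MulAction (↥S × ↥S) X] (n : ℕ) : Prop :=
  ∀ (Q : Subgroup Ω) (D D' : Subgroup (↥S × ↥S)), n < Nat.card Q → IsGraph F D Q →
    IsGraph F D' Q → mark X D = mark X D'

/-- Every point stabilizer is a graph. -/
def GraphStabilizers (F : FusionSystem S) (X : Type u) [MulAction (↥S × ↥S) X] : Prop :=
  ∀ x : X, ∃ Q, IsGraph F (stabilizer (↥S × ↥S) x) Q

theorem mark_eq_zero_of_not_graph {X : Type u} [MulAction (↥S × ↥S) X] [Finite X]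
    (hX : GraphStabilizers F X) {E : Subgroup (↥S × ↥S)} (h : ∀ Q, ¬ IsGraph F E Q) :
    mark X E = 0 := by
  by_contra h0
  obtain ⟨x, hx⟩ := mark_pos_iff.1 (Nat.pos_of_ne_zero h0)
  obtain ⟨Q, hQ⟩ := hX x
  obtain ⟨Q', hQ', -⟩ := hQ.of_le hx
  exact h Q' hQ'

/-- The weight `|N(D) : D|`. -/
noncomputable def weight (D : Subgroup (↥S × ↥S)) : ℕ :=
  (D.subgroupOf (Subgroup.normalizer (D : Set (↥S × ↥S)))).index

theorem weight_mul_card (D : Subgroup (↥S × ↥S)) :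
    Nat.card D * weight D = Nat.card (Subgroup.normalizer (D : Set (↥S × ↥S))) := by
  rw [weight, ← Subgroup.card_mul_index
    (D.subgroupOf (Subgroup.normalizer (D : Set (↥S × ↥S)))),
    Nat.card_congr (Subgroup.subgroupOfEquivOfLe Subgroup.le_normalizer).toEquiv]

theorem mark_quotient_self (D : Subgroup (↥S × ↥S)) :
    mark ((↥S × ↥S) ⧸ D) D = weight D := by
  classical
  rw [mark, weight, Subgroup.index]
  refine (Nat.card_congr (Equiv.ofBijective (Quotient.lift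
    (fun n : Subgroup.normalizer (D : Set (↥S × ↥S)) =>
      (⟨((n : ↥S × ↥S) : (↥S × ↥S) ⧸ D), fun e he => ?_⟩ :
        {x : (↥S × ↥S) ⧸ D // ∀ e ∈ D, e • x = x})) ?_) ⟨?_, ?_⟩)).symm
  · show ((e * (n : ↥S × ↥S) : ↥S × ↥S) : (↥S × ↥S) ⧸ D) = ((n : ↥S × ↥S) : (↥S × ↥S) ⧸ D)
    rw [QuotientGroup.eq]
    have h1 := (Subgroup.mem_normalizer_iff''.1 n.2 e⁻¹).1 (D.inv_mem he)
    simpa [mul_assoc] using h1
  · intro a b hab
    apply Subtype.ext
    show ((a : ↥S × ↥S) : (↥S × ↥S) ⧸ D) = ((b : ↥S × ↥S) : (↥S × ↥S) ⧸ D)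
    rw [QuotientGroup.eq]
    exact Subgroup.mem_subgroupOf.1 (QuotientGroup.leftRel_apply.1 hab)
  · intro a b hab
    induction a using Quotient.inductionOn with
    | _ a =>
      induction b using Quotient.inductionOn with
      | _ b =>
        have h1 := congrArg Subtype.val hab
        simp only [Quotient.lift_mk] at h1
        have h3 : ((a : ↥S × ↥S) : (↥S × ↥S) ⧸ D) = ((b : ↥S × ↥S) : (↥S × ↥S) ⧸ D) := h1
        have h4 := QuotientGroup.eq.1 h3
        exact Quotient.sound (QuotientGroup.leftRel_apply.2 (Subgroup.mem_subgroupOf.2 h4))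
  · rintro ⟨x, hx⟩
    induction x using QuotientGroup.induction_on with
    | H g =>
      have hgN : g ∈ Subgroup.normalizer (D : Set (↥S × ↥S)) := by
        refine inv_mem_iff.1 (Subgroup.mem_normalizer_fintype fun e he => ?_)
        have h1 := hx e he
        rw [MulAction.Quotient.smul_coe, QuotientGroup.eq, smul_eq_mul] at h1
        have h2 := D.inv_mem h1
        simpa [mul_assoc] using h2
      exact ⟨Quotient.mk _ ⟨g, hgN⟩, rfl⟩

theorem eq_conj_of_mark_quotient_pos {D E : Subgroup (↥S × ↥S)}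
    (hc : Nat.card D ≤ Nat.card E) (h : 0 < mark ((↥S × ↥S) ⧸ D) E) :
    ∃ g, E = D.map (MulAut.conj g).toMonoidHom := by
  obtain ⟨x, hx⟩ := mark_pos_iff.1 h
  induction x using QuotientGroup.induction_on with
  | H g =>
    refine ⟨g, Subgroup.eq_of_le_of_card_ge ?_ ?_⟩
    · intro e he
      have h1 : e • (g : (↥S × ↥S) ⧸ D) = g := hx he
      rw [MulAction.Quotient.smul_coe, QuotientGroup.eq, smul_eq_mul] at h1
      refine ⟨g⁻¹ * e * g, ?_, by simp [mul_assoc]⟩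
      have h2 := D.inv_mem h1
      simpa [mul_assoc] using h2
    · rw [← Nat.card_congr (D.equivMapOfInjective _ (MulAut.conj g).injective).toEquiv]
      exact hc

theorem mark_quotient_conj (g : ↥S × ↥S) (D : Subgroup (↥S × ↥S)) :
    weight (D.map (MulAut.conj g).toMonoidHom) = weight D := by
  have h1 := weight_mul_card D
  have h2 := weight_mul_card (D.map (MulAut.conj g).toMonoidHom)
  have hN : Subgroup.normalizer ((D.map (MulAut.conj g).toMonoidHom : Subgroup _) :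
      Set (↥S × ↥S)) =
      (Subgroup.normalizer (D : Set (↥S × ↥S))).map (MulAut.conj g).toMonoidHom :=
    (Subgroup.map_equiv_normalizer_eq D (MulAut.conj g)).symm
  rw [hN, ← Nat.card_congr
      ((Subgroup.normalizer (D : Set (↥S × ↥S))).equivMapOfInjective _
        (MulAut.conj g).injective).toEquiv,
    ← Nat.card_congr (D.equivMapOfInjective _ (MulAut.conj g).injective).toEquiv, ← h1] at h2
  exact Nat.eq_of_mul_eq_mul_left Nat.card_pos h2

theorem card_pow_of_pGroup {p : ℕ} [Fact p.Prime] (hS : IsPGroup p S)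
    (H : Subgroup (↥S × ↥S)) : ∃ k, Nat.card H = p ^ k := by
  obtain ⟨k, hk⟩ := IsPGroup.iff_card.mp hS
  obtain ⟨l, -, hl⟩ := (Nat.dvd_prime_pow (m := k + k) Fact.out).1
    (show Nat.card H ∣ p ^ (k + k) from by
      rw [pow_add, ← hk, ← Nat.card_prod]
      exact H.card_subgroup_dvd_card)
  exact ⟨l, hl⟩

/-- The comparison with a graph whose source is fully normalized. -/
theorem exists_reference {p : ℕ} [Fact p.Prime] (hS : IsPGroup p S) (hF : F.IsSaturated p)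
    {X : Type u} [MulAction (↥S × ↥S) X] [Finite X] (hX : GraphStabilizers F X)
    (hQ : Q ≤ S) {n : ℕ} (hn : n = Nat.card Q) (hst : StableAbove F X n) :
    ∃ D₀, IsGraph F D₀ Q ∧ ∀ D, IsGraph F D Q →
      weight D ∣ weight D₀ ∧ (mark X D : ℤ) ≡ mark X D₀ [ZMOD weight D] := by
  classical
  obtain ⟨R, hQR, hRfa, hRrec, φ, hφ, hφv, hφmap⟩ := exists_fa_receptive_map hS hF hQ
  have hφQ : φ.comp (Subgroup.inclusion (le_normalizerIn hQ)) ∈ F.Hom Q := restrict_mem hφ _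
  have hrQ : (φ.comp (Subgroup.inclusion (le_normalizerIn hQ))).range = R := by
    rw [← hφmap]
    ext y
    rw [mem_map_subgroupOf]
    constructor
    · rintro ⟨x, rfl⟩
      exact ⟨x, le_normalizerIn hQ x.2, x.2, rfl⟩
    · rintro ⟨x, hx, hxQ, rfl⟩
      exact ⟨⟨x, hxQ⟩, rfl⟩
  obtain ⟨ψ₀, hψ₀, hψ₀r, hψ₀v⟩ := exists_inv hφQ hrQ
  refine ⟨(graphHom hψ₀).range, hψ₀r ▸ isGraph_graphHom hψ₀, fun D hD => ?_⟩
  obtain ⟨P, ψ, hψ, hψr, rfl⟩ := hD
  have hvQ : ∀ x, ψ x ∈ Q := fun x => hψr ▸ ⟨x, rfl⟩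
  -- the isomorphism from `P` onto `R`
  let e : P ≃* R := (homIso hψ hψr).trans (homIso hφQ hrQ)
  have he : IsoIn F e := (isoIn_homIso hψ hψr).trans (isoIn_homIso hφQ hrQ)
  have hev : ∀ x, (e x : Ω) = φ ⟨ψ x, le_normalizerIn hQ (hvQ x)⟩ := fun x => rfl
  set D := (graphHom hψ).range with hDdef
  set D₀ := (graphHom hψ₀).range with hD₀def
  set N := Subgroup.normalizer (D : Set (↥S × ↥S)) with hNdef
  let V : Subgroup Ω := (N.map (MonoidHom.fst ↥S ↥S)).map S.subtype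
  have hkey : ∀ z ∈ N, (z.1 : Ω) ∈ Subgroup.normalizer (P : Set Ω) ∧
      (z.2 : Ω) ∈ normalizerIn S Q ∧ ∀ x y : P, (y : Ω) = z.1 * (x : Ω) * (z.1 : Ω)⁻¹ →
        ψ y = z.2 * ψ x * (z.2 : Ω)⁻¹ := by
    intro z hz
    have hmem : ∀ x : P, ∃ y : P, (z.1 : Ω) * x * (z.1 : Ω)⁻¹ = y ∧
        (z.2 : Ω) * ψ x * (z.2 : Ω)⁻¹ = ψ y := by
      intro x
      obtain ⟨y, h1, h2⟩ := (mem_graph hψ).1
        ((Subgroup.mem_normalizer_iff.1 hz (graphHom hψ x)).1 ⟨x, rfl⟩)
      exact ⟨y, h1, h2⟩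
    haveI := finite_of_le (hom_le hψ)
    haveI := finite_of_le hQ
    refine ⟨Subgroup.mem_normalizer_fintype fun x hx => ?_,
      ⟨z.2.2, Subgroup.mem_normalizer_fintype fun q hq => ?_⟩, fun x y hxy => ?_⟩
    · obtain ⟨y, h1, -⟩ := hmem ⟨x, hx⟩
      rw [SetLike.mem_coe, h1]
      exact y.2
    · rw [SetLike.mem_coe, ← hψr] at hq ⊢
      obtain ⟨x, rfl⟩ := hq
      obtain ⟨y, -, h2⟩ := hmem x
      exact ⟨y, h2.symm⟩
    · obtain ⟨y', h1, h2⟩ := hmem x
      have hy : y = y' := Subtype.ext (hxy.trans h1)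
      rw [hy, h2]
  obtain ⟨ε, hε, hεe⟩ := IsReceptive_ext hRrec he (N := V) (by
    rintro _ ⟨_, ⟨z, hz, rfl⟩, rfl⟩
    obtain ⟨h1, h2, h3⟩ := hkey z hz
    refine ⟨z.1.2, h1, φ ⟨_, h2⟩, hom_mem hφ _, fun x y hxy => ?_⟩
    rw [hev, hev, ← map_inv, ← map_mul, ← map_mul]
    exact congrArg φ (Subtype.ext (h3 x y hxy)))
  have hzV : ∀ z : N, ((z : ↥S × ↥S).1 : Ω) ∈ V := fun z => ⟨_, ⟨z, z.2, rfl⟩, rfl⟩
  let ι : N →* ↥S × ↥S :=
    (((ε.codRestrict S (hom_mem hε)).comp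
      ({ toFun := fun z => ⟨((z : ↥S × ↥S).1 : Ω), hzV z⟩
         map_one' := rfl
         map_mul' := fun a b => rfl } : N →* V))).prod ((MonoidHom.snd ↥S ↥S).comp N.subtype)
  have hι1 : ∀ z : N, ((ι z).1 : Ω) = ε ⟨_, hzV z⟩ := fun z => rfl
  have hιinj : Function.Injective ι := by
    intro a b hab
    have h1 : ε ⟨_, hzV a⟩ = ε ⟨_, hzV b⟩ := congrArg (fun w => (w.1 : Ω)) hab
    have h2 := F.injective_of_mem hε h1
    exact Subtype.ext (Prod.ext (Subtype.ext (congrArg (fun v : V => (v : Ω)) h2))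
      (congrArg (fun w => w.2) hab))
  have hDN : D ≤ N := Subgroup.le_normalizer
  have hιD : (D.subgroupOf N).map ι = D₀ := by
    ext w
    rw [hD₀def, mem_graph]
    constructor
    · rintro ⟨z, hz, rfl⟩
      obtain ⟨x, h1, h2⟩ := (mem_graph hψ).1 hz
      have h3 : ε ⟨_, hzV z⟩ = (e x : Ω) := by
        rw [← hεe x x.2 (h1 ▸ hzV z)]
        exact congrArg ε (Subtype.ext h1)
      refine ⟨e x, h3, ?_⟩
      show ((z : ↥S × ↥S).2 : Ω) = _
      refine h2.trans ?_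
      exact (hψ₀v ⟨ψ x, hvQ x⟩ (e x).2).symm
    · rintro ⟨r, h1, h2⟩
      obtain ⟨x, hx⟩ := e.surjective r
      have hz : graphHom hψ x ∈ N := hDN ⟨x, rfl⟩
      refine ⟨⟨graphHom hψ x, hz⟩, ⟨x, rfl⟩, ?_⟩
      refine Prod.ext (Subtype.ext ?_) (Subtype.ext ?_)
      · rw [hι1, h1, ← hx, ← hεe x x.2]
        rfl
      · show ψ x = _
        rw [h2, ← hx]
        exact (hψ₀v ⟨ψ x, hvQ x⟩ (e x).2).symm
  have hcardD : Nat.card D = Nat.card D₀ := by
    rw [← hιD, ← Nat.card_congr ((D.subgroupOf N).equivMapOfInjective ι hιinj).toEquiv,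
      Nat.card_congr (Subgroup.subgroupOfEquivOfLe hDN).toEquiv]
  set N' := ι.range with hN'def
  have hN'card : Nat.card N' = Nat.card N :=
    (Nat.card_congr (MonoidHom.ofInjective hιinj).toEquiv).symm
  have hD₀N' : D₀ ≤ N' := hιD ▸ Subgroup.map_le_range _ _
  have hN'N : N' ≤ Subgroup.normalizer (D₀ : Set (↥S × ↥S)) := by
    rintro _ ⟨z, rfl⟩
    rw [← hιD]
    exact Subgroup.le_normalizer_map ι ⟨z, by
      rw [Subgroup.normal_subgroupOf_iff_le_normalizer hDN |>.2 le_rfl |> fun h =>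
        @Subgroup.normalizer_eq_top _ _ (D.subgroupOf N) h]
      exact Subgroup.mem_top _, rfl⟩
  constructor
  · have h1 : Nat.card D * weight D ∣ Nat.card D * weight D₀ := by
      rw [weight_mul_card, hcardD, weight_mul_card, ← hNdef, ← hN'card]
      exact Subgroup.card_dvd_of_le hN'N
    exact Nat.dvd_of_mul_dvd_mul_left Nat.card_pos h1
  -- the congruence
  have hsum₁ := card_dvd_sum_marks (X := X) hDN (le_rfl : N ≤ Subgroup.normalizer _)
  have hsum₀ := card_dvd_sum_marks (X := X) hD₀N' hN'N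
  haveI := Fintype.ofFinite N
  haveI := Fintype.ofFinite N'
  rw [finsum_eq_sum_of_fintype] at hsum₁ hsum₀
  let eN : N ≃ N' := (MonoidHom.ofInjective hιinj).toEquiv
  rw [← eN.sum_comp] at hsum₀
  rw [hN'card] at hsum₀
  have hterm_in : ∀ g : N, (g : ↥S × ↥S) ∈ D →
      mark X (D ⊔ Subgroup.zpowers (g : ↥S × ↥S)) = mark X D ∧
      mark X (D₀ ⊔ Subgroup.zpowers ((eN g : N') : ↥S × ↥S)) = mark X D₀ := by
    intro g hg
    have h1 : ι g ∈ D₀ := hιD ▸ ⟨g, hg, rfl⟩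
    rw [sup_eq_left.2 (Subgroup.zpowers_le.2 hg)]
    refine ⟨rfl, ?_⟩
    show mark X (D₀ ⊔ Subgroup.zpowers (ι g)) = _
    rw [sup_eq_left.2 (Subgroup.zpowers_le.2 h1)]
  have hterm_out : ∀ g : N, (g : ↥S × ↥S) ∉ D →
      mark X (D ⊔ Subgroup.zpowers (g : ↥S × ↥S)) =
        mark X (D₀ ⊔ Subgroup.zpowers ((eN g : N') : ↥S × ↥S)) := by
    intro g hg
    show _ = mark X (D₀ ⊔ Subgroup.zpowers (ι g))
    set E := D ⊔ Subgroup.zpowers (g : ↥S × ↥S) with hE
    have hEN : E ≤ N := sup_le hDN (Subgroup.zpowers_le.2 g.2)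
    have himg : (E.subgroupOf N).map ι = D₀ ⊔ Subgroup.zpowers (ι g) := by
      rw [hE, Subgroup.subgroupOf_sup hDN (Subgroup.zpowers_le.2 g.2), Subgroup.map_sup, hιD]
      congr 1
      have h1 : (Subgroup.zpowers (g : ↥S × ↥S)).subgroupOf N = Subgroup.zpowers g := by
        rw [Subgroup.subgroupOf, ← Subgroup.coe_subtype, ← MonoidHom.map_zpowers,
          Subgroup.comap_map_eq_self_of_injective N.subtype_injective]
      rw [h1, MonoidHom.map_zpowers]
    rw [← himg]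
    have hgt : ∀ Q', IsGraph F E Q' → n < Nat.card Q' := by
      intro Q' hQ'
      rw [hn, ← hQ'.card, ← (show IsGraph F D Q from ⟨P, ψ, hψ, hψr, rfl⟩).card]
      refine lt_of_le_of_ne (Subgroup.card_le_of_le (le_sup_left (a := D))) fun he => hg ?_
      exact (Subgroup.eq_of_le_of_card_ge (le_sup_left (a := D)) he.ge).ge
        (Subgroup.mem_sup_right (Subgroup.mem_zpowers _))
    by_cases hEg : ∃ Q', IsGraph F E Q'
    · obtain ⟨Q', hQ'⟩ := hEg
      refine hst Q' E _ (hgt Q' hQ') hQ' ?_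
      obtain ⟨P', ψ', hψ', hψ'r, hEe⟩ := hQ'
      have hP'V : P' ≤ V := by
        intro x hx
        have hz : graphHom hψ' ⟨x, hx⟩ ∈ N := hEN (hEe.le ⟨_, rfl⟩)
        exact hzV ⟨_, hz⟩
      obtain ⟨δ, hδ, hδr, hδv⟩ := exists_inv (restrict_mem hε hP'V)
        (rfl : (ε.comp (Subgroup.inclusion hP'V)).range = _)
      have hδP : ∀ y, δ y ∈ P' := fun y => hδr.le ⟨y, rfl⟩
      refine ⟨_, _, F.comp_mem hδ hψ' hδP, ?_, ?_⟩
      · rw [← hψ'r]
        ext y
        constructor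
        · rintro ⟨w, rfl⟩
          exact ⟨_, rfl⟩
        · rintro ⟨x, rfl⟩
          refine ⟨⟨_, ⟨x, rfl⟩⟩, ?_⟩
          exact congrArg ψ' (Subtype.ext (hδv x ⟨x, rfl⟩))
      · ext w
        rw [mem_graph]
        constructor
        · rintro ⟨⟨_, x, rfl⟩, h1, h2⟩
          have hz : graphHom hψ' x ∈ N := hEN (hEe.le ⟨_, rfl⟩)
          refine ⟨⟨_, hz⟩, hEe.le ⟨x, rfl⟩, ?_⟩
          refine Prod.ext (Subtype.ext ?_) (Subtype.ext ?_)
          · rw [h1, hι1]
            rfl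
          · show ψ' x = _
            rw [h2]
            exact congrArg ψ' (Subtype.ext (hδv x ⟨x, rfl⟩).symm)
        · rintro ⟨z, hz, rfl⟩
          obtain ⟨x, h1, h2⟩ := (mem_graph hψ').1 (hEe.ge hz)
          refine ⟨⟨_, ⟨x, rfl⟩⟩, ?_, ?_⟩
          · rw [hι1]
            exact congrArg ε (Subtype.ext h1)
          · show ((z : ↥S × ↥S).2 : Ω) = _
            refine h2.trans ?_
            exact congrArg ψ' (Subtype.ext (hδv x ⟨x, rfl⟩).symm)
    · push Not at hEg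
      rw [mark_eq_zero_of_not_graph hX hEg]
      refine (mark_eq_zero_of_not_graph hX fun Q' hQ' => ?_).symm
      obtain ⟨P', ψ', hψ', hψ'r, hEe⟩ := hQ'
      -- pull the graph back along the extension
      let P'' : Subgroup Ω := (P'.comap ε).map V.subtype
      have hP'' : P'' ≤ V := Subgroup.map_subtype_le _
      have hv : ∀ x : P'', (ε.comp (Subgroup.inclusion hP'')) x ∈ P' := by
        rintro ⟨_, y, hy, rfl⟩
        exact hy
      refine hEg _ ⟨P'', _, F.comp_mem (restrict_mem hε hP'') hψ' hv, rfl, ?_⟩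
      ext w
      rw [mem_graph]
      constructor
      · rintro ⟨⟨_, y, hy, rfl⟩, h1, h2⟩
        obtain ⟨z, hz, hze⟩ : graphHom hψ' ⟨ε y, hy⟩ ∈ (E.subgroupOf N).map ι := hEe.le ⟨_, rfl⟩
        have h3 : ε ⟨_, hzV z⟩ = ε y := congrArg (fun w => (w.1 : Ω)) hze
        have h4 : ((z : ↥S × ↥S).1 : Ω) = y := congrArg Subtype.val (F.injective_of_mem hε h3)
        have h5 : w = (z : ↥S × ↥S) := by
          refine Prod.ext (Subtype.ext (h1.trans h4.symm)) (Subtype.ext ?_)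
          rw [h2]
          exact (congrArg (fun w => (w.2 : Ω)) hze).symm
        rw [h5]
        exact hz
      · intro hw
        have hι' : ι ⟨w, hEN hw⟩ ∈ (graphHom hψ').range := hEe.ge ⟨_, hw, rfl⟩
        obtain ⟨x, h1, h2⟩ := (mem_graph hψ').1 hι'
        rw [hι1] at h1
        refine ⟨⟨_, ⟨⟨_, hzV ⟨w, hEN hw⟩⟩, ?_, rfl⟩⟩, rfl, ?_⟩
        · show ε _ ∈ P'
          rw [h1]
          exact x.2
        · show (w.2 : Ω) = _
          refine h2.trans ?_
          exact congrArg ψ' (Subtype.ext h1.symm)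
  have hdiff : (Nat.card N : ℤ) ∣ (Nat.card D : ℤ) * ((mark X D : ℤ) - mark X D₀) := by
    have h1 := Int.natCast_dvd_natCast.2 hsum₁
    have h0 := Int.natCast_dvd_natCast.2 hsum₀
    push_cast at h1 h0
    have h2 := dvd_sub h1 h0
    rw [← Finset.sum_sub_distrib] at h2
    have h3 : ∑ g : N, ((mark X (D ⊔ Subgroup.zpowers (g : ↥S × ↥S)) : ℤ) -
        mark X (D₀ ⊔ Subgroup.zpowers ((eN g : N') : ↥S × ↥S))) =
        ∑ g : N, if (g : ↥S × ↥S) ∈ D then ((mark X D : ℤ) - mark X D₀) else 0 := by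
      refine Finset.sum_congr rfl fun g _ => ?_
      split_ifs with hg
      · rw [(hterm_in g hg).1, (hterm_in g hg).2]
      · rw [hterm_out g hg, sub_self]
    rw [h3, Finset.sum_ite, Finset.sum_const_zero, add_zero, Finset.sum_const, nsmul_eq_mul] at h2
    have h4 : (Finset.univ.filter fun g : N => (g : ↥S × ↥S) ∈ D).card = Nat.card D := by
      rw [← Nat.card_congr (Subgroup.subgroupOfEquivOfLe hDN).toEquiv, Nat.card_eq_fintype_card,
        ← Fintype.card_subtype]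
      exact Fintype.card_congr (Equiv.subtypeEquivRight fun g => Iff.rfl)
    rwa [h4] at h2
  refine (Int.modEq_iff_dvd.2 ?_).symm
  have hD0 : (Nat.card D : ℤ) ≠ 0 := by exact_mod_cast Nat.card_pos.ne'
  have h6 : ((Nat.card D : ℤ) * weight D) ∣ (Nat.card D : ℤ) * ((mark X D : ℤ) - mark X D₀) := by
    have h7 := hdiff
    rw [hNdef, ← weight_mul_card D, Nat.cast_mul] at h7
    exact h7
  exact (mul_dvd_mul_iff_left hD0).1 h6

theorem exists_representatives (F : FusionSystem S) (n : ℕ) :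
    ∃ rep : Subgroup (↥S × ↥S) → Subgroup (↥S × ↥S),
      (∀ D, ∃ g, rep D = D.map (MulAut.conj g).toMonoidHom) ∧
      ∀ D g, rep (D.map (MulAut.conj g).toMonoidHom) = rep D := by
  classical
  let s : Setoid (Subgroup (↥S × ↥S)) :=
    { r := fun A B => ∃ g, B = A.map (MulAut.conj g).toMonoidHom
      iseqv :=
        { refl := fun A => ⟨1, by rw [map_one]; exact (Subgroup.map_id A).symm⟩
          symm := fun {A B} ⟨g, hg⟩ => ⟨g⁻¹, by
            subst hg
            rw [Subgroup.map_map]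
            have h2 : (MulAut.conj g⁻¹).toMonoidHom.comp (MulAut.conj g).toMonoidHom =
                MonoidHom.id (↥S × ↥S) := by
              ext z <;> simp [mul_assoc]
            rw [h2, Subgroup.map_id]⟩
          trans := fun {A B C} ⟨g, hg⟩ ⟨g', hg'⟩ => ⟨g' * g, by
            subst hg hg'
            rw [Subgroup.map_map]
            congr 1
            ext z <;> simp [mul_assoc]⟩ } }
  refine ⟨fun D => (Quotient.mk s D).out, fun D => ?_, fun D g => ?_⟩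
  · exact s.symm' (Quotient.mk_out (s := s) D)
  · exact congrArg Quotient.out (Quotient.sound (s.symm' ⟨g, rfl⟩))

/-- A chosen conjugate of each subgroup of `Ω`, constant on `S`-conjugacy classes. -/
theorem exists_rep_range (S : Subgroup Ω) :
    ∃ rep : Subgroup Ω → Subgroup Ω,
      (∀ Q, ∃ b ∈ S, rep Q = Q.map (MulAut.conj b).toMonoidHom) ∧
      ∀ Q, ∀ b ∈ S, rep (Q.map (MulAut.conj b).toMonoidHom) = rep Q := by
  classical
  let s : Setoid (Subgroup Ω) :=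
    { r := fun A B => ∃ g ∈ S, B = A.map (MulAut.conj g).toMonoidHom
      iseqv :=
        { refl := fun A => ⟨1, S.one_mem, by rw [map_one]; exact (Subgroup.map_id A).symm⟩
          symm := fun {A B} ⟨g, hgS, hg⟩ => ⟨g⁻¹, S.inv_mem hgS, by
            subst hg
            rw [Subgroup.map_map]
            have h2 : (MulAut.conj g⁻¹).toMonoidHom.comp (MulAut.conj g).toMonoidHom =
                MonoidHom.id Ω := by
              ext z
              simp [mul_assoc]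
            rw [h2, Subgroup.map_id]⟩
          trans := fun {A B C} ⟨g, hgS, hg⟩ ⟨g', hgS', hg'⟩ => ⟨g' * g, S.mul_mem hgS' hgS, by
            subst hg hg'
            rw [Subgroup.map_map]
            congr 1
            ext z
            simp [mul_assoc]⟩ } }
  refine ⟨fun Q => (Quotient.mk s Q).out, fun Q => ?_, fun Q b hb => ?_⟩
  · exact s.symm' (Quotient.mk_out (s := s) Q)
  · exact congrArg Quotient.out (Quotient.sound (s.symm' ⟨b, hb, rfl⟩))

end Construction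

end Cfsg.Lib.FusionSys
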