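import Cfsg.Agent.Lib.FusionSys.Biset

/-!
Existence of characteristic bisets of saturated fusion systems.
-/

set_option autoImplicit false

universe u

namespace Cfsg.Lib.FusionSys

open Cfsg Cfsg.FusionSystem
open MulAction

variable {Ω : Type u} [Group Ω] {S : Subgroup Ω} {F : FusionSystem S}

theorem mark_sigma {G : Type*} [Group G] {ι : Type*} [Fintype ι] {X : ι → Type*}
    [∀ i, MulAction G (X i)] [∀ i, Finite (X i)] (E : Subgroup G) :
    mark (Σ i, X i) E = ∑ i, mark (X i) E := by
  classical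
  simp only [mark]
  rw [← Nat.card_sigma]
  refine Nat.card_congr
    { toFun := fun z => ⟨z.1.1, z.1.2, fun e he => ?_⟩
      invFun := fun z => ⟨⟨z.1, z.2.1⟩, fun e he => ?_⟩
      left_inv := fun z => rfl
      right_inv := fun z => rfl }
  · have h := z.2 e he
    obtain ⟨⟨i, x⟩, hz⟩ := z
    simpa [Sigma.smul_mk] using h
  · rw [Sigma.smul_mk, z.2.2 e he]

/-- A finite biset of the system that is stable above `n` and has orbit number prime to `p`. -/
def HasBiset (F : FusionSystem S) (p n : ℕ) : Prop :=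
  ∃ (X : Type u) (_ : MulAction (↥S × ↥S) X) (_ : Finite X),
    GraphStabilizers F X ∧ StableAbove F X n ∧
      ∃ m : ℕ, Nat.card X = m * Nat.card S ∧ ¬ p ∣ m

theorem graphStabilizers_sigma {ι : Type u} (D : ι → Subgroup (↥S × ↥S))
    (hD : ∀ i, ∃ Q, IsGraph F (D i) Q) :
    GraphStabilizers F (Σ i, (↥S × ↥S) ⧸ D i) := by
  rintro ⟨i, x⟩
  induction x using QuotientGroup.induction_on with
  | H g =>
    obtain ⟨Q, hQ⟩ := hD i
    refine ⟨_, (show stabilizer (↥S × ↥S) (⟨i, (g : (↥S × ↥S) ⧸ D i)⟩ : Σ i, (↥S × ↥S) ⧸ D i) =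
      (D i).map (MulAut.conj g).toMonoidHom from ?_) ▸ hQ.conj g⟩
    ext e
    rw [mem_stabilizer_iff, Sigma.smul_mk]
    constructor
    · intro h
      have h1 : e • (g : (↥S × ↥S) ⧸ D i) = g := eq_of_heq (Sigma.mk.inj_iff.1 h).2
      rw [MulAction.Quotient.smul_coe, QuotientGroup.eq, smul_eq_mul] at h1
      refine ⟨g⁻¹ * e * g, ?_, by simp [mul_assoc]⟩
      have h2 := (D i).inv_mem h1
      simpa [mul_assoc] using h2
    · rintro ⟨d, hd, rfl⟩
      congr 1
      rw [MulAction.Quotient.smul_coe, QuotientGroup.eq, smul_eq_mul]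
      simpa [mul_assoc] using (D i).inv_mem hd

variable [Finite S] {p : ℕ} [Fact p.Prime]

theorem weight_pos (D : Subgroup (↥S × ↥S)) : 0 < weight D := by
  rw [weight]
  exact Nat.pos_of_ne_zero Subgroup.index_ne_zero_of_finite

theorem hasBiset_top (hS : IsPGroup p S) (hF : F.IsSaturated p) :
    HasBiset F p (Nat.card S - 1) := by
  classical
  obtain ⟨-, -, R, hR⟩ := isFullyAutomized_and_fc_of_fn hS hF (isFullyNormalized_top F)
  let A := F.autGroup S
  let I : Subgroup A := (Inn ↥S).subgroupOf A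
  haveI : Fintype (A ⧸ I) := Fintype.ofFinite _
  have hmem : ∀ α : A, S.subtype.comp (α : MulAut S).toMonoidHom ∈ F.Hom S :=
    fun α => (mem_autGroup le_rfl).1 α.2
  have hrange : ∀ α : A, (S.subtype.comp (α : MulAut S).toMonoidHom).range = S := by
    intro α
    ext y
    constructor
    · rintro ⟨x, rfl⟩
      exact ((α : MulAut S) x).2
    · intro hy
      exact ⟨(α : MulAut S)⁻¹ ⟨y, hy⟩, by simp⟩
  let D : A → Subgroup (↥S × ↥S) := fun α => (graphHom (hmem α)).range
  have hDg : ∀ α, IsGraph F (D α) S := fun α =>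
    ⟨S, _, hmem α, hrange α, rfl⟩
  -- every top graph is one of these
  have hall : ∀ E, IsGraph F E S → ∃ α, E = D α := by
    rintro E ⟨P, φ, hφ, hφr, rfl⟩
    have hP : P = S := eq_of_le_of_card_le le_rfl (hom_le hφ) (by rw [← card_range hφ, hφr])
    subst hP
    refine ⟨⟨homIso hφ hφr, (mem_autGroup le_rfl).2 (isoIn_homIso hφ hφr)⟩, ?_⟩
    ext z
    rw [mem_graph, mem_graph]
    rfl
  have hmemD : ∀ α z, z ∈ D α ↔ z.2 = (α : MulAut S) z.1 := by
    intro α z
    rw [mem_graph]
    constructor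
    · rintro ⟨x, h1, h2⟩
      have hx : z.1 = x := Subtype.ext h1
      rw [hx]
      exact Subtype.ext h2
    · intro h
      exact ⟨z.1, rfl, by rw [h]; rfl⟩
  -- conjugate graphs are those in one coset of `Inn`
  have hconj : ∀ α β : A,
      (∃ g, D β = (D α).map (MulAut.conj g).toMonoidHom) ↔ (α : A ⧸ I) = β := by
    intro α β
    rw [QuotientGroup.eq, Subgroup.mem_subgroupOf]
    constructor
    · rintro ⟨⟨a, b⟩, hg⟩
      refine ⟨(α : MulAut S)⁻¹ b * a⁻¹, MulEquiv.ext fun x => ?_⟩
      have h1 : (x, (β : MulAut S) x) ∈ D β := (hmemD β _).2 rfl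
      rw [hg] at h1
      obtain ⟨⟨y, z⟩, hyz, he⟩ := h1
      rw [SetLike.mem_coe, hmemD] at hyz
      simp only [MulEquiv.coe_toMonoidHom, MulAut.conj_apply, Prod.mk_mul_mk, Prod.inv_mk,
        Prod.mk.injEq] at he
      obtain ⟨rfl, he2⟩ := he
      simp only at hyz
      subst hyz
      show (α : MulAut S)⁻¹ b * a⁻¹ * (a * y * a⁻¹) * ((α : MulAut S)⁻¹ b * a⁻¹)⁻¹ =
        (α : MulAut S)⁻¹ ((β : MulAut S) (a * y * a⁻¹))
      rw [← he2, map_mul, map_mul, map_inv, MulAut.inv_apply_self]
      group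
    · rintro ⟨c, hc⟩
      refine ⟨(1, (α : MulAut S) c), ?_⟩
      have hβ : ∀ x, (β : MulAut S) x =
          (α : MulAut S) c * (α : MulAut S) x * ((α : MulAut S) c)⁻¹ := by
        intro x
        have h2 : c * x * c⁻¹ = (α : MulAut S)⁻¹ ((β : MulAut S) x) := by
          have h3 := congrArg (fun f : MulAut S => f x) hc
          simpa using h3
        rw [← map_mul, ← map_inv, ← map_mul, h2, MulAut.apply_inv_self]
      ext ⟨y, z⟩
      rw [hmemD]
      constructor
      · intro h
        simp only at h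
        refine ⟨(y, (α : MulAut S) y), (hmemD α _).2 rfl, ?_⟩
        simp [h, hβ]
      · rintro ⟨⟨u, v⟩, huv, he⟩
        rw [SetLike.mem_coe, hmemD] at huv
        simp only at huv
        subst huv
        simp only [MulEquiv.coe_toMonoidHom, MulAut.conj_apply, Prod.mk_mul_mk, Prod.inv_mk,
          Prod.mk.injEq] at he
        obtain ⟨rfl, rfl⟩ := he
        simp [hβ]
  have hw : ∀ α β, weight (D α) = weight (D β) := by
    intro α β
    let Φ : ↥S × ↥S ≃* ↥S × ↥S :=
      MulEquiv.prodCongr (MulEquiv.refl S)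
        (((α : MulAut S).symm).trans (β : MulAut S))
    have hΦ : (D α).map Φ.toMonoidHom = D β := by
      ext ⟨y, z⟩
      rw [hmemD]
      constructor
      · rintro ⟨⟨u, v⟩, huv, he⟩
        rw [SetLike.mem_coe, hmemD] at huv
        simp only at huv
        subst huv
        obtain ⟨h1, h2⟩ := Prod.ext_iff.1 he
        subst h1 h2
        show (β : MulAut S) ((α : MulAut S).symm ((α : MulAut S) u)) = (β : MulAut S) u
        rw [MulEquiv.symm_apply_apply]
      · intro h
        simp only at h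
        subst h
        refine ⟨(y, (α : MulAut S) y), (hmemD α _).2 rfl, ?_⟩
        show (y, (β : MulAut S) ((α : MulAut S).symm ((α : MulAut S) y))) = _
        rw [MulEquiv.symm_apply_apply]
    have h1 := weight_mul_card (D α)
    have h2 := weight_mul_card (D β)
    rw [← hΦ, ← Subgroup.map_equiv_normalizer_eq (D α) Φ,
      ← Nat.card_congr ((Subgroup.normalizer (D α : Set (↥S × ↥S))).equivMapOfInjective _
        Φ.injective).toEquiv,
      ← Nat.card_congr ((D α).equivMapOfInjective _ Φ.injective).toEquiv, ← h1] at h2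
    rw [← hΦ]
    exact (Nat.eq_of_mul_eq_mul_left Nat.card_pos h2).symm
  refine ⟨Σ q : A ⧸ I, (↥S × ↥S) ⧸ D q.out, inferInstance, inferInstance,
    graphStabilizers_sigma _ fun q => ⟨S, hDg _⟩, ?_, Nat.card (A ⧸ I), ?_, ?_⟩
  · intro Q E E' hQ hE hE'
    have hQS : Q = S := eq_of_le_of_card_le le_rfl hE.range_le (by omega)
    subst hQS
    suffices ∀ E, IsGraph F E Q →
        mark (Σ q : A ⧸ I, (↥Q × ↥Q) ⧸ D q.out) E = weight (D 1) by rw [this E hE, this E' hE']
    intro E hE
    obtain ⟨α, rfl⟩ := hall E hE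
    rw [mark_sigma, Finset.sum_eq_single (α : A ⧸ I)]
    · obtain ⟨g, hg⟩ := (hconj _ α).2 (QuotientGroup.out_eq' (α : A ⧸ I))
      rw [hg, mark_map_conj, mark_quotient_self]
      exact hw _ _
    · intro q _ hq
      by_contra h0
      obtain ⟨g, hg⟩ := eq_conj_of_mark_quotient_pos
        (by rw [(hDg _).card, (hDg _).card]) (Nat.pos_of_ne_zero h0)
      exact hq (((QuotientGroup.out_eq' q).symm).trans ((hconj _ α).1 ⟨g, hg⟩))
    · simp
  · have h1 : ∀ q : A ⧸ I, Nat.card ((↥S × ↥S) ⧸ D q.out) = Nat.card S := by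
      intro q
      have h2 := Subgroup.card_eq_card_quotient_mul_card_subgroup (D q.out)
      rw [(hDg _).card, Nat.card_prod] at h2
      exact (Nat.eq_of_mul_eq_mul_right Nat.card_pos h2).symm
    rw [Nat.card_sigma, Finset.sum_congr rfl (fun q _ => h1 q), Finset.sum_const,
      Finset.card_univ, smul_eq_mul, Nat.card_eq_fintype_card (α := A ⧸ I)]
  · intro h
    refine R.not_dvd_index ?_
    rw [hR]
    refine h.trans (dvd_of_eq ?_)
    show I.index = _
    congr 1
    ext a
    simp only [I, Subgroup.mem_subgroupOf, mem_autInducedBy]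
    constructor
    · rintro ⟨c, hc⟩
      exact ⟨c, c.2, fun x => by rw [← hc]; rfl⟩
    · rintro ⟨g, hg, hga⟩
      exact ⟨⟨g, hg⟩, MulEquiv.ext fun x => Subtype.ext (hga x).symm⟩

theorem hasBiset_step (hS : IsPGroup p S) (hF : F.IsSaturated p) {n : ℕ}
    (hn : n < Nat.card S) (h : HasBiset F p n) : HasBiset F p (n - 1) := by
  classical
  rcases Nat.eq_zero_or_pos n with rfl | hnpos
  · exact h
  obtain ⟨X, _, _, hX, hst, m, hm, hpm⟩ := h
  obtain ⟨repD, hrepD, hrepD'⟩ := exists_representatives F n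
  obtain ⟨repQ, hrepQ, hrepQ'⟩ := exists_rep_range S
  -- targets
  have href : ∀ Q : Subgroup Ω, ∃ t : ℕ, Q ≤ S → Nat.card Q = n → ∀ D, IsGraph F D Q →
      mark X D ≤ t ∧ (t : ℤ) ≡ mark X D [ZMOD weight D] := by
    intro Q
    by_cases hQ : Q ≤ S ∧ Nat.card Q = n
    · obtain ⟨D₀, -, hD⟩ := exists_reference hS hF hX hQ.1 hQ.2.symm hst
      refine ⟨mark X D₀ + weight D₀ * Nat.card X, fun _ _ D hDg => ⟨?_, ?_⟩⟩
      · have h1 : mark X D ≤ Nat.card X :=
          Nat.card_le_card_of_injective _ Subtype.val_injective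
        have h2 := weight_pos D₀
        calc mark X D ≤ Nat.card X := h1
          _ ≤ weight D₀ * Nat.card X := Nat.le_mul_of_pos_left _ h2
          _ ≤ _ := Nat.le_add_left _ _
      · obtain ⟨hdvd, hcong⟩ := hD D hDg
        refine Int.ModEq.trans ?_ hcong.symm
        push_cast
        refine Int.modEq_iff_dvd.2 ?_
        have h3 : (weight D : ℤ) ∣ (weight D₀ : ℤ) * (Nat.card X : ℤ) :=
          Dvd.dvd.mul_right (Int.natCast_dvd_natCast.2 hdvd) _
        simpa using h3.neg_right
    · exact ⟨0, fun h1 h2 => absurd ⟨h1, h2⟩ hQ⟩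
  choose t ht using href
  -- the deficiency of a graph
  let Good : Subgroup (↥S × ↥S) → Prop := fun D => ∃ Q, IsGraph F D Q ∧ Nat.card Q = n
  have hc : ∀ D, ∃ c : ℕ, ∀ Q, IsGraph F D Q → Nat.card Q = n →
      mark X D + c * weight D = t (repQ Q) := by
    intro D
    by_cases hD : Good D
    · obtain ⟨Q, hQ, hQn⟩ := hD
      obtain ⟨b, hb, hbQ⟩ := hrepQ Q
      have hQ' := hQ.conj ((1 : S), ⟨b, hb⟩)
      rw [← hbQ] at hQ'
      have hcard : Nat.card (repQ Q) = n := by
        rw [hbQ, ← Nat.card_congr (Q.equivMapOfInjective _ (MulAut.conj b).injective).toEquiv, hQn]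
      obtain ⟨hle, hcong⟩ := ht (repQ Q) hQ'.range_le hcard _ hQ'
      rw [mark_map_conj] at hle hcong
      rw [mark_quotient_conj] at hcong
      have h1 : weight D ∣ t (repQ Q) - mark X D := by
        have h2 := Int.modEq_iff_dvd.1 hcong.symm
        rw [← Int.natCast_dvd_natCast, Nat.cast_sub hle]
        exact h2
      obtain ⟨c, hc⟩ := h1
      refine ⟨c, fun Q' hQ'' _ => ?_⟩
      rw [hQ''.range_unique hQ, mul_comm c, ← hc]
      omega
    · exact ⟨0, fun Q hQ hQn => absurd ⟨Q, hQ, hQn⟩ hD⟩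
  choose c hc using hc
  have hcconj : ∀ D g, Good D → c (D.map (MulAut.conj g).toMonoidHom) = c D := by
    rintro D g ⟨Q, hQ, hQn⟩
    have h2 := hc D Q hQ hQn
    have hcard : Nat.card (Q.map (MulAut.conj (g.2 : Ω)).toMonoidHom) = n := by
      rw [← Nat.card_congr (Q.equivMapOfInjective _ (MulAut.conj (g.2 : Ω)).injective).toEquiv, hQn]
    have h3 := hc _ _ (hQ.conj g) hcard
    rw [mark_map_conj, mark_quotient_conj, hrepQ' Q _ g.2.2, ← h2] at h3
    exact Nat.eq_of_mul_eq_mul_right (weight_pos D) (Nat.add_left_cancel h3)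
  let Idx : Type u := Σ D : {D : Subgroup (↥S × ↥S) // Good D ∧ repD D = D}, Fin (c D.1)
  letI : Fintype {D : Subgroup (↥S × ↥S) // Good D ∧ repD D = D} := Fintype.ofFinite _
  letI : Fintype Idx := Sigma.instFintype
  let Y : Type u := Σ i : Idx, (↥S × ↥S) ⧸ i.1.1
  have hY : GraphStabilizers F Y := graphStabilizers_sigma _ fun i => by
    obtain ⟨⟨Q, hQ, -⟩, -⟩ := i.1.2
    exact ⟨Q, hQ⟩
  have hcardD : ∀ i : Idx, Nat.card i.1.1 = n := fun i => by
    obtain ⟨⟨Q, hQ, hQn⟩, -⟩ := i.1.2
    rw [hQ.card, hQn]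
  refine ⟨X ⊕ Y, inferInstance, inferInstance, ?_, ?_, ?_⟩
  · rintro (x | y)
    · obtain ⟨Q, hQ⟩ := hX x
      refine ⟨Q, ?_⟩
      convert hQ using 1
      ext g
      simp [mem_stabilizer_iff, Sum.smul_inl]
    · obtain ⟨Q, hQ⟩ := hY y
      refine ⟨Q, ?_⟩
      convert hQ using 1
      ext g
      simp [mem_stabilizer_iff, Sum.smul_inr]
  · intro Q E E' hQ hE hE'
    rw [mark_sum, mark_sum]
    rcases Nat.lt_or_ge n (Nat.card Q) with hlt | hge
    · have hz : ∀ E, IsGraph F E Q → mark Y E = 0 := by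
        intro E hE
        rw [mark_sigma, Finset.sum_eq_zero]
        intro i _
        by_contra h0
        have hle : Nat.card i.1.1 ≤ Nat.card E := by rw [hcardD i, hE.card]; omega
        obtain ⟨g, hg⟩ := eq_conj_of_mark_quotient_pos hle (Nat.pos_of_ne_zero h0)
        have h1 : Nat.card E = n := by
          rw [hg, ← Nat.card_congr
            (i.1.1.equivMapOfInjective _ (MulAut.conj g).injective).toEquiv, hcardD i]
        rw [hE.card] at h1
        omega
      rw [hz E hE, hz E' hE', hst Q E E' hlt hE hE']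
    · have hQn : Nat.card Q = n := by omega
      suffices ∀ E, IsGraph F E Q → mark X E + mark Y E = t (repQ Q) by
        rw [this E hE, this E' hE']
      intro E hE
      obtain ⟨g, hg⟩ := hrepD E
      have hgood : Good (repD E) := by
        rw [hg]
        refine ⟨_, hE.conj g, ?_⟩
        rw [← Nat.card_congr (Q.equivMapOfInjective _ (MulAut.conj (g.2 : Ω)).injective).toEquiv,
          hQn]
      have hfix : repD (repD E) = repD E := by
        conv_lhs => rw [hg]
        exact hrepD' E g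
      have hterm : ∀ i : Idx, mark ((↥S × ↥S) ⧸ i.1.1) E =
          if i.1 = ⟨repD E, hgood, hfix⟩ then weight E else 0 := by
        intro i
        split_ifs with hi
        · rw [hi]
          show mark ((↥S × ↥S) ⧸ repD E) E = _
          rw [← mark_map_conj g E, ← hg, mark_quotient_self]
          conv_lhs => rw [hg]
          exact mark_quotient_conj g E
        · by_contra h0
          obtain ⟨g', hg'⟩ := eq_conj_of_mark_quotient_pos
            (by rw [hcardD i, hE.card, hQn]) (Nat.pos_of_ne_zero h0)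
          refine hi (Subtype.ext ?_)
          rw [← i.1.2.2]
          show repD i.1.1 = repD E
          rw [hg', hrepD']
      rw [show mark Y E = c (repD E) * weight E from ?_, show c (repD E) = c E from ?_]
      · exact hc E Q hE hQn
      · rw [hg]
        exact hcconj E g ⟨Q, hE, hQn⟩
      rw [mark_sigma, Finset.sum_congr rfl fun i _ => hterm i]
      refine Eq.trans (Fintype.sum_sigma _) ?_
      rw [Finset.sum_eq_single (⟨repD E, hgood, hfix⟩ :
        {D : Subgroup (↥S × ↥S) // Good D ∧ repD D = D})]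
      · simp
      · intro b _ hb
        exact Finset.sum_eq_zero fun j _ => if_neg hb
      · simp
  · have hp : ∀ i : Idx, ∃ k, Nat.card ((↥S × ↥S) ⧸ i.1.1) = Nat.card S * (p * k) := by
      intro i
      obtain ⟨a, ha⟩ := IsPGroup.iff_card.mp hS
      obtain ⟨b, hb⟩ := card_pow_of_pGroup hS i.1.1
      have hlt : p ^ b < p ^ a := by rw [← hb, ← ha, hcardD i]; exact hn
      have hba : b < a := (Nat.pow_lt_pow_iff_right (Fact.out : p.Prime).one_lt).1 hlt
      refine ⟨p ^ (a - b - 1), ?_⟩
      have h2 := Subgroup.card_eq_card_quotient_mul_card_subgroup i.1.1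
      rw [Nat.card_prod, hb, ha] at h2
      rw [ha]
      refine Nat.eq_of_mul_eq_mul_right (pow_pos (Fact.out : p.Prime).pos b) ?_
      rw [← h2, mul_assoc (p ^ a), ← pow_succ']
      congr 1
      rw [← pow_add]
      congr 1
      omega
    choose k hk using hp
    refine ⟨m + p * ∑ i, k i, ?_, fun h' => hpm ((Nat.dvd_add_left (dvd_mul_right p _)).1 h')⟩
    rw [Nat.card_sum, hm, add_mul, Nat.card_sigma, Finset.sum_congr rfl fun i _ => hk i,
      ← Finset.mul_sum, ← Finset.mul_sum]
    ring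

/-- A characteristic biset. -/
theorem exists_biset (hS : IsPGroup p S) (hF : F.IsSaturated p) : HasBiset F p 0 := by
  suffices ∀ k, HasBiset F p (Nat.card S - 1 - k) by
    have h := this (Nat.card S - 1)
    rwa [Nat.sub_self] at h
  intro k
  induction k with
  | zero => exact hasBiset_top hS hF
  | succ k ih =>
    have h : Nat.card S - 1 - k < Nat.card S := by
      have := Nat.card_pos (α := S)
      omega
    rw [show Nat.card S - 1 - (k + 1) = Nat.card S - 1 - k - 1 by omega]
    exact hasBiset_step hS hF h ih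

end Cfsg.Lib.FusionSys
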