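import Cfsg.Agent.Lib.FusionSys.CenterThompson
import Cfsg.Agent.Lib.FusionSys.Transfer

/-!
# The centre of a fusion system: Glauberman's theorem and the direct factor property
-/

set_option autoImplicit false
set_option linter.style.haveILetI false

universe u

namespace Cfsg.Lib.FusionSys

open Cfsg Cfsg.FusionSystem

variable {p : ℕ} {Ω : Type u} [Group Ω] {S : Subgroup Ω} [Finite S] [Fact p.Prime]

theorem commute_of_mem_center {T : Subgroup Ω} [Finite T] (F : FusionSystem T) {z : Ω}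
    (hz : z ∈ F.center) {g : Ω} (hg : g ∈ T) : g * z = z * g := by
  have hzT : z ∈ T := (isCentral_center F).1 hz
  exact commute_of_conj_eq
    (center_fixed F hz (y := (⟨z, hzT⟩ : T)) (F.conj_mem le_rfl hg) rfl)

theorem mem_center_iff' (hS : IsPGroup p S) {F : FusionSystem S} (hF : F.IsSaturated p) {z : Ω} :
    z ∈ F.center ↔ z ∈ S ∧ ∀ (R : Subgroup Ω), ∀ φ ∈ F.Hom R, ∀ hx : z ∈ R, φ ⟨z, hx⟩ = z := by
  refine ⟨fun hz => ⟨(isCentral_center F).1 hz, fun R φ hφ hx => center_fixed F hz hφ rfl⟩, ?_⟩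
  rintro ⟨hzS, hfix⟩
  refine (le_sSup (show F.IsCentral (Subgroup.zpowers z) from
    (isCentral_iff hS hF _).2 ⟨Subgroup.zpowers_le.2 hzS, ?_⟩) : Subgroup.zpowers z ≤ F.center)
    (Subgroup.mem_zpowers z)
  rintro _ ⟨i, rfl⟩ _ ⟨φ, hφ, rfl⟩
  by_cases hzi : z ∈ Subgroup.zpowers (z ^ i)
  · have h1 : (⟨z ^ i, Subgroup.mem_zpowers _⟩ : Subgroup.zpowers (z ^ i)) = ⟨z, hzi⟩ ^ i :=
      Subtype.ext (by simp)
    rw [h1, map_zpow, hfix _ φ hφ hzi]
  · -- extend to a map whose source contains `z`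
    have hzc : ∀ g ∈ S, Commute g z := fun g hg =>
      commute_of_conj_eq (hfix S _ (F.conj_mem le_rfl hg) hzS)
    obtain ⟨W, hconj, hn⟩ := exists_isFullyNormalized F (hom_le hφ)
    have hzC : ∀ R : Subgroup Ω, R ≤ S → z ∈ centralizerIn S R := fun R hR =>
      mem_centralizerIn.2 ⟨hzS, fun y hy => (hzc y (hR hy)).symm.eq⟩
    obtain ⟨χ, hχ, -, hχW⟩ := exists_map_to_fn hS hF hn hconj
    have hWi : Subgroup.zpowers (z ^ i) ≤ normalizerIn S (Subgroup.zpowers (z ^ i)) :=
      le_normalizerIn (hom_le hφ)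
    have hχz : χ ⟨z ^ i, hWi (Subgroup.mem_zpowers _)⟩ = z ^ i := by
      have hzN : z ∈ normalizerIn S (Subgroup.zpowers (z ^ i)) :=
        centralizerIn_le_normalizerIn _ (hzC _ (hom_le hφ))
      rw [show (⟨z ^ i, hWi (Subgroup.mem_zpowers _)⟩ : normalizerIn S (Subgroup.zpowers (z ^ i))) =
        ⟨z, hzN⟩ ^ i from Subtype.ext (by simp), map_zpow, hfix _ χ hχ hzN]
    have hrec := isReceptive_of_fc hS hF (isFullyAutomized_and_fc_of_fn hS hF hn).1
    -- the inverse of `φ` followed by `χ`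
    obtain ⟨η, hη, hηr, hηe⟩ := exists_inv hφ (rfl : φ.range = φ.range)
    have hηv : ∀ y, η y ∈ normalizerIn S (Subgroup.zpowers (z ^ i)) := fun y =>
      hWi (hηr.le ⟨y, rfl⟩)
    have hθ := F.comp_mem hη hχ hηv
    set θ := χ.comp (η.codRestrict (normalizerIn S (Subgroup.zpowers (z ^ i))) hηv)
    have hθr : θ.range = W := by
      rw [← hχW]
      ext y
      rw [mem_map_subgroupOf]
      constructor
      · rintro ⟨a, rfl⟩
        exact ⟨_, hηv a, hηr.le ⟨a, rfl⟩, rfl⟩
      · rintro ⟨b, hb, hbW, rfl⟩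
        obtain ⟨a, ha⟩ := hηr.ge hbW
        exact ⟨a, congrArg χ (Subtype.ext ha)⟩
    obtain ⟨Θ, hΘ, hΘe⟩ := hrec.2 _ θ hθ hθr
    have hzE : z ∈ extender S φ.range θ := centralizerIn_le_extender _ (hzC _ (range_le hφ))
    set b := φ ⟨z ^ i, Subgroup.mem_zpowers _⟩ with hbdef
    have hbE : b ∈ extender S φ.range θ := le_extender (range_le hφ) (hom_mem hθ) ⟨_, rfl⟩
    have hb : Θ ⟨b, hbE⟩ = z ^ i := by
      rw [hΘe b ⟨_, rfl⟩ hbE]
      show χ ⟨η ⟨b, _⟩, _⟩ = _
      refine Eq.trans ?_ hχz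
      exact congrArg χ (Subtype.ext (hηe ⟨z ^ i, Subgroup.mem_zpowers _⟩ _))
    have h2 : Θ ⟨b, hbE⟩ = Θ (⟨z, hzE⟩ ^ i) := by rw [map_zpow, hfix _ Θ hΘ hzE, hb]
    simpa using congrArg Subtype.val (F.injective_of_mem hΘ h2)

theorem normalizer_thompson_eq (S : Subgroup Ω) [Finite S] :
    normalizerIn S (thompsonSubgroupAOf S) = S :=
  normalizerIn_eq_self
    (Subgroup.le_normalizer.trans (le_normalizer_of_char (thompsonAOf_le S) (thompsonAOf_char S)))

theorem isFullyNormalized_thompson (F : FusionSystem S) :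
    F.IsFullyNormalized (thompsonSubgroupAOf S) :=
  ⟨thompsonAOf_le S, fun Q _ => by rw [normalizer_thompson_eq S]; exact card_le_of_le (normalizerIn_le Q)⟩

/-- Glauberman: powers `z ^ q` central in the normalizer of `J(S)` are central. -/
theorem mem_center_of_mem_center_normalizer (hS : IsPGroup p S) {F : FusionSystem S}
    (hF : F.IsSaturated p) {N : FusionSystem (normalizerIn S (thompsonSubgroupAOf S))}
    (hN : F.IsNormalizerSystem (thompsonSubgroupAOf S) N) (q : ℕ)
    (hgood : p ≠ 2 ∨ (p = 2 ∧ (q = 2 ∨ F.IsSectionFree p (Equiv.Perm (Fin 4)))))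
    {z : Ω} (hz : z ∈ S ⊓ Subgroup.centralizer (S : Set Ω)) (hzN : z ^ q ∈ N.center) :
    z ^ q ∈ F.center := by
  refine mem_center_of_thompson hS hF hz q hgood fun α hα hx => ?_
  haveI := finite_of_le (normalizerIn_le (S := S) (thompsonSubgroupAOf S))
  have hJS := thompsonAOf_le S
  have hi := (mem_autGroup hJS).1 hα
  have hαN : (thompsonSubgroupAOf S).subtype.comp α.toMonoidHom ∈ N.Hom (thompsonSubgroupAOf S) :=
    mem_normalizerSystem_of_le hN hi le_rfl (le_normalizerIn hJS) (by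
      rw [Subgroup.subgroupOf_self, ← MonoidHom.range_eq_map]
      exact range_eq_of_card_le hi hJS (fun a => (α a).2) le_rfl)
  exact center_fixed N hzN (y := (⟨z ^ q, hx⟩ : thompsonSubgroupAOf S)) hαN rfl

theorem center_le_center_normalizer (hS : IsPGroup p S) {F : FusionSystem S}
    (hF : F.IsSaturated p) {N : FusionSystem (normalizerIn S (thompsonSubgroupAOf S))}
    (hN : F.IsNormalizerSystem (thompsonSubgroupAOf S) N) : F.center ≤ N.center := by
  intro z hz
  haveI := finite_of_le (normalizerIn_le (S := S) (thompsonSubgroupAOf S))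
  refine (mem_center_iff' (hS.to_le (normalizerIn_le _))
    (isSaturated_normalizerSystem hS hF (isFullyNormalized_thompson F) hN)).2
    ⟨(normalizer_thompson_eq S).symm ▸ (isCentral_center F).1 hz, fun R φ hφ hx => ?_⟩
  exact center_fixed F hz (y := (⟨z, hx⟩ : R)) (subset_of_normalizerSystem hN hφ) rfl

theorem center_eq_center_normalizer (hS : IsPGroup p S) {F : FusionSystem S}
    (hF : F.IsSaturated p) {N : FusionSystem (normalizerIn S (thompsonSubgroupAOf S))}
    (hN : F.IsNormalizerSystem (thompsonSubgroupAOf S) N)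
    (hgood : p ≠ 2 ∨ F.IsSectionFree p (Equiv.Perm (Fin 4))) : N.center = F.center := by
  refine le_antisymm (fun z hz => ?_) (center_le_center_normalizer hS hF hN)
  haveI := finite_of_le (normalizerIn_le (S := S) (thompsonSubgroupAOf S))
  have hzS : z ∈ S := normalizerIn_le _ ((isCentral_center N).1 hz)
  have hzc : z ∈ S ⊓ Subgroup.centralizer (S : Set Ω) := ⟨hzS, Subgroup.mem_centralizer_iff.2
    fun g hg => commute_of_mem_center N hz ((normalizer_thompson_eq S).symm ▸ hg)⟩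
  have hgood' : p ≠ 2 ∨ (p = 2 ∧ (1 = 2 ∨ F.IsSectionFree p (Equiv.Perm (Fin 4)))) := by
    by_cases h : p = 2
    · exact Or.inr ⟨h, Or.inr (hgood.resolve_left (not_not.2 h))⟩
    · exact Or.inl h
  simpa using mem_center_of_mem_center_normalizer hS hF hN 1 hgood' hzc (by simpa using hz)

/-- If `Z(S) ≤ O_p(F)`, the centre of `F` is a direct factor of `Z(S)`. -/
theorem center_direct_factor_of_le_core (hS : IsPGroup p S) {F : FusionSystem S}
    (hF : F.IsSaturated p) (hZ : S ⊓ Subgroup.centralizer (S : Set Ω) ≤ F.core) :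
    ∃ K : Subgroup Ω, K ≤ S ⊓ Subgroup.centralizer (S : Set Ω) ∧ F.center ⊓ K = ⊥ ∧
      F.center ⊔ K = S ⊓ Subgroup.centralizer (S : Set Ω) := by
  classical
  set C := S ⊓ Subgroup.centralizer (S : Set Ω) with hCdef
  set Q := F.core
  have hQ : F.IsNormal Q := isNormal_core F
  set Z := Q ⊓ Subgroup.centralizer (Q : Set Ω) with hZdef
  have hZS : Z ≤ S := inf_le_left.trans hQ.1
  have hCZ : C ≤ Z := fun c hc => ⟨hZ hc, Subgroup.centralizer_le hQ.1 hc.2⟩
  have hZn : F.IsNormal Z := by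
    refine isNormal_of_characteristic hQ inf_le_left ?_
    have h : Z.subgroupOf Q = Subgroup.center Q := by
      ext y
      rw [Subgroup.mem_subgroupOf, Subgroup.mem_center_iff]
      constructor
      · exact fun hy b => Subtype.ext (Subgroup.mem_centralizer_iff.1 hy.2 b b.2)
      · exact fun hy => ⟨y.2, Subgroup.mem_centralizer_iff.2 fun b hb =>
          congrArg Subtype.val (hy ⟨b, hb⟩)⟩
    rw [h]
    infer_instance
  letI : CommGroup Z := { (inferInstance : Group Z) with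
    mul_comm := fun a b => Subtype.ext (Subgroup.mem_centralizer_iff.1 b.2.2 (a : Ω) a.2.1) }
  haveI := finite_of_le hZS
  set A := F.autGroup Z with hA
  haveI : Finite (MulAut Z) :=
    Finite.of_injective (fun e : MulAut Z => (e : Z → Z)) DFunLike.coe_injective
  haveI : Finite A := inferInstance
  obtain ⟨-, -, R, hR⟩ := (isFullyAutomized_and_fc_of_fn hS hF (isFullyNormalized_of_isNormal hZn))
  set P := (autInducedBy S Z).subgroupOf A with hPdef
  letI : Fintype (A ⧸ P) := Fintype.ofFinite _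
  have hcenterC : F.center ≤ C := fun c hc =>
    ⟨(isCentral_center F).1 hc, Subgroup.mem_centralizer_iff.2 fun g hg => commute_of_mem_center F hc hg⟩
  have hPfix : ∀ a : A, a ∈ P → ∀ c ∈ C, ∀ hc : c ∈ Z, (a : MulAut Z) ⟨c, hc⟩ = ⟨c, hc⟩ := by
    intro a ha c hc hcZ
    obtain ⟨g, hg, hga⟩ := mem_autInducedBy.1 ha
    refine Subtype.ext ((hga ⟨c, hcZ⟩).trans ?_)
    show g * c * g⁻¹ = c
    rw [Subgroup.mem_centralizer_iff.1 hc.2 g hg, mul_inv_cancel_right]
  -- central elements are the fixed points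
  have hcentral : ∀ c ∈ C, ∀ hc : c ∈ Z, (∀ a : A, (a : MulAut Z) ⟨c, hc⟩ = ⟨c, hc⟩) → c ∈ F.center := by
    intro c hcC hc hfix
    refine (mem_center_iff' hS hF).2 ⟨hcC.1, fun R φ hφ hx => ?_⟩
    obtain ⟨ψ, hψ, hψe, hψZ⟩ := hZn.2 R φ hφ
    have hi := restrict_mem hψ (le_sup_right : Z ≤ R ⊔ Z)
    have hr : (ψ.comp (Subgroup.inclusion (le_sup_right : Z ≤ R ⊔ Z))).range = Z := by
      rw [← MonoidHom.map_range, Subgroup.inclusion_range]
      exact hψZ
    have h1 := congrArg Subtype.val (hfix ⟨homIso hi hr, (mem_autGroup hZS).2 (isoIn_homIso hi hr)⟩)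
    refine Eq.trans ?_ h1
    rw [← hψe ⟨c, hx⟩]
    exact congrArg ψ (Subtype.ext rfl)
  let f : C →* Z :=
    { toFun := fun c => ∏ t : A ⧸ P, (t.out : MulAut Z) ⟨c, hCZ c.2⟩
      map_one' := Finset.prod_eq_one fun t _ => map_one ((t.out : A) : MulAut Z)
      map_mul' := fun a b => by
        rw [← Finset.prod_mul_distrib]
        exact Finset.prod_congr rfl fun t _ =>
          map_mul ((t.out : A) : MulAut Z) (⟨a, hCZ a.2⟩ : Z) ⟨b, hCZ b.2⟩ }
  have hffix : ∀ (c : C) (a : A), (a : MulAut Z) (f c) = f c := by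
    intro c a
    show (a : MulAut Z) (∏ t : A ⧸ P, (t.out : MulAut Z) ⟨c, hCZ c.2⟩) = _
    rw [map_prod]
    refine Fintype.prod_equiv (MulAction.toPerm a) _ _ fun t => ?_
    show ((a * t.out : A) : MulAut Z) ⟨c, hCZ c.2⟩ = ((a • t).out : MulAut Z) ⟨c, hCZ c.2⟩
    have h1 : ((a • t).out)⁻¹ * (a * t.out) ∈ P := by
      rw [← QuotientGroup.eq, QuotientGroup.out_eq']
      conv_lhs => rw [← QuotientGroup.out_eq' t]
      rfl
    have h2 := hPfix _ h1 c c.2 (hCZ c.2)
    conv_lhs => rw [show a * t.out = (a • t).out * (((a • t).out)⁻¹ * (a * t.out)) by group]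
    rw [Subgroup.coe_mul, MulAut.mul_apply, h2]
  have hfC : ∀ c : C, ((f c : Z) : Ω) ∈ C := by
    intro c
    refine ⟨hZS (f c).2, Subgroup.mem_centralizer_iff.2 fun g hg => ?_⟩
    have hgn : g ∈ Subgroup.normalizer (Z : Set Ω) :=
      stronglyClosed_le_normalizer (isNormal_stronglyClosed hZn) hg
    exact commute_of_conj_eq (congrArg Subtype.val (hffix c
      ⟨conjAut Z hgn, autInducedBy_le_autGroup hZS (conjAut_mem_autInducedBy hgn hg)⟩))
  have hfcenter : ∀ c : C, ((f c : Z) : Ω) ∈ F.center := fun c =>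
    hcentral _ (hfC c) (f c).2 (hffix c)
  haveI := finite_of_le (inf_le_left : C ≤ S)
  set n := Nat.card (A ⧸ P) with hndef
  have hfz : ∀ (c : Ω) (hc : c ∈ F.center), (f ⟨c, hcenterC hc⟩ : Ω) = c ^ n := by
    intro c hc
    show (((∏ t : A ⧸ P, (t.out : MulAut Z) ⟨c, hCZ (hcenterC hc)⟩) : Z) : Ω) = _
    rw [Finset.prod_eq_pow_card (b := (⟨c, hCZ (hcenterC hc)⟩ : Z)) fun t _ => Subtype.ext
      (center_fixed F hc ((mem_autGroup hZS).1 (t.out : A).2) rfl), SubgroupClass.coe_pow,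
      Finset.card_univ, hndef, Nat.card_eq_fintype_card]
  have hcop : (Nat.card C).Coprime n := by
    obtain ⟨k, hk⟩ := IsPGroup.iff_card.1 (hS.to_le (inf_le_left : C ≤ S))
    rw [hk, hndef, ← Subgroup.index_eq_card]
    exact ((Nat.Prime.coprime_iff_not_dvd Fact.out).2 (hR ▸ R.not_dvd_index)).pow_left k
  refine ⟨f.ker.map C.subtype, Subgroup.map_subtype_le _, le_bot_iff.1 ?_,
    le_antisymm (sup_le hcenterC (Subgroup.map_subtype_le _)) fun c hc => ?_⟩
  · rintro _ ⟨hcF, ⟨c, hc, rfl⟩⟩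
    have h1 : c ^ n = 1 := Subtype.ext (by
      rw [SubgroupClass.coe_pow, ← hfz c hcF, show f ⟨c, hcenterC hcF⟩ = f c from rfl,
        show f c = 1 from hc]
      rfl)
    have h2 : c = 1 := (powCoprime hcop).injective (h1.trans (one_pow n).symm)
    rw [h2]; exact Subgroup.mem_bot.2 rfl
  · set b : C := ⟨(f ⟨c, hc⟩ : Ω), hfC ⟨c, hc⟩⟩
    set d : C := (powCoprime hcop).symm b with hd
    have hdn : d ^ n = b := (powCoprime hcop).apply_symm_apply b
    have hdF : (d : Ω) ∈ F.center := by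
      have h1 : d = b ^ (Nat.card C).gcdB n := rfl
      rw [h1, SubgroupClass.coe_zpow]
      exact F.center.zpow_mem (hfcenter _) _
    have hfd : f d = f ⟨c, hc⟩ := Subtype.ext (by
      rw [show f d = f ⟨(d : Ω), hcenterC hdF⟩ from rfl, hfz _ hdF, ← SubgroupClass.coe_pow, hdn])
    rw [show c = (d : Ω) * ((d : Ω)⁻¹ * c) by group]
    refine Subgroup.mul_mem_sup hdF ⟨d⁻¹ * ⟨c, hc⟩, ?_, rfl⟩
    show f (d⁻¹ * ⟨c, hc⟩) = 1
    rw [map_mul, map_inv, hfd, inv_mul_cancel]

theorem center_direct_factor_odd (hp : p ≠ 2) (hS : IsPGroup p S) {F : FusionSystem S}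
    (hF : F.IsSaturated p) :
    ∃ K : Subgroup Ω, K ≤ S ⊓ Subgroup.centralizer (S : Set Ω) ∧ F.center ⊓ K = ⊥ ∧
      F.center ⊔ K = S ⊓ Subgroup.centralizer (S : Set Ω) := by
  have hJS := thompsonAOf_le S
  obtain ⟨N, hN⟩ := exists_normalizerSystem F hJS
  haveI := finite_of_le (normalizerIn_le (S := S) (thompsonSubgroupAOf S))
  have hNc := center_eq_center_normalizer hS hF hN (Or.inl hp)
  have hle : S ⊓ Subgroup.centralizer (S : Set Ω) ≤ N.core := fun z hz => by
    refine (le_sSup (s := {Q : Subgroup Ω | N.IsNormal Q}) (isNormal_normalizerSystem hJS hN) :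
      thompsonSubgroupAOf S ≤ N.core) ?_
    exact mem_thompsonAOf hz.1 fun t ht => (Subgroup.mem_centralizer_iff.1 hz.2 t ht).symm
  have e := congrArg (fun T : Subgroup Ω => T ⊓ Subgroup.centralizer (T : Set Ω))
    (normalizer_thompson_eq S)
  have h := center_direct_factor_of_le_core (hS.to_le (normalizerIn_le _))
    (isSaturated_normalizerSystem hS hF (isFullyNormalized_thompson F) hN)
    (e.le.trans hle)
  rw [e, hNc] at h
  exact h

end Cfsg.Lib.FusionSys
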