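import Cfsg.Agent.Lib.FusionSys.FunctorStronglyClosed
import Cfsg.Agent.Lib.Local.CenterPowers

/-!
# Powers of the centre in a fusion system over a group of bounded class
-/

set_option autoImplicit false
set_option linter.style.haveILetI false

universe u

namespace Cfsg.Lib.FusionSys

open Cfsg Cfsg.FusionSystem

variable {p : ℕ}

/-- The subgroup of `p^n`-th powers of the centre of `T`. -/
def centerPow (p n : ℕ) {G : Type u} [Group G] (T : Subgroup G) : Subgroup G :=
  powerClosure p n (T ⊓ Subgroup.centralizer (T : Set G))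

theorem centerPow_le {n : ℕ} {G : Type u} [Group G] (T : Subgroup G) : centerPow p n T ≤ T :=
  (Subgroup.closure_le _).2 fun _ ⟨_, hx, he⟩ => he ▸ T.pow_mem hx.1 _

theorem map_centerPow {n : ℕ} {G H : Type u} [Group G] [Group H] (f : G →* H) (T : Subgroup G)
    (hf : Set.InjOn f T) : (centerPow p n T).map f = centerPow p n (T.map f) := by
  rw [centerPow, centerPow, powerClosure, powerClosure, MonoidHom.map_closure]
  congr 1
  ext y
  constructor
  · rintro ⟨_, ⟨x, ⟨hx, hxc⟩, rfl⟩, rfl⟩
    refine ⟨f x, ⟨Subgroup.mem_map_of_mem f hx, Subgroup.mem_centralizer_iff.2 ?_⟩, map_pow f x _⟩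
    rintro _ ⟨t, ht, rfl⟩
    rw [← map_mul, ← map_mul, Subgroup.mem_centralizer_iff.1 hxc t ht]
  · rintro ⟨_, ⟨⟨x, hx, rfl⟩, hxc⟩, rfl⟩
    refine ⟨x ^ p ^ n, ⟨x, ⟨hx, Subgroup.mem_centralizer_iff.2 fun t ht => ?_⟩, rfl⟩, map_pow f x _⟩
    refine hf (T.mul_mem ht hx) (T.mul_mem hx ht) ?_
    rw [map_mul, map_mul]
    exact Subgroup.mem_centralizer_iff.1 hxc (f t) ⟨t, ht, rfl⟩

theorem centerPow_char {n : ℕ} {G : Type u} [Group G] (T : Subgroup G) :
    ((centerPow p n T).subgroupOf T).Characteristic := by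
  have h : (centerPow p n T).subgroupOf T = centerPow p n (⊤ : Subgroup T) := by
    refine Subgroup.map_injective T.subtype_injective ?_
    rw [Subgroup.map_subgroupOf_eq_of_le (centerPow_le T), map_centerPow T.subtype ⊤ T.subtype_injective.injOn,
      ← MonoidHom.range_eq_map, Subgroup.range_subtype]
  rw [h]
  exact Subgroup.characteristic_iff_map_eq.2 fun φ => by
    rw [map_centerPow φ.toMonoidHom ⊤ φ.injective.injOn, Subgroup.map_top_of_surjective _ φ.surjective]

theorem centerPow_mono {n : ℕ} {G : Type u} [Group G] {S U : Subgroup G} (hU : U ≤ S) :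
    centerPow p n S ≤ centerPow p n (S ⊓ Subgroup.normalizer (U : Set G) : Subgroup G) := by
  refine Subgroup.closure_mono ?_
  rintro _ ⟨x, ⟨hx, hxc⟩, rfl⟩
  refine ⟨x, ⟨⟨hx, ?_⟩, Subgroup.centralizer_le inf_le_left hxc⟩, rfl⟩
  exact Subgroup.centralizer_le_normalizer _ (Subgroup.centralizer_le hU hxc)

/-- Maps acting on a normal subgroup as elements of `S` fix central powers inside it. -/
theorem isNormal_centerPow_of_le {n : ℕ} [Fact p.Prime] {Ω : Type u} [Group Ω] {S : Subgroup Ω} [Finite S]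
    (hS : IsPGroup p S) {F F₁ : FusionSystem S} {Q : Subgroup Ω} (hQ : F.IsNormal Q)
    (hF₁ : ∀ P, F₁.Hom P = centralPartHom F Q P) (hle : centerPow p n S ≤ Q) :
    F₁.IsNormal (centerPow p n S) := by
  have hQn := stronglyClosed_le_normalizer (isNormal_stronglyClosed hQ)
  have hn : S ≤ Subgroup.normalizer (centerPow p n S : Set Ω) :=
    Subgroup.le_normalizer.trans (le_normalizer_of_char (centerPow_le S) (centerPow_char S))
  exact isNormal_of_stronglyClosed_le (isNormal_centralPart hQ.1 hQn hF₁)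
    (stronglyClosed_centralPart hF₁ hle hQ.1 hn) hle

theorem isNormal_centerPow_of_normal [Fact p.Prime] (n : ℕ) (m : ℕ)
    (ihn : ∀ (Ω : Type u) [Group Ω] (S : Subgroup Ω) [Finite S], IsPGroup p S → Nat.card S ≤ m →
      Subgroup.lowerCentralSeries S (n * (p - 1) + 1) = ⊥ →
      ∀ F : FusionSystem S, F.IsSaturated p → F.IsNormal (centerPow p n S))
    {Ω : Type u} [Group Ω] {S : Subgroup Ω} [Finite S] (hS : IsPGroup p S)
    (hm : Nat.card S ≤ m + 1) (hcl : Subgroup.lowerCentralSeries S (n * (p - 1) + 1) = ⊥) :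
    ∀ (k : ℕ) (Q : Subgroup Ω), Q ≠ ⊥ → Nat.card S < Nat.card Q + k →
      ∀ F : FusionSystem S, F.IsSaturated p → F.IsNormal Q → F.IsNormal (centerPow p n S) := by
  intro k
  induction k with
  | zero =>
    intro Q _ hlt F _ hQ
    exact absurd (card_le_of_le hQ.1) (by omega)
  | succ k ih =>
    intro Q hQne hlt F hF hQ
    have hgrow : ∀ V : Subgroup Ω, V ≤ S → Q ≤ V → V ≠ Q → V ≠ ⊥ ∧ Nat.card S < Nat.card V + k := by
      intro V hV hQV hne
      haveI := finite_of_le hV
      have h1 : Nat.card Q < Nat.card V :=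
        lt_of_le_of_ne (card_le_of_le hQV) fun he => hne (Subgroup.eq_of_le_of_card_ge hQV he.ge).symm
      exact ⟨fun h => hQne (le_bot_iff.1 (h ▸ hQV)), by omega⟩
    have hWS : centerPow p n S ≤ S := centerPow_le S
    have hsc := isNormal_stronglyClosed hQ
    have hQn := stronglyClosed_le_normalizer hsc
    by_cases hc : centralizerIn S Q ≤ Q
    · obtain ⟨L, hLg, ι, hL, -⟩ := exists_constrained_model.{u, 0} hS hF hQ hc
      haveI := hL.1
      obtain ⟨T, hT⟩ := id hL.2.2.1
      have hinj := hL.2.1.1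
      have hTm : ((⊤ : Subgroup S)).map ι = (T : Subgroup L) := by rw [← MonoidHom.range_eq_map, hT]
      have hSm : (⊤ : Subgroup S).map S.subtype = S := by
        rw [← MonoidHom.range_eq_map, Subgroup.range_subtype]
      have hclT : Subgroup.lowerCentralSeries (T : Subgroup L) (n * (p - 1) + 1) = ⊥ := by
        have h1 : Subgroup.lowerCentralSeries (⊤ : Subgroup S) (n * (p - 1) + 1) = ⊥ := by
          refine Subgroup.map_injective S.subtype_injective ?_
          rw [Subgroup.map_lowerCentralSeries, hSm, hcl, Subgroup.map_bot]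
        rw [← hTm, ← Subgroup.map_lowerCentralSeries, h1, Subgroup.map_bot]
      refine isNormal_of_imageOf_normal hL.2.1 hWS ?_
      have h1 : imageOf ι (centerPow p n S) = centerPow p n (T : Subgroup L) := by
        have h0 : (centerPow p n S).subgroupOf S = centerPow p n (⊤ : Subgroup S) := by
          refine Subgroup.map_injective S.subtype_injective ?_
          rw [Subgroup.map_subgroupOf_eq_of_le hWS, map_centerPow S.subtype ⊤ S.subtype_injective.injOn, hSm]
        rw [imageOf, h0, map_centerPow ι ⊤ hinj.injOn, hTm]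
      rw [h1]
      exact Cfsg.Lib.Local.CenterPowers.powerClosure_center_normal n T hclT hL.2.2.2
    have hTS : Q ⊔ centralizerIn S Q ≤ S := sup_le hQ.1 (centralizerIn_le Q)
    obtain ⟨F₂, hF₂, hF₂s, -, hF₂n, -⟩ := exists_normalizerPart.{u, 0} (F := F) hS hF hTS
      (le_normalizer_sup_centralizerIn hQn)
    have h2 : F₂.IsNormal (centerPow p n S) := by
      obtain ⟨h, h'⟩ := hgrow _ hTS le_sup_left fun h =>
        hc ((le_sup_right : centralizerIn S Q ≤ Q ⊔ centralizerIn S Q).trans h.le)
      exact ih _ h h' F₂ hF₂s hF₂n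
    obtain ⟨F₁, hF₁⟩ := exists_centralPart F hQ.1 hQn
    have hF₁s := isSaturated_centralPart hS hF hQ hF₁
    have hF₁n := isNormal_centralPart hQ.1 hQn hF₁
    have h1 : F₁.IsNormal (centerPow p n S) := by
      haveI : (Q.subgroupOf S).Normal := ⟨fun x hx g =>
        (Subgroup.mem_normalizer_iff.1 (hQn g.2) (x : Ω)).1 hx⟩
      set θ := QuotientGroup.mk' (Q.subgroupOf S)
      have hker : ∀ s : S, θ s = 1 ↔ (s : Ω) ∈ Q := fun s => QuotientGroup.eq_one_iff s
      have hrange : θ.range = ⊤ := MonoidHom.range_eq_top.2 (QuotientGroup.mk'_surjective _)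
      obtain ⟨E, hE⟩ := exists_factorSystem (isNormal_stronglyClosed hF₁n) hker hrange
      have hS' : IsPGroup p (⊤ : Subgroup (S ⧸ Q.subgroupOf S)) := (hS.to_quotient _).to_subgroup _
      have hcard : Nat.card (⊤ : Subgroup (S ⧸ Q.subgroupOf S)) ≤ m := by
        rw [Subgroup.card_top]
        have h1 := Subgroup.card_eq_card_quotient_mul_card_subgroup (Q.subgroupOf S)
        haveI := finite_of_le hQ.1
        have h2 : 1 < Nat.card (Q.subgroupOf S) := by
          rw [Nat.card_congr (Subgroup.subgroupOfEquivOfLe hQ.1).toEquiv]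
          exact (Subgroup.one_lt_card_iff_ne_bot Q).2 hQne
        nlinarith [Nat.card_pos (α := S ⧸ Q.subgroupOf S)]
      have hclQ : Subgroup.lowerCentralSeries (⊤ : Subgroup (S ⧸ Q.subgroupOf S)) (n * (p - 1) + 1) = ⊥ := by
        have h1 : Subgroup.lowerCentralSeries (⊤ : Subgroup S) (n * (p - 1) + 1) = ⊥ := by
          refine Subgroup.map_injective S.subtype_injective ?_
          rw [Subgroup.map_lowerCentralSeries, ← MonoidHom.range_eq_map, Subgroup.range_subtype, hcl,
            Subgroup.map_bot]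
        rw [← Subgroup.map_top_of_surjective θ (QuotientGroup.mk'_surjective _),
          ← Subgroup.map_lowerCentralSeries, h1, Subgroup.map_bot]
      have hV := ihn _ ⊤ hS' hcard hclQ E (isSaturated_factor hS hF₁s (isNormal_stronglyClosed hF₁n) hE)
      by_cases hV0 : centerPow p n (⊤ : Subgroup (S ⧸ Q.subgroupOf S)) = ⊥
      · refine isNormal_centerPow_of_le hS hQ hF₁ ((Subgroup.closure_le _).2 ?_)
        rintro _ ⟨x, ⟨hx, hxc⟩, rfl⟩
        refine (hker ⟨x ^ p ^ n, S.pow_mem hx _⟩).1 (Subgroup.mem_bot.1 (hV0.le ?_))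
        refine Subgroup.subset_closure ⟨θ ⟨x, hx⟩, ⟨Subgroup.mem_top _, Subgroup.mem_centralizer_iff.2 ?_⟩,
          (map_pow θ ⟨x, hx⟩ (p ^ n))⟩
        intro y _
        obtain ⟨s, rfl⟩ := QuotientGroup.mk'_surjective (Q.subgroupOf S) y
        rw [← map_mul, ← map_mul]
        exact congrArg θ (Subtype.ext (Subgroup.mem_centralizer_iff.1 hxc s s.2))
      have hVn : F₁.IsNormal (preimageAlong θ (centerPow p n (⊤ : Subgroup (S ⧸ Q.subgroupOf S)))) :=
        isNormal_preimage_centralPart hS hF₁s hF₁n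
          (fun U hU hUn => stronglyClosed_centralPart hF₁ hU hQ.1 hUn) hE hV
      obtain ⟨h, h'⟩ := hgrow _ preimageAlong_le (kernel_le_preimageAlong hQ.1 hker) (by
        intro he
        refine hV0 (le_bot_iff.1 fun y hy => ?_)
        obtain ⟨x, rfl⟩ := QuotientGroup.mk'_surjective (Q.subgroupOf S) y
        exact Subgroup.mem_bot.2 ((hker x).2 (he.le (mem_preimageAlong.2 ⟨x.2, hy⟩))))
      exact ih _ h h' F₁ hF₁s hVn
    have hWn : S ≤ Subgroup.normalizer (centerPow p n S : Set Ω) :=
      Subgroup.le_normalizer.trans (le_normalizer_of_char hWS (centerPow_char S))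
    obtain ⟨N, hN, -⟩ := exists_normalizerPart.{u, 0} (F := F) hS hF hWS hWn
    refine isNormal_of_le_normalizerHom hWS fun P φ hφ => ?_
    rw [← hN]
    refine le_of_centralPart hS hF hQ N (fun R ψ hψ => ?_) (fun R ψ hψ => ?_) P hφ
    · rw [← hF₁] at hψ
      obtain ⟨-, hP, hv, χ, hχ, hχe⟩ := normalizerHom_of_isNormal h1 hψ
      rw [hN]
      exact ⟨centralPart_le hF₁ R hψ, hP, hv, χ, centralPart_le hF₁ _ hχ, hχe⟩
    · rw [← hF₂] at hψ
      obtain ⟨-, hP, hv, χ, hχ, hχe⟩ := normalizerHom_of_isNormal h2 hψ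
      rw [hF₂] at hψ hχ
      rw [hN]
      exact ⟨hψ.1, hP, hv, χ, hχ.1, hχe⟩

theorem isNormal_centerPow [Fact p.Prime] (n : ℕ) :
    ∀ (m : ℕ) (Ω : Type u) [Group Ω] (S : Subgroup Ω) [Finite S], IsPGroup p S → Nat.card S ≤ m →
      Subgroup.lowerCentralSeries S (n * (p - 1) + 1) = ⊥ →
      ∀ F : FusionSystem S, F.IsSaturated p → F.IsNormal (centerPow p n S) := by
  intro m
  induction m with
  | zero =>
    intro Ω _ S _ _ hm
    exact absurd (Nat.card_pos (α := S)) (by omega)
  | succ m ih =>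
    intro Ω _ S _ hS hm hcl F hF
    have hWS : centerPow p n S ≤ S := centerPow_le S
    by_cases hW0 : centerPow p n S = ⊥
    · rw [hW0]; exact isNormal_bot F
    have hWn : S ≤ Subgroup.normalizer (centerPow p n S : Set Ω) :=
      Subgroup.le_normalizer.trans (le_normalizer_of_char hWS (centerPow_char S))
    have hnorm : ∀ U : Subgroup Ω, F.IsFullyNormalized U → U ≠ ⊥ → ∀ R,
        F.normalizerHom U R ⊆ F.normalizerHom (centerPow p n (normalizerIn S U)) R := by
      intro U hUn hU R φ hφ
      obtain ⟨N, hN⟩ := exists_normalizerSystem F hUn.1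
      haveI := finite_of_le (normalizerIn_le (S := S) U)
      have hTS := normalizerIn_le (S := S) U
      have hTp := hS.to_le hTS
      have hclT : Subgroup.lowerCentralSeries (normalizerIn S U) (n * (p - 1) + 1) = ⊥ :=
        le_bot_iff.1 ((Subgroup.lowerCentralSeries_mono _ hTS).trans hcl.le)
      have hNW : N.IsNormal (centerPow p n (normalizerIn S U)) := by
        refine isNormal_centerPow_of_normal n m (fun Ω _ S _ => ih Ω S) hTp
          ((card_le_of_le hTS).trans hm) hclT (Nat.card (normalizerIn S U)) U hU ?_ N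
          (isSaturated_normalizerSystem hS hF hUn hN) (isNormal_normalizerSystem hUn.1 hN)
        haveI := finite_of_le hUn.1
        exact Nat.lt_add_of_pos_left Nat.card_pos
      rw [← hN R] at hφ
      obtain ⟨ψ, hψ, hψe, hψW⟩ := hNW.2 R φ hφ
      obtain ⟨hφF, hR, hv, -⟩ := (mem_normalizerSystem hN).1 hφ
      have hle : normalizerIn S U ≤
          Subgroup.normalizer (centerPow p n (normalizerIn S U) : Set Ω) :=
        Subgroup.le_normalizer.trans (le_normalizer_of_char (centerPow_le _) (centerPow_char _))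
      exact ⟨hφF, fun x hx => ⟨hTS (hR hx), hle (hR hx)⟩,
        fun x => ⟨hTS (hv x), hle (hv x)⟩, ψ, subset_of_normalizerSystem hN hψ, hψe, hψW⟩
    obtain ⟨N, hN, -⟩ := exists_normalizerPart.{u, 0} (F := F) hS hF hWS hWn
    refine isNormal_of_le_normalizerHom hWS fun P φ hφ => ?_
    rw [← hN]
    refine le_of_local hS hF N (fun U hUn hU hT R ψ hψ => ?_) (fun U hUn hU hT => ?_) P hφ
    · have h1 := hnorm U hUn hU R hψ
      have h0 : centerPow p n (normalizerIn S U) = centerPow p n S :=
        congrArg (fun T : Subgroup Ω => centerPow p n T) hT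
      rw [h0] at h1
      rw [hN]
      exact h1
    · have hTS := normalizerIn_le (S := S) U
      refine ⟨_, (centerPow_le _).trans hTS, fun h => hW0 (le_bot_iff.1 ((centerPow_mono hUn.1).trans h.le)),
        ?_, hnorm U hUn hU⟩
      exact lt_of_lt_of_le (lt_normalizerIn hS (lt_of_le_of_ne hTS hT)) fun g hg =>
        ⟨hg.1, le_normalizer_of_char (centerPow_le _) (centerPow_char _) hg.2⟩

end Cfsg.Lib.FusionSys
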