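import Cfsg.Agent.Lib.Local.CentralFusion
import Cfsg.Agent.Lib.FusionSys.Functor

/-!
# Central elements of the normalizer of the Thompson subgroup

In a saturated fusion system, an element `z ^ q` with `z` central in `S` that is fixed by the
automorphisms of `J(S)` is central in the system, for `p` odd, `q = 2` or no section isomorphic to
the symmetric group of degree four.
-/

set_option autoImplicit false
set_option linter.style.haveILetI false

universe u v

namespace Cfsg.Lib.FusionSys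

open Cfsg Cfsg.FusionSystem

variable {p : ℕ}

theorem map_thompsonAOf {Ω : Type u} [Group Ω] {H : Type v} [Group H] (f : Ω →* H) (T : Subgroup Ω)
    [Finite T] (hf : Set.InjOn f T) : (thompsonSubgroupAOf T).map f = thompsonSubgroupAOf (T.map f) := by
  have hinj : Function.Injective (f.subgroupMap T) := fun x y h =>
    Subtype.ext (hf x.2 y.2 (congrArg Subtype.val h))
  let e : T ≃* T.map f :=
    MulEquiv.ofBijective (f.subgroupMap T) ⟨hinj, f.subgroupMap_surjective T⟩
  rw [thompsonSubgroupAOf, thompsonSubgroupAOf, ← Cfsg.Lib.Local.GlaubermanZJ.map_thompsonSubgroupA e,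
    Subgroup.map_map, Subgroup.map_map]
  rfl

theorem thompsonAOf_le {Ω : Type u} [Group Ω] (T : Subgroup Ω) : thompsonSubgroupAOf T ≤ T :=
  Subgroup.map_subtype_le _

theorem thompsonAOf_char {Ω : Type u} [Group Ω] (T : Subgroup Ω) [Finite T] :
    ((thompsonSubgroupAOf T).subgroupOf T).Characteristic := by
  show (((thompsonSubgroupA T).map T.subtype).comap T.subtype).Characteristic
  rw [Subgroup.comap_map_eq_self_of_injective T.subtype_injective]
  exact Subgroup.characteristic_iff_map_eq.2 fun φ =>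
    Cfsg.Lib.Local.GlaubermanZJ.map_thompsonSubgroupA φ

theorem mem_thompsonAOf {Ω : Type u} [Group Ω] {T : Subgroup Ω} [Finite T] {x : Ω} (hx : x ∈ T)
    (hc : ∀ t ∈ T, Commute x t) : x ∈ thompsonSubgroupAOf T := by
  obtain ⟨A, hA⟩ := Cfsg.Lib.Local.GlaubermanZJ.exists_isMaxAbIn (⊤ : Subgroup T)
  have hAm : A ∈ maxAbelianSubgroups T := ⟨hA.2.1, fun B hB => hA.2.2 B le_top hB⟩
  refine ⟨⟨x, hx⟩, le_sSup hAm
    (hA.mem_of_commute (Subgroup.mem_top _) fun a _ => Subtype.ext (hc a a.2).eq), rfl⟩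

variable {Ω : Type u} [Group Ω] {S : Subgroup Ω} {F : FusionSystem S} {P : Subgroup Ω}

/-- Every automorphism of `W` in the system fixes `x`. -/
def AutFix (F : FusionSystem S) (x : Ω) (W : Subgroup Ω) : Prop :=
  ∀ α ∈ F.autGroup W, ∀ hx : x ∈ W, ((α ⟨x, hx⟩ : W) : Ω) = x

variable [Finite S] [Fact p.Prime]

theorem autFix_transfer (hS : IsPGroup p S) (hF : F.IsSaturated p) {x : Ω}
    (hxS : x ∈ S) (hxc : ∀ s ∈ S, Commute x s) {n : ℕ}
    (hbig : ∀ R : Subgroup Ω, n ≤ Nat.card R → ∀ φ ∈ F.Hom R, ∀ hx : x ∈ R, φ ⟨x, hx⟩ = x)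
    (hloc : ∀ U : Subgroup Ω, F.IsFullyNormalized U → F.IsCentric U →
      n ≤ Nat.card (normalizerIn S U) → AutFix F x U)
    {W : Subgroup Ω} (hW : W ≤ S) (hn : n ≤ Nat.card (normalizerIn S W)) : AutFix F x W := by
  intro α hα hxW
  obtain ⟨W₂, hconj, hn₂⟩ := exists_isFullyNormalized F hW
  obtain ⟨χ, hχ, hχv, hχW⟩ := exists_map_to_fn hS hF hn₂ hconj
  have hχx : χ ⟨x, le_normalizerIn hW hxW⟩ = x := hbig _ hn χ hχ _
  have hχi := restrict_mem hχ (le_normalizerIn hW)
  have hχr : (χ.comp (Subgroup.inclusion (le_normalizerIn hW))).range = W₂ := by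
    rw [← MonoidHom.map_range, Subgroup.inclusion_range]
    exact hχW
  set e := homIso hχi hχr with hedef
  have he : IsoIn F e := isoIn_homIso hχi hχr
  have hex : ((e ⟨x, hxW⟩ : W₂) : Ω) = x := hχx
  have hxW₂ : x ∈ W₂ := hex ▸ (e ⟨x, hxW⟩).2
  suffices key : ((MulAut.congr e α ⟨x, hxW₂⟩ : W₂) : Ω) = x by
    have h1 : e.symm ⟨x, hxW₂⟩ = ⟨x, hxW⟩ := by
      rw [MulEquiv.symm_apply_eq]
      exact Subtype.ext hex.symm
    have h2 : MulAut.congr e α ⟨x, hxW₂⟩ = e (α ⟨x, hxW⟩) := by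
      show e (α (e.symm ⟨x, hxW₂⟩)) = _
      rw [h1]
    rw [h2] at key
    have h3 : e (α ⟨x, hxW⟩) = e ⟨x, hxW⟩ := Subtype.ext (key.trans hex.symm)
    exact congrArg Subtype.val (e.injective h3)
  set α₂ := MulAut.congr e α
  have hα₂ : α₂ ∈ F.autGroup W₂ := congr_mem_autGroup he hα
  have hi : IsoIn F α₂ := (mem_autGroup hn₂.1).1 hα₂
  have hfc := (isFullyAutomized_and_fc_of_fn hS hF hn₂).1
  have hrec := isReceptive_of_fc hS hF hfc
  have hr₂ : (W₂.subtype.comp α₂.toMonoidHom).range = W₂ := by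
    ext y
    constructor
    · rintro ⟨a, rfl⟩; exact (α₂ a).2
    · intro hy; exact ⟨α₂.symm ⟨y, hy⟩, by simp⟩
  obtain ⟨ψ, hψ, hψe⟩ := hrec.2 W₂ _ hi hr₂
  set U := W₂ ⊔ centralizerIn S W₂ with hUdef
  have hWU : W₂ ≤ U := le_sup_left
  have hCU : centralizerIn S W₂ ≤ U := le_sup_right
  have hUS : U ≤ S := sup_le hn₂.1 (centralizerIn_le _)
  have hUe : U ≤ extender S W₂ (W₂.subtype.comp α₂.toMonoidHom) :=
    sup_le (le_extender hn₂.1 (hom_mem hi)) (centralizerIn_le_extender _)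
  set β := ψ.comp (Subgroup.inclusion hUe) with hβdef
  have hβ : β ∈ F.Hom U := restrict_mem hψ hUe
  have hβW : ∀ (y : Ω) (hy : y ∈ W₂), β ⟨y, hWU hy⟩ = ((α₂ ⟨y, hy⟩ : W₂) : Ω) :=
    fun y hy => hψe y hy (hUe (hWU hy))
  have hWmap : (W₂.subgroupOf U).map β = W₂ := map_subgroupOf_eq hWU fun y hy _ => hβW y hy
  have hβv : U ≤ (U.comap β).map U.subtype := by
    refine sup_le (fun y hy => ⟨⟨y, hWU hy⟩, ?_, rfl⟩) (fun c hc => ⟨⟨c, hCU hc⟩, ?_, rfl⟩)
    · show β ⟨y, hWU hy⟩ ∈ U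
      rw [hβW y hy]; exact hWU (α₂ _).2
    · refine hCU ⟨hom_mem hβ _, ?_⟩
      have h1 := map_mem_centralizer (Q := W₂) β ⟨c, hCU hc⟩ (mem_centralizerIn.1 hc).2
      rwa [hWmap] at h1
  have hβr : β.range = U := range_eq_of_card_le hβ hUS
    (fun y => by
      obtain ⟨y', hy', he'⟩ := hβv y.2
      rwa [show y' = y from Subtype.ext he'] at hy') le_rfl
  set γ := homIso hβ hβr with hγdef
  have hγ : γ ∈ F.autGroup U := (mem_autGroup hUS).2 (isoIn_homIso hβ hβr)
  -- a fully normalized conjugate of `U`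
  obtain ⟨U', hconjU, hnU⟩ := exists_isFullyNormalized F hUS
  obtain ⟨ξ, hξ, hξv, hξU⟩ := exists_map_to_fn hS hF hnU hconjU
  have hsub : normalizerIn S W₂ ≤ normalizerIn S U := by
    intro g hg
    refine ⟨hg.1, ?_⟩
    have key : ∀ g ∈ normalizerIn S W₂, ∀ c ∈ centralizerIn S W₂,
        g * c * g⁻¹ ∈ centralizerIn S W₂ := by
      intro g hg c hc
      refine mem_centralizerIn.2 ⟨S.mul_mem (S.mul_mem hg.1 hc.1) (S.inv_mem hg.1), fun y hy => ?_⟩
      have hy' : g⁻¹ * y * g ∈ W₂ := (Subgroup.mem_normalizer_iff''.1 hg.2 y).1 hy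
      calc g * c * g⁻¹ * y = g * (c * (g⁻¹ * y * g)) * g⁻¹ := by group
        _ = g * ((g⁻¹ * y * g) * c) * g⁻¹ := by rw [(mem_centralizerIn.1 hc).2 _ hy']
        _ = y * (g * c * g⁻¹) := by group
    refine normalizer_inf_le ⟨hg.2, Subgroup.mem_normalizer_iff.2 fun c => ⟨key g hg c, fun hc => ?_⟩⟩
    have := key g⁻¹ ((normalizerIn S W₂).inv_mem hg) _ hc
    simpa [mul_assoc] using this
  have hcardW : Nat.card (normalizerIn S W) ≤ Nat.card (normalizerIn S W₂) := by
    haveI := finite_of_le (normalizerIn_le (S := S) W₂)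
    exact Nat.card_le_card_of_injective (fun a => (⟨χ a, hχv a⟩ : normalizerIn S W₂))
      fun a b h => F.injective_of_mem hχ (congrArg Subtype.val h)
  have hnU' : n ≤ Nat.card (normalizerIn S U) := by
    haveI := finite_of_le (normalizerIn_le (S := S) U)
    exact hn.trans (hcardW.trans (Subgroup.card_le_of_le hsub))
  have hcU : F.IsCentric U := by
    refine ⟨hUS, ?_⟩
    rintro R ⟨φ, hφ, rfl⟩ c hc
    set φW := φ.comp (Subgroup.inclusion hWU) with hφW
    have hφWm : φW ∈ F.Hom W₂ := restrict_mem hφ hWU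
    haveI := finite_of_le (centralizerIn_le (S := S) φW.range)
    have hmem : ∀ a : centralizerIn S W₂, φ (Subgroup.inclusion hCU a) ∈ centralizerIn S φW.range := by
      intro a
      refine mem_centralizerIn.2 ⟨hom_mem hφ _, ?_⟩
      rintro _ ⟨y, rfl⟩
      show φ _ * φ _ = φ _ * φ _
      rw [← map_mul, ← map_mul]
      exact congrArg φ (Subtype.ext ((mem_centralizerIn.1 a.2).2 y y.2))
    have hinj : Function.Injective fun a => (⟨_, hmem a⟩ : centralizerIn S φW.range) := fun a b h =>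
      Subgroup.inclusion_injective _ (F.injective_of_mem hφ (congrArg Subtype.val h))
    have hbij := hinj.bijective_of_nat_card_le (hfc.2 _ ⟨φW, hφWm, rfl⟩)
    obtain ⟨a, ha⟩ := hbij.2 ⟨c, hc.1, Subgroup.centralizer_le (by
      rintro _ ⟨y, rfl⟩; exact ⟨_, rfl⟩) hc.2⟩
    exact ⟨_, congrArg Subtype.val ha⟩
  have hcU' : F.IsCentric U' :=
    ⟨hnU.1, fun Q hQ => hcU.2 Q (isConj_trans hconjU hQ)⟩
  have hxU : x ∈ U := hWU hxW₂
  have hξx : ξ ⟨x, le_normalizerIn hUS hxU⟩ = x := hbig _ hnU' ξ hξ _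
  have hξi := restrict_mem hξ (le_normalizerIn hUS)
  have hξr : (ξ.comp (Subgroup.inclusion (le_normalizerIn hUS))).range = U' := by
    rw [← MonoidHom.map_range, Subgroup.inclusion_range]
    exact hξU
  set d := homIso hξi hξr with hddef
  have hdx : ((d ⟨x, hxU⟩ : U') : Ω) = x := hξx
  have hxU' : x ∈ U' := hdx ▸ (d ⟨x, hxU⟩).2
  have hcardU : Nat.card (normalizerIn S U) ≤ Nat.card (normalizerIn S U') := by
    haveI := finite_of_le (normalizerIn_le (S := S) U')
    exact Nat.card_le_card_of_injective (fun a => (⟨ξ a, hξv a⟩ : normalizerIn S U'))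
      fun a b h => F.injective_of_mem hξ (congrArg Subtype.val h)
  have h1 := hloc U' hnU hcU' (hnU'.trans hcardU) (MulAut.congr d γ)
    (congr_mem_autGroup (isoIn_homIso hξi hξr) hγ) hxU'
  have h2 : d.symm ⟨x, hxU'⟩ = ⟨x, hxU⟩ := by
    rw [MulEquiv.symm_apply_eq]
    exact Subtype.ext hdx.symm
  have h3 : MulAut.congr d γ ⟨x, hxU'⟩ = d (γ ⟨x, hxU⟩) := by
    show d (γ (d.symm ⟨x, hxU'⟩)) = _
    rw [h2]
  rw [h3] at h1
  have h4 : d (γ ⟨x, hxU⟩) = d ⟨x, hxU⟩ := Subtype.ext (h1.trans hdx.symm)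
  have h5 := congrArg Subtype.val (d.injective h4)
  rw [← hβW x hxW₂]
  exact h5

/-- An element `z ^ q` fixed by the automorphisms of `J(S)` is central. -/
theorem mem_center_of_thompson (hS : IsPGroup p S) (hF : F.IsSaturated p) {z : Ω}
    (hz : z ∈ S ⊓ Subgroup.centralizer (S : Set Ω)) (q : ℕ)
    (hgood : p ≠ 2 ∨ (p = 2 ∧ (q = 2 ∨ F.IsSectionFree p (Equiv.Perm (Fin 4)))))
    (hJ : AutFix F (z ^ q) (thompsonSubgroupAOf S)) : z ^ q ∈ F.center := by
  set x := z ^ q with hxdef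
  have hzc : ∀ s ∈ S, Commute z s := fun s hs => (Subgroup.mem_centralizer_iff.1 hz.2 s hs).symm
  have hxS : x ∈ S := S.pow_mem hz.1 q
  have hxc : ∀ s ∈ S, Commute x s := fun s hs => (hzc s hs).pow_left q
  have hxC : centralizerIn S (Subgroup.zpowers x) = S :=
    le_antisymm (centralizerIn_le _) fun g hg => mem_centralizerIn.2 ⟨hg, by
      rintro _ ⟨i, rfl⟩
      exact ((hxc g hg).zpow_left i).symm.eq⟩
  have hxz : Subgroup.zpowers x ≤ S := Subgroup.zpowers_le.2 hxS
  obtain ⟨E₀, hE₀⟩ := exists_centralizerSystem F hxz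
  obtain ⟨E, hE⟩ := exists_copy hxC E₀
  have hEfix : ∀ R, ∀ φ ∈ E.Hom R, ∀ hx : x ∈ R, φ ⟨x, hx⟩ = x := by
    intro R φ hφ hx
    rw [hE, hE₀] at hφ
    obtain ⟨-, -, -, ψ, -, hψe, hψf⟩ := hφ
    rw [← hψe ⟨x, hx⟩]
    exact hψf ⟨x, Subgroup.mem_zpowers x⟩
  have hcx : ∀ U : Subgroup Ω, F.IsCentric U → x ∈ U := fun U hU =>
    hU.2 U (isConj_refl F hU.1) (mem_centralizerIn.2 ⟨hxS, fun y hy => (hxc y (hU.1 hy)).eq⟩)
  have hJS : thompsonSubgroupAOf S ≤ S := thompsonAOf_le S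
  have hle : F ≤ E := by
    refine le_of_autGroup_le' hS hF E fun P hP hbigE α hα => ?_
    have hPS : P ≤ S := by rcases hP with rfl | hP; exacts [le_rfl, hP.1.1]
    have hxP : x ∈ P := by rcases hP with rfl | hP; exacts [hxS, hcx P hP.1]
    suffices hfix : ((α ⟨x, hxP⟩ : P) : Ω) = x by
      refine (mem_autGroup hPS).2 ?_
      show _ ∈ E.Hom P
      have hi := (mem_autGroup hPS).1 hα
      rw [hE, hE₀]
      refine ⟨hi, hxC.symm ▸ hPS, fun y => hxC.symm ▸ hom_mem hi y, _,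
        restrict_mem hi (sup_le le_rfl (Subgroup.zpowers_le.2 hxP)), fun y => rfl, ?_⟩
      intro y
      obtain ⟨i, hi'⟩ := Subgroup.mem_zpowers_iff.1 y.2
      have h1 : Subgroup.inclusion (sup_le le_rfl (Subgroup.zpowers_le.2 hxP))
          (Subgroup.inclusion (le_sup_right (a := P)) y) = (⟨x, hxP⟩ : P) ^ i := Subtype.ext (by simp [hi'])
      show ((α _ : P) : Ω) = y
      rw [h1, map_zpow, Subgroup.coe_zpow, hfix, hi']
    by_cases hPtop : P = S
    · subst hPtop
      have hn := Subgroup.characteristic_iff_map_eq.1 (thompsonAOf_char P) α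
      have hmem : ∀ y ∈ thompsonSubgroupAOf P, ∀ hy : y ∈ P,
          ((α ⟨y, hy⟩ : P) : Ω) ∈ thompsonSubgroupAOf P := fun y hy hyP =>
        hn.le ⟨⟨y, hyP⟩, hy, rfl⟩
      have hi := restrict_mem ((mem_autGroup hPS).1 hα) hJS
      have hr := range_eq_of_card_le hi hJS (fun y => hmem y y.2 _) le_rfl
      exact hJ (homIso hi hr) ((mem_autGroup hJS).2 (isoIn_homIso hi hr))
        (mem_thompsonAOf hxS hxc)
    have hPe : F.IsEssential p P := hP.resolve_left hPtop
    haveI := finite_of_le hPS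
    have hPN : Nat.card P < Nat.card (normalizerIn S P) := by
      haveI := finite_of_le (normalizerIn_le (S := S) P)
      refine lt_of_not_ge fun h => (lt_normalizerIn hS (lt_of_le_of_ne hPS hPtop)).ne ?_
      exact Subgroup.eq_of_le_of_card_ge (le_normalizerIn hPS) h
    suffices key : ∀ (m : ℕ) (U : Subgroup Ω), F.IsFullyNormalized U → F.IsCentric U →
        Nat.card P < Nat.card (normalizerIn S U) → Nat.card S < Nat.card (normalizerIn S U) + m →
        AutFix F x U from key (Nat.card S + 1) P hPe.2.1 hPe.1 hPN (by omega) α hα hxP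
    intro m
    induction m with
    | zero =>
      intro U _ _ _ hlt
      exact absurd (card_le_of_le (normalizerIn_le (S := S) U)) (by omega)
    | succ m ih =>
      intro U hUn hUc hUP hlt β hβ hxU
      obtain ⟨N, hN, L, hLg, ι, hL⟩ := exists_normalizer_model.{u} hS hF hUn hUc
      haveI := hL.1
      obtain ⟨Ts, hTs⟩ := id hL.2.2.1
      let T := normalizerIn S U
      have hTc : Nat.card T = Nat.card (normalizerIn S U) := rfl
      have hTS : T ≤ S := normalizerIn_le U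
      haveI := finite_of_le hTS
      have hUT : U ≤ T := le_normalizerIn hUn.1
      have hzU : z ∈ U :=
        hUc.2 U (isConj_refl F hUn.1) (mem_centralizerIn.2 ⟨hz.1, fun y hy => (hzc y (hUn.1 hy)).eq⟩)
      have hgoodL : Cfsg.Lib.Local.Central.GoodPair p L q := by
        rcases hgood with h | ⟨h2, h | h⟩
        · exact Or.inl h
        · exact Or.inr ⟨h2, Or.inl h⟩
        · exact Or.inr ⟨h2, Or.inr (h U hUn hUc N hN L ι hL)⟩
      haveI : (imageOf ι U).Normal := imageOf_normal hL (isNormal_normalizerSystem hUn.1 hN)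
      set V := (Subgroup.center ↥(imageOf ι U)).map (imageOf ι U).subtype with hVdef
      haveI : V.Normal := Cfsg.Lib.Core.normal_map_char_of_normal _
      have hinj := hL.2.1.1
      have hJT : thompsonSubgroupAOf T ≤ T := thompsonAOf_le T
      have hJimg : thompsonSubgroupAOf (Ts : Subgroup L) = imageOf ι (thompsonSubgroupAOf T) := by
        rw [hTs, MonoidHom.range_eq_map, ← map_thompsonAOf ι ⊤ hinj.injOn, imageOf]
        congr 1
        refine Subgroup.map_injective T.subtype_injective ?_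
        rw [Subgroup.map_subgroupOf_eq_of_le hJT, map_thompsonAOf T.subtype ⊤ T.subtype_injective.injOn,
          ← MonoidHom.range_eq_map, Subgroup.range_subtype]
      have hxJ : x ∈ thompsonSubgroupAOf T :=
        mem_thompsonAOf (hUT hxU) fun t ht => hxc t (hTS ht)
      have hJfix : AutFix F x (thompsonSubgroupAOf T) := by
        by_cases hTtop : T = S
        · rw [hTtop]; exact hJ
        refine autFix_transfer hS hF hxS hxc (n := Nat.card T + 1) (fun R hR φ hφ hx => ?_)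
          (fun W hWn hWc hW => ih W hWn hWc (by omega) (by omega)) (hJT.trans hTS) ?_
        · exact hEfix R φ (hbigE R (by omega) hφ) hx
        · have h1 : normalizerIn S T ≤ normalizerIn S (thompsonSubgroupAOf T) := fun g hg =>
            ⟨hg.1, le_normalizer_of_char hJT (thompsonAOf_char T) hg.2⟩
          haveI := finite_of_le (normalizerIn_le (S := S) T)
          haveI := finite_of_le (normalizerIn_le (S := S) (thompsonSubgroupAOf T))
          refine le_trans ?_ (Subgroup.card_le_of_le h1)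
          refine Nat.succ_le_of_lt (lt_of_not_ge fun h => (lt_normalizerIn hS (lt_of_le_of_ne hTS hTtop)).ne ?_)
          exact Subgroup.eq_of_le_of_card_ge (le_normalizerIn hTS) h
      have hnorm : ∀ y ∈ Subgroup.normalizer (thompsonSubgroupAOf (Ts : Subgroup L) : Set L),
          y * ι ⟨x, hUT hxU⟩ * y⁻¹ = ι ⟨x, hUT hxU⟩ := by
        intro y hy
        rw [hJimg] at hy
        have hmem : ∀ a : thompsonSubgroupAOf T,
            y * ι ⟨a, hJT a.2⟩ * y⁻¹ ∈ imageOf ι (thompsonSubgroupAOf T) := fun a =>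
          (Subgroup.mem_normalizer_iff.1 hy _).1 (mem_imageOf.2 ⟨⟨a, hJT a.2⟩, a.2, rfl⟩)
        obtain ⟨φ, hφ, hφe⟩ := exists_hom_of_realized hL.2.1 hJT y fun a => by
          obtain ⟨b, -, hb⟩ := mem_imageOf.1 (hmem a)
          exact ⟨b, hb⟩
        have hv : ∀ a, φ a ∈ thompsonSubgroupAOf T := fun a => by
          obtain ⟨b, hb, hbe⟩ := mem_imageOf.1 (hmem a)
          have h1 : b = ⟨φ a, hom_mem hφ a⟩ := hinj (hbe.trans (hφe a).symm)
          rwa [h1] at hb
        have hφF := subset_of_normalizerSystem hN hφ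
        have hr := range_eq_of_card_le hφF (hJT.trans hTS) hv le_rfl
        have h1 := hJfix (homIso hφF hr) ((mem_autGroup (hJT.trans hTS)).2 (isoIn_homIso hφF hr)) hxJ
        rw [← hφe ⟨x, hxJ⟩]
        exact congrArg ι (Subtype.ext h1)
      have hzV : ι ⟨z, hUT hzU⟩ ∈ V := by
        refine ⟨⟨_, mem_imageOf.2 ⟨⟨z, hUT hzU⟩, hzU, rfl⟩⟩, Subgroup.mem_center_iff.2 fun b => ?_, rfl⟩
        obtain ⟨c, hc, hce⟩ := mem_imageOf.1 b.2
        apply Subtype.ext
        show (b : L) * ι _ = ι _ * (b : L)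
        rw [← hce, ← map_mul, ← map_mul]
        exact congrArg ι (Subtype.ext (hzc c (hTS c.2)).symm.eq)
      have hVp : IsPGroup p V := by
        refine (Ts.isPGroup'.to_le ?_)
        rw [hTs]
        rintro _ ⟨w, -, rfl⟩
        obtain ⟨c, -, hc⟩ := mem_imageOf.1 w.2
        exact ⟨c, hc⟩
      have hVc : ∀ a ∈ V, ∀ b ∈ V, Commute a b := by
        rintro _ ⟨a, ha, rfl⟩ _ ⟨b, -, rfl⟩
        exact Commute.map (show Commute a b from (Subgroup.mem_center_iff.1 ha b).symm) (imageOf ι U).subtype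
      have hcentral := Cfsg.Lib.Local.Central.central_of_normalizer Ts (ι ⟨z, hUT hzU⟩) q
        (ι ⟨x, hUT hxU⟩) (map_pow ι ⟨z, hUT hzU⟩ q) hgoodL V hVc hVp hzV
        (fun t ht => by
          rw [hTs] at ht
          obtain ⟨c, rfl⟩ := ht
          exact (show Commute c ⟨z, hUT hzU⟩ from Subtype.ext (hzc c (hTS c.2)).symm.eq).map ι)
        (fun y hy => Subgroup.mem_centralizer_iff.2 fun w hw => by
          rw [Set.mem_singleton_iff.1 hw]
          exact (mul_inv_eq_iff_eq_mul.1 (hnorm y hy)).symm)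
      have hβi := (mem_autGroup hUn.1).1 hβ
      have hβN : U.subtype.comp β.toMonoidHom ∈ N.Hom U :=
        mem_normalizerSystem_of_le hN hβi le_rfl hUT (by
          rw [Subgroup.subgroupOf_self, ← MonoidHom.range_eq_map]
          exact range_eq_of_card_le hβi hUn.1 (fun a => (β a).2) le_rfl)
      obtain ⟨y, hy⟩ := exists_of_realized hL.2.1 hβN
      have h1 : ι ⟨(β ⟨x, hxU⟩ : U), hom_mem hβN ⟨x, hxU⟩⟩ = ι ⟨x, hUT hxU⟩ :=
        (hy ⟨x, hxU⟩).trans (mul_inv_eq_iff_eq_mul.2 (hcentral y).eq)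
      exact congrArg Subtype.val (hinj h1)
  have hfix : ∀ R, ∀ φ ∈ F.Hom R, ∀ hx : x ∈ R, φ ⟨x, hx⟩ = x := fun R φ hφ => hEfix R φ (hle R hφ)
  refine (le_sSup (show F.IsCentral (Subgroup.zpowers x) from
    (isCentral_iff hS hF _).2 ⟨hxz, ?_⟩) : Subgroup.zpowers x ≤ F.center) (Subgroup.mem_zpowers x)
  rintro _ ⟨i, rfl⟩ _ ⟨φ, hφ, rfl⟩
  obtain ⟨ψ, hψ, hψe, hψf⟩ := (hE₀ _ ▸ hE _ ▸ hle _ hφ).2.2.2
  rw [← hψe ⟨x ^ i, Subgroup.mem_zpowers _⟩]
  exact hψf ⟨x ^ i, ⟨i, rfl⟩⟩

end Cfsg.Lib.FusionSys
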