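import Cfsg.Agent.Lib.FusionSys.IndexPrime
import Cfsg.Agent.Lib.FusionSys.SatFamily
import Cfsg.Agent.Lib.FusionSys.Centric
import Cfsg.Agent.Lib.FusionSys.Simple
import Cfsg.Prelude.Def_FusionComponents

/-!
The `p'`-residual subsystem: the least subsystem containing the `p`-automorphisms of centric subgroups
and closed under extension from centric subgroups to subgroups of their normalizers.
-/

set_option autoImplicit false

namespace Cfsg.Lib.FusionSys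

open Cfsg Cfsg.FusionSystem

variable {Ω : Type*} [Group Ω] {S : Subgroup Ω} {F D : FusionSystem S} {p : ℕ}

/-- Contains the `p`-automorphisms of centric subgroups and is closed under their extensions. -/
def IsExtClosed (F : FusionSystem S) (p : ℕ) (D : FusionSystem S) : Prop :=
  (∀ P : Subgroup Ω, F.IsCentric P → ∀ a ∈ F.autGroup P, (∃ k : ℕ, orderOf a = p ^ k) →
      a ∈ D.autGroup P) ∧
    ∀ (P N : Subgroup Ω) (hPN : P ≤ N), F.IsCentric P → N ≤ Subgroup.normalizer (P : Set Ω) →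
      ∀ φ ∈ F.Hom N, φ.comp (Subgroup.inclusion hPN) ∈ D.Hom P → φ ∈ D.Hom N

/-- The least subsystem with these two properties. -/
def minExtClosed (F : FusionSystem S) (p : ℕ) : FusionSystem S where
  Hom P := {φ | φ ∈ F.Hom P ∧ ∀ D : FusionSystem S, IsExtClosed F p D → φ ∈ D.Hom P}
  le_of_mem h := F.le_of_mem h.1
  injective_of_mem h := F.injective_of_mem h.1
  conj_mem hP hg := ⟨F.conj_mem hP hg, fun D _ => D.conj_mem hP hg⟩
  comp_mem hφ hψ h := ⟨F.comp_mem hφ.1 hψ.1 h, fun D hD => D.comp_mem (hφ.2 D hD) (hψ.2 D hD) h⟩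
  inv_mem := by
    rintro P φ ⟨hφ, hφ'⟩
    obtain ⟨ψ, hψ, hψe⟩ := F.inv_mem hφ
    refine ⟨ψ, ⟨hψ, fun D hD => ?_⟩, hψe⟩
    obtain ⟨χ, hχ, hχe⟩ := D.inv_mem (hφ' D hD)
    refine hom_congr hχ ?_
    rintro ⟨_, x, rfl⟩
    exact (hψe x).trans (hχe x).symm

theorem minExtClosed_le : minExtClosed F p ≤ F := fun _ _ h => h.1

theorem minExtClosed_le_of (hD : IsExtClosed F p D) : minExtClosed F p ≤ D := fun _ _ h => h.2 D hD

theorem isExtClosed_minExtClosed : IsExtClosed F p (minExtClosed F p) := by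
  refine ⟨fun P hP a ha hk => ?_, fun P N hPN hP hN φ hφ h => ?_⟩
  · exact (mem_autGroup hP.1).2 ⟨(mem_autGroup hP.1).1 ha,
      fun D hD => (mem_autGroup hP.1).1 (hD.1 P hP a ha hk)⟩
  · exact ⟨hφ, fun D hD => hD.2 P N hPN hP hN φ hφ (h.2 D hD)⟩

theorem isCentric_of_conj {P Q : Subgroup Ω} (hP : F.IsCentric P) (h : F.IsConj P Q) :
    F.IsCentric Q :=
  ⟨(isConj_le h).2, fun R hR => hP.2 R (isConj_trans h hR)⟩

theorem isExtClosed_of_saturated [Finite S] [Fact p.Prime] (hS : IsPGroup p S)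
    (hF : F.IsSaturated p) (hD : D.IsSaturated p) (hidx : D.HasPrimeToPIndexIn F p) :
    IsExtClosed F p D := by
  refine ⟨fun P hP a ha hk => ?_, fun P N hPN hP hN φ hφ h => ?_⟩
  · refine hidx.2 P hP.1 ⟨⟨a, ha⟩, Subgroup.subset_closure ?_, rfl⟩
    obtain ⟨k, hk⟩ := hk
    exact ⟨k, by rw [← hk, ← Subgroup.orderOf_coe]⟩
  · set φP := φ.comp (Subgroup.inclusion hPN) with hφP
    have hR : F.IsCentric φP.range := isCentric_of_conj hP ⟨φP, hidx.1 P h, rfl⟩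
    have hRD : D.IsCentric φP.range := ⟨hR.1, fun Q ⟨χ, hχ, hχr⟩ => hR.2 Q ⟨χ, hidx.1 _ hχ, hχr⟩⟩
    obtain ⟨ψ, hψ, hψe⟩ :=
      (isReceptive_of_fc hS hD (isFullyCentralized_of_isCentric hRD)).2 P φP h rfl
    have hNS : N ≤ S := hom_le hφ
    have hle : N ≤ extender S P φP := by
      intro g hg
      refine mem_extender_of (hNS hg) (hN hg) (hom_mem hφ ⟨g, hg⟩) fun x hx => ?_
      show φ ⟨g * (x : Ω) * g⁻¹, hPN hx⟩ = φ ⟨g, hg⟩ * φ ⟨x, hPN x.2⟩ * (φ ⟨g, hg⟩)⁻¹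
      rw [← map_inv, ← map_mul, ← map_mul]
      rfl
    have hψN := restrict_mem hψ hle
    obtain ⟨z, hzP, -, hz⟩ := centric_ext_unique hS hF hP hPN (hidx.1 N hψN) hφ
      fun x hx => hψe x hx (hle x.2)
    refine comp_mem' (D.conj_mem hNS (hNS z.2)) hψN (fun y => ?_) hz
    exact N.mul_mem (N.mul_mem z.2 y.2) (N.inv_mem z.2)

theorem centric_class_good [Finite S] [Fact p.Prime] (hS : IsPGroup p S) (hF : F.IsSaturated p)
    {P : Subgroup Ω} (hP : F.IsCentric P) :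
    ∃ Q, (minExtClosed F p).IsConj P Q ∧ (minExtClosed F p).IsFullyAutomized p Q ∧
      (minExtClosed F p).IsReceptive Q := by
  set E := minExtClosed F p with hEdef
  obtain ⟨hE1, hE2⟩ := isExtClosed_minExtClosed (F := F) (p := p)
  obtain ⟨Q, ⟨φ, hφ, hr⟩, hQ⟩ := exists_isFullyNormalized F hP.1
  obtain ⟨α, hα, φ₀, hφ₀, he⟩ := exists_factor_of_centric hS hF hE1 hφ
  have hφ₀E : φ₀ ∈ E.Hom P := twistCore_le_right P hφ₀
  have hφ₀F : φ₀ ∈ F.Hom P := hφ₀.1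
  set Q₀ := φ₀.range with hQ₀
  have hPQ₀ : F.IsConj P Q₀ := ⟨φ₀, hφ₀F, rfl⟩
  have hQ₀c : F.IsCentric Q₀ := isCentric_of_conj hP hPQ₀
  have hQQ₀ : F.IsConj Q Q₀ := isConj_trans (isConj_symm ⟨φ, hφ, hr⟩) hPQ₀
  have hmem : ∀ z : S, (z : Ω) ∈ Q₀ ↔ ((α z : S) : Ω) ∈ Q := by
    intro z
    constructor
    · rintro ⟨x, hx⟩
      rw [← hr, show z = ⟨φ₀ x, hom_mem hφ₀F x⟩ from Subtype.ext hx.symm, ← he x (hom_mem hφ₀F x)]
      exact ⟨x, rfl⟩
    · rw [← hr]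
      rintro ⟨x, hx⟩
      rw [he x (hom_mem hφ₀F x)] at hx
      exact ⟨x, congrArg Subtype.val (α.injective (Subtype.ext hx))⟩
  have hfn : F.IsFullyNormalized Q₀ := by
    refine ⟨hQ₀c.1, fun R hR => (hQ.2 R (isConj_trans hQQ₀ hR)).trans ?_⟩
    haveI := finite_of_le (normalizerIn_le (S := S) Q₀)
    have hn : ∀ y : normalizerIn S Q,
        ((α⁻¹ ⟨y, y.2.1⟩ : S) : Ω) ∈ normalizerIn S Q₀ := by
      intro y
      refine ⟨(α⁻¹ ⟨y, y.2.1⟩).2, ?_⟩
      refine Subgroup.mem_normalizer_iff.2 fun z => ?_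
      set s := α⁻¹ ⟨(y : Ω), y.2.1⟩ with hs
      have hys : (α s : Ω) = y := congrArg Subtype.val (MulAut.apply_inv_self _ α _)
      constructor
      · intro hz
        have h1 := (hmem (s * ⟨z, hQ₀c.1 hz⟩ * s⁻¹)).2 ?_
        · exact h1
        rw [map_mul, map_mul, map_inv, Subgroup.coe_mul, Subgroup.coe_mul, Subgroup.coe_inv, hys]
        exact (Subgroup.mem_normalizer_iff.1 y.2.2 _).1 ((hmem _).1 hz)
      · intro hz
        have h1 := (hmem ⟨_, hQ₀c.1 hz⟩).1 hz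
        have h2 : (⟨(s : Ω) * z * (s : Ω)⁻¹, hQ₀c.1 hz⟩ : S) =
            s * (s⁻¹ * ⟨(s : Ω) * z * (s : Ω)⁻¹, hQ₀c.1 hz⟩ * s) * s⁻¹ := by group
        have h3 : ((s⁻¹ * ⟨(s : Ω) * z * (s : Ω)⁻¹, hQ₀c.1 hz⟩ * s : S) : Ω) = z := by
          simp [mul_assoc]
        rw [h2, map_mul, map_mul, map_inv, Subgroup.coe_mul, Subgroup.coe_mul, Subgroup.coe_inv,
          hys] at h1
        have h4 := (hmem _).2 ((Subgroup.mem_normalizer_iff.1 y.2.2 _).2 h1)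
        rwa [h3] at h4
    exact Nat.card_le_card_of_injective (fun y => (⟨_, hn y⟩ : normalizerIn S Q₀)) fun a b hab =>
      Subtype.ext (congrArg Subtype.val ((α⁻¹ : MulAut S).injective
        (Subtype.ext (congrArg Subtype.val hab :))) :)
  obtain ⟨hfc, -, W, hW⟩ := isFullyAutomized_and_fc_of_fn hS hF hfn
  haveI := finite_mulAut_of_le hQ₀c.1
  refine ⟨Q₀, ⟨φ₀, hφ₀E, rfl⟩, ⟨hQ₀c.1, ?_⟩, hQ₀c.1, fun A χ hχ hχr => ?_⟩
  · have hle : E.autGroup Q₀ ≤ F.autGroup Q₀ := fun a ha =>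
      (mem_autGroup hQ₀c.1).2 (minExtClosed_le _ ((mem_autGroup hQ₀c.1).1 ha))
    obtain ⟨T, hT⟩ := ((isPGroup_autInducedBy hS).comap_subtype :
      IsPGroup p ((autInducedBy S Q₀).subgroupOf (E.autGroup Q₀))).exists_le_sylow
    refine ⟨T, le_antisymm ?_ hT⟩
    intro a ha
    have h1 := W.3 ((T.isPGroup').map (Subgroup.inclusion hle)) (by
      intro w hw
      rw [hW, Subgroup.mem_subgroupOf] at hw
      exact ⟨⟨w, autInducedBy_le_autGroup hQ₀c.1 hw⟩, hT hw, rfl⟩)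
    have h2 : Subgroup.inclusion hle a ∈ (W : Subgroup (F.autGroup Q₀)) := by
      rw [← h1]
      exact ⟨a, ha, rfl⟩
    rw [hW, Subgroup.mem_subgroupOf] at h2
    exact h2
  · obtain ⟨ψ, hψ, hψe⟩ :=
      (isReceptive_of_fc hS hF hfc).2 A χ (minExtClosed_le _ hχ) hχr
    have hA : F.IsCentric A :=
      isCentric_of_conj hQ₀c (isConj_symm ⟨χ, minExtClosed_le _ hχ, hχr⟩)
    have hle : A ≤ extender S A χ := le_extender hA.1 (hom_mem hχ)
    refine ⟨ψ, hE2 A _ hle hA ((extender_le χ).trans inf_le_right) ψ hψ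
      (hom_congr hχ fun x => hψe x x.2 _), hψe⟩

theorem isSaturated_minExtClosed [Finite S] [Fact p.Prime] (hS : IsPGroup p S)
    (hF : F.IsSaturated p) : (minExtClosed F p).IsSaturated p := by
  set E := minExtClosed F p with hEdef
  obtain ⟨hE1, hE2⟩ := isExtClosed_minExtClosed (F := F) (p := p)
  refine isSaturated_of_family hS {P | F.IsCentric P}
    (fun P hP Q ⟨φ, hφ, hr⟩ => isCentric_of_conj hP ⟨φ, hφ.1, hr⟩)
    (fun P hP => centric_class_good hS hF hP) (fun D hD => ?_) fun P hP hPℋ => absurd ?_ hPℋ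
  · let D' : FusionSystem S :=
      { Hom := fun P => {φ | φ ∈ E.Hom P ∧ φ ∈ D.Hom P}
        le_of_mem := fun h => E.le_of_mem h.1
        injective_of_mem := fun h => E.injective_of_mem h.1
        conj_mem := fun hP hg => ⟨E.conj_mem hP hg, D.conj_mem hP hg⟩
        comp_mem := fun hφ hψ h => ⟨E.comp_mem hφ.1 hψ.1 h, D.comp_mem hφ.2 hψ.2 h⟩
        inv_mem := by
          rintro P φ ⟨h1, h2⟩
          obtain ⟨ψ, hψ, hψe⟩ := E.inv_mem h1
          obtain ⟨χ, hχ, hχe⟩ := D.inv_mem h2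
          refine ⟨ψ, ⟨hψ, hom_congr hχ ?_⟩, hψe⟩
          rintro ⟨_, x, rfl⟩
          exact (hψe x).trans (hχe x).symm }
    have hcl : IsExtClosed F p D' := by
      refine ⟨fun P hP a ha hk => ?_, fun P N hPN hP hN φ hφ h => ?_⟩
      · have h1 := (mem_autGroup hP.1).1 (hE1 P hP a ha hk)
        exact (mem_autGroup hP.1).2 ⟨h1, hD P hP h1⟩
      · have h1 := hE2 P N hPN hP hN φ hφ h.1
        exact ⟨h1, hD N (isCentric_mono hP hPN (hom_le hφ)) h1⟩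
    exact fun P φ hφ => (minExtClosed_le_of hcl P hφ).2
  · refine ⟨hP.1, fun Q hQ => ?_⟩
    obtain ⟨φ, hφ, rfl⟩ := hQ
    obtain ⟨α, hα, φ₀, hφ₀, he⟩ := exists_factor_of_centric hS hF hE1 hφ
    have h0 := hP.2 _ ⟨φ₀, twistCore_le_right P hφ₀, rfl⟩
    intro g hg
    obtain ⟨hgS, hgc⟩ := mem_centralizerIn.1 hg
    have h1 : ((α⁻¹ ⟨g, hgS⟩ : S) : Ω) ∈ φ₀.range := by
      refine h0 (mem_centralizerIn.2 ⟨(α⁻¹ ⟨g, hgS⟩).2, ?_⟩)
      rintro _ ⟨x, rfl⟩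
      have h2 : α (α⁻¹ ⟨g, hgS⟩ * ⟨φ₀ x, hom_mem hφ₀.1 x⟩) =
          α (⟨φ₀ x, hom_mem hφ₀.1 x⟩ * α⁻¹ ⟨g, hgS⟩) := by
        rw [map_mul, map_mul, MulAut.apply_inv_self]
        refine Subtype.ext ?_
        simp only [Subgroup.coe_mul, ← he x (hom_mem hφ₀.1 x)]
        exact hgc _ ⟨x, rfl⟩
      exact congrArg Subtype.val (α.injective h2)
    obtain ⟨x, hx⟩ := h1
    refine ⟨x, (he x (hom_mem hφ₀.1 x)).trans ?_⟩
    rw [show (⟨φ₀ x, hom_mem hφ₀.1 x⟩ : S) = α⁻¹ ⟨g, hgS⟩ from Subtype.ext hx,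
      MulAut.apply_inv_self]

theorem exists_pPrimeResidual [Finite S] [Fact p.Prime] (hS : IsPGroup p S) (hF : F.IsSaturated p) :
    ∃ E : FusionSystem S, F.IsPPrimeResidual p E := by
  refine ⟨minExtClosed F p, isSaturated_minExtClosed hS hF, ⟨fun P φ h => h.1, fun P hP => ?_⟩,
    fun D hD hidx => fun P φ hφ => hφ.2 D (isExtClosed_of_saturated hS hF hD hidx)⟩
  rw [Subgroup.map_le_iff_le_comap, Subgroup.closure_le]
  rintro a ⟨k, hk⟩
  exact mem_autGroup_of_centric hS hF isExtClosed_minExtClosed.1 hP a.2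
    ⟨k, by rw [← hk]; exact Subgroup.orderOf_coe a⟩

end Cfsg.Lib.FusionSys
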