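import Cfsg.Agent.Lib.FusionSys.Saturation
import Cfsg.Agent.Lib.FusionSys.Normal
import Cfsg.Prelude.Def_FusionComponents

/-!
Fully normalized subgroups in subnormal subsystems.
-/

set_option autoImplicit false

namespace Cfsg.Lib.FusionSys

open Cfsg Cfsg.FusionSystem

variable {Ω : Type*} [Group Ω]

theorem isSubsystemOf_of_isSubnormalIn {T S : Subgroup Ω} {E : FusionSystem T} {F : FusionSystem S} {p : ℕ}
    (h : E.IsSubnormalIn F p) : E.IsSubsystemOf F := by
  induction h with
  | refl F p => exact fun P => subset_rfl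
  | step h1 h2 ih => exact fun P φ hφ => h2.1.2.2.1 P (ih P hφ)

theorem isFullyNormalized_of_invariant {T S : Subgroup Ω} [Finite S] {E : FusionSystem T} {F : FusionSystem S}
    {p : ℕ} [Fact p.Prime] (hS : IsPGroup p S) (hF : F.IsSaturated p) (hsub : E.IsSubsystemOf F)
    (hT : F.StronglyClosed T) {P : Subgroup Ω} (hPT : P ≤ T) (hP : F.IsFullyNormalized P) :
    E.IsFullyNormalized P := by
  refine ⟨hPT, ?_⟩
  rintro R ⟨σ, hσ, rfl⟩
  obtain ⟨hfc, hfa⟩ := isFullyAutomized_and_fc_of_fn hS hF hP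
  obtain ⟨ν, hν, hνv, -⟩ := exists_normalizer_map hS hfa (isReceptive_of_fc hS hF hfc)
    (isConj_symm ⟨σ, hsub _ hσ, rfl⟩)
  have hle : normalizerIn T σ.range ≤ normalizerIn S σ.range := fun t ht => ⟨hT.1 ht.1, ht.2⟩
  haveI := finite_of_le hT.1
  haveI := finite_of_le ((normalizerIn_le (S := T) P).trans hT.1)
  have hmem : ∀ x : normalizerIn T σ.range, ν (Subgroup.inclusion hle x) ∈ normalizerIn T P := fun x =>
    ⟨hT.2 _ (normalizerIn_le _) _ (restrict_mem hν hle) x, (hνv _).2⟩
  exact Nat.card_le_card_of_injective (fun x => (⟨_, hmem x⟩ : normalizerIn T P)) fun a b hab =>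
    Subgroup.inclusion_injective _ (F.injective_of_mem hν (congrArg Subtype.val hab))

theorem isFullyNormalized_of_isSubnormalIn {T S : Subgroup Ω} [Finite S] {E : FusionSystem T}
    {F : FusionSystem S} {p : ℕ} [Fact p.Prime] (hS : IsPGroup p S) (hF : F.IsSaturated p)
    (hE : E.IsSubnormalIn F p) {P : Subgroup Ω} (hPT : P ≤ T) (hP : F.IsFullyNormalized P) :
    E.IsFullyNormalized P := by
  have hfin : Finite S := inferInstance
  have hp : p.Prime := Fact.out
  revert hP hF hS hfin hp
  induction hE with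
  | refl F p => exact fun _ _ hP _ _ => hP
  | @step U S E D F p h1 h2 ih =>
    intro hS hF hP hfin hp
    haveI := Fact.mk hp
    obtain ⟨⟨hD, -, hsub, hU, -⟩, -⟩ := h2
    haveI := finite_of_le hU.1
    have hTU : T ≤ U := hom_le (isSubsystemOf_of_isSubnormalIn h1 T (subtype_mem E le_rfl))
    exact ih (hS.to_le hU.1) hD (isFullyNormalized_of_invariant hS hF hsub hU (hPT.trans hTU) hP) inferInstance hp

end Cfsg.Lib.FusionSys
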