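import Cfsg.Agent.Lib.FusionSys.GoodExtension
import Cfsg.Agent.Lib.FusionSys.StrongInvariance
import Cfsg.Agent.Lib.FusionSys.SubnormalFn
import Cfsg.Agent.Lib.FusionSys.PPrimeResidual

/-!
The automorphisms of a subgroup with a good extension, and two generation lemmas.
-/

set_option autoImplicit false
set_option linter.style.haveILetI false

namespace Cfsg.Lib.FusionSys

open Cfsg Cfsg.FusionSystem
open scoped Pointwise

variable {Ω : Type*} [Group Ω] {S T : Subgroup Ω} {F : FusionSystem S} {E : FusionSystem T} {p : ℕ}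

/-- The automorphisms of `P` with a good extension. -/
def goodAut (hT : F.StronglyClosed T) (P : Subgroup Ω) (hP : P ≤ S) : Subgroup (MulAut P) where
  carrier := {a | ∃ ψ ∈ goodExt hT P hP,
    ∀ x : P, ((ψ (Subgroup.inclusion le_sup_left x) : _) : Ω) = (a x : Ω)}
  one_mem' := ⟨1, one_mem _, fun _ => rfl⟩
  mul_mem' := by
    rintro a b ⟨f, hf, hfe⟩ ⟨g, hg, hge⟩
    refine ⟨f * g, mul_mem hf hg, fun x => ?_⟩
    rw [MulAut.mul_apply, MulAut.mul_apply, ← hfe (b x)]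
    exact congrArg (fun z => ((f z : _) : Ω)) (Subtype.ext (hge x))
  inv_mem' := by
    rintro a ⟨f, hf, hfe⟩
    refine ⟨f⁻¹, inv_mem hf, fun x => ?_⟩
    have h : f (Subgroup.inclusion le_sup_left (a⁻¹ x)) = Subgroup.inclusion le_sup_left x :=
      Subtype.ext ((hfe _).trans (by rw [MulAut.apply_inv_self]; rfl))
    rw [← h, MulAut.inv_apply_self]
    rfl

theorem exists_autGroup_ext [Finite S] [Fact p.Prime] (hS : IsPGroup p S) (hF : F.IsSaturated p)
    {P : Subgroup Ω} (hfc : F.IsFullyCentralized P) {b : MulAut P} (hb : b ∈ F.autGroup P) :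
    ∃ β ∈ stabAut F (P ⊔ centralizerIn S P) P,
      (∀ x : P, ((β (Subgroup.inclusion le_sup_left x) : _) : Ω) = (b x : Ω)) ∧
      ∀ x : ↥(P ⊔ centralizerIn S P), (x : Ω) ∈ centralizerIn S P →
        ((β x : _) : Ω) ∈ centralizerIn S P ∧ ((β⁻¹ x : _) : Ω) ∈ centralizerIn S P := by
  have key : ∀ b ∈ F.autGroup P, ∃ β ∈ F.autGroup (P ⊔ centralizerIn S P),
      (∀ x : P, ((β (Subgroup.inclusion le_sup_left x) : _) : Ω) = (b x : Ω)) ∧
      ∀ x : ↥(P ⊔ centralizerIn S P), (x : Ω) ∈ centralizerIn S P →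
        ((β x : _) : Ω) ∈ centralizerIn S P := by
    intro b hb
    obtain ⟨ε, hε, hεe, hεc, hεv⟩ := exists_ext_fc hS hF hfc ((mem_autGroup hfc.1).1 hb) (by
      ext y
      exact ⟨fun ⟨x, hx⟩ => hx ▸ (b x).2, fun hy => ⟨b⁻¹ ⟨y, hy⟩, by simp⟩⟩)
    obtain ⟨β, hβ, hβe⟩ := exists_aut_of_hom hε hεv
    exact ⟨β, hβ, fun x => (hβe _).trans (hεe x), fun x hx => (hβe x) ▸ hεc ⟨_, hx⟩⟩
  have hRS : P ⊔ centralizerIn S P ≤ S := sup_le hfc.1 (centralizerIn_le P)
  obtain ⟨β, hβ, hβe, hβc⟩ := key b hb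
  have hst : β ∈ stabAut F (P ⊔ centralizerIn S P) P := by
    refine ⟨hβ, fun x => ⟨fun hx => ?_, fun hx => ?_⟩⟩
    · rw [show x = Subgroup.inclusion le_sup_left ⟨(x : Ω), hx⟩ from rfl, hβe]
      exact (b _).2
    · have h : β (Subgroup.inclusion le_sup_left (b⁻¹ ⟨_, hx⟩)) = β x :=
        Subtype.ext ((hβe _).trans (by rw [MulAut.apply_inv_self]))
      rw [← β.injective h]
      exact (b⁻¹ ⟨_, hx⟩).2
  refine ⟨β, hst, hβe, fun x hx => ⟨hβc x hx, mem_centralizerIn.2 ⟨hRS (β⁻¹ x).2, fun y hy => ?_⟩⟩⟩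
  let y' : ↥(P ⊔ centralizerIn S P) := ⟨y, Subgroup.mem_sup_left hy⟩
  have h : x * β y' = β y' * x :=
    Subtype.ext ((mem_centralizerIn.1 hx).2 _ ((hst.2 y').1 hy))
  have h2 := congrArg (fun z : ↥(P ⊔ centralizerIn S P) => ((β⁻¹ z : _) : Ω)) h
  simp only [map_mul, MulAut.inv_apply_self, Subgroup.coe_mul] at h2
  exact h2

theorem goodAut_le_autGroup (hT : F.StronglyClosed T) {P : Subgroup Ω} {hP : P ≤ S} :
    goodAut hT P hP ≤ F.autGroup P := by
  rintro a ⟨f, hf, hfe⟩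
  refine (mem_autGroup hP).2 ?_
  have h := restrict_mem ((mem_autGroup (sup_le hP (centralizerIn_le P))).1 hf.1.1)
    (le_sup_left : P ≤ P ⊔ centralizerIn S P)
  exact hom_congr h fun x => (hfe x).symm

theorem goodAut_conj [Finite S] [Fact p.Prime] (hS : IsPGroup p S) (hF : F.IsSaturated p)
    {hT : F.StronglyClosed T} {P : Subgroup Ω} {hP : P ≤ S} (hfc : F.IsFullyCentralized P)
    {a b : MulAut P} (ha : a ∈ goodAut hT P hP) (hb : b ∈ F.autGroup P) :
    b * a * b⁻¹ ∈ goodAut hT P hP := by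
  obtain ⟨f, hf, hfe⟩ := ha
  obtain ⟨β, hβ, hβe, hβc⟩ := exists_autGroup_ext hS hF hfc hb
  have hRS : P ⊔ centralizerIn S P ≤ S := sup_le hP (centralizerIn_le P)
  refine ⟨β * f * β⁻¹, ⟨mul_mem (mul_mem hβ hf.1) (inv_mem hβ), fun x hx => ?_⟩, fun x => ?_⟩
  · have h1 := hf.2 (β⁻¹ x) (hβc x hx).2
    have h2 : (((β ((β⁻¹ x)⁻¹ * f (β⁻¹ x))) : _) : Ω) ∈ T :=
      stronglyClosed_apply_mem hT ((mem_autGroup hRS).1 hβ.1) (x := (β⁻¹ x)⁻¹ * f (β⁻¹ x)) h1
    rwa [map_mul, map_inv, MulAut.apply_inv_self] at h2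
  · have hinv : β⁻¹ (Subgroup.inclusion le_sup_left x) = Subgroup.inclusion le_sup_left (b⁻¹ x) := by
      have h : β (Subgroup.inclusion le_sup_left (b⁻¹ x)) = Subgroup.inclusion le_sup_left x :=
        Subtype.ext ((hβe _).trans (by rw [MulAut.apply_inv_self]; rfl))
      rw [← h, MulAut.inv_apply_self]
    rw [MulAut.mul_apply, MulAut.mul_apply, hinv, MulAut.mul_apply, MulAut.mul_apply,
      show f (Subgroup.inclusion le_sup_left (b⁻¹ x)) = Subgroup.inclusion le_sup_left (a (b⁻¹ x)) from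
        Subtype.ext (hfe _), hβe]

theorem conjAut_mem_goodAut [Finite S] (hT : F.StronglyClosed T) {P : Subgroup Ω} (hP : P ≤ S) {t : Ω}
    (ht : t ∈ T) (hn : t ∈ Subgroup.normalizer (P : Set Ω)) : conjAut P hn ∈ goodAut hT P hP := by
  have hRS : P ⊔ centralizerIn S P ≤ S := sup_le hP (centralizerIn_le P)
  have hnC : t ∈ Subgroup.normalizer ((centralizerIn S P : Subgroup Ω) : Set Ω) := by
    refine Subgroup.mem_normalizer_iff.2 fun c => ?_
    have key : ∀ u, u ∈ T → u ∈ Subgroup.normalizer (P : Set Ω) → ∀ c ∈ centralizerIn S P,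
        u * c * u⁻¹ ∈ centralizerIn S P := by
      intro u hu hun c hc
      obtain ⟨hcS, hcc⟩ := mem_centralizerIn.1 hc
      refine mem_centralizerIn.2 ⟨S.mul_mem (S.mul_mem (hT.1 hu) hcS) (S.inv_mem (hT.1 hu)),
        fun y hy => ?_⟩
      have h1 := hcc (u⁻¹ * y * u) ((Subgroup.mem_normalizer_iff''.1 hun y).1 hy)
      calc u * c * u⁻¹ * y = u * (c * (u⁻¹ * y * u)) * u⁻¹ := by group
        _ = u * (u⁻¹ * y * u * c) * u⁻¹ := by rw [h1]
        _ = y * (u * c * u⁻¹) := by group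
    refine ⟨key t ht hn c, fun h => ?_⟩
    have := key t⁻¹ (inv_mem ht) (inv_mem hn) _ h
    rwa [inv_inv, show t⁻¹ * (t * c * t⁻¹) * t = c by group] at this
  have hnR : t ∈ Subgroup.normalizer ((P ⊔ centralizerIn S P : Subgroup Ω) : Set Ω) :=
    normalizer_inf_le ⟨hn, hnC⟩
  refine ⟨conjAut _ hnR, ⟨conjAut_mem_stabAut hRS (hT.1 ht) hnR hn, fun x hx => ?_⟩, fun x => rfl⟩
  rw [coe_conjAut]
  have h := (Subgroup.mem_normalizer_iff.1
    (stronglyClosed_le_normalizer hT (S.inv_mem (hRS x.2))) t).1 ht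
  rw [inv_inv] at h
  have h2 := T.mul_mem h (T.inv_mem ht)
  rwa [show (x : Ω)⁻¹ * t * (x : Ω) * t⁻¹ = (x : Ω)⁻¹ * (t * (x : Ω) * t⁻¹) by group] at h2

/-- The automizer in an invariant subsystem is normal in the automizer. -/
theorem autGroup_invariant_conj_mem [Finite S] (hEi : E.IsInvariantIn F) {P : Subgroup Ω} (hP : P ≤ T)
    {a b : MulAut P} (ha : a ∈ E.autGroup P) (hb : b ∈ F.autGroup P) :
    b * a * b⁻¹ ∈ E.autGroup P := by
  have hPS : P ≤ S := hP.trans hEi.2.1.1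
  obtain ⟨χ, hχ, hχe⟩ := isInvariant_strongInv hEi P P le_rfl hP _ ((mem_autGroup hP).1 ha)
    (fun x => (a x).2) _ ((mem_autGroup hPS).1 hb)
  have hmap : (P.subgroupOf P).map (P.subtype.comp b.toMonoidHom) = P := by
    ext y
    exact ⟨fun ⟨x, _, hx⟩ => hx ▸ (b x).2, fun hy => ⟨b⁻¹ ⟨y, hy⟩, (b⁻¹ ⟨y, hy⟩).2, by simp⟩⟩
  have key : ∀ (U : Subgroup Ω) (_ : U = P) (χ : U →* Ω), χ ∈ E.Hom U →
      (∀ (x : P) (hx : (x : Ω) ∈ U), χ ⟨x, hx⟩ = ((b * a * b⁻¹) x : Ω)) →
      P.subtype.comp (b * a * b⁻¹).toMonoidHom ∈ E.Hom P := by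
    rintro U rfl χ hχ h
    exact hom_congr hχ fun x => (h x x.2).symm
  refine (mem_autGroup hP).2 (key _ hmap χ hχ fun x hx => ?_)
  have hx' : (P.subtype.comp b.toMonoidHom) (Subgroup.inclusion le_rfl (b⁻¹ x)) = (x : Ω) := by
    show ((b (b⁻¹ x) : P) : Ω) = x
    rw [MulAut.apply_inv_self]
  refine (congrArg χ (Subtype.ext hx'.symm)).trans ((hχe (b⁻¹ x) (by rw [hx']; exact hx)).trans ?_)
  rfl

/-- A `p`-element of the automizer of a fully normalized subgroup is conjugate in it to an induced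
automorphism. -/
theorem exists_conj_induced [Finite S] [Fact p.Prime] (hS : IsPGroup p S) (hF : F.IsSaturated p)
    {P : Subgroup Ω} (hP : F.IsFullyNormalized P) {a : MulAut P} (ha : a ∈ F.autGroup P)
    (hk : ∃ k : ℕ, orderOf a = p ^ k) :
    ∃ b ∈ F.autGroup P, ∃ s ∈ S, ∃ hn : s ∈ Subgroup.normalizer (P : Set Ω),
      b * a * b⁻¹ = conjAut P hn := by
  haveI := finite_of_le hP.1
  haveI : Finite (MulAut P) := Finite.of_injective (fun f => (f : P → P)) DFunLike.coe_injective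
  obtain ⟨-, R, hR⟩ := (isFullyAutomized_and_fc_of_fn hS hF hP).2
  let a' : F.autGroup P := ⟨a, ha⟩
  obtain ⟨k, hk⟩ := hk
  have hp : IsPGroup p (Subgroup.zpowers a') :=
    IsPGroup.iff_card.2 ⟨k, by rw [Nat.card_zpowers, ← Subgroup.orderOf_coe]; exact hk⟩
  obtain ⟨R', hR'⟩ := hp.exists_le_sylow
  obtain ⟨b, hb⟩ := MulAction.exists_smul_eq (F.autGroup P) R' R
  have hmem : b * a' * b⁻¹ ∈ (R : Subgroup (F.autGroup P)) := by
    rw [← hb, Sylow.coe_subgroup_smul]
    exact Subgroup.smul_mem_pointwise_smul _ (MulAut.conj b) _ (hR' (Subgroup.mem_zpowers a'))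
  rw [hR] at hmem
  obtain ⟨s, hs, hse⟩ := mem_autInducedBy.1 hmem
  exact ⟨b, b.2, s, hs, mem_normalizer_of_aut hse, MulEquiv.ext fun x => Subtype.ext (hse x)⟩

theorem mem_goodAut_of_pElement [Finite S] [Fact p.Prime] (hS : IsPGroup p S) (hF : F.IsSaturated p)
    (hE : E.IsSaturated p) (hEi : E.IsInvariantIn F) {P : Subgroup Ω} (hPT : P ≤ T)
    (hP : F.IsFullyNormalized P) {a : MulAut P} (ha : a ∈ E.autGroup P)
    (hk : ∃ k : ℕ, orderOf a = p ^ k) : a ∈ goodAut hEi.2.1 P (hPT.trans hEi.2.1.1) := by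
  have hTS := hEi.2.1.1
  haveI := finite_of_le hTS
  obtain ⟨b, hb, t, ht, hn, hbe⟩ := exists_conj_induced (hS.to_le hTS) hE
    (isFullyNormalized_of_invariant hS hF hEi.1 hEi.2.1 hPT hP) ha hk
  have hbF : b ∈ F.autGroup P :=
    (mem_autGroup hP.1).2 (hEi.1 _ ((mem_autGroup hPT).1 hb))
  have h := goodAut_conj hS hF (isFullyAutomized_and_fc_of_fn hS hF hP).1
    (conjAut_mem_goodAut hEi.2.1 hP.1 ht hn) (inv_mem hbF)
  rwa [← hbe, show b⁻¹ * (b * a * b⁻¹) * b⁻¹⁻¹ = a by group] at h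

theorem mem_goodAut_top [Finite S] (hE : E.IsNormalIn F p) {a : MulAut T} (ha : a ∈ E.autGroup T) :
    a ∈ goodAut hE.1.2.2.2.1 T hE.1.2.2.2.1.1 := by
  obtain ⟨β, hβ, hβe, hβc⟩ := hE.2 a ha
  refine ⟨β, ⟨⟨hβ, fun x => ⟨fun hx => ?_, fun hx => ?_⟩⟩, fun x hx => (hβc x hx).1⟩, hβe⟩
  · rw [show x = Subgroup.inclusion le_sup_left ⟨(x : Ω), hx⟩ from rfl, hβe]
    exact (a _).2
  · have h : β (Subgroup.inclusion le_sup_left (a⁻¹ ⟨_, hx⟩)) = β x :=
      Subtype.ext ((hβe _).trans (by rw [MulAut.apply_inv_self]))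
    rw [← β.injective h]
    exact (a⁻¹ ⟨_, hx⟩).2

/-- An automorphism of order prime to `p` with a good extension has one with a common such exponent. -/
theorem exists_goodExt_pPrime [Finite S] [Fact p.Prime] {hT : F.StronglyClosed T} {P : Subgroup Ω}
    {hP : P ≤ S} {a : MulAut P} (ha : a ∈ goodAut hT P hP) (hcop : (orderOf a).Coprime p) :
    ∃ ψ ∈ goodExt hT P hP, ∃ m : ℕ, m.Coprime p ∧ ψ ^ m = 1 ∧ a ^ m = 1 ∧
      ∀ x : P, ((ψ (Subgroup.inclusion le_sup_left x) : _) : Ω) = (a x : Ω) := by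
  obtain ⟨f, hf, hfe⟩ := ha
  haveI := finite_of_le (sup_le hP (centralizerIn_le (S := S) P))
  haveI : Finite (MulAut ↥(P ⊔ centralizerIn S P)) :=
    Finite.of_injective (fun f => (f : ↥(P ⊔ centralizerIn S P) → ↥(P ⊔ centralizerIn S P)))
      DFunLike.coe_injective
  obtain ⟨u, v, hv, huv⟩ := Nat.exists_eq_pow_mul_and_not_dvd (orderOf_pos f).ne' p
    (Fact.out : p.Prime).ne_one
  obtain ⟨k, hk⟩ := exists_pow_eq_self_of_coprime (x := a)
    ((Nat.Coprime.pow_right u hcop).symm : (p ^ u).Coprime (orderOf a))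
  have hpow : ∀ (n : ℕ) (x : P),
      (((f ^ n) (Subgroup.inclusion le_sup_left x) : _) : Ω) = (((a ^ n) x : P) : Ω) := fun n x =>
    (aut_pow_agree le_sup_left (θ := a) (fun y => (hfe y).symm) n x).symm
  have hav : a ^ v = 1 := by
    have h1 : a ^ (p ^ u * v) = 1 := MulEquiv.ext fun x => Subtype.ext (by
      rw [← hpow, ← huv, pow_orderOf_eq_one]; rfl)
    exact orderOf_dvd_iff_pow_eq_one.1
      (((Nat.Coprime.pow_right u hcop)).dvd_of_dvd_mul_left (orderOf_dvd_of_pow_eq_one h1))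
  refine ⟨f ^ (p ^ u * k), pow_mem hf _, v, ((Fact.out : p.Prime).coprime_iff_not_dvd.2 hv).symm, ?_, hav,
    fun x => ?_⟩
  · rw [← pow_mul, mul_right_comm, ← huv, pow_mul, pow_orderOf_eq_one, one_pow]
  · rw [hpow, pow_mul, hk]

/-- A group with a normal subgroup `H` is generated by the elements of `H` of order prime to `p` and the
normalizer of a Sylow subgroup of `H`. -/
theorem closure_pPrime_union_normalizer {G : Type*} [Group G] [Finite G] [Fact p.Prime] (H : Subgroup G)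
    [H.Normal] (R : Sylow p H) :
    Subgroup.closure ({x : G | x ∈ H ∧ (orderOf x).Coprime p} ∪
      (Subgroup.normalizer (((R : Subgroup H).map H.subtype : Subgroup G) : Set G) : Set G)) = ⊤ := by
  set C := Subgroup.closure ({x : G | x ∈ H ∧ (orderOf x).Coprime p} ∪
      (Subgroup.normalizer (((R : Subgroup H).map H.subtype : Subgroup G) : Set G) : Set G)) with hC
  let M : Subgroup H := Subgroup.closure {x : H | (orderOf x).Coprime p}
  haveI hM : M.Normal := by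
    refine ⟨fun x hx g => ?_⟩
    have hle : M.map (MulAut.conj g).toMonoidHom ≤ M := by
      rw [Subgroup.map_le_iff_le_comap]
      refine (Subgroup.closure_le _).2 fun y hy => Subgroup.subset_closure ?_
      show (orderOf (MulAut.conj g y)).Coprime p
      rwa [MulEquiv.orderOf_eq]
    exact hle ⟨x, hx, rfl⟩
  have hq : IsPGroup p (H ⧸ M) := by
    intro q
    obtain ⟨x, rfl⟩ := QuotientGroup.mk'_surjective M q
    obtain ⟨u, v, hv, huv⟩ := Nat.exists_eq_pow_mul_and_not_dvd (orderOf_pos x).ne' p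
      (Fact.out : p.Prime).ne_one
    refine ⟨u, ?_⟩
    rw [← map_pow]
    refine (QuotientGroup.eq_one_iff _).2 (Subgroup.subset_closure ?_)
    have h1 : (x ^ p ^ u) ^ v = 1 := by rw [← pow_mul, ← huv, pow_orderOf_eq_one]
    exact Nat.Coprime.coprime_dvd_left (orderOf_dvd_of_pow_eq_one h1)
      ((Fact.out : p.Prime).coprime_iff_not_dvd.2 hv).symm
  have htop : (R : Subgroup H).map (QuotientGroup.mk' M) = ⊤ := by
    let R' := R.mapSurjective (QuotientGroup.mk'_surjective M)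
    have hp : IsPGroup p (⊤ : Subgroup (H ⧸ M)) := hq.to_subgroup _
    have := R'.3 hp le_top
    exact this.symm
  have hsup : (R : Subgroup H) ⊔ M = ⊤ := by
    have h := congrArg (Subgroup.comap (QuotientGroup.mk' M)) htop
    rwa [Subgroup.comap_map_eq, QuotientGroup.ker_mk', Subgroup.comap_top] at h
  have hH : H ≤ C := by
    intro x hx
    have h1 : (R : Subgroup H) ⊔ M ≤ C.comap H.subtype := by
      refine sup_le (fun r hr => Subgroup.subset_closure (Or.inr ?_)) ((Subgroup.closure_le _).2 ?_)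
      · exact Subgroup.le_normalizer ⟨r, hr, rfl⟩
      · intro y hy
        exact Subgroup.subset_closure (Or.inl ⟨y.2, by rw [Subgroup.coe_subtype, Subgroup.orderOf_coe]; exact hy⟩)
    rw [hsup] at h1
    exact h1 (Subgroup.mem_top (⟨x, hx⟩ : H))
  refine top_le_iff.1 ?_
  rw [← Sylow.normalizer_sup_eq_top R]
  exact sup_le (fun g hg => Subgroup.subset_closure (Or.inr hg)) hH

/-- An automorphism whose conjugate of an induced automorphism is induced extends to a larger subgroup. -/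
theorem mem_extensibleAut_of_induced {P : Subgroup Ω} (hP : F.IsReceptive P) {b : MulAut P}
    (hb : b ∈ F.autGroup P) {g : Ω} (hg : g ∈ S) (hn : g ∈ Subgroup.normalizer (P : Set Ω)) (hgP : g ∉ P)
    (hi : b * conjAut P hn * b⁻¹ ∈ autInducedBy S P) : b ∈ extensibleAut F P := by
  obtain ⟨h, hh, he⟩ := mem_autInducedBy.1 hi
  refine mem_extensibleAut_of_conj hP hb ⟨hg, hn⟩ hgP hh fun x y hxy => ?_
  have h1 := he (b x)
  rw [MulAut.mul_apply, MulAut.mul_apply, MulAut.inv_apply_self] at h1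
  rw [← h1]
  exact congrArg (fun z : P => ((b z : P) : Ω)) (Subtype.ext hxy)

theorem extensibleAut_le_of_bigger [Finite S] {D : FusionSystem S} {P : Subgroup Ω} (hP : P ≤ S)
    (hbig : ∀ M : Subgroup Ω, Nat.card P < Nat.card M → F.Hom M ⊆ D.Hom M) :
    extensibleAut F P ≤ D.autGroup P := by
  refine (Subgroup.closure_le _).2 ?_
  rintro a ⟨M, hPM, φ, hφ, h⟩
  haveI := finite_of_le (hom_le hφ)
  exact (mem_autGroup hP).2 (hom_congr
    (restrict_mem (hbig M (Set.Finite.card_lt_card (Set.toFinite _) hPM) hφ) hPM.le) fun x => (h x).symm)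

end Cfsg.Lib.FusionSys
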