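import Cfsg.Agent.Lib.FusionSys.ResidualNormal
import Cfsg.Agent.Lib.FusionSys.SubnormalFn

/-!
`p`-automorphisms of centric subgroups are good, and goodness passes to the automorphisms of `T`.
-/

set_option autoImplicit false
set_option linter.style.haveILetI false

namespace Cfsg.Lib.FusionSys

open Cfsg Cfsg.FusionSystem

variable {Ω : Type*} [Group Ω] {S T : Subgroup Ω} {F : FusionSystem S} {E : FusionSystem T} {p : ℕ}

/-- The image of a centric subgroup under a map of the whole system contains its centralizer. -/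
theorem centralizer_hom_le (hEi : E.IsInvariantIn F) {P : Subgroup Ω} (hP : E.IsCentric P) {ψ : P →* Ω}
    (hψ : ψ ∈ F.Hom P) {w : Ω} (hw : w ∈ T) (hc : ∀ x, w * ψ x = ψ x * w) : w ∈ ψ.range := by
  obtain ⟨α, -, φ₀, hφ₀, he⟩ := hEi.2.2.2 P hP.1 ψ hψ
  have hc0 : ((α⁻¹ ⟨w, hw⟩ : T) : Ω) ∈ φ₀.range := by
    refine hP.2 _ ⟨φ₀, hφ₀, rfl⟩ (mem_centralizerIn.2 ⟨(α⁻¹ ⟨w, hw⟩).2, ?_⟩)
    rintro _ ⟨x, rfl⟩
    have h := hc x
    rw [he x (hom_mem hφ₀ x)] at h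
    have h2 : (⟨w, hw⟩ : T) * α ⟨φ₀ x, hom_mem hφ₀ x⟩ = α ⟨φ₀ x, hom_mem hφ₀ x⟩ * ⟨w, hw⟩ :=
      Subtype.ext h
    have h3 := congrArg (⇑(α⁻¹)) h2
    rw [map_mul, map_mul, MulAut.inv_apply_self] at h3
    exact congrArg Subtype.val h3
  obtain ⟨x, hx⟩ := hc0
  refine ⟨x, (he x (hom_mem hφ₀ x)).trans ?_⟩
  rw [show (⟨φ₀ x, hom_mem hφ₀ x⟩ : T) = α⁻¹ ⟨w, hw⟩ from Subtype.ext hx, MulAut.apply_inv_self]

theorem centric_image (hEi : E.IsInvariantIn F) {P : Subgroup Ω} (hP : E.IsCentric P) {ψ : P →* Ω}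
    (hψ : ψ ∈ F.Hom P) : E.IsCentric ψ.range := by
  have hle : ψ.range ≤ T := by
    rintro _ ⟨x, rfl⟩
    exact hEi.2.1.2 P hP.1 ψ hψ x
  refine ⟨hle, ?_⟩
  rintro R ⟨χ, hχ, rfl⟩ w hw
  obtain ⟨hwT, hwc⟩ := mem_centralizerIn.1 hw
  have hv : ∀ x, ψ x ∈ ψ.range := fun x => ⟨x, rfl⟩
  have hr : (χ.comp (ψ.codRestrict ψ.range hv)).range = χ.range := by
    refine le_antisymm (fun _ ⟨x, hx⟩ => ⟨_, hx⟩) ?_
    rintro _ ⟨⟨_, x, rfl⟩, rfl⟩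
    exact ⟨x, rfl⟩
  rw [← hr]
  exact centralizer_hom_le hEi hP (F.comp_mem hψ (hEi.1 _ hχ) hv) hwT fun x => hwc _ ⟨_, rfl⟩

/-- A `p`-automorphism of a centric subgroup is good. -/
theorem goodMap_pAut [Finite S] [Fact p.Prime] (hS : IsPGroup p S) (hF : F.IsSaturated p)
    (hE : E.IsSaturated p) (hEi : E.IsInvariantIn F) {Q : Subgroup Ω} (hQc : E.IsCentric Q) {a : MulAut Q}
    (ha : a ∈ E.autGroup Q) (hk : ∃ k : ℕ, orderOf a = p ^ k) :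
    GoodMap F T (Q.subtype.comp a.toMonoidHom) := by
  have hsc := hEi.2.1
  have hTS : T ≤ S := hsc.1
  have hQT : Q ≤ T := hQc.1
  haveI := finite_of_le hTS
  have hT : IsPGroup p T := hS.to_le hTS
  obtain ⟨Q₁, hconj, hQ₁⟩ := exists_isFullyNormalized F (hQT.trans hTS)
  obtain ⟨e, he⟩ := isConj_iff.1 hconj
  have hre : (Q₁.subtype.comp e.toMonoidHom).range = Q₁ := by
    ext y
    exact ⟨fun ⟨x, hx⟩ => hx ▸ (e x).2, fun hy => ⟨e.symm ⟨y, hy⟩, by simp⟩⟩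
  have hQ₁c : E.IsCentric Q₁ := hre ▸ centric_image hEi hQc he
  have hQ₁T : Q₁ ≤ T := hQ₁c.1
  obtain ⟨hfc, -⟩ := isFullyAutomized_and_fc_of_fn hS hF hQ₁
  have hrec := isReceptive_of_fc hS hF hfc
  -- the transported automorphism
  have ha₁ : MulAut.congr e a ∈ E.autGroup Q₁ := by
    obtain ⟨χ, hχ, hχe⟩ := isInvariant_strongInv hEi Q Q le_rfl hQT _ ((mem_autGroup hQT).1 ha)
      (fun x => (a x).2) _ he
    refine (mem_autGroup hQ₁T).2 ?_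
    have hmap : (Q.subgroupOf Q).map (Q₁.subtype.comp e.toMonoidHom) = Q₁ := by
      ext y
      exact ⟨fun ⟨x, _, hx⟩ => hx ▸ (e x).2, fun hy => ⟨e.symm ⟨y, hy⟩, (e.symm ⟨y, hy⟩).2, by simp⟩⟩
    revert hχ hχe χ
    generalize (Q.subgroupOf Q).map (Q₁.subtype.comp e.toMonoidHom) = U at hmap ⊢
    subst hmap
    intro χ hχ hχe
    refine hom_congr hχ fun y => ?_
    have h := hχe (e.symm y) (by
      show ((e (e.symm y) : U) : Ω) ∈ U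
      exact (e (e.symm y)).2)
    refine Eq.trans ?_ ((congrArg χ (Subtype.ext ?_)).trans h).symm
    · rfl
    · show (y : Ω) = ((e (e.symm y) : U) : Ω)
      rw [MulEquiv.apply_symm_apply]
  obtain ⟨k, hk⟩ := hk
  haveI := finite_of_le hQ₁T
  haveI : Finite (MulAut Q₁) := Finite.of_injective (fun f => (f : Q₁ → Q₁)) DFunLike.coe_injective
  have hQ₁E : E.IsFullyNormalized Q₁ := isFullyNormalized_of_invariant hS hF hEi.1 hsc hQ₁T hQ₁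
  obtain ⟨-, R, hR⟩ := (isFullyAutomized_and_fc_of_fn hT hE hQ₁E).2
  have hp : IsPGroup p (Subgroup.zpowers (⟨_, ha₁⟩ : E.autGroup Q₁)) := by
    refine IsPGroup.iff_card.2 ⟨k, ?_⟩
    rw [Nat.card_zpowers, ← Subgroup.orderOf_coe]
    exact (MulEquiv.orderOf_eq (MulAut.congr e) a).trans hk
  obtain ⟨R', hR'⟩ := hp.exists_le_sylow
  obtain ⟨b, hb⟩ := MulAction.exists_smul_eq (E.autGroup Q₁) R' R
  have hmem : b * ⟨_, ha₁⟩ * b⁻¹ ∈ (R : Subgroup (E.autGroup Q₁)) := by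
    rw [← hb, Sylow.coe_subgroup_smul]
    exact Subgroup.smul_mem_pointwise_smul _ (MulAut.conj b) _ (hR' (Subgroup.mem_zpowers _))
  rw [hR] at hmem
  obtain ⟨t, ht, hte⟩ := mem_autInducedBy.1 hmem
  -- extend `b`
  set W := Q₁ ⊔ centralizerIn S Q₁ with hWdef
  have hWS : W ≤ S := sup_le (hQ₁T.trans hTS) (centralizerIn_le Q₁)
  haveI := finite_of_le hWS
  have hbF : IsoIn F (b : MulAut Q₁) := hEi.1 _ ((mem_autGroup hQ₁T).1 b.2)
  have hbr : (Q₁.subtype.comp (b : MulAut Q₁).toMonoidHom).range = Q₁ := by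
    ext y
    exact ⟨fun ⟨x, hx⟩ => hx ▸ ((b : MulAut Q₁) x).2,
      fun hy => ⟨(b : MulAut Q₁)⁻¹ ⟨y, hy⟩, by
        show (((b : MulAut Q₁) ((b : MulAut Q₁)⁻¹ ⟨y, hy⟩) : Q₁) : Ω) = y
        rw [MulAut.apply_inv_self]⟩⟩
  obtain ⟨g₀, hg₀, hg₀e⟩ := hrec.2 Q₁ _ hbF hbr
  have hWle : W ≤ extender S Q₁ (Q₁.subtype.comp (b : MulAut Q₁).toMonoidHom) :=
    sup_le (le_extender (hQ₁T.trans hTS) fun x => hom_mem hbF x) (centralizerIn_le_extender _)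
  set g := g₀.comp (Subgroup.inclusion hWle) with hgdef
  have hg : g ∈ F.Hom W := restrict_mem hg₀ hWle
  have hgQ : ∀ (x : Q₁) (hx : (x : Ω) ∈ W), g ⟨x, hx⟩ = ((b : MulAut Q₁) x : Ω) := fun x hx =>
    hg₀e x x.2 (hWle hx)
  have hgC : ∀ (c : Ω) (hc : c ∈ centralizerIn S Q₁),
      g ⟨c, Subgroup.mem_sup_right hc⟩ ∈ centralizerIn S Q₁ := by
    intro c hc
    refine mem_centralizerIn.2 ⟨hom_mem hg _, fun y hy => ?_⟩
    have h := hgQ ((b : MulAut Q₁)⁻¹ ⟨y, hy⟩) (Subgroup.mem_sup_left ((b : MulAut Q₁)⁻¹ ⟨y, hy⟩).2)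
    rw [MulAut.apply_inv_self] at h
    change g _ = y at h
    rw [← h, ← map_mul, ← map_mul]
    exact congrArg g (Subtype.ext ((mem_centralizerIn.1 hc).2 _ ((b : MulAut Q₁)⁻¹ ⟨y, hy⟩).2))
  have hgr : g.range = W := by
    refine range_eq_of_card_le hg hWS (fun x => ?_) le_rfl
    have hle : W ≤ (W.comap g).map W.subtype := by
      refine sup_le (fun y hy => ⟨⟨y, Subgroup.mem_sup_left hy⟩, ?_, rfl⟩)
        fun c hc => ⟨⟨c, Subgroup.mem_sup_right hc⟩, Subgroup.mem_sup_right (hgC c hc), rfl⟩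
      show g _ ∈ W
      rw [hgQ ⟨y, hy⟩]
      exact Subgroup.mem_sup_left ((b : MulAut Q₁) ⟨y, hy⟩).2
    obtain ⟨y, hy, hyx⟩ := hle x.2
    rw [Subtype.ext (a1 := y) (a2 := x) hyx] at hy
    exact hy
  let γ : MulAut W := homIso hg hgr
  -- conjugation by `t`
  have htN : ∀ y, y ∈ Q₁ → t * y * t⁻¹ ∈ Q₁ := fun y hy => (hte ⟨y, hy⟩) ▸ Subtype.prop _
  have hmap : Q₁.map (MulAut.conj t).toMonoidHom = Q₁ := by
    apply le_antisymm
    · rintro _ ⟨y, hy, rfl⟩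
      exact htN y hy
    · intro y hy
      refine ⟨(((b * ⟨_, ha₁⟩ * b⁻¹ : E.autGroup Q₁) : MulAut Q₁)⁻¹ ⟨y, hy⟩ : Q₁), Subtype.prop _, ?_⟩
      refine (hte (((b * ⟨_, ha₁⟩ * b⁻¹ : E.autGroup Q₁) : MulAut Q₁)⁻¹ ⟨y, hy⟩)).symm.trans ?_
      exact congrArg Subtype.val (MulAut.apply_inv_self Q₁ _ _)
  have htQ : t ∈ Subgroup.normalizer (Q₁ : Set Ω) := Subgroup.mem_normalizer_iff.2 fun y => by
    refine ⟨htN y, fun h => ?_⟩
    rw [← hmap] at h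
    obtain ⟨z, hz, hze⟩ := h
    have : z = y := (MulAut.conj t).injective hze
    exact this ▸ hz
  have hct : ∀ c, c ∈ centralizerIn S Q₁ → c⁻¹ * (t * c * t⁻¹) ∈ Q₁ := by
    intro c hc
    obtain ⟨hcS, hcc⟩ := mem_centralizerIn.1 hc
    refine hQ₁c.2 Q₁ (isConj_refl E hQ₁T) (mem_centralizerIn.2 ⟨?_, fun y hy => ?_⟩)
    · have h := sc_conj_mem hsc (S.inv_mem hcS) ht
      rw [inv_inv] at h
      have h2 := T.mul_mem h (T.inv_mem ht)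
      rwa [show c⁻¹ * t * c * t⁻¹ = c⁻¹ * (t * c * t⁻¹) by group] at h2
    · have hy' : t⁻¹ * y * t ∈ Q₁ := by
        have := (Subgroup.mem_normalizer_iff.1 (Subgroup.inv_mem _ htQ) y).1 hy
        rwa [inv_inv] at this
      have h1 := hcc _ hy'
      have h2 : t * c * t⁻¹ * y = y * (t * c * t⁻¹) := by
        calc t * c * t⁻¹ * y = t * (c * (t⁻¹ * y * t)) * t⁻¹ := by group
          _ = t * ((t⁻¹ * y * t) * c) * t⁻¹ := by rw [h1]
          _ = y * (t * c * t⁻¹) := by group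
      calc c⁻¹ * (t * c * t⁻¹) * y = c⁻¹ * (t * c * t⁻¹ * y) := mul_assoc _ _ _
        _ = c⁻¹ * y * (t * c * t⁻¹) := by rw [h2]; exact (mul_assoc _ _ _).symm
        _ = y * (c⁻¹ * (t * c * t⁻¹)) := by
          rw [show c⁻¹ * y = y * c⁻¹ from (Commute.inv_left (hcc y hy)).eq]; exact mul_assoc _ _ _
  have htW : ∀ x : W, conjHom W t x ∈ W := by
    intro x
    have hle : W ≤ (W.comap (conjHom W t)).map W.subtype := by
      refine sup_le (fun y hy => ⟨⟨y, Subgroup.mem_sup_left hy⟩, Subgroup.mem_sup_left (htN y hy), rfl⟩)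
        fun c hc => ⟨⟨c, Subgroup.mem_sup_right hc⟩, ?_, rfl⟩
      show t * c * t⁻¹ ∈ W
      have := W.mul_mem (Subgroup.mem_sup_right hc) (Subgroup.mem_sup_left (hct c hc))
      rwa [mul_inv_cancel_left] at this
    obtain ⟨y, hy, hyx⟩ := hle x.2
    rw [Subtype.ext (a1 := y) (a2 := x) hyx] at hy
    exact hy
  let τ : MulAut W := homIso (F.conj_mem hWS (hTS ht))
    (range_eq_of_card_le (F.conj_mem hWS (hTS ht)) hWS htW le_rfl)
  let A : MulAut W := γ⁻¹ * τ * γ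
  have hA : IsoIn F A := by
    have h1 : γ ∈ F.autGroup W := (mem_autGroup hWS).2 (isoIn_homIso hg hgr)
    exact (mem_autGroup hWS).1 ((F.autGroup W).mul_mem ((F.autGroup W).mul_mem
      ((F.autGroup W).inv_mem h1) ((mem_autGroup hWS).2 (isoIn_homIso _ _))) h1)
  have hγQ : ∀ y : Q₁, γ ⟨y, Subgroup.mem_sup_left y.2⟩ =
      ⟨((b : MulAut Q₁) y : Ω), Subgroup.mem_sup_left ((b : MulAut Q₁) y).2⟩ := fun y =>
    Subtype.ext (hgQ y _)
  have hτQ : ∀ y : Q₁, τ ⟨y, Subgroup.mem_sup_left y.2⟩ = ⟨t * (y : Ω) * t⁻¹,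
      Subgroup.mem_sup_left (htN y y.2)⟩ := fun y => Subtype.ext rfl
  have hAQ : ∀ y : Q₁, ((A ⟨y, Subgroup.mem_sup_left y.2⟩ : W) : Ω) = ((MulAut.congr e a) y : Q₁) := by
    intro y
    set y' : Q₁ := MulAut.congr e a y with hy'
    have h2 : γ ⟨y', Subgroup.mem_sup_left y'.2⟩ =
        τ (γ ⟨y, Subgroup.mem_sup_left y.2⟩) := by
      rw [hγQ, hγQ, hτQ ((b : MulAut Q₁) y)]
      apply Subtype.ext
      show (((b : MulAut Q₁) y' : Q₁) : Ω) = t * (((b : MulAut Q₁) y : Q₁) : Ω) * t⁻¹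
      refine Eq.trans ?_ (hte ((b : MulAut Q₁) y))
      show _ = (((b : MulAut Q₁) * MulAut.congr e a * (b : MulAut Q₁)⁻¹) ((b : MulAut Q₁) y) : Ω)
      rw [MulAut.mul_apply, MulAut.mul_apply, MulAut.inv_apply_self]
    show ((γ⁻¹ (τ (γ ⟨y, Subgroup.mem_sup_left y.2⟩)) : W) : Ω) = _
    rw [← h2, MulAut.inv_apply_self]
  have hAC : ∀ (c : Ω) (hc : c ∈ centralizerIn S Q₁),
      c⁻¹ * ((A ⟨c, Subgroup.mem_sup_right hc⟩ : W) : Ω) ∈ Q₁ := by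
    intro c hc
    set u := g ⟨c, Subgroup.mem_sup_right hc⟩ with hu
    have huC := hgC c hc
    have hz := hct u huC
    set z : Q₁ := ⟨u⁻¹ * (t * u * t⁻¹), hz⟩ with hzdef
    set q : Q₁ := (b : MulAut Q₁)⁻¹ z with hqdef
    have hm : c * (q : Ω) ∈ W := W.mul_mem (Subgroup.mem_sup_right hc) (Subgroup.mem_sup_left q.2)
    have h1 : γ (⟨c, Subgroup.mem_sup_right hc⟩ * ⟨q, Subgroup.mem_sup_left q.2⟩) =
        τ (γ ⟨c, Subgroup.mem_sup_right hc⟩) := by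
      rw [map_mul, hγQ q]
      apply Subtype.ext
      show u * (((b : MulAut Q₁) q : Q₁) : Ω) = t * u * t⁻¹
      rw [hqdef, MulAut.apply_inv_self]
      exact mul_inv_cancel_left _ _
    show c⁻¹ * ((γ⁻¹ (τ (γ ⟨c, Subgroup.mem_sup_right hc⟩)) : W) : Ω) ∈ Q₁
    rw [← h1, MulAut.inv_apply_self]
    show c⁻¹ * (c * (q : Ω)) ∈ Q₁
    rw [inv_mul_cancel_left]
    exact q.2
  -- pull back
  obtain ⟨e₀, he₀, he₀e⟩ := hrec.2 Q _ he hre
  have hCQ : (centralizerIn S T) ≤ centralizerIn S Q := centralizerIn_anti hQT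
  have hle : Q ⊔ (centralizerIn S T) ≤ extender S Q (Q₁.subtype.comp e.toMonoidHom) :=
    sup_le (le_extender (hQT.trans hTS) fun x => hom_mem he x) (hCQ.trans (centralizerIn_le_extender _))
  set ê := e₀.comp (Subgroup.inclusion hle) with hêdef
  have hê : ê ∈ F.Hom (Q ⊔ (centralizerIn S T)) := restrict_mem he₀ hle
  have hêQ : ∀ (x : Q) (hx : (x : Ω) ∈ Q ⊔ (centralizerIn S T)), ê ⟨x, hx⟩ = (e x : Ω) := fun x hx => he₀e x x.2 (hle hx)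
  have hêC : ∀ (c : Ω) (hc : c ∈ (centralizerIn S T)), ê ⟨c, Subgroup.mem_sup_right hc⟩ ∈ centralizerIn S Q₁ := by
    intro c hc
    refine mem_centralizerIn.2 ⟨hom_mem hê _, fun y hy => ?_⟩
    have h := hêQ (e.symm ⟨y, hy⟩) (Subgroup.mem_sup_left (e.symm ⟨y, hy⟩).2)
    rw [MulEquiv.apply_symm_apply] at h
    change ê _ = y at h
    rw [← h, ← map_mul, ← map_mul]
    exact congrArg ê (Subtype.ext ((mem_centralizerIn.1 (hCQ hc)).2 _ (e.symm ⟨y, hy⟩).2))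
  have hRW : ∀ x, ê x ∈ W := by
    intro x
    obtain ⟨q, hq, c, hc, hx⟩ := exists_mul_of_sup hsc hQT x.2
    rw [show x = ⟨q, Subgroup.mem_sup_left hq⟩ * ⟨c, Subgroup.mem_sup_right hc⟩ from Subtype.ext hx,
      map_mul, hêQ ⟨q, hq⟩]
    exact W.mul_mem (Subgroup.mem_sup_left (e ⟨q, hq⟩).2) (Subgroup.mem_sup_right (hêC c hc))
  obtain ⟨f, hf, -, hfe⟩ := exists_inv hê rfl
  set φA := (W.subtype.comp A.toMonoidHom).comp (ê.codRestrict W hRW) with hφA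
  have hφA' : φA ∈ F.Hom (Q ⊔ (centralizerIn S T)) := F.comp_mem hê hA hRW
  have hQimg : ∀ x : Q, φA ⟨x, Subgroup.mem_sup_left x.2⟩ = (e (a x) : Ω) := by
    intro x
    show ((A ⟨ê ⟨x, _⟩, _⟩ : W) : Ω) = _
    rw [show (⟨ê ⟨x, Subgroup.mem_sup_left x.2⟩, hRW _⟩ : W) = ⟨(e x : Ω), Subgroup.mem_sup_left (e x).2⟩
      from Subtype.ext (hêQ x _), hAQ (e x)]
    show ((e (a (e.symm (e x))) : Q₁) : Ω) = _
    rw [MulEquiv.symm_apply_apply]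
  have hCimg : ∀ (c : Ω) (hc : c ∈ (centralizerIn S T)), ∃ q : Q, φA ⟨c, Subgroup.mem_sup_right hc⟩ =
      ê (⟨c, Subgroup.mem_sup_right hc⟩ * ⟨q, Subgroup.mem_sup_left q.2⟩) := by
    intro c hc
    have h := hAC _ (hêC c hc)
    refine ⟨e.symm ⟨_, h⟩, ?_⟩
    rw [map_mul, hêQ (e.symm ⟨_, h⟩), MulEquiv.apply_symm_apply]
    exact (mul_inv_cancel_left _ _).symm
  have hv : ∀ x, φA x ∈ ê.range := by
    intro x
    obtain ⟨q, hq, c, hc, hx⟩ := exists_mul_of_sup hsc hQT x.2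
    rw [show x = ⟨q, Subgroup.mem_sup_left hq⟩ * ⟨c, Subgroup.mem_sup_right hc⟩ from Subtype.ext hx,
      map_mul]
    obtain ⟨q', hq'⟩ := hCimg c hc
    refine mul_mem ⟨⟨a ⟨q, hq⟩, Subgroup.mem_sup_left (a ⟨q, hq⟩).2⟩, ?_⟩ ⟨_, hq'.symm⟩
    rw [hQimg ⟨q, hq⟩]
    exact hêQ _ _
  refine ⟨_, F.comp_mem hφA' hf hv, fun x hx => ?_, fun c hcC hc => ?_⟩
  · have h2 : φA ⟨x, hx⟩ = ê ⟨(a x : Ω), Subgroup.mem_sup_left (a x).2⟩ :=
      (hQimg x).trans (hêQ (a x) _).symm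
    show f ⟨φA ⟨x, hx⟩, _⟩ = _
    rw [show (⟨φA ⟨x, hx⟩, hv _⟩ : ê.range) = ⟨ê ⟨(a x : Ω), Subgroup.mem_sup_left (a x).2⟩, ⟨_, rfl⟩⟩
      from Subtype.ext h2, hfe _ ⟨_, rfl⟩]
    rfl
  · obtain ⟨q', hq'⟩ := hCimg c hcC
    show c⁻¹ * f ⟨φA ⟨c, hc⟩, _⟩ ∈ T
    rw [show (⟨φA ⟨c, hc⟩, hv _⟩ : ê.range) = ⟨_, ⟨_, hq'.symm⟩⟩ from Subtype.ext rfl]
    rw [show (⟨φA ⟨c, Subgroup.mem_sup_right hcC⟩, ⟨_, hq'.symm⟩⟩ : ê.range) =
      ⟨ê (⟨c, Subgroup.mem_sup_right hcC⟩ * ⟨q', Subgroup.mem_sup_left q'.2⟩), ⟨_, rfl⟩⟩ from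
      Subtype.ext hq', hfe _ ⟨_, rfl⟩]
    show c⁻¹ * (c * (q' : Ω)) ∈ T
    rw [inv_mul_cancel_left]
    exact hQT q'.2

section Congr

variable (hsc : F.StronglyClosed T)
include hsc

theorem tcongr_trans {x y z : Ω} (h : x⁻¹ * y ∈ T) (h' : y⁻¹ * z ∈ T) : x⁻¹ * z ∈ T := by
  have := T.mul_mem h h'
  rwa [mul_assoc, mul_inv_cancel_left] at this

theorem tcongr_mul {x x' y y' : Ω} (hy : y ∈ S) (h : x⁻¹ * x' ∈ T) (h' : y⁻¹ * y' ∈ T) :
    (x * y)⁻¹ * (x' * y') ∈ T := by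
  have h1 := sc_conj_mem hsc (S.inv_mem hy) h
  rw [inv_inv] at h1
  have := T.mul_mem h1 h'
  rwa [show y⁻¹ * (x⁻¹ * x') * y * (y⁻¹ * y') = (x * y)⁻¹ * (x' * y') by group] at this

theorem tcongr_aut {R : Subgroup Ω} {α : MulAut R} (hR : R ≤ S) (hα : α ∈ F.autGroup R) {x y : R}
    (h : (x : Ω)⁻¹ * (y : Ω) ∈ T) : ((α x : R) : Ω)⁻¹ * ((α y : R) : Ω) ∈ T := by
  have h1 := stronglyClosed_apply_mem hsc ((mem_autGroup hR).1 hα) (x := x⁻¹ * y) h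
  have h2 : ((α (x⁻¹ * y) : R) : Ω) ∈ T := h1
  rwa [map_mul, map_inv] at h2

end Congr

/-- The automorphisms of `R = Q C_S(T)` acting on `Q` as elements of `N` and trivially modulo `T`. -/
def moveGroup (F : FusionSystem S) (hsc : F.StronglyClosed T) (Q N : Subgroup Ω) (hNS : N ≤ S)
    (hR : Q ⊔ centralizerIn S T ≤ S) :
    Subgroup (MulAut ↥(Q ⊔ centralizerIn S T)) where
  carrier := {α | α ∈ F.autGroup _ ∧ (∃ g ∈ N, g ∈ Subgroup.normalizer (Q : Set Ω) ∧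
    ∀ x : ↥(Q ⊔ centralizerIn S T), (x : Ω) ∈ Q → ((α x : _) : Ω) = g * (x : Ω) * g⁻¹) ∧
    ∀ x : ↥(Q ⊔ centralizerIn S T), (x : Ω)⁻¹ * ((α x : _) : Ω) ∈ T}
  one_mem' := ⟨one_mem _, ⟨1, N.one_mem, Subgroup.one_mem _, fun x _ => by simp⟩, fun x => by simp⟩
  mul_mem' := by
    rintro α β ⟨hα, ⟨g, hg, hgn, hge⟩, hαT⟩ ⟨hβ, ⟨k, hk, hkn, hke⟩, hβT⟩
    refine ⟨mul_mem hα hβ, ⟨g * k, N.mul_mem hg hk, mul_mem hgn hkn, fun x hx => ?_⟩, fun x => ?_⟩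
    · rw [MulAut.mul_apply, hge _ (by rw [hke x hx]; exact (Subgroup.mem_normalizer_iff.1 hkn _).1 hx),
        hke x hx]
      group
    · rw [MulAut.mul_apply]
      exact tcongr_trans hsc (hβT x) (hαT (β x))
  inv_mem' := by
    rintro α ⟨hα, ⟨g, hg, hgn, hge⟩, hαT⟩
    refine ⟨inv_mem hα, ⟨g⁻¹, N.inv_mem hg, Subgroup.inv_mem _ hgn, fun x hx => ?_⟩, fun x => ?_⟩
    · have hy : g⁻¹ * (x : Ω) * g ∈ Q := by
        have := (Subgroup.mem_normalizer_iff.1 (Subgroup.inv_mem _ hgn) (x : Ω)).1 hx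
        rwa [inv_inv] at this
      have h1 : α ⟨g⁻¹ * (x : Ω) * g, Subgroup.mem_sup_left hy⟩ = x := by
        apply Subtype.ext
        rw [hge _ hy]
        show g * (g⁻¹ * (x : Ω) * g) * g⁻¹ = _
        group
      rw [inv_inv]
      conv_lhs => rw [← h1]
      rw [MulAut.inv_apply_self]
    · have h := T.inv_mem (hαT (α⁻¹ x))
      rwa [MulAut.apply_inv_self, mul_inv_rev, inv_inv] at h

theorem exists_delta_succ [Finite S] [Fact p.Prime] (hS : IsPGroup p S) (hF : F.IsSaturated p)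
    (hEi : E.IsInvariantIn F) {β : MulAut ↥(T ⊔ centralizerIn S T)}
    (hβ : β ∈ F.autGroup (T ⊔ centralizerIn S T)) (hord : (orderOf β).Coprime p) {Q : Subgroup Ω}
    (hQT : Q ≤ T) (hQc : E.IsCentric Q) {δ : MulAut ↥(Q ⊔ centralizerIn S T)}
    (hδ : δ ∈ F.autGroup (Q ⊔ centralizerIn S T))
    (hδQ : ∀ x : ↥(Q ⊔ centralizerIn S T), (x : Ω) ∈ Q → δ x = x)
    (hδC : ∀ (x : Ω) (hx : x ∈ Q ⊔ centralizerIn S T) (hx' : x ∈ T ⊔ centralizerIn S T),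
      ((β⁻¹ ⟨x, hx'⟩ : _) : Ω)⁻¹ * ((δ ⟨x, hx⟩ : _) : Ω) ∈ T) :
    ∃ δ' : MulAut ↥(normalizerIn T Q ⊔ centralizerIn S T),
      δ' ∈ F.autGroup (normalizerIn T Q ⊔ centralizerIn S T) ∧
      (∀ x : ↥(normalizerIn T Q ⊔ centralizerIn S T), (x : Ω) ∈ normalizerIn T Q → δ' x = x) ∧
      ∀ (x : Ω) (hx : x ∈ normalizerIn T Q ⊔ centralizerIn S T) (hx' : x ∈ T ⊔ centralizerIn S T),
        ((β⁻¹ ⟨x, hx'⟩ : _) : Ω)⁻¹ * ((δ' ⟨x, hx⟩ : _) : Ω) ∈ T := by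
  have hsc := hEi.2.1
  have hTS : T ≤ S := hsc.1
  have hCS : (centralizerIn S T) ≤ S := centralizerIn_le T
  set N := normalizerIn T Q with hNdef
  have hNT : N ≤ T := normalizerIn_le Q
  have hNS : N ≤ S := hNT.trans hTS
  have hQN : Q ≤ N := le_normalizerIn hQT
  have hR : Q ⊔ (centralizerIn S T) ≤ S := sup_le (hQT.trans hTS) hCS
  have hM : N ⊔ (centralizerIn S T) ≤ S := sup_le hNS hCS
  have hTC : T ⊔ (centralizerIn S T) ≤ S := sup_le hTS hCS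
  have hMT : N ⊔ (centralizerIn S T) ≤ T ⊔ (centralizerIn S T) := sup_le_sup_right hNT _
  haveI := finite_of_le hR
  haveI := finite_of_le hNS
  haveI := finite_of_le hM
  haveI := finite_of_le hTC
  haveI : Finite (MulAut ↥(Q ⊔ (centralizerIn S T))) := Finite.of_injective (fun f => (f : ↥(Q ⊔ (centralizerIn S T)) → ↥(Q ⊔ (centralizerIn S T))))
    DFunLike.coe_injective
  set H := moveGroup F hsc Q N hNS hR with hHdef
  have hTR : T ⊓ (Q ⊔ (centralizerIn S T)) ≤ Q := by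
    rintro x ⟨hxT, hx⟩
    obtain ⟨q, hq, c, hc, rfl⟩ := exists_mul_of_sup hsc hQT hx
    refine Q.mul_mem hq (hQc.2 Q (isConj_refl E hQT) (mem_centralizerIn.2 ⟨?_, fun y hy =>
      (mem_centralizerIn.1 hc).2 y (hQT hy)⟩))
    have := T.mul_mem (T.inv_mem (hQT hq)) hxT
    rwa [inv_mul_cancel_left] at this
  have hHp : IsPGroup p H := by
    intro α
    obtain ⟨α, hαF, ⟨g, hg, hgn, hge⟩, hαT⟩ := α
    obtain ⟨n, hn⟩ := IsPGroup.iff_card.1 (hS.to_le hNS)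
    obtain ⟨m, hm⟩ := IsPGroup.iff_card.1 (hS.to_le hR)
    have hmem : α ∈ H := ⟨hαF, ⟨g, hg, hgn, hge⟩, hαT⟩
    have hpw : ∀ j : ℕ, ∀ x : ↥(Q ⊔ (centralizerIn S T)), (x : Ω) ∈ Q →
        (((α ^ j) x : _) : Ω) = g ^ j * (x : Ω) * (g ^ j)⁻¹ := by
      intro j
      induction j with
      | zero => intro x _; simp
      | succ j ihj =>
        intro x hx
        have hgj : g ^ j * (x : Ω) * (g ^ j)⁻¹ ∈ Q :=
          (Subgroup.mem_normalizer_iff.1 (pow_mem hgn j) _).1 hx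
        rw [pow_succ', MulAut.mul_apply, hge _ (by rw [ihj x hx]; exact hgj), ihj x hx, pow_succ']
        group
    obtain ⟨-, -, hpowT⟩ : α ^ (p ^ n) ∈ H := pow_mem hmem _
    have hfix : ∀ x : ↥(Q ⊔ (centralizerIn S T)), (x : Ω) ∈ Q → (α ^ (p ^ n)) x = x := by
      intro x hx
      apply Subtype.ext
      rw [hpw _ x hx]
      have h1 : g ^ (p ^ n) = 1 := by
        have := congrArg Subtype.val (pow_card_eq_one' (x := (⟨g, hg⟩ : N)))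
        rwa [SubmonoidClass.coe_pow, hn] at this
      rw [h1]; simp
    have h3 := pow_eq_one_of_stabilizes (P := Q ⊔ (centralizerIn S T)) (α := α ^ (p ^ n))
      (D := fun i => if i = 0 then ⊥ else if i = 1 then Q else Q ⊔ (centralizerIn S T)) (n := 2) rfl rfl ?_ ?_
    · refine ⟨n + m * 2, Subtype.ext ?_⟩
      show α ^ p ^ (n + m * 2) = 1
      rw [pow_add, pow_mul, pow_mul, ← hm]
      exact h3
    · intro i _ x hx
      match i with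
      | 0 =>
        have : x = 1 := Subtype.ext (Subgroup.mem_bot.1 hx)
        simp [this]
      | 1 =>
        have : (x : Ω) ∈ Q := hx
        rw [hfix x this]
        exact hx
      | (k + 2) => exact ((α ^ (p ^ n)) x).2
    · intro i hi x hx
      match i with
      | 0 =>
        have : (x : Ω) ∈ Q := hx
        show (x : Ω)⁻¹ * (((α ^ (p ^ n)) x : _) : Ω) ∈ (⊥ : Subgroup Ω)
        rw [hfix x this, inv_mul_cancel]
        exact Subgroup.one_mem _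
      | 1 => exact hTR ⟨hpowT x, (Q ⊔ (centralizerIn S T)).mul_mem ((Q ⊔ (centralizerIn S T)).inv_mem x.2) ((α ^ (p ^ n)) x).2⟩
      | (k + 2) => omega
  -- move to a fully automized, receptive subgroup
  obtain ⟨R', hconj, hfa, hrec⟩ := hF _ hR
  obtain ⟨e₀, he₀⟩ := isConj_iff.1 hconj
  have hR'S : R' ≤ S := hfa.1
  haveI := finite_of_le hR'S
  haveI : Finite (MulAut R') := Finite.of_injective (fun f => (f : R' → R')) DFunLike.coe_injective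
  obtain ⟨-, P₀, hP₀⟩ := hfa
  let toA : H →* F.autGroup R' :=
    ((MulAut.congr e₀).toMonoidHom.comp H.subtype).codRestrict _ fun α => congr_mem_autGroup he₀ α.2.1
  have hX : IsPGroup p toA.range := hHp.of_surjective toA.rangeRestrict toA.rangeRestrict_surjective
  obtain ⟨P₁, hP₁⟩ := hX.exists_le_sylow
  obtain ⟨u, hu⟩ := MulAction.exists_smul_eq (F.autGroup R') P₁ P₀
  set e : ↥(Q ⊔ (centralizerIn S T)) ≃* R' := e₀.trans (u : MulAut R') with hedef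
  have he : IsoIn F e := he₀.trans ((mem_autGroup hR'S).1 u.2)
  have hind : ∀ α, α ∈ H → ∃ h ∈ S, ∀ x, (e (α x) : Ω) = h * (e x : Ω) * h⁻¹ := by
    intro α hα
    have hmem : u * toA ⟨α, hα⟩ * u⁻¹ ∈ (P₀ : Subgroup (F.autGroup R')) := by
      rw [← hu, Sylow.coe_subgroup_smul]
      exact Subgroup.smul_mem_pointwise_smul _ (MulAut.conj u) _ (hP₁ ⟨⟨α, hα⟩, rfl⟩)
    rw [hP₀] at hmem
    obtain ⟨h, hhS, hhe⟩ := mem_autInducedBy.1 hmem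
    refine ⟨h, hhS, fun x => Eq.trans ?_ (hhe (e x))⟩
    show ((u : MulAut R') (e₀ (α x)) : Ω) =
      (((u : MulAut R') * MulAut.congr e₀ α * (u : MulAut R')⁻¹) ((u : MulAut R') (e₀ x)) : Ω)
    rw [MulAut.mul_apply, MulAut.mul_apply, MulAut.inv_apply_self]
    show _ = (((u : MulAut R') (e₀ (α (e₀.symm (e₀ x))))) : Ω)
    rw [MulEquiv.symm_apply_apply]
  have hgN : ∀ g ∈ N, g ∈ Subgroup.normalizer ((Q ⊔ (centralizerIn S T) : Subgroup Ω) : Set Ω) := by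
    intro g hg
    have key : ∀ g ∈ N, ∀ z ∈ Q ⊔ centralizerIn S T, g * z * g⁻¹ ∈ Q ⊔ centralizerIn S T := by
      intro g hg z hz
      obtain ⟨q, hq, c, hc, rfl⟩ := exists_mul_of_sup hsc hQT hz
      rw [show g * (q * c) * g⁻¹ = (g * q * g⁻¹) * (g * c * g⁻¹) by group]
      exact mul_mem (Subgroup.mem_sup_left ((Subgroup.mem_normalizer_iff.1 hg.2 q).1 hq))
        (Subgroup.mem_sup_right
          ((Subgroup.mem_normalizer_iff.1 (sc_centralizer_le_normalizer hsc (hNS hg)) c).1 hc))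
    refine Subgroup.mem_normalizer_iff.2 fun z => ⟨key g hg z, fun h => ?_⟩
    have := key g⁻¹ (inv_mem hg) _ h
    rwa [inv_inv, show g⁻¹ * (g * z * g⁻¹) * g = z by group] at this
  have hcH : ∀ g (hg : g ∈ N), conjAut (Q ⊔ (centralizerIn S T)) (hgN g hg) ∈ H := by
    intro g hg
    refine ⟨autInducedBy_le_autGroup hR (conjAut_mem_autInducedBy _ (hNS hg)),
      ⟨g, hg, hg.2, fun x _ => rfl⟩, fun x => ?_⟩
    show (x : Ω)⁻¹ * (g * (x : Ω) * g⁻¹) ∈ T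
    have h1 := sc_conj_mem hsc (S.inv_mem (hR x.2)) (hNT hg)
    rw [inv_inv] at h1
    have h2 := T.mul_mem h1 (T.inv_mem (hNT hg))
    rwa [show (x : Ω)⁻¹ * g * (x : Ω) * g⁻¹ = (x : Ω)⁻¹ * (g * (x : Ω) * g⁻¹) by group] at h2
  have hdH : ∀ α, α ∈ H → δ * α * δ⁻¹ ∈ H := by
    intro α hα
    obtain ⟨hαF, ⟨g, hg, hgn, hge⟩, hαT⟩ := hα
    refine ⟨mul_mem (mul_mem hδ hαF) (inv_mem hδ), ⟨g, hg, hgn, fun x hx => ?_⟩, fun x => ?_⟩
    · have h1 : δ⁻¹ x = x := by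
        conv_lhs => rw [← hδQ x hx]
        rw [MulAut.inv_apply_self]
      rw [MulAut.mul_apply, MulAut.mul_apply, h1, hδQ _ (by
        rw [hge x hx]; exact (Subgroup.mem_normalizer_iff.1 hgn _).1 hx), hge x hx]
    · have h := tcongr_aut hsc hR hδ (hαT (δ⁻¹ x))
      rwa [MulAut.apply_inv_self] at h
  -- the two extensions
  have hext : ∀ f : ↥(Q ⊔ (centralizerIn S T)) ≃* R', IsoIn F f →
      (∀ g (hg : g ∈ N), ∃ h ∈ S, ∀ x, (f (conjAut (Q ⊔ (centralizerIn S T)) (hgN g hg) x) : Ω) = h * (f x : Ω) * h⁻¹) →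
      ∃ ψ ∈ F.Hom (N ⊔ (centralizerIn S T)), ∀ (x : Ω) (hx : x ∈ Q ⊔ (centralizerIn S T)) (hx' : x ∈ N ⊔ (centralizerIn S T)), ψ ⟨x, hx'⟩ = (f ⟨x, hx⟩ : Ω) := by
    intro f hf hh
    have hr : (R'.subtype.comp f.toMonoidHom).range = R' := by
      ext y
      exact ⟨fun ⟨x, hx⟩ => hx ▸ (f x).2, fun hy => ⟨f.symm ⟨y, hy⟩, by simp⟩⟩
    obtain ⟨ψ, hψ, hψe⟩ := hrec.2 (Q ⊔ (centralizerIn S T)) _ hf hr
    have hle : N ⊔ (centralizerIn S T) ≤ extender S (Q ⊔ (centralizerIn S T)) (R'.subtype.comp f.toMonoidHom) := by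
      refine sup_le (fun g hg => ?_) ((le_sup_right : (centralizerIn S T) ≤ Q ⊔ (centralizerIn S T)).trans (le_extender hR fun x => hom_mem hf x))
      obtain ⟨h, hhS, hhe⟩ := hh g hg
      exact mem_extender_of (hNS hg) (hgN g hg) hhS fun x hx =>
        (congrArg (fun z => (f z : Ω)) (Subtype.ext rfl)).trans (hhe x)
    exact ⟨_, restrict_mem hψ hle, fun x hx hx' => hψe x hx (hle hx')⟩
  obtain ⟨ρ₂, hρ₂, hρ₂e⟩ := hext e he fun g hg => hind _ (hcH g hg)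
  obtain ⟨ρ₁, hρ₁, hρ₁e⟩ := hext (δ.trans e) (IsoIn.trans ((mem_autGroup hR).1 hδ) he) fun g hg => by
    obtain ⟨h, hhS, hhe⟩ := hind _ (hdH _ (hcH g hg))
    refine ⟨h, hhS, fun x => ?_⟩
    have := hhe (δ x)
    rw [MulAut.mul_apply, MulAut.mul_apply, MulAut.inv_apply_self] at this
    exact this
  -- comparison on `N`
  have hcmp : ∀ (g : Ω) (hg : g ∈ N), ∃ q, ∃ hq : q ∈ Q,
      ρ₁ ⟨g, Subgroup.mem_sup_left hg⟩ =
        ρ₂ (⟨q, Subgroup.mem_sup_left (hQN hq)⟩ * ⟨g, Subgroup.mem_sup_left hg⟩) := by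
    intro g hg
    set g₁ := ρ₁ ⟨g, Subgroup.mem_sup_left hg⟩ with hg₁
    set g₂ := ρ₂ ⟨g, Subgroup.mem_sup_left hg⟩ with hg₂
    have hwT : g₁ * g₂⁻¹ ∈ T :=
      T.mul_mem (stronglyClosed_apply_mem hsc hρ₁ (hNT hg)) (T.inv_mem (stronglyClosed_apply_mem hsc hρ₂ (hNT hg)))
    have heQ : (R'.subtype.comp e.toMonoidHom).comp (Subgroup.inclusion (le_sup_left : Q ≤ Q ⊔ (centralizerIn S T))) ∈ F.Hom Q :=
      restrict_mem he le_sup_left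
    obtain ⟨q, hq⟩ := centralizer_hom_le hEi hQc heQ hwT (fun x => by
      show g₁ * g₂⁻¹ * (e ⟨x, Subgroup.mem_sup_left x.2⟩ : Ω) =
        (e ⟨x, Subgroup.mem_sup_left x.2⟩ : Ω) * (g₁ * g₂⁻¹)
      have hy : g⁻¹ * (x : Ω) * g ∈ Q := by
        have := (Subgroup.mem_normalizer_iff.1 (Subgroup.inv_mem _ hg.2) (x : Ω)).1 x.2
        rwa [inv_inv] at this
      set y : Ω := g⁻¹ * (x : Ω) * g with hydef
      have hxy : (x : Ω) * g = g * y := by rw [hydef]; group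
      have e2 := congrArg ρ₂ (Subtype.ext hxy :
        (⟨x, Subgroup.mem_sup_left (hQN x.2)⟩ : ↥(N ⊔ (centralizerIn S T))) * ⟨g, Subgroup.mem_sup_left hg⟩ =
          ⟨g, Subgroup.mem_sup_left hg⟩ * ⟨y, Subgroup.mem_sup_left (hQN hy)⟩)
      have e1 := congrArg ρ₁ (Subtype.ext hxy :
        (⟨x, Subgroup.mem_sup_left (hQN x.2)⟩ : ↥(N ⊔ (centralizerIn S T))) * ⟨g, Subgroup.mem_sup_left hg⟩ =
          ⟨g, Subgroup.mem_sup_left hg⟩ * ⟨y, Subgroup.mem_sup_left (hQN hy)⟩)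
      rw [map_mul, map_mul, ← hg₂, hρ₂e _ (Subgroup.mem_sup_left x.2), hρ₂e _ (Subgroup.mem_sup_left hy)] at e2
      rw [map_mul, map_mul, ← hg₁, hρ₁e _ (Subgroup.mem_sup_left x.2), hρ₁e _ (Subgroup.mem_sup_left hy)] at e1
      change (e (δ _) : Ω) * g₁ = g₁ * (e (δ _) : Ω) at e1
      rw [hδQ _ x.2, hδQ _ hy] at e1
      have h2 : g₂⁻¹ * (e ⟨x, Subgroup.mem_sup_left x.2⟩ : Ω) = (e ⟨y, Subgroup.mem_sup_left hy⟩ : Ω) * g₂⁻¹ :=
        inv_mul_eq_iff_eq_mul.2 (by rw [← mul_assoc, ← e2, mul_inv_cancel_right])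
      rw [mul_assoc, h2, ← mul_assoc, ← e1, mul_assoc])
    refine ⟨q, q.2, ?_⟩
    rw [map_mul, hρ₂e _ (Subgroup.mem_sup_left q.2), ← hg₂]
    rw [show (e ⟨(q : Ω), Subgroup.mem_sup_left q.2⟩ : Ω) = g₁ * g₂⁻¹ from hq, inv_mul_cancel_right]
  obtain ⟨χ, hχ, hχr, hχe⟩ := exists_inv hρ₂ rfl
  have hv : ∀ x, ρ₁ x ∈ ρ₂.range := by
    intro x
    obtain ⟨g, hg, c, hc, hx⟩ := exists_mul_of_sup hsc hNT x.2
    rw [show x = ⟨g, Subgroup.mem_sup_left hg⟩ * ⟨c, Subgroup.mem_sup_right hc⟩ from Subtype.ext hx, map_mul]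
    obtain ⟨q, hq, hgq⟩ := hcmp g hg
    refine mul_mem ⟨_, hgq.symm⟩ ⟨⟨(δ ⟨c, Subgroup.mem_sup_right hc⟩ : Ω),
      (sup_le_sup_right hQN _ : Q ⊔ (centralizerIn S T) ≤ N ⊔ (centralizerIn S T)) (δ _).2⟩, ?_⟩
    rw [hρ₂e _ (δ _).2, hρ₁e _ (Subgroup.mem_sup_right hc)]
    rfl
  have hδ'mem := F.comp_mem hρ₁ hχ hv
  set d₁ : MulAut ↥(N ⊔ (centralizerIn S T)) := homIso hδ'mem (range_eq_of_card_le hδ'mem hM
    (fun x => hχr.le ⟨_, rfl⟩) le_rfl) with hd₁def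
  have hd₁ : d₁ ∈ F.autGroup (N ⊔ (centralizerIn S T)) := (mem_autGroup hM).2 (isoIn_homIso _ _)
  have hd₁eq : ∀ (x : ↥(N ⊔ (centralizerIn S T))) (z : ↥(N ⊔ (centralizerIn S T))), ρ₁ x = ρ₂ z → d₁ x = z := by
    intro x z h
    apply Subtype.ext
    show χ ⟨ρ₁ x, hv x⟩ = _
    rw [show (⟨ρ₁ x, hv x⟩ : ρ₂.range) = ⟨ρ₂ z, z, rfl⟩ from Subtype.ext h, hχe z ⟨z, rfl⟩]
  have hd₁R : ∀ (x : Ω) (hx : x ∈ Q ⊔ (centralizerIn S T)),
      ((d₁ ⟨x, (sup_le_sup_right hQN _ : Q ⊔ (centralizerIn S T) ≤ N ⊔ (centralizerIn S T)) hx⟩ : _) : Ω) = (δ ⟨x, hx⟩ : Ω) := by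
    intro x hx
    rw [hd₁eq _ ⟨(δ ⟨x, hx⟩ : Ω), (sup_le_sup_right hQN _ : Q ⊔ (centralizerIn S T) ≤ N ⊔ (centralizerIn S T)) (δ _).2⟩ (by
      rw [hρ₁e _ hx, hρ₂e _ (δ _).2]; rfl)]
  have hd₁N : ∀ x : ↥(N ⊔ (centralizerIn S T)), (x : Ω) ∈ N → ((d₁ x : _) : Ω) * (x : Ω)⁻¹ ∈ Q := by
    intro x hx
    obtain ⟨q, hq, h⟩ := hcmp x hx
    rw [hd₁eq x _ h]
    show q * (x : Ω) * (x : Ω)⁻¹ ∈ Q
    rwa [mul_inv_cancel_right]
  have hd₁C : ∀ (x : Ω) (hx : x ∈ N ⊔ (centralizerIn S T)),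
      ((β⁻¹ ⟨x, hMT hx⟩ : _) : Ω)⁻¹ * ((d₁ ⟨x, hx⟩ : _) : Ω) ∈ T := by
    intro x hx
    obtain ⟨g, hg, c, hc, rfl⟩ := exists_mul_of_sup hsc hNT hx
    have hcQ : c ∈ Q ⊔ (centralizerIn S T) := Subgroup.mem_sup_right hc
    have h1 : ((β⁻¹ ⟨g, Subgroup.mem_sup_left (hNT hg)⟩ : _) : Ω)⁻¹ *
        ((d₁ ⟨g, Subgroup.mem_sup_left hg⟩ : _) : Ω) ∈ T :=
      T.mul_mem (T.inv_mem (stronglyClosed_apply_mem hsc
          ((mem_autGroup hTC).1 (inv_mem hβ)) (x := ⟨g, Subgroup.mem_sup_left (hNT hg)⟩) (hNT hg)))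
        (stronglyClosed_apply_mem hsc ((mem_autGroup hM).1 hd₁) (x := ⟨g, Subgroup.mem_sup_left hg⟩) (hNT hg))
    have h2 := hδC c hcQ (Subgroup.mem_sup_right hc)
    rw [← hd₁R c hcQ] at h2
    rw [show (⟨g * c, hMT hx⟩ : ↥(T ⊔ (centralizerIn S T))) = ⟨g, Subgroup.mem_sup_left (hNT hg)⟩ * ⟨c, Subgroup.mem_sup_right hc⟩
      from rfl, show (⟨g * c, hx⟩ : ↥(N ⊔ (centralizerIn S T))) = ⟨g, Subgroup.mem_sup_left hg⟩ * ⟨c, Subgroup.mem_sup_right hc⟩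
      from rfl, map_mul, map_mul]
    exact tcongr_mul hsc (hTC (β⁻¹ _).2) h1 h2
  -- powers
  have hpowC : ∀ (j : ℕ) (x : Ω) (hx : x ∈ N ⊔ (centralizerIn S T)),
      ((((β⁻¹) ^ j) ⟨x, hMT hx⟩ : _) : Ω)⁻¹ * (((d₁ ^ j) ⟨x, hx⟩ : _) : Ω) ∈ T := by
    intro j
    induction j with
    | zero => intro x hx; simp
    | succ j ihj =>
      intro x hx
      set y := (d₁ ^ j) ⟨x, hx⟩ with hy
      have h1 := hd₁C y y.2
      have h2 := tcongr_aut hsc hTC (inv_mem hβ) (x := (β⁻¹ ^ j) ⟨x, hMT hx⟩) (y := ⟨y, hMT y.2⟩) (ihj x hx)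
      rw [pow_succ', pow_succ', MulAut.mul_apply, MulAut.mul_apply]
      exact tcongr_trans hsc h2 h1
  have hd₁Nmem : ∀ x : ↥(N ⊔ (centralizerIn S T)), (x : Ω) ∈ N → ((d₁ x : _) : Ω) ∈ N := by
    intro x hx
    have := N.mul_mem (hQN (hd₁N x hx)) hx
    rwa [inv_mul_cancel_right] at this
  haveI := finite_of_le hNS
  obtain ⟨n, hn⟩ := IsPGroup.iff_card.1 (hS.to_le hNS)
  let η₀ : N →* N := MonoidHom.mk' (fun x => ⟨_, hd₁Nmem ⟨x, Subgroup.mem_sup_left x.2⟩ x.2⟩)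
    fun a b => by
      apply Subtype.ext
      show ((d₁ (⟨a, Subgroup.mem_sup_left a.2⟩ * ⟨b, Subgroup.mem_sup_left b.2⟩) : _) : Ω) = _
      rw [map_mul]
      rfl
  have hη₀ : Function.Injective η₀ := fun a b h => by
    have h1 : d₁ ⟨a, Subgroup.mem_sup_left a.2⟩ = d₁ ⟨b, Subgroup.mem_sup_left b.2⟩ :=
      Subtype.ext (congrArg (fun z : N => (z : Ω)) h)
    exact Subtype.ext (congrArg (fun z : ↥(N ⊔ centralizerIn S T) => (z : Ω)) (d₁.injective h1) :)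
  let η : MulAut N := MulEquiv.ofBijective η₀ ⟨hη₀, Finite.surjective_of_injective hη₀⟩
  have hηpow : ∀ (j : ℕ) (x : N), (((η ^ j) x : N) : Ω) = ((d₁ ^ j) ⟨x, Subgroup.mem_sup_left x.2⟩ : _) := by
    intro j
    induction j with
    | zero => intro x; simp
    | succ j ihj =>
      intro x
      rw [pow_succ', pow_succ', MulAut.mul_apply, MulAut.mul_apply]
      show ((d₁ ⟨((η ^ j) x : Ω), _⟩ : _) : Ω) = _
      exact congrArg (fun z : ↥(N ⊔ (centralizerIn S T)) => ((d₁ z : _) : Ω)) (Subtype.ext (ihj x))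
  have hη1 : η ^ (p ^ n) ^ 2 = 1 := by
    rw [← hn]
    refine pow_eq_one_of_stabilizes (P := N) (α := η)
      (D := fun i => if i = 0 then ⊥ else if i = 1 then Q else N) (n := 2) rfl rfl ?_ ?_
    · intro i _ x hx
      match i with
      | 0 =>
        have : x = 1 := Subtype.ext (Subgroup.mem_bot.1 hx)
        simp [this]
      | 1 =>
        have hxQ : (x : Ω) ∈ Q := hx
        show ((d₁ ⟨x, _⟩ : _) : Ω) ∈ Q
        rw [hd₁R x (Subgroup.mem_sup_left hxQ), hδQ _ hxQ]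
        exact hxQ
      | (k + 2) => exact (η x).2
    · intro i hi x hx
      match i with
      | 0 =>
        have hxQ : (x : Ω) ∈ Q := hx
        show (x : Ω)⁻¹ * ((d₁ ⟨x, _⟩ : _) : Ω) ∈ (⊥ : Subgroup Ω)
        rw [hd₁R x (Subgroup.mem_sup_left hxQ), hδQ _ hxQ, inv_mul_cancel]
        exact Subgroup.one_mem _
      | 1 =>
        show (x : Ω)⁻¹ * ((d₁ ⟨x, _⟩ : _) : Ω) ∈ Q
        have h := (Subgroup.mem_normalizer_iff.1 (Subgroup.inv_mem _ x.2.2) _).1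
          (hd₁N ⟨x, Subgroup.mem_sup_left x.2⟩ x.2)
        rwa [show (x : Ω)⁻¹ * (((d₁ ⟨x, Subgroup.mem_sup_left x.2⟩ : _) : Ω) * (x : Ω)⁻¹) * ((x : Ω)⁻¹)⁻¹ =
          (x : Ω)⁻¹ * ((d₁ ⟨x, Subgroup.mem_sup_left x.2⟩ : _) : Ω) by group] at h
      | (k + 2) => omega
  have hco : ((p ^ n) ^ 2).Coprime (orderOf β⁻¹) := by
    rw [orderOf_inv]
    exact Nat.Coprime.pow_left _ (Nat.Coprime.pow_left _ hord.symm)
  obtain ⟨j, hj⟩ := exists_pow_eq_self_of_coprime hco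
  refine ⟨d₁ ^ ((p ^ n) ^ 2 * j), pow_mem hd₁ _, fun x hx => ?_, fun x hx hx' => ?_⟩
  · apply Subtype.ext
    have h := hηpow ((p ^ n) ^ 2 * j) ⟨x, hx⟩
    rw [pow_mul η, hη1, one_pow] at h
    exact h.symm
  · have h := hpowC ((p ^ n) ^ 2 * j) x hx
    rwa [pow_mul β⁻¹, hj] at h

theorem exists_delta_top [Finite S] [Fact p.Prime] (hS : IsPGroup p S) (hF : F.IsSaturated p)
    (hEi : E.IsInvariantIn F) {β : MulAut ↥(T ⊔ centralizerIn S T)}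
    (hβ : β ∈ F.autGroup (T ⊔ centralizerIn S T)) (hord : (orderOf β).Coprime p) :
    ∀ (n : ℕ) (Q : Subgroup Ω), Nat.card T - Nat.card Q = n → Q ≤ T → E.IsCentric Q →
      ∀ δ ∈ F.autGroup (Q ⊔ centralizerIn S T),
        (∀ x : ↥(Q ⊔ centralizerIn S T), (x : Ω) ∈ Q → δ x = x) →
        (∀ (x : Ω) (hx : x ∈ Q ⊔ centralizerIn S T) (hx' : x ∈ T ⊔ centralizerIn S T),
          ((β⁻¹ ⟨x, hx'⟩ : _) : Ω)⁻¹ * ((δ ⟨x, hx⟩ : _) : Ω) ∈ T) →
        ∃ δ' ∈ F.autGroup (T ⊔ centralizerIn S T),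
          (∀ x : ↥(T ⊔ centralizerIn S T), (x : Ω) ∈ T → δ' x = x) ∧
          ∀ (x : Ω) (hx : x ∈ T ⊔ centralizerIn S T) (hx' : x ∈ T ⊔ centralizerIn S T),
            ((β⁻¹ ⟨x, hx'⟩ : _) : Ω)⁻¹ * ((δ' ⟨x, hx⟩ : _) : Ω) ∈ T := by
  have hTS : T ≤ S := hEi.2.1.1
  haveI := finite_of_le hTS
  intro n
  induction n using Nat.strong_induction_on with
  | _ n ih =>
  intro Q hn hQ hQc δ hδ hδQ hδC
  by_cases hQT : Q = T
  · subst hQT
    exact ⟨δ, hδ, hδQ, hδC⟩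
  have hlt : Q < normalizerIn T Q := lt_normalizerIn (hS.to_le hTS) (lt_of_le_of_ne hQ hQT)
  haveI := finite_of_le (normalizerIn_le (S := T) Q)
  obtain ⟨δ', h1, h2, h3⟩ := exists_delta_succ hS hF hEi hβ hord hQ hQc hδ hδQ hδC
  refine ih _ ?_ _ rfl (normalizerIn_le Q) (isCentric_mono hQc hlt.le (normalizerIn_le Q)) δ' h1 h2 h3
  have e1 : Nat.card Q < Nat.card (normalizerIn T Q) := Set.Finite.card_lt_card (Set.toFinite _) hlt
  have e2 : Nat.card (normalizerIn T Q) ≤ Nat.card T := card_le_of_le (normalizerIn_le Q)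
  omega

/-- An automorphism of order prime to `p` of `T` whose restriction to a centric subgroup is good is good. -/
theorem goodMap_of_restrict [Finite S] [Fact p.Prime] (hS : IsPGroup p S) (hF : F.IsSaturated p)
    (hEi : E.IsInvariantIn F) {a : MulAut T} (ha : a ∈ E.autGroup T) (hcop : (orderOf a).Coprime p)
    {Q : Subgroup Ω} (hQ : Q ≤ T) (hQc : E.IsCentric Q) (hg : GoodMap F T (autRes a hQ)) :
    GoodMap F T (T.subtype.comp a.toMonoidHom) := by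
  have hsc := hEi.2.1
  have hTS : T ≤ S := hsc.1
  haveI := finite_of_le hTS
  have hTC : T ⊔ (centralizerIn S T) ≤ S := sup_le hTS (centralizerIn_le T)
  haveI := finite_of_le hTC
  haveI : Finite (MulAut ↥(T ⊔ (centralizerIn S T))) := Finite.of_injective (fun f => (f : ↥(T ⊔ (centralizerIn S T)) → ↥(T ⊔ (centralizerIn S T))))
    DFunLike.coe_injective
  have haF : T.subtype.comp a.toMonoidHom ∈ F.Hom T := hEi.1 _ ((mem_autGroup le_rfl).1 ha)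
  have har : (T.subtype.comp a.toMonoidHom).range = T := by
    ext y
    exact ⟨fun ⟨x, hx⟩ => hx ▸ (a x).2, fun hy => ⟨a⁻¹ ⟨y, hy⟩, by
      show ((a (a⁻¹ ⟨y, hy⟩) : T) : Ω) = y
      rw [MulAut.apply_inv_self]⟩⟩
  have hfcT : F.IsFullyCentralized T := ⟨hTS, fun R ⟨φ, hφ, hr⟩ => by
    have : φ.range = T := range_eq_of_card_le hφ hTS (fun x => hsc.2 T le_rfl φ hφ x) le_rfl
    rw [← hr, this]⟩
  obtain ⟨b₀, hb₀, hb₀e⟩ := (isReceptive_of_fc hS hF hfcT).2 T _ haF har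
  have hle : T ⊔ (centralizerIn S T) ≤ extender S T (T.subtype.comp a.toMonoidHom) :=
    sup_le (le_extender hTS fun x => hom_mem haF x) (centralizerIn_le_extender _)
  have hb := restrict_mem hb₀ hle
  set b := b₀.comp (Subgroup.inclusion hle) with hbdef
  have hbT : ∀ (x : T) (hx : (x : Ω) ∈ T ⊔ (centralizerIn S T)), b ⟨x, hx⟩ = (a x : Ω) := fun x hx => hb₀e x x.2 (hle hx)
  have hbC : ∀ (c : Ω) (hc : c ∈ (centralizerIn S T)), b ⟨c, Subgroup.mem_sup_right hc⟩ ∈ (centralizerIn S T) := by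
    intro c hc
    refine mem_centralizerIn.2 ⟨hom_mem hb _, fun y hy => ?_⟩
    have h := hbT (a⁻¹ ⟨y, hy⟩) (Subgroup.mem_sup_left (a⁻¹ ⟨y, hy⟩).2)
    rw [MulAut.apply_inv_self] at h
    change b _ = y at h
    rw [← h, ← map_mul, ← map_mul]
    exact congrArg b (Subtype.ext ((mem_centralizerIn.1 hc).2 _ (a⁻¹ ⟨y, hy⟩).2))
  have hbr : b.range = T ⊔ (centralizerIn S T) := by
    refine range_eq_of_card_le hb hTC (fun x => ?_) le_rfl
    obtain ⟨t, ht, c, hc, hx⟩ := exists_mul_of_sup hsc le_rfl x.2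
    rw [show x = ⟨t, Subgroup.mem_sup_left ht⟩ * ⟨c, Subgroup.mem_sup_right hc⟩ from Subtype.ext hx,
      map_mul, hbT ⟨t, ht⟩]
    exact (T ⊔ (centralizerIn S T)).mul_mem (Subgroup.mem_sup_left (a ⟨t, ht⟩).2) (Subgroup.mem_sup_right (hbC c hc))
  let β₀ : MulAut ↥(T ⊔ (centralizerIn S T)) := homIso hb hbr
  have hβ₀ : β₀ ∈ F.autGroup (T ⊔ (centralizerIn S T)) := (mem_autGroup hTC).2 (isoIn_homIso _ _)
  have hβ₀T : ∀ (j : ℕ) (x : T), (((β₀ ^ j) ⟨x, Subgroup.mem_sup_left x.2⟩ : _) : Ω) = ((a ^ j) x : Ω) := by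
    intro j
    induction j with
    | zero => intro x; simp
    | succ j ihj =>
      intro x
      rw [pow_succ', pow_succ', MulAut.mul_apply, MulAut.mul_apply]
      rw [show (β₀ ^ j) ⟨x, Subgroup.mem_sup_left x.2⟩ = ⟨((a ^ j) x : Ω), Subgroup.mem_sup_left ((a ^ j) x).2⟩
        from Subtype.ext (ihj x)]
      exact hbT _ _
  obtain ⟨u, v, hv, huv⟩ := Nat.exists_eq_pow_mul_and_not_dvd (orderOf_pos β₀).ne' p
    (Fact.out : p.Prime).ne_one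
  have hav : orderOf a ∣ orderOf β₀ := by
    refine orderOf_dvd_of_pow_eq_one (MulEquiv.ext fun x => Subtype.ext ?_)
    rw [← hβ₀T, pow_orderOf_eq_one]
    rfl
  obtain ⟨k, hk⟩ := exists_pow_eq_self_of_coprime (x := a)
    ((Nat.Coprime.pow_right u hcop).symm : (p ^ u).Coprime (orderOf a))
  set β := β₀ ^ (p ^ u * k) with hβdef
  have hord : (orderOf β).Coprime p := by
    have h : β ^ v = 1 := by
      rw [hβdef, ← pow_mul, mul_right_comm, ← huv, pow_mul, pow_orderOf_eq_one, one_pow]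
    exact Nat.Coprime.coprime_dvd_left (orderOf_dvd_of_pow_eq_one h)
      ((Fact.out : p.Prime).coprime_iff_not_dvd.2 hv).symm
  have hβF : β ∈ F.autGroup (T ⊔ (centralizerIn S T)) := pow_mem hβ₀ _
  have hβT : ∀ x : T, ((β ⟨x, Subgroup.mem_sup_left x.2⟩ : _) : Ω) = (a x : Ω) := fun x => by
    rw [hβdef, hβ₀T, pow_mul, hk]
  -- the first automorphism
  obtain ⟨ψ, hψ, hψe, hψC⟩ := hg
  have haQ : autRes a hQ ∈ E.Hom Q := restrict_mem ((mem_autGroup le_rfl).1 ha) hQ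
  obtain ⟨hz, hψr⟩ := good_ext_spec haQ hQc hψe hψC
  have hQR : ∀ x, ψ x ∈ T ⊔ (centralizerIn S T) := fun x =>
    (sup_le_sup_right (range_le haQ) _ : (autRes a hQ).range ⊔ (centralizerIn S T) ≤ T ⊔ (centralizerIn S T)) (hψr.le ⟨x, rfl⟩)
  have hδ₀ := F.comp_mem hψ ((mem_autGroup hTC).1 (inv_mem hβF)) hQR
  set φ := ((T ⊔ (centralizerIn S T)).subtype.comp (β⁻¹).toMonoidHom).comp (ψ.codRestrict _ hQR) with hφdef
  have hφQ : ∀ (x : Q), φ ⟨x, Subgroup.mem_sup_left x.2⟩ = x := by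
    intro x
    show ((β⁻¹ ⟨ψ ⟨x, _⟩, _⟩ : _) : Ω) = x
    rw [show (⟨ψ ⟨x, Subgroup.mem_sup_left x.2⟩, hQR _⟩ : ↥(T ⊔ (centralizerIn S T))) =
        β ⟨x, Subgroup.mem_sup_left (hQ x.2)⟩ from Subtype.ext ((hψe x _).trans (hβT ⟨x, hQ x.2⟩).symm),
      MulAut.inv_apply_self]
  have hφC : ∀ (c : Ω) (hc : c ∈ (centralizerIn S T)), φ ⟨c, Subgroup.mem_sup_right hc⟩ ∈ Q ⊔ (centralizerIn S T) := by
    intro c hc
    obtain ⟨q, hq⟩ := hz c hc (Subgroup.mem_sup_right hc)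
    show ((β⁻¹ ⟨ψ ⟨c, _⟩, _⟩ : _) : Ω) ∈ _
    rw [show (⟨ψ ⟨c, Subgroup.mem_sup_right hc⟩, hQR _⟩ : ↥(T ⊔ (centralizerIn S T))) =
        ⟨c, Subgroup.mem_sup_right hc⟩ * β ⟨q, Subgroup.mem_sup_left (hQ q.2)⟩ from
      Subtype.ext (by
        show _ = c * ((β ⟨q, Subgroup.mem_sup_left (hQ q.2)⟩ : _) : Ω)
        rw [hβT ⟨q, hQ q.2⟩, show ((a ⟨q, hQ q.2⟩ : T) : Ω) = autRes a hQ q from rfl, hq,
          mul_inv_cancel_left]), map_mul, MulAut.inv_apply_self]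
    refine (Q ⊔ (centralizerIn S T)).mul_mem (Subgroup.mem_sup_right ?_) (Subgroup.mem_sup_left q.2)
    -- `β⁻¹` preserves `(centralizerIn S T)`
    have hx := (β⁻¹ ⟨c, Subgroup.mem_sup_right hc⟩)
    refine mem_centralizerIn.2 ⟨hTC (β⁻¹ _).2, fun y hy => ?_⟩
    have h : (⟨c, Subgroup.mem_sup_right hc⟩ : ↥(T ⊔ (centralizerIn S T))) * β ⟨y, Subgroup.mem_sup_left hy⟩ =
        β ⟨y, Subgroup.mem_sup_left hy⟩ * ⟨c, Subgroup.mem_sup_right hc⟩ := by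
      apply Subtype.ext
      show c * _ = _ * c
      rw [hβT ⟨y, hy⟩]
      exact (mem_centralizerIn.1 hc).2 _ (a ⟨y, hy⟩).2
    have h2 := congrArg (⇑(β⁻¹)) h
    rw [map_mul, map_mul, MulAut.inv_apply_self] at h2
    exact congrArg Subtype.val h2
  have hQCS : Q ⊔ (centralizerIn S T) ≤ S := sup_le (hQ.trans hTS) (centralizerIn_le T)
  haveI := finite_of_le hQCS
  have hφv : ∀ x, φ x ∈ Q ⊔ (centralizerIn S T) := by
    intro x
    obtain ⟨q, hq, c, hc, hx⟩ := exists_mul_of_sup hsc hQ x.2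
    rw [show x = ⟨q, Subgroup.mem_sup_left hq⟩ * ⟨c, Subgroup.mem_sup_right hc⟩ from Subtype.ext hx,
      map_mul, hφQ ⟨q, hq⟩]
    exact (Q ⊔ (centralizerIn S T)).mul_mem (Subgroup.mem_sup_left hq) (hφC c hc)
  let δ : MulAut ↥(Q ⊔ (centralizerIn S T)) := homIso hδ₀ (range_eq_of_card_le hδ₀ hQCS hφv le_rfl)
  have hψT : ∀ (x : Ω) (hx : x ∈ Q ⊔ (centralizerIn S T)), x⁻¹ * ψ ⟨x, hx⟩ ∈ T := by
    intro x hx
    obtain ⟨q, hq, c, hc, rfl⟩ := exists_mul_of_sup hsc hQ hx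
    rw [show (⟨q * c, hx⟩ : ↥(Q ⊔ (centralizerIn S T))) = ⟨q, Subgroup.mem_sup_left hq⟩ * ⟨c, Subgroup.mem_sup_right hc⟩ from rfl,
      map_mul]
    refine tcongr_mul hsc ((centralizerIn_le T) hc) ?_ (hψC c hc _)
    rw [hψe ⟨q, hq⟩]
    exact T.mul_mem (T.inv_mem (hQ hq)) (a ⟨q, hQ hq⟩).2
  obtain ⟨δ', hδ', hδ'T, hδ'C⟩ := exists_delta_top hS hF hEi hβF hord _ Q rfl hQ hQc δ
    ((mem_autGroup hQCS).2 (isoIn_homIso _ _)) (fun x hx => Subtype.ext (hφQ ⟨x, hx⟩))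
    (fun x hx hx' => tcongr_aut hsc hTC (inv_mem hβF) (x := ⟨x, hx'⟩) (y := ⟨ψ ⟨x, hx⟩, hQR _⟩) (hψT x hx))
  refine ⟨_, (mem_autGroup hTC).1 (mul_mem hβF hδ'), fun x hx => ?_, fun c hcC hc => ?_⟩
  · show (((β * δ') ⟨x, hx⟩ : _) : Ω) = _
    rw [MulAut.mul_apply, hδ'T _ x.2]
    exact hβT x
  · show c⁻¹ * (((β * δ') ⟨c, hc⟩ : _) : Ω) ∈ T
    rw [MulAut.mul_apply]
    have h := tcongr_aut hsc hTC hβF (hδ'C c hc hc)
    rwa [MulAut.apply_inv_self] at h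

end Cfsg.Lib.FusionSys
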