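import Cfsg.Agent.Lib.FusionSys.TransportSimple

/-!
Automorphisms of fusion systems carry the layer to itself; conjugates of components are components.
-/

set_option autoImplicit false

namespace Cfsg.Lib.FusionSys

open Cfsg Cfsg.FusionSystem

variable {Ω : Type*} [Group Ω] {S : Subgroup Ω}

namespace SIso

theorem img_imageAlong (α : S ≃* S) (P : Subgroup Ω) :
    (ofEquiv α).img P = imageAlong (S.subtype.comp α.toMonoidHom) P := by
  ext y
  rw [mem_img, mem_imageAlong]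
  constructor
  · rintro ⟨x, hxP, hx, rfl⟩
    exact ⟨x, hx, hxP, (ofEquiv_apply α ⟨x, hx⟩).symm⟩
  · rintro ⟨x, hx, hxP, rfl⟩
    exact ⟨x, hxP, hx, ofEquiv_apply α ⟨x, hx⟩⟩

theorem ofEquiv_symm (α : S ≃* S) : (ofEquiv α).symm = ofEquiv α.symm := by
  simp only [ofEquiv, symm, MulEquiv.symm_symm]

theorem fwd_of_isMorphism {F : FusionSystem S} {α : S ≃* S}
    (hα : F.IsMorphism F (S.subtype.comp α.toMonoidHom)) {P : Subgroup Ω} {φ : P →* Ω} (hφ : φ ∈ F.Hom P) :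
    ∃ φ' ∈ F.Hom ((ofEquiv α).img P), (ofEquiv α).Rel φ φ' := by
  rw [img_imageAlong]
  obtain ⟨φ', hφ', hP, hφv, hP', he⟩ := hα.2 P φ hφ
  refine ⟨φ', hφ', fun x hx hx' => ?_⟩
  rw [ofEquiv_apply α ⟨φ ⟨x, hx⟩, hφv _⟩]
  exact Eq.trans (congrArg φ' (Subtype.ext (ofEquiv_apply α ⟨x, hP hx⟩))) (he ⟨x, hx⟩)

theorem mapsTo_of_morphisms {F : FusionSystem S} {α : S ≃* S}
    (hα : F.IsMorphism F (S.subtype.comp α.toMonoidHom))
    (hα' : F.IsMorphism F (S.subtype.comp α.symm.toMonoidHom)) : (ofEquiv α).MapsTo F F := by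
  refine ⟨le_rfl, (ofEquiv α).img_top.symm, fwd_of_isMorphism hα, fun hφ => ?_⟩
  rw [ofEquiv_symm]
  exact fwd_of_isMorphism hα' hφ

theorem layer_fwd [Finite S] {p : ℕ} [Fact p.Prime] (hS : IsPGroup p S) {F : FusionSystem S}
    {i : SIso S S} (hi : i.MapsTo F F) {T : Subgroup Ω} {E : FusionSystem T} (hE : E.IsLayerOf F p) :
    i.img T ≤ T ∧ ∀ {P : Subgroup Ω} {φ : P →* Ω}, φ ∈ E.Hom P → ∃ φ' ∈ E.Hom (i.img P), i.Rel φ φ' := by
  obtain ⟨hn, hall, hmin⟩ := hE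
  have hTS : T ≤ S := hn.1.2.2.2.1.1
  obtain ⟨E₁, hE₁⟩ := exists_mapsTo i.symm hTS E
  have hn₁ := hE₁.isNormalIn hS hi.symm hn
  have hc₁ : ∀ (U : Subgroup Ω) (C : FusionSystem U), C.IsComponentIn F p → C.IsSubsystemOf E₁ := by
    intro U C hC P φ hφ
    have hUS : U ≤ S := SIso.subnormal_le hC.1
    obtain ⟨C₀, hC₀⟩ := exists_mapsTo i hUS C
    obtain ⟨φ', hφ', hr⟩ := hC₀.fwd hφ
    exact MapsTo.mem_bwd (i := i) hE₁.symm ((hom_le hφ).trans hUS) (fun x => hUS (hom_mem hφ x))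
      (hall _ C₀ (MapsTo.isComponentIn hS hi hC₀ hC) _ hφ') hr
  have hsub := hmin _ E₁ hn₁ hc₁
  refine ⟨?_, fun hφ => MapsTo.fwd (i := i) hE₁.symm (hsub _ hφ)⟩
  refine (i.img_mono (hom_le (hsub T (subtype_mem E le_rfl)))).trans ?_
  rw [i.img_symm_img hTS]

theorem layer_characteristic [Finite S] {p : ℕ} [Fact p.Prime] (hS : IsPGroup p S) {F : FusionSystem S}
    {α : S ≃* S} (hα : F.IsMorphism F (S.subtype.comp α.toMonoidHom))
    (hα' : F.IsMorphism F (S.subtype.comp α.symm.toMonoidHom)) {T : Subgroup Ω} {E : FusionSystem T}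
    (hE : E.IsLayerOf F p) :
    imageAlong (S.subtype.comp α.toMonoidHom) T = T ∧
      ∀ (P : Subgroup Ω) (φ : P →* Ω), φ ∈ E.Hom P →
        ∀ φ' : ↥(imageAlong (S.subtype.comp α.toMonoidHom) P) →* Ω,
          InducedAlong (S.subtype.comp α.toMonoidHom) φ φ' →
            φ' ∈ E.Hom (imageAlong (S.subtype.comp α.toMonoidHom) P) := by
  have hTS : T ≤ S := hE.1.1.2.2.2.1.1
  have hi := mapsTo_of_morphisms hα hα'
  obtain ⟨hle, hf⟩ := layer_fwd hS hi hE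
  haveI := finite_of_le hTS
  refine ⟨?_, fun P φ hφ φ' hind => ?_⟩
  · rw [← img_imageAlong]
    exact Subgroup.eq_of_le_of_card_ge hle ((ofEquiv α).card_img hTS).ge
  · obtain ⟨ψ, hψ, hr⟩ := hf hφ
    obtain ⟨hP, hφv, hP', he⟩ := hind
    have hcast : ∀ (R : Subgroup Ω), R = imageAlong (S.subtype.comp α.toMonoidHom) P →
        ∀ ψ : R →* Ω, ψ ∈ E.Hom R → (ofEquiv α).Rel φ ψ →
          φ' ∈ E.Hom (imageAlong (S.subtype.comp α.toMonoidHom) P) := by
      intro R hR ψ hψ hr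
      subst hR
      refine hom_congr hψ ?_
      rintro ⟨y, hy⟩
      obtain ⟨x, hx, hxP, rfl⟩ := mem_imageAlong.1 hy
      have hx' : (ofEquiv α).toFun x ∈ imageAlong (S.subtype.comp α.toMonoidHom) P := by
        rw [ofEquiv_apply α ⟨x, hx⟩]; exact hy
      refine (he ⟨x, hxP⟩).trans (Eq.trans ?_
        ((hr x hxP hx').symm.trans (congrArg ψ (Subtype.ext (ofEquiv_apply α ⟨x, hx⟩)))))
      exact (ofEquiv_apply α ⟨φ ⟨x, hxP⟩, hφv _⟩).symm
    exact hcast _ (img_imageAlong α P) ψ hψ hr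

/-- A map of a system, as an isomorphism onto its image. -/
noncomputable def ofHom {F : FusionSystem S} {T : Subgroup Ω} {γ : T →* Ω} (hγ : γ ∈ F.Hom T) :
    SIso T γ.range :=
  ofEquiv (MonoidHom.ofInjective (F.injective_of_mem hγ))

theorem ofHom_apply {F : FusionSystem S} {T : Subgroup Ω} {γ : T →* Ω} (hγ : γ ∈ F.Hom T) (x : T) :
    (ofHom hγ).toFun x = γ x := ofEquiv_apply _ x

/-- An automorphism induced by the system on the base of an invariant subsystem preserves the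
subsystem. -/
theorem mapsTo_of_invariant {U : Subgroup Ω} {D : FusionSystem U} {F : FusionSystem S}
    (hinv : D.IsInvariantIn F) {α : MulAut U} (hα : α ∈ F.autGroup U) : (ofEquiv α).MapsTo D D := by
  have key : ∀ β : MulAut U, β ∈ F.autGroup U → ∀ {P : Subgroup Ω} {φ : P →* Ω}, φ ∈ D.Hom P →
      ∃ φ' ∈ D.Hom ((ofEquiv β).img P), (ofEquiv β).Rel φ φ' := by
    intro β hβ P φ hφ
    obtain ⟨χ, hχ, he⟩ := hinv.2.2.1 P (hom_le hφ) φ hφ β hβ
    rw [img_imageAlong]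
    refine ⟨χ, hχ, fun x hx hx' => ?_⟩
    have hxU : x ∈ U := hom_le hφ hx
    rw [ofEquiv_apply β ⟨φ ⟨x, hx⟩, hom_mem hφ _⟩]
    exact Eq.trans (congrArg χ (Subtype.ext (ofEquiv_apply β ⟨x, hxU⟩)))
      (he ⟨x, hx⟩ (hom_mem hφ _) ⟨⟨x, hxU⟩, hx, rfl⟩)
  refine ⟨le_rfl, (ofEquiv α).img_top.symm, key α hα, fun hφ => ?_⟩
  rw [ofEquiv_symm]
  exact key _ ((F.autGroup U).inv_mem hα) hφ

theorem mem_conj_of_hom [Finite S] {F : FusionSystem S} {γ : S →* Ω} (hγ : γ ∈ F.Hom S) {i : SIso S γ.range}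
    (hi : ∀ x : S, i.toFun x = γ x) {P : Subgroup Ω} {φ : P →* Ω} (hφ : φ ∈ F.Hom P)
    {φ' : i.img P →* Ω} (hr : i.Rel φ φ') : φ' ∈ F.Hom (i.img P) := by
  have hP := hom_le hφ
  have h1 := restrict_mem hγ hP
  have hrange : (γ.comp (Subgroup.inclusion hP)).range = i.img P := by
    ext y
    rw [i.mem_img]
    constructor
    · rintro ⟨x, rfl⟩
      exact ⟨x, x.2, hP x.2, hi ⟨x, hP x.2⟩⟩
    · rintro ⟨x, hx, hxS, rfl⟩
      exact ⟨⟨x, hx⟩, (hi ⟨x, hxS⟩).symm⟩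
  obtain ⟨ψ, hψ, hψr, hψe⟩ := exists_inv h1 hrange
  have hv : ∀ y, ψ y ∈ P := fun y => hψr.le ⟨y, rfl⟩
  have h2 := F.comp_mem hψ hφ hv
  refine hom_congr (F.comp_mem h2 hγ (fun y => hom_mem h2 y)) ?_
  rintro ⟨y, hy⟩
  obtain ⟨x, hx, hxS, rfl⟩ := i.mem_img.1 hy
  have e0 : ψ ⟨i.toFun x, hy⟩ = x := by
    have hm : (γ.comp (Subgroup.inclusion hP)) ⟨x, hx⟩ ∈ i.img P := hrange ▸ ⟨_, rfl⟩
    refine Eq.trans (congrArg ψ (Subtype.ext ?_)) (hψe ⟨x, hx⟩ hm)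
    exact hi ⟨x, hxS⟩
  rw [hr x hx hy]
  refine (hi ⟨_, hom_mem hφ _⟩).trans (congrArg γ (Subtype.ext ?_))
  exact congrArg φ (Subtype.ext e0.symm)

theorem subnormal_image [Finite S] {p : ℕ} [Fact p.Prime] (hS : IsPGroup p S) {F : FusionSystem S}
    {T : Subgroup Ω} {C : FusionSystem T} (hC : C.IsSubnormalIn F p) :
    ∀ (γ : T →* Ω), γ ∈ F.Hom T → ∀ (i : SIso T γ.range), (∀ x : T, i.toFun x = γ x) →
      ∀ (E : FusionSystem γ.range), i.MapsTo C E → E.IsSubnormalIn F p := by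
  have hp : p.Prime := Fact.out
  have hfin : Finite S := inferInstance
  induction hC with
  | @refl F p =>
    intro γ hγ i hi E h
    haveI := hfin
    have hr : γ.range = T := Subgroup.eq_of_le_of_card_ge (range_le hγ) (card_range hγ).ge
    have key : ∀ (R : Subgroup Ω), R = T → ∀ E : FusionSystem R, (∀ P, E.Hom P = F.Hom P) →
        E.IsSubnormalIn F p := by
      intro R hR E₂ hE₂
      subst hR
      have hEF : E₂ = F := by
        have hh : E₂.Hom = F.Hom := funext hE₂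
        cases E₂; cases F; congr
      rw [hEF]
      exact IsSubnormalIn.refl _ _
    refine key _ hr E fun P' => ?_
    have hsub : E.Hom P' ⊆ F.Hom P' := by
      intro φ' hφ'
      obtain ⟨P, hP, rfl⟩ := i.exists_img le_rfl (P' := P') ((hom_le hφ').trans h.eq.le)
      obtain ⟨φ, hφ, hr⟩ := h.bwd_img hP hφ'
      exact mem_conj_of_hom hγ hi hφ hr
    refine Set.Subset.antisymm hsub ?_
    intro φ' hφ'
    have hP' := hom_le hφ'
    obtain ⟨P, hP, rfl⟩ := i.exists_img le_rfl (P' := P') (by rw [i.img_top, hr]; exact hP')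
    obtain ⟨δ, hδ, hδr, hδe⟩ := exists_inv hγ hr
    -- the preimage map
    let φ : P →* Ω :=
      δ.comp ((φ'.comp ((i.imgEquiv hP).toMonoidHom)).codRestrict T fun x => hom_mem hφ' _)
    have hφ : φ ∈ F.Hom P := by
      have ha : γ.comp (Subgroup.inclusion hP) ∈ F.Hom P := restrict_mem hγ hP
      have hv : ∀ x : P, (γ.comp (Subgroup.inclusion hP)) x ∈ i.img P := fun x =>
        hi (Subgroup.inclusion hP x) ▸ i.apply_mem_img hP x.2
      have hb := F.comp_mem ha hφ' hv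
      refine hom_congr (F.comp_mem hb hδ fun x => hom_mem hb x) fun x => ?_
      exact congrArg δ (Subtype.ext (congrArg φ' (Subtype.ext (hi (Subgroup.inclusion hP x)))))
    refine h.mem_fwd hφ fun x hx hx' => ?_
    set z := φ' ⟨i.toFun x, hx'⟩ with hz
    have hzS : z ∈ T := hom_mem hφ' _
    show z = i.toFun (φ ⟨x, hx⟩)
    have e1 : φ ⟨x, hx⟩ = δ ⟨z, hzS⟩ := congrArg δ (Subtype.ext rfl)
    obtain ⟨w, hw⟩ := hr.ge hzS
    have e2 : δ ⟨z, hzS⟩ = w := by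
      refine Eq.trans (congrArg δ (Subtype.ext hw.symm)) (hδe w (hw ▸ hzS))
    rw [e1, e2, hi w, hw]
  | @step U S C D F p h1 h2 ih =>
    intro γ hγ i hi E h
    haveI := hfin
    haveI := Fact.mk hp
    have hTU : T ≤ U := SIso.subnormal_le h1
    have hUS : U ≤ S := h2.1.2.2.2.1.1
    haveI := finite_of_le hUS
    obtain ⟨α, hα, γ₀, hγ₀, he⟩ := h2.1.2.2.2.2.2 T hTU γ hγ
    let i₀ := ofHom hγ₀
    haveI := finite_of_le hTU
    obtain ⟨E₀, hE₀⟩ := exists_mapsTo_eq i₀ (U := T) (U' := γ₀.range) le_rfl C i₀.img_top.symm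
    have hsn₀ := ih (hS.to_le hUS) hp (finite_of_le hUS) γ₀ hγ₀ i₀ (ofHom_apply hγ₀) E₀ hE₀
    let j := ofEquiv α
    have hj := mapsTo_of_invariant h2.1.2.2 hα
    have hr0U : γ₀.range ≤ U := range_le hγ₀
    have hcomp : ∀ x ∈ T, j.toFun (i₀.toFun x) = i.toFun x := by
      intro x hx
      rw [hi ⟨x, hx⟩, ofHom_apply hγ₀ ⟨x, hx⟩,
        ofEquiv_apply α ⟨γ₀ ⟨x, hx⟩, hom_mem hγ₀ _⟩]
      exact (he ⟨x, hx⟩ (hom_mem hγ₀ _)).symm
    have himg : ∀ P : Subgroup Ω, P ≤ T → j.img (i₀.img P) = i.img P := by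
      intro P hP
      ext y
      rw [j.mem_img, i.mem_img]
      constructor
      · rintro ⟨z, hz, -, rfl⟩
        obtain ⟨x, hx, hxT, rfl⟩ := i₀.mem_img.1 hz
        exact ⟨x, hx, hxT, (hcomp x hxT).symm⟩
      · rintro ⟨x, hx, hxT, rfl⟩
        exact ⟨_, i₀.apply_mem_img hP hx, hr0U (i₀.map_mem x hxT), hcomp x hxT⟩
    have hEr : γ.range = j.img γ₀.range := by
      rw [← i₀.img_top, himg T le_rfl, i.img_top]
    have hjE : j.MapsTo E₀ E := by
      have hfw : ∀ {P₀ : Subgroup Ω} {φ₀ : P₀ →* Ω}, φ₀ ∈ E₀.Hom P₀ →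
          ∃ φ' ∈ E.Hom (j.img P₀), j.Rel φ₀ φ' := by
        intro P₀ φ₀ hφ₀
        obtain ⟨P, hP, rfl⟩ := i₀.exists_img le_rfl ((hom_le hφ₀).trans hE₀.eq.le)
        obtain ⟨φ, hφ, hr₀⟩ := hE₀.bwd_img hP hφ₀
        obtain ⟨φ', hφ', hr'⟩ := h.fwd_eq hφ (himg P hP).symm
        refine ⟨φ', hφ', ?_⟩
        intro y hy hy'
        obtain ⟨x, hx, hxT, rfl⟩ := i₀.mem_img.1 hy
        rw [hr₀ x hx hy, hcomp _ (hom_mem hφ _)]
        refine Eq.trans (congrArg φ' (Subtype.ext (hcomp x hxT))) (hr' x hx ?_)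
        rw [← hcomp x hxT]; exact hy'
      refine ⟨hr0U, hEr, hfw, fun {P'} {φ'} hφ' => ?_⟩
      obtain ⟨P, hP, rfl⟩ := i.exists_img le_rfl ((hom_le hφ').trans h.eq.le)
      obtain ⟨φ, hφ, hr⟩ := h.bwd_img hP hφ'
      obtain ⟨φ₀, hφ₀, hr₀⟩ := hE₀.fwd hφ
      have hback : j.symm.img (i.img P) = i₀.img P := by
        rw [← himg P hP, j.symm_img_img ((i₀.img_le P).trans hr0U)]
      rw [hback]
      refine ⟨φ₀, hφ₀, fun y hy hy' => ?_⟩
      obtain ⟨x, hx, hxT, rfl⟩ := i.mem_img.1 hy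
      have hbk : ∀ z ∈ T, j.symm.toFun (i.toFun z) = i₀.toFun z := fun z hz => by
        rw [← hcomp z hz]
        exact j.symm_apply (hr0U (i₀.map_mem z hz))
      rw [hr x hx hy, hbk _ (hom_mem hφ _)]
      refine Eq.trans (congrArg φ₀ (Subtype.ext (hbk x hxT))) (hr₀ x hx ?_)
      rw [← hbk x hxT]; exact hy'
    exact IsSubnormalIn.step (MapsTo.isSubnormalIn (hS.to_le hUS) hsn₀ hjE hj) h2

theorem isComponentIn_image [Finite S] {p : ℕ} [Fact p.Prime] (hS : IsPGroup p S) {F : FusionSystem S}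
    {T : Subgroup Ω} {C : FusionSystem T} (hC : C.IsComponentIn F p) {γ : T →* Ω} (hγ : γ ∈ F.Hom T)
    {E : FusionSystem γ.range} (hE : C.IsFactorSystem ⊥ γ E) : E.IsComponentIn F p := by
  have hTS : T ≤ S := SIso.subnormal_le hC.1
  haveI := finite_of_le hTS
  let i := ofHom hγ
  have hi : i.restrictHom le_rfl = γ := MonoidHom.ext fun x => ofHom_apply hγ x
  obtain ⟨E', hE'⟩ := exists_mapsTo_eq i (U := T) (U' := γ.range) le_rfl C i.img_top.symm
  have hfac : C.IsFactorSystem ⊥ γ E' := by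
    have h0 : C.IsFactorSystem ⊥ (i.restrictHom le_rfl) E' := hE'.isFactorSystem
    rw [hi] at h0
    exact h0
  have heq : E' = E := by
    have hh : E'.Hom = E.Hom := by
      funext P'
      ext φ'
      rw [hfac.2.2.2, hE.2.2.2]
    cases E'; cases E; congr
  subst heq
  exact ⟨subnormal_image hS hC.1 γ hγ i (ofHom_apply hγ) _ hE', hE'.quasisimple (hS.to_le hTS) hC.2⟩

end SIso

end Cfsg.Lib.FusionSys
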