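import Cfsg.Agent.Lib.FusionSys.Alperin
import Cfsg.Agent.Lib.FusionSys.Normal
import Cfsg.Agent.Lib.FusionSys.OfGroup
import Cfsg.Prelude.Def_FusionComponents

/-!
Factor systems: existence, Puig's extension modulo a strongly closed subgroup, saturation.
-/

set_option autoImplicit false

namespace Cfsg.Lib.FusionSys

open Cfsg Cfsg.FusionSystem

variable {Ω : Type*} [Group Ω] {S : Subgroup Ω} {F : FusionSystem S} {P Q T : Subgroup Ω}
variable {Ω' : Type*} [Group Ω'] {S' : Subgroup Ω'} {θ : S →* Ω'} {P' : Subgroup Ω'}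

theorem mem_preimageAlong {x : Ω} :
    x ∈ preimageAlong θ P' ↔ ∃ hx : x ∈ S, θ ⟨x, hx⟩ ∈ P' := by
  constructor
  · rintro ⟨⟨y, hy⟩, hy', rfl⟩
    exact ⟨hy, hy'⟩
  · rintro ⟨hx, h⟩
    exact ⟨⟨x, hx⟩, h, rfl⟩

theorem preimageAlong_le : preimageAlong θ P' ≤ S := fun _ hx => (mem_preimageAlong.1 hx).1

theorem mem_imageAlong {y : Ω'} :
    y ∈ imageAlong θ P ↔ ∃ (x : Ω) (hx : x ∈ S), x ∈ P ∧ θ ⟨x, hx⟩ = y := by
  constructor
  · rintro ⟨⟨x, hx⟩, hxP, rfl⟩
    exact ⟨x, hx, hxP, rfl⟩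
  · rintro ⟨x, hx, hxP, rfl⟩
    exact ⟨⟨x, hx⟩, hxP, rfl⟩

theorem kernel_le_preimageAlong (hT : T ≤ S) (hker : ∀ s : S, θ s = 1 ↔ (s : Ω) ∈ T) :
    T ≤ preimageAlong θ P' := fun t ht => mem_preimageAlong.2 ⟨hT ht, by
  rw [(hker ⟨t, hT ht⟩).2 ht]; exact P'.one_mem⟩

theorem imageAlong_preimageAlong (hrange : θ.range = S') (hP' : P' ≤ S') :
    imageAlong θ (preimageAlong θ P') = P' := by
  ext y
  rw [mem_imageAlong]
  constructor
  · rintro ⟨x, hx, hxP, rfl⟩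
    exact (mem_preimageAlong.1 hxP).2
  · intro hy
    obtain ⟨⟨x, hx⟩, rfl⟩ := hrange.ge (hP' hy)
    exact ⟨x, hx, mem_preimageAlong.2 ⟨hx, hy⟩, rfl⟩

theorem preimageAlong_imageAlong (hT : F.StronglyClosed T)
    (hker : ∀ s : S, θ s = 1 ↔ (s : Ω) ∈ T) (hP : P ≤ S) :
    preimageAlong θ (imageAlong θ P) = P ⊔ T := by
  apply le_antisymm
  · intro x hx
    obtain ⟨hxS, hx⟩ := mem_preimageAlong.1 hx
    obtain ⟨y, hyS, hyP, he⟩ := mem_imageAlong.1 hx
    have hd : y⁻¹ * x ∈ T := by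
      refine (hker (⟨y, hyS⟩⁻¹ * ⟨x, hxS⟩)).1 ?_
      rw [map_mul, map_inv, he, inv_mul_cancel]
    have h := Subgroup.mul_mem _ (Subgroup.mem_sup_left (T := T) hyP) (Subgroup.mem_sup_right hd)
    rwa [mul_inv_cancel_left] at h
  · refine sup_le (fun x hx => mem_preimageAlong.2 ⟨hP hx, mem_imageAlong.2 ⟨x, _, hx, rfl⟩⟩) ?_
    exact kernel_le_preimageAlong hT.1 hker

/-- A map whose source contains a strongly closed subgroup sends only its elements into it. -/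
theorem apply_mem_stronglyClosed_iff [Finite S] (hT : F.StronglyClosed T) {φ : P →* Ω}
    (hφ : φ ∈ F.Hom P) (hTP : T ≤ P) {x : P} : φ x ∈ T ↔ (x : Ω) ∈ T := by
  refine ⟨fun h => ?_, fun h => stronglyClosed_apply_mem hT hφ h⟩
  have hr := range_eq_of_card_le (restrict_mem hφ hTP) hT.1
    (fun y => stronglyClosed_apply_mem hT hφ (x := Subgroup.inclusion hTP y) y.2) le_rfl
  obtain ⟨t, ht⟩ := hr.ge h
  have := F.injective_of_mem hφ ht
  rw [← this]
  exact t.2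

theorem exists_lift_val (hrange : θ.range = S') (hP' : P' ≤ S') (y : P') :
    ∃ x : preimageAlong θ P', θ ⟨x, preimageAlong_le x.2⟩ = y := by
  obtain ⟨⟨x, hx⟩, he⟩ := hrange.ge (hP' y.2)
  exact ⟨⟨x, mem_preimageAlong.2 ⟨hx, by rw [he]; exact y.2⟩⟩, he⟩

/-- A map on a full preimage induces a map on the image. -/
theorem exists_induced [Finite S] (hT : F.StronglyClosed T)
    (hker : ∀ s : S, θ s = 1 ↔ (s : Ω) ∈ T) (hrange : θ.range = S') (hP' : P' ≤ S')
    {φ : preimageAlong θ P' →* Ω} (hφ : φ ∈ F.Hom (preimageAlong θ P')) :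
    ∃ φ' : P' →* Ω', InducedAlong θ φ φ' := by
  let f : preimageAlong θ P' →* P' :=
    (θ.comp (Subgroup.inclusion preimageAlong_le)).codRestrict P'
      fun x => (mem_preimageAlong.1 x.2).2
  have hf : Function.Surjective f := fun y => by
    obtain ⟨x, hx⟩ := exists_lift_val hrange hP' y
    exact ⟨x, Subtype.ext hx⟩
  let g : preimageAlong θ P' →* Ω' := θ.comp (φ.codRestrict S (hom_mem hφ))
  have hfg : f.ker ≤ g.ker := fun x hx => by
    have h1 : θ ⟨x, preimageAlong_le x.2⟩ = 1 := congrArg Subtype.val hx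
    exact (hker _).2 (stronglyClosed_apply_mem hT hφ ((hker _).1 h1))
  refine ⟨f.liftOfSurjective hf ⟨g, hfg⟩, preimageAlong_le, hom_mem hφ,
    fun x => (mem_preimageAlong.1 x.2).2, fun x => ?_⟩
  exact MonoidHom.liftOfRightInverse_comp_apply f _ _ ⟨g, hfg⟩ x

/-- An induced map is determined on the images by the inducing map. -/
theorem inducedAlong_apply {φ : P →* Ω} {φ' : P' →* Ω'} (h : InducedAlong θ φ φ')
    {x : P} {hxS : (x : Ω) ∈ S} {hx' : φ x ∈ S} {y : P'} (hy : (y : Ω') = θ ⟨x, hxS⟩) :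
    φ' y = θ ⟨φ x, hx'⟩ := by
  obtain ⟨hP, hφ, hP', he⟩ := h
  rw [← he x]
  exact congrArg φ' (Subtype.ext hy)

/-- The maps of a factor system. -/
def factorHom (F : FusionSystem S) (θ : S →* Ω') (S' : Subgroup Ω') (P' : Subgroup Ω') :
    Set (P' →* Ω') :=
  {φ' | P' ≤ S' ∧ ∃ φ ∈ F.Hom (preimageAlong θ P'), InducedAlong θ φ φ'}

theorem exists_factorSystem [Finite S] (hT : F.StronglyClosed T)
    (hker : ∀ s : S, θ s = 1 ↔ (s : Ω) ∈ T) (hrange : θ.range = S') :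
    ∃ E : FusionSystem S', F.IsFactorSystem T θ E := by
  refine ⟨⟨factorHom F θ S', ?_, ?_, ?_, ?_, ?_⟩, hT.1, hker, hrange, fun _ _ => Iff.rfl⟩
  · rintro P' φ' ⟨hP', φ, hφ, h⟩
    refine ⟨hP', fun y => ?_⟩
    obtain ⟨x, hx⟩ := exists_lift_val hrange hP' y
    rw [inducedAlong_apply h hx.symm (hx' := hom_mem hφ x), ← hrange]
    exact ⟨_, rfl⟩
  · rintro P' φ' ⟨hP', φ, hφ, h⟩
    rw [injective_iff_map_eq_one]
    intro y hy
    obtain ⟨x, hx⟩ := exists_lift_val hrange hP' y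
    rw [inducedAlong_apply h hx.symm (hx' := hom_mem hφ x), hker,
      apply_mem_stronglyClosed_iff hT hφ (kernel_le_preimageAlong hT.1 hker)] at hy
    exact Subtype.ext (by rw [← hx, (hker _).2 hy]; rfl)
  · intro P' g' hP' hg'
    obtain ⟨⟨g, hg⟩, rfl⟩ := hrange.ge hg'
    refine ⟨hP', _, F.conj_mem preimageAlong_le hg, preimageAlong_le,
      fun x => hom_mem (F.conj_mem preimageAlong_le hg) x,
      fun x => (mem_preimageAlong.1 x.2).2, fun x => ?_⟩
    show θ ⟨g, hg⟩ * θ ⟨x, _⟩ * (θ ⟨g, hg⟩)⁻¹ = θ ⟨g * x * g⁻¹, _⟩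
    rw [← map_inv, ← map_mul, ← map_mul]
    rfl
  · rintro P' Q' φ' ψ' ⟨hP', φ, hφ, h⟩ ⟨hQ', ψ, hψ, h'⟩ hv
    have hval : ∀ x, φ x ∈ preimageAlong θ Q' := fun x => by
      refine mem_preimageAlong.2 ⟨hom_mem hφ x, ?_⟩
      rw [← inducedAlong_apply h (y := ⟨_, (mem_preimageAlong.1 x.2).2⟩) rfl]
      exact hv _
    refine ⟨hP', _, F.comp_mem hφ hψ hval, preimageAlong_le,
      fun x => hom_mem (F.comp_mem hφ hψ hval) x, fun x => (mem_preimageAlong.1 x.2).2,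
      fun x => ?_⟩
    exact inducedAlong_apply h' (x := ⟨φ x, hval x⟩) (hxS := hom_mem hφ x)
      (inducedAlong_apply h (x := x) rfl)
  · rintro P' φ' ⟨hP', φ, hφ, h⟩
    obtain ⟨ψ, hψ, hψe⟩ := F.inv_mem hφ
    have hv : ∀ y, φ' y ∈ S' := fun y => by
      obtain ⟨x, hx⟩ := exists_lift_val hrange hP' y
      rw [inducedAlong_apply h hx.symm (hx' := hom_mem hφ x), ← hrange]
      exact ⟨_, rfl⟩
    have hR : φ'.range ≤ S' := by rintro _ ⟨y, rfl⟩; exact hv y
    have hle : preimageAlong θ φ'.range ≤ φ.range := by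
      intro z hz
      obtain ⟨hzS, y, hy⟩ := mem_preimageAlong.1 hz
      obtain ⟨x, hx⟩ := exists_lift_val hrange hP' y
      rw [inducedAlong_apply h hx.symm (hx' := hom_mem hφ x)] at hy
      have hd : (φ x)⁻¹ * z ∈ T := (hker (⟨φ x, hom_mem hφ x⟩⁻¹ * ⟨z, hzS⟩)).1 (by
        rw [map_mul, map_inv, hy, inv_mul_cancel])
      have hTP := kernel_le_preimageAlong (P' := P') hT.1 hker
      have hTr : T ≤ φ.range := by
        rintro t ht
        obtain ⟨u, hu⟩ := (range_eq_of_card_le (restrict_mem hφ hTP) hT.1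
          (fun y => stronglyClosed_apply_mem hT hφ (x := Subgroup.inclusion hTP y) y.2) le_rfl).ge ht
        exact ⟨_, hu⟩
      have h1 := φ.range.mul_mem (φ.mem_range.2 ⟨x, rfl⟩) (hTr hd)
      rwa [mul_inv_cancel_left] at h1
    obtain ⟨ψ', hψ'⟩ := exists_induced hT hker hrange hR (restrict_mem hψ hle)
    refine ⟨ψ', ⟨hR, _, restrict_mem hψ hle, hψ'⟩, fun y => ?_⟩
    obtain ⟨x, hx⟩ := exists_lift_val hrange hP' y
    have he := inducedAlong_apply h hx.symm (hx' := hom_mem hφ x)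
    have hmem : φ x ∈ preimageAlong θ φ'.range :=
      mem_preimageAlong.2 ⟨hom_mem hφ x, y, he⟩
    have h2 := inducedAlong_apply hψ' (x := ⟨φ x, hmem⟩) (hxS := hom_mem hφ x)
      (hx' := hom_mem (restrict_mem hψ hle) _) (y := ⟨φ' y, y, rfl⟩) he
    rw [h2, ← hx]
    congr 1
    exact Subtype.ext (hψe x)

/-! ### Puig's extension modulo a strongly closed subgroup -/

/-- The map extends, modulo `T`, to the product of its source with `T`. -/
def ModExtends (F : FusionSystem S) (T : Subgroup Ω) {P : Subgroup Ω} (φ : P →* Ω) : Prop :=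
  ∃ ψ ∈ F.Hom (P ⊔ T), ∀ x : P, (φ x)⁻¹ * ψ (Subgroup.inclusion le_sup_left x) ∈ T

theorem exists_mul_of_mem_sup (hT : F.StronglyClosed T) (hP : P ≤ S) {y : Ω} (hy : y ∈ P ⊔ T) :
    ∃ x ∈ P, ∃ t ∈ T, y = x * t := by
  have h : y ∈ ((P ⊔ T : Subgroup Ω) : Set Ω) := hy
  rw [Subgroup.coe_mul_of_left_le_normalizer_right P T
    (hP.trans (stronglyClosed_le_normalizer hT))] at h
  obtain ⟨x, hx, t, ht, he⟩ := Set.mem_mul.1 h
  exact ⟨x, hx, t, ht, he.symm⟩

theorem map_sup_mem (hT : F.StronglyClosed T) (hP : P ≤ S) {ψ : (P ⊔ T : Subgroup Ω) →* Ω}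
    (hψ : ψ ∈ F.Hom (P ⊔ T)) (h : ∀ x : P, ψ (Subgroup.inclusion le_sup_left x) ∈ Q ⊔ T)
    (y : (P ⊔ T : Subgroup Ω)) : ψ y ∈ Q ⊔ T := by
  obtain ⟨x, hx, t, ht, he⟩ := exists_mul_of_mem_sup hT hP y.2
  have h1 : y = Subgroup.inclusion le_sup_left ⟨x, hx⟩ *
      Subgroup.inclusion le_sup_right ⟨t, ht⟩ := Subtype.ext he
  rw [h1, map_mul]
  exact Subgroup.mul_mem _ (h _)
    (Subgroup.mem_sup_right (stronglyClosed_apply_mem hT hψ ht))

/-- The maps extending modulo `T`. -/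
def modExtSystem [Finite S] (F : FusionSystem S) (hT : F.StronglyClosed T) : FusionSystem S where
  Hom P := {φ | φ ∈ F.Hom P ∧ ModExtends F T φ}
  le_of_mem h := F.le_of_mem h.1
  injective_of_mem h := F.injective_of_mem h.1
  conj_mem {P g} hP hg := by
    refine ⟨F.conj_mem hP hg, conjHom _ g, F.conj_mem (sup_le hP hT.1) hg, fun x => ?_⟩
    have : (conjHom P g x)⁻¹ * conjHom (P ⊔ T) g (Subgroup.inclusion le_sup_left x) = 1 :=
      inv_mul_cancel _
    rw [this]; exact T.one_mem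
  comp_mem {P Q φ ψ} hφ hψ hv := by
    obtain ⟨hφ, φ₁, hφ₁, hφe⟩ := hφ
    obtain ⟨hψ, ψ₁, hψ₁, hψe⟩ := hψ
    refine ⟨F.comp_mem hφ hψ hv, ?_⟩
    have hP := hom_le hφ
    have hval : ∀ y, φ₁ y ∈ Q ⊔ T := map_sup_mem hT hP hφ₁ fun x => by
      have h := Subgroup.mul_mem (Q ⊔ T) (Subgroup.mem_sup_left (hv x))
        (Subgroup.mem_sup_right (hφe x))
      rwa [mul_inv_cancel_left] at h
    refine ⟨_, F.comp_mem hφ₁ hψ₁ hval, fun x => ?_⟩
    let q : Q := ⟨φ x, hv x⟩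
    let t : T := ⟨_, hφe x⟩
    have he : (φ₁.codRestrict (Q ⊔ T) hval) (Subgroup.inclusion le_sup_left x) =
        Subgroup.inclusion le_sup_left q * Subgroup.inclusion le_sup_right t :=
      Subtype.ext (mul_inv_cancel_left _ _).symm
    show (ψ q)⁻¹ * ψ₁ ((φ₁.codRestrict (Q ⊔ T) hval) (Subgroup.inclusion le_sup_left x)) ∈ T
    rw [he, map_mul, ← mul_assoc]
    exact T.mul_mem (hψe q) (stronglyClosed_apply_mem hT hψ₁ t.2)
  inv_mem {P φ} hφ := by
    obtain ⟨hφ, φ₁, hφ₁, hφe⟩ := hφ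
    obtain ⟨χ, hχ, hχe⟩ := F.inv_mem hφ
    obtain ⟨χ₁, hχ₁, hχ₁e⟩ := F.inv_mem hφ₁
    refine ⟨χ, ⟨hχ, ?_⟩, hχe⟩
    have hTr : T ≤ φ₁.range := fun t ht => by
      obtain ⟨u, hu⟩ := (range_eq_of_card_le (restrict_mem hφ₁ le_sup_right) hT.1
        (fun y => stronglyClosed_apply_mem hT hφ₁ (x := Subgroup.inclusion le_sup_right y) y.2)
        le_rfl).ge ht
      exact ⟨_, hu⟩
    have hle : φ.range ⊔ T ≤ φ₁.range := by
      refine sup_le ?_ hTr
      rintro _ ⟨x, rfl⟩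
      have h := φ₁.range.mul_mem (φ₁.mem_range.2 ⟨Subgroup.inclusion le_sup_left x, rfl⟩)
        (φ₁.range.inv_mem (hTr (hφe x)))
      simpa [mul_inv_rev, mul_assoc] using h
    refine ⟨_, restrict_mem hχ₁ hle, ?_⟩
    rintro ⟨z, x, rfl⟩
    rw [hχe x]
    show (x : Ω)⁻¹ * χ₁ ⟨φ x, _⟩ ∈ T
    have hx₁ : φ₁ (Subgroup.inclusion le_sup_left x) ∈ φ₁.range := ⟨_, rfl⟩
    have ht : (φ x)⁻¹ * φ₁ (Subgroup.inclusion le_sup_left x) ∈ φ₁.range := hTr (hφe x)
    have he : (⟨φ x, hle (Subgroup.mem_sup_left ⟨x, rfl⟩)⟩ : φ₁.range) =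
        ⟨_, hx₁⟩ * ⟨_, ht⟩⁻¹ := Subtype.ext (by simp [mul_assoc])
    rw [he, map_mul, map_inv, hχ₁e, Subgroup.coe_inclusion, inv_mul_cancel_left]
    exact T.inv_mem (stronglyClosed_apply_mem hT hχ₁ (hφe x))

/-- The automorphisms acting trivially modulo `T`. -/
def trivModT (F : FusionSystem S) (hT : F.StronglyClosed T) {P : Subgroup Ω} (hP : P ≤ S) :
    Subgroup (F.autGroup P) where
  carrier := {β | ∀ x : P, (x : Ω)⁻¹ * ((β : MulAut P) x : Ω) ∈ T}
  one_mem' x := by simp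
  mul_mem' {a b} ha hb x := by
    have h := T.mul_mem (hb x) (ha ((b : MulAut P) x))
    simpa [mul_assoc, MulAut.mul_apply] using h
  inv_mem' {a} ha x := by
    have h := T.inv_mem (ha ((a : MulAut P)⁻¹ x))
    rw [MulAut.apply_inv_self] at h
    simpa [mul_inv_rev] using h

theorem trivModT_normal (hT : F.StronglyClosed T) (hP : P ≤ S) : (trivModT F hT hP).Normal := by
  refine ⟨fun b hb d x => ?_⟩
  let d' : MulAut P := (d : MulAut P)
  have h1 := stronglyClosed_aut_mem hT d.2 hP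
    (x := (d'⁻¹ x)⁻¹ * (b : MulAut P) (d'⁻¹ x)) (hb (d'⁻¹ x))
  rw [map_mul, map_inv, MulAut.apply_inv_self] at h1
  exact h1

theorem exists_sylow_of_normal {G : Type*} [Group G] [Finite G] {p : ℕ} [Fact p.Prime]
    (R : Sylow p G) (K : Subgroup G) [K.Normal] :
    ∃ R' : Sylow p K, (R' : Subgroup K) = (R : Subgroup G).subgroupOf K := by
  refine exists_sylow_eq R.isPGroup'.comap_subtype ?_
  obtain ⟨U⟩ : Nonempty (Sylow p K) := inferInstance
  obtain ⟨R₁, hR₁⟩ := (U.isPGroup'.map K.subtype).exists_le_sylow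
  obtain ⟨g, rfl⟩ := MulAction.exists_smul_eq G R R₁
  have hU : ∀ u : U, g⁻¹ * ((u : K) : G) * g ∈ (R : Subgroup G) := fun u => by
    have h := hR₁ ⟨u.1, u.2, rfl⟩
    rw [Sylow.coe_subgroup_smul, Subgroup.mem_pointwise_smul_iff_inv_smul_mem] at h
    simpa using h
  have hK : ∀ u : U, g⁻¹ * ((u : K) : G) * g ∈ K := fun u => by
    have := Subgroup.Normal.conj_mem (H := K) inferInstance _ u.1.2 g⁻¹
    simpa using this
  rw [← U.card_eq_multiplicity]
  refine Nat.card_le_card_of_injective (fun u => (⟨⟨_, hK u⟩, hU u⟩ :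
    (R : Subgroup G).subgroupOf K)) fun a b hab => ?_
  have h1 := congrArg (fun z : (R : Subgroup G).subgroupOf K => ((z : K) : G)) hab
  exact Subtype.ext (Subtype.ext (mul_left_cancel (mul_right_cancel h1)))

/-- Puig: every map of a saturated system extends modulo a strongly closed subgroup. -/
theorem modExtends_of_mem [Finite S] {p : ℕ} [Fact p.Prime] (hS : IsPGroup p S)
    (hF : F.IsSaturated p) (hT : F.StronglyClosed T) {φ : P →* Ω} (hφ : φ ∈ F.Hom P) :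
    ModExtends F T φ := by
  suffices h : F ≤ modExtSystem F hT from (h P hφ).2
  refine le_of_autGroup_le' hS hF _ fun P hP hbig => ?_
  have hn : F.IsFullyNormalized P := by
    rcases hP with rfl | hP
    exacts [isFullyNormalized_top F, hP.2.1]
  have hPS := hn.1
  haveI := finite_of_le hPS
  by_cases hTP : T ≤ P
  · intro β hβ
    have hle : P ⊔ T ≤ P := sup_le le_rfl hTP
    refine (mem_autGroup hPS).2 ⟨(mem_autGroup hPS).1 hβ, _,
      restrict_mem ((mem_autGroup hPS).1 hβ) hle, fun x => ?_⟩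
    show ((β x : P) : Ω)⁻¹ * ((β ⟨x, _⟩ : P) : Ω) ∈ T
    rw [inv_mul_cancel]; exact T.one_mem
  obtain ⟨hfc, -, R, hR⟩ := isFullyAutomized_and_fc_of_fn hS hF hn
  have hrec := isReceptive_of_fc hS hF hfc
  let K := trivModT F hT hPS
  haveI : K.Normal := trivModT_normal hT hPS
  obtain ⟨R', hR'⟩ := exists_sylow_of_normal R K
  let U : Subgroup (F.autGroup P) := ((R' : Subgroup K)).map K.subtype
  have hU : ∀ a, a ∈ U ↔ a ∈ K ∧ (a : MulAut P) ∈ autInducedBy S P := by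
    intro a
    constructor
    · rintro ⟨b, hb, rfl⟩
      rw [SetLike.mem_coe, hR', Subgroup.mem_subgroupOf, hR] at hb
      exact ⟨b.2, hb⟩
    · rintro ⟨h1, h2⟩
      refine ⟨⟨a, h1⟩, ?_, rfl⟩
      rw [SetLike.mem_coe, hR', Subgroup.mem_subgroupOf, hR]
      exact h2
  let A : Subgroup (F.autGroup P) :=
    ((modExtSystem F hT).autGroup P).subgroupOf (F.autGroup P)
  have hKA : K ≤ A := by
    intro κ hκ
    refine (mem_autGroup hPS).2 ⟨(mem_autGroup hPS).1 κ.2, _,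
      subtype_mem F (sup_le hPS hT.1), fun x => ?_⟩
    have := T.inv_mem (hκ x)
    simpa [mul_inv_rev] using this
  have hNA : Subgroup.normalizer (U : Set (F.autGroup P)) ≤ A := by
    intro β hβ
    obtain ⟨ψ, hψ, hψe⟩ := hrec.2 P _ ((mem_autGroup hPS).1 β.2) (by
      ext y
      exact ⟨by rintro ⟨x, rfl⟩; exact ((β : MulAut P) x).2,
        fun hy => ⟨(β : MulAut P).symm ⟨y, hy⟩, by simp⟩⟩)
    let N : Subgroup Ω := P ⊔ (T ⊓ Subgroup.normalizer (P : Set Ω))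
    have hN : N ≤ extender S P (P.subtype.comp (β : MulAut P).toMonoidHom) := by
      refine sup_le (le_extender hPS fun x => hPS ((β : MulAut P) x).2) ?_
      rintro g ⟨hgT, hgN⟩
      have hca : conjAut P hgN ∈ F.autGroup P :=
        autInducedBy_le_autGroup hPS (conjAut_mem_autInducedBy hgN (hT.1 hgT))
      have hcU : (⟨_, hca⟩ : F.autGroup P) ∈ U := by
        refine (hU _).2 ⟨fun x => ?_, conjAut_mem_autInducedBy hgN (hT.1 hgT)⟩
        show (x : Ω)⁻¹ * (g * x * g⁻¹) ∈ T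
        have := T.mul_mem (stronglyClosed_conj_mem hT (S.inv_mem (hPS x.2)) hgT) (T.inv_mem hgT)
        simpa [mul_assoc] using this
      obtain ⟨h, hh, hhv⟩ := mem_autInducedBy.1
        ((hU _).1 ((Subgroup.mem_normalizer_iff.1 hβ _).1 hcU)).2
      refine mem_extender_of (hT.1 hgT) hgN hh fun x hx => ?_
      have h3 := hhv ((β : MulAut P) x)
      simp only [Subgroup.coe_mul, Subgroup.coe_inv, MulAut.mul_apply,
        MulAut.inv_apply_self] at h3
      exact h3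
    have hlt : P < N := by
      refine lt_of_le_of_ne le_sup_left fun he => ?_
      have h1 : P < P ⊔ T := left_lt_sup.2 hTP
      haveI := finite_of_le (sup_le hPS hT.1)
      obtain ⟨g, ⟨hg, hgN⟩, hgP⟩ :=
        SetLike.exists_of_lt (lt_normalizerIn (hS.to_le (sup_le hPS hT.1)) h1)
      obtain ⟨x, hx, t, ht, rfl⟩ := exists_mul_of_mem_sup hT hPS hg
      have htN : t ∈ Subgroup.normalizer (P : Set Ω) := by
        have := Subgroup.mul_mem _ (Subgroup.inv_mem _ (Subgroup.le_normalizer hx)) hgN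
        rwa [inv_mul_cancel_left] at this
      exact hgP (P.mul_mem hx (he.ge (Subgroup.mem_sup_right ⟨ht, htN⟩)))
    have hcard : Nat.card P < Nat.card N := by
      haveI := finite_of_le (hN.trans fun g hg => (mem_extender.1 hg).1)
      refine lt_of_le_of_ne (card_le_of_le le_sup_left) fun he => hlt.ne ?_
      exact Subgroup.eq_of_le_of_card_ge le_sup_left he.ge
    obtain ⟨-, ψ₁, hψ₁, hψ₁e⟩ := hbig N hcard (restrict_mem hψ hN)
    refine (mem_autGroup hPS).2 ⟨(mem_autGroup hPS).1 β.2, _,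
      restrict_mem hψ₁ (sup_le_sup_right le_sup_left T), fun x => ?_⟩
    have h4 := hψ₁e (Subgroup.inclusion le_sup_left x)
    have h5 : ψ (Subgroup.inclusion hN (Subgroup.inclusion le_sup_left x)) =
        P.subtype.comp (β : MulAut P).toMonoidHom x := hψe x x.2 _
    simp only [MonoidHom.comp_apply] at h4
    rw [h5] at h4
    exact h4
  have htop : A = ⊤ := top_le_iff.1 ((Sylow.normalizer_sup_eq_top R').ge.trans (sup_le hNA hKA))
  exact Subgroup.subgroupOf_eq_top.1 htop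

theorem isSurjectiveMorphism_of_isFactorSystem [Finite S] {p : ℕ} [Fact p.Prime]
    (hS : IsPGroup p S) (hF : F.IsSaturated p) (hT : F.StronglyClosed T) {E : FusionSystem S'}
    (hE : F.IsFactorSystem T θ E) : F.IsSurjectiveMorphism E θ := by
  obtain ⟨-, hker, hrange, hiff⟩ := hE
  refine ⟨⟨fun s => hrange ▸ ⟨s, rfl⟩, fun P φ hφ => ?_⟩, hrange,
    fun P' hP' φ' hφ' => ((hiff P' φ').1 hφ').2⟩
  obtain ⟨ψ, hψ, hψe⟩ := modExtends_of_mem hS hF hT hφ
  have hP := hom_le hφ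
  have hpre := preimageAlong_imageAlong hT hker hP
  have hP' : imageAlong θ P ≤ S' := by
    rintro _ ⟨x, -, rfl⟩
    exact hrange ▸ ⟨x, rfl⟩
  obtain ⟨φ', hφ'⟩ := exists_induced hT hker hrange hP' (restrict_mem hψ hpre.le)
  refine ⟨φ', (hiff _ _).2 ⟨hP', _, restrict_mem hψ hpre.le, hφ'⟩,
    hP, hom_mem hφ, fun x => mem_imageAlong.2 ⟨x, hP x.2, x.2, rfl⟩, fun x => ?_⟩
  have hx : (x : Ω) ∈ preimageAlong θ (imageAlong θ P) := hpre.ge (Subgroup.mem_sup_left x.2)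
  rw [inducedAlong_apply hφ' (x := ⟨x, hx⟩) (hxS := hP x.2)
    (hx' := hom_mem (restrict_mem hψ hpre.le) _) rfl]
  refine (eq_of_inv_mul_eq_one ?_).symm
  rw [← map_inv, ← map_mul]
  exact (hker _).2 (hψe x)

end Cfsg.Lib.FusionSys
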