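import Cfsg.Agent.Lib.FusionSys.SubModel
import Cfsg.Agent.Lib.FusionSys.Factor

/-!
The decomposition of a system with a normal subgroup `Q` by the maps acting on `Q` as elements of
`S`, and the normalizer of `Q C_S(Q)`.
-/

set_option autoImplicit false
set_option linter.style.haveILetI false

universe u v w

namespace Cfsg.Lib.FusionSys

open Cfsg Cfsg.FusionSystem

variable {Ω : Type u} [Group Ω] {S : Subgroup Ω} {F E : FusionSystem S} {p : ℕ}
  {P Q T U : Subgroup Ω}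

theorem normalizerIn_eq_self (h : S ≤ Subgroup.normalizer (T : Set Ω)) : normalizerIn S T = S :=
  inf_eq_left.2 h

/-- The normalizer of a subgroup normal in `S`, as a system on `S`. -/
theorem exists_normalizerPart [Finite S] [Fact p.Prime] (hS : IsPGroup p S) (hF : F.IsSaturated p)
    (hT : T ≤ S) (hTn : S ≤ Subgroup.normalizer (T : Set Ω)) :
    ∃ E : FusionSystem S, (∀ P, E.Hom P = F.normalizerHom T P) ∧ E.IsSaturated p ∧ E ≤ F ∧
      E.IsNormal T ∧ ∀ (X : Type v) [Group X], F.IsSectionFree p X → E.IsSectionFree p X := by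
  have hNS := normalizerIn_eq_self hTn
  have hfn : F.IsFullyNormalized T :=
    ⟨hT, fun R _ => by rw [hNS]; exact card_le_of_le (normalizerIn_le R)⟩
  obtain ⟨N, hN⟩ := exists_normalizerSystem F hT
  obtain ⟨E, hE⟩ := exists_copy hNS N
  refine ⟨E, fun P => (hE P).trans (hN P), isSaturated_copy hNS.symm hE
    (isSaturated_normalizerSystem hS hF hfn hN), ?_, ?_, ?_⟩
  · intro P φ hφ
    rw [hE] at hφ
    exact subset_of_normalizerSystem hN hφ
  · obtain ⟨-, hn⟩ := isNormal_normalizerSystem hT hN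
    refine ⟨hT, fun P φ hφ => ?_⟩
    rw [hE] at hφ
    obtain ⟨ψ, hψ, h⟩ := hn P φ hφ
    exact ⟨ψ, by rw [hE]; exact hψ, h⟩
  · intro X _ hfree
    have h1 := isSectionFree_normalizerSystem hS hF hfree hfn hN
    have hcopy : ∀ {T₁ T₂ : Subgroup Ω} (_ : T₁ = T₂) (E₁ : FusionSystem T₁) (E₂ : FusionSystem T₂),
        (∀ P, E₂.Hom P = E₁.Hom P) → E₁.IsSectionFree p X → E₂.IsSectionFree p X := by
      intro T₁ T₂ h E₁ E₂ hh hf
      subst h
      rw [fusionSystem_ext hh]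
      exact hf
    exact hcopy hNS N E hE h1

theorem range_restrict_eq [Finite S] (hT : T ≤ S) {ψ : P →* Ω} (hψ : ψ ∈ F.Hom P) (hTP : T ≤ P)
    (h : ∀ (x : Ω) (hx : x ∈ T), ψ ⟨x, hTP hx⟩ ∈ T) : (T.subgroupOf P).map ψ = T := by
  haveI := finite_of_le hT
  refine Eq.trans ?_ (range_eq_of_card_le (restrict_mem hψ hTP) hT (fun x => h x x.2) le_rfl)
  ext y
  rw [mem_map_subgroupOf]
  exact ⟨fun ⟨x, _, hxU, he⟩ => ⟨⟨x, hxU⟩, he⟩, fun ⟨x, he⟩ => ⟨x, hTP x.2, x.2, he⟩⟩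

theorem le_normalizer_centralizerIn (hQn : S ≤ Subgroup.normalizer (Q : Set Ω)) :
    S ≤ Subgroup.normalizer ((centralizerIn S Q : Subgroup Ω) : Set Ω) := by
  have h : ∀ g ∈ S, ∀ x ∈ centralizerIn S Q, g * x * g⁻¹ ∈ centralizerIn S Q := by
    intro g hg x hx
    obtain ⟨hxS, hxc⟩ := mem_centralizerIn.1 hx
    refine mem_centralizerIn.2 ⟨S.mul_mem (S.mul_mem hg hxS) (S.inv_mem hg), fun q hq => ?_⟩
    have h1 := hxc (g⁻¹ * q * g) (by
      simpa using (Subgroup.mem_normalizer_iff.1 (hQn (S.inv_mem hg)) q).1 hq)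
    calc g * x * g⁻¹ * q = g * (x * (g⁻¹ * q * g)) * g⁻¹ := by group
      _ = g * (g⁻¹ * q * g * x) * g⁻¹ := by rw [h1]
      _ = q * (g * x * g⁻¹) := by group
  intro g hg
  rw [Subgroup.mem_normalizer_iff]
  refine fun x => ⟨h g hg x, fun hx => ?_⟩
  simpa [mul_assoc] using h g⁻¹ (S.inv_mem hg) _ hx

theorem le_normalizer_sup_centralizerIn (hQn : S ≤ Subgroup.normalizer (Q : Set Ω)) :
    S ≤ Subgroup.normalizer ((Q ⊔ centralizerIn S Q : Subgroup Ω) : Set Ω) :=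
  fun _ hg => normalizer_inf_le ⟨hQn hg, le_normalizer_centralizerIn hQn hg⟩

/-- The action on a normal subgroup extends to its product with its centralizer. -/
theorem exists_ext_centralizer [Finite S] [Fact p.Prime] (hS : IsPGroup p S) (hF : F.IsSaturated p)
    (hQ : F.IsNormal Q) {ψ : P →* Ω} (hψ : ψ ∈ F.Hom P) (hQP : Q ≤ P) :
    ∃ β ∈ F.Hom (P ⊔ (Q ⊔ centralizerIn S Q)),
      ((Q ⊔ centralizerIn S Q).subgroupOf (P ⊔ (Q ⊔ centralizerIn S Q))).map β =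
          Q ⊔ centralizerIn S Q ∧
        ∀ q : Q, β ⟨q, Subgroup.mem_sup_left (hQP q.2)⟩ = ψ (Subgroup.inclusion hQP q) := by
  have hsc := isNormal_stronglyClosed hQ
  have hQn := stronglyClosed_le_normalizer hsc
  have hfn := isFullyNormalized_of_isNormal hQ
  have hrec := isReceptive_of_fc hS hF (isFullyAutomized_and_fc_of_fn hS hF hfn).1
  haveI := finite_of_le hQ.1
  have hr : (ψ.comp (Subgroup.inclusion hQP)).range = Q :=
    range_eq_of_card_le (restrict_mem hψ hQP) hQ.1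
      (fun x => stronglyClosed_apply_mem hsc hψ (x := Subgroup.inclusion hQP x) x.2) le_rfl
  set T := Q ⊔ centralizerIn S Q with hTdef
  obtain ⟨β₀, hβ₀, hβ₀e⟩ := hrec.2 Q _ (restrict_mem hψ hQP) hr
  have hPT : P ⊔ T ≤ extender S Q (ψ.comp (Subgroup.inclusion hQP)) := by
    refine sup_le (fun g hg => ?_) (sup_le (le_extender hQ.1 (hom_mem (restrict_mem hψ hQP)))
      (centralizerIn_le_extender _))
    refine mem_extender_of (hom_le hψ hg) (hQn (hom_le hψ hg)) (hom_mem hψ ⟨g, hg⟩) fun x hx => ?_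
    show ψ _ = _ * ψ _ * _
    rw [← map_inv, ← map_mul, ← map_mul]
    rfl
  set β := β₀.comp (Subgroup.inclusion hPT)
  have hβ : β ∈ F.Hom (P ⊔ T) := restrict_mem hβ₀ hPT
  have hβQ : ∀ q : Q, β ⟨q, Subgroup.mem_sup_left (hQP q.2)⟩ = ψ (Subgroup.inclusion hQP q) :=
    fun q => hβ₀e q q.2 _
  refine ⟨β, hβ, range_restrict_eq (sup_le hQ.1 (centralizerIn_le Q)) hβ le_sup_right ?_, hβQ⟩
  intro x hx
  have hle : T ≤ (T.comap β).map (P ⊔ T).subtype := by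
    refine sup_le (fun q hq => ⟨⟨q, Subgroup.mem_sup_left (hQP hq)⟩, ?_, rfl⟩)
      (fun c hc => ⟨⟨c, Subgroup.mem_sup_right (Subgroup.mem_sup_right hc)⟩, ?_, rfl⟩)
    · exact Subgroup.mem_sup_left
        (stronglyClosed_apply_mem hsc hβ (x := ⟨q, Subgroup.mem_sup_left (hQP hq)⟩) hq)
    · refine Subgroup.mem_sup_right (mem_centralizerIn.2 ⟨hom_mem hβ _, fun y hy => ?_⟩)
      obtain ⟨q, rfl⟩ := hr.ge hy
      show β _ * ψ (Subgroup.inclusion hQP q) = ψ (Subgroup.inclusion hQP q) * β _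
      rw [← hβQ, ← map_mul, ← map_mul]
      exact congrArg β (Subtype.ext ((mem_centralizerIn.1 hc).2 q q.2))
  obtain ⟨z, hz, hze⟩ := hle hx
  have : z = ⟨x, Subgroup.mem_sup_right hx⟩ := Subtype.ext hze
  exact this ▸ hz

/-- The maps acting on `Q` as elements of `S`. -/
def centralPartHom (F : FusionSystem S) (Q P : Subgroup Ω) : Set (P →* Ω) :=
  {φ | φ ∈ F.Hom P ∧ ∃ s ∈ S, ∃ ψ ∈ F.Hom (P ⊔ Q),
    (∀ x : P, ψ (Subgroup.inclusion le_sup_left x) = φ x) ∧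
      ∀ q : Q, ψ (Subgroup.inclusion le_sup_right q) = s * q * s⁻¹}

theorem mem_centralPartHom_of_fix {ψ : P →* Ω} (hψ : ψ ∈ F.Hom P) (hQP : Q ≤ P)
    (h : ∀ q : Q, ψ (Subgroup.inclusion hQP q) = q) : ψ ∈ centralPartHom F Q P :=
  ⟨hψ, 1, S.one_mem, _, restrict_mem hψ (sup_le le_rfl hQP), fun _ => rfl, fun q =>
    (h q).trans (by simp)⟩

theorem map_eq_of_conj {ψ : (P ⊔ Q : Subgroup Ω) →* Ω} {s : Ω}
    (hs : s ∈ Subgroup.normalizer (Q : Set Ω))
    (h : ∀ q : Q, ψ (Subgroup.inclusion le_sup_right q) = s * q * s⁻¹) :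
    (Q.subgroupOf (P ⊔ Q)).map ψ = Q := by
  ext y
  rw [mem_map_subgroupOf]
  constructor
  · rintro ⟨x, hx, hxQ, rfl⟩
    rw [show ψ ⟨x, hx⟩ = s * x * s⁻¹ from h ⟨x, hxQ⟩]
    exact (Subgroup.mem_normalizer_iff.1 hs x).1 hxQ
  · intro hy
    have h1 : s⁻¹ * y * s ∈ Q := (Subgroup.mem_normalizer_iff''.1 hs y).1 hy
    exact ⟨_, Subgroup.mem_sup_right h1, h1, (h ⟨_, h1⟩).trans (by simp [mul_assoc])⟩

theorem exists_centralPart (F : FusionSystem S) (hQ : Q ≤ S)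
    (hQn : S ≤ Subgroup.normalizer (Q : Set Ω)) :
    ∃ E : FusionSystem S, ∀ P, E.Hom P = centralPartHom F Q P := by
  refine ⟨{
    Hom := centralPartHom F Q
    le_of_mem := fun h => F.le_of_mem h.1
    injective_of_mem := fun h => F.injective_of_mem h.1
    conj_mem := fun hP hg => ⟨F.conj_mem hP hg, _, hg, conjHom _ _, F.conj_mem (sup_le hP hQ) hg,
      fun _ => rfl, fun _ => rfl⟩
    comp_mem := ?_
    inv_mem := ?_ }, fun _ => rfl⟩
  · rintro P R φ φ' ⟨hφ, s, hs, ψ, hψ, h, hQψ⟩ ⟨hφ', s', hs', ψ', hψ', h', hQψ'⟩ hR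
    obtain ⟨χ, hχ, hχe, hχc⟩ := ext_comp hψ hψ' h h' (map_eq_of_conj (hQn hs) hQψ) hR
    refine ⟨F.comp_mem hφ hφ' hR, s' * s, S.mul_mem hs' hs, χ, hχ, hχe, fun q => ?_⟩
    have hsq : s * q * s⁻¹ ∈ Q := (Subgroup.mem_normalizer_iff.1 (hQn hs) q).1 q.2
    rw [hχc _ (Subgroup.mem_sup_right ((hQψ q).symm ▸ hsq))]
    refine (congrArg ψ' (Subtype.ext (hQψ q))).trans ((hQψ' ⟨_, hsq⟩).trans ?_)
    show s' * (s * q * s⁻¹) * s'⁻¹ = _
    group
  · rintro P φ ⟨hφ, s, hs, ψ, hψ, h, hQψ⟩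
    obtain ⟨φi, hφi, -, hi⟩ := exists_inv hφ (rfl : φ.range = φ.range)
    obtain ⟨χ, hχ, hχe, -, hinv⟩ := ext_inv hψ h (map_eq_of_conj (hQn hs) hQψ) hi
    refine ⟨φi, ⟨hφi, s⁻¹, S.inv_mem hs, χ, hχ, hχe, fun q => ?_⟩, fun x => hi x _⟩
    have hsq : s⁻¹ * q * s ∈ Q := (Subgroup.mem_normalizer_iff''.1 (hQn hs) q).1 q.2
    have he : ψ ⟨_, Subgroup.mem_sup_right hsq⟩ = (q : Ω) :=
      (hQψ ⟨_, hsq⟩).trans (by simp [mul_assoc])
    refine ((congrArg χ (Subtype.ext he.symm)).trans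
      (hinv _ (he.symm ▸ Subgroup.mem_sup_right q.2))).trans ?_
    rw [inv_inv]

theorem centralPart_le (hE : ∀ P, E.Hom P = centralPartHom F Q P) : E ≤ F := fun P φ hφ => by
  rw [hE] at hφ
  exact hφ.1

theorem isNormal_centralPart (hQ : Q ≤ S) (hQn : S ≤ Subgroup.normalizer (Q : Set Ω))
    (hE : ∀ P, E.Hom P = centralPartHom F Q P) : E.IsNormal Q := by
  refine ⟨hQ, fun P φ hφ => ?_⟩
  rw [hE] at hφ
  obtain ⟨-, s, hs, ψ, hψ, h, hq⟩ := hφ
  refine ⟨ψ, ?_, h, map_eq_of_conj (hQn hs) hq⟩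
  rw [hE]
  exact ⟨hψ, s, hs, _, restrict_mem hψ (sup_le le_rfl le_sup_right), fun _ => rfl, hq⟩

/-- Every subgroup of `Q` normal in `S` is strongly closed in the central part. -/
theorem stronglyClosed_centralPart (hE : ∀ P, E.Hom P = centralPartHom F Q P) (hU : U ≤ Q)
    (hQ : Q ≤ S) (hUn : S ≤ Subgroup.normalizer (U : Set Ω)) : E.StronglyClosed U := by
  refine ⟨hU.trans hQ, fun R hR φ hφ x => ?_⟩
  rw [hE] at hφ
  obtain ⟨-, s, hs, ψ, -, h, hq⟩ := hφ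
  rw [← h x]
  refine (congrArg (· ∈ U) (hq ⟨x, hU (hR x.2)⟩)).mpr ?_
  exact (Subgroup.mem_normalizer_iff.1 (hUn hs) x).1 (hR x.2)

theorem isSaturated_centralPart [Finite S] [Fact p.Prime] (hS : IsPGroup p S)
    (hF : F.IsSaturated p) (hQ : F.IsNormal Q) (hE : ∀ P, E.Hom P = centralPartHom F Q P) :
    E.IsSaturated p := by
  have hsc := isNormal_stronglyClosed hQ
  have hQn := stronglyClosed_le_normalizer hsc
  set K := autInducedBy S Q
  have hnK : nK S Q K = S := le_antisymm (nK_le K) fun g hg =>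
    ⟨hg, conjAut Q (hQn hg), conjAut_mem_autInducedBy _ hg, fun q => coe_conjAut Q (hQn hg) q⟩
  have hrec := isReceptive_of_fc hS hF
    (isFullyAutomized_and_fc_of_fn hS hF (isFullyNormalized_of_isNormal hQ)).1
  have hK : IsFullyKNormalized F Q K := by
    intro Q' e he N hN hNn
    obtain ⟨ψ, hψ, hψe⟩ := IsReceptive_ext hrec he (N := N ⊔ Q') (fun g hg => by
      have hle : N ⊔ Q' ≤ extender S Q' (Q.subtype.comp e.toMonoidHom) := by
        refine sup_le (fun g hg => ?_) (le_extender he.le_left fun x => hom_mem he x)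
        obtain ⟨hgS, k, hk, h⟩ := hN g hg
        obtain ⟨s, hs, hse⟩ := mem_autInducedBy.1 hk
        refine mem_extender_of hgS (hNn g hg) hs fun x hx => ?_
        exact (congrArg (fun z : Q => (z : Ω)) (h x ⟨_, hx⟩ rfl)).trans (hse (e x))
      obtain ⟨h1, h2, h, hh, h3⟩ := mem_extender.1 (hle hg)
      exact ⟨h1, h2, h, hh, fun x y hxy => by
        have h4 : y = ⟨g * (x : Ω) * g⁻¹, hxy ▸ y.2⟩ := Subtype.ext hxy
        rw [h4]
        exact h3 x _⟩)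
    exact ⟨1, K.one_mem, ψ, hψ, fun q => hψe q q.2 _⟩
  obtain ⟨E', hE'⟩ := exists_copy hnK.symm E
  refine isSaturated_copy hnK.symm (fun P => (hE' P).symm)
    (isSaturated_kNormalizer hS hF hQ.1 hK E' fun P φ => ?_)
  rw [hE', hE, hnK]
  constructor
  · rintro ⟨hφ, s, hs, ψ, hψ, h, hq⟩
    exact ⟨hφ, hom_le hφ, hom_mem hφ, conjAut Q (hQn hs), conjAut_mem_autInducedBy _ hs, ψ, hψ, h,
      fun q => (hq q).trans (coe_conjAut Q (hQn hs) q).symm⟩
  · rintro ⟨hφ, -, -, k, hk, ψ, hψ, h, hq⟩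
    obtain ⟨s, hs, hse⟩ := mem_autInducedBy.1 hk
    exact ⟨hφ, s, hs, ψ, hψ, h, fun q => (hq q).trans (hse q)⟩

theorem isCentric_of_centralPart [Finite S] [Fact p.Prime] (hS : IsPGroup p S)
    (hF : F.IsSaturated p) (hQ : F.IsNormal Q) (hE : ∀ P, E.Hom P = centralPartHom F Q P)
    (hQU : Q ≤ U) (hU : E.IsCentric U) : F.IsCentric U := by
  refine ⟨hU.1, ?_⟩
  rintro R ⟨φ, hφ, hφR⟩ c hc
  obtain ⟨η, hη, hηr, hηe⟩ := exists_inv hφ hφR
  have hsc := isNormal_stronglyClosed hQ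
  haveI := finite_of_le hQ.1
  have hQR : Q ≤ R := by
    intro q hq
    obtain ⟨x, rfl⟩ := (range_eq_of_card_le (restrict_mem hφ hQU) hQ.1
      (fun x => stronglyClosed_apply_mem hsc hφ (x := Subgroup.inclusion hQU x) x.2) le_rfl).ge hq
    exact hφR.le ⟨_, rfl⟩
  obtain ⟨β, hβ, -, hβQ⟩ := exists_ext_centralizer hS hF hQ hη hQR
  have hv : ∀ x : U, φ x ∈ R ⊔ (Q ⊔ centralizerIn S Q) := fun x =>
    Subgroup.mem_sup_left (hφR.le ⟨x, rfl⟩)
  have hcomp := F.comp_mem hφ hβ hv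
  set ρ := β.comp (φ.codRestrict _ hv)
  have hρ : ρ ∈ E.Hom U := by
    rw [hE]
    refine mem_centralPartHom_of_fix hcomp hQU fun q => ?_
    have hq : φ (Subgroup.inclusion hQU q) ∈ Q :=
      stronglyClosed_apply_mem hsc hφ (x := Subgroup.inclusion hQU q) q.2
    exact (hβQ ⟨_, hq⟩).trans (hηe _ _)
  obtain ⟨hcS, hcc⟩ := mem_centralizerIn.1 hc
  have hcT : c ∈ R ⊔ (Q ⊔ centralizerIn S Q) := Subgroup.mem_sup_right
    (Subgroup.mem_sup_right (mem_centralizerIn.2 ⟨hcS, fun q hq => hcc q (hQR hq)⟩))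
  obtain ⟨y, hy⟩ := hU.2 ρ.range ⟨ρ, hρ, rfl⟩ (mem_centralizerIn.2 ⟨hom_mem hβ ⟨c, hcT⟩, by
    rintro _ ⟨x, rfl⟩
    show β _ * β _ = β _ * β _
    rw [← map_mul, ← map_mul]
    exact congrArg β (Subtype.ext (hcc _ (hφR.le ⟨x, rfl⟩)))⟩)
  have h1 := F.injective_of_mem hβ (hy : β ⟨φ y, hv y⟩ = β ⟨c, hcT⟩)
  have h2 : φ y = c := congrArg Subtype.val h1
  rw [← h2]
  exact hφR.le ⟨y, rfl⟩

theorem isSectionFree_centralPart {X : Type w} [Group X] [Finite S] [Fact p.Prime]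
    (hS : IsPGroup p S) (hF : F.IsSaturated p) (hQ : F.IsNormal Q)
    (hE : ∀ P, E.Hom P = centralPartHom F Q P) (hfree : F.IsSectionFree p X) :
    E.IsSectionFree p X := by
  have hQn := stronglyClosed_le_normalizer (isNormal_stronglyClosed hQ)
  refine isSectionFree_of_centric hS hF (isSaturated_centralPart hS hF hQ hE) (centralPart_le hE)
    hfree fun R hc hr => isCentric_of_centralPart hS hF hQ hE ?_ hc
  exact le_of_isNormal hS (isNormal_centralPart hQ.1 hQn hE) hc hr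

/-- `F` is generated by the central part and the normalizer of `Q C_S(Q)`. -/
theorem le_of_centralPart [Finite S] [Fact p.Prime] (hS : IsPGroup p S) (hF : F.IsSaturated p)
    (hQ : F.IsNormal Q) (D : FusionSystem S) (h₁ : ∀ P, centralPartHom F Q P ⊆ D.Hom P)
    (h₂ : ∀ P, F.normalizerHom (Q ⊔ centralizerIn S Q) P ⊆ D.Hom P) : F ≤ D := by
  have hsc := isNormal_stronglyClosed hQ
  have hN := normalizerIn_eq_self
    (le_normalizer_sup_centralizerIn (stronglyClosed_le_normalizer hsc))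
  intro P φ hφ
  obtain ⟨ψ, hψ, hψe, -⟩ := hQ.2 P φ hφ
  refine hom_congr (restrict_mem (Q := P) ?_ le_sup_left) fun x => (hψe x).symm
  have hQP : Q ≤ P ⊔ Q := le_sup_right
  obtain ⟨β, hβ, hβT, hβQ⟩ := exists_ext_centralizer hS hF hQ hψ hQP
  set β₀ := β.comp (Subgroup.inclusion (le_sup_left : P ⊔ Q ≤ _)) with hβ₀def
  have hβ₀ : β₀ ∈ F.Hom (P ⊔ Q) := restrict_mem hβ le_sup_left
  have hβ₀D : β₀ ∈ D.Hom (P ⊔ Q) := by
    refine h₂ _ ⟨hβ₀, ?_, fun x => ?_, β, hβ, fun x => rfl, hβT⟩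
    · rw [hN]; exact hom_le hψ
    · rw [hN]; exact hom_mem hβ₀ x
  obtain ⟨η, hη, hηr, hηe⟩ := exists_inv hβ₀ (rfl : β₀.range = β₀.range)
  have hηv : ∀ y, η y ∈ P ⊔ Q := fun y => hηr.le ⟨y, rfl⟩
  have hγ := F.comp_mem hη hψ hηv
  have hQR : Q ≤ β₀.range := by
    haveI := finite_of_le hQ.1
    intro q hq
    obtain ⟨x, rfl⟩ := (range_eq_of_card_le (restrict_mem hβ₀ hQP) hQ.1
      (fun x => stronglyClosed_apply_mem hsc hβ₀ (x := Subgroup.inclusion hQP x) x.2) le_rfl).ge hq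
    exact ⟨_, rfl⟩
  have hγD := h₁ _ (mem_centralPartHom_of_fix hγ hQR fun q => by
    obtain ⟨x, hx⟩ := hQR q.2
    have hxQ : (x : Ω) ∈ Q :=
      (apply_mem_stronglyClosed_iff hsc hβ₀ hQP).1 (hx ▸ q.2)
    show ψ ⟨η _, _⟩ = _
    have h1 : (⟨η ⟨q, hQR q.2⟩, hηv _⟩ : (P ⊔ Q : Subgroup Ω)) = x := Subtype.ext (by
      refine Eq.trans ?_ (hηe x ⟨x, rfl⟩)
      exact congrArg η (Subtype.ext hx.symm))
    refine (congrArg ψ h1).trans (Eq.trans ?_ hx)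
    exact (hβQ ⟨x, hxQ⟩).symm)
  refine hom_congr (D.comp_mem hβ₀D hγD fun x => ⟨x, rfl⟩) fun x => ?_
  show ψ x = ψ ⟨η _, _⟩
  exact congrArg ψ (Subtype.ext (hηe x ⟨x, rfl⟩).symm)

end Cfsg.Lib.FusionSys
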