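import Cfsg.Agent.Lib.FusionSys.Criterion
import Cfsg.Prelude.Def_FusionComponents

/-!
Direct products of fusion systems.
-/

set_option autoImplicit false

namespace Cfsg.Lib.FusionSys

open Cfsg Cfsg.FusionSystem

variable {Ω₁ Ω₂ : Type*} [Group Ω₁] [Group Ω₂] {S₁ : Subgroup Ω₁} {S₂ : Subgroup Ω₂}
variable {F₁ : FusionSystem S₁} {F₂ : FusionSystem S₂} {P Q : Subgroup (Ω₁ × Ω₂)}

/-- The first projection of a subgroup of a product. -/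
abbrev proj₁ (P : Subgroup (Ω₁ × Ω₂)) : Subgroup Ω₁ := P.map (MonoidHom.fst Ω₁ Ω₂)

/-- The second projection of a subgroup of a product. -/
abbrev proj₂ (P : Subgroup (Ω₁ × Ω₂)) : Subgroup Ω₂ := P.map (MonoidHom.snd Ω₁ Ω₂)

theorem fst_mem_proj (x : P) : (x : Ω₁ × Ω₂).1 ∈ proj₁ P := ⟨x, x.2, rfl⟩

theorem snd_mem_proj (x : P) : (x : Ω₁ × Ω₂).2 ∈ proj₂ P := ⟨x, x.2, rfl⟩

/-- `φ` is the restriction of the product of `φ₁` and `φ₂`. -/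
def IsProdHom (φ : P →* Ω₁ × Ω₂) (φ₁ : proj₁ P →* Ω₁) (φ₂ : proj₂ P →* Ω₂) : Prop :=
  ∀ (x : P) (h₁ : (x : Ω₁ × Ω₂).1 ∈ proj₁ P) (h₂ : (x : Ω₁ × Ω₂).2 ∈ proj₂ P),
    φ x = (φ₁ ⟨(x : Ω₁ × Ω₂).1, h₁⟩, φ₂ ⟨(x : Ω₁ × Ω₂).2, h₂⟩)

/-- The product of two maps, as a map on a subgroup. -/
def prodHom (P : Subgroup (Ω₁ × Ω₂)) (φ₁ : proj₁ P →* Ω₁) (φ₂ : proj₂ P →* Ω₂) :
    P →* Ω₁ × Ω₂ :=
  MonoidHom.prod (φ₁.comp ((MonoidHom.fst Ω₁ Ω₂).subgroupMap P))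
    (φ₂.comp ((MonoidHom.snd Ω₁ Ω₂).subgroupMap P))

theorem isProdHom_prodHom (P : Subgroup (Ω₁ × Ω₂)) (φ₁ : proj₁ P →* Ω₁) (φ₂ : proj₂ P →* Ω₂) :
    IsProdHom (prodHom P φ₁ φ₂) φ₁ φ₂ := fun _ _ _ => rfl

/-- The maps of the product system. -/
def productHom (F₁ : FusionSystem S₁) (F₂ : FusionSystem S₂) (P : Subgroup (Ω₁ × Ω₂)) :
    Set (P →* Ω₁ × Ω₂) :=
  {φ | P ≤ S₁.prod S₂ ∧ ∃ φ₁ ∈ F₁.Hom (proj₁ P), ∃ φ₂ ∈ F₂.Hom (proj₂ P), IsProdHom φ φ₁ φ₂}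

theorem exists_productSystem (F₁ : FusionSystem S₁) (F₂ : FusionSystem S₂) :
    ∃ E : FusionSystem (S₁.prod S₂), IsProductSystem F₁ F₂ E := by
  refine ⟨⟨productHom F₁ F₂, ?_, ?_, ?_, ?_, ?_⟩, fun P φ => Iff.rfl⟩
  · rintro P φ ⟨hP, φ₁, h1, φ₂, h2, he⟩
    refine ⟨hP, fun x => ?_⟩
    rw [he x (fst_mem_proj x) (snd_mem_proj x)]
    exact ⟨hom_mem h1 _, hom_mem h2 _⟩
  · rintro P φ ⟨hP, φ₁, h1, φ₂, h2, he⟩ x y hxy
    rw [he x (fst_mem_proj x) (snd_mem_proj x), he y (fst_mem_proj y) (snd_mem_proj y),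
      Prod.mk.injEq] at hxy
    exact Subtype.ext (Prod.ext (congrArg Subtype.val (F₁.injective_of_mem h1 hxy.1))
      (congrArg Subtype.val (F₂.injective_of_mem h2 hxy.2)))
  · intro P g hP hg
    refine ⟨hP, _, F₁.conj_mem ?_ hg.1, _, F₂.conj_mem ?_ hg.2, fun x _ _ => rfl⟩
    · rintro _ ⟨x, hx, rfl⟩; exact (hP hx).1
    · rintro _ ⟨x, hx, rfl⟩; exact (hP hx).2
  · rintro P Q φ ψ ⟨hP, φ₁, h1, φ₂, h2, he⟩ ⟨hQ, ψ₁, k1, ψ₂, k2, ke⟩ hv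
    have v1 : ∀ a : proj₁ P, φ₁ a ∈ proj₁ Q := by
      rintro ⟨_, x, hx, rfl⟩
      have h := fst_mem_proj (P := Q) ⟨_, hv ⟨x, hx⟩⟩
      simp only [he ⟨x, hx⟩ (fst_mem_proj _) (snd_mem_proj _)] at h
      exact h
    have v2 : ∀ a : proj₂ P, φ₂ a ∈ proj₂ Q := by
      rintro ⟨_, x, hx, rfl⟩
      have h := snd_mem_proj (P := Q) ⟨_, hv ⟨x, hx⟩⟩
      simp only [he ⟨x, hx⟩ (fst_mem_proj _) (snd_mem_proj _)] at h
      exact h
    refine ⟨hP, _, F₁.comp_mem h1 k1 v1, _, F₂.comp_mem h2 k2 v2, fun x a b => ?_⟩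
    refine (ke ⟨φ x, hv x⟩ (fst_mem_proj (P := Q) ⟨_, hv x⟩)
      (snd_mem_proj (P := Q) ⟨_, hv x⟩)).trans ?_
    refine Prod.ext (congrArg ψ₁ (Subtype.ext ?_)) (congrArg ψ₂ (Subtype.ext ?_)) <;>
      simp [he x a b]
  · rintro P φ ⟨hP, φ₁, h1, φ₂, h2, he⟩
    obtain ⟨χ₁, k1, e1⟩ := F₁.inv_mem h1
    obtain ⟨χ₂, k2, e2⟩ := F₂.inv_mem h2
    have r1 : proj₁ φ.range ≤ φ₁.range := by
      rintro _ ⟨_, ⟨x, rfl⟩, rfl⟩
      rw [he x (fst_mem_proj x) (snd_mem_proj x)]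
      exact ⟨_, rfl⟩
    have r2 : proj₂ φ.range ≤ φ₂.range := by
      rintro _ ⟨_, ⟨x, rfl⟩, rfl⟩
      rw [he x (fst_mem_proj x) (snd_mem_proj x)]
      exact ⟨_, rfl⟩
    have hr : φ.range ≤ S₁.prod S₂ := by
      rintro _ ⟨x, rfl⟩
      rw [he x (fst_mem_proj x) (snd_mem_proj x)]
      exact ⟨hom_mem h1 _, hom_mem h2 _⟩
    refine ⟨prodHom φ.range _ _, ⟨hr, _, restrict_mem k1 r1, _, restrict_mem k2 r2,
      isProdHom_prodHom _ _ _⟩, fun x => ?_⟩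
    rw [isProdHom_prodHom φ.range _ _ ⟨φ x, x, rfl⟩ (fst_mem_proj _) (snd_mem_proj _)]
    refine Prod.ext ?_ ?_
    · exact (congrArg χ₁ (Subtype.ext
        (congrArg Prod.fst (he x (fst_mem_proj x) (snd_mem_proj x))))).trans (e1 ⟨_, fst_mem_proj x⟩)
    · exact (congrArg χ₂ (Subtype.ext
        (congrArg Prod.snd (he x (fst_mem_proj x) (snd_mem_proj x))))).trans (e2 ⟨_, snd_mem_proj x⟩)

variable {E : FusionSystem (S₁.prod S₂)}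

theorem card_centralizerIn_prod (P : Subgroup (Ω₁ × Ω₂)) :
    Nat.card (centralizerIn (S₁.prod S₂) P) =
      Nat.card (centralizerIn S₁ (proj₁ P)) * Nat.card (centralizerIn S₂ (proj₂ P)) := by
  rw [← Nat.card_prod]
  refine Nat.card_congr
    { toFun := fun x => (⟨(x : Ω₁ × Ω₂).1, ?_⟩, ⟨(x : Ω₁ × Ω₂).2, ?_⟩)
      invFun := fun z => ⟨((z.1 : Ω₁), (z.2 : Ω₂)), ?_⟩
      left_inv := fun x => rfl
      right_inv := fun z => rfl }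
  · refine mem_centralizerIn.2 ⟨x.2.1.1, ?_⟩
    rintro _ ⟨y, hy, rfl⟩
    exact congrArg Prod.fst ((mem_centralizerIn.1 x.2).2 y hy)
  · refine mem_centralizerIn.2 ⟨x.2.1.2, ?_⟩
    rintro _ ⟨y, hy, rfl⟩
    exact congrArg Prod.snd ((mem_centralizerIn.1 x.2).2 y hy)
  · refine mem_centralizerIn.2 ⟨⟨z.1.2.1, z.2.2.1⟩, fun y hy => Prod.ext ?_ ?_⟩
    · exact (mem_centralizerIn.1 z.1.2).2 _ ⟨y, hy, rfl⟩
    · exact (mem_centralizerIn.1 z.2.2).2 _ ⟨y, hy, rfl⟩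

theorem isFullyAutomized_product_top [Finite S₁] [Finite S₂] {p : ℕ} [Fact p.Prime]
    (h₁ : IsPGroup p S₁) (h₂ : IsPGroup p S₂) (hF₁ : F₁.IsSaturated p) (hF₂ : F₂.IsSaturated p)
    (hE : IsProductSystem F₁ F₂ E) : E.IsFullyAutomized p (S₁.prod S₂) := by
  classical
  obtain ⟨-, R₁, hR₁⟩ := (isFullyAutomized_and_fc_of_fn h₁ hF₁ (isFullyNormalized_top F₁)).2
  obtain ⟨-, R₂, hR₂⟩ := (isFullyAutomized_and_fc_of_fn h₂ hF₂ (isFullyNormalized_top F₂)).2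
  have hp1 : proj₁ (S₁.prod S₂) = S₁ := by
    ext a
    exact ⟨by rintro ⟨x, hx, rfl⟩; exact hx.1, fun ha => ⟨(a, 1), ⟨ha, S₂.one_mem⟩, rfl⟩⟩
  have hp2 : proj₂ (S₁.prod S₂) = S₂ := by
    ext a
    exact ⟨by rintro ⟨x, hx, rfl⟩; exact hx.2, fun ha => ⟨(1, a), ⟨S₁.one_mem, ha⟩, rfl⟩⟩
  let e : ↥(S₁.prod S₂) ≃* S₁ × S₂ := Subgroup.prodEquiv S₁ S₂
  let f : F₁.autGroup S₁ × F₂.autGroup S₂ →* MulAut ↥(S₁.prod S₂) :=
    MonoidHom.mk' (fun ab => (e.trans (MulEquiv.prodCongr (ab.1 : MulAut S₁) (ab.2 : MulAut S₂))).trans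
      e.symm) fun ab cd => by
      apply MulEquiv.ext
      intro x
      simp [MulAut.mul_apply]
      rfl
  have hmem : ∀ ab, f ab ∈ E.autGroup (S₁.prod S₂) := by
    rintro ⟨⟨a, ha⟩, ⟨b, hb⟩⟩
    refine (mem_autGroup le_rfl).2 ((hE _ _).2 ⟨le_rfl,
      _, restrict_mem ((mem_autGroup le_rfl).1 ha) hp1.le,
      _, restrict_mem ((mem_autGroup le_rfl).1 hb) hp2.le, fun x _ _ => rfl⟩)
  let Φ : F₁.autGroup S₁ × F₂.autGroup S₂ →* E.autGroup (S₁.prod S₂) :=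
    f.codRestrict _ hmem
  have hsurj : Function.Surjective Φ := by
    rintro ⟨γ, hγ⟩
    obtain ⟨-, φ₁, k1, φ₂, k2, ke⟩ := (hE _ _).1 ((mem_autGroup le_rfl).1 hγ)
    have r1 := range_eq_of_card_le (restrict_mem k1 hp1.ge) le_rfl
      (hom_mem (restrict_mem k1 hp1.ge)) le_rfl
    have r2 := range_eq_of_card_le (restrict_mem k2 hp2.ge) le_rfl
      (hom_mem (restrict_mem k2 hp2.ge)) le_rfl
    have m1 := restrict_mem k1 hp1.ge
    have m2 := restrict_mem k2 hp2.ge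
    refine ⟨(⟨homIso m1 r1, (mem_autGroup le_rfl).2 (isoIn_homIso m1 r1)⟩,
      ⟨homIso m2 r2, (mem_autGroup le_rfl).2 (isoIn_homIso m2 r2)⟩), ?_⟩
    refine Subtype.ext (MulEquiv.ext fun x => Subtype.ext ?_)
    refine Eq.trans ?_ (ke x (fst_mem_proj x) (snd_mem_proj x)).symm
    rfl
  haveI : Finite (S₁ × S₂) := inferInstance
  haveI : Finite ↥(S₁.prod S₂) := Finite.of_equiv _ e.symm.toEquiv
  have hR : IsPGroup p ((R₁ : Subgroup (F₁.autGroup S₁)).prod (R₂ : Subgroup (F₂.autGroup S₂))) := by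
    rintro ⟨⟨a, b⟩, ha, hb⟩
    obtain ⟨i, hi⟩ := R₁.isPGroup' ⟨a, ha⟩
    obtain ⟨j, hj⟩ := R₂.isPGroup' ⟨b, hb⟩
    refine ⟨i + j, Subtype.ext (Prod.ext ?_ ?_)⟩
    · have hi' : a ^ p ^ i = 1 := congrArg Subtype.val hi
      simp [pow_add, pow_mul, hi']
    · have hj' : b ^ p ^ j = 1 := congrArg Subtype.val hj
      simp [pow_add, mul_comm (p ^ i), pow_mul, hj']
  obtain ⟨R, hR'⟩ := exists_sylow_eq (p := p) hR (by
    rw [Nat.card_prod, Nat.card_congr (Subgroup.prodEquiv _ _).toEquiv, Nat.card_prod,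
      R₁.card_eq_multiplicity, R₂.card_eq_multiplicity,
      Nat.factorization_mul Nat.card_pos.ne' Nat.card_pos.ne', Finsupp.add_apply, pow_add])
  refine ⟨le_rfl, R.mapSurjective hsurj, ?_⟩
  rw [Sylow.coe_mapSurjective, hR', ]
  apply le_antisymm
  · rintro _ ⟨⟨⟨a, ha⟩, ⟨b, hb⟩⟩, ⟨haR, hbR⟩, rfl⟩
    rw [hR₁] at haR
    rw [hR₂] at hbR
    obtain ⟨g, hg, hge⟩ := mem_autInducedBy.1 haR
    obtain ⟨h, hh, hhe⟩ := mem_autInducedBy.1 hbR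
    exact mem_autInducedBy.2 ⟨(g, h), ⟨hg, hh⟩, fun x => Prod.ext (hge ⟨_, x.2.1⟩) (hhe ⟨_, x.2.2⟩)⟩
  · rintro ⟨γ, hγ⟩ hγS
    obtain ⟨g, hg, hge⟩ := mem_autInducedBy.1 hγS
    have c1 := conjAut_mem_autInducedBy (K := S₁) (Subgroup.le_normalizer hg.1) hg.1
    have c2 := conjAut_mem_autInducedBy (K := S₂) (Subgroup.le_normalizer hg.2) hg.2
    refine ⟨(⟨_, autInducedBy_le_autGroup le_rfl c1⟩, ⟨_, autInducedBy_le_autGroup le_rfl c2⟩),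
      ⟨?_, ?_⟩, ?_⟩
    · rw [hR₁]; exact c1
    · rw [hR₂]; exact c2
    · exact Subtype.ext (MulEquiv.ext fun x => Subtype.ext (hge x).symm)

theorem isReceptive_product (hE : IsProductSystem F₁ F₂ E) (hQ : Q ≤ S₁.prod S₂)
    (h1 : F₁.IsReceptive (proj₁ Q)) (h2 : F₂.IsReceptive (proj₂ Q)) : E.IsReceptive Q := by
  refine ⟨hQ, fun P φ hφ hr => ?_⟩
  obtain ⟨hP, φ₁, k1, φ₂, k2, ke⟩ := (hE _ _).1 hφ
  have r1 : φ₁.range = proj₁ Q := by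
    subst hr
    ext a
    constructor
    · rintro ⟨⟨_, x, hx, rfl⟩, rfl⟩
      exact ⟨φ ⟨x, hx⟩, ⟨_, rfl⟩, congrArg Prod.fst (ke ⟨x, hx⟩ (fst_mem_proj _) (snd_mem_proj _))⟩
    · rintro ⟨_, ⟨x, rfl⟩, rfl⟩
      exact ⟨⟨_, fst_mem_proj x⟩, (congrArg Prod.fst (ke x (fst_mem_proj _) (snd_mem_proj _))).symm⟩
  have r2 : φ₂.range = proj₂ Q := by
    subst hr
    ext a
    constructor
    · rintro ⟨⟨_, x, hx, rfl⟩, rfl⟩
      exact ⟨φ ⟨x, hx⟩, ⟨_, rfl⟩, congrArg Prod.snd (ke ⟨x, hx⟩ (fst_mem_proj _) (snd_mem_proj _))⟩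
    · rintro ⟨_, ⟨x, rfl⟩, rfl⟩
      exact ⟨⟨_, snd_mem_proj x⟩, (congrArg Prod.snd (ke x (fst_mem_proj _) (snd_mem_proj _))).symm⟩
  obtain ⟨χ₁, l1, le1⟩ := h1.2 _ _ k1 r1
  obtain ⟨χ₂, l2, le2⟩ := h2.2 _ _ k2 r2
  let N := extender (S₁.prod S₂) P φ
  have hN : ∀ g ∈ N, g.1 ∈ extender S₁ (proj₁ P) φ₁ ∧ g.2 ∈ extender S₂ (proj₂ P) φ₂ := by
    intro g hg
    obtain ⟨hgS, hgN, h, hh, hc⟩ := mem_extender.1 hg
    have hfix : ∀ x, x ∈ P ↔ g * x * g⁻¹ ∈ P := Subgroup.mem_normalizer_iff.1 hgN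
    constructor
    · refine mem_extender_of hgS.1 ?_ hh.1 ?_
      · rw [Subgroup.mem_normalizer_iff]
        intro a
        constructor
        · rintro ⟨x, hx, rfl⟩
          exact ⟨g * x * g⁻¹, (hfix x).1 hx, rfl⟩
        · rintro ⟨x, hx, hxe⟩
          refine ⟨g⁻¹ * x * g, (hfix _).2 (by simpa [mul_assoc] using hx), ?_⟩
          simp [map_mul, hxe, mul_assoc]
      · rintro ⟨_, x, hx, rfl⟩ _
        have h1 := hc ⟨x, hx⟩ ((hfix x).1 hx)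
        rw [ke _ (fst_mem_proj _) (snd_mem_proj _), ke ⟨x, hx⟩ (fst_mem_proj _) (snd_mem_proj _)] at h1
        exact congrArg Prod.fst h1
    · refine mem_extender_of hgS.2 ?_ hh.2 ?_
      · rw [Subgroup.mem_normalizer_iff]
        intro a
        constructor
        · rintro ⟨x, hx, rfl⟩
          exact ⟨g * x * g⁻¹, (hfix x).1 hx, rfl⟩
        · rintro ⟨x, hx, hxe⟩
          refine ⟨g⁻¹ * x * g, (hfix _).2 (by simpa [mul_assoc] using hx), ?_⟩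
          simp [map_mul, hxe, mul_assoc]
      · rintro ⟨_, x, hx, rfl⟩ _
        have h1 := hc ⟨x, hx⟩ ((hfix x).1 hx)
        rw [ke _ (fst_mem_proj _) (snd_mem_proj _), ke ⟨x, hx⟩ (fst_mem_proj _) (snd_mem_proj _)] at h1
        exact congrArg Prod.snd h1
  have e1 : proj₁ N ≤ extender S₁ (proj₁ P) φ₁ := by rintro _ ⟨g, hg, rfl⟩; exact (hN g hg).1
  have e2 : proj₂ N ≤ extender S₂ (proj₂ P) φ₂ := by rintro _ ⟨g, hg, rfl⟩; exact (hN g hg).2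
  refine ⟨prodHom N _ _, (hE _ _).2 ⟨fun g hg => (mem_extender.1 hg).1, _, restrict_mem l1 e1,
    _, restrict_mem l2 e2, isProdHom_prodHom _ _ _⟩, fun x hxP hxN => ?_⟩
  rw [ke ⟨x, hxP⟩ (fst_mem_proj _) (snd_mem_proj _)]
  exact Prod.ext (le1 _ _ _) (le2 _ _ _)

theorem isSaturated_product [Finite S₁] [Finite S₂] {p : ℕ} [Fact p.Prime]
    (h₁ : IsPGroup p S₁) (h₂ : IsPGroup p S₂) (hF₁ : F₁.IsSaturated p) (hF₂ : F₂.IsSaturated p)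
    (hE : IsProductSystem F₁ F₂ E) : E.IsSaturated p := by
  haveI : Finite ↥(S₁.prod S₂) := Finite.of_equiv _ (Subgroup.prodEquiv S₁ S₂).symm.toEquiv
  have hS : IsPGroup p ↥(S₁.prod S₂) := by
    rintro ⟨⟨a, b⟩, ha, hb⟩
    obtain ⟨i, hi⟩ := h₁ ⟨a, ha⟩
    obtain ⟨j, hj⟩ := h₂ ⟨b, hb⟩
    refine ⟨i + j, Subtype.ext (Prod.ext ?_ ?_)⟩
    · have hi' : a ^ p ^ i = 1 := congrArg Subtype.val hi
      simp [pow_add, pow_mul, hi']
    · have hj' : b ^ p ^ j = 1 := congrArg Subtype.val hj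
      simp [pow_add, mul_comm (p ^ i), pow_mul, hj']
  refine isSaturated_of_receptive hS (isFullyAutomized_product_top h₁ h₂ hF₁ hF₂ hE) fun P hP => ?_
  have hPS := hP.1
  have p1 : proj₁ P ≤ S₁ := by rintro _ ⟨x, hx, rfl⟩; exact (hPS hx).1
  have p2 : proj₂ P ≤ S₂ := by rintro _ ⟨x, hx, rfl⟩; exact (hPS hx).2
  obtain ⟨Q₁, c1, -, rec1, χ₁, k1, v1, m1⟩ := exists_fa_receptive_map h₁ hF₁ p1
  obtain ⟨Q₂, c2, -, rec2, χ₂, k2, v2, m2⟩ := exists_fa_receptive_map h₂ hF₂ p2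
  let N := normalizerIn (S₁.prod S₂) P
  have n1 : proj₁ N ≤ normalizerIn S₁ (proj₁ P) := by
    rintro _ ⟨g, hg, rfl⟩
    refine ⟨hg.1.1, ?_⟩
    show g.1 ∈ Subgroup.normalizer (proj₁ P : Set Ω₁)
    rw [Subgroup.mem_normalizer_iff]
    intro a
    constructor
    · rintro ⟨x, hx, rfl⟩
      exact ⟨g * x * g⁻¹, (Subgroup.mem_normalizer_iff.1 hg.2 x).1 hx, rfl⟩
    · rintro ⟨x, hx, hxe⟩
      refine ⟨g⁻¹ * x * g, (Subgroup.mem_normalizer_iff.1 hg.2 _).2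
        (by simpa [mul_assoc] using hx), ?_⟩
      simp [map_mul, hxe, mul_assoc]
  have n2 : proj₂ N ≤ normalizerIn S₂ (proj₂ P) := by
    rintro _ ⟨g, hg, rfl⟩
    refine ⟨hg.1.2, ?_⟩
    show g.2 ∈ Subgroup.normalizer (proj₂ P : Set Ω₂)
    rw [Subgroup.mem_normalizer_iff]
    intro a
    constructor
    · rintro ⟨x, hx, rfl⟩
      exact ⟨g * x * g⁻¹, (Subgroup.mem_normalizer_iff.1 hg.2 x).1 hx, rfl⟩
    · rintro ⟨x, hx, hxe⟩
      refine ⟨g⁻¹ * x * g, (Subgroup.mem_normalizer_iff.1 hg.2 _).2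
        (by simpa [mul_assoc] using hx), ?_⟩
      simp [map_mul, hxe, mul_assoc]
  let χ := prodHom N (χ₁.comp (Subgroup.inclusion n1)) (χ₂.comp (Subgroup.inclusion n2))
  have hχ : χ ∈ E.Hom N := (hE _ _).2 ⟨normalizerIn_le P, _, restrict_mem k1 n1, _,
    restrict_mem k2 n2, isProdHom_prodHom _ _ _⟩
  have hPN : P ≤ N := le_normalizerIn hPS
  have hQ : E.IsConj P ((χ.comp (Subgroup.inclusion hPN)).range) :=
    ⟨_, restrict_mem hχ hPN, rfl⟩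
  set Q := (χ.comp (Subgroup.inclusion hPN)).range with hQdef
  have q1 : proj₁ Q = Q₁ := by
    rw [← m1]
    ext a
    rw [mem_map_subgroupOf]
    constructor
    · rintro ⟨_, ⟨x, rfl⟩, rfl⟩
      exact ⟨_, n1 (fst_mem_proj (P := N) (Subgroup.inclusion hPN x)), fst_mem_proj x, rfl⟩
    · rintro ⟨a, ha, ⟨x, hx, rfl⟩, rfl⟩
      exact ⟨_, ⟨⟨x, hx⟩, rfl⟩, rfl⟩
  have q2 : proj₂ Q = Q₂ := by
    rw [← m2]
    ext a
    rw [mem_map_subgroupOf]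
    constructor
    · rintro ⟨_, ⟨x, rfl⟩, rfl⟩
      exact ⟨_, n2 (snd_mem_proj (P := N) (Subgroup.inclusion hPN x)), snd_mem_proj x, rfl⟩
    · rintro ⟨a, ha, ⟨x, hx, rfl⟩, rfl⟩
      exact ⟨_, ⟨⟨x, hx⟩, rfl⟩, rfl⟩
  have hmap : (P.subgroupOf N).map χ = Q := by
    ext y
    rw [mem_map_subgroupOf]
    constructor
    · rintro ⟨x, hx, hxP, rfl⟩; exact ⟨⟨x, hxP⟩, rfl⟩
    · rintro ⟨x, rfl⟩; exact ⟨x, hPN x.2, x.2, rfl⟩
  have hv : ∀ y, χ y ∈ normalizerIn (S₁.prod S₂) Q := fun y => by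
    refine ⟨hom_mem hχ y, ?_⟩
    rw [← hmap]
    exact map_mem_normalizer χ y y.2.2
  have hrange := range_eq_normalizerIn hP hQ hχ hv
  haveI := finite_of_le (centralizerIn_le (S := S₁.prod S₂) P)
  -- centralizers correspond
  have hle : Nat.card (centralizerIn (S₁.prod S₂) Q) ≤ Nat.card (centralizerIn (S₁.prod S₂) P) := by
    have hsub : ∀ c : centralizerIn (S₁.prod S₂) Q, ∃ n : N, χ n = c := fun c =>
      hrange.ge (centralizerIn_le_normalizerIn Q c.2)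
    choose f hf using hsub
    have hfc : ∀ c, (f c : Ω₁ × Ω₂) ∈ centralizerIn (S₁.prod S₂) P := by
      intro c
      refine mem_centralizerIn.2 ⟨(f c).2.1, fun x hx => ?_⟩
      have h1 := (mem_centralizerIn.1 c.2).2 (χ ⟨x, hPN hx⟩) ⟨⟨x, hx⟩, rfl⟩
      rw [← hf, ← map_mul, ← map_mul] at h1
      exact congrArg Subtype.val ((E.injective_of_mem hχ) h1)
    refine Nat.card_le_card_of_injective (fun c => (⟨f c, hfc c⟩ : centralizerIn (S₁.prod S₂) P)) ?_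
    intro c d hcd
    have h1 : f c = f d := Subtype.ext (congrArg (fun z : centralizerIn (S₁.prod S₂) P => (z : Ω₁ × Ω₂)) hcd)
    exact Subtype.ext (by rw [← hf c, h1, hf d])
  rw [card_centralizerIn_prod, card_centralizerIn_prod, q1, q2] at hle
  have f1 := isFullyCentralized_of_receptive rec1
  have f2 := isFullyCentralized_of_receptive rec2
  have le1 := f1.2 _ (isConj_symm c1)
  have le2 := f2.2 _ (isConj_symm c2)
  haveI := finite_of_le (centralizerIn_le (S := S₁) (proj₁ P))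
  haveI := finite_of_le (centralizerIn_le (S := S₂) (proj₂ P))
  haveI := finite_of_le (centralizerIn_le (S := S₁) Q₁)
  haveI := finite_of_le (centralizerIn_le (S := S₂) Q₂)
  have g1 : F₁.IsFullyCentralized (proj₁ P) := by
    refine ⟨p1, fun R hR => le_trans (f1.2 R (isConj_trans (isConj_symm c1) hR)) ?_⟩
    have h3 : Nat.card (centralizerIn S₁ Q₁) * Nat.card (centralizerIn S₂ (proj₂ P)) ≤
        Nat.card (centralizerIn S₁ (proj₁ P)) * Nat.card (centralizerIn S₂ (proj₂ P)) :=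
      le_trans (Nat.mul_le_mul_left _ le2) hle
    exact Nat.le_of_mul_le_mul_right h3 Nat.card_pos
  have g2 : F₂.IsFullyCentralized (proj₂ P) := by
    refine ⟨p2, fun R hR => le_trans (f2.2 R (isConj_trans (isConj_symm c2) hR)) ?_⟩
    have h3 : Nat.card (centralizerIn S₁ (proj₁ P)) * Nat.card (centralizerIn S₂ Q₂) ≤
        Nat.card (centralizerIn S₁ (proj₁ P)) * Nat.card (centralizerIn S₂ (proj₂ P)) :=
      le_trans (Nat.mul_le_mul_right _ le1) hle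
    exact Nat.le_of_mul_le_mul_left h3 Nat.card_pos
  exact isReceptive_product hE hPS (isReceptive_of_fc h₁ hF₁ g1) (isReceptive_of_fc h₂ hF₂ g2)

end Cfsg.Lib.FusionSys
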