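import Cfsg.Agent.Lib.FusionSys.Factor

/-!
# Products with a strongly closed subgroup
-/

set_option autoImplicit false

namespace Cfsg.Lib.FusionSys

open Cfsg Cfsg.FusionSystem

variable {Ω : Type*} [Group Ω] {S : Subgroup Ω} {F : FusionSystem S}

theorem stronglyClosed_sup_of [Finite S] {p : ℕ} [Fact p.Prime] (hS : IsPGroup p S)
    (hF : F.IsSaturated p) {T Y : Subgroup Ω} (hT : F.StronglyClosed T) (hY : Y ≤ S)
    (h : ∀ (R : Subgroup Ω), T ≤ R → ∀ ψ ∈ F.Hom R, ∀ y : R, (y : Ω) ∈ Y → ψ y ∈ T ⊔ Y) :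
    F.StronglyClosed (T ⊔ Y) := by
  refine ⟨sup_le hT.1 hY, fun R hR φ hφ x => ?_⟩
  obtain ⟨ψ, hψ, hψe⟩ := modExtends_of_mem hS hF hT hφ
  obtain ⟨y, hy, t, ht, hxy⟩ :=
    exists_mul_of_mem_sup hT hY (show (x : Ω) ∈ Y ⊔ T from sup_comm T Y ▸ hR x.2)
  have hyR : y ∈ R ⊔ T := by
    rw [show y = (x : Ω) * t⁻¹ by rw [hxy, mul_inv_cancel_right]]
    exact mul_mem (Subgroup.mem_sup_left x.2) (Subgroup.mem_sup_right (T.inv_mem ht))
  have h1 : Subgroup.inclusion le_sup_left x =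
      (⟨y, hyR⟩ : (R ⊔ T : Subgroup Ω)) * Subgroup.inclusion le_sup_right ⟨t, ht⟩ := Subtype.ext hxy
  have h2 : ψ (Subgroup.inclusion le_sup_left x) ∈ T ⊔ Y := by
    rw [h1, map_mul]
    exact mul_mem (h _ le_sup_right ψ hψ ⟨y, hyR⟩ hy)
      (Subgroup.mem_sup_left (stronglyClosed_apply_mem hT hψ ht))
  have h3 := mul_mem h2 (Subgroup.mem_sup_left (T.inv_mem (hψe x)) :
    ((φ x)⁻¹ * ψ (Subgroup.inclusion le_sup_left x))⁻¹ ∈ T ⊔ Y)
  simpa [mul_inv_rev] using h3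

theorem stronglyClosed_sup [Finite S] {p : ℕ} [Fact p.Prime] (hS : IsPGroup p S)
    (hF : F.IsSaturated p) {T U : Subgroup Ω} (hT : F.StronglyClosed T) (hU : F.StronglyClosed U) :
    F.StronglyClosed (T ⊔ U) :=
  stronglyClosed_sup_of hS hF hT hU.1
    fun _ _ _ hψ _ hy => Subgroup.mem_sup_right (stronglyClosed_apply_mem hU hψ hy)

theorem stronglyClosed_sup_centralizerIn [Finite S] {p : ℕ} [Fact p.Prime] (hS : IsPGroup p S)
    (hF : F.IsSaturated p) {T : Subgroup Ω} (hT : F.StronglyClosed T) :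
    F.StronglyClosed (T ⊔ centralizerIn S T) := by
  refine stronglyClosed_sup_of hS hF hT (centralizerIn_le T) fun R hTR ψ hψ y hy =>
    Subgroup.mem_sup_right (mem_centralizerIn.2 ⟨hom_mem hψ y, fun z hz => ?_⟩)
  haveI := finite_of_le hT.1
  obtain ⟨w, rfl⟩ := (range_eq_of_card_le (restrict_mem hψ hTR) hT.1
    (fun w => stronglyClosed_apply_mem hT hψ (x := Subgroup.inclusion hTR w) w.2) le_rfl).ge hz
  rw [MonoidHom.comp_apply, ← map_mul, ← map_mul]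
  exact congrArg ψ (Subtype.ext ((mem_centralizerIn.1 hy).2 w w.2))

end Cfsg.Lib.FusionSys
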