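import Cfsg.Agent.Lib.FusionSys.SplitResidual
import Cfsg.Agent.Lib.FusionSys.StronglyClosedSup
import Cfsg.Agent.Lib.FusionSys.CenterFactor
import Cfsg.Agent.S5148

/-!
Components of a split system lie in one of the two factors.
-/

set_option autoImplicit false
set_option linter.style.haveILetI false

namespace Cfsg.Lib.FusionSys

open Cfsg Cfsg.FusionSystem

variable {Ω : Type*} [Group Ω] {S T U A B : Subgroup Ω} {F : FusionSystem S} {C : FusionSystem T}
  {p : ℕ} [Fact p.Prime]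

/-- A quasisimple system is its own `p'`-residual. -/
theorem isPPrimeResidual_of_quasisimple [Finite S] (hS : IsPGroup p S) (hq : F.Quasisimple p) :
    F.IsPPrimeResidual p F := by
  obtain ⟨hF, -, hsimp⟩ := hq
  obtain ⟨R, hR⟩ := exists_pPrimeResidual hS hF
  suffices h : F ≤ R by
    obtain rfl := fusionSystem_le_antisymm h hR.2.1.1
    exact hR
  have hfixZ : ∀ {P : Subgroup Ω} {φ : P →* Ω}, φ ∈ F.Hom P → ∀ (z : Ω) (hz : z ∈ P),
      z ∈ F.center → φ ⟨z, hz⟩ = z := fun {P φ} hφ z hz hzc =>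
    ((mem_center_iff' hS hF).1 hzc).2 P φ hφ hz
  have hZs : F.StronglyClosed F.center := by
    refine ⟨(isCentral_center F).1, fun Q hQ φ hφ x => ?_⟩
    rw [show φ x = (x : Ω) from hfixZ hφ x x.2 (hQ x.2)]
    exact hQ x.2
  have hZR : R.StronglyClosed F.center :=
    ⟨hZs.1, fun Q hQ φ hφ x => hZs.2 Q hQ φ (hR.2.1.1 Q hφ) x⟩
  set N := (F.center).subgroupOf S with hN
  set θ : ↥S →* ↥S ⧸ N := QuotientGroup.mk' N with hθ
  have hker : ∀ s : ↥S, θ s = 1 ↔ (s : Ω) ∈ F.center := fun s => QuotientGroup.eq_one_iff s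
  have hrange : θ.range = ⊤ := MonoidHom.range_eq_top.2 (QuotientGroup.mk'_surjective _)
  obtain ⟨Fb, hFb⟩ := exists_factorSystem (F := F) (T := F.center)
    (S' := (⊤ : Subgroup (↥S ⧸ N))) hZs (θ := θ) hker hrange
  obtain ⟨hFbs, hne, hnorm⟩ := hsimp Fb hFb
  haveI : Finite ↥(⊤ : Subgroup (↥S ⧸ N)) := inferInstance
  have hS' : IsPGroup p (⊤ : Subgroup (↥S ⧸ N)) := (hS.to_quotient _).to_subgroup ⊤
  obtain ⟨Rb, hRb⟩ := exists_factorSystem (F := R) (T := F.center)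
    (S' := (⊤ : Subgroup (↥S ⧸ N))) hZR (θ := θ) hker hrange
  have hRbs := isSaturated_factor hS hR.1 hZR hRb
  have hsub : Rb.IsSubsystemOf Fb := fun P' φ' hφ' => by
    obtain ⟨hP', φ, hφ, hi⟩ := (hRb.2.2.2 P' φ').1 hφ'
    exact (hFb.2.2.2 P' φ').2 ⟨hP', φ, hR.2.1.1 _ hφ, hi⟩
  -- the residual of the factor system is everything
  obtain ⟨Fb', hFb'⟩ := exists_pPrimeResidual hS' hFbs
  have hFbi : Fb.IsInvariantIn Fb := by
    refine ⟨fun P => subset_rfl, ⟨le_rfl, fun Q _ φ hφ x => hom_mem hφ x⟩,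
      fun P hP φ hφ α hα => ?_, fun P hP φ hφ => ⟨1, one_mem _, φ, hφ, fun x hx => rfl⟩⟩
    obtain ⟨χ, hχ, hχe⟩ := twistMem_self hα hφ
    exact ⟨χ, hχ, fun x hφx hαx => hχe x hαx⟩
  have hall : ∀ P, Fb'.Hom P = Fb.Hom P :=
    ((hnorm _ _ (isNormalIn_residual hS' ⟨hFbs, hFbs, hFbi⟩ hFb')).resolve_left hne).2
  have hidx : Rb.HasPrimeToPIndexIn Fb p := by
    refine ⟨hsub, fun P' hP' => ?_⟩
    rw [Subgroup.map_le_iff_le_comap, Subgroup.closure_le]
    rintro ab ⟨k, hk⟩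
    obtain ⟨-, φ, hφ, hi⟩ := (hFb.2.2.2 P' _).1 ((mem_autGroup hP').1 ab.2)
    have hpv : ∀ x, φ x ∈ preimageAlong θ P' := fun x => by
      refine mem_preimageAlong.2 ⟨hom_mem hφ x, ?_⟩
      have hx' := mem_preimageAlong.1 x.2
      rw [← inducedAlong_apply hi (y := ⟨_, hx'.2⟩) (hxS := hx'.1) rfl (hx' := hom_mem hφ x)]
      exact ((ab : MulAut P') _).2
    obtain ⟨a, ha, hae⟩ := exists_aut_of_hom hφ hpv
    haveI := finite_of_le (preimageAlong_le : preimageAlong θ P' ≤ S)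
    haveI : Finite (MulAut ↥(preimageAlong θ P')) := finite_mulAut_of_le preimageAlong_le
    have ha0 : orderOf a ≠ 0 := (orderOf_pos a).ne'
    obtain ⟨j, hj1, hj2⟩ := Nat.chineseRemainder
      (((Nat.coprime_ordCompl (Fact.out : p.Prime) ha0).pow_left k) :
        (p ^ k).Coprime (ordCompl[p] (orderOf a))) 1 0
    have hab : (ab : MulAut P') ^ j = ab := by
      conv_rhs => rw [← pow_one (ab : MulAut P')]
      rw [← hk, ← Subgroup.orderOf_coe] at hj1
      exact pow_eq_pow_iff_modEq.2 hj1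
    have hal : (a ^ j) ^ p ^ (orderOf a).factorization p = 1 := by
      rw [← pow_mul, ← orderOf_dvd_iff_pow_eq_one]
      conv_lhs => rw [← Nat.ordProj_mul_ordCompl_eq_self (orderOf a) p]
      rw [mul_comm j]
      exact mul_dvd_mul_left _ (Nat.modEq_zero_iff_dvd.1 hj2)
    obtain ⟨m, -, hm⟩ := (Nat.dvd_prime_pow Fact.out).1 (orderOf_dvd_of_pow_eq_one hal)
    have hajR := residual_pAut hR preimageAlong_le (pow_mem ha j) hm
    have hpow : ∀ (n : ℕ) (x : preimageAlong θ P'),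
        θ ⟨((a ^ n) x : _), preimageAlong_le ((a ^ n) x).2⟩ =
          (((ab : MulAut P') ^ n) ⟨_, (mem_preimageAlong.1 x.2).2⟩ : P') := by
      intro n
      induction n with
      | zero => intro x; rfl
      | succ n ih =>
        intro x
        rw [pow_succ' (ab : MulAut P'), MulAut.mul_apply]
        refine Eq.trans ?_ (congrArg (fun w => (((ab : MulAut P') w : P') : ↥S ⧸ N))
          (Subtype.ext (ih x) : (⟨_, (mem_preimageAlong.1 ((a ^ n) x).2).2⟩ : P') = _))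
        refine Eq.trans ?_ (inducedAlong_apply hi (x := (a ^ n) x) (hxS := preimageAlong_le ((a ^ n) x).2) (y := ⟨_, (mem_preimageAlong.1 ((a ^ n) x).2).2⟩)
          (hx' := hom_mem hφ _) rfl).symm
        refine congrArg θ (Subtype.ext ?_)
        rw [pow_succ' a, MulAut.mul_apply, hae]
    refine (mem_autGroup hP').2 ((hRb.2.2.2 P' _).2 ⟨hP', _,
      (mem_autGroup preimageAlong_le).1 hajR, preimageAlong_le,
      fun x => preimageAlong_le ((a ^ j) x).2, fun x => (mem_preimageAlong.1 x.2).2, fun x => ?_⟩)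
    have := hpow j x
    rw [hab] at this
    exact this.symm
  -- lift back
  intro P φ hφ
  obtain ⟨ψ, hψ, hψe, hψZ⟩ := (isCentral_center F).2 P φ hφ
  have hPS := hom_le hφ
  have hP' : imageAlong θ P ≤ (⊤ : Subgroup (↥S ⧸ N)) := le_top
  have hpre := preimageAlong_imageAlong hZs hker hPS
  obtain ⟨φ', hφ'⟩ := exists_induced hZs hker hrange hP' (restrict_mem hψ hpre.le)
  have hφ'F : φ' ∈ Fb.Hom (imageAlong θ P) := (hFb.2.2.2 _ _).2 ⟨hP', _, restrict_mem hψ hpre.le, hφ'⟩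
  rw [← hall] at hφ'F
  obtain ⟨-, χ₀, hχ₀, hχi⟩ := (hRb.2.2.2 _ _).1 (hFb'.2.2 Rb hRbs hidx _ hφ'F)
  have hW : P ⊔ F.center ≤ S := sup_le hPS hZs.1
  haveI := finite_of_le hW
  set χ := χ₀.comp (Subgroup.inclusion hpre.ge) with hχdef
  have hχ : χ ∈ R.Hom (P ⊔ F.center) := restrict_mem hχ₀ hpre.ge
  have hχF := hR.2.1.1 _ hχ
  have hdiff : ∀ w, (χ w)⁻¹ * ψ w ∈ F.center := fun w => by
    have h1 := inducedAlong_apply hφ' (x := Subgroup.inclusion hpre.ge w) (hxS := hW w.2)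
      (y := ⟨θ ⟨w, hW w.2⟩, (mem_preimageAlong.1 (hpre.ge w.2)).2⟩) rfl (hx' := hom_mem hψ _)
    have h2 := inducedAlong_apply hχi (x := Subgroup.inclusion hpre.ge w) (hxS := hW w.2)
      (y := ⟨θ ⟨w, hW w.2⟩, (mem_preimageAlong.1 (hpre.ge w.2)).2⟩) rfl (hx' := hom_mem hχF w)
    refine (hker (⟨χ w, hom_mem hχF w⟩⁻¹ * ⟨ψ w, hom_mem hψ w⟩)).1 ?_
    rw [map_mul, map_inv, inv_mul_eq_one]
    exact h2.symm.trans h1
  have hv : ∀ w, ψ w ∈ χ.range := fun w =>
    ⟨w * ⟨_, Subgroup.mem_sup_right (hdiff w)⟩, by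
      rw [map_mul, hfixZ hχF _ _ (hdiff w), mul_inv_cancel_left]⟩
  obtain ⟨χi, hχi', -, hχie⟩ := exists_inv hχF rfl
  have hγv : ∀ w, χi ⟨ψ w, hv w⟩ = (w * ⟨_, Subgroup.mem_sup_right (hdiff w)⟩ : ↥(P ⊔ F.center)) := by
    intro w
    have e : χ (w * ⟨_, Subgroup.mem_sup_right (hdiff w)⟩) = ψ w := by
      rw [map_mul, hfixZ hχF _ _ (hdiff w), mul_inv_cancel_left]
    refine Eq.trans ?_ (hχie _ ⟨w * ⟨_, Subgroup.mem_sup_right (hdiff w)⟩, rfl⟩)
    exact congrArg χi (Subtype.ext e.symm)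
  obtain ⟨γ, hγ, hγe⟩ := exists_aut_of_hom (F.comp_mem hψ hχi' hv) fun w => by
    show χi ⟨ψ w, hv w⟩ ∈ P ⊔ F.center
    rw [hγv]; exact SetLike.coe_mem _
  have hγe' : ∀ w, γ w = w * ⟨_, Subgroup.mem_sup_right (hdiff w)⟩ := fun w =>
    Subtype.ext ((hγe w).trans (hγv w))
  obtain ⟨k, hk⟩ := orderOf_pow_of_stab (hS.to_le hW) (le_sup_right : F.center ≤ P ⊔ F.center)
    (γ := γ) (fun w hw => by
      rw [hγe']
      refine mul_eq_left.2 (Subtype.ext ?_)
      show (χ w)⁻¹ * ψ w = 1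
      rw [hfixZ hψ (w : Ω) w.2 hw, hfixZ hχF (w : Ω) w.2 hw, inv_mul_cancel]) fun w => by
      rw [hγe', Subgroup.coe_mul, inv_mul_cancel_left]
      exact hdiff w
  have hψR : ψ ∈ R.Hom (P ⊔ F.center) :=
    comp_mem' ((mem_autGroup hW).1 (residual_pAut hR hW hγ hk)) hχ (fun w => (γ w).2) fun w => by
      show ψ w = χ (γ w)
      rw [hγe', map_mul, hfixZ hχF _ _ (hdiff w), mul_inv_cancel_left]
  exact hom_congr (restrict_mem hψR le_sup_left) fun x => (hψe x).symm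

/-- A component of a quasisimple split system is a component of a factor. -/
theorem component_quasisimple_split [Finite S] (hS : IsPGroup p S) (hq : F.Quasisimple p)
    (h : IsSplit F A B) :
    F.IsComponentIn (fullOn F A h.left.1) p ∨ F.IsComponentIn (fullOn F B h.right.1) p := by
  obtain ⟨hF, hhyp, hsimp⟩ := id hq
  have hfixZ : ∀ {P : Subgroup Ω} {φ : P →* Ω}, φ ∈ F.Hom P → ∀ (z : Ω) (hz : z ∈ P),
      z ∈ F.center → φ ⟨z, hz⟩ = z := fun {P φ} hφ z hz hzc =>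
    ((mem_center_iff' hS hF).1 hzc).2 P φ hφ hz
  have hZs : F.StronglyClosed F.center := by
    refine ⟨(isCentral_center F).1, fun Q hQ φ hφ x => ?_⟩
    rw [show φ x = (x : Ω) from hfixZ hφ x x.2 (hQ x.2)]
    exact hQ x.2
  set N := (F.center).subgroupOf S with hN
  set θ : ↥S →* ↥S ⧸ N := QuotientGroup.mk' N with hθ
  have hker : ∀ s : ↥S, θ s = 1 ↔ (s : Ω) ∈ F.center := fun s => QuotientGroup.eq_one_iff s
  have hrange : θ.range = ⊤ := MonoidHom.range_eq_top.2 (QuotientGroup.mk'_surjective _)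
  obtain ⟨E, hE⟩ := exists_factorSystem (F := F) (T := F.center)
    (S' := (⊤ : Subgroup (↥S ⧸ N))) hZs (θ := θ) hker hrange
  obtain ⟨hEs, hne, hnorm⟩ := hsimp E hE
  haveI : Finite ↥(⊤ : Subgroup (↥S ⧸ N)) := inferInstance
  have hS' : IsPGroup p (⊤ : Subgroup (↥S ⧸ N)) := (hS.to_quotient _).to_subgroup ⊤
  have hscI : ∀ {C : Subgroup Ω}, F.StronglyClosed C → E.StronglyClosed (imageAlong θ C) := by
    intro C hC
    refine ⟨le_top, fun Q hQ φ' hφ' y => ?_⟩
    obtain ⟨-, φ, hφ, hi⟩ := (hE.2.2.2 Q φ').1 hφ'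
    obtain ⟨x, hx, hxC, hxe⟩ := mem_imageAlong.1 (hQ y.2)
    have hxp : x ∈ preimageAlong θ Q := mem_preimageAlong.2 ⟨hx, hxe ▸ y.2⟩
    rw [inducedAlong_apply hi (x := ⟨x, hxp⟩) (hxS := hx) hxe.symm (hx' := hom_mem hφ _)]
    exact mem_imageAlong.2 ⟨_, hom_mem hφ _, stronglyClosed_apply_mem hC hφ (x := ⟨x, hxp⟩) hxC, rfl⟩
  -- each factor is trivial or everything modulo the centre
  have key : ∀ {C D : Subgroup Ω}, IsSplit F C D →
      imageAlong θ C = ⊥ ∨ imageAlong θ C = ⊤ := by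
    intro C D hs
    have hC := hscI hs.left
    have hcomm : ∀ a ∈ imageAlong θ C, ∀ b ∈ imageAlong θ D, a * b = b * a := by
      intro a ha b hb
      obtain ⟨x, hx, hxC, rfl⟩ := mem_imageAlong.1 ha
      obtain ⟨y, hy, hyD, rfl⟩ := mem_imageAlong.1 hb
      rw [← map_mul, ← map_mul]
      exact congrArg θ (Subtype.ext (hs.comm x hxC y hyD))
    have hsup : (⊤ : Subgroup (↥S ⧸ N)) ≤ imageAlong θ C ⊔ imageAlong θ D := by
      intro y _
      obtain ⟨⟨x, hx⟩, rfl⟩ := QuotientGroup.mk'_surjective N y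
      obtain ⟨a, ha, b, hb, rfl⟩ := hs.exists_mul hx
      rw [show (⟨a * b, hx⟩ : S) = ⟨a, hs.left.1 ha⟩ * ⟨b, hs.right.1 hb⟩ from rfl, map_mul]
      exact mul_mem (Subgroup.mem_sup_left (mem_imageAlong.2 ⟨a, _, ha, rfl⟩))
        (Subgroup.mem_sup_right (mem_imageAlong.2 ⟨b, _, hb, rfl⟩))
    have hR₁ := isSaturated_fullOn hEs hC hcomm hsup
    have hsubE : (fullOn E (imageAlong θ C) hC.1).IsSubsystemOf E := fun P φ hφ => hφ.1
    have hwn : (fullOn E (imageAlong θ C) hC.1).IsWeaklyNormalIn E p := by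
      refine ⟨hR₁, hEs, (isInvariantIn_iff_strongInv hS' hEs hsubE hC).2 ?_⟩
      intro P Q hPQ hQT φ hφ hφQ ψ hψ
      have hT : E.StronglyClosed ⊤ := ⟨le_rfl, fun _ _ _ _ _ => trivial⟩
      have hself : E.IsInvariantIn E := by
        refine ⟨fun P => subset_rfl, hT, fun P hP φ hφ α hα => ?_,
          fun P hP φ hφ => ⟨1, one_mem _, φ, hφ, fun x hx => rfl⟩⟩
        obtain ⟨χ, hχ, hχe⟩ := twistMem_self hα hφ
        exact ⟨χ, hχ, fun x hφx hαx => hχe x hαx⟩
      obtain ⟨χ, hχ, hχe⟩ :=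
        isInvariant_strongInv hself P Q hPQ le_top φ hφ.1 hφQ ψ hψ
      have hle : (P.subgroupOf Q).map ψ ≤ imageAlong θ C := by
        rintro _ ⟨q, -, rfl⟩
        exact hC.2 Q hQT ψ hψ q
      exact ⟨χ, ⟨hχ, hle, fun x => hC.2 _ hle χ hχ x⟩, hχe⟩
    obtain ⟨R₁, hR₁'⟩ := exists_pPrimeResidual (hS'.to_le hC.1) hR₁
    rcases hnorm _ _ (isNormalIn_residual hS' hwn hR₁') with h1 | ⟨h1, -⟩
    · exact Or.inl h1
    · exact Or.inr h1
  have htriv : ∀ {C D : Subgroup Ω}, IsSplit F C D → imageAlong θ C = ⊥ →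
      ∀ (hD : D ≤ S), F.IsComponentIn (fullOn F D hD) p := by
    intro C D hs hbot hD
    have hCZ : C ≤ F.center := fun c hc => (hker ⟨c, hs.left.1 hc⟩).1 (Subgroup.mem_bot.1
      (hbot.le (mem_imageAlong.2 ⟨c, hs.left.1 hc, hc, rfl⟩)))
    have hDS : D = S := by
      refine le_antisymm hD (hhyp.symm.le.trans (hyperfocal_le_of_coprime fun P hP α hα _ x => ?_))
      obtain ⟨ψ, hψ, hψe⟩ := hs.ext ((mem_autGroup hP).1 hα)
      obtain ⟨a, ha, b, hb, hxe⟩ := hs.exists_mul (hP x.2)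
      have hap : a ∈ pr C D P := ⟨ha, by
        rw [show a = (x : Ω) * b⁻¹ by rw [hxe, mul_inv_cancel_right]]
        exact mul_mem (Subgroup.mem_sup_left x.2) (Subgroup.mem_sup_right (inv_mem hb))⟩
      have hbp : b ∈ pr D C P := ⟨hb, by
        rw [show b = a⁻¹ * (x : Ω) by rw [hxe, inv_mul_cancel_left]]
        exact mul_mem (Subgroup.mem_sup_right (inv_mem ha)) (Subgroup.mem_sup_left x.2)⟩
      have e : ((α x : P) : Ω) = a * ψ ⟨b, Subgroup.mem_sup_right hbp⟩ := by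
        refine (hψe x x.2 (le_pr_sup_pr hs.comm (hP.trans hs.sup.ge) x.2)).symm.trans ?_
        refine Eq.trans ?_ (congrArg (· * ψ ⟨b, Subgroup.mem_sup_right hbp⟩)
          (hfixZ hψ a (Subgroup.mem_sup_left hap) (hCZ ha)))
        rw [← map_mul]
        exact congrArg ψ (Subtype.ext hxe)
      rw [e, hxe, mul_inv_rev, mul_assoc, inv_mul_cancel_left]
      exact mul_mem (inv_mem hb)
        (stronglyClosed_apply_mem hs.right hψ (x := ⟨b, Subgroup.mem_sup_right hbp⟩) hb)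
    subst hDS
    have : fullOn F D hD = F := fusionSystem_le_antisymm (fun P φ hφ => hφ.1)
      fun P φ hφ => ⟨hφ, hom_le hφ, hom_mem hφ⟩
    rw [this]
    exact ⟨.refl F p, hq⟩
  rcases key h with hA | hA
  · exact Or.inr (htriv h hA h.right.1)
  rcases key h.symm with hB | hB
  · exact Or.inl (htriv h.symm hB h.left.1)
  exfalso
  refine Cfsg.Agent.S5148.result p hS F hq ⟨⟨fun x y => Subtype.ext ?_⟩⟩
  have hdec : ∀ {C : Subgroup Ω}, imageAlong θ C = ⊤ → ∀ x : S,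
      ∃ c ∈ C, ∃ z ∈ F.center, (x : Ω) = c * z := by
    intro C hC x
    obtain ⟨c, hc, hcC, hce⟩ := mem_imageAlong.1 (hC.ge (Subgroup.mem_top (θ x)))
    refine ⟨c, hcC, c⁻¹ * x, (hker (⟨c, hc⟩⁻¹ * x)).1 ?_, (mul_inv_cancel_left _ _).symm⟩
    rw [map_mul, map_inv, hce, inv_mul_cancel]
  obtain ⟨a, ha, z, hz, hxe⟩ := hdec hA x
  obtain ⟨b, hb, w, hw, hye⟩ := hdec hB y
  have hzc : ∀ g ∈ S, g * z = z * g := fun g hg => commute_of_mem_center F hz hg
  have hwc : ∀ g ∈ S, g * w = w * g := fun g hg => commute_of_mem_center F hw hg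
  show (x : Ω) * y = y * x
  have haS := h.left.1 ha
  have hbS := h.right.1 hb
  have hwS := (isCentral_center F).1 hw
  rw [hxe, hye]
  calc a * z * (b * w) = a * (z * b) * w := by group
    _ = a * (b * z) * w := by rw [hzc b hbS]
    _ = a * b * (z * w) := by group
    _ = b * a * (w * z) := by rw [h.comm a ha b hb, hzc w hwS]
    _ = b * (a * w) * z := by group
    _ = b * (w * a) * z := by rw [hwc a haS]
    _ = b * w * (a * z) := by group

theorem admissible_parts [Finite S] (hS : IsPGroup p S) {X : FusionSystem U} (hX : X.IsWeaklyNormalIn F p)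
    (h : IsSplit F A B) :
    Admissible X p ((U ⊓ A) ⊔ (U ⊓ B)) ∧ F.StronglyClosed ((U ⊓ A) ⊔ (U ⊓ B)) := by
  obtain ⟨hXs, hF, hXi⟩ := hX
  have hU := hXi.2.1
  haveI := finite_of_le hU.1
  have hsc := stronglyClosed_sup hS hF (stronglyClosed_inf hU h.left) (stronglyClosed_inf hU h.right)
  exact ⟨⟨⟨sup_le inf_le_left inf_le_left, fun R hR φ hφ x => hsc.2 R hR φ (hXi.1 R hφ) x⟩,
    hyperfocal_le_parts h hU hXi.1⟩, hsc⟩

/-- Components of a split system are components of one of the factors. -/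
theorem component_of_split (hC : C.Quasisimple p) (hCT : IsPGroup p T) [Finite T] :
    ∀ (n : ℕ) {S A B : Subgroup Ω} {F : FusionSystem S}, ChainLen C p n F → Finite S →
      IsPGroup p S → F.IsSaturated p → ∀ h : IsSplit F A B,
      C.IsComponentIn (fullOn F A h.left.1) p ∨ C.IsComponentIn (fullOn F B h.right.1) p := by
  intro n
  induction n with
  | zero =>
    intro S A B F hch hfin hS hF h
    cases hch
    exact component_quasisimple_split hS hC h
  | succ n ih =>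
    intro S A B F hch hfin hS hF h
    haveI := hfin
    rcases hch with _ | ⟨hch, hXn⟩
    rename_i U X
    obtain ⟨hadm, hsc⟩ := admissible_parts hS hXn.1 h
    set W := (U ⊓ A) ⊔ (U ⊓ B) with hW
    have hU := hXn.1.2.2.2.1
    haveI := finite_of_le hU.1
    have hUp := hS.to_le hU.1
    obtain ⟨Z, hZ⟩ := exists_step hUp hXn.1.1 hadm
    have hchZ := hch.transfer hC.2.1 (isPPrimeResidual_of_quasisimple hCT hC) inferInstance hUp
      hXn.1.1 Z hadm hZ
    obtain ⟨Y, hY, hYi, hYR⟩ := hZ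
    have hYwn : Y.IsWeaklyNormalIn F p := ⟨hY, hF, isInvariantIn_pPower_sub hS hXn.1.2.2 hXn.1.1 hsc
      hadm.1.1 (Subgroup.normal_subgroupOf_of_le_normalizer (stronglyClosed_le_normalizer hadm.1))
      hadm.2 hY hYi⟩
    have hZn := isNormalIn_residual hS hYwn hYR
    have hcut : IsCut F A B W := ⟨hsc, le_antisymm (sup_le inf_le_left inf_le_left)
      (sup_le (le_trans (le_inf le_sup_left inf_le_right) le_sup_left)
        (le_trans (le_inf le_sup_right inf_le_right) le_sup_right))⟩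
    have hsplit := isSplit_residual hS h hcut hY hYwn.2.2.1 hYR
    haveI := finite_of_le hsc.1
    -- push a component of a factor of `Z` up to the factor of `F`
    have up : ∀ {A B : Subgroup Ω} (h : IsSplit F A B) (hs : IsSplit Z (W ⊓ A) (W ⊓ B)),
        C.IsComponentIn (fullOn Z (W ⊓ A) hs.left.1) p →
          C.IsComponentIn (fullOn F A h.left.1) p := by
      intro A B h hs hc
      have hFA : (fullOn F A h.left.1).IsSaturated p :=
        isSaturated_fullOn hF h.left h.comm h.sup.ge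
      set A' := fullOn Z (W ⊓ A) hs.left.1 with hA'
      have hA's : A'.IsSaturated p := isSaturated_fullOn hZn.1.1 hs.left hs.comm hs.sup.ge
      haveI := finite_of_le (h.left.1)
      have hApg := hS.to_le h.left.1
      have hsub : A'.IsSubsystemOf (fullOn F A h.left.1) := fun P φ hφ =>
        ⟨hZn.1.2.2.1 P hφ.1, hφ.2.1.trans inf_le_right, fun x => (hφ.2.2 x).2⟩
      have hsc' : (fullOn F A h.left.1).StronglyClosed (W ⊓ A) :=
        ⟨inf_le_right, fun R hR φ hφ x =>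
          ⟨hsc.2 R (hR.trans inf_le_left) φ hφ.1 x, hφ.2.2 x⟩⟩
      have hA'wn : A'.IsWeaklyNormalIn (fullOn F A h.left.1) p := by
        refine ⟨hA's, hFA, (isInvariantIn_iff_strongInv hApg hFA hsub hsc').2 ?_⟩
        intro P Q hPQ hQT φ hφ hφQ ψ hψ
        obtain ⟨χ, hχ, hχe⟩ := isInvariant_strongInv hZn.1.2.2 P Q hPQ (hQT.trans inf_le_left)
          φ hφ.1 hφQ ψ hψ.1
        have hle : (P.subgroupOf Q).map ψ ≤ W ⊓ A := by
          rintro _ ⟨q, -, rfl⟩
          exact hsc'.2 Q hQT ψ hψ q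
        exact ⟨χ, ⟨hχ, hle, fun x => hs.left.2 _ hle χ hχ x⟩, hχe⟩
      haveI := finite_of_le (inf_le_right : W ⊓ A ≤ A)
      have hA'pg := hApg.to_le (inf_le_right : W ⊓ A ≤ A)
      have hadm' : Admissible A' p (W ⊓ A) := ⟨⟨le_rfl, fun R _ φ hφ x => hom_mem hφ x⟩,
        hyperfocal_le_of_coprime fun P hP α _ _ x =>
          mul_mem (inv_mem (hP x.2)) (hP (α x).2)⟩
      obtain ⟨A'', hA''⟩ := exists_pPrimeResidual hA'pg hA's
      have hstep : IsStep A' p A'' := ⟨A', hA's, ⟨fun P => subset_rfl, hadm'.2, fun P hP => by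
        rintro _ ⟨a, -, rfl⟩
        exact a.2⟩, hA''⟩
      obtain ⟨m, hm⟩ := exists_chainLen hc.1
      have hm' := hm.transfer hC.2.1 (isPPrimeResidual_of_quasisimple hCT hC) inferInstance hA'pg
        hA's A'' hadm' hstep
      exact ⟨.step hm'.isSubnormalIn (isNormalIn_residual hApg hA'wn hA''), hC⟩
    rcases ih hchZ inferInstance (hS.to_le hsc.1) hZn.1.1 hsplit with hc | hc
    · exact Or.inl (up h hsplit hc)
    · exact Or.inr (up h.symm hsplit.symm hc)

end Cfsg.Lib.FusionSys
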