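import Cfsg.Agent.Lib.FusionSys.CentralizerSubsystem
import Cfsg.Agent.S5162

/-!
Central products of commuting normal subsystems are normal.

For normal subsystems over commuting subgroups meeting in central subgroups, each subgroup lies in the centralizer
of the other subsystem, so the product maps are maps of the whole system.
-/

set_option autoImplicit false
set_option linter.style.haveILetI false
set_option maxHeartbeats 800000

namespace Cfsg.Lib.FusionSys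

open Cfsg Cfsg.FusionSystem

variable {Ω : Type*} [Group Ω] {S T T₁ T₂ : Subgroup Ω} {F : FusionSystem S} {E : FusionSystem T} {p : ℕ}

/-- The maps of `E` fix the elements of `Z` in their sources. -/
def FixesMaps (E : FusionSystem T) (Z : Subgroup Ω) : Prop :=
  ∀ (P : Subgroup Ω) (φ : P →* Ω), φ ∈ E.Hom P → ∀ x : P, (x : Ω) ∈ Z → φ x = x

theorem fixesMaps_of_le_center [Finite T] {Z : Subgroup Ω} (h : Z ≤ E.center) : FixesMaps E Z := by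
  intro P φ hφ x hx
  obtain ⟨χ, -, hχe, hχf⟩ := (isCentral_center E).2 P φ hφ
  exact (hχe x).symm.trans (hχf ⟨(x : Ω), h hx⟩)

/-- A strongly closed subgroup commuting with `T` and meeting it in elements fixed by `E` centralizes `E`. -/
theorem centralizesSystem_of_commute [Finite S] [Fact p.Prime] (hS : IsPGroup p S) (hE : E.IsNormalIn F p)
    {U : Subgroup Ω} (hU : F.StronglyClosed U) (hcomm : ∀ t ∈ T, ∀ u ∈ U, t * u = u * t)
    (hfix : FixesMaps E (T ⊓ U)) : CentralizesSystem F E U := by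
  have hEi := hE.1.2.2
  have hT : F.StronglyClosed T := hEi.2.1
  have hTS := hT.1
  haveI := finite_of_le hTS
  have hUC : U ≤ centralizerIn S T := fun u hu => mem_centralizerIn.2 ⟨hU.1 hu, fun t ht => (hcomm t ht u hu).symm⟩
  suffices hfs : U ≤ fixSub F E p hT by
    refine centralizesSystem_mono hEi.1 hTS (fun u hu => ?_) (centralizesSystem_systemCentralizer hS hE)
    refine ⟨hUC hu, fun γ hγ h => hfs ?_⟩
    exact stronglyClosed_apply_mem hU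
      ((mem_autGroup (sup_le hTS (centralizerIn_le T))).1 hγ) (x := ⟨u, h⟩) hu
  intro u hu
  refine ⟨hUC hu, fun Q hQT hQn hQc ψ hψ m hm hψm a ha ham hψa h => ?_⟩
  have hW : Q ⊔ centralizerIn S Q ≤ S := sup_le (hQT.trans hTS) (centralizerIn_le Q)
  set z : Ω := u⁻¹ * ((ψ ⟨u, h⟩ : _) : Ω) with hzdef
  have hzT : z ∈ T := hψ.2 ⟨u, h⟩ (centralizerIn_anti hQT (hUC hu))
  have hzU : z ∈ U := U.mul_mem (U.inv_mem hu) (stronglyClosed_apply_mem hU ((mem_autGroup hW).1 hψ.1.1)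
    (x := ⟨u, h⟩) hu)
  have hzQ : z ∈ Q := hQc.2 Q (isConj_refl E hQT)
    (mem_centralizerIn.2 ⟨hzT, fun q hq => (hcomm q (hQT hq) z hzU).symm⟩)
  let z' : ↥(Q ⊔ centralizerIn S Q) := ⟨z, Subgroup.mem_sup_left hzQ⟩
  have hψz : ψ z' = z' := Subtype.ext ((hψa ⟨z, hzQ⟩).trans
    (hfix Q _ ((mem_autGroup hQT).1 ha) ⟨z, hzQ⟩ ⟨hzT, hzU⟩))
  have hstep : ψ ⟨u, h⟩ = ⟨u, h⟩ * z' := Subtype.ext (mul_inv_cancel_left u _).symm
  have hn : ∀ n : ℕ, (ψ ^ n) ⟨u, h⟩ = ⟨u, h⟩ * z' ^ n := by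
    intro n
    induction n with
    | zero => simp
    | succ n ih => rw [pow_succ', MulAut.mul_apply, ih, map_mul, map_pow, hψz, hstep, pow_succ', mul_assoc]
  have hzm : z ^ m = 1 := by
    have h1 := hn m
    rw [hψm, MulAut.one_apply] at h1
    exact congrArg Subtype.val (left_eq_mul.1 h1)
  obtain ⟨k, hk⟩ := hS ⟨z, hTS hzT⟩
  have hk' : z ^ p ^ k = 1 := congrArg Subtype.val hk
  have hz1 : z = 1 := orderOf_eq_one_iff.1 (Nat.eq_one_of_dvd_coprimes (Nat.Coprime.pow_right k hm)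
    (orderOf_dvd_of_pow_eq_one hzm) (orderOf_dvd_of_pow_eq_one hk'))
  exact Subtype.ext (eq_of_inv_mul_eq_one hz1).symm

/-- The maps of `E` extend to `G` fixing `U`. -/
def ExtFixes {V : Subgroup Ω} (G : FusionSystem V) (E : FusionSystem T) (U : Subgroup Ω) : Prop :=
  ∀ {P : Subgroup Ω} {φ : P →* Ω}, φ ∈ E.Hom P → ∃ ψ ∈ G.Hom (P ⊔ U),
    (∀ (x : Ω) (hx : x ∈ P) (hx' : x ∈ P ⊔ U), ψ ⟨x, hx'⟩ = φ ⟨x, hx⟩) ∧
      ∀ (u : Ω) (_ : u ∈ U) (hu' : u ∈ P ⊔ U), ψ ⟨u, hu'⟩ = u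

theorem extFixes_of_centralizesSystem {U : Subgroup Ω} (h : CentralizesSystem F E U) : ExtFixes F E U := by
  intro P φ hφ
  obtain ⟨-, -, -, ψ, hψ, hψP, hψU⟩ := h.2 P hφ
  exact ⟨ψ, hψ, fun x hx _ => hψP ⟨x, hx⟩, fun u hu _ => hψU ⟨u, hu⟩⟩

/-- The product of a map of `E₁` and a map of `E₂`. -/
theorem exists_prod {V : Subgroup Ω} {G : FusionSystem V} {E₁ : FusionSystem T₁} {E₂ : FusionSystem T₂}
    (h₁ : ExtFixes G E₁ T₂) (h₂ : ExtFixes G E₂ T₁) {P₁ P₂ : Subgroup Ω} {φ₁ : P₁ →* Ω} {φ₂ : P₂ →* Ω}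
    (hφ₁ : φ₁ ∈ E₁.Hom P₁) (hφ₂ : φ₂ ∈ E₂.Hom P₂) :
    ∃ χ ∈ G.Hom (P₁ ⊔ P₂), (∀ (x : Ω) (hx : x ∈ P₁) (hx' : x ∈ P₁ ⊔ P₂), χ ⟨x, hx'⟩ = φ₁ ⟨x, hx⟩) ∧
      ∀ (x : Ω) (hx : x ∈ P₂) (hx' : x ∈ P₁ ⊔ P₂), χ ⟨x, hx'⟩ = φ₂ ⟨x, hx⟩ := by
  obtain ⟨ψ₁, hψ₁, hψ₁P, hψ₁U⟩ := h₁ hφ₁
  obtain ⟨ψ₂, hψ₂, hψ₂P, hψ₂U⟩ := h₂ hφ₂
  have hle : P₁ ⊔ P₂ ≤ P₁ ⊔ T₂ := sup_le_sup_left (hom_le hφ₂) P₁
  have hv : ∀ z, (ψ₁.comp (Subgroup.inclusion hle)) z ∈ P₂ ⊔ T₁ := hom_mem_of_sup (fun z hz => by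
      show ψ₁ ⟨(z : Ω), _⟩ ∈ _
      rw [hψ₁P z hz]
      exact Subgroup.mem_sup_right (hom_mem hφ₁ _)) fun z hz => by
      show ψ₁ ⟨(z : Ω), _⟩ ∈ _
      rw [hψ₁U z (hom_le hφ₂ hz)]
      exact Subgroup.mem_sup_left hz
  refine ⟨_, G.comp_mem (restrict_mem hψ₁ hle) hψ₂ hv, fun x hx hx' => ?_, fun x hx hx' => ?_⟩
  · refine (congrArg ψ₂ (Subtype.ext (a2 := ⟨φ₁ ⟨x, hx⟩, Subgroup.mem_sup_right (hom_mem hφ₁ _)⟩)
      (hψ₁P x hx (hle hx')))).trans ?_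
    exact hψ₂U _ (hom_mem hφ₁ ⟨x, hx⟩) (Subgroup.mem_sup_right (hom_mem hφ₁ _))
  · refine (congrArg ψ₂ (Subtype.ext (a2 := ⟨x, Subgroup.mem_sup_left hx⟩)
      (hψ₁U x (hom_le hφ₂ hx) (hle hx')))).trans ?_
    exact hψ₂P x hx (Subgroup.mem_sup_left hx)

/-- A product system of `E₁` and `E₂` inside the ambient group, in the form used below. -/
structure IsProd {V : Subgroup Ω} (D : FusionSystem V) (E₁ : FusionSystem T₁) (E₂ : FusionSystem T₂) : Prop where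
  split : IsSplit D T₁ T₂
  mem_left : ∀ {P : Subgroup Ω} {φ : P →* Ω}, φ ∈ E₁.Hom P ↔ P ≤ T₁ ∧ φ ∈ D.Hom P
  mem_right : ∀ {P : Subgroup Ω} {φ : P →* Ω}, φ ∈ E₂.Hom P ↔ P ≤ T₂ ∧ φ ∈ D.Hom P

theorem isProd_of_centralProduct {V : Subgroup Ω} [Finite V] {D : FusionSystem V} {E₁ : FusionSystem T₁}
    {E₂ : FusionSystem T₂} (hc : IsCentralProductOf E₁ E₂ D) : IsProd D E₁ E₂ := by
  obtain ⟨h, e₁, e₂⟩ := Cfsg.Agent.S5162.split_of_centralProduct hc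
  refine ⟨h, fun {P φ} => ?_, fun {P φ} => ?_⟩
  · rw [← e₁]
    exact ⟨fun hφ => ⟨hφ.2.1, hφ.1⟩, fun ⟨hP, hφ⟩ => ⟨hφ, hP, fun x => h.left.2 P hP φ hφ x⟩⟩
  · rw [← e₂]
    exact ⟨fun hφ => ⟨hφ.2.1, hφ.1⟩, fun ⟨hP, hφ⟩ => ⟨hφ, hP, fun x => h.right.2 P hP φ hφ x⟩⟩

variable {V : Subgroup Ω} {D : FusionSystem V} {E₁ : FusionSystem T₁} {E₂ : FusionSystem T₂}

theorem IsProd.symm (h : IsProd D E₁ E₂) : IsProd D E₂ E₁ :=
  ⟨h.split.symm, h.mem_right, h.mem_left⟩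

theorem IsProd.extFixes (h : IsProd D E₁ E₂) : ExtFixes D E₁ T₂ := fun hφ =>
  h.split.idLeft (h.mem_left.1 hφ).1 (h.mem_left.1 hφ).2

theorem IsProd.fix (h : IsProd D E₁ E₂) : FixesMaps E₁ (T₁ ⊓ T₂) := fun P φ hφ x hx =>
  h.split.fix_inf (h.mem_left.1 hφ).2 x.2 hx.1 hx.2

/-- A map of the product is given by maps of the two factors. -/
theorem IsProd.exists_parts (h : IsProd D E₁ E₂) {P : Subgroup Ω} {φ : P →* Ω} (hφ : φ ∈ D.Hom P) :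
    ∃ φ₁ ∈ E₁.Hom (pr T₁ T₂ P), ∃ φ₂ ∈ E₂.Hom (pr T₂ T₁ P), ∀ (x a b : Ω) (hx : x ∈ P)
      (ha : a ∈ pr T₁ T₂ P) (hb : b ∈ pr T₂ T₁ P), x = a * b → φ ⟨x, hx⟩ = φ₁ ⟨a, ha⟩ * φ₂ ⟨b, hb⟩ := by
  obtain ⟨ψ, hψ, hψe⟩ := h.split.ext hφ
  refine ⟨_, h.mem_left.2 ⟨inf_le_left, restrict_mem hψ le_sup_left⟩, _,
    h.mem_right.2 ⟨inf_le_left, restrict_mem hψ le_sup_right⟩, fun x a b hx ha hb he => ?_⟩
  have hle : P ≤ pr T₁ T₂ P ⊔ pr T₂ T₁ P :=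
    le_pr_sup_pr h.split.comm ((hom_le hφ).trans h.split.sup.ge)
  refine (hψe x hx (hle hx)).symm.trans ?_
  show _ = ψ ⟨a, Subgroup.mem_sup_left ha⟩ * ψ ⟨b, Subgroup.mem_sup_right hb⟩
  rw [← map_mul]
  exact congrArg ψ (Subtype.ext he)

/-- The product is contained in every system in which the maps of the factors extend. -/
theorem IsProd.subsystem {W : Subgroup Ω} {G : FusionSystem W} (h : IsProd D E₁ E₂) (h₁ : ExtFixes G E₁ T₂)
    (h₂ : ExtFixes G E₂ T₁) : D.IsSubsystemOf G := by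
  intro P φ hφ
  obtain ⟨φ₁, hφ₁, φ₂, hφ₂, he⟩ := h.exists_parts hφ
  obtain ⟨χ, hχ, hχ₁, hχ₂⟩ := exists_prod h₁ h₂ hφ₁ hφ₂
  have hPS : P ≤ T₁ ⊔ T₂ := (hom_le hφ).trans h.split.sup.ge
  have hle := le_pr_sup_pr h.split.comm hPS
  refine hom_congr (restrict_mem hχ hle) fun x => ?_
  obtain ⟨a, ha, b, hb, hab⟩ := exists_mul_of_commute
    (fun a ha b hb => h.split.comm a (pr_le_left ha) b (pr_le_left hb)) (hle x.2)
  refine (he x a b x.2 ha hb hab).trans ?_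
  show _ = χ ⟨(x : Ω), hle x.2⟩
  rw [← hχ₁ a ha (Subgroup.mem_sup_left ha), ← hχ₂ b hb (Subgroup.mem_sup_right hb), ← map_mul]
  exact congrArg χ (Subtype.ext hab.symm)

/-- The product is transported by the automorphisms of its group. -/
theorem IsProd.transport [Finite S] (h : IsProd D E₁ E₂) (hV : F.StronglyClosed V) (hE₁ : E₁.IsInvariantIn F)
    (hE₂ : E₂.IsInvariantIn F) {P : Subgroup Ω} (hPV : P ≤ V) {φ : P →* Ω} (hφ : φ ∈ D.Hom P) {α : MulAut V}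
    (hα : α ∈ F.autGroup V) :
    ∃ χ ∈ D.Hom (autImage α P), ∀ (x : P) (hx : ((α ⟨x, hPV x.2⟩ : V) : Ω) ∈ autImage α P),
      χ ⟨_, hx⟩ = ((α ⟨φ x, hom_mem hφ x⟩ : V) : Ω) := by
  have h1V : T₁ ≤ V := h.split.sup.le.trans' le_sup_left
  have h2V : T₂ ≤ V := h.split.sup.le.trans' le_sup_right
  have hVF := (mem_autGroup hV.1).1 hα
  obtain ⟨α₁, hα₁, hα₁e⟩ := exists_aut_restrict hV.1 hα h1V fun x =>
    stronglyClosed_apply_mem hE₁.2.1 hVF (x := Subgroup.inclusion h1V x) x.2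
  obtain ⟨α₂, hα₂, hα₂e⟩ := exists_aut_restrict hV.1 hα h2V fun x =>
    stronglyClosed_apply_mem hE₂.2.1 hVF (x := Subgroup.inclusion h2V x) x.2
  obtain ⟨φ₁, hφ₁, φ₂, hφ₂, he⟩ := h.exists_parts hφ
  obtain ⟨χ₁, hχ₁, hχ₁e⟩ := strongInv_transport hE₁.2.1 (isInvariant_strongInv hE₁) inf_le_left hφ₁ hα₁
  obtain ⟨χ₂, hχ₂, hχ₂e⟩ := strongInv_transport hE₂.2.1 (isInvariant_strongInv hE₂) inf_le_left hφ₂ hα₂
  obtain ⟨χ, hχ, hc₁, hc₂⟩ := exists_prod h.extFixes h.symm.extFixes hχ₁ hχ₂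
  have hPS : P ≤ T₁ ⊔ T₂ := hPV.trans h.split.sup.ge
  have hdec : ∀ x : P, ∃ a ∈ pr T₁ T₂ P, ∃ b ∈ pr T₂ T₁ P, (x : Ω) = a * b := fun x =>
    exists_mul_of_commute (fun a ha b hb => h.split.comm a (pr_le_left ha) b (pr_le_left hb))
      (le_pr_sup_pr h.split.comm hPS x.2)
  have hval : ∀ (x : P) (a b : Ω) (ha : a ∈ T₁) (hb : b ∈ T₂), (x : Ω) = a * b →
      ((α ⟨x, hPV x.2⟩ : V) : Ω) = ((α₁ ⟨a, ha⟩ : T₁) : Ω) * ((α₂ ⟨b, hb⟩ : T₂) : Ω) := by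
    intro x a b ha hb hab
    rw [hα₁e, hα₂e, ← Subgroup.coe_mul, ← map_mul]
    exact congrArg (fun z : V => ((α z : V) : Ω)) (Subtype.ext hab)
  have hle : autImage α P ≤ autImage α₁ (pr T₁ T₂ P) ⊔ autImage α₂ (pr T₂ T₁ P) := by
    intro y hy
    obtain ⟨z, hz, rfl⟩ := hy
    obtain ⟨a, ha, b, hb, hab⟩ := hdec ⟨(z : Ω), hz⟩
    have e := hval ⟨(z : Ω), hz⟩ a b ha.1 hb.1 hab
    show ((α z : V) : Ω) ∈ _
    rw [show ((α z : V) : Ω) = _ from e]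
    exact mul_mem (Subgroup.mem_sup_left ⟨⟨a, ha.1⟩, ha, rfl⟩)
      (Subgroup.mem_sup_right ⟨⟨b, hb.1⟩, hb, rfl⟩)
  refine ⟨_, restrict_mem hχ hle, fun x hx => ?_⟩
  obtain ⟨a, ha, b, hb, hab⟩ := hdec x
  have hma : ((α₁ ⟨a, ha.1⟩ : T₁) : Ω) ∈ autImage α₁ (pr T₁ T₂ P) := ⟨⟨a, ha.1⟩, ha, rfl⟩
  have hmb : ((α₂ ⟨b, hb.1⟩ : T₂) : Ω) ∈ autImage α₂ (pr T₂ T₁ P) := ⟨⟨b, hb.1⟩, hb, rfl⟩
  show χ ⟨_, hle hx⟩ = _
  rw [show (⟨((α ⟨x, hPV x.2⟩ : V) : Ω), hle hx⟩ : ↥(autImage α₁ (pr T₁ T₂ P) ⊔ autImage α₂ (pr T₂ T₁ P))) =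
    ⟨_, Subgroup.mem_sup_left hma⟩ * ⟨_, Subgroup.mem_sup_right hmb⟩ from Subtype.ext (hval x a b ha.1 hb.1 hab),
    map_mul, hc₁ _ hma, hc₂ _ hmb, hχ₁e ⟨a, ha⟩ hma, hχ₂e ⟨b, hb⟩ hmb, hα₁e, hα₂e, ← Subgroup.coe_mul,
    ← map_mul]
  exact congrArg (fun z : V => ((α z : V) : Ω)) (Subtype.ext (he x a b x.2 ha hb hab).symm)

/-- The factorization of the maps of `F` on a subgroup of `V`. -/
def Factors (F : FusionSystem S) (D : FusionSystem V) {P : Subgroup Ω} (φ : P →* Ω) : Prop :=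
  ∃ α ∈ F.autGroup V, ∃ φ₀ ∈ D.Hom P, ∀ (x : P) (hx : φ₀ x ∈ V), φ x = ((α ⟨φ₀ x, hx⟩ : V) : Ω)

/-- An automorphism extending to a bigger subgroup factors. -/
theorem factors_of_induced [Finite S] [Fact p.Prime] (hS : IsPGroup p S) (hF : F.IsSaturated p) (hV : V ≤ S)
    {Q M : Subgroup Ω} (hQ : F.IsFullyNormalized Q) (hMV : M ≤ normalizerIn V Q) (hQM : Q < M)
    (hIH : ∀ M' : Subgroup Ω, M' ≤ V → Nat.card Q < Nat.card M' → ∀ φ ∈ F.Hom M', Factors F D φ)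
    {a : MulAut Q} (ha : a ∈ F.autGroup Q)
    (hind : ∀ (g : Ω) (hg : g ∈ M), a * conjAut Q (hMV hg).2 * a⁻¹ ∈ autInducedBy S Q) :
    Factors F D (Q.subtype.comp a.toMonoidHom) := by
  have hQS := hQ.1
  haveI := finite_of_le hQS
  obtain ⟨hfc, -⟩ := isFullyAutomized_and_fc_of_fn hS hF hQ
  have hi := (mem_autGroup hQS).1 ha
  have hrange : (Q.subtype.comp a.toMonoidHom).range = Q := by
    ext y
    exact ⟨fun ⟨x, e⟩ => e ▸ (a x).2, fun hy => ⟨a⁻¹ ⟨y, hy⟩, by simp⟩⟩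
  obtain ⟨ψ, hψ, hψe⟩ := (isReceptive_of_fc hS hF hfc).2 Q _ hi hrange
  have hM : M ≤ extender S Q (Q.subtype.comp a.toMonoidHom) := fun t ht => by
    obtain ⟨s, hsS, hse⟩ := mem_autInducedBy.1 (hind t ht)
    refine mem_extender_of (hV (hMV ht).1) (hMV ht).2 hsS fun x hx => ?_
    show ((a _ : Q) : Ω) = s * ((a x : Q) : Ω) * s⁻¹
    rw [← hse (a x)]
    show _ = ((a (conjAut Q (hMV ht).2 (a⁻¹ (a x)))) : Ω)
    rw [MulAut.inv_apply_self]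
    exact congrArg (fun z => ((a z : Q) : Ω)) (Subtype.ext rfl)
  haveI := finite_of_le (hMV.trans ((normalizerIn_le (S := V) Q).trans hV))
  obtain ⟨α, hα, φ₁, hφ₁, he₁⟩ := hIH M (hMV.trans (normalizerIn_le Q))
    (Set.Finite.card_lt_card (Set.toFinite _) hQM) _ (restrict_mem hψ hM)
  refine ⟨α, hα, _, restrict_mem hφ₁ hQM.le, fun x hx => ?_⟩
  exact (hψe x x.2 _).symm.trans (he₁ (Subgroup.inclusion hQM.le x) hx)

/-- `a` induces the inner automorphism of `q` modulo `U`. -/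
def NearMod (U : Subgroup Ω) {Q : Subgroup Ω} (q : Q) (a : MulAut Q) : Prop :=
  ∀ x : Q, ((q * x * q⁻¹ : Q) : Ω)⁻¹ * ((a x : Q) : Ω) ∈ U

theorem nearMod_mul [Finite S] {U Q : Subgroup Ω} (hU : F.StronglyClosed U) (hQ : Q ≤ S) {q r : Q}
    {a b : MulAut Q} (haF : a ∈ F.autGroup Q) (ha : NearMod U q a) (hb : NearMod U r b) :
    NearMod U (q * r) (a * b) := by
  intro x
  set t : Q := (r * x * r⁻¹)⁻¹ * b x
  have hat : ((a t : Q) : Ω) ∈ U := stronglyClosed_aut_mem hU haF hQ (x := t) (hb x)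
  have h1 := ha (r * x * r⁻¹)
  have e : ((q * r * x * (q * r)⁻¹ : Q) : Ω)⁻¹ * (((a * b) x : Q) : Ω) =
      ((q * (r * x * r⁻¹) * q⁻¹ : Q) : Ω)⁻¹ * ((a (r * x * r⁻¹) : Q) : Ω) * ((a t : Q) : Ω) := by
    rw [← Subgroup.coe_inv, ← Subgroup.coe_inv, ← Subgroup.coe_mul, ← Subgroup.coe_mul, ← Subgroup.coe_mul,
      mul_assoc ((q * (r * x * r⁻¹) * q⁻¹)⁻¹), ← map_mul, show r * x * r⁻¹ * t = b x from mul_inv_cancel_left _ _]
    refine congrArg Subtype.val (congrArg₂ (· * ·) ?_ rfl)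
    group
  rw [e]
  exact U.mul_mem h1 hat

theorem nearMod_pow [Finite S] {U Q : Subgroup Ω} (hU : F.StronglyClosed U) (hQ : Q ≤ S) {q : Q}
    {a : MulAut Q} (haF : a ∈ F.autGroup Q) (ha : NearMod U q a) : ∀ n : ℕ, NearMod U (q ^ n) (a ^ n) := by
  intro n
  induction n with
  | zero => intro x; simp
  | succ n ih => rw [pow_succ', pow_succ']; exact nearMod_mul hU hQ haF ha ih

theorem nearMod_conj [Finite S] {U Q : Subgroup Ω} (hU : F.StronglyClosed U) (hQ : Q ≤ S) {q : Q}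
    {a g : MulAut Q} (hgF : g ∈ F.autGroup Q) (ha : NearMod U q a) : NearMod U (g q) (g * a * g⁻¹) := by
  intro x
  have h1 : ((g ((q * g⁻¹ x * q⁻¹)⁻¹ * a (g⁻¹ x)) : Q) : Ω) ∈ U :=
    stronglyClosed_aut_mem hU hgF hQ (x := (q * g⁻¹ x * q⁻¹)⁻¹ * a (g⁻¹ x)) (ha (g⁻¹ x))
  simpa only [map_mul, map_inv, MulAut.apply_inv_self, MulAut.mul_apply, Subgroup.coe_mul, Subgroup.coe_inv] using h1

/-- The automorphisms that are inner modulo either factor and fix their intersection. -/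
def nearAut [Finite S] {T₁ T₂ Q : Subgroup Ω} (h₁ : F.StronglyClosed T₁) (h₂ : F.StronglyClosed T₂) (hQ : Q ≤ S) :
    Subgroup (F.autGroup Q) :=
  let M : Submonoid (F.autGroup Q) :=
    { carrier := {a | (∀ x : Q, (x : Ω) ∈ T₁ ⊓ T₂ → (a : MulAut Q) x = x) ∧
        (∃ q : Q, NearMod T₁ q (a : MulAut Q)) ∧ ∃ q : Q, NearMod T₂ q (a : MulAut Q)}
      one_mem' := ⟨fun x _ => rfl, ⟨1, fun x => by simp⟩, ⟨1, fun x => by simp⟩⟩
      mul_mem' := by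
        rintro a b ⟨ha, ⟨q, hq⟩, ⟨r, hr⟩⟩ ⟨hb, ⟨q', hq'⟩, ⟨r', hr'⟩⟩
        exact ⟨fun x hx => by rw [Subgroup.coe_mul, MulAut.mul_apply, hb x hx, ha x hx],
          ⟨_, nearMod_mul h₁ hQ a.2 hq hq'⟩, ⟨_, nearMod_mul h₂ hQ a.2 hr hr'⟩⟩ }
  { M with
    inv_mem' := fun {a} ha => by
      show a⁻¹ ∈ M
      haveI := finite_of_le hQ
      haveI : Finite (MulAut Q) := Finite.of_injective (fun f => (f : Q → Q)) DFunLike.coe_injective
      rw [inv_eq_of_mul_eq_one_right (show a * a ^ (orderOf a - 1) = 1 by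
        rw [← pow_succ', Nat.sub_add_cancel (orderOf_pos a), pow_orderOf_eq_one])]
      exact M.pow_mem ha _ }

theorem mem_nearAut [Finite S] {Q : Subgroup Ω} {h₁ : F.StronglyClosed T₁} {h₂ : F.StronglyClosed T₂} {hQ : Q ≤ S}
    {a : F.autGroup Q} : a ∈ nearAut h₁ h₂ hQ ↔ (∀ x : Q, (x : Ω) ∈ T₁ ⊓ T₂ → (a : MulAut Q) x = x) ∧
      (∃ q : Q, NearMod T₁ q (a : MulAut Q)) ∧ ∃ q : Q, NearMod T₂ q (a : MulAut Q) := Iff.rfl

theorem nearAut_le_sylow [Finite S] [Fact p.Prime] (hS : IsPGroup p S) {Q : Subgroup Ω}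
    (h₁ : F.StronglyClosed T₁) (h₂ : F.StronglyClosed T₂) (hQ : Q ≤ S) (R : Sylow p (F.autGroup Q)) :
    (nearAut h₁ h₂ hQ).Normal ∧ nearAut h₁ h₂ hQ ≤ R := by
  haveI := finite_of_le hQ
  haveI : Finite (MulAut Q) := Finite.of_injective (fun f => (f : Q → Q)) DFunLike.coe_injective
  have h₀ : F.StronglyClosed (T₁ ⊓ T₂) :=
    ⟨inf_le_left.trans h₁.1, fun R hR φ hφ x => ⟨h₁.2 R (hR.trans inf_le_left) φ hφ x,
      h₂.2 R (hR.trans inf_le_right) φ hφ x⟩⟩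
  have hn : (nearAut h₁ h₂ hQ).Normal := ⟨fun a ha g => by
    obtain ⟨hfix, ⟨q, hq⟩, ⟨r, hr⟩⟩ := mem_nearAut.1 ha
    refine mem_nearAut.2 ⟨fun x hx => ?_, ⟨_, nearMod_conj h₁ hQ g.2 hq⟩, ⟨_, nearMod_conj h₂ hQ g.2 hr⟩⟩
    show (g : MulAut Q) ((a : MulAut Q) ((g : MulAut Q)⁻¹ x)) = x
    rw [hfix _ (stronglyClosed_aut_mem h₀ (inv_mem g.2) hQ hx), MulAut.apply_inv_self]⟩
  refine ⟨hn, ?_⟩
  have hp : IsPGroup p (nearAut h₁ h₂ hQ) := fun ⟨a, ha⟩ => by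
    obtain ⟨hfix, ⟨q, hq⟩, ⟨r, hr⟩⟩ := mem_nearAut.1 ha
    obtain ⟨k, hk⟩ := IsPGroup.iff_card.1 (hS.to_le hQ)
    have h1 := nearMod_pow h₁ hQ a.2 hq (p ^ k)
    have h2 := nearMod_pow h₂ hQ a.2 hr (p ^ k)
    rw [← hk, pow_card_eq_one'] at h1 h2
    obtain ⟨j, hj⟩ := isPGroup_aut_stab hS h₀ hQ (a := (a : MulAut Q) ^ Nat.card Q) (fun x hx => by
      have hall : ∀ n : ℕ, ((a : MulAut Q) ^ n) x = x := fun n => by
        induction n with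
        | zero => rfl
        | succ n ih => rw [pow_succ, MulAut.mul_apply, hfix x hx, ih]
      exact hall _) fun x => ⟨by simpa using h1 x, by simpa using h2 x⟩
    refine ⟨k + j, Subtype.ext (Subtype.ext ?_)⟩
    rw [Subgroup.coe_pow, Subgroup.coe_pow, pow_add, pow_mul, ← hk]
    exact hj
  exact (Cfsg.Lib.Core.le_pCore' hn hp).trans (Cfsg.Lib.Core.pCore_le_sylow R)

theorem nearMod_conjAut {U Q : Subgroup Ω} (hU : F.StronglyClosed U) (hQ : Q ≤ S) {g x₀ w : Ω}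
    (hg : g ∈ Subgroup.normalizer (Q : Set Ω)) (hx₀ : x₀ ∈ Q) (hw : w ∈ U) (he : g = x₀ * w) :
    NearMod U ⟨x₀, hx₀⟩ (conjAut Q hg) := by
  intro y
  show (x₀ * (y : Ω) * x₀⁻¹)⁻¹ * (g * y * g⁻¹) ∈ U
  rw [show (x₀ * (y : Ω) * x₀⁻¹)⁻¹ * (g * y * g⁻¹) = x₀ * ((y : Ω)⁻¹ * w * (y : Ω) * w⁻¹) * x₀⁻¹ by rw [he]; group]
  refine stronglyClosed_conj_mem hU (hQ hx₀) (U.mul_mem ?_ (U.inv_mem hw))
  simpa using stronglyClosed_conj_mem hU (inv_mem (hQ y.2)) hw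

/-- The product is weakly normal. -/
theorem IsProd.isInvariantIn [Finite S] [Fact p.Prime] (hS : IsPGroup p S) (hF : F.IsSaturated p)
    (h : IsProd D E₁ E₂) (hsub : D.IsSubsystemOf F) (hE₁ : E₁.IsInvariantIn F) (hE₂ : E₂.IsInvariantIn F) :
    D.IsInvariantIn F := by
  have hT₁ := hE₁.2.1
  have hT₂ := hE₂.2.1
  have hV : F.StronglyClosed V := h.split.sup ▸ stronglyClosed_sup hS hF hT₁ hT₂
  refine ⟨hsub, hV, fun P hPV φ hφ α hα => ?_, fun P hP φ hφ => ?_⟩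
  · obtain ⟨χ, hχ, hχe⟩ := h.transport hV hE₁ hE₂ hPV hφ hα
    exact ⟨χ, hχ, fun x _ hx => hχe x hx⟩
  refine frattini_of_aut hS hF hV (fun hPV φ hφ α hα => h.transport hV hE₁ hE₂ hPV hφ hα) ?_
    _ P hP (Nat.le_add_left _ _) φ hφ
  intro Q hQ hlt hIH β hβ
  have hVS := hV.1
  haveI := finite_of_le hVS
  have hQV : Q ≤ V := hlt.le
  have hQS := hQ.1
  haveI := finite_of_le hQS
  haveI : Finite (MulAut Q) := Finite.of_injective (fun f => (f : Q → Q)) DFunLike.coe_injective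
  obtain ⟨hfc, -, R, hR⟩ := isFullyAutomized_and_fc_of_fn hS hF hQ
  have hQ12 : Q ≤ T₁ ⊔ T₂ := hQV.trans h.split.sup.ge
  set Qh := pr T₁ T₂ Q ⊔ pr T₂ T₁ Q with hQh
  have hQle : Q ≤ Qh := le_pr_sup_pr h.split.comm hQ12
  have hQhV : Qh ≤ V := (sup_le_sup inf_le_left inf_le_left).trans h.split.sup.le
  suffices hfac : Factors F D (Q.subtype.comp β.toMonoidHom) from hfac
  by_cases hcut : Qh ≤ Q
  swap
  · -- the product of the parts is bigger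
    haveI := finite_of_le (hQhV.trans hVS)
    have hn : normalizerIn Qh Q ≤ normalizerIn V Q := fun g hg => ⟨hQhV hg.1, hg.2⟩
    refine factors_of_induced hS hF hVS hQ hn
      (lt_normalizerIn (hS.to_le (hQhV.trans hVS)) (lt_of_le_of_ne hQle fun e => hcut e.ge)) hIH hβ
      fun g hg => ?_
    have hgV : g ∈ T₁ ⊔ T₂ := h.split.sup.ge (hQhV hg.1)
    have hcA : conjAut Q (hn hg).2 ∈ F.autGroup Q :=
      autInducedBy_le_autGroup hQS (conjAut_mem_autInducedBy _ (hVS (hn hg).1))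
    obtain ⟨hnorm, hle⟩ := nearAut_le_sylow hS hT₁ hT₂ hQS R
    have hmem : (⟨_, hcA⟩ : F.autGroup Q) ∈ nearAut hT₁ hT₂ hQS := by
      refine mem_nearAut.2 ⟨fun z hz => Subtype.ext ?_, ?_, ?_⟩
      · show g * (z : Ω) * g⁻¹ = z
        obtain ⟨a, ha, b, hb, rfl⟩ := exists_mul_of_commute h.split.comm hgV
        rw [mul_inv_rev]
        calc a * b * (z : Ω) * (b⁻¹ * a⁻¹) = a * (b * z * b⁻¹) * a⁻¹ := by group
          _ = z := by
            rw [← h.split.comm _ hz.1 b hb, mul_inv_cancel_right, h.split.comm a ha _ hz.2, mul_inv_cancel_right]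
      · have hle1 : Qh ≤ Q ⊔ T₁ := sup_le (inf_le_left.trans le_sup_right) inf_le_right
        obtain ⟨x₀, hx₀, w, hw, he⟩ := exists_mul_pr (C := T₂) (D := T₁)
          (fun b hb a ha => (h.split.comm a ha b hb).symm) (sup_comm T₁ T₂ ▸ hQ12) (hle1 hg.1)
        exact ⟨⟨x₀, hx₀⟩, nearMod_conjAut hT₁ hQS _ hx₀ hw he⟩
      · have hle2 : Qh ≤ Q ⊔ T₂ := sup_le inf_le_right (inf_le_left.trans le_sup_right)
        obtain ⟨x₀, hx₀, w, hw, he⟩ := exists_mul_pr h.split.comm hQ12 (hle2 hg.1)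
        exact ⟨⟨x₀, hx₀⟩, nearMod_conjAut hT₂ hQS _ hx₀ hw he⟩
    have hc := hle (hnorm.conj_mem _ hmem ⟨β, hβ⟩)
    rw [hR] at hc
    exact hc
  -- the automorphisms of the product form a normal subgroup
  have hp1 : pr T₁ T₂ Q ≤ Q := le_sup_left.trans hcut
  have hp2 : pr T₂ T₁ Q ≤ Q := le_sup_right.trans hcut
  have hLn : ((D.autGroup Q).subgroupOf (F.autGroup Q)).Normal := ⟨fun k hk g => by
    have hkD : Q.subtype.comp (k : MulAut Q).toMonoidHom ∈ D.Hom Q := (mem_autGroup hQV).1 hk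
    have hgF := (mem_autGroup hQS).1 g.2
    have key : ∀ {A B : Subgroup Ω} {EA : FusionSystem A} {EB : FusionSystem B}, IsProd D EA EB →
        EA.IsInvariantIn F → (hpA : pr A B Q ≤ Q) →
        ∃ χ ∈ EA.Hom (pr A B Q), ∀ y : pr A B Q,
          χ y = ((((g * k * g⁻¹ : F.autGroup Q) : MulAut Q) (Subgroup.inclusion hpA y) : Q) : Ω) := by
      intro A B EA EB hAB hEA hpA
      have hkA : (Q.subtype.comp (k : MulAut Q).toMonoidHom).comp (Subgroup.inclusion hpA) ∈ EA.Hom (pr A B Q) :=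
        hAB.mem_left.2 ⟨inf_le_left, restrict_mem hkD hpA⟩
      have hmemA : ∀ z : Q, (z : Ω) ∈ A → (z : Ω) ∈ pr A B Q := fun z hz => ⟨hz, Subgroup.mem_sup_left z.2⟩
      have hmap : ∀ (a : MulAut Q), a ∈ F.autGroup Q → ∀ y : pr A B Q,
          ((a (Subgroup.inclusion hpA y) : Q) : Ω) ∈ pr A B Q := fun a ha y =>
        hmemA _ (stronglyClosed_aut_mem hEA.2.1 ha hQS y.2.1)
      obtain ⟨χ, hχ, hχe⟩ := isInvariant_strongInv hEA _ _ le_rfl inf_le_left _ hkA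
        (fun y => hmemA _ (hom_mem hkA y)) _ (restrict_mem hgF hpA)
      have hle : pr A B Q ≤ ((pr A B Q).subgroupOf (pr A B Q)).map
          ((Q.subtype.comp (g : MulAut Q).toMonoidHom).comp (Subgroup.inclusion hpA)) := fun y hy =>
        ⟨⟨_, hmap _ (inv_mem g.2) ⟨y, hy⟩⟩, hmap _ (inv_mem g.2) ⟨y, hy⟩, by
          show (((g : MulAut Q) ((g : MulAut Q)⁻¹ ⟨y, hpA hy⟩) : Q) : Ω) = y
          rw [MulAut.apply_inv_self]⟩
      refine ⟨_, restrict_mem hχ hle, fun y => ?_⟩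
      have hy0 := hmap _ (inv_mem g.2) y
      refine (congrArg χ (Subtype.ext ?_)).trans ((hχe ⟨_, hy0⟩ (hle ?_)).trans rfl)
      · show (y : Ω) = (((g : MulAut Q) ((g : MulAut Q)⁻¹ (Subgroup.inclusion hpA y)) : Q) : Ω)
        rw [MulAut.apply_inv_self]
        rfl
      · show (((g : MulAut Q) ((g : MulAut Q)⁻¹ (Subgroup.inclusion hpA y)) : Q) : Ω) ∈ pr A B Q
        rw [MulAut.apply_inv_self]
        exact y.2
    obtain ⟨χ₁, hχ₁, hχ₁e⟩ := key h hE₁ hp1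
    obtain ⟨χ₂, hχ₂, hχ₂e⟩ := key h.symm hE₂ hp2
    obtain ⟨χ, hχ, hc₁, hc₂⟩ := exists_prod h.extFixes h.symm.extFixes hχ₁ hχ₂
    refine (mem_autGroup hQV).2 (hom_congr (restrict_mem hχ hQle) fun x => ?_)
    obtain ⟨a, ha, b, hb, hab⟩ := exists_mul_of_commute
      (fun a ha b hb => h.split.comm a (pr_le_left ha) b (pr_le_left hb)) (hQle x.2)
    show _ = χ ⟨(x : Ω), hQle x.2⟩
    rw [show (⟨(x : Ω), hQle x.2⟩ : Qh) = ⟨a, Subgroup.mem_sup_left ha⟩ * ⟨b, Subgroup.mem_sup_right hb⟩ from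
      Subtype.ext hab, χ.map_mul, hc₁ a ha, hc₂ b hb, hχ₁e ⟨a, ha⟩, hχ₂e ⟨b, hb⟩, ← Subgroup.coe_mul,
      ← (((g * k * g⁻¹ : F.autGroup Q) : MulAut Q)).map_mul]
    exact congrArg (fun z : Q => ((((g * k * g⁻¹ : F.autGroup Q) : MulAut Q) z : Q) : Ω)) (Subtype.ext hab)⟩
  obtain ⟨a, haN, l, hl, hal⟩ := exists_normalizer_factor R ((D.autGroup Q).subgroupOf (F.autGroup Q)) ⟨β, hβ⟩
  have hstep : Factors F D (Q.subtype.comp (a : MulAut Q).toMonoidHom) := by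
    refine factors_of_induced hS hF hVS hQ le_rfl (lt_normalizerIn (hS.to_le hVS) hlt) hIH a.2 fun g hg => ?_
    have hcA : conjAut Q hg.2 ∈ F.autGroup Q :=
      autInducedBy_le_autGroup hQS (conjAut_mem_autInducedBy hg.2 (hVS hg.1))
    have hcmem : (⟨_, hcA⟩ : F.autGroup Q) ∈ (R : Subgroup (F.autGroup Q)) ⊓
        (D.autGroup Q).subgroupOf (F.autGroup Q) :=
      ⟨by rw [hR]; exact conjAut_mem_autInducedBy hg.2 (hVS hg.1),
        autInducedBy_le_autGroup hQV (conjAut_mem_autInducedBy hg.2 hg.1)⟩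
    have h1 := ((Subgroup.mem_normalizer_iff.1 haN _).1 hcmem).1
    rw [hR] at h1
    exact h1
  obtain ⟨α, hα, φ₁, hφ₁, he₁⟩ := hstep
  refine ⟨α, hα, _, D.comp_mem ((mem_autGroup hQV).1 hl) hφ₁ (fun x => ((l : MulAut Q) x).2), fun x hx => ?_⟩
  refine Eq.trans ?_ (he₁ ((l : MulAut Q) x) hx)
  show ((β x : Q) : Ω) = _
  rw [show β = (a : MulAut Q) * (l : MulAut Q) from congrArg Subtype.val hal]
  rfl

/-- The automorphisms of `V C_S(V)` moving `C_S(V)` modulo the centre of `V`. -/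
def centralMove [Finite S] (hV : F.StronglyClosed V) : Submonoid (MulAut ↥(V ⊔ centralizerIn S V)) where
  carrier := {β | β ∈ F.autGroup (V ⊔ centralizerIn S V) ∧ ∀ c : ↥(V ⊔ centralizerIn S V),
    (c : Ω) ∈ centralizerIn S V → (c : Ω)⁻¹ * ((β c : _) : Ω) ∈ V ⊓ Subgroup.centralizer (V : Set Ω)}
  one_mem' := ⟨one_mem _, fun c _ => by simp⟩
  mul_mem' := by
    rintro a b ⟨ha, ha'⟩ ⟨hb, hb'⟩
    refine ⟨mul_mem ha hb, fun c hc => ?_⟩
    have := mul_mem (hb' c hc) (ha' (b c) (aut_apply_mem_centralizerIn hV hb hc))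
    rwa [mul_assoc, mul_inv_cancel_left] at this

/-- The automorphisms of one factor extend with centre moves, fixing the other factor. -/
theorem IsProd.exists_ext_left [Finite S] [Fact p.Prime] (hS : IsPGroup p S) (h : IsProd D E₁ E₂)
    (hV : F.StronglyClosed V) (hE : E₁.IsNormalIn F p) (hT₂ : F.StronglyClosed T₂) {a : MulAut T₁}
    (ha : a ∈ E₁.autGroup T₁) :
    ∃ β ∈ centralMove hV, (∀ (x : ↥(V ⊔ centralizerIn S V)) (hx : (x : Ω) ∈ T₁),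
        ((β x : _) : Ω) = ((a ⟨x, hx⟩ : T₁) : Ω)) ∧
      ∀ x : ↥(V ⊔ centralizerIn S V), (x : Ω) ∈ T₂ → β x = x := by
  have hT₁ : F.StronglyClosed T₁ := hE.1.2.2.2.1
  have h1S := hT₁.1
  haveI := finite_of_le h1S
  haveI : Finite (MulAut T₁) := Finite.of_injective (fun f => (f : T₁ → T₁)) DFunLike.coe_injective
  have h1V : T₁ ≤ V := h.split.sup.le.trans' le_sup_left
  have h2V : T₂ ≤ V := h.split.sup.le.trans' le_sup_right
  have hWS : V ⊔ centralizerIn S V ≤ S := sup_le hV.1 (centralizerIn_le V)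
  have hcomm12 : ∀ t ∈ T₁, ∀ u ∈ T₂, t * u = u * t := h.split.comm
  have hCS := centralizesSystem_of_commute hS hE hT₂ hcomm12 h.fix
  let M : Submonoid (MulAut T₁) :=
    { carrier := {a | ∃ β ∈ centralMove hV, (∀ (x : ↥(V ⊔ centralizerIn S V)) (hx : (x : Ω) ∈ T₁),
          ((β x : _) : Ω) = ((a ⟨x, hx⟩ : T₁) : Ω)) ∧
        ∀ x : ↥(V ⊔ centralizerIn S V), (x : Ω) ∈ T₂ → β x = x}
      one_mem' := ⟨1, one_mem _, fun x hx => rfl, fun x _ => rfl⟩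
      mul_mem' := by
        rintro a b ⟨β, hβ, he, hf⟩ ⟨γ, hγ, he', hf'⟩
        refine ⟨β * γ, mul_mem hβ hγ, fun x hx => ?_, fun x hx => by
          rw [MulAut.mul_apply, hf' x hx, hf x hx]⟩
        have hm : ((γ x : _) : Ω) ∈ T₁ := (he' x hx).symm ▸ (b ⟨x, hx⟩).2
        rw [MulAut.mul_apply, he _ hm, MulAut.mul_apply]
        exact congrArg (fun z => ((a z : T₁) : Ω)) (Subtype.ext (he' x hx)) }
  let K : Subgroup (MulAut T₁) :=
    { M with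
      inv_mem' := fun {a} ha => by
        show a⁻¹ ∈ M
        rw [inv_eq_of_mul_eq_one_right (show a * a ^ (orderOf a - 1) = 1 by
          rw [← pow_succ', Nat.sub_add_cancel (orderOf_pos a), pow_orderOf_eq_one])]
        exact M.pow_mem ha _ }
  obtain ⟨-, -, R, hR⟩ := isFullyAutomized_and_fc_of_fn (hS.to_le h1S) hE.1.1 (isFullyNormalized_top E₁)
  suffices hle : E₁.autGroup T₁ ≤ K from hle ha
  refine le_of_sylow_of_coprime R ?_ fun b hb hcop => ?_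
  · rw [hR, Subgroup.map_subgroupOf_eq_of_le (autInducedBy_le_autGroup le_rfl)]
    intro b hb
    obtain ⟨t, ht, hte⟩ := mem_autInducedBy.1 hb
    have hn : t ∈ Subgroup.normalizer ((V ⊔ centralizerIn S V : Subgroup Ω) : Set Ω) :=
      Subgroup.le_normalizer (Subgroup.mem_sup_left (h1V ht))
    refine ⟨conjAut _ hn, ⟨autInducedBy_le_autGroup hWS (conjAut_mem_autInducedBy hn (h1S ht)), fun c hc => ?_⟩,
      fun x hx => (hte ⟨x, hx⟩).symm, fun x hx => Subtype.ext ?_⟩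
    · show (c : Ω)⁻¹ * (t * c * t⁻¹) ∈ _
      rw [← (mem_centralizerIn.1 hc).2 t (h1V ht), mul_inv_cancel_right, inv_mul_cancel]
      exact one_mem _
    · show t * (x : Ω) * t⁻¹ = x
      rw [hcomm12 t ht _ hx, mul_inv_cancel_right]
  · obtain ⟨ψ, hψ, m, hm, hψm, ham, hψa⟩ := exists_goodExt_pPrime (mem_goodAut_top hE hb) hcop
    have hW'S : T₁ ⊔ centralizerIn S T₁ ≤ S := sup_le h1S (centralizerIn_le T₁)
    have h2C : T₂ ≤ centralizerIn S T₁ := fun u hu =>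
      mem_centralizerIn.2 ⟨hT₂.1 hu, fun t ht => (hcomm12 t ht u hu).symm⟩
    have hfx : ∀ (x : ↥(T₁ ⊔ centralizerIn S T₁)), (x : Ω) ∈ T₂ → ψ x = x := by
      intro x hx
      have hfn : F.IsFullyNormalized T₁ := ⟨h1S, fun R hR' => by
        obtain ⟨φ, hφ, rfl⟩ := hR'
        rw [range_eq_of_card_le hφ h1S (fun x => hT₁.2 T₁ le_rfl φ hφ x) le_rfl]⟩
      have hcen : E₁.IsCentric T₁ := ⟨le_rfl, fun R hR' => by
        rw [eq_top_of_isConj hR']; exact centralizerIn_le _⟩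
      exact aut_eq_self_of_mem_fixSub (le_fixSub hS hE.1.2.1 hCS hx) le_rfl hfn hcen hψ hm hψm hb ham hψa x.2
    have hWW : V ⊔ centralizerIn S V ≤ T₁ ⊔ centralizerIn S T₁ := by
      refine sup_le (h.split.sup.ge.trans (sup_le_sup_left h2C _)) ?_
      exact (centralizerIn_anti h1V).trans le_sup_right
    have hψC : ∀ c : ↥(T₁ ⊔ centralizerIn S T₁), (c : Ω) ∈ centralizerIn S V →
        (c : Ω)⁻¹ * ((ψ c : _) : Ω) ∈ V ⊓ Subgroup.centralizer (V : Set Ω) ∧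
          ((ψ c : _) : Ω) ∈ centralizerIn S V := by
      intro c hc
      have hc1 : (c : Ω) ∈ centralizerIn S T₁ := centralizerIn_anti h1V hc
      have hz1 : (c : Ω)⁻¹ * ((ψ c : _) : Ω) ∈ T₁ := hψ.2 c hc1
      have hψc : ((ψ c : _) : Ω) ∈ centralizerIn S T₁ :=
        aut_apply_mem_centralizerIn hT₁ hψ.1.1 hc1
      have hzC : (c : Ω)⁻¹ * ((ψ c : _) : Ω) ∈ centralizerIn S V := by
        refine mem_centralizerIn.2 ⟨h1S hz1, fun v hv => ?_⟩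
        obtain ⟨u, hu, w, hw, rfl⟩ := h.split.exists_mul hv
        have e1 : Commute ((c : Ω)⁻¹ * ((ψ c : _) : Ω)) u :=
          (mem_centralizerIn.1 (mul_mem (inv_mem hc1) hψc)).2 u hu
        have e2 : Commute ((c : Ω)⁻¹ * ((ψ c : _) : Ω)) w := hcomm12 _ hz1 w hw
        exact (e1.mul_right e2).eq
      refine ⟨⟨h1V hz1, fun v hv => ((mem_centralizerIn.1 hzC).2 v hv).symm⟩, ?_⟩
      have := mul_mem hc hzC
      rwa [mul_inv_cancel_left] at this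
    obtain ⟨β, hβ, hβe⟩ := exists_aut_restrict hW'S hψ.1.1 hWW fun x => by
      refine hom_mem_of_sup (f := (((T₁ ⊔ centralizerIn S T₁).subtype.comp ψ.toMonoidHom).comp
        (Subgroup.inclusion hWW))) (fun y hy => ?_) (fun y hy => ?_) x
      · obtain ⟨u, hu, w, hw, he⟩ := h.split.exists_mul hy
        show ((ψ ⟨(y : Ω), hWW y.2⟩ : _) : Ω) ∈ _
        rw [show (⟨(y : Ω), hWW y.2⟩ : ↥(T₁ ⊔ centralizerIn S T₁)) =
          ⟨u, Subgroup.mem_sup_left hu⟩ * ⟨w, Subgroup.mem_sup_right (h2C hw)⟩ from Subtype.ext he, map_mul,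
          Subgroup.coe_mul, hfx ⟨w, Subgroup.mem_sup_right (h2C hw)⟩ hw, show (⟨u, Subgroup.mem_sup_left hu⟩ : ↥(T₁ ⊔ centralizerIn S T₁)) =
            Subgroup.inclusion le_sup_left ⟨u, hu⟩ from rfl, hψa]
        exact Subgroup.mem_sup_left (mul_mem (h1V (b ⟨u, hu⟩).2) (h2V hw))
      · exact Subgroup.mem_sup_right (hψC (Subgroup.inclusion hWW y) hy).2
    refine ⟨β, ⟨hβ, fun c hc => ?_⟩, fun x hx => ?_, fun x hx => Subtype.ext ?_⟩
    · rw [hβe]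
      exact (hψC (Subgroup.inclusion hWW c) hc).1
    · rw [hβe]
      exact hψa ⟨x, hx⟩
    · rw [hβe, hfx (Subgroup.inclusion hWW x) hx]
      rfl

/-- A central product of normal subsystems is normal. -/
theorem IsProd.isNormalIn [Finite S] [Fact p.Prime] (hS : IsPGroup p S) (h : IsProd D E₁ E₂)
    (hE₁ : E₁.IsNormalIn F p) (hE₂ : E₂.IsNormalIn F p) (hD : D.IsSaturated p) : D.IsNormalIn F p := by
  have hF := hE₁.1.2.1
  have hT₁ : F.StronglyClosed T₁ := hE₁.1.2.2.2.1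
  have hT₂ : F.StronglyClosed T₂ := hE₂.1.2.2.2.1
  have hsub : D.IsSubsystemOf F :=
    h.subsystem (extFixes_of_centralizesSystem (centralizesSystem_of_commute hS hE₁ hT₂ h.split.comm h.fix))
      (extFixes_of_centralizesSystem (centralizesSystem_of_commute hS hE₂ hT₁ h.symm.split.comm h.symm.fix))
  have hinv := h.isInvariantIn hS hF hsub hE₁.1.2.2 hE₂.1.2.2
  have hV := hinv.2.1
  refine ⟨⟨hD, hF, hinv⟩, fun α hα => ?_⟩
  have h1V : T₁ ≤ V := h.split.sup.le.trans' le_sup_left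
  have h2V : T₂ ≤ V := h.split.sup.le.trans' le_sup_right
  haveI := finite_of_le hV.1
  have hαD := (mem_autGroup le_rfl).1 hα
  obtain ⟨a₁, ha₁, ha₁e⟩ := exists_aut_restrict le_rfl hα h1V fun x =>
    stronglyClosed_apply_mem h.split.left hαD (x := Subgroup.inclusion h1V x) x.2
  obtain ⟨a₂, ha₂, ha₂e⟩ := exists_aut_restrict le_rfl hα h2V fun x =>
    stronglyClosed_apply_mem h.split.right hαD (x := Subgroup.inclusion h2V x) x.2
  obtain ⟨β₁, hβ₁, hb₁, hf₁⟩ := h.exists_ext_left hS hV hE₁ hT₂ ((mem_autGroup le_rfl).2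
    (h.mem_left.2 ⟨le_rfl, (mem_autGroup h1V).1 ha₁⟩))
  obtain ⟨β₂, hβ₂, hb₂, hf₂⟩ := h.symm.exists_ext_left hS hV hE₂ hT₁ ((mem_autGroup le_rfl).2
    (h.mem_right.2 ⟨le_rfl, (mem_autGroup h2V).1 ha₂⟩))
  obtain ⟨hβ, hβc⟩ := mul_mem hβ₁ hβ₂
  refine ⟨β₁ * β₂, hβ, fun x => ?_, hβc⟩
  obtain ⟨u, hu, w, hw, he⟩ := h.split.exists_mul x.2
  rw [show Subgroup.inclusion le_sup_left x =
    (⟨u, Subgroup.mem_sup_left (h1V hu)⟩ * ⟨w, Subgroup.mem_sup_left (h2V hw)⟩ :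
      ↥(V ⊔ centralizerIn S V)) from Subtype.ext he, map_mul, MulAut.mul_apply, MulAut.mul_apply,
    hf₂ _ hu, Subgroup.coe_mul, hb₁ _ hu, show β₁ (β₂ ⟨w, Subgroup.mem_sup_left (h2V hw)⟩) =
      β₂ ⟨w, Subgroup.mem_sup_left (h2V hw)⟩ from hf₁ _ (by rw [hb₂ _ hw]; exact (a₂ ⟨w, hw⟩).2),
    hb₂ _ hw, ha₁e, ha₂e, ← Subgroup.coe_mul, ← map_mul]
  exact congrArg (fun z : V => ((α z : V) : Ω)) (Subtype.ext he.symm)

theorem isPGroup_prodSubgroup {A B : Subgroup Ω} (h₁ : IsPGroup p A) (h₂ : IsPGroup p B) :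
    IsPGroup p ↥(A.prod B) := by
  rintro ⟨⟨a, b⟩, ha, hb⟩
  obtain ⟨i, hi⟩ := h₁ ⟨a, ha⟩
  obtain ⟨j, hj⟩ := h₂ ⟨b, hb⟩
  refine ⟨i + j, Subtype.ext (Prod.ext ?_ ?_)⟩
  · have hi' : a ^ p ^ i = 1 := congrArg Subtype.val hi
    simp [pow_add, pow_mul, hi']
  · have hj' : b ^ p ^ j = 1 := congrArg Subtype.val hj
    simp [pow_add, mul_comm (p ^ i), pow_mul, hj']

/-- The central product of two saturated systems over commuting groups with central intersection. -/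
theorem exists_centralProduct [Finite S] [Fact p.Prime] (hS : IsPGroup p S) (h1S : T₁ ≤ S) (h2S : T₂ ≤ S)
    (hs₁ : E₁.IsSaturated p) (hs₂ : E₂.IsSaturated p) (hcomm : ∀ a ∈ T₁, ∀ b ∈ T₂, a * b = b * a)
    (hz₁ : T₁ ⊓ T₂ ≤ E₁.center) (hz₂ : T₁ ⊓ T₂ ≤ E₂.center) :
    ∃ D : FusionSystem (T₁ ⊔ T₂), IsCentralProductOf E₁ E₂ D ∧ D.IsSaturated p := by
  haveI := finite_of_le h1S
  haveI := finite_of_le h2S
  haveI : Finite ↥(T₁.prod T₂) := Finite.of_equiv _ (Subgroup.prodEquiv T₁ T₂).symm.toEquiv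
  obtain ⟨D₀, hD₀⟩ := exists_productSystem E₁ E₂
  have hD₀s : D₀.IsSaturated p := isSaturated_product (hS.to_le h1S) (hS.to_le h2S) hs₁ hs₂ hD₀
  let θ : ↥(T₁.prod T₂) →* Ω :=
    { toFun := fun w => (w : Ω × Ω).1 * (w : Ω × Ω).2
      map_one' := mul_one 1
      map_mul' := fun v w => by
        show (v : Ω × Ω).1 * (w : Ω × Ω).1 * ((v : Ω × Ω).2 * (w : Ω × Ω).2) = _
        rw [mul_assoc, ← mul_assoc (w : Ω × Ω).1, hcomm _ w.2.1 _ v.2.2]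
        group }
  set Z : Subgroup (Ω × Ω) := θ.ker.map (T₁.prod T₂).subtype
  have hker : ∀ s : T₁.prod T₂, θ s = 1 ↔ (s : Ω × Ω) ∈ Z := fun s =>
    ⟨fun h => ⟨s, h, rfl⟩, fun ⟨t, ht, e⟩ => (Subtype.ext e : t = s) ▸ ht⟩
  have hZmem : ∀ z ∈ Z, z.1 ∈ T₁ ⊓ T₂ ∧ z.2 ∈ T₁ ⊓ T₂ := by
    rintro _ ⟨⟨z, hz1, hz2⟩, hz, rfl⟩
    have e1 : z.1 = z.2⁻¹ := eq_inv_of_mul_eq_one_left hz
    refine ⟨⟨hz1, ?_⟩, ⟨?_, hz2⟩⟩
    · show z.1 ∈ T₂
      exact e1 ▸ inv_mem hz2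
    · show z.2 ∈ T₁
      rw [show z.2 = z.1⁻¹ by rw [e1, inv_inv]]
      exact inv_mem hz1
  have hZle : Z ≤ T₁.prod T₂ := Subgroup.map_subtype_le _
  have hZc : D₀.IsCentral Z := by
    refine ⟨hZle, fun R ψ hψ => ?_⟩
    obtain ⟨hR, φ₁, hφ₁, φ₂, hφ₂, he⟩ := (hD₀ _ _).1 hψ
    obtain ⟨χ₁, hχ₁, hχ₁e, hχ₁f⟩ := (isCentral_center E₁).2 _ φ₁ hφ₁
    obtain ⟨χ₂, hχ₂, hχ₂e, hχ₂f⟩ := (isCentral_center E₂).2 _ φ₂ hφ₂
    have hl₁ : proj₁ (R ⊔ Z) ≤ proj₁ R ⊔ E₁.center := by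
      refine (Subgroup.map_sup R Z _).le.trans ?_
      exact sup_le_sup_left (fun y ⟨z, hz, e⟩ => e ▸ hz₁ (hZmem z hz).1) _
    have hl₂ : proj₂ (R ⊔ Z) ≤ proj₂ R ⊔ E₂.center := by
      refine (Subgroup.map_sup R Z _).le.trans ?_
      exact sup_le_sup_left (fun y ⟨z, hz, e⟩ => e ▸ hz₂ (hZmem z hz).2) _
    refine ⟨prodHom (R ⊔ Z) (χ₁.comp (Subgroup.inclusion hl₁)) (χ₂.comp (Subgroup.inclusion hl₂)),
      (hD₀ _ _).2 ⟨sup_le hR hZle, _, restrict_mem hχ₁ hl₁, _, restrict_mem hχ₂ hl₂, isProdHom_prodHom _ _ _⟩,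
      fun x => ?_, fun x => ?_⟩
    · rw [he x ⟨x, x.2, rfl⟩ ⟨x, x.2, rfl⟩]
      exact Prod.ext (hχ₁e ⟨(x : Ω × Ω).1, ⟨x, x.2, rfl⟩⟩) (hχ₂e ⟨(x : Ω × Ω).2, ⟨x, x.2, rfl⟩⟩)
    · exact Prod.ext (hχ₁f ⟨(x : Ω × Ω).1, hz₁ (hZmem x x.2).1⟩)
        (hχ₂f ⟨(x : Ω × Ω).2, hz₂ (hZmem x x.2).2⟩)
  have hZs : D₀.StronglyClosed Z := ⟨hZle, fun R hR ψ hψ x => by
    obtain ⟨χ, -, hχe, hχf⟩ := hZc.2 R ψ hψ
    rw [← hχe x]
    exact (hχf ⟨x, hR x.2⟩).symm ▸ hR x.2⟩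
  have hrange : θ.range = T₁ ⊔ T₂ := by
    refine le_antisymm ?_ fun x hx => ?_
    · rintro _ ⟨w, rfl⟩
      exact mul_mem (Subgroup.mem_sup_left w.2.1) (Subgroup.mem_sup_right w.2.2)
    · obtain ⟨a, ha, b, hb, rfl⟩ := exists_mul_of_commute hcomm hx
      exact ⟨⟨(a, b), ha, hb⟩, rfl⟩
  obtain ⟨D, hD⟩ := exists_factorSystem hZs hker hrange
  refine ⟨D, ⟨D₀, hD₀, Z, θ, le_sSup hZc, ?_, ?_, fun x hx => mul_one x, fun y hy => one_mul y, hD⟩,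
    isSaturated_factor (isPGroup_prodSubgroup (hS.to_le h1S) (hS.to_le h2S)) hD₀s hZs hD⟩
  · rw [eq_bot_iff]
    rintro ⟨a, b⟩ ⟨⟨w, hw, e⟩, -, hb⟩
    have hb' : b = 1 := Subgroup.mem_bot.1 hb
    have hw' : (w : Ω × Ω).1 * (w : Ω × Ω).2 = 1 := hw
    rw [show (w : Ω × Ω) = (a, b) from e, hb', mul_one] at hw'
    exact Subgroup.mem_bot.2 (Prod.ext hw' hb')
  · rw [eq_bot_iff]
    rintro ⟨a, b⟩ ⟨⟨w, hw, e⟩, ha, -⟩
    have ha' : a = 1 := Subgroup.mem_bot.1 ha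
    have hw' : (w : Ω × Ω).1 * (w : Ω × Ω).2 = 1 := hw
    rw [show (w : Ω × Ω) = (a, b) from e, ha', one_mul] at hw'
    exact Subgroup.mem_bot.2 (Prod.ext ha' hw')

/-- Every central product of normal subsystems is normal. -/
theorem isNormalIn_of_centralProduct [Finite S] [Fact p.Prime] (hS : IsPGroup p S) (hE₁ : E₁.IsNormalIn F p)
    (hE₂ : E₂.IsNormalIn F p) (hc : IsCentralProductOf E₁ E₂ D) : D.IsNormalIn F p := by
  have h1S : T₁ ≤ S := hE₁.1.2.2.2.1.1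
  have h2S : T₂ ≤ S := hE₂.1.2.2.2.1.1
  haveI := finite_of_le h1S
  haveI := finite_of_le h2S
  haveI : Finite ↥(T₁.prod T₂) := Finite.of_equiv _ (Subgroup.prodEquiv T₁ T₂).symm.toEquiv
  obtain ⟨D₀, hD₀, Z, θ, hZ, h1, h2, h3, h4, hfac⟩ := hc
  have hD₀s : D₀.IsSaturated p := isSaturated_product (hS.to_le h1S) (hS.to_le h2S) hE₁.1.1 hE₂.1.1 hD₀
  have hpT : IsPGroup p (T₁.prod T₂) := isPGroup_prodSubgroup (hS.to_le h1S) (hS.to_le h2S)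
  have hZs : D₀.StronglyClosed Z := ⟨hfac.1, fun R hR ψ hψ x => by
    obtain ⟨χ, -, hχe, hχf⟩ := (isCentral_center D₀).2 R ψ hψ
    rw [← hχe x]
    exact (hχf ⟨x, hZ (hR x.2)⟩).symm ▸ hR x.2⟩
  have hDs : D.IsSaturated p := isSaturated_factor hpT hD₀s hZs hfac
  haveI : Finite V := hfac.2.2.1 ▸ Finite.of_surjective θ.rangeRestrict θ.rangeRestrict_surjective
  exact (isProd_of_centralProduct (E₁ := E₁) (E₂ := E₂) (D := D)
    ⟨D₀, hD₀, Z, θ, hZ, h1, h2, h3, h4, hfac⟩).isNormalIn hS hE₁ hE₂ hDs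

/-- The centre of the `p'`-residual subsystem contains the strongly closed central subgroups of the group. -/
theorem le_center_residual [Finite T] [Fact p.Prime] (hT : IsPGroup p T) (hE : E.IsSaturated p) {R : FusionSystem T}
    (hR : E.IsPPrimeResidual p R) {Z : Subgroup Ω} (hZ : E.StronglyClosed Z)
    (hZc : ∀ t ∈ T, ∀ z ∈ Z, t * z = z * t) : Z ≤ R.center := by
  have hZT := hZ.1
  haveI := finite_of_le hZT
  haveI : Finite (MulAut Z) := Finite.of_injective (fun f => (f : Z → Z)) DFunLike.coe_injective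
  have hnorm : E.IsNormal Z := by
    refine isNormal_of_series hT hE (fun i => if i = 0 then ⊥ else Z) 1 rfl rfl (fun i _ => ?_) fun i hi g hg y hy => ?_
    · rcases i with _ | i
      · exact stronglyClosed_bot E
      · exact hZ
    · obtain rfl : i = 0 := by omega
      have hy' : y ∈ Z := hy
      show _ ∈ (⊥ : Subgroup Ω)
      rw [Subgroup.mem_bot, commutatorElement_eq_one_iff_mul_comm]
      exact hZc g (hZT hg) y hy'
  have hTC : T ≤ centralizerIn T Z := fun t ht => mem_centralizerIn.2 ⟨ht, fun z hz => hZc t ht z hz⟩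
  have hCT : centralizerIn T Z = T := le_antisymm (centralizerIn_le Z) hTC
  obtain ⟨C, hC⟩ := exists_centralizerSystem E hZT
  obtain ⟨K, hK⟩ := exists_copy hCT C
  have hfn : E.IsFullyNormalized Z := ⟨hZT, fun R' hR' => by
    obtain ⟨φ, hφ, rfl⟩ := hR'
    rw [range_eq_of_card_le hφ hZT (fun x => hZ.2 Z le_rfl φ hφ x) le_rfl]⟩
  obtain ⟨hfc, -, Ry, hRy⟩ := isFullyAutomized_and_fc_of_fn hT hE hfn
  have hKs : K.IsSaturated p := isSaturated_copy hCT.symm hK (isSaturated_centralizerSystem hT hE hfc hC)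
  have hsubK : K.IsSubsystemOf E := fun P φ hφ => by
    rw [hK, hC] at hφ
    exact hφ.1
  have htriv : ∀ a ∈ E.autGroup Z, (∃ k : ℕ, a ^ p ^ k = 1) → a = 1 := by
    intro a ha hk
    obtain ⟨k, hk⟩ := hk
    have hp' : IsPGroup p (Subgroup.zpowers (⟨a, ha⟩ : E.autGroup Z)) := by
      rintro ⟨_, i, rfl⟩
      refine ⟨k, Subtype.ext ?_⟩
      show ((⟨a, ha⟩ : E.autGroup Z) ^ i) ^ p ^ k = 1
      rw [← zpow_natCast, ← zpow_mul, mul_comm, zpow_mul, zpow_natCast,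
        show (⟨a, ha⟩ : E.autGroup Z) ^ p ^ k = 1 from Subtype.ext hk, one_zpow]
    obtain ⟨R', hR'⟩ := hp'.exists_le_sylow
    have hbot : (Ry : Subgroup (E.autGroup Z)) = ⊥ := by
      rw [hRy, eq_bot_iff]
      intro x hx
      obtain ⟨t, ht, hte⟩ := mem_autInducedBy.1 (Subgroup.mem_subgroupOf.1 hx)
      refine Subgroup.mem_bot.2 (Subtype.ext (MulEquiv.ext fun z => Subtype.ext ?_))
      rw [hte z, hZc t ht z z.2, mul_inv_cancel_right]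
      rfl
    have h2 : (R' : Subgroup (E.autGroup Z)) = ⊥ := Subgroup.eq_bot_of_card_eq _ (by
      rw [R'.card_eq_multiplicity, ← Ry.card_eq_multiplicity, Subgroup.card_eq_one.2 hbot])
    have h3 : (⟨a, ha⟩ : E.autGroup Z) ∈ (R' : Subgroup (E.autGroup Z)) := hR' (Subgroup.mem_zpowers _)
    rw [h2, Subgroup.mem_bot] at h3
    exact congrArg Subtype.val h3
  have hidx : K.HasPrimeToPIndexIn E p := by
    refine ⟨hsubK, fun P hP => ?_⟩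
    rw [Subgroup.map_le_iff_le_comap, Subgroup.closure_le]
    rintro a ⟨k, hk⟩
    show (a : MulAut P) ∈ K.autGroup P
    haveI := finite_of_le hP
    have haF := (mem_autGroup hP).1 a.2
    obtain ⟨ψ, hψ, hψe, hψZ⟩ := hnorm.2 P _ haF
    have hPZ : P ⊔ Z ≤ T := sup_le hP hZT
    haveI := finite_of_le hPZ
    haveI : Finite (MulAut ↥(P ⊔ Z)) := Finite.of_injective (fun f => (f : ↥(P ⊔ Z) → ↥(P ⊔ Z))) DFunLike.coe_injective
    obtain ⟨θ, hθ, hθe⟩ := exists_aut_of_hom hψ (hom_mem_of_sup (fun y hy => by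
        rw [show y = Subgroup.inclusion le_sup_left ⟨(y : Ω), hy⟩ from rfl, hψe]
        exact Subgroup.mem_sup_left ((a : MulAut P) _).2) fun y hy =>
      Subgroup.mem_sup_right (hψZ.le ⟨y, hy, rfl⟩))
    obtain ⟨u, v, hv, huv⟩ := Nat.exists_eq_pow_mul_and_not_dvd (orderOf_pos θ).ne' p (Fact.out : p.Prime).ne_one
    obtain ⟨i, hi⟩ := exists_pow_eq_self_of_coprime (x := (a : MulAut P)) (n := v) (by
      rw [Subgroup.orderOf_coe, hk]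
      exact Nat.Coprime.pow_right k ((Fact.out : p.Prime).coprime_iff_not_dvd.2 hv).symm)
    have hθv : θ ^ (v * i) ∈ E.autGroup (P ⊔ Z) := pow_mem hθ _
    obtain ⟨ζ, hζ, hζe⟩ := exists_aut_restrict hPZ hθv (le_sup_right : Z ≤ P ⊔ Z) fun x =>
      stronglyClosed_apply_mem hZ ((mem_autGroup hPZ).1 hθv) (x := Subgroup.inclusion le_sup_right x) x.2
    have hζ1 : ζ = 1 := htriv ζ hζ ⟨u, aut_pow_eq_one le_sup_right hζe (by
      rw [← pow_mul, show v * i * p ^ u = p ^ u * v * i by ring, ← huv, pow_mul, pow_orderOf_eq_one, one_pow])⟩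
    have hPC : P ≤ centralizerIn T Z := hP.trans hTC
    refine (mem_autGroup hP).2 ?_
    show _ ∈ K.Hom P
    rw [hK, hC]
    refine ⟨haF, hPC, fun x => hPC ((a : MulAut P) x).2,
      _, (mem_autGroup hPZ).1 hθv, fun x => ?_, fun x => ?_⟩
    · refine (aut_pow_agree le_sup_left (θ := (a : MulAut P)) (fun y => ((hθe _).trans (hψe y)).symm)
        (v * i) x).symm.trans ?_
      rw [pow_mul, hi]
      rfl
    · refine (hζe x).symm.trans ?_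
      rw [hζ1]
      rfl
  refine le_sSup ((isCentral_iff hT hR.1 Z).2 ⟨hZT, ?_⟩)
  rintro x hx y ⟨φ, hφ, rfl⟩
  have hφK := hR.2.2 K hKs hidx _ hφ
  rw [hK, hC] at hφK
  obtain ⟨-, -, -, ψ, -, hψe, hψf⟩ := hφK
  exact (hψe ⟨x, Subgroup.mem_zpowers x⟩).symm.trans (hψf ⟨x, hx⟩)

end Cfsg.Lib.FusionSys
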