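import Cfsg.Agent.Lib.FusionSys.CentralizerOfNormal

/-!
The focal subgroup of `C_F(T)` centralizes the normal subsystem over `T`.
-/

set_option autoImplicit false
set_option linter.style.haveILetI false

namespace Cfsg.Lib.FusionSys

open Cfsg Cfsg.FusionSystem

variable {Ω : Type*} [Group Ω] {S T : Subgroup Ω} {F : FusionSystem S} {E : FusionSystem T} {p : ℕ}

theorem inv_mul_map_mem_fixSub [Finite S] [Fact p.Prime] (hS : IsPGroup p S) (hF : F.IsSaturated p)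
    (hT : F.StronglyClosed T) {x : Ω} (hx : x ∈ centralizerIn S T)
    {δ : (T ⊔ Subgroup.zpowers x : Subgroup Ω) →* Ω} (hδ : δ ∈ F.Hom (T ⊔ Subgroup.zpowers x))
    (hfix : ∀ t : ↥(T ⊔ Subgroup.zpowers x), (t : Ω) ∈ T → δ t = t) :
    x⁻¹ * δ ⟨x, Subgroup.mem_sup_right (Subgroup.mem_zpowers x)⟩ ∈ fixSub F E p hT := by
  set x₁ : ↥(T ⊔ Subgroup.zpowers x) := ⟨x, Subgroup.mem_sup_right (Subgroup.mem_zpowers x)⟩ with hx₁
  have hy : δ x₁ ∈ centralizerIn S T := by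
    refine mem_centralizerIn.2 ⟨hom_mem hδ _, fun t ht => ?_⟩
    obtain ⟨t', ht', rfl⟩ : ∃ t' : ↥(T ⊔ Subgroup.zpowers x), (t' : Ω) ∈ T ∧ δ t' = t :=
      ⟨⟨t, Subgroup.mem_sup_left ht⟩, ht, hfix _ ht⟩
    rw [← map_mul, ← map_mul]
    exact congrArg δ (Subtype.ext ((mem_centralizerIn.1 hx).2 _ ht'))
  set y := δ x₁ with hydef
  refine ⟨mul_mem (inv_mem hx) hy, fun Q hQT hQn hQc ψ hψ m hm hψm a ha ham hψa h => ?_⟩
  have hQS : Q ≤ S := hQT.trans hT.1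
  have hZ : centralizerIn T Q ≤ Q := hQc.2 Q (isConj_refl E hQT)
  have hfc := (isFullyAutomized_and_fc_of_fn hS hF hQn).1
  have hxQ : x ∈ centralizerIn S Q := centralizerIn_anti hQT hx
  have hyQ : y ∈ centralizerIn S Q := centralizerIn_anti hQT hy
  have hXC : Subgroup.zpowers x ≤ centralizerIn S Q := Subgroup.zpowers_le.2 hxQ
  have hYC : Subgroup.zpowers y ≤ centralizerIn S Q := Subgroup.zpowers_le.2 hyQ
  have hle : Q ⊔ Subgroup.zpowers x ≤ T ⊔ Subgroup.zpowers x := sup_le_sup_right hQT _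
  have hδ' := restrict_mem hδ hle
  have hr : (δ.comp (Subgroup.inclusion hle)).range = Q ⊔ Subgroup.zpowers y := by
    apply le_antisymm
    · rintro _ ⟨w, rfl⟩
      refine hom_mem_of_sup (fun z hz => ?_) (fun z hz => ?_) w
      · show δ (Subgroup.inclusion hle z) ∈ _
        rw [hfix (Subgroup.inclusion hle z) (hQT hz)]
        exact Subgroup.mem_sup_left hz
      · obtain ⟨n, hn⟩ := Subgroup.mem_zpowers_iff.1 hz
        show δ (Subgroup.inclusion hle z) ∈ _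
        rw [show Subgroup.inclusion hle z = x₁ ^ n from Subtype.ext hn.symm, map_zpow]
        exact Subgroup.mem_sup_right (zpow_mem (Subgroup.mem_zpowers y) n)
    · exact sup_le (fun q hq => ⟨⟨q, Subgroup.mem_sup_left hq⟩, hfix _ (hQT hq)⟩)
        (Subgroup.zpowers_le.2 ⟨⟨x, Subgroup.mem_sup_right (Subgroup.mem_zpowers x)⟩, rfl⟩)
  set e := homIso hδ' hr with hedef
  have he : IsoIn F e := isoIn_homIso hδ' hr
  have hRS : Q ⊔ centralizerIn S Q ≤ S := sup_le hQS (centralizerIn_le Q)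
  have hW : Q ⊔ Subgroup.zpowers x ≤ Q ⊔ centralizerIn S Q := sup_le_sup_left hXC Q
  have hv : ∀ z : ↥(Q ⊔ Subgroup.zpowers x),
      ((ψ (Subgroup.inclusion hW z) : _) : Ω) ∈ Q ⊔ Subgroup.zpowers x := by
    refine hom_mem_of_sup (f := ((Q ⊔ centralizerIn S Q).subtype.comp ψ.toMonoidHom).comp
      (Subgroup.inclusion hW)) (fun z hz => Subgroup.mem_sup_left ((hψ.1.2 _).1 hz)) fun z hz => ?_
    obtain ⟨-, u, hu, hzu, -⟩ := goodExt_central hZ hψ (Subgroup.inclusion hW z) (hXC hz)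
    show ((ψ (Subgroup.inclusion hW z) : _) : Ω) ∈ _
    rw [hzu]
    exact mul_mem (Subgroup.mem_sup_right hz) (Subgroup.mem_sup_left hu)
  obtain ⟨θ, hθ, hθe⟩ := exists_aut_restrict hRS hψ.1.1 hW hv
  -- the transported automorphism
  have hval : ∀ z : ↥(Q ⊔ Subgroup.zpowers x), (z : Ω) ∈ Q → (e z : Ω) = z := fun z hz =>
    hfix (Subgroup.inclusion hle z) (hQT hz)
  have hθ' := congr_mem_autGroup he hθ
  have hθQ : ∀ z : ↥(Q ⊔ Subgroup.zpowers x), (z : Ω) ∈ Q →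
      (e (θ z) : Ω) = ((ψ (Subgroup.inclusion hW z) : _) : Ω) := fun z hz => by
    rw [hval (θ z) (by rw [hθe]; exact (hψ.1.2 _).1 hz), hθe]
  have hθX : ∀ (z : ↥(Q ⊔ Subgroup.zpowers x)) (u : Ω) (hu : u ∈ Q),
      ((θ z : _) : Ω) = (z : Ω) * u → (e (θ z) : Ω) = (e z : Ω) * u := by
    intro z u hu hzu
    rw [show θ z = z * ⟨u, Subgroup.mem_sup_left hu⟩ from Subtype.ext hzu, map_mul, Subgroup.coe_mul,
      hval ⟨u, Subgroup.mem_sup_left hu⟩ hu]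
  have hrig := goodExt_rigid hS hF hZ hfc hψ hm hψm hYC hθ'
    (fun z hz => by
      obtain ⟨z₀, rfl⟩ := e.surjective z
      have hz₀ : (z₀ : Ω) ∈ Q := by
        obtain ⟨q, hq⟩ : ∃ q : ↥(Q ⊔ Subgroup.zpowers x), (q : Ω) = (e z₀ : Ω) ∧ e q = e z₀ :=
          ⟨⟨(e z₀ : Ω), Subgroup.mem_sup_left hz⟩, rfl,
            Subtype.ext (hval ⟨(e z₀ : Ω), Subgroup.mem_sup_left hz⟩ hz)⟩
        rw [← e.injective hq.2, hq.1]
        exact hz
      show (e (θ (e.symm (e z₀))) : Ω) = _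
      rw [MulEquiv.symm_apply_apply, hθQ z₀ hz₀]
      exact congrArg (fun w => ((ψ w : _) : Ω)) (Subtype.ext (hval z₀ hz₀).symm))
    (fun z hz => by
      obtain ⟨n, hn⟩ := Subgroup.mem_zpowers_iff.1 hz
      set z₀ : ↥(Q ⊔ Subgroup.zpowers x) :=
        ⟨x, Subgroup.mem_sup_right (Subgroup.mem_zpowers x)⟩ ^ n with hz₀def
      have hez₀ : e z₀ = z := Subtype.ext (by
        rw [hz₀def, map_zpow]
        exact (Subgroup.coe_zpow _ _ _).trans hn)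
      have hzC : (Subgroup.inclusion hW z₀ : Ω) ∈ centralizerIn S Q := by
        show (z₀ : Ω) ∈ _
        rw [hz₀def, Subgroup.coe_zpow]
        exact zpow_mem hxQ n
      obtain ⟨-, u, hu, hzu, -⟩ := goodExt_central hZ hψ _ hzC
      show (z : Ω)⁻¹ * (e (θ (e.symm z)) : Ω) ∈ T
      rw [← hez₀, MulEquiv.symm_apply_apply, hθX z₀ u hu ((hθe z₀).trans hzu), inv_mul_cancel_left]
      exact hQT hu)
    (by rw [← map_pow, aut_pow_eq_one hW hθe hψm, map_one])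
  -- compare
  set x₀ : ↥(Q ⊔ centralizerIn S Q) := ⟨x, Subgroup.mem_sup_right hxQ⟩ with hx₀def
  set y₀ : ↥(Q ⊔ centralizerIn S Q) := ⟨y, Subgroup.mem_sup_right hyQ⟩ with hy₀def
  obtain ⟨-, u, hu, hxu, huc⟩ := goodExt_central hZ hψ x₀ hxQ
  set xW : ↥(Q ⊔ Subgroup.zpowers x) := ⟨x, Subgroup.mem_sup_right (Subgroup.mem_zpowers x)⟩
  have hψy : ((ψ y₀ : _) : Ω) = y * u := by
    refine Eq.trans ?_ ((hrig (e xW)).symm.trans ?_).symm.symm
    · exact congrArg (fun w => ((ψ w : _) : Ω)) (Subtype.ext rfl)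
    · show (e (θ (e.symm (e xW))) : Ω) = y * u
      rw [MulEquiv.symm_apply_apply, hθX xW u hu ((hθe xW).trans hxu)]
      rfl
  apply Subtype.ext
  rw [show (⟨x⁻¹ * y, h⟩ : ↥(Q ⊔ centralizerIn S Q)) = x₀⁻¹ * y₀ from rfl, map_mul, map_inv]
  show ((ψ x₀ : _) : Ω)⁻¹ * ((ψ y₀ : _) : Ω) = x⁻¹ * y
  rw [hxu, hψy]
  show (x * u)⁻¹ * (y * u) = x⁻¹ * y
  have hc : Commute u (x⁻¹ * y) := huc _ h
  calc (x * u)⁻¹ * (y * u) = u⁻¹ * ((x⁻¹ * y) * u) := by group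
    _ = u⁻¹ * (u * (x⁻¹ * y)) := by rw [hc.eq]
    _ = x⁻¹ * y := inv_mul_cancel_left _ _

/-- The focal subgroup of `C_F(T)` lies in `C_S(E)`. -/
theorem inv_mul_map_mem_systemCentralizer [Finite S] [Fact p.Prime] (hS : IsPGroup p S)
    (hF : F.IsSaturated p) (hT : F.StronglyClosed T) {x : Ω} (hx : x ∈ centralizerIn S T)
    {δ : (T ⊔ Subgroup.zpowers x : Subgroup Ω) →* Ω} (hδ : δ ∈ F.Hom (T ⊔ Subgroup.zpowers x))
    (hfix : ∀ t : ↥(T ⊔ Subgroup.zpowers x), (t : Ω) ∈ T → δ t = t) :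
    x⁻¹ * δ ⟨x, Subgroup.mem_sup_right (Subgroup.mem_zpowers x)⟩ ∈ systemCentralizer F E p hT := by
  set x₁ : ↥(T ⊔ Subgroup.zpowers x) := ⟨x, Subgroup.mem_sup_right (Subgroup.mem_zpowers x)⟩ with hx₁
  have hy : δ x₁ ∈ centralizerIn S T := by
    refine mem_centralizerIn.2 ⟨hom_mem hδ _, fun t ht => ?_⟩
    obtain ⟨t', ht', rfl⟩ : ∃ t' : ↥(T ⊔ Subgroup.zpowers x), (t' : Ω) ∈ T ∧ δ t' = t :=
      ⟨⟨t, Subgroup.mem_sup_left ht⟩, ht, hfix _ ht⟩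
    rw [← map_mul, ← map_mul]
    exact congrArg δ (Subtype.ext ((mem_centralizerIn.1 hx).2 _ ht'))
  refine ⟨mul_mem (inv_mem hx) hy, fun γ hγ h => ?_⟩
  have hWS : T ⊔ centralizerIn S T ≤ S := sup_le hT.1 (centralizerIn_le T)
  set x' : ↥(T ⊔ centralizerIn S T) := γ ⟨x, Subgroup.mem_sup_right hx⟩ with hx'def
  set y' : ↥(T ⊔ centralizerIn S T) := γ ⟨δ x₁, Subgroup.mem_sup_right hy⟩ with hy'def
  have hx'C : (x' : Ω) ∈ centralizerIn S T := aut_apply_mem_centralizerIn hT hγ hx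
  have hxsup : Subgroup.zpowers x ⊔ T ≤ T ⊔ Subgroup.zpowers x := (sup_comm _ _).le
  have hle : Subgroup.zpowers x ⊔ T ≤ T ⊔ centralizerIn S T :=
    sup_le ((Subgroup.zpowers_le.2 hx).trans le_sup_right) le_sup_left
  have hδW : ∀ z, (δ.comp (Subgroup.inclusion hxsup)) z ∈ T ⊔ centralizerIn S T := by
    refine hom_mem_of_sup (fun z hz => ?_) fun z hz => ?_
    · obtain ⟨n, hn⟩ := Subgroup.mem_zpowers_iff.1 hz
      show δ (Subgroup.inclusion hxsup z) ∈ _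
      rw [show Subgroup.inclusion hxsup z = x₁ ^ n from Subtype.ext hn.symm, map_zpow]
      exact zpow_mem (Subgroup.mem_sup_right hy) n
    · show δ (Subgroup.inclusion hxsup z) ∈ _
      rw [hfix (Subgroup.inclusion hxsup z) hz]
      exact Subgroup.mem_sup_left hz
  obtain ⟨χ, hχ, hχe, hχT⟩ := exists_fix_move (restrict_mem hδ hxsup) ((mem_autGroup hWS).1 hγ) hle hδW
    (fun t => hfix (Subgroup.inclusion hxsup (Subgroup.inclusion le_sup_right t)) t.2)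
  have hsub : T ⊔ Subgroup.zpowers (x' : Ω) ≤ ((Subgroup.zpowers x).subgroupOf (T ⊔ centralizerIn S T)).map
      ((T ⊔ centralizerIn S T).subtype.comp γ.toMonoidHom) ⊔ (T.subgroupOf (T ⊔ centralizerIn S T)).map
      ((T ⊔ centralizerIn S T).subtype.comp γ.toMonoidHom) := by
    rw [sup_comm T]
    refine sup_le_sup (Subgroup.zpowers_le.2 ⟨_, Subgroup.mem_zpowers x, rfl⟩) fun t ht => ?_
    refine ⟨γ⁻¹ ⟨t, Subgroup.mem_sup_left ht⟩, ?_, ?_⟩
    · exact stronglyClosed_apply_mem hT ((mem_autGroup hWS).1 (inv_mem hγ)) (x := ⟨t, _⟩) ht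
    · exact congrArg Subtype.val (MulAut.apply_inv_self _ γ _)
  have hkey := inv_mul_map_mem_fixSub (E := E) hS hF hT hx'C (restrict_mem hχ hsub) (fun t ht =>
    hχT ⟨(t : Ω), by
      refine ⟨γ⁻¹ ⟨t, Subgroup.mem_sup_left ht⟩, ?_, ?_⟩
      · exact stronglyClosed_apply_mem hT ((mem_autGroup hWS).1 (inv_mem hγ)) (x := ⟨(t : Ω), _⟩) ht
      · exact congrArg Subtype.val (MulAut.apply_inv_self _ γ _)⟩)
  have hχx : χ (Subgroup.inclusion hsub ⟨(x' : Ω), Subgroup.mem_sup_right (Subgroup.mem_zpowers _)⟩) =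
      (y' : Ω) := by
    refine (congrArg χ (Subtype.ext rfl)).trans ((hχe ⟨x, Subgroup.mem_zpowers x⟩ ?_).trans ?_)
    · exact hsub (Subgroup.mem_sup_right (Subgroup.mem_zpowers _))
    · exact congrArg (fun w => ((γ w : _) : Ω)) (Subtype.ext rfl)
  have hγz : ((γ ⟨x⁻¹ * δ x₁, h⟩ : _) : Ω) = (x' : Ω)⁻¹ * (y' : Ω) := by
    rw [show (⟨x⁻¹ * δ x₁, h⟩ : ↥(T ⊔ centralizerIn S T)) =
      ⟨x, Subgroup.mem_sup_right hx⟩⁻¹ * ⟨δ x₁, Subgroup.mem_sup_right hy⟩ from rfl, map_mul, map_inv]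
    rfl
  rw [hγz, ← hχx]
  exact hkey

end Cfsg.Lib.FusionSys
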