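import Cfsg.Agent.Lib.FusionSys.GoodAut
import Cfsg.Agent.Lib.FusionSys.ResidualExtension
import Cfsg.Agent.Lib.FusionSys.Local

/-!
The centralizer in `S` of a normal subsystem `E` over `T`: the largest subgroup `X` of `C_S(T)` with `E` in
`C_F(X)`.
-/

set_option autoImplicit false
set_option linter.style.haveILetI false

namespace Cfsg.Lib.FusionSys

open Cfsg Cfsg.FusionSystem
open scoped Pointwise

variable {Ω : Type*} [Group Ω] {S T : Subgroup Ω} {F : FusionSystem S} {E : FusionSystem T} {p : ℕ}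

/-- Every map of `E` extends to a map of `F` fixing `X ≤ C_S(T)`. -/
def CentralizesSystem (F : FusionSystem S) (E : FusionSystem T) (X : Subgroup Ω) : Prop :=
  X ≤ centralizerIn S T ∧ ∀ P : Subgroup Ω, E.Hom P ⊆ F.centralizerHom X P

theorem le_centralizerIn_of_le {X : Subgroup Ω} (hTS : T ≤ S) (hX : X ≤ centralizerIn S T) :
    T ≤ centralizerIn S X := fun t ht =>
  mem_centralizerIn.2 ⟨hTS ht, fun x hx => ((mem_centralizerIn.1 (hX hx)).2 t ht).symm⟩

theorem mem_centralizerHom_of_ext {X : Subgroup Ω} (hsub : E.IsSubsystemOf F) (hTS : T ≤ S)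
    (hX : X ≤ centralizerIn S T) {P : Subgroup Ω} {φ : P →* Ω} (hφ : φ ∈ E.Hom P)
    (h : ∃ ψ ∈ F.Hom (P ⊔ X), (∀ x : P, ψ (Subgroup.inclusion le_sup_left x) = φ x) ∧
      ∀ x : X, ψ (Subgroup.inclusion le_sup_right x) = x) : φ ∈ F.centralizerHom X P :=
  ⟨hsub _ hφ, (hom_le hφ).trans (le_centralizerIn_of_le hTS hX),
    fun x => le_centralizerIn_of_le hTS hX (hom_mem hφ x), h⟩

theorem centralizesSystem_mono (hsub : E.IsSubsystemOf F) (hTS : T ≤ S) {X Y : Subgroup Ω} (hXY : X ≤ Y)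
    (hY : CentralizesSystem F E Y) : CentralizesSystem F E X := by
  refine ⟨hXY.trans hY.1, fun P φ hφ => mem_centralizerHom_of_ext hsub hTS (hXY.trans hY.1) hφ ?_⟩
  obtain ⟨-, -, -, ψ, hψ, hψP, hψY⟩ := hY.2 P hφ
  exact ⟨_, restrict_mem hψ (sup_le_sup_left hXY P), fun x => hψP x,
    fun x => hψY (Subgroup.inclusion hXY x)⟩

/-- Conjugating a map that fixes `X` gives a map that fixes the image of `X`. -/
theorem exists_fix_move {P X W : Subgroup Ω} {ψ : (P ⊔ X : Subgroup Ω) →* Ω} (hψ : ψ ∈ F.Hom (P ⊔ X))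
    {γ : W →* Ω} (hγ : γ ∈ F.Hom W) (hle : P ⊔ X ≤ W) (hψW : ∀ x, ψ x ∈ W)
    (hfix : ∀ x : X, ψ (Subgroup.inclusion le_sup_right x) = x) :
    ∃ χ ∈ F.Hom ((P.subgroupOf W).map γ ⊔ (X.subgroupOf W).map γ),
      (∀ (x : P) (hx : γ (Subgroup.inclusion hle (Subgroup.inclusion le_sup_left x)) ∈
          (P.subgroupOf W).map γ ⊔ (X.subgroupOf W).map γ),
        χ ⟨_, hx⟩ = γ ⟨ψ (Subgroup.inclusion le_sup_left x), hψW _⟩) ∧
      ∀ y : ↥((X.subgroupOf W).map γ), χ (Subgroup.inclusion le_sup_right y) = y := by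
  obtain ⟨ρ, hρ, hρr, hρe⟩ := exists_inv hγ rfl
  have hU : (P.subgroupOf W).map γ ⊔ (X.subgroupOf W).map γ ≤ γ.range :=
    sup_le (fun _ ⟨x, _, hx⟩ => ⟨x, hx⟩) fun _ ⟨x, _, hx⟩ => ⟨x, hx⟩
  have hρ' := restrict_mem hρ hU
  have hρv : ∀ y, (ρ.comp (Subgroup.inclusion hU)) y ∈ P ⊔ X := by
    refine hom_mem_of_sup (fun y hy => ?_) fun y hy => ?_
    · obtain ⟨x, hx, hxy⟩ := hy
      refine Subgroup.mem_sup_left ?_
      show ρ (Subgroup.inclusion hU y) ∈ P
      rw [show Subgroup.inclusion hU y = (⟨γ x, MonoidHom.mem_range.2 ⟨x, rfl⟩⟩ : γ.range) from Subtype.ext hxy.symm,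
        hρe]
      exact hx
    · obtain ⟨x, hx, hxy⟩ := hy
      refine Subgroup.mem_sup_right ?_
      show ρ (Subgroup.inclusion hU y) ∈ X
      rw [show Subgroup.inclusion hU y = (⟨γ x, MonoidHom.mem_range.2 ⟨x, rfl⟩⟩ : γ.range) from Subtype.ext hxy.symm,
        hρe]
      exact hx
  have h2 := F.comp_mem hρ' hψ hρv
  refine ⟨_, F.comp_mem h2 hγ (fun y => hψW _), fun x hx => ?_, ?_⟩
  · show γ ⟨ψ ⟨ρ (Subgroup.inclusion hU ⟨_, hx⟩), _⟩, _⟩ = _
    exact congrArg γ (Subtype.ext (congrArg ψ (Subtype.ext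
      (hρe (Subgroup.inclusion hle (Subgroup.inclusion le_sup_left x)) (hU hx)))))
  · rintro ⟨y, x, hx, rfl⟩
    show γ ⟨ψ ⟨ρ (Subgroup.inclusion hU _), _⟩, _⟩ = γ x
    refine congrArg γ (Subtype.ext (Eq.trans ?_ (hfix ⟨(x : Ω), hx⟩)))
    exact congrArg ψ (Subtype.ext (hρe x ⟨x, rfl⟩))

/-- A map on `T X` carries a subgroup centralizing `E` to one centralizing `E`. -/
theorem centralizesSystem_map [Finite S] (hEi : E.IsInvariantIn F) {X W : Subgroup Ω}
    (hX : CentralizesSystem F E X) {γ : W →* Ω} (hγ : γ ∈ F.Hom W) (hle : T ⊔ X ≤ W) :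
    CentralizesSystem F E ((X.subgroupOf W).map γ) := by
  have hsc := hEi.2.1
  have hTS := hsc.1
  have hTW : T ≤ W := le_sup_left.trans hle
  have hXW : X ≤ W := le_sup_right.trans hle
  have hr : (γ.comp (Subgroup.inclusion hTW)).range = T :=
    range_eq_of_card_le (restrict_mem hγ hTW) hTS
      (fun x => hsc.2 T le_rfl _ (restrict_mem hγ hTW) x) le_rfl
  obtain ⟨α, hα, hαe⟩ : ∃ α ∈ F.autGroup T, ∀ x : T, ((α x : T) : Ω) = γ (Subgroup.inclusion hTW x) :=
    ⟨homIso (restrict_mem hγ hTW) hr, (mem_autGroup hTS).2 (isoIn_homIso _ hr), fun _ => rfl⟩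
  have hX' : (X.subgroupOf W).map γ ≤ centralizerIn S T := by
    rintro _ ⟨x, hx, rfl⟩
    refine mem_centralizerIn.2 ⟨hom_mem hγ x, fun t ht => ?_⟩
    have h := hαe (α⁻¹ ⟨t, ht⟩)
    rw [MulAut.apply_inv_self] at h
    change t = _ at h
    rw [h, ← map_mul, ← map_mul]
    exact congrArg γ (Subtype.ext ((mem_centralizerIn.1 (hX.1 hx)).2 _ (α⁻¹ ⟨t, ht⟩).2))
  refine ⟨hX', fun P φ hφ => mem_centralizerHom_of_ext hEi.1 hTS hX' hφ ?_⟩
  have hPT : P ≤ T := hom_le hφ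
  obtain ⟨φ₁, hφ₁, hφ₁e⟩ := strongInv_transport hsc (isInvariant_strongInv hEi) hPT hφ
    ((F.autGroup T).inv_mem hα)
  obtain ⟨-, -, -, ψ, hψ, hψP, hψX⟩ := hX.2 _ hφ₁
  have hP₁ : autImage α⁻¹ P ≤ W := (hom_le hφ₁).trans hTW
  have hψW : ∀ y, ψ y ∈ W := by
    refine hom_mem_of_sup (fun y hy => ?_) fun y hy => ?_
    · rw [show y = Subgroup.inclusion le_sup_left ⟨(y : Ω), hy⟩ from rfl, hψP]
      exact hTW (hom_mem hφ₁ _)
    · rw [show y = Subgroup.inclusion le_sup_right ⟨(y : Ω), hy⟩ from rfl, hψX]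
      exact hXW hy
  obtain ⟨χ, hχ, hχe, hχX⟩ := exists_fix_move hψ hγ (sup_le hP₁ hXW) hψW hψX
  have hPU : P ≤ ((autImage α⁻¹ P).subgroupOf W).map γ := fun x hx =>
    ⟨⟨((α⁻¹ ⟨x, hPT hx⟩ : T) : Ω), hTW (α⁻¹ _).2⟩, ⟨⟨x, hPT hx⟩, hx, rfl⟩, by
      refine (hαe (α⁻¹ ⟨x, hPT hx⟩)).symm.trans ?_
      rw [MulAut.apply_inv_self]⟩
  refine ⟨_, restrict_mem hχ (sup_le_sup_right hPU _), fun x => ?_, fun y => hχX y⟩
  have hmem : ((α⁻¹ ⟨(x : Ω), hPT x.2⟩ : T) : Ω) ∈ autImage α⁻¹ P := ⟨⟨x, hPT x.2⟩, x.2, rfl⟩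
  have hval : γ (Subgroup.inclusion (sup_le hP₁ hXW) (Subgroup.inclusion le_sup_left
      (⟨_, hmem⟩ : ↥(autImage α⁻¹ P)))) = (x : Ω) := by
    refine (hαe (α⁻¹ ⟨(x : Ω), hPT x.2⟩)).symm.trans ?_
    rw [MulAut.apply_inv_self]
  refine (congrArg χ (Subtype.ext hval.symm)).trans ((hχe ⟨_, hmem⟩ ?_).trans ?_)
  · rw [hval]
    exact Subgroup.mem_sup_left (hPU x.2)
  · refine (congrArg γ (Subtype.ext ?_ : _ = Subgroup.inclusion hTW
      (α⁻¹ ⟨φ x, hom_mem hφ x⟩))).trans ?_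
    · exact (hψP ⟨_, hmem⟩).trans (hφ₁e x hmem)
    · refine (hαe _).symm.trans ?_
      rw [MulAut.apply_inv_self]

/-- The elements of `C_S(T)` fixed by all good extensions of order prime to `p`. -/
def fixSub (F : FusionSystem S) (E : FusionSystem T) (p : ℕ) (hT : F.StronglyClosed T) : Subgroup Ω where
  carrier := {x | x ∈ centralizerIn S T ∧ ∀ (Q : Subgroup Ω) (hQT : Q ≤ T), F.IsFullyNormalized Q →
    E.IsCentric Q → ∀ ψ ∈ goodExt hT Q (hQT.trans hT.1), ∀ m : ℕ, m.Coprime p → ψ ^ m = 1 →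
      ∀ a ∈ E.autGroup Q, a ^ m = 1 →
        (∀ q : Q, ((ψ (Subgroup.inclusion le_sup_left q) : _) : Ω) = (a q : Ω)) →
          ∀ h : x ∈ Q ⊔ centralizerIn S Q, ψ ⟨x, h⟩ = ⟨x, h⟩}
  one_mem' := ⟨one_mem _, fun Q _ _ _ ψ _ _ _ _ _ _ _ _ _ => map_one ψ⟩
  mul_mem' := by
    rintro x y ⟨hx, hx'⟩ ⟨hy, hy'⟩
    refine ⟨mul_mem hx hy, fun Q hQT hQn hQc ψ hψ m hm hψm a ha ham hψa h => ?_⟩
    have h1 : x ∈ Q ⊔ centralizerIn S Q := Subgroup.mem_sup_right (centralizerIn_anti hQT hx)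
    have h2 : y ∈ Q ⊔ centralizerIn S Q := Subgroup.mem_sup_right (centralizerIn_anti hQT hy)
    rw [show (⟨x * y, h⟩ : ↥(Q ⊔ centralizerIn S Q)) = ⟨x, h1⟩ * ⟨y, h2⟩ from rfl, map_mul,
      hx' Q hQT hQn hQc ψ hψ m hm hψm a ha ham hψa h1, hy' Q hQT hQn hQc ψ hψ m hm hψm a ha ham hψa h2]
  inv_mem' := by
    rintro x ⟨hx, hx'⟩
    refine ⟨inv_mem hx, fun Q hQT hQn hQc ψ hψ m hm hψm a ha ham hψa h => ?_⟩
    have h1 : x ∈ Q ⊔ centralizerIn S Q := Subgroup.mem_sup_right (centralizerIn_anti hQT hx)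
    rw [show (⟨x⁻¹, h⟩ : ↥(Q ⊔ centralizerIn S Q)) = ⟨x, h1⟩⁻¹ from rfl, map_inv,
      hx' Q hQT hQn hQc ψ hψ m hm hψm a ha ham hψa h1]

/-- `C_S(E)`: the largest subgroup of `fixSub` invariant under the automorphisms of `T C_S(T)`. -/
def systemCentralizer (F : FusionSystem S) (E : FusionSystem T) (p : ℕ) (hT : F.StronglyClosed T) :
    Subgroup Ω where
  carrier := {x | x ∈ centralizerIn S T ∧ ∀ γ ∈ F.autGroup (T ⊔ centralizerIn S T),
    ∀ h : x ∈ T ⊔ centralizerIn S T, ((γ ⟨x, h⟩ : _) : Ω) ∈ fixSub F E p hT}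
  one_mem' := ⟨one_mem _, fun γ _ h => by
    rw [show (⟨(1 : Ω), h⟩ : ↥(T ⊔ centralizerIn S T)) = 1 from rfl, map_one]
    exact one_mem _⟩
  mul_mem' := by
    rintro x y ⟨hx, hx'⟩ ⟨hy, hy'⟩
    refine ⟨mul_mem hx hy, fun γ hγ h => ?_⟩
    rw [show (⟨x * y, h⟩ : ↥(T ⊔ centralizerIn S T)) =
      ⟨x, Subgroup.mem_sup_right hx⟩ * ⟨y, Subgroup.mem_sup_right hy⟩ from rfl, map_mul]
    exact mul_mem (hx' γ hγ _) (hy' γ hγ _)
  inv_mem' := by
    rintro x ⟨hx, hx'⟩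
    refine ⟨inv_mem hx, fun γ hγ h => ?_⟩
    rw [show (⟨x⁻¹, h⟩ : ↥(T ⊔ centralizerIn S T)) = ⟨x, Subgroup.mem_sup_right hx⟩⁻¹ from rfl, map_inv]
    exact inv_mem (hx' γ hγ _)

theorem systemCentralizer_le {hT : F.StronglyClosed T} :
    systemCentralizer F E p hT ≤ centralizerIn S T := fun _ hx => hx.1

theorem systemCentralizer_le_fixSub {hT : F.StronglyClosed T} :
    systemCentralizer F E p hT ≤ fixSub F E p hT := fun _ hx => by
  have := hx.2 1 (one_mem _) (Subgroup.mem_sup_right hx.1)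
  simpa using this

theorem aut_apply_mem_centralizerIn [Finite S] (hT : F.StronglyClosed T) {γ : MulAut ↥(T ⊔ centralizerIn S T)}
    (hγ : γ ∈ F.autGroup (T ⊔ centralizerIn S T)) {x : ↥(T ⊔ centralizerIn S T)}
    (hx : (x : Ω) ∈ centralizerIn S T) : ((γ x : _) : Ω) ∈ centralizerIn S T := by
  have hW : T ⊔ centralizerIn S T ≤ S := sup_le hT.1 (centralizerIn_le T)
  refine mem_centralizerIn.2 ⟨hW (γ x).2, fun t ht => ?_⟩
  have ht' : ((γ⁻¹ ⟨t, Subgroup.mem_sup_left ht⟩ : _) : Ω) ∈ T :=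
    stronglyClosed_apply_mem hT ((mem_autGroup hW).1 (inv_mem hγ)) (x := ⟨t, _⟩) ht
  have h : x * γ⁻¹ ⟨t, Subgroup.mem_sup_left ht⟩ = γ⁻¹ ⟨t, Subgroup.mem_sup_left ht⟩ * x :=
    Subtype.ext ((mem_centralizerIn.1 hx).2 _ ht')
  have h2 := congrArg (fun z : ↥(T ⊔ centralizerIn S T) => ((γ z : _) : Ω)) h
  simp only [map_mul, MulAut.apply_inv_self, Subgroup.coe_mul] at h2
  exact h2

theorem systemCentralizer_invariant [Finite S] {hT : F.StronglyClosed T} {γ : MulAut ↥(T ⊔ centralizerIn S T)}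
    (hγ : γ ∈ F.autGroup (T ⊔ centralizerIn S T)) {x : ↥(T ⊔ centralizerIn S T)}
    (hx : (x : Ω) ∈ systemCentralizer F E p hT) : ((γ x : _) : Ω) ∈ systemCentralizer F E p hT := by
  refine ⟨aut_apply_mem_centralizerIn hT hγ hx.1, fun δ hδ h => ?_⟩
  exact hx.2 (δ * γ) (mul_mem hδ hγ) x.2

theorem aut_eq_self_of_mem_fixSub {hT : F.StronglyClosed T} {x : Ω} (hx : x ∈ fixSub F E p hT)
    {Q : Subgroup Ω} {hQ : Q ≤ S} (hQT : Q ≤ T) (hQn : F.IsFullyNormalized Q) (hQc : E.IsCentric Q)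
    {ψ : MulAut ↥(Q ⊔ centralizerIn S Q)} (hψ : ψ ∈ goodExt hT Q hQ) {m : ℕ} (hm : m.Coprime p)
    (hψm : ψ ^ m = 1) {a : MulAut Q} (ha : a ∈ E.autGroup Q) (ham : a ^ m = 1)
    (hψa : ∀ q : Q, ((ψ (Subgroup.inclusion le_sup_left q) : _) : Ω) = (a q : Ω))
    (h : x ∈ Q ⊔ centralizerIn S Q) : ψ ⟨x, h⟩ = ⟨x, h⟩ :=
  hx.2 Q hQT hQn hQc ψ hψ m hm hψm a ha ham hψa h

/-- A subgroup centralizing `E` is fixed by the good extensions of order prime to `p`. -/
theorem le_fixSub [Finite S] [Fact p.Prime] (hS : IsPGroup p S) (hF : F.IsSaturated p)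
    {hT : F.StronglyClosed T} {X : Subgroup Ω} (hX : CentralizesSystem F E X) :
    X ≤ fixSub F E p hT := by
  intro x hx
  refine ⟨hX.1 hx, fun Q hQT hQn hQc ψ hψ m hm hψm a ha ham hψa h => ?_⟩
  have hXC : X ≤ centralizerIn S Q := hX.1.trans (centralizerIn_anti hQT)
  have hZ : centralizerIn T Q ≤ Q := hQc.2 Q (isConj_refl E hQT)
  obtain ⟨-, -, -, g, hg, hgQ, hgX⟩ := hX.2 Q ((mem_autGroup hQT).1 ha)
  obtain ⟨θ, hθ, hθe⟩ := exists_aut_of_hom hg (hom_mem_of_sup (fun y hy => by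
      rw [show y = Subgroup.inclusion le_sup_left ⟨(y : Ω), hy⟩ from rfl, hgQ]
      exact Subgroup.mem_sup_left (a _).2) fun y hy => by
      rw [show y = Subgroup.inclusion le_sup_right ⟨(y : Ω), hy⟩ from rfl, hgX]
      exact Subgroup.mem_sup_right hy)
  have hθQ : ∀ y : Q, θ (Subgroup.inclusion le_sup_left y) = Subgroup.inclusion le_sup_left (a y) :=
    fun y => Subtype.ext ((hθe _).trans (hgQ y))
  have hθX : ∀ y : X, θ (Subgroup.inclusion le_sup_right y) = Subgroup.inclusion le_sup_right y :=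
    fun y => Subtype.ext ((hθe _).trans (hgX y))
  have hθQn : ∀ (n : ℕ) (y : Q),
      (θ ^ n) (Subgroup.inclusion le_sup_left y) = Subgroup.inclusion le_sup_left ((a ^ n) y) := by
    intro n
    induction n with
    | zero => intro y; rfl
    | succ n ih => intro y; rw [pow_succ, MulAut.mul_apply, hθQ, ih, pow_succ, MulAut.mul_apply]
  have hθm : θ ^ m = 1 := by
    apply MulEquiv.ext
    intro y
    refine hom_eq_on_sup (f := (θ ^ m).toMonoidHom) (g := MonoidHom.id _) (fun q hq => ?_)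
      (fun q hq => ?_) y
    · show (θ ^ m) q = q
      rw [show q = Subgroup.inclusion le_sup_left ⟨(q : Ω), hq⟩ from rfl, hθQn, ham]
      rfl
    · show (θ ^ m) q = q
      rw [show q = Subgroup.inclusion le_sup_right ⟨(q : Ω), hq⟩ from rfl]
      clear hθQn
      induction m with
      | zero => rfl
      | succ n _ =>
        have : ∀ n : ℕ, (θ ^ n) (Subgroup.inclusion le_sup_right (⟨(q : Ω), hq⟩ : X)) =
            Subgroup.inclusion le_sup_right ⟨(q : Ω), hq⟩ := by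
          intro n
          induction n with
          | zero => rfl
          | succ n ih => rw [pow_succ, MulAut.mul_apply, hθX, ih]
        exact this _
  have hr := goodExt_rigid hS hF hZ (isFullyAutomized_and_fc_of_fn hS hF hQn).1 hψ hm hψm hXC hθ
    (fun y hy => by
      rw [show y = Subgroup.inclusion le_sup_left ⟨(y : Ω), hy⟩ from rfl, hθQ]
      exact (hψa ⟨(y : Ω), hy⟩).symm)
    (fun y hy => by
      rw [show y = Subgroup.inclusion le_sup_right ⟨(y : Ω), hy⟩ from rfl, hθX, inv_mul_cancel]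
      exact T.one_mem) hθm ⟨x, Subgroup.mem_sup_right hx⟩
  apply Subtype.ext
  exact hr.symm.trans (congrArg Subtype.val (hθX ⟨x, hx⟩) :)

theorem le_systemCentralizer [Finite S] [Fact p.Prime] (hS : IsPGroup p S) (hF : F.IsSaturated p)
    (hEi : E.IsInvariantIn F) {X : Subgroup Ω} (hX : CentralizesSystem F E X) :
    X ≤ systemCentralizer F E p hEi.2.1 := by
  intro x hx
  refine ⟨hX.1 hx, fun γ hγ h => ?_⟩
  have hW : T ⊔ centralizerIn S T ≤ S := sup_le hEi.2.1.1 (centralizerIn_le T)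
  exact le_fixSub hS hF (centralizesSystem_map hEi hX ((mem_autGroup hW).1 hγ) (sup_le_sup_left hX.1 T))
    ⟨⟨x, h⟩, hx, rfl⟩

theorem systemCentralizer_conj [Finite S] {hT : F.StronglyClosed T} {s x : Ω} (hs : s ∈ S)
    (hx : x ∈ systemCentralizer F E p hT) : s * x * s⁻¹ ∈ systemCentralizer F E p hT := by
  have hW : T ⊔ centralizerIn S T ≤ S := sup_le hT.1 (centralizerIn_le T)
  have hn : s ∈ Subgroup.normalizer ((T ⊔ centralizerIn S T : Subgroup Ω) : Set Ω) :=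
    normalizer_inf_le ⟨stronglyClosed_le_normalizer hT hs, sc_centralizer_le_normalizer hT hs⟩
  exact systemCentralizer_invariant (γ := conjAut _ hn)
    (autInducedBy_le_autGroup hW (conjAut_mem_autInducedBy hn hs))
    (x := ⟨x, Subgroup.mem_sup_right hx.1⟩) hx

theorem centralizesSystem_systemCentralizer [Finite S] [Fact p.Prime] (hS : IsPGroup p S)
    (hE : E.IsNormalIn F p) :
    CentralizesSystem F E (systemCentralizer F E p hE.1.2.2.2.1) := by
  have hEn := hE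
  obtain ⟨⟨hEs, hF, hEi⟩, -⟩ := hE
  set hsc := hEi.2.1 with hscdef
  have hTS : T ≤ S := hsc.1
  haveI := finite_of_le hTS
  have hT : IsPGroup p T := hS.to_le hTS
  set Y := systemCentralizer F E p hsc with hYdef
  have hYC : Y ≤ centralizerIn S T := systemCentralizer_le
  have hTY : T ≤ centralizerIn S Y := le_centralizerIn_of_le hTS hYC
  obtain ⟨C, hC⟩ := exists_centralizerSystem F (Q := Y) (hYC.trans (centralizerIn_le T))
  let D : FusionSystem T :=
    { Hom := fun P => E.Hom P ∩ C.Hom P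
      le_of_mem := fun h => E.le_of_mem h.1
      injective_of_mem := fun h => E.injective_of_mem h.1
      conj_mem := fun hP hg => ⟨E.conj_mem hP hg, C.conj_mem (hP.trans hTY) (hTY hg)⟩
      comp_mem := fun hφ hψ h => ⟨E.comp_mem hφ.1 hψ.1 h, C.comp_mem hφ.2 hψ.2 h⟩
      inv_mem := fun {P} {φ} hφ => by
        obtain ⟨ψ, hψ, hψe⟩ := E.inv_mem hφ.1
        obtain ⟨χ, hχ, hχe⟩ := C.inv_mem hφ.2
        refine ⟨ψ, ⟨hψ, hom_congr hχ ?_⟩, hψe⟩
        rintro ⟨_, x, rfl⟩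
        exact (hψe x).trans (hχe x).symm }
  suffices hED : E ≤ D from ⟨hYC, fun P φ hφ => by
    have h := (hED P hφ).2
    rw [hC] at h
    exact h⟩
  have memD : ∀ {P : Subgroup Ω} {φ : P →* Ω}, φ ∈ E.Hom P →
      (∃ ψ ∈ F.Hom (P ⊔ Y), (∀ x : P, ψ (Subgroup.inclusion le_sup_left x) = φ x) ∧
        ∀ x : Y, ψ (Subgroup.inclusion le_sup_right x) = x) → φ ∈ D.Hom P := fun hφ h =>
    ⟨hφ, by rw [hC]; exact mem_centralizerHom_of_ext hEi.1 hTS hYC hφ h⟩
  -- the automorphisms of order prime to `p` with good extensions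
  have hgood : ∀ (Q : Subgroup Ω) (hQT : Q ≤ T), F.IsFullyNormalized Q → E.IsCentric Q →
      ∀ a ∈ E.autGroup Q, a ∈ goodAut hsc Q (hQT.trans hTS) → (orderOf a).Coprime p →
        a ∈ D.autGroup Q := by
    intro Q hQT hQn hQc a ha hag hcop
    obtain ⟨ψ, hψ, m, hm, hψm, ham, hψa⟩ := exists_goodExt_pPrime hag hcop
    have hRS : Q ⊔ centralizerIn S Q ≤ S := sup_le (hQT.trans hTS) (centralizerIn_le Q)
    have hYQ : Y ≤ centralizerIn S Q := hYC.trans (centralizerIn_anti hQT)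
    refine (mem_autGroup hQT).2 (memD ((mem_autGroup hQT).1 ha)
      ⟨_, restrict_mem ((mem_autGroup hRS).1 hψ.1.1) (sup_le_sup_left hYQ Q), hψa, fun x => ?_⟩)
    exact congrArg Subtype.val (aut_eq_self_of_mem_fixSub (systemCentralizer_le_fixSub x.2) hQT hQn hQc hψ
      hm hψm ha ham hψa (Subgroup.mem_sup_right (hYQ x.2)))
  -- fully normalized centric subgroups
  have hfn : ∀ (Q : Subgroup Ω), Q ≤ T → F.IsFullyNormalized Q → E.IsCentric Q →
      (∀ M : Subgroup Ω, Nat.card Q < Nat.card M → E.Hom M ⊆ D.Hom M) →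
        E.autGroup Q ≤ D.autGroup Q := by
    intro Q hQT hQn hQc hbig a₀ ha₀
    haveI := finite_of_le hQT
    haveI : Finite (MulAut Q) := Finite.of_injective (fun f => (f : Q → Q)) DFunLike.coe_injective
    obtain ⟨hfc, -⟩ := isFullyAutomized_and_fc_of_fn hS hF hQn
    have hQnE := isFullyNormalized_of_invariant hS hF hEi.1 hsc hQT hQn
    obtain ⟨hfcE, -, R, hR⟩ := isFullyAutomized_and_fc_of_fn hT hEs hQnE
    let H : Subgroup (E.autGroup Q) := (goodAut hsc Q (hQT.trans hTS)).subgroupOf (E.autGroup Q)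
    haveI : H.Normal := ⟨fun x hx g => goodAut_conj hS hF hfc hx
      ((mem_autGroup (hQT.trans hTS)).2 (hEi.1 _ ((mem_autGroup hQT).1 g.2)))⟩
    have hpH : ∀ x : E.autGroup Q, (∃ k, orderOf x = p ^ k) → x ∈ H := fun x hx =>
      mem_goodAut_of_pElement hS hF hEs hEi hQT hQn x.2 (by
        obtain ⟨k, hk⟩ := hx; exact ⟨k, by rw [← hk]; exact Subgroup.orderOf_coe x⟩)
    have hRH : (R : Subgroup (E.autGroup Q)) ≤ H := by
      intro x hx
      obtain ⟨k, hk⟩ := R.isPGroup' ⟨x, hx⟩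
      obtain ⟨j, -, hj⟩ := (Nat.dvd_prime_pow Fact.out).1 (orderOf_dvd_of_pow_eq_one hk)
      exact hpH x ⟨j, by rw [← hj]; exact Subgroup.orderOf_coe (⟨x, hx⟩ : ↥(R : Subgroup (E.autGroup Q)))⟩
    let RH : Sylow p H := R.subtype hRH
    have hmap : (RH : Subgroup H).map H.subtype = (R : Subgroup (E.autGroup Q)) := by
      rw [Sylow.coe_subtype]
      exact Subgroup.map_subgroupOf_eq_of_le hRH
    have hle : (⊤ : Subgroup (E.autGroup Q)) ≤ (D.autGroup Q).subgroupOf (E.autGroup Q) := by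
      rw [← closure_pPrime_union_normalizer H RH, Subgroup.closure_le]
      rintro x (⟨hxH, hxc⟩ | hxN)
      · exact hgood Q hQT hQn hQc x x.2 hxH (by rw [Subgroup.orderOf_coe]; exact hxc)
      · by_cases hQT' : Q = T
        · -- every automorphism of `T` with a good extension
          subst hQT'
          obtain ⟨u, v, hv, huv⟩ := Nat.exists_eq_pow_mul_and_not_dvd (orderOf_pos x).ne' p
            (Fact.out : p.Prime).ne_one
          have hco : Nat.Coprime v p := ((Fact.out : p.Prime).coprime_iff_not_dvd.2 hv).symm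
          have h1 : x ^ p ^ u ∈ (D.autGroup Q).subgroupOf (E.autGroup Q) := by
            refine hgood Q le_rfl hQn hQc _ (x ^ p ^ u).2 (mem_goodAut_top hEn (x ^ p ^ u).2) ?_
            rw [Subgroup.coe_subtype, Subgroup.orderOf_coe]
            exact Nat.Coprime.coprime_dvd_left (orderOf_dvd_of_pow_eq_one
              (by rw [← pow_mul, ← huv, pow_orderOf_eq_one])) hco
          have h2 : x ^ v ∈ (D.autGroup Q).subgroupOf (E.autGroup Q) := by
            obtain ⟨b, hb, t, ht, hn, hbe⟩ := exists_conj_induced hT hEs hQnE (x ^ v).2 (by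
              obtain ⟨j, -, hj⟩ := (Nat.dvd_prime_pow Fact.out).1
                (orderOf_dvd_of_pow_eq_one (x := x ^ v) (n := p ^ u)
                  (by rw [← pow_mul, mul_comm, ← huv, pow_orderOf_eq_one]))
              exact ⟨j, by rw [Subgroup.orderOf_coe]; exact hj⟩)
            show ((x ^ v : E.autGroup Q) : MulAut Q) ∈ D.autGroup Q
            rw [show ((x ^ v : E.autGroup Q) : MulAut Q) = b⁻¹ * conjAut Q hn * b by rw [← hbe]; group,
              show b⁻¹ * conjAut Q hn * b = conjAut Q (Subgroup.le_normalizer (b⁻¹ ⟨t, ht⟩).2) from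
                MulEquiv.ext fun y => by
                  rw [MulAut.mul_apply, MulAut.mul_apply,
                    show conjAut Q hn (b y) = ⟨t, ht⟩ * b y * ⟨t, ht⟩⁻¹ from rfl, map_mul, map_mul,
                    map_inv, MulAut.inv_apply_self]
                  rfl]
            exact autInducedBy_le_autGroup le_rfl (conjAut_mem_autInducedBy _ (b⁻¹ ⟨t, ht⟩).2)
          obtain ⟨k, hk⟩ := exists_pow_eq_self_of_coprime (x := x ^ v) (n := v) (by
            exact Nat.Coprime.coprime_dvd_right (orderOf_dvd_of_pow_eq_one (x := x ^ v) (n := p ^ u)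
              (by rw [← pow_mul, mul_comm, ← huv, pow_orderOf_eq_one])) (Nat.Coprime.pow_right u hco))
          -- `x` is a power of `x ^ v` times an element of order prime to `p`
          have hz : ((x ^ v) ^ k)⁻¹ * x ∈ (D.autGroup Q).subgroupOf (E.autGroup Q) := by
            refine hgood Q le_rfl hQn hQc _ (((x ^ v) ^ k)⁻¹ * x).2
              (mem_goodAut_top hEn (((x ^ v) ^ k)⁻¹ * x).2) ?_
            rw [Subgroup.coe_subtype, Subgroup.orderOf_coe]
            refine Nat.Coprime.coprime_dvd_left (orderOf_dvd_of_pow_eq_one (n := v) ?_) hco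
            rw [((((Commute.refl x).pow_left v).pow_left k).inv_left).mul_pow, inv_pow,
              ← pow_mul (x ^ v), mul_comm k v, pow_mul, hk, inv_mul_cancel]
          rw [SetLike.mem_coe, ← mul_inv_cancel_left ((x ^ v) ^ k) x]
          exact mul_mem (pow_mem h2 k) hz
        · obtain ⟨g, ⟨hgT, hgN⟩, hgQ⟩ := SetLike.exists_of_lt
            (lt_normalizerIn hT (lt_of_le_of_ne hQT hQT'))
          refine extensibleAut_le_of_bigger hQT hbig
            (mem_extensibleAut_of_induced (isReceptive_of_fc hT hEs hfcE) x.2 hgT hgN hgQ ?_)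
          rw [hmap] at hxN
          have hg : (⟨conjAut Q hgN, autInducedBy_le_autGroup hQT (conjAut_mem_autInducedBy hgN hgT)⟩ :
              E.autGroup Q) ∈ (R : Subgroup (E.autGroup Q)) := by
            rw [hR]
            exact conjAut_mem_autInducedBy hgN hgT
          have h := (Subgroup.mem_normalizer_iff.1 hxN _).1 hg
          rw [hR] at h
          exact h
    exact hle (Subgroup.mem_top (⟨a₀, ha₀⟩ : E.autGroup Q))
  refine le_of_autGroup_le' hT hEs D fun P hP hbig => ?_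
  by_cases hPT : P = T
  · subst hPT
    refine hfn P le_rfl ⟨hTS, fun R hR => ?_⟩ ⟨le_rfl, fun R hR => ?_⟩ hbig
    · obtain ⟨φ, hφ, rfl⟩ := hR
      rw [range_eq_of_card_le hφ hTS (fun x => hsc.2 P le_rfl φ hφ x) le_rfl]
    · rw [eq_top_of_isConj hR]
      exact centralizerIn_le _
  have hP' := hP.resolve_left hPT
  have hPT' : P ≤ T := hP'.1.1
  have hPS : P ≤ S := hPT'.trans hTS
  haveI := finite_of_le hPT'
  obtain ⟨Q, hPQ, hQn⟩ := exists_isFullyNormalized F hPS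
  obtain ⟨hQfc, hQfa⟩ := isFullyAutomized_and_fc_of_fn hS hF hQn
  obtain ⟨μ, hμ, -, hμmap⟩ := exists_normalizer_map hS hQfa (isReceptive_of_fc hS hF hQfc) hPQ
  have hPN : P ≤ normalizerIn T P := le_normalizerIn hPT'
  have hNN : normalizerIn T P ≤ normalizerIn S P := fun t ht => ⟨hTS ht.1, ht.2⟩
  have hNcard : Nat.card P < Nat.card (normalizerIn T P) := by
    haveI := finite_of_le (normalizerIn_le (S := T) P)
    exact Set.Finite.card_lt_card (Set.toFinite _) (lt_normalizerIn hT (lt_of_le_of_ne hPT' hPT))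
  obtain ⟨α, hα, φ₁, hφ₁, he⟩ := hEi.2.2.2 _ (normalizerIn_le P) _ (restrict_mem hμ hNN)
  have hφ₁D : φ₁ ∈ D.Hom (normalizerIn T P) := hbig _ hNcard hφ₁
  have hr := restrict_mem hφ₁D hPN
  set P₀ := (φ₁.comp (Subgroup.inclusion hPN)).range with hP₀
  let e : P ≃* P₀ := homIso hr rfl
  have heD : IsoIn D e := isoIn_homIso hr rfl
  have heE : IsoIn E e := heD.1
  have hP₀T : P₀ ≤ T := range_le hr.1
  have hQeq : autImage α P₀ = Q := by
    rw [← hμmap]
    ext y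
    constructor
    · rintro ⟨w, ⟨x, hx⟩, rfl⟩
      refine ⟨⟨(x : Ω), le_normalizerIn hPS x.2⟩, x.2,
        (he (Subgroup.inclusion hPN x) (hom_mem hr.1 x)).trans ?_⟩
      exact congrArg (fun z : T => ((α z : T) : Ω)) (Subtype.ext hx)
    · rintro ⟨⟨x, hx⟩, hxP, rfl⟩
      exact ⟨⟨φ₁ ⟨x, hPN hxP⟩, hom_mem hφ₁ _⟩, ⟨⟨x, hxP⟩, rfl⟩,
        (he ⟨x, hPN hxP⟩ (hom_mem hφ₁ _)).symm⟩
  have hQT : Q ≤ T := hQeq ▸ autImage_le α P₀
  have hQc : E.IsCentric Q := by
    have h := centric_image hEi hP'.1 (restrict_mem (restrict_mem hμ hNN) hPN)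
    convert h using 1
    rw [← hμmap]
    ext y
    constructor
    · rintro ⟨⟨x, hx⟩, hxP, rfl⟩
      exact ⟨⟨x, hxP⟩, rfl⟩
    · rintro ⟨x, rfl⟩
      exact ⟨_, x.2, rfl⟩
  have hQbig : ∀ M : Subgroup Ω, Nat.card Q < Nat.card M → E.Hom M ⊆ D.Hom M := fun M hM =>
    hbig M (card_eq_of_isConj hPQ ▸ hM)
  intro a ha
  -- transport to `Q`
  let a₀ : MulAut P₀ := MulAut.congr e a
  suffices ha₀ : a₀ ∈ D.autGroup P₀ by
    have h := congr_mem_autGroup heD.symm ha₀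
    convert h using 1
    apply MulEquiv.ext
    intro x
    simp [a₀, MulAut.congr]
  have ha₀E : a₀ ∈ E.autGroup P₀ := congr_mem_autGroup heE ha
  refine (mem_autGroup hP₀T).2 (memD ((mem_autGroup hP₀T).1 ha₀E) ?_)
  have hfcT : F.IsFullyCentralized T := ⟨hTS, fun R ⟨φ, hφ, hφr⟩ => by
    rw [← hφr, range_eq_of_card_le hφ hTS (fun x => hsc.2 T le_rfl φ hφ x) le_rfl]⟩
  obtain ⟨β, hβ, hβe, -⟩ := exists_autGroup_ext hS hF hfcT hα
  have hWS : T ⊔ centralizerIn S T ≤ S := sup_le hTS (centralizerIn_le T)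
  -- the automorphism on `Q`
  have hfQ : IsoIn F (homIso (restrict_mem ((mem_autGroup hTS).1 hα) hP₀T)
      (show ((T.subtype.comp α.toMonoidHom).comp (Subgroup.inclusion hP₀T)).range = Q by
        rw [← hQeq]
        ext y
        exact ⟨fun ⟨x, hx⟩ => ⟨Subgroup.inclusion hP₀T x, x.2, hx⟩,
          fun ⟨t, ht, hx⟩ => ⟨⟨(t : Ω), ht⟩, hx⟩⟩)) := isoIn_homIso _ _
  set f := homIso (restrict_mem ((mem_autGroup hTS).1 hα) hP₀T)
      (show ((T.subtype.comp α.toMonoidHom).comp (Subgroup.inclusion hP₀T)).range = Q by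
        rw [← hQeq]
        ext y
        exact ⟨fun ⟨x, hx⟩ => ⟨Subgroup.inclusion hP₀T x, x.2, hx⟩,
          fun ⟨t, ht, hx⟩ => ⟨⟨(t : Ω), ht⟩, hx⟩⟩) with hfdef
  have hf : ∀ x : P₀, (f x : Ω) = ((α (Subgroup.inclusion hP₀T x) : T) : Ω) := fun x => rfl
  obtain ⟨χ, hχ, hχe⟩ := strongInv_transport hsc (isInvariant_strongInv hEi) hP₀T
    ((mem_autGroup hP₀T).1 ha₀E) hα
  have ha₁ : MulAut.congr f a₀ ∈ E.autGroup Q := by
    refine (mem_autGroup hQT).2 ?_
    have key : ∀ (U : Subgroup Ω) (_ : U = Q) (χ : U →* Ω), χ ∈ E.Hom U →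
        (∀ (x : Q) (hx : (x : Ω) ∈ U), χ ⟨x, hx⟩ = (MulAut.congr f a₀ x : Ω)) →
        Q.subtype.comp (MulAut.congr f a₀).toMonoidHom ∈ E.Hom Q := by
      rintro U rfl χ hχ h
      exact hom_congr hχ fun x => (h x x.2).symm
    refine key _ hQeq χ hχ fun x hx => ?_
    have hx' : (x : Ω) = ((α (Subgroup.inclusion hP₀T (f.symm x)) : T) : Ω) := by
      rw [← hf, MulEquiv.apply_symm_apply]
    refine (congrArg χ (Subtype.ext hx')).trans ((hχe (f.symm x) (hx' ▸ hx)).trans ?_)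
    exact (hf (a₀ (f.symm x))).symm
  have hD₁ := hfn Q hQT hQn hQc hQbig ha₁
  obtain ⟨-, hD₂⟩ := (mem_autGroup hQT).1 hD₁
  rw [hC] at hD₂
  obtain ⟨-, -, -, g, hg, hgQ, hgY⟩ := hD₂
  -- pull back along the extension of `α`
  have hβi : β⁻¹ ∈ F.autGroup (T ⊔ centralizerIn S T) := inv_mem hβ.1
  have hgW : ∀ y, g y ∈ T ⊔ centralizerIn S T := hom_mem_of_sup (fun y hy => by
      rw [show y = Subgroup.inclusion le_sup_left ⟨(y : Ω), hy⟩ from rfl, hgQ]
      exact Subgroup.mem_sup_left (hQT (MulAut.congr f a₀ _).2)) fun y hy => by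
      rw [show y = Subgroup.inclusion le_sup_right ⟨(y : Ω), hy⟩ from rfl, hgY]
      exact Subgroup.mem_sup_right (hYC hy)
  obtain ⟨k, hk, hke, hkY⟩ := exists_fix_move hg ((mem_autGroup hWS).1 hβi)
    (sup_le (hQT.trans le_sup_left) (hYC.trans le_sup_right)) hgW hgY
  have hαβ : ∀ x : T, β⁻¹ (Subgroup.inclusion le_sup_left (α x)) = Subgroup.inclusion le_sup_left x := by
    intro x
    have h : β (Subgroup.inclusion le_sup_left x) = Subgroup.inclusion le_sup_left (α x) :=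
      Subtype.ext (hβe x)
    rw [← h, MulAut.inv_apply_self]
  have hle : P₀ ⊔ Y ≤ (Q.subgroupOf (T ⊔ centralizerIn S T)).map
      ((T ⊔ centralizerIn S T).subtype.comp (β⁻¹).toMonoidHom) ⊔ (Y.subgroupOf (T ⊔ centralizerIn S T)).map
      ((T ⊔ centralizerIn S T).subtype.comp (β⁻¹).toMonoidHom) := by
    refine sup_le_sup (fun x hx => ?_) fun y hy => ?_
    · exact ⟨Subgroup.inclusion le_sup_left (α ⟨x, hP₀T hx⟩),
        hQeq ▸ (⟨⟨x, hP₀T hx⟩, hx, rfl⟩ : _ ∈ autImage α P₀),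
        congrArg Subtype.val (hαβ ⟨x, hP₀T hx⟩)⟩
    · refine ⟨β ⟨y, Subgroup.mem_sup_right (hYC hy)⟩, systemCentralizer_invariant hβ.1 hy, ?_⟩
      exact congrArg Subtype.val (MulAut.inv_apply_self _ β _)
  refine ⟨_, restrict_mem hk hle, fun x => ?_, fun y => ?_⟩
  · have hval : ((β⁻¹ (Subgroup.inclusion le_sup_left (α (Subgroup.inclusion hP₀T x))) : _) : Ω) = x :=
      congrArg Subtype.val (hαβ _)
    refine (congrArg k (Subtype.ext hval.symm)).trans ((hke (f x) ?_).trans ?_)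
    · show ((β⁻¹ (Subgroup.inclusion le_sup_left (α (Subgroup.inclusion hP₀T x))) : _) : Ω) ∈ _
      rw [hval]
      exact hle (Subgroup.mem_sup_left x.2)
    · show ((β⁻¹ ⟨g (Subgroup.inclusion le_sup_left (f x)), hgW _⟩ : _) : Ω) = _
      rw [show (⟨g (Subgroup.inclusion le_sup_left (f x)), hgW _⟩ : ↥(T ⊔ centralizerIn S T)) =
        Subgroup.inclusion le_sup_left (α (Subgroup.inclusion hP₀T (a₀ x))) from Subtype.ext (by
          refine (hgQ (f x)).trans ?_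
          show (f (a₀ (f.symm (f x))) : Ω) = _
          rw [MulEquiv.symm_apply_apply, hf]
          rfl), hαβ]
      rfl
  · have hy : (y : Ω) ∈ (Y.subgroupOf (T ⊔ centralizerIn S T)).map
        ((T ⊔ centralizerIn S T).subtype.comp (β⁻¹).toMonoidHom) :=
      ⟨β ⟨y, Subgroup.mem_sup_right (hYC y.2)⟩, systemCentralizer_invariant hβ.1 y.2,
        congrArg Subtype.val (MulAut.inv_apply_self _ β _)⟩
    exact hkY ⟨y, hy⟩

end Cfsg.Lib.FusionSys
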