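import Cfsg.Agent.Lib.FusionSys.CentralizerOfNormal

/-!
The centralizer in `S` of a normal subsystem is strongly closed.
-/

set_option autoImplicit false
set_option linter.style.haveILetI false

namespace Cfsg.Lib.FusionSys

open Cfsg Cfsg.FusionSystem
open scoped Pointwise

variable {Ω : Type*} [Group Ω] {S T : Subgroup Ω} {F : FusionSystem S} {E : FusionSystem T} {p : ℕ}

/-- A `p`-group of automorphisms from a subgroup. -/
theorem isPGroup_aut_stab [Finite S] [Fact p.Prime] (hS : IsPGroup p S) (hT : F.StronglyClosed T)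
    {Q : Subgroup Ω} (hQ : Q ≤ S) {a : MulAut Q}
    (hfix : ∀ x : Q, (x : Ω) ∈ T → a x = x)
    (hmod : ∀ x : Q, (x : Ω)⁻¹ * ((a x : Q) : Ω) ∈ T) : ∃ k : ℕ, a ^ p ^ k = 1 := by
  haveI := finite_of_le hQ
  obtain ⟨k, hk⟩ := IsPGroup.iff_card.1 (hS.to_le hQ)
  refine ⟨k, MulEquiv.ext fun x => ?_⟩
  have h : ∀ n : ℕ, (a ^ n) x = x * (x⁻¹ * a x) ^ n := by
    intro n
    induction n with
    | zero => simp
    | succ n ih =>
      rw [pow_succ', MulAut.mul_apply, ih, map_mul, map_pow, hfix (x⁻¹ * a x) (hmod x), pow_succ',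
        ← mul_assoc x, mul_inv_cancel_left]
  rw [h, ← hk, pow_card_eq_one', mul_one]
  rfl

/-- The maps carrying `Y` to itself. -/
def keepSystem (F : FusionSystem S) (Y : Subgroup Ω) (hY : ∀ s ∈ S, ∀ x ∈ Y, s * x * s⁻¹ ∈ Y) :
    FusionSystem S where
  Hom P := {φ | φ ∈ F.Hom P ∧ ∀ x : P, (x : Ω) ∈ Y ↔ φ x ∈ Y}
  le_of_mem h := F.le_of_mem h.1
  injective_of_mem h := F.injective_of_mem h.1
  conj_mem := by
    intro P g hP hg
    refine ⟨F.conj_mem hP hg, fun x => ⟨fun hx => hY g hg x hx, fun hx => ?_⟩⟩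
    have := hY g⁻¹ (S.inv_mem hg) _ hx
    rwa [show g⁻¹ * conjHom P g x * g⁻¹⁻¹ = (x : Ω) by show g⁻¹ * (g * x * g⁻¹) * g⁻¹⁻¹ = _; group] at this
  comp_mem := fun hφ hψ h => ⟨F.comp_mem hφ.1 hψ.1 h, fun x => (hφ.2 x).trans (hψ.2 ⟨_, h x⟩)⟩
  inv_mem := by
    rintro P φ ⟨hφ, hφY⟩
    obtain ⟨ψ, hψ, hψe⟩ := F.inv_mem hφ
    refine ⟨ψ, ⟨hψ, ?_⟩, hψe⟩
    rintro ⟨_, x, rfl⟩
    rw [hψe x]
    exact (hφY x).symm

theorem le_normalizer_inf_sc (hT : F.StronglyClosed T) {Q : Subgroup Ω} :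
    normalizerIn S Q ≤ normalizerIn S (Q ⊓ T) :=
  fun g hg => ⟨hg.1, (Subgroup.mem_normalizer_iff.2 fun x => by
    have h1 := (Subgroup.mem_normalizer_iff.1 hg.2 x)
    have h2 := (Subgroup.mem_normalizer_iff.1 (stronglyClosed_le_normalizer hT hg.1) x)
    exact ⟨fun h => ⟨h1.1 h.1, h2.1 h.2⟩, fun h => ⟨h1.2 h.1, h2.2 h.2⟩⟩)⟩

/-- An element of `T` outside a subgroup normalizing it. -/
theorem exists_normalizing_mem [Finite S] [Fact p.Prime] (hS : IsPGroup p S) (hT : F.StronglyClosed T)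
    {Q : Subgroup Ω} (hQ : Q ≤ S) (hTQ : ¬ T ≤ Q) :
    ∃ t ∈ T, t ∈ Subgroup.normalizer (Q : Set Ω) ∧ t ∉ Q := by
  have hQT : Q ⊔ T ≤ S := sup_le hQ hT.1
  haveI := finite_of_le hQT
  obtain ⟨g, ⟨hg, hgN⟩, hgQ⟩ := SetLike.exists_of_lt (lt_normalizerIn (hS.to_le hQT)
    (lt_of_le_of_ne le_sup_left fun h => hTQ (h ▸ le_sup_right) : Q < Q ⊔ T))
  have h : ((Q ⊔ T : Subgroup Ω) : Set Ω) = (Q : Set Ω) * (T : Set Ω) :=
    Subgroup.coe_mul_of_left_le_normalizer_right _ _ (hQ.trans (stronglyClosed_le_normalizer hT))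
  replace hg : g ∈ (Q : Set Ω) * (T : Set Ω) := h ▸ hg
  obtain ⟨q, hq, t, ht, rfl⟩ := hg
  refine ⟨t, ht, ?_, fun htQ => hgQ (mul_mem hq htQ)⟩
  have := (Subgroup.normalizer (Q : Set Ω)).mul_mem (inv_mem (Subgroup.le_normalizer hq)) hgN
  rwa [inv_mul_cancel_left] at this

theorem le_of_top_of_fix [Finite S] [Fact p.Prime] (hS : IsPGroup p S)
    (hE : E.IsNormalIn F p) (K : FusionSystem S)
    (htop : ∀ Q : Subgroup Ω, T ≤ Q → Q ≤ S → F.autGroup Q ≤ K.autGroup Q)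
    (hfix : ∀ Q : Subgroup Ω, Q ≤ S → ∀ a ∈ F.autGroup Q,
      (∀ x : Q, (x : Ω) ∈ systemCentralizer F E p hE.1.2.2.2.1 → a x = x) → a ∈ K.autGroup Q) :
    F ≤ K := by
  have hEs := hE.1.1
  have hF := hE.1.2.1
  have hEi := hE.1.2.2
  set hsc := hEi.2.1 with hscdef
  have hTS : T ≤ S := hsc.1
  haveI := finite_of_le hTS
  have hT : IsPGroup p T := hS.to_le hTS
  set Y := systemCentralizer F E p hsc with hYdef
  refine le_of_autGroup_le' hS hF K fun Q hQ hbig => ?_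
  have hQS : Q ≤ S := by
    rcases hQ with rfl | hQ
    exacts [le_rfl, hQ.1.1]
  by_cases hTQ : T ≤ Q
  · exact htop Q hTQ hQS
  have hQess : F.IsEssential p Q := hQ.resolve_left fun h => hTQ (h ▸ hTS)
  have hQrad := isRadical_of_isEssential hS hQess
  obtain ⟨hQc, hQn, -⟩ := hQess
  haveI := finite_of_le hQS
  -- move `U = Q ∩ T` to a fully normalized subgroup
  have hUS : Q ⊓ T ≤ S := inf_le_left.trans hQS
  obtain ⟨U', hUU', hU'n⟩ := exists_isFullyNormalized F hUS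
  obtain ⟨hU'fc, hU'fa⟩ := isFullyAutomized_and_fc_of_fn hS hF hU'n
  obtain ⟨μ, hμ, -, hμmap⟩ := exists_normalizer_map hS hU'fa (isReceptive_of_fc hS hF hU'fc) hUU'
  have hQN : Q ≤ normalizerIn S (Q ⊓ T) := (le_normalizerIn hQS).trans (le_normalizer_inf_sc hsc)
  obtain ⟨t₀, ht₀, ht₀N, ht₀Q⟩ := exists_normalizing_mem hS hsc hQS hTQ
  have hμK : μ ∈ K.Hom (normalizerIn S (Q ⊓ T)) := by
    refine hbig _ ?_ hμ
    haveI := finite_of_le (normalizerIn_le (S := S) (Q ⊓ T))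
    refine Set.Finite.card_lt_card (Set.toFinite _) (lt_of_le_of_ne hQN fun h => ht₀Q ?_)
    have h2 : Q = normalizerIn S (Q ⊓ T) := SetLike.coe_injective h
    rw [h2]
    exact le_normalizer_inf_sc hsc ⟨hTS ht₀, ht₀N⟩
  have hμQ := restrict_mem hμK hQN
  set Q' := (μ.comp (Subgroup.inclusion hQN)).range with hQ'def
  set e := homIso hμQ (rfl : (μ.comp (Subgroup.inclusion hQN)).range = Q') with hedef
  have heK : IsoIn K e := isoIn_homIso hμQ rfl
  have heF : IsoIn F e := isoIn_homIso (restrict_mem hμ hQN) rfl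
  have hQ'S : Q' ≤ S := heF.le_right
  haveI := finite_of_le hQ'S
  have heT : ∀ x : Q, (x : Ω) ∈ T ↔ (e x : Ω) ∈ T := fun x =>
    ⟨fun hx => stronglyClosed_apply_mem hsc heF hx, fun hx => by
      have := stronglyClosed_apply_mem hsc heF.symm hx
      rwa [MonoidHom.comp_apply, MulEquiv.coe_toMonoidHom, MulEquiv.symm_apply_apply] at this⟩
  have hU'mem : ∀ w : Ω, w ∈ U' ↔ w ∈ Q' ∧ w ∈ T := by
    intro w
    rw [← hμmap, mem_map_subgroupOf]
    constructor
    · rintro ⟨x, hx, hxU, rfl⟩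
      exact ⟨⟨⟨x, hxU.1⟩, rfl⟩, (heT ⟨x, hxU.1⟩).1 hxU.2⟩
    · rintro ⟨⟨x, rfl⟩, hxT⟩
      exact ⟨x, hQN x.2, ⟨x.2, (heT x).2 hxT⟩, rfl⟩
  have hU'T : U' ≤ T := fun w hw => ((hU'mem w).1 hw).2
  have hU'Q : U' ≤ Q' := fun w hw => ((hU'mem w).1 hw).1
  have hQ'c : F.IsCentric Q' := isCentric_of_conj hQc (isConj_iff.2 ⟨e, heF⟩)
  have hQ'n : F.IsFullyNormalized Q' := by
    refine ⟨hQ'S, fun R hR => (hQn.2 R (isConj_trans (isConj_iff.2 ⟨e, heF⟩) hR)).trans ?_⟩
    have hsub : normalizerIn S Q ≤ normalizerIn S (Q ⊓ T) := le_normalizer_inf_sc hsc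
    have hν := restrict_mem hμ hsub
    have hle : (μ.comp (Subgroup.inclusion hsub)).range ≤ normalizerIn S Q' := by
      rintro _ ⟨g, rfl⟩
      refine ⟨hom_mem hν g, ?_⟩
      have := map_mem_normalizer (Q := Q) μ (Subgroup.inclusion hsub g) g.2.2
      have hmapQ : (Q.subgroupOf (normalizerIn S (Q ⊓ T))).map μ = Q' := by
        ext w
        rw [mem_map_subgroupOf]
        exact ⟨fun ⟨x, _, hxQ, hw⟩ => ⟨⟨x, hxQ⟩, hw⟩, fun ⟨x, hw⟩ => ⟨x, hQN x.2, x.2, hw⟩⟩
      rwa [hmapQ] at this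
    haveI := finite_of_le (normalizerIn_le (S := S) Q')
    rw [← card_range hν]
    exact Nat.card_le_card_of_injective _ (Subgroup.inclusion_injective hle)
  -- `U'` is centric in `E`
  have hU'c : E.IsCentric U' := by
    have hU'nE := isFullyNormalized_of_invariant hS hF hEi.1 hsc hU'T hU'n
    haveI := finite_of_le hU'T
    refine isCentric_of_isFullyCentralized (isFullyAutomized_and_fc_of_fn hT hEs hU'nE).1 ?_
    set Wc := Q' ⊔ centralizerIn T U' with hWc
    by_contra hnot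
    have hnorm : Q' ≤ Subgroup.normalizer ((centralizerIn T U' : Subgroup Ω) : Set Ω) := by
      intro q hq
      have key : ∀ q ∈ Q', ∀ c ∈ centralizerIn T U', q * c * q⁻¹ ∈ centralizerIn T U' := by
        intro q hq c hc
        refine mem_centralizerIn.2 ⟨sc_conj_mem hsc (hQ'S hq) (mem_centralizerIn.1 hc).1, fun u hu => ?_⟩
        have hu' : q⁻¹ * u * q ∈ U' := (hU'mem _).2 ⟨mul_mem (mul_mem (inv_mem hq) (hU'Q hu)) hq, by
          have := sc_conj_mem hsc (S.inv_mem (hQ'S hq)) (hU'T hu)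
          rwa [inv_inv] at this⟩
        calc q * c * q⁻¹ * u = q * (c * (q⁻¹ * u * q)) * q⁻¹ := by group
          _ = q * (q⁻¹ * u * q * c) * q⁻¹ := by rw [(mem_centralizerIn.1 hc).2 _ hu']
          _ = u * (q * c * q⁻¹) := by group
      refine Subgroup.mem_normalizer_iff.2 fun c => ⟨key q hq c, fun h => ?_⟩
      have := key q⁻¹ (inv_mem hq) _ h
      rwa [inv_inv, show q⁻¹ * (q * c * q⁻¹) * q = c by group] at this
    have hWS : Wc ≤ S := sup_le hQ'S ((centralizerIn_le (S := T) U').trans hTS)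
    haveI := finite_of_le hWS
    obtain ⟨g, ⟨hg, hgN⟩, hgQ⟩ := SetLike.exists_of_lt (lt_normalizerIn (hS.to_le hWS)
      (lt_of_le_of_ne le_sup_left fun h => hnot fun c hc => (hU'mem c).2
        ⟨(h ▸ le_sup_right : centralizerIn T U' ≤ Q') hc, (mem_centralizerIn.1 hc).1⟩ : Q' < Wc))
    have hmul : ((Wc : Subgroup Ω) : Set Ω) = (Q' : Set Ω) * (centralizerIn T U' : Set Ω) :=
      Subgroup.coe_mul_of_left_le_normalizer_right _ _ hnorm
    replace hg : g ∈ (Q' : Set Ω) * (centralizerIn T U' : Set Ω) := hmul ▸ hg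
    obtain ⟨q, hq, n, hn, rfl⟩ := hg
    have hnN : n ∈ Subgroup.normalizer (Q' : Set Ω) := by
      have := (Subgroup.normalizer (Q' : Set Ω)).mul_mem (inv_mem (Subgroup.le_normalizer hq)) hgN
      rwa [inv_mul_cancel_left] at this
    -- the stabilizing automorphisms of `Q`
    let Δ : Subgroup (F.autGroup Q) :=
      { carrier := {a | ∀ x : Q, ((x : Ω) ∈ T → (a : MulAut Q) x = x) ∧
          (x : Ω)⁻¹ * (((a : MulAut Q) x : Q) : Ω) ∈ T}
        one_mem' := fun x => ⟨fun _ => rfl, by simp⟩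
        mul_mem' := by
          intro a b ha hb x
          refine ⟨fun hx => ?_, ?_⟩
          · show (a : MulAut Q) ((b : MulAut Q) x) = x
            rw [(hb x).1 hx, (ha x).1 hx]
          · show (x : Ω)⁻¹ * (((a : MulAut Q) ((b : MulAut Q) x) : Q) : Ω) ∈ T
            exact tcongr_trans hsc (hb x).2 (ha _).2
        inv_mem' := by
          intro a ha x
          have h0 : (a : MulAut Q) ((a : MulAut Q)⁻¹ x) = x := MulAut.apply_inv_self _ _ _
          refine ⟨fun hx => ?_, ?_⟩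
          · show (a : MulAut Q)⁻¹ x = x
            conv_lhs => rw [← (ha x).1 hx]
            rw [MulAut.inv_apply_self]
          · show (x : Ω)⁻¹ * (((a : MulAut Q)⁻¹ x : Q) : Ω) ∈ T
            have := T.inv_mem (ha ((a : MulAut Q)⁻¹ x)).2
            rwa [h0, mul_inv_rev, inv_inv] at this }
    haveI : Δ.Normal := ⟨fun a ha g x => by
      have hgx : ∀ z : Q, (z : Ω) ∈ T → (((g : MulAut Q) z : Q) : Ω) ∈ T := fun z hz =>
        stronglyClosed_aut_mem hsc g.2 hQS hz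
      have hgi : ∀ z : Q, (z : Ω) ∈ T → (((g : MulAut Q)⁻¹ z : Q) : Ω) ∈ T := fun z hz =>
        stronglyClosed_aut_mem hsc (inv_mem g.2) hQS hz
      refine ⟨fun hx => ?_, ?_⟩
      · show (g : MulAut Q) ((a : MulAut Q) ((g : MulAut Q)⁻¹ x)) = x
        rw [(ha _).1 (hgi x hx), MulAut.apply_inv_self]
      · show (x : Ω)⁻¹ * (((g : MulAut Q) ((a : MulAut Q) ((g : MulAut Q)⁻¹ x)) : Q) : Ω) ∈ T
        have h1 := hgx (((g : MulAut Q)⁻¹ x)⁻¹ * (a : MulAut Q) ((g : MulAut Q)⁻¹ x)) (ha _).2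
        rwa [map_mul, map_inv, MulAut.apply_inv_self] at h1⟩
    have hΔp : IsPGroup p Δ := fun a => by
      obtain ⟨k, hk⟩ := isPGroup_aut_stab hS hsc hQS (fun x => (a.2 x).1) (fun x => (a.2 x).2)
      exact ⟨k, Subtype.ext (Subtype.ext (by
        rw [SubmonoidClass.coe_pow, SubmonoidClass.coe_pow]; exact hk))⟩
    have hle : Δ.map (F.autGroup Q).subtype ≤ Inn Q :=
      hQrad.2 ▸ Subgroup.map_mono (Cfsg.Lib.Core.le_pCore' inferInstance hΔp)
    have hc : MulAut.congr e.symm (conjAut Q' hnN) ∈ F.autGroup Q :=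
      congr_mem_autGroup heF.symm
        (autInducedBy_le_autGroup hQ'S (conjAut_mem_autInducedBy hnN (hTS (mem_centralizerIn.1 hn).1)))
    have hmem : (⟨_, hc⟩ : F.autGroup Q) ∈ Δ := fun x => by
      refine ⟨fun hx => ?_, ?_⟩
      · show e.symm (conjAut Q' hnN (e x)) = x
        rw [show conjAut Q' hnN (e x) = e x from Subtype.ext (conj_eq_of_commute
          ((mem_centralizerIn.1 hn).2 _ ((hU'mem _).2 ⟨(e x).2, (heT x).1 hx⟩))), MulEquiv.symm_apply_apply]
      · show (x : Ω)⁻¹ * ((e.symm (conjAut Q' hnN (e x)) : Q) : Ω) ∈ T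
        refine (heT (x⁻¹ * e.symm (conjAut Q' hnN (e x)))).2 ?_
        rw [map_mul, map_inv, MulEquiv.apply_symm_apply]
        show (e x : Ω)⁻¹ * (n * (e x : Ω) * n⁻¹) ∈ T
        have h1 := sc_conj_mem hsc (S.inv_mem (hQ'S (e x).2)) (mem_centralizerIn.1 hn).1
        rw [inv_inv] at h1
        have h2 := T.mul_mem h1 (T.inv_mem (mem_centralizerIn.1 hn).1)
        rwa [show (e x : Ω)⁻¹ * n * e x * n⁻¹ = (e x : Ω)⁻¹ * (n * (e x : Ω) * n⁻¹) by group] at h2
    obtain ⟨y, hy⟩ := hle ⟨_, hmem, rfl⟩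
    refine hgQ (mul_mem hq (mem_of_conjAut_mem_inn (hQ'c.2 Q' (isConj_refl F hQ'S)) hQ'S
      (hTS (mem_centralizerIn.1 hn).1) (α := conjAut Q' hnN) (fun _ => rfl) ⟨e y, ?_⟩))
    apply MulEquiv.ext
    intro z
    have h := congrArg e (MulEquiv.congr_fun hy (e.symm z))
    simp only [MulAut.conj_apply, map_mul, map_inv, MulEquiv.apply_symm_apply] at h
    rw [MulAut.conj_apply, h]
    show e (e.symm (conjAut Q' hnN (e (e.symm z)))) = _
    rw [MulEquiv.apply_symm_apply, MulEquiv.apply_symm_apply]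
  -- the automorphisms of `Q'`
  suffices hQ' : F.autGroup Q' ≤ K.autGroup Q' by
    intro a ha
    have h := congr_mem_autGroup heK.symm (hQ' (congr_mem_autGroup heF ha))
    convert h using 1
    apply MulEquiv.ext
    intro x
    simp [MulAut.congr]
  obtain ⟨hQ'fc, -, R, hR⟩ := isFullyAutomized_and_fc_of_fn hS hF hQ'n
  let H : Subgroup (F.autGroup Q') :=
    { carrier := {a | (∀ x : Q', (x : Ω)⁻¹ * (((a : MulAut Q') x : Q') : Ω) ∈ T) ∧
        ∃ b ∈ E.autGroup U' ⊓ goodAut hsc U' (hU'T.trans hTS),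
          ∀ x : U', (((a : MulAut Q') (Subgroup.inclusion hU'Q x) : Q') : Ω) = (b x : Ω)}
      one_mem' := ⟨fun x => by simp, 1, one_mem _, fun x => rfl⟩
      mul_mem' := by
        rintro a a' ⟨ha, b, hb, hab⟩ ⟨ha', b', hb', hab'⟩
        refine ⟨fun x => tcongr_trans hsc (ha' x) (ha _), b * b', mul_mem hb hb', fun x => ?_⟩
        rw [MulAut.mul_apply, ← hab (b' x)]
        exact congrArg (fun z => (((a : MulAut Q') z : Q') : Ω)) (Subtype.ext (hab' x))
      inv_mem' := by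
        rintro a ⟨ha, b, hb, hab⟩
        refine ⟨fun x => ?_, b⁻¹, inv_mem hb, fun x => ?_⟩
        · show (x : Ω)⁻¹ * (((a : MulAut Q')⁻¹ x : Q') : Ω) ∈ T
          have := T.inv_mem (ha ((a : MulAut Q')⁻¹ x))
          rwa [MulAut.apply_inv_self, mul_inv_rev, inv_inv] at this
        · have h : (a : MulAut Q') (Subgroup.inclusion hU'Q (b⁻¹ x)) = Subgroup.inclusion hU'Q x :=
            Subtype.ext ((hab _).trans (by rw [MulAut.apply_inv_self]; rfl))
          show (((a : MulAut Q')⁻¹ (Subgroup.inclusion hU'Q x) : Q') : Ω) = _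
          rw [← h, MulAut.inv_apply_self]
          rfl }
  haveI : H.Normal := ⟨fun a ⟨ha, b, hb, hab⟩ g => by
    have hgT : ∀ z : Q', (z : Ω) ∈ T → (((g : MulAut Q') z : Q') : Ω) ∈ T := fun z hz =>
      stronglyClosed_aut_mem hsc g.2 hQ'S hz
    have hv : ∀ x : U', (((g : MulAut Q') (Subgroup.inclusion hU'Q x) : Q') : Ω) ∈ U' := fun x =>
      (hU'mem _).2 ⟨((g : MulAut Q') _).2, hgT _ (hU'T x.2)⟩
    obtain ⟨γ, hγ, hγe⟩ := exists_aut_restrict hQ'S g.2 hU'Q hv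
    refine ⟨fun x => ?_, γ * b * γ⁻¹, ⟨autGroup_invariant_conj_mem hEi hU'T hb.1 hγ,
      goodAut_conj hS hF hU'fc hb.2 hγ⟩, fun x => ?_⟩
    · show (x : Ω)⁻¹ * (((g : MulAut Q') ((a : MulAut Q') ((g : MulAut Q')⁻¹ x)) : Q') : Ω) ∈ T
      have h1 := hgT (((g : MulAut Q')⁻¹ x)⁻¹ * (a : MulAut Q') ((g : MulAut Q')⁻¹ x)) (ha _)
      rwa [map_mul, map_inv, MulAut.apply_inv_self] at h1
    · show (((g : MulAut Q') ((a : MulAut Q') ((g : MulAut Q')⁻¹ (Subgroup.inclusion hU'Q x))) : Q') : Ω) = _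
      have h : (g : MulAut Q') (Subgroup.inclusion hU'Q (γ⁻¹ x)) = Subgroup.inclusion hU'Q x :=
        Subtype.ext ((hγe _).symm.trans (by rw [MulAut.apply_inv_self]; rfl))
      rw [← h, MulAut.inv_apply_self, show (a : MulAut Q') (Subgroup.inclusion hU'Q (γ⁻¹ x)) =
        Subgroup.inclusion hU'Q (b (γ⁻¹ x)) from Subtype.ext (hab _), ← hγe]
      rfl⟩
  haveI : Finite (MulAut Q') := Finite.of_injective (fun f => (f : Q' → Q')) DFunLike.coe_injective
  -- the intersection of the Sylow subgroup with `H`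
  have hRHle : IsPGroup p ((R : Subgroup (F.autGroup Q')).subgroupOf H) := R.isPGroup'.comap_subtype
  obtain ⟨R₁, hR₁⟩ := hRHle.exists_le_sylow
  have hR₁eq : ((R₁ : Subgroup H).map H.subtype) = (R : Subgroup (F.autGroup Q')) ⊓ H := by
    have hp : IsPGroup p ((R₁ : Subgroup H).map H.subtype) := R₁.isPGroup'.map _
    obtain ⟨R₂, hR₂⟩ := hp.exists_le_sylow
    have hcard : Nat.card ((R₁ : Subgroup H).map H.subtype) ≤ Nat.card ((R : Subgroup (F.autGroup Q')) ⊓ H : Subgroup (F.autGroup Q')) := by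
      obtain ⟨g, hg⟩ := MulAction.exists_smul_eq (F.autGroup Q') R₂ R
      refine le_trans (le_of_eq ?_) (Subgroup.card_le_of_le
        (H := ((R₁ : Subgroup H).map H.subtype).map (MulAut.conj g).toMonoidHom) (le_inf ?_ ?_))
      · exact Nat.card_congr (Subgroup.equivMapOfInjective _ _ (MulAut.conj g).injective).toEquiv
      · rintro _ ⟨w, hw, rfl⟩
        rw [← hg, Sylow.coe_subgroup_smul]
        exact Subgroup.smul_mem_pointwise_smul _ (MulAut.conj g) _ (hR₂ hw)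
      · rintro _ ⟨_, ⟨w, hw, rfl⟩, rfl⟩
        exact Subgroup.Normal.conj_mem inferInstance _ w.2 g
    refine (Subgroup.eq_of_le_of_card_ge (fun w hw => ?_) hcard).symm
    exact ⟨⟨w, hw.2⟩, hR₁ hw.1, rfl⟩
  have hgen : (⊤ : Subgroup (F.autGroup Q')) ≤ (K.autGroup Q').subgroupOf (F.autGroup Q') := by
    rw [← closure_pPrime_union_normalizer H R₁, Subgroup.closure_le]
    rintro a (⟨⟨haT, b, hb, hab⟩, hac⟩ | haN)
    · -- elements of order prime to `p`
      have hac' : (orderOf (a : MulAut Q')).Coprime p := by rwa [Subgroup.orderOf_coe]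
      have hpow : ∀ (n : ℕ) (x : U'),
          ((((a : MulAut Q') ^ n) (Subgroup.inclusion hU'Q x) : Q') : Ω) = ((b ^ n) x : Ω) := fun n x =>
        (aut_pow_agree hU'Q (θ := b) (fun y => (hab y).symm) n x).symm
      have hbc : (orderOf b).Coprime p := by
        refine Nat.Coprime.coprime_dvd_left (orderOf_dvd_of_pow_eq_one ?_) hac'
        exact MulEquiv.ext fun x => Subtype.ext (by rw [← hpow, pow_orderOf_eq_one]; rfl)
      obtain ⟨ψ, hψ, m, hm, hψm, hbm, hψb⟩ := exists_goodExt_pPrime hb.2 hbc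
      have hX : Q' ⊓ Y ≤ centralizerIn S U' := fun x hx => centralizerIn_anti hU'T hx.2.1
      have hWle : U' ⊔ (Q' ⊓ Y) ≤ Q' := sup_le hU'Q inf_le_left
      have hdisp : ∀ x : Q', (x : Ω)⁻¹ * (((a : MulAut Q') x : Q') : Ω) ∈ U' := fun x =>
        (hU'mem _).2 ⟨mul_mem (inv_mem x.2) ((a : MulAut Q') x).2, haT x⟩
      have hv : ∀ z : ↥(U' ⊔ (Q' ⊓ Y)),
          (((a : MulAut Q') (Subgroup.inclusion hWle z) : Q') : Ω) ∈ U' ⊔ (Q' ⊓ Y) := fun z => by
        have := mul_mem z.2 (Subgroup.mem_sup_left (hdisp (Subgroup.inclusion hWle z)) (T := Q' ⊓ Y))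
        rwa [Subgroup.coe_inclusion, mul_inv_cancel_left] at this
      obtain ⟨θ, hθ, hθe⟩ := exists_aut_restrict hQ'S a.2 hWle hv
      set M := m * orderOf (a : MulAut Q') with hM
      have hψM : ψ ^ M = 1 := by rw [hM, pow_mul, hψm, one_pow]
      have hbM : b ^ M = 1 := by rw [hM, pow_mul, hbm, one_pow]
      have hMc : M.Coprime p := Nat.Coprime.mul_left hm hac'
      have hrig := goodExt_rigid hS hF (hU'c.2 U' (isConj_refl E hU'T)) hU'fc hψ hMc hψM hX hθ
        (fun z hz => ((hθe z).trans (hab ⟨(z : Ω), hz⟩)).trans (hψb ⟨(z : Ω), hz⟩).symm)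
        (fun z _ => by rw [hθe z]; exact haT (Subgroup.inclusion hWle z))
        (aut_pow_eq_one hWle hθe (by rw [hM, mul_comm, pow_mul, pow_orderOf_eq_one, one_pow]))
      have hfixY : ∀ x : Q', (x : Ω) ∈ Y → (a : MulAut Q') x = x := by
        intro x hx
        have hxW : (x : Ω) ∈ U' ⊔ (Q' ⊓ Y) := Subgroup.mem_sup_right ⟨x.2, hx⟩
        have h := (hθe ⟨x, hxW⟩).symm.trans (hrig ⟨x, hxW⟩)
        apply Subtype.ext
        have h2 := aut_eq_self_of_mem_fixSub (systemCentralizer_le_fixSub hx) hU'T hU'n hU'c hψ hMc hψM hb.1 hbM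
          hψb (Subgroup.mem_sup_right (hX ⟨x.2, hx⟩))
        exact h.trans (congrArg Subtype.val h2 :)
      exact hfix Q' hQ'S a a.2 hfixY
    · -- elements normalizing the Sylow subgroup
      have hT' : ¬ T ≤ Q' := fun h => hTQ <| by
        haveI := finite_of_le (hU'T.trans hTS)
        have h1 : Nat.card T ≤ Nat.card U' :=
          Subgroup.card_le_of_le fun x hx => (hU'mem x).2 ⟨h hx, hx⟩
        rw [← card_eq_of_isConj hUU'] at h1
        exact (Subgroup.eq_of_le_of_card_ge inf_le_right h1).ge.trans inf_le_left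
      obtain ⟨t, ht, htN, htQ⟩ := exists_normalizing_mem hS hsc hQ'S hT'
      have htU : t ∈ Subgroup.normalizer (U' : Set Ω) := Subgroup.mem_normalizer_iff.2 fun x => by
        rw [hU'mem, hU'mem, ← (Subgroup.mem_normalizer_iff.1 htN x),
          ← (Subgroup.mem_normalizer_iff.1 (Subgroup.le_normalizer ht : t ∈ Subgroup.normalizer (T : Set Ω)) x)]
      have hbig' : ∀ M : Subgroup Ω, Nat.card Q' < Nat.card M → F.Hom M ⊆ K.Hom M := fun M hM =>
        hbig M ((card_eq_of_isConj (isConj_iff.2 ⟨e, heF⟩)).symm ▸ hM)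
      refine extensibleAut_le_of_bigger hQ'S hbig'
        (mem_extensibleAut_of_induced (isReceptive_of_fc hS hF hQ'fc) a.2 (hTS ht) htN htQ ?_)
      have hcH : (⟨conjAut Q' htN, autInducedBy_le_autGroup hQ'S (conjAut_mem_autInducedBy htN (hTS ht))⟩ :
          F.autGroup Q') ∈ (R : Subgroup (F.autGroup Q')) ⊓ H := by
        refine ⟨?_, fun x => ?_, conjAut U' htU, ⟨?_, conjAut_mem_goodAut hsc _ ht htU⟩, fun x => rfl⟩
        · rw [hR]
          exact conjAut_mem_autInducedBy htN (hTS ht)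
        · show (x : Ω)⁻¹ * (t * (x : Ω) * t⁻¹) ∈ T
          have h1 := sc_conj_mem hsc (S.inv_mem (hQ'S x.2)) ht
          rw [inv_inv] at h1
          have h2 := T.mul_mem h1 (T.inv_mem ht)
          rwa [show (x : Ω)⁻¹ * t * x * t⁻¹ = (x : Ω)⁻¹ * (t * x * t⁻¹) by group] at h2
        · exact autInducedBy_le_autGroup hU'T (conjAut_mem_autInducedBy htU ht)
      rw [hR₁eq] at haN
      have h := ((Subgroup.mem_normalizer_iff.1 haN _).1 hcH).1
      rw [hR] at h
      exact h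
  intro a ha
  exact hgen (Subgroup.mem_top (⟨a, ha⟩ : F.autGroup Q'))

theorem stronglyClosed_systemCentralizer [Finite S] [Fact p.Prime] (hS : IsPGroup p S)
    (hE : E.IsNormalIn F p) : F.StronglyClosed (systemCentralizer F E p hE.1.2.2.2.1) := by
  have hcent0 := centralizesSystem_systemCentralizer hS hE
  have hF := hE.1.2.1
  have hEi := hE.1.2.2
  set hsc := hEi.2.1 with hscdef
  have hTS : T ≤ S := hsc.1
  set Y := systemCentralizer F E p hsc with hYdef
  have hcent : CentralizesSystem F E Y := hcent0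
  let K := keepSystem F Y fun s hs x hx => systemCentralizer_conj hs hx
  suffices hFK : F ≤ K from ⟨fun x hx => (mem_centralizerIn.1 hx.1).1,
    fun R hR φ hφ x => ((hFK R hφ).2 x).1 (hR x.2)⟩
  have htop : ∀ Q : Subgroup Ω, T ≤ Q → Q ≤ S → ∀ a ∈ F.autGroup Q, ∀ x : Q,
      (x : Ω) ∈ Y → ((a x : Q) : Ω) ∈ Y := by
    intro Q hTQ hQS a ha x hx
    have hX : CentralizesSystem F E (Q ⊓ Y) := centralizesSystem_mono hEi.1 hTS inf_le_right hcent
    exact le_systemCentralizer hS hF hEi (centralizesSystem_map hEi hX ((mem_autGroup hQS).1 ha)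
      (sup_le hTQ inf_le_left)) ⟨x, ⟨x.2, hx⟩, rfl⟩
  refine le_of_top_of_fix hS hE K (fun Q hTQ hQS a ha => (mem_autGroup hQS).2
    ⟨(mem_autGroup hQS).1 ha, fun x => ⟨htop Q hTQ hQS a ha x, fun hx => ?_⟩⟩)
    fun Q hQS a ha hfix => (mem_autGroup hQS).2
      ⟨(mem_autGroup hQS).1 ha, fun x => ⟨fun hx => ?_, fun hx => ?_⟩⟩
  · have := htop Q hTQ hQS a⁻¹ (inv_mem ha) _ hx
    exact (congrArg Subtype.val (MulAut.inv_apply_self _ a x) : ((a⁻¹ (a x) : Q) : Ω) = x) ▸ this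
  · show ((a x : Q) : Ω) ∈ Y
    rw [hfix x hx]
    exact hx
  · have h := hfix _ hx
    exact (congrArg Subtype.val (a.injective h) : ((a x : Q) : Ω) = x) ▸ hx

end Cfsg.Lib.FusionSys
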