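import Cfsg.Agent.Lib.FusionSys.ResidualModel

/-!
Saturated subsystems lie in every subsystem of `p`-power index over a large enough subgroup.
-/

set_option autoImplicit false

namespace Cfsg.Lib.FusionSys

open Cfsg Cfsg.FusionSystem

variable {Ω : Type*} [Group Ω] {S T U : Subgroup Ω}

/-- The maps of a system between subgroups of `T`. -/
def fullOn (F : FusionSystem S) (T : Subgroup Ω) (hT : T ≤ S) : FusionSystem T where
  Hom P := {φ | φ ∈ F.Hom P ∧ P ≤ T ∧ ∀ x, φ x ∈ T}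
  le_of_mem h := ⟨h.2.1, h.2.2⟩
  injective_of_mem h := F.injective_of_mem h.1
  conj_mem := fun hP hg => ⟨F.conj_mem (hP.trans hT) (hT hg), hP, fun x =>
    T.mul_mem (T.mul_mem hg (hP x.2)) (T.inv_mem hg)⟩
  comp_mem := fun hφ hψ h => ⟨F.comp_mem hφ.1 hψ.1 h, hφ.2.1, fun _ => hψ.2.2 _⟩
  inv_mem := by
    rintro P φ ⟨hφ, hP, hv⟩
    obtain ⟨ψ, hψ, hr, he⟩ := exists_inv hφ rfl
    refine ⟨ψ, ⟨hψ, ?_, fun y => hP (hr.le ⟨y, rfl⟩)⟩, fun x => he x ⟨x, rfl⟩⟩
    rintro _ ⟨x, rfl⟩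
    exact hv x

theorem subsystem_le_of_pPower [Finite S] {p : ℕ} [Fact p.Prime] (hS : IsPGroup p S)
    {F : FusionSystem S} {E : FusionSystem T} (hE : E.IsSaturated p) (hsub : E.IsSubsystemOf F)
    {F₀ : FusionSystem U} (hTU : T ≤ U) (hidx : F₀.HasPPowerIndexIn F p) :
    E.IsSubsystemOf F₀ := by
  have hTS : T ≤ S := hom_le (hsub T (subtype_mem E le_rfl))
  haveI := finite_of_le hTS
  have key : E ≤ fullOn F₀ T hTU := by
    refine le_of_autGroup_le (hS.to_le hTS) hE _ fun P hP => ?_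
    have hPT : P ≤ T := hP.elim (fun e => e.le) fun e => e.1.1
    haveI := finite_of_le (hPT.trans hTS)
    haveI : Finite (MulAut P) := Finite.of_injective (fun f => (f : P → P)) DFunLike.coe_injective
    have hfn : E.IsFullyNormalized P := hP.elim (fun e => e ▸ isFullyNormalized_top E) fun e => e.2.1
    obtain ⟨-, R, hR⟩ := (isFullyAutomized_and_fc_of_fn (hS.to_le hTS) hE hfn).2
    refine le_of_sylow_of_coprime R (le_of_eq_of_le
      (by rw [hR, Subgroup.map_subgroupOf_eq_of_le (autInducedBy_le_autGroup hPT)])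
      (autInducedBy_le_autGroup hPT)) fun α hα hc => ?_
    have hαF : α ∈ F.autGroup P := (mem_autGroup (hPT.trans hTS)).2 (hsub P ((mem_autGroup hPT).1 hα))
    have h0 : α ∈ F₀.autGroup P := hidx.2.2 P (hPT.trans hTU)
      ⟨⟨α, hαF⟩, Cfsg.Lib.Fusion.mem_pResidual_of_coprime (by rwa [← Subgroup.orderOf_coe]), rfl⟩
    exact (mem_autGroup hPT).2 ⟨(mem_autGroup (hPT.trans hTU)).1 h0, hPT, fun x => hPT (α x).2⟩
  exact fun P φ hφ => (key P hφ).1

end Cfsg.Lib.FusionSys
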