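import Cfsg.Agent.Lib.FusionSys.TwistValue
import Cfsg.Agent.Lib.FusionSys.PPowerNormal
import Cfsg.Agent.Lib.FusionSys.Factor

/-!
Existence of the saturated subsystem of `p`-power index over a subgroup containing the hyperfocal one.
-/

set_option autoImplicit false
set_option linter.style.haveILetI false

universe u

namespace Cfsg.Lib.FusionSys

open Cfsg Cfsg.FusionSystem
open MulAction

variable {Ω : Type u} [Group Ω] {S : Subgroup Ω} {F : FusionSystem S} {p : ℕ} [Fact p.Prime]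
variable {X : Type u} [MulAction (↥S × ↥S) X] {M : Type u} [CommGroup M]

/-- `k` twists the left action along `φ`. -/
def IsTwistOf (X : Type u) [MulAction (↥S × ↥S) X] {P : Subgroup Ω} (φ : P →* Ω) (k : rightComm S X) : Prop :=
  ∀ (a : P) (ha : (a : Ω) ∈ S) (hφa : φ a ∈ S), k * leftHom S X ⟨a, ha⟩ = leftHom S X ⟨φ a, hφa⟩ * k

omit [Fact p.Prime] in
theorem exists_isTwistOf [Finite S] [Finite X] (hX : GraphStabilizers F X) (hst : StableAbove F X 0)
    {P : Subgroup Ω} {φ : P →* Ω} (hφ : φ ∈ F.Hom P) : ∃ k : rightComm S X, IsTwistOf X φ k := by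
  obtain ⟨k, hk⟩ := exists_twist_equiv hX hst (isoIn_homIso hφ rfl)
  refine ⟨⟨k, fun t x => ?_⟩, fun a ha hφa => Subtype.ext (Equiv.ext fun x => ?_)⟩
  · have h1 := hk 1 t x
    rw [map_one, map_one, map_one] at h1
    exact h1
  · exact hk a 1 x

omit [Fact p.Prime] in
theorem IsTwistOf.conj {P : Subgroup Ω} {g : Ω} (hg : g ∈ S) :
    IsTwistOf X (conjHom P g) (leftHom S X ⟨g, hg⟩) := fun a ha hga => by
  rw [← map_mul, ← map_mul]
  congr 1
  exact Subtype.ext (by simp [conjHom])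

omit [Fact p.Prime] in
theorem IsTwistOf.comp {P Q : Subgroup Ω} {φ : P →* Ω} {ψ : Q →* Ω} {k l : rightComm S X}
    (hk : IsTwistOf X φ k) (hl : IsTwistOf X ψ l) (h : ∀ x, φ x ∈ Q) (hS : ∀ x, φ x ∈ S) :
    IsTwistOf X (ψ.comp (φ.codRestrict Q h)) (l * k) := fun a ha hφa => by
  rw [mul_assoc, hk a ha (hS a), ← mul_assoc, hl ⟨φ a, h a⟩ (hS a) hφa, mul_assoc]
  rfl

/-- The data defining a subsystem of index `p`. -/
structure IndexData (F : FusionSystem S) (p : ℕ) (T : Subgroup Ω) (f : S →* M) (val : rightComm S X →* M) : Prop where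
  le : T ≤ S
  closed : F.StronglyClosed T
  ker : ∀ s : S, f s = 1 ↔ (s : Ω) ∈ T
  stable : ∀ (P : Subgroup Ω) (φ : P →* Ω) (hφ : φ ∈ F.Hom P) (x : P),
    f ⟨φ x, hom_mem hφ x⟩ = f ⟨x, hom_le hφ x.2⟩
  left_surj : ∀ z : M, ∃ s : S, val (leftHom S X s) = z
  left_ker : ∀ s : S, val (leftHom S X s) = 1 ↔ f s = 1
  central : ∀ {P : Subgroup Ω} (hP : P ≤ S), (∀ P' : Subgroup Ω, F.IsConj P P' → ∀ c : S,
      (c : Ω) ∈ centralizerIn S P' → f c = 1) →
    ∀ k : rightComm S X, (∀ a : P, Commute k (leftHom S X (Subgroup.inclusion hP a))) → val k = 1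
  twist : ∀ {P : Subgroup Ω} {φ : P →* Ω}, φ ∈ F.Hom P → ∃ k : rightComm S X, IsTwistOf X φ k
  surj_of_ne : ∀ (z w : M), z ≠ 1 → ∃ j : ℕ, z ^ j = w
  pow_eq : ∀ z : M, z ^ p = 1

variable {T : Subgroup Ω} {f : S →* M} {val : rightComm S X →* M}

omit [Fact p.Prime] in
/-- The maps with a twist of trivial value. -/
def valueKernel (hd : IndexData F p T f val) : FusionSystem T where
  Hom P := {φ | φ ∈ F.Hom P ∧ P ≤ T ∧ (∀ x, φ x ∈ T) ∧ ∃ k, IsTwistOf X φ k ∧ val k = 1}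
  le_of_mem h := ⟨h.2.1, h.2.2.1⟩
  injective_of_mem h := F.injective_of_mem h.1
  conj_mem := fun {P g} hP hg =>
    ⟨F.conj_mem (hP.trans hd.le) (hd.le hg), hP, fun x => T.mul_mem (T.mul_mem hg (hP x.2)) (T.inv_mem hg),
      _, IsTwistOf.conj (hd.le hg), (hd.left_ker _).2 ((hd.ker _).2 hg)⟩
  comp_mem := fun {P Q φ ψ} hφ hψ h => by
    obtain ⟨k, hk, hk1⟩ := hφ.2.2.2
    obtain ⟨l, hl, hl1⟩ := hψ.2.2.2
    exact ⟨F.comp_mem hφ.1 hψ.1 h, hφ.2.1, fun _ => hψ.2.2.1 _, l * k,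
      hk.comp hl h (hom_mem hφ.1), by rw [map_mul, hk1, hl1, one_mul]⟩
  inv_mem := by
    rintro P φ ⟨hφ, hP, hv, k, hk, hk1⟩
    obtain ⟨ψ, hψ, hr, he⟩ := exists_inv hφ rfl
    refine ⟨ψ, ⟨hψ, ?_, fun y => hP (hr.le ⟨y, rfl⟩), k⁻¹, ?_, by rw [map_inv, hk1, inv_one]⟩,
      fun x => he x ⟨x, rfl⟩⟩
    · rintro _ ⟨x, rfl⟩
      exact hv x
    · rintro ⟨_, x, rfl⟩ ha hb
      rw [inv_mul_eq_iff_eq_mul, ← mul_assoc, eq_mul_inv_iff_mul_eq]
      have h1 := hk x (hd.le (hP x.2)) ha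
      rw [show (⟨ψ ⟨φ x, x, rfl⟩, hb⟩ : S) = ⟨(x : Ω), hd.le (hP x.2)⟩ from Subtype.ext (he x _)]
      exact h1.symm

/-- Some conjugate of `P` has a centralizing element of nontrivial value. -/
def IsFreeAt (F : FusionSystem S) (f : S →* M) (P : Subgroup Ω) : Prop :=
  ∃ P' : Subgroup Ω, F.IsConj P P' ∧ ∃ c : S, (c : Ω) ∈ centralizerIn S P' ∧ f c ≠ 1

omit [Fact p.Prime] in
theorem twist_val_eq (hd : IndexData F p T f val) {P : Subgroup Ω} (hP : ¬ IsFreeAt F f P)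
    {φ : P →* Ω} (hφ : φ ∈ F.Hom P) {k l : rightComm S X} (hk : IsTwistOf X φ k) (hl : IsTwistOf X φ l) :
    val k = val l := by
  have h1 : val (l⁻¹ * k) = 1 := by
    refine hd.central (hom_le hφ) (fun P' hP' c hc => by_contra fun h => hP ⟨P', hP', c, hc, h⟩) _ fun a => ?_
    show l⁻¹ * k * _ = _ * (l⁻¹ * k)
    have e1 := hk a (hom_le hφ a.2) (hom_mem hφ a)
    have e2 := hl a (hom_le hφ a.2) (hom_mem hφ a)
    calc l⁻¹ * k * leftHom S X (Subgroup.inclusion (hom_le hφ) a)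
        = l⁻¹ * (leftHom S X ⟨φ a, hom_mem hφ a⟩ * k) := by rw [mul_assoc]; exact congrArg (l⁻¹ * ·) e1
      _ = l⁻¹ * (l * leftHom S X ⟨(a : Ω), hom_le hφ a.2⟩ * l⁻¹ * k) := by
          rw [e2, mul_inv_cancel_right]
      _ = leftHom S X (Subgroup.inclusion (hom_le hφ) a) * (l⁻¹ * k) := by
          simp only [mul_assoc, inv_mul_cancel_left]
          rfl
  rwa [map_mul, map_inv, inv_mul_eq_one, eq_comm] at h1

theorem exists_adjust_central [Finite S] (hS : IsPGroup p S) (hF : F.IsSaturated p)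
    (hd : IndexData F p T f val) {P Q : Subgroup Ω} (hP : IsFreeAt F f P) (hPQ : F.IsConj P Q)
    (hQ : F.IsFullyNormalized Q) (z : M) :
    ∃ c : S, (c : Ω) ∈ centralizerIn S Q ∧ val (leftHom S X c) = z := by
  obtain ⟨hfc, hfa⟩ := isFullyAutomized_and_fc_of_fn hS hF hQ
  obtain ⟨P', hPP', c, hc, hfc1⟩ := hP
  obtain ⟨χ, hχ, -, hχP⟩ := exists_normalizer_map hS hfa (isReceptive_of_fc hS hF hfc)
    (isConj_trans (isConj_symm hPP') hPQ)
  let c₁ : normalizerIn S P' := ⟨c, centralizerIn_le_normalizerIn P' hc⟩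
  have h1 : χ c₁ ∈ centralizerIn S Q := by
    refine ⟨hom_mem hχ c₁, ?_⟩
    have := map_mem_centralizer (Q := P') χ c₁ fun x hx => (mem_centralizerIn.1 hc).2 x hx
    rwa [hχP] at this
  set d : S := ⟨χ c₁, h1.1⟩
  have hd1 : val (leftHom S X d) ≠ 1 := by
    rw [Ne, hd.left_ker, hd.stable _ χ hχ c₁]
    exact hfc1
  obtain ⟨j, hj⟩ := hd.surj_of_ne _ z hd1
  refine ⟨d ^ j, ?_, by rw [map_pow, map_pow, hj]⟩
  rw [SubmonoidClass.coe_pow]
  exact pow_mem h1 j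

theorem isSaturated_valueKernel [Finite S] (hS : IsPGroup p S) (hF : F.IsSaturated p)
    (hd : IndexData F p T f val) : (valueKernel hd).IsSaturated p := by
  intro P hPT
  haveI := finite_of_le hd.le
  have hTn : ∀ s ∈ S, ∀ t ∈ T, s * t * s⁻¹ ∈ T := fun s hs t ht =>
    stronglyClosed_apply_mem hd.closed (F.conj_mem (P := T) hd.le hs) (x := ⟨t, ht⟩) ht
  obtain ⟨Q₀, hPQ₀, hQ₀⟩ := exists_isFullyNormalized F (hPT.trans hd.le)
  obtain ⟨φ₀, hφ₀, hφ₀r⟩ := id hPQ₀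
  have hQ₀T : Q₀ ≤ T := by
    rw [← hφ₀r]
    rintro _ ⟨x, rfl⟩
    exact hd.closed.2 P hPT φ₀ hφ₀ x
  obtain ⟨k₀, hk₀⟩ := hd.twist hφ₀
  obtain ⟨s, hs⟩ := hd.left_surj (val k₀)⁻¹
  -- a fully normalized conjugate reached by a map of trivial value
  have hc := F.conj_mem hQ₀.1 s.2
  set Q := (conjHom Q₀ (s : Ω)).range
  have hQS : Q ≤ S := range_le hc
  have hQT : Q ≤ T := by
    rintro _ ⟨x, rfl⟩
    exact hTn s s.2 x (hQ₀T x.2)
  have hcv : ∀ x : P, φ₀ x ∈ Q₀ := fun x => hφ₀r ▸ ⟨x, rfl⟩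
  set φ₁ := (conjHom Q₀ (s : Ω)).comp (φ₀.codRestrict Q₀ hcv) with hφ₁
  have hφ₁F : φ₁ ∈ F.Hom P := F.comp_mem hφ₀ hc hcv
  have hφ₁r : φ₁.range = Q := by
    ext y
    constructor
    · rintro ⟨x, rfl⟩; exact ⟨_, rfl⟩
    · rintro ⟨⟨z, hz⟩, rfl⟩
      obtain ⟨x, hx⟩ := hφ₀r.ge hz
      exact ⟨x, congrArg (conjHom Q₀ (s : Ω)) (Subtype.ext hx)⟩
  have hφ₁E : φ₁ ∈ (valueKernel hd).Hom P := ⟨hφ₁F, hPT, fun x => hQT (hφ₁r ▸ ⟨x, rfl⟩),
    _, hk₀.comp (IsTwistOf.conj s.2) hcv (hom_mem hφ₀), by rw [map_mul, hs, inv_mul_cancel]⟩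
  have hPQ : F.IsConj P Q := ⟨φ₁, hφ₁F, hφ₁r⟩
  have hQn : F.IsFullyNormalized Q := by
    refine ⟨hQS, fun R hR => ?_⟩
    refine (hQ₀.2 R (isConj_trans ⟨_, hc, rfl⟩ hR)).trans ?_
    haveI := finite_of_le (normalizerIn_le (S := S) Q₀)
    haveI := finite_of_le (normalizerIn_le (S := S) Q)
    have hcN := F.conj_mem (g := (s : Ω)) (normalizerIn_le (S := S) Q₀) s.2
    refine Nat.card_le_card_of_injective (fun z : normalizerIn S Q₀ =>
      (⟨conjHom _ (s : Ω) z, hom_mem hcN z, ?_⟩ : normalizerIn S Q)) fun a b hab =>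
      F.injective_of_mem hcN (congrArg Subtype.val hab)
    have := map_mem_normalizer (Q := Q₀) (conjHom (normalizerIn S Q₀) (s : Ω)) z z.2.2
    rwa [show (Q₀.subgroupOf (normalizerIn S Q₀)).map (conjHom (normalizerIn S Q₀) (s : Ω)) = Q from
      map_subgroupOf_eq (e := homIso hc rfl) (le_normalizerIn hQ₀.1) (fun x hQ hx => rfl)] at this
  obtain ⟨hQfc, -, R, hR⟩ := isFullyAutomized_and_fc_of_fn hS hF hQn
  have hQrec := isReceptive_of_fc hS hF hQfc
  haveI := finite_of_le hQS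
  haveI : Finite (MulAut Q) := Finite.of_injective (fun g => (g : Q → Q)) DFunLike.coe_injective
  refine ⟨Q, ⟨φ₁, hφ₁E, hφ₁r⟩, ⟨hQT, ?_⟩, hQT, fun R₁ φ hφ hφr => ?_⟩
  · -- fully automized
    have hmemE : ∀ {α : MulAut Q}, α ∈ (valueKernel hd).autGroup Q ↔ α ∈ F.autGroup Q ∧
        ∃ k, IsTwistOf X (Q.subtype.comp α.toMonoidHom) k ∧ val k = 1 := fun {α} => by
      rw [mem_autGroup hQT, mem_autGroup hQS]
      exact ⟨fun h => ⟨h.1, h.2.2.2⟩, fun h => ⟨h.1, hQT, fun x => hQT (α x).2, h.2⟩⟩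
    have hEle : (valueKernel hd).autGroup Q ≤ F.autGroup Q := fun α hα => (hmemE.1 hα).1
    haveI hnormal : (((valueKernel hd).autGroup Q).subgroupOf (F.autGroup Q)).Normal := by
      refine ⟨fun a ha b => ?_⟩
      rw [Subgroup.mem_subgroupOf] at ha ⊢
      obtain ⟨haF, k, hk, hk1⟩ := hmemE.1 ha
      obtain ⟨l, hl⟩ := hd.twist ((mem_autGroup hQS).1 b.2)
      refine hmemE.2 ⟨(b * a * b⁻¹ : F.autGroup Q).2, l * k * l⁻¹, ?_, by
        rw [map_mul, map_mul, map_inv, hk1, mul_one, mul_inv_cancel]⟩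
      intro x hx hbx
      set y : Q := (b : MulAut Q)⁻¹ x
      have h1 := hl y (hQS y.2) (hQS ((b : MulAut Q) y).2)
      rw [show (⟨(Q.subtype.comp (b : MulAut Q).toMonoidHom) y, hQS ((b : MulAut Q) y).2⟩ : S) = ⟨x, hx⟩ from
        Subtype.ext (congrArg (fun z : Q => (z : Ω)) ((b : MulAut Q).apply_symm_apply x) :)] at h1
      have h2 := hk y (hQS y.2) (hQS ((a : MulAut Q) y).2)
      have h3 := hl ((a : MulAut Q) y) (hQS ((a : MulAut Q) y).2) hbx
      calc l * k * l⁻¹ * leftHom S X ⟨x, hx⟩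
          = l * k * (l⁻¹ * (leftHom S X ⟨x, hx⟩ * l) * l⁻¹) := by simp only [mul_assoc, mul_inv_cancel, mul_one]
        _ = l * (k * leftHom S X ⟨y, hQS y.2⟩) * l⁻¹ := by rw [← h1]; simp only [mul_assoc, inv_mul_cancel_left]
        _ = (l * leftHom S X ⟨(a : MulAut Q) y, hQS ((a : MulAut Q) y).2⟩) * k * l⁻¹ := by
            rw [h2]; simp only [mul_assoc]; rfl
        _ = _ := by rw [h3]; simp only [mul_assoc]; rfl
    obtain ⟨R', hR'⟩ := exists_sylow_of_normal R (((valueKernel hd).autGroup Q).subgroupOf (F.autGroup Q))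
    let eq := Subgroup.subgroupOfEquivOfLe hEle
    refine ⟨R'.comapOfInjective eq.symm.toMonoidHom eq.symm.injective
      (by rw [MonoidHom.range_eq_top.2 eq.symm.surjective]; exact le_top), ?_⟩
    ext α
    show eq.symm α ∈ (R' : Subgroup _) ↔ _
    rw [hR', Subgroup.mem_subgroupOf, hR, Subgroup.mem_subgroupOf, Subgroup.mem_subgroupOf]
    show (α : MulAut Q) ∈ autInducedBy S Q ↔ (α : MulAut Q) ∈ autInducedBy T Q
    refine ⟨fun hα => ?_, fun hα => autInducedBy_mono hd.le hα⟩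
    obtain ⟨g, hg, hgα⟩ := mem_autInducedBy.1 hα
    obtain ⟨hαF, k, hk, hk1⟩ := hmemE.1 α.2
    have hkg : IsTwistOf X (Q.subtype.comp (α : MulAut Q).toMonoidHom) (leftHom S X ⟨g, hg⟩) := fun x hx hgx => by
      rw [← map_mul, ← map_mul]
      congr 1
      refine Subtype.ext ?_
      show g * x = ((α : MulAut Q) x : Ω) * g
      rw [hgα x, inv_mul_cancel_right]
    by_cases hfree : IsFreeAt F f Q
    · obtain ⟨c, hc', hc1⟩ := exists_adjust_central hS hF hd hfree (isConj_refl F hQS) hQn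
        (val (leftHom S X ⟨g, hg⟩))⁻¹
      refine mem_autInducedBy.2 ⟨g * c, ?_, fun x => ?_⟩
      · refine (hd.ker (⟨g, hg⟩ * c)).1 ((hd.left_ker _).1 ?_)
        rw [map_mul, map_mul, hc1, mul_inv_cancel]
      · rw [hgα x, mul_inv_rev, ← mul_assoc, mul_assoc g (c : Ω) (x : Ω),
          (mem_centralizerIn.1 hc').2 x x.2, ← mul_assoc, mul_inv_cancel_right]
    · have h1 := twist_val_eq hd hfree ((mem_autGroup hQS).1 hαF) hk hkg
      rw [hk1] at h1
      exact mem_autInducedBy.2 ⟨g, (hd.ker _).1 ((hd.left_ker _).1 h1.symm), hgα⟩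
  · -- receptive
    obtain ⟨hφF, hR₁T, hφT, k, hk, hk1⟩ := hφ
    have hNle : extender T R₁ φ ≤ extender S R₁ φ := fun x hx => by
      obtain ⟨h1, h2, h, h3, h4⟩ := mem_extender.1 hx
      exact mem_extender_of (hd.le h1) h2 (hd.le h3) h4
    obtain ⟨ψ₀, hψ₀, hψe⟩ := hQrec.2 R₁ φ hφF hφr
    set N := extender T R₁ φ
    have hNT : N ≤ T := fun x hx => (mem_extender.1 hx).1
    have hψ : ψ₀.comp (Subgroup.inclusion hNle) ∈ F.Hom N := restrict_mem hψ₀ hNle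
    set ψ := ψ₀.comp (Subgroup.inclusion hNle) with hψdef
    have hψT : ∀ x, ψ x ∈ T := fun x => hd.closed.2 N hNT ψ hψ x
    obtain ⟨l, hl⟩ := hd.twist hψ
    have hRN : R₁ ≤ N := le_extender hR₁T hφT
    by_cases hfree : IsFreeAt F f R₁
    · obtain ⟨c, hc', hc1⟩ := exists_adjust_central hS hF hd hfree ⟨φ, hφF, hφr⟩ hQn (val l)⁻¹
      have hcS := F.conj_mem (P := T) hd.le c.2
      refine ⟨(conjHom T (c : Ω)).comp (ψ.codRestrict T hψT), ⟨F.comp_mem hψ hcS hψT, hNT,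
        fun x => hTn c c.2 _ (hψT x), leftHom S X c * l, hl.comp (IsTwistOf.conj c.2) hψT (hom_mem hψ),
        by rw [map_mul, hc1, inv_mul_cancel]⟩, fun x hP hN => ?_⟩
      show (c : Ω) * ψ ⟨x, hN⟩ * (c : Ω)⁻¹ = _
      have h1 : ψ ⟨x, hN⟩ = φ ⟨x, hP⟩ := hψe x hP (hNle hN)
      rw [h1]
      exact conj_eq_of_commute ((mem_centralizerIn.1 hc').2 _ (hφr ▸ ⟨_, rfl⟩))
    · refine ⟨ψ, ⟨hψ, hNT, hψT, l, hl, ?_⟩, fun x hP hN => hψe x hP (hNle hN)⟩
      have hres : IsTwistOf X φ l := fun a ha hφa => by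
        have h1 : ψ ⟨a, hRN a.2⟩ = φ a := hψe a a.2 (hNle (hRN a.2))
        have h2 := hl ⟨a, hRN a.2⟩ ha (by rw [h1]; exact hφa)
        rw [show (⟨ψ ⟨a, hRN a.2⟩, _⟩ : S) = ⟨φ a, hφa⟩ from Subtype.ext h1] at h2
        exact h2
      exact (twist_val_eq hd hfree hφF hres hk).trans hk1

theorem hasPPowerIndexIn_valueKernel [Finite S] (hd : IndexData F p T f val)
    (hT : F.hyperfocalSubgroup p ≤ T) : (valueKernel hd).HasPPowerIndexIn F p := by
  refine ⟨fun P φ hφ => hφ.1, hT, fun P hP => ?_⟩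
  have hPS := hP.trans hd.le
  haveI := finite_of_le hPS
  haveI : Finite (MulAut P) := Finite.of_injective (fun g => (g : P → P)) DFunLike.coe_injective
  rw [pResidual, MonoidHom.map_closure]
  refine (Subgroup.closure_le _).2 ?_
  rintro _ ⟨a, ha, rfl⟩
  have hcop : (orderOf (a : MulAut P)).Coprime p := by rw [Subgroup.orderOf_coe]; exact ha
  obtain ⟨k, hk⟩ := hd.twist ((mem_autGroup hPS).1 a.2)
  have hiter : ∀ (n : ℕ) (x : P), k ^ n * leftHom S X ⟨x, hPS x.2⟩ =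
      leftHom S X ⟨((a : MulAut P) ^ n) x, hPS (((a : MulAut P) ^ n) x).2⟩ * k ^ n := by
    intro n
    induction n with
    | zero => intro x; simp
    | succ n ih =>
      intro x
      rw [pow_succ, mul_assoc, hk x (hPS x.2) (hPS ((a : MulAut P) x).2), ← mul_assoc]
      refine Eq.trans (congrArg (· * k) (ih ((a : MulAut P) x))) ?_
      rw [mul_assoc]
      rfl
  obtain ⟨j, hj1, hj2⟩ := Nat.chineseRemainder hcop 1 0
  obtain ⟨c, hc⟩ := Nat.modEq_zero_iff_dvd.1 hj2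
  have hpowj : (a : MulAut P) ^ j = a := by
    conv_rhs => rw [← pow_one (a : MulAut P)]
    exact pow_eq_pow_iff_modEq.2 hj1
  refine (mem_autGroup hP).2 ⟨(mem_autGroup hPS).1 a.2, hP, fun x => hP ((a : MulAut P) x).2, k ^ j, ?_, ?_⟩
  · intro x hx hax
    refine (hiter j x).trans ?_
    refine congrArg (· * k ^ j) (congrArg (leftHom S X) (Subtype.ext ?_))
    exact congrArg (fun z : MulAut P => ((z x : P) : Ω)) hpowj
  · rw [map_pow, hc, mul_comm, pow_mul, hd.pow_eq]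

theorem exists_pPower_index_prime [Finite S] (hS : IsPGroup p S) (hF : F.IsSaturated p)
    {T : Subgroup Ω} (hTS : T ≤ S) (hn : (T.subgroupOf S).Normal) (hi : (T.subgroupOf S).index = p)
    (hT : F.hyperfocalSubgroup p ≤ T) :
    ∃ E : FusionSystem T, E.IsSaturated p ∧ E.HasPPowerIndexIn F p := by
  classical
  haveI := hn
  have hp : p.Prime := Fact.out
  have hcardM : Nat.card (S ⧸ T.subgroupOf S) = p := by rw [← Subgroup.index_eq_card, hi]
  haveI : IsCyclic (S ⧸ T.subgroupOf S) := isCyclic_of_prime_card hcardM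
  letI : CommGroup (S ⧸ T.subgroupOf S) :=
    { (inferInstance : Group (S ⧸ T.subgroupOf S)) with
      mul_comm := fun a b => (IsMulCommutative.is_comm (M := S ⧸ T.subgroupOf S)).comm a b }
  set f : S →* S ⧸ T.subgroupOf S := QuotientGroup.mk' (T.subgroupOf S)
  have hker : ∀ s : S, f s = 1 ↔ (s : Ω) ∈ T := fun s => QuotientGroup.eq_one_iff s
  have hexp : ∀ z : S ⧸ T.subgroupOf S, z ^ p = 1 := fun z => by rw [← hcardM]; exact pow_card_eq_one'
  have hclosed : F.StronglyClosed T := stronglyClosed_of_hyperfocal_le hS hF hn hT hTS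
  have hstable : ∀ (P : Subgroup Ω) (φ : P →* Ω) (hφ : φ ∈ F.Hom P) (x : P),
      f ⟨φ x, hom_mem hφ x⟩ = f ⟨x, hom_le hφ x.2⟩ := by
    intro P φ hφ x
    obtain ⟨c, hc, hcx⟩ := exists_conj_mod hS hF hn hT hTS P φ hφ
    have h1 : f ((⟨c, hc⟩ * ⟨(x : Ω), hom_le hφ x.2⟩ * ⟨c, hc⟩⁻¹)⁻¹ * ⟨φ x, hom_mem hφ x⟩) = 1 :=
      (hker _).2 (hcx x)
    rw [map_mul, map_inv, inv_mul_eq_one, map_mul, map_mul, map_inv, mul_comm (f ⟨c, hc⟩),
      mul_inv_cancel_right] at h1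
    exact h1.symm
  obtain ⟨X, _, _, hX, hst, m, hm, hpm⟩ := exists_biset hS hF
  letI : Fintype (Quotient (rightSetoid S X)) := Fintype.ofFinite _
  let χ : ↥S × ↥S →* S ⧸ T.subgroupOf S := (f.comp (MonoidHom.fst S S))⁻¹ * f.comp (MonoidHom.snd S S)
  obtain ⟨g, hg⟩ := exists_equivariant (X := X) χ fun z x hz => by
    obtain ⟨Q', P', φ, hφ, -, hD⟩ := hX x
    have h1 : z ∈ stabilizer (↥S × ↥S) x := hz
    rw [← hD, mem_graph] at h1
    obtain ⟨y, hy1, hy2⟩ := h1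
    show (f z.1)⁻¹ * f z.2 = 1
    rw [show z.2 = ⟨φ y, hom_mem hφ y⟩ from Subtype.ext hy2, hstable P' φ hφ y,
      show z.1 = ⟨(y : Ω), hom_le hφ y.2⟩ from Subtype.ext hy1, inv_mul_cancel]
  have hg1 : ∀ (t : S) (x : X), g (((1 : S), t) • x) = f t * g x := fun t x => by
    rw [hg]
    show (f 1)⁻¹ * f t * g x = _
    rw [map_one, inv_one, one_mul]
  have hg2 : ∀ (s : S) (x : X), g ((s, (1 : S)) • x) = (f s)⁻¹ * g x := fun s x => by
    rw [hg]
    show (f s)⁻¹ * f 1 * g x = _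
    rw [map_one, mul_one]
  set val := permVal f g hg1
  have hQ : Nat.card (Quotient (rightSetoid S X)) = m :=
    Nat.eq_of_mul_eq_mul_right Nat.card_pos ((card_eq_orbits_mul hX).symm.trans hm)
  have hleft : ∀ s, val (leftHom S X s) = ((f s)⁻¹) ^ m := fun s => by
    rw [← hQ]; exact permVal_leftHom f g hg1 hg2 s
  have hm1 : ∀ z : S ⧸ T.subgroupOf S, z ^ m = 1 → z = 1 := fun z hz =>
    orderOf_eq_one_iff.1 (Nat.eq_one_of_dvd_coprimes ((hp.coprime_iff_not_dvd.2 hpm).symm)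
      (orderOf_dvd_of_pow_eq_one hz) (orderOf_dvd_of_pow_eq_one (hexp z)))
  have hgen : ∀ z w : S ⧸ T.subgroupOf S, z ≠ 1 → ∃ j : ℕ, z ^ j = w := fun z w hz => by
    obtain ⟨j, hj⟩ := (isOfFinOrder_of_finite z).mem_powers_iff_mem_zpowers.mpr
      (mem_zpowers_of_prime_card hcardM hz : w ∈ Subgroup.zpowers z)
    exact ⟨j, hj⟩
  have hd : IndexData F p T f val :=
    { le := hTS
      closed := hclosed
      ker := hker
      stable := hstable
      left_surj := fun z => by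
        obtain ⟨s, hs⟩ : ∃ s : S, f s ≠ 1 := by
          by_contra! h
          have : T.subgroupOf S = ⊤ := eq_top_iff.2 fun s _ => (hker s).1 (h s)
          rw [this, Subgroup.index_top] at hi
          exact hp.one_lt.ne hi
        obtain ⟨j, hj⟩ := hgen (val (leftHom S X s)) z (fun h => hs (inv_eq_one.1 (hm1 _ ((hleft s).symm.trans h))))
        exact ⟨s ^ j, by rw [map_pow, map_pow, hj]⟩
      left_ker := fun s => by
        rw [hleft]
        exact ⟨fun h => inv_eq_one.1 (hm1 _ h), fun h => by rw [h, inv_one, one_pow]⟩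
      central := fun hP hC k hk => permVal_eq_one_of_centralizing f g hg1 hS hX hexp hstable hP hC hk
      twist := fun hφ => exists_isTwistOf hX hst hφ
      surj_of_ne := hgen
      pow_eq := hexp }
  exact ⟨valueKernel hd, isSaturated_valueKernel hS hF hd, hasPPowerIndexIn_valueKernel hd hT⟩

theorem exists_pPower : ∀ (n : ℕ) {S : Subgroup Ω} (F : FusionSystem S), Finite S → IsPGroup p S →
    F.IsSaturated p → ∀ T : Subgroup Ω, T ≤ S → F.hyperfocalSubgroup p ≤ T → Nat.card S = n →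
    ∃ E : FusionSystem T, E.IsSaturated p ∧ E.HasPPowerIndexIn F p := by
  intro n
  induction n using Nat.strong_induction_on with
  | _ n ih =>
  intro S F hfin hS hF T hTS hT hn
  haveI := hfin
  rcases eq_or_lt_of_le hTS with rfl | hlt
  · exact ⟨F, hF, fun _ _ h => h, hT, fun P _ => Subgroup.map_subtype_le _⟩
  obtain ⟨M₀, hM₀, hle⟩ := (eq_top_or_exists_le_coatom (T.subgroupOf S)).resolve_left
    fun h => hlt.not_ge fun x hx => (h.ge trivial : (⟨x, hx⟩ : S) ∈ T.subgroupOf S)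
  have hMn := Cfsg.Lib.PGroup.normal_of_isCoatom hS hM₀
  have hMi := Cfsg.Lib.PGroup.index_of_isCoatom hS hM₀
  set M₁ := M₀.map S.subtype
  have hM₁S : M₁ ≤ S := Subgroup.map_subtype_le M₀
  have hTM : T ≤ M₁ := fun x hx => ⟨⟨x, hTS hx⟩, hle hx, rfl⟩
  have hsub : M₁.subgroupOf S = M₀ := Subgroup.comap_map_eq_self_of_injective S.subtype_injective M₀
  obtain ⟨E₁, hE₁, hE₁F⟩ := exists_pPower_index_prime (T := M₁) hS hF hM₁S (hsub.symm ▸ hMn)
    (by rw [hsub]; exact hMi) (hT.trans hTM)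
  haveI := finite_of_le hM₁S
  have hhyp : E₁.hyperfocalSubgroup p ≤ T := by
    refine le_trans (hyperfocal_le_of_coprime fun P hP α hα hcop x => ?_) hT
    exact mem_hyperfocal_of_coprime (hP.trans hM₁S)
      ((mem_autGroup (hP.trans hM₁S)).2 (hE₁F.1 P ((mem_autGroup hP).1 hα))) hcop x
  have hlt' : Nat.card M₁ < n := by
    rw [← hn]
    refine lt_of_le_of_ne (card_le_of_le hM₁S) fun h => ?_
    rw [Subgroup.card_subtype] at h
    exact hM₀.1 (Subgroup.eq_top_of_card_eq M₀ h)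
  obtain ⟨E, hE, hEE, -, hEi⟩ := ih _ hlt' E₁ inferInstance (hS.to_le hM₁S) hE₁ T hTM hhyp rfl
  refine ⟨E, hE, fun P φ h => hE₁F.1 P (hEE P h), hT, fun P hP => ?_⟩
  have hPM := hP.trans hTM
  haveI := finite_of_le (hP.trans hTS)
  haveI : Finite (MulAut P) := Finite.of_injective (fun g => (g : P → P)) DFunLike.coe_injective
  rw [pResidual, MonoidHom.map_closure]
  refine (Subgroup.closure_le _).2 ?_
  rintro _ ⟨a, ha, rfl⟩
  have h1 : (a : MulAut P) ∈ E₁.autGroup P :=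
    hE₁F.2.2 P hPM ⟨a, Cfsg.Lib.Fusion.mem_pResidual_of_coprime ha, rfl⟩
  exact hEi P hP ⟨⟨a, h1⟩, Cfsg.Lib.Fusion.mem_pResidual_of_coprime
    (show (orderOf (⟨(a : MulAut P), h1⟩ : E₁.autGroup P)).Coprime p by
      rw [← Subgroup.orderOf_coe, Subgroup.orderOf_coe a]; exact ha), rfl⟩

theorem existsUnique_pPower [Finite S] (hS : IsPGroup p S) (hF : F.IsSaturated p) (T : Subgroup Ω)
    (hTS : T ≤ S) (hT : F.hyperfocalSubgroup p ≤ T) :
    ∃ E : FusionSystem T, (E.IsSaturated p ∧ E.HasPPowerIndexIn F p) ∧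
      ∀ E' : FusionSystem T, E'.IsSaturated p → E'.HasPPowerIndexIn F p → E' = E := by
  obtain ⟨E, hE, hEF⟩ := exists_pPower _ F inferInstance hS hF T hTS hT rfl
  exact ⟨E, ⟨hE, hEF⟩, fun E' hE' hE'F => fusionSystem_le_antisymm
    (subsystem_le_of_pPower hS hE' hE'F.1 le_rfl hEF) (subsystem_le_of_pPower hS hE hEF.1 le_rfl hE'F)⟩

end Cfsg.Lib.FusionSys
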