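import Cfsg.Agent.Lib.FusionSys.CentralizerStronglyClosed
import Cfsg.Agent.Lib.FusionSys.CentralizerFocal
import Cfsg.Agent.Lib.FusionSys.KNormalizer
import Cfsg.Agent.Lib.FusionSys.PPowerExists
import Cfsg.Agent.Lib.FusionSys.PPowerIsNormal

/-!
The normal subsystem `C_F(E)` over `C_S(E)`.
-/

set_option autoImplicit false
set_option linter.style.haveILetI false

namespace Cfsg.Lib.FusionSys

open Cfsg Cfsg.FusionSystem

variable {Ω : Type*} [Group Ω] {S T : Subgroup Ω} {F : FusionSystem S} {E : FusionSystem T} {p : ℕ}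

theorem hom_image_eq [Finite S] (hT : F.StronglyClosed T) {W : Subgroup Ω} {φ : W →* Ω}
    (hφ : φ ∈ F.Hom W) (hTW : T ≤ W) {t : Ω} (ht : t ∈ T) :
    ∃ s : W, (s : Ω) ∈ T ∧ φ s = t := by
  have hr : (φ.comp (Subgroup.inclusion hTW)).range = T :=
    range_eq_of_card_le (restrict_mem hφ hTW) hT.1
      (fun x => hT.2 T le_rfl _ (restrict_mem hφ hTW) x) le_rfl
  obtain ⟨x, hx⟩ := hr.ge ht
  exact ⟨Subgroup.inclusion hTW x, x.2, hx⟩

/-- The maps whose `Y`-part extends to `T`. -/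
def extSystem [Finite S] (F : FusionSystem S) {T Y : Subgroup Ω} (hT : F.StronglyClosed T)
    (hY : F.StronglyClosed Y) : FusionSystem S where
  Hom P := {φ | φ ∈ F.Hom P ∧ ∃ ψ ∈ F.Hom ((P ⊓ Y) ⊔ T), ∀ x : ↥(P ⊓ Y),
    ψ (Subgroup.inclusion le_sup_left x) = φ (Subgroup.inclusion inf_le_left x)}
  le_of_mem h := F.le_of_mem h.1
  injective_of_mem h := F.injective_of_mem h.1
  conj_mem := fun hP hg => ⟨F.conj_mem hP hg, _,
    F.conj_mem (sup_le (inf_le_right.trans hY.1) hT.1) hg, fun _ => rfl⟩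
  comp_mem := by
    rintro P Q φ ψ ⟨hφ, φ', hφ', he⟩ ⟨hψ, ψ', hψ', he'⟩ h
    have hv : ∀ z, φ' z ∈ (Q ⊓ Y) ⊔ T := by
      refine hom_mem_of_sup (fun z hz => ?_) fun z hz => Subgroup.mem_sup_right
        (stronglyClosed_apply_mem hT hφ' hz)
      rw [show z = Subgroup.inclusion le_sup_left ⟨(z : Ω), hz⟩ from rfl, he]
      exact Subgroup.mem_sup_left ⟨h _, stronglyClosed_apply_mem hY hφ
        (show ((Subgroup.inclusion inf_le_left (⟨(z : Ω), hz⟩ : ↥(P ⊓ Y)) : P) : Ω) ∈ Y from hz.2)⟩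
    refine ⟨F.comp_mem hφ hψ h, _, F.comp_mem hφ' hψ' hv, fun x => ?_⟩
    have hm : φ (Subgroup.inclusion inf_le_left x) ∈ Q ⊓ Y :=
      ⟨h _, stronglyClosed_apply_mem hY hφ (x := Subgroup.inclusion inf_le_left x) x.2.2⟩
    show ψ' ⟨φ' (Subgroup.inclusion le_sup_left x), hv _⟩ = ψ ⟨φ (Subgroup.inclusion inf_le_left x), h _⟩
    refine (congrArg ψ' (Subtype.ext (he x) : _ = Subgroup.inclusion le_sup_left ⟨_, hm⟩)).trans
      ((he' ⟨_, hm⟩).trans rfl)
  inv_mem := by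
    rintro P φ ⟨hφ, φ', hφ', he⟩
    obtain ⟨ρ, hρ, hρe⟩ := F.inv_mem hφ
    obtain ⟨ρ', hρ', hρ'e⟩ := F.inv_mem hφ'
    have hmemY : ∀ x : P, φ x ∈ Y → (x : Ω) ∈ Y := fun x hx => by
      have := stronglyClosed_apply_mem hY hρ (x := ⟨φ x, x, rfl⟩) hx
      rwa [hρe x] at this
    have hle : (φ.range ⊓ Y) ⊔ T ≤ φ'.range := by
      refine sup_le ?_ fun t ht => ?_
      · rintro _ ⟨⟨x, rfl⟩, hx⟩
        exact ⟨Subgroup.inclusion le_sup_left ⟨(x : Ω), x.2, hmemY x hx⟩, he _⟩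
      · obtain ⟨s, -, hs⟩ := hom_image_eq hT hφ' le_sup_right ht
        exact ⟨s, hs⟩
    refine ⟨ρ, ⟨hρ, _, restrict_mem hρ' hle, ?_⟩, hρe⟩
    rintro ⟨_, ⟨x, rfl⟩, hx⟩
    have hx' : (x : Ω) ∈ P ⊓ Y := ⟨x.2, hmemY x hx⟩
    refine ((congrArg ρ' (Subtype.ext (he ⟨_, hx'⟩).symm : _ =
      (⟨φ' (Subgroup.inclusion le_sup_left ⟨_, hx'⟩), ⟨_, rfl⟩⟩ : φ'.range))).trans (hρ'e _)).trans ?_
    exact (hρe x).symm

/-- Every map on a subgroup of `C_S(E)` extends to `T`. -/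
theorem exists_ext_systemCentralizer [Finite S] [Fact p.Prime] (hS : IsPGroup p S)
    (hE : E.IsNormalIn F p) {P : Subgroup Ω} (hP : P ≤ systemCentralizer F E p hE.1.2.2.2.1)
    {φ : P →* Ω} (hφ : φ ∈ F.Hom P) :
    ∃ ψ ∈ F.Hom (P ⊔ T), ∀ x : P, ψ (Subgroup.inclusion le_sup_left x) = φ x := by
  have hT : F.StronglyClosed T := hE.1.2.2.2.1
  have hY := stronglyClosed_systemCentralizer hS hE
  have hFK : F ≤ extSystem F hT hY := le_of_top_of_fix hS hE _
    (fun Q hTQ hQS a ha => (mem_autGroup hQS).2 ⟨(mem_autGroup hQS).1 ha, _,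
      restrict_mem ((mem_autGroup hQS).1 ha) (sup_le inf_le_left hTQ), fun _ => rfl⟩)
    fun Q hQS a ha hfix => (mem_autGroup hQS).2 ⟨(mem_autGroup hQS).1 ha, _,
      subtype_mem F (sup_le (inf_le_right.trans hY.1) hT.1), fun x => by
        show (x : Ω) = ((a (Subgroup.inclusion inf_le_left x) : Q) : Ω)
        rw [hfix _ x.2.2]
        rfl⟩
  obtain ⟨ψ, hψ, he⟩ := (hFK P hφ).2
  exact ⟨_, restrict_mem hψ (sup_le_sup_right (le_inf le_rfl hP) T),
    fun x => he ⟨(x : Ω), x.2, hP x.2⟩⟩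

theorem focal_centralizerSystem_le [Finite S] [Fact p.Prime] (hS : IsPGroup p S) (hE : E.IsNormalIn F p)
    {C : FusionSystem (centralizerIn S T)} (hC : F.IsCentralizerSystem T C) :
    C.focalSubgroup ≤ systemCentralizer F E p hE.1.2.2.2.1 := by
  refine (Subgroup.closure_le _).2 ?_
  rintro _ ⟨P, φ, x, hφ, rfl⟩
  rw [hC] at hφ
  obtain ⟨-, hP, -, ψ, hψ, hψP, hψT⟩ := hφ
  have hle : T ⊔ Subgroup.zpowers (x : Ω) ≤ P ⊔ T :=
    sup_le le_sup_right ((Subgroup.zpowers_le.2 x.2).trans le_sup_left)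
  have h := inv_mul_map_mem_systemCentralizer (E := E) hS hE.1.2.1 hE.1.2.2.2.1 (hP x.2)
    (restrict_mem hψ hle) (fun t ht => hψT ⟨(t : Ω), ht⟩)
  show (x : Ω)⁻¹ * φ x ∈ systemCentralizer F E p hE.1.2.2.2.1
  rw [← hψP x]
  exact h

/-- A `p'`-automorphism of `C_S(E)` fixing `T` displaces `C_S(Y)` into `Z(Y)`. -/
theorem displacement_mem [Finite S] [Fact p.Prime] (hS : IsPGroup p S) (hE : E.IsNormalIn F p)
    {C : FusionSystem (centralizerIn S T)} (hC : F.IsCentralizerSystem T C)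
    {Y : Subgroup Ω} (hYdef : Y = systemCentralizer F E p hE.1.2.2.2.1)
    {ρ : MulAut ↥(Y ⊔ centralizerIn S Y)} (hρ : ρ ∈ F.autGroup (Y ⊔ centralizerIn S Y))
    (hcop : (orderOf ρ).Coprime p) (hfixT : ∀ x : ↥(Y ⊔ centralizerIn S Y), (x : Ω) ∈ T → ρ x = x)
    {c : ↥(Y ⊔ centralizerIn S Y)} (hc : (c : Ω) ∈ centralizerIn S Y) :
    (c : Ω)⁻¹ * (ρ c : Ω) ∈ Y ⊓ Subgroup.centralizer (Y : Set Ω) := by
  have hT : F.StronglyClosed T := hE.1.2.2.2.1
  have hY : F.StronglyClosed Y := by rw [hYdef]; exact stronglyClosed_systemCentralizer hS hE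
  have hYC : Y ≤ centralizerIn S T := hYdef.le.trans systemCentralizer_le
  have hTY : T ≤ centralizerIn S Y := le_centralizerIn_of_le hT.1 hYC
  have hWS : Y ⊔ centralizerIn S Y ≤ S := sup_le hY.1 (centralizerIn_le Y)
  have hTW : T ≤ Y ⊔ centralizerIn S Y := hTY.trans le_sup_right
  haveI := finite_of_le hWS
  haveI : Finite (MulAut ↥(Y ⊔ centralizerIn S Y)) := Finite.of_injective
    (fun f => (f : ↥(Y ⊔ centralizerIn S Y) → ↥(Y ⊔ centralizerIn S Y))) DFunLike.coe_injective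
  have hinv : ∀ w : ↥(Y ⊔ centralizerIn S Y), (w : Ω) ∈ centralizerIn S Y →
      ((ρ w : _) : Ω) ∈ centralizerIn S Y := by
    intro w hw
    refine mem_centralizerIn.2 ⟨hWS (ρ w).2, fun y hy => ?_⟩
    obtain ⟨s, hs, hse⟩ := hom_image_eq hY ((mem_autGroup hWS).1 hρ) le_sup_left hy
    change ((ρ s : _) : Ω) = y at hse
    rw [← hse, ← Subgroup.coe_mul, ← map_mul, ← Subgroup.coe_mul, ← map_mul]
    exact congrArg (fun z => ((ρ z : _) : Ω))
      (Subtype.ext ((mem_centralizerIn.1 hw).2 _ hs))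
  have hcomm : ∀ w : ↥(Y ⊔ centralizerIn S Y), (w : Ω) ∈ centralizerIn S T →
      ((ρ w : _) : Ω) ∈ centralizerIn S T := by
    intro w hw
    refine mem_centralizerIn.2 ⟨hWS (ρ w).2, fun t ht => ?_⟩
    have h1 := congrArg (fun z => ((ρ z : _) : Ω))
      (Subtype.ext ((mem_centralizerIn.1 hw).2 t ht) : w * ⟨t, hTW ht⟩ = ⟨t, hTW ht⟩ * w)
    simp only [map_mul, hfixT ⟨t, hTW ht⟩ ht, Subgroup.coe_mul] at h1
    exact h1
  -- the hyperfocal subgroup of `C_F(T)`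
  have hd : ∀ w : ↥(Y ⊔ centralizerIn S Y), (w : Ω) ∈ centralizerIn S Y → (w : Ω) ∈ centralizerIn S T →
      (w : Ω)⁻¹ * (ρ w : Ω) ∈ Y ⊓ Subgroup.centralizer (Y : Set Ω) := by
    intro w hw hwT
    refine ⟨?_, (mul_mem (inv_mem hw) (hinv w hw)).2⟩
    set P := Y ⊔ (centralizerIn S Y ⊓ centralizerIn S T) with hP
    have hPW : P ≤ Y ⊔ centralizerIn S Y := sup_le_sup_left inf_le_left Y
    have hPC : P ≤ centralizerIn S T := sup_le hYC inf_le_right
    have hv : ∀ z : P, ((ρ (Subgroup.inclusion hPW z) : _) : Ω) ∈ P := by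
      refine hom_mem_of_sup (f := ((Y ⊔ centralizerIn S Y).subtype.comp ρ.toMonoidHom).comp
        (Subgroup.inclusion hPW)) (fun z hz => Subgroup.mem_sup_left ?_)
        fun z hz => Subgroup.mem_sup_right ⟨hinv _ hz.1, hcomm _ hz.2⟩
      exact stronglyClosed_aut_mem hY hρ hWS (x := Subgroup.inclusion hPW z) hz
    obtain ⟨θ, hθ, hθe⟩ := exists_aut_restrict hWS hρ hPW hv
    have hθC : θ ∈ C.autGroup P := by
      refine (mem_autGroup hPC).2 ?_
      show _ ∈ C.Hom P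
      rw [hC]
      exact ⟨(mem_autGroup (hPC.trans (centralizerIn_le T))).1 hθ, hPC, fun z => hPC (θ z).2, _,
        restrict_mem ((mem_autGroup hWS).1 hρ) (sup_le hPW hTW),
        fun z => (hθe z).symm, fun t => congrArg Subtype.val (hfixT ⟨(t : Ω), hTW t.2⟩ t.2)⟩
    have hθc : (orderOf θ).Coprime p := Nat.Coprime.coprime_dvd_left
      (orderOf_dvd_of_pow_eq_one (aut_pow_eq_one hPW hθe (pow_orderOf_eq_one ρ))) hcop
    have h := mem_hyperfocal_of_coprime hPC hθC hθc ⟨(w : Ω), Subgroup.mem_sup_right ⟨hw, hwT⟩⟩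
    rw [hθe] at h
    exact hYdef.ge (focal_centralizerSystem_le hS hE hC (hyperfocal_le_focal C h))
  set d := c⁻¹ * ρ c with hddef
  have hdY : (d : Ω) ∈ centralizerIn S Y := mul_mem (inv_mem hc) (hinv c hc)
  have hdT : (d : Ω) ∈ centralizerIn S T := by
    refine mem_centralizerIn.2 ⟨hWS d.2, fun t ht => ?_⟩
    have h0 : (c : Ω) * t * (c : Ω)⁻¹ ∈ T := sc_conj_mem hT (hWS c.2) ht
    have h1 : ρ (c * ⟨t, hTW ht⟩ * c⁻¹) = c * ⟨t, hTW ht⟩ * c⁻¹ := hfixT _ h0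
    rw [map_mul, map_mul, map_inv, hfixT ⟨t, hTW ht⟩ ht] at h1
    have h2 : d * ⟨t, hTW ht⟩ = ⟨t, hTW ht⟩ * d := by
      rw [hddef]
      calc c⁻¹ * ρ c * ⟨t, hTW ht⟩ = c⁻¹ * (ρ c * ⟨t, hTW ht⟩ * (ρ c)⁻¹) * ρ c := by group
        _ = _ := by rw [h1]; group
    exact congrArg Subtype.val h2
  have hz₀ := hd d hdY hdT
  set z' := d⁻¹ * ρ d with hz'def
  have hdz : Commute d z' := Subtype.ext ((mem_centralizerIn.1 hdY).2 _ hz₀.1)
  have hiter : ∀ n : ℕ, ∃ z : ↥(Y ⊔ centralizerIn S Y),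
      (z : Ω) ∈ Y ⊓ Subgroup.centralizer (Y : Set Ω) ∧ (ρ ^ n) c = c * d ^ n * z := by
    intro n
    induction n with
    | zero => exact ⟨1, one_mem _, by simp⟩
    | succ n ih =>
      obtain ⟨z, hz, hn⟩ := ih
      refine ⟨z' ^ n * ρ z, ?_, ?_⟩
      · rw [Subgroup.coe_mul, Subgroup.coe_pow]
        exact mul_mem (pow_mem hz₀ n) ⟨stronglyClosed_aut_mem hY hρ hWS hz.1,
          (hinv z ⟨hWS z.2, hz.2⟩).2⟩
      · rw [pow_succ', MulAut.mul_apply, hn, map_mul, map_mul, map_pow,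
          show ρ c = c * d by rw [hddef]; group, show ρ d = d * z' by rw [hz'def]; group,
          hdz.mul_pow, pow_succ' d]
        group
  obtain ⟨z, hz, hm⟩ := hiter (orderOf ρ)
  rw [pow_orderOf_eq_one, MulAut.one_apply, mul_assoc, eq_comm, mul_eq_left] at hm
  obtain ⟨k, hk⟩ := exists_pow_eq_self_of_coprime (x := d) (n := orderOf ρ) (by
    obtain ⟨j, hj⟩ := (IsPGroup.iff_orderOf.1 (hS.to_le hWS)) d
    rw [hj]
    exact hcop.pow_right j)
  show (d : Ω) ∈ _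
  rw [← hk, eq_inv_of_mul_eq_one_left hm, Subgroup.coe_pow, Subgroup.coe_inv]
  exact pow_mem (inv_mem hz) k

theorem exists_centralizer_subsystem' [Finite S] [Fact p.Prime] (hS : IsPGroup p S)
    (hE : E.IsNormalIn F p) {Y : Subgroup Ω} (hYdef : Y = systemCentralizer F E p hE.1.2.2.2.1) :
    ∃ (C : FusionSystem (centralizerIn S T)) (D : FusionSystem Y), F.IsCentralizerSystem T C ∧
      D.HasPPowerIndexIn C p ∧ D.IsNormalIn F p ∧
      ∀ P : Subgroup Ω, D.Hom P ⊆ F.centralizerHom T P := by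
  have hF := hE.1.2.1
  have hT : F.StronglyClosed T := hE.1.2.2.2.1
  have hTS : T ≤ S := hT.1
  have hY : F.StronglyClosed Y := by rw [hYdef]; exact stronglyClosed_systemCentralizer hS hE
  have hYS : Y ≤ S := hY.1
  have hYC : Y ≤ centralizerIn S T := hYdef.le.trans systemCentralizer_le
  have hTY : T ≤ centralizerIn S Y := le_centralizerIn_of_le hTS hYC
  haveI := finite_of_le hYS
  haveI := finite_of_le (centralizerIn_le (S := S) T)
  have hTfc : F.IsFullyCentralized T := ⟨hTS, fun R ⟨φ, hφ, hφr⟩ => by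
    rw [← hφr, range_eq_of_card_le hφ hTS (fun x => hT.2 T le_rfl φ hφ x) le_rfl]⟩
  have hext : ∀ {P : Subgroup Ω}, P ≤ Y → ∀ {φ : P →* Ω}, φ ∈ F.Hom P →
      ∃ ψ ∈ F.Hom (P ⊔ T), ∀ x : P, ψ (Subgroup.inclusion le_sup_left x) = φ x :=
    fun {P} hP {φ} hφ => exists_ext_systemCentralizer hS hE (hP.trans hYdef.le) hφ
  obtain ⟨C, hC⟩ := exists_centralizerSystem F hTS
  have hCs : C.IsSaturated p := isSaturated_centralizerSystem hS hF hTfc hC
  have hCp : IsPGroup p (centralizerIn S T) := hS.to_le (centralizerIn_le T)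
  have hhyp : C.hyperfocalSubgroup p ≤ Y :=
    (hyperfocal_le_focal C).trans ((focal_centralizerSystem_le hS hE hC).trans hYdef.ge)
  have hYn : (Y.subgroupOf (centralizerIn S T)).Normal :=
    ⟨fun n hn g => sc_conj_mem hY (centralizerIn_le T g.2) hn⟩
  obtain ⟨D, hD, hidx⟩ := exists_pPower _ C inferInstance hCp hCs Y hYC hhyp rfl
  have hDn := isNormalIn_of_pPower hCp hCs hYn hhyp hYC hD hidx
  have hDC : ∀ P : Subgroup Ω, D.Hom P ⊆ F.centralizerHom T P := fun P φ hφ => hC P ▸ hidx.1 P hφ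
  have hDF : D.IsSubsystemOf F := fun P φ hφ => (hDC P hφ).1
  have hautC : ∀ α ∈ C.autGroup Y, α ∈ F.autGroup Y := fun α hα =>
    (mem_autGroup hYS).2 (hC Y ▸ ((mem_autGroup hYC).1 hα : _ ∈ C.Hom Y) :
      _ ∈ F.centralizerHom T Y).1
  -- conjugating maps of `C` by automorphisms of `Y`
  have hmove : ∀ {P : Subgroup Ω} (hP : P ≤ Y) {φ : P →* Ω}, φ ∈ C.Hom P → ∀ (hφY : ∀ x, φ x ∈ Y),
      ∀ α ∈ F.autGroup Y, ∃ χ ∈ C.Hom (autImage α P), ∀ (x : P)
        (hx : ((α ⟨x, hP x.2⟩ : Y) : Ω) ∈ autImage α P), χ ⟨_, hx⟩ = ((α ⟨φ x, hφY x⟩ : Y) : Ω) := by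
    intro P hP φ hφ hφY α hα
    rw [hC] at hφ
    obtain ⟨-, -, -, ψ, hψ, hψP, hψT⟩ := hφ
    obtain ⟨γ, hγ, hγY⟩ := hext le_rfl ((mem_autGroup hYS).1 hα)
    have hψW : ∀ z, ψ z ∈ Y ⊔ T := hom_mem_of_sup (fun z hz => by
        rw [show z = Subgroup.inclusion le_sup_left ⟨(z : Ω), hz⟩ from rfl, hψP]
        exact Subgroup.mem_sup_left (hφY _)) fun z hz => by
        rw [show z = Subgroup.inclusion le_sup_right ⟨(z : Ω), hz⟩ from rfl, hψT]
        exact Subgroup.mem_sup_right hz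
    obtain ⟨χ, hχ, hχe, hχT⟩ := exists_fix_move hψ hγ (sup_le_sup_right hP T) hψW hψT
    have hle : autImage α P ≤ (P.subgroupOf (Y ⊔ T)).map γ := by
      rintro _ ⟨y, hy, rfl⟩
      exact ⟨Subgroup.inclusion le_sup_left y, hy, hγY y⟩
    have hTle : T ≤ (T.subgroupOf (Y ⊔ T)).map γ := fun t ht => by
      obtain ⟨s, hs, hse⟩ := hom_image_eq hT hγ le_sup_right ht
      exact ⟨s, hs, hse⟩
    have hχ' := restrict_mem hχ (sup_le_sup hle hTle)
    have hval : ∀ (x : P) (hx : ((α ⟨x, hP x.2⟩ : Y) : Ω) ∈ autImage α P),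
        (χ.comp (Subgroup.inclusion (sup_le_sup hle hTle))).comp (Subgroup.inclusion le_sup_left)
          ⟨_, hx⟩ = ((α ⟨φ x, hφY x⟩ : Y) : Ω) := by
      intro x hx
      have hγx : γ (Subgroup.inclusion (sup_le_sup_right hP T) (Subgroup.inclusion le_sup_left x)) =
          ((α ⟨x, hP x.2⟩ : Y) : Ω) := hγY ⟨x, hP x.2⟩
      refine (congrArg χ (Subtype.ext hγx.symm)).trans ((hχe x ?_).trans ?_)
      · rw [hγx]
        exact Subgroup.mem_sup_left (hle hx)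
      · refine (congrArg γ (Subtype.ext (hψP x) : _ =
          Subgroup.inclusion le_sup_left (⟨φ x, hφY x⟩ : Y))).trans (hγY _)
    refine ⟨_, ?_, hval⟩
    rw [hC]
    refine ⟨restrict_mem hχ' le_sup_left, (autImage_le α P).trans hYC, fun y => ?_, _, hχ', fun _ => rfl,
      fun t => hχT ⟨(t : Ω), hTle t.2⟩⟩
    obtain ⟨y, hy⟩ := y
    have hy' := hy
    obtain ⟨x₀, hx₀, rfl⟩ := hy'
    refine hYC ?_
    exact (hval ⟨(x₀ : Ω), hx₀⟩ hy).symm ▸ (α _).2
  have hautY : ∀ α ∈ F.autGroup Y, α ∈ (fullOn F Y hYS).autGroup Y := fun α hα =>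
    (mem_autGroup le_rfl).2 ⟨(mem_autGroup hYS).1 hα, le_rfl, fun x => (α x).2⟩
  have htw : D ≤ twistCore (fullOn F Y hYS) D := by
    refine le_of_autGroup_le (hS.to_le hYS) hD _ fun P hP => ?_
    have hPY : P ≤ Y := hP.elim (fun e => e.le) fun e => e.1.1
    haveI := finite_of_le (hPY.trans hYS)
    haveI : Finite (MulAut P) := Finite.of_injective (fun f => (f : P → P)) DFunLike.coe_injective
    have hfn : D.IsFullyNormalized P := hP.elim (fun e => e ▸ isFullyNormalized_top D) fun e => e.2.1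
    obtain ⟨-, R, hR⟩ := (isFullyAutomized_and_fc_of_fn (hS.to_le hYS) hD hfn).2
    refine le_of_sylow_of_coprime R (le_of_eq_of_le
      (by rw [hR, Subgroup.map_subgroupOf_eq_of_le (autInducedBy_le_autGroup hPY)])
      (autInducedBy_le_autGroup hPY)) fun a ha hc => ?_
    have haD := (mem_autGroup hPY).1 ha
    refine (mem_autGroup hPY).2 ⟨⟨hDF P haD, hPY, fun x => hPY (a x).2⟩, fun β hβ => ?_⟩
    have hβF : β ∈ F.autGroup Y := (mem_autGroup hYS).2 ((mem_autGroup le_rfl).1 hβ).1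
    have hb := restrict_mem ((mem_autGroup hYS).1 hβF) hPY
    have hr : ((Y.subtype.comp β.toMonoidHom).comp (Subgroup.inclusion hPY)).range = autImage β P := by
      ext y
      exact ⟨fun ⟨x, hx⟩ => ⟨⟨x, hPY x.2⟩, x.2, hx⟩, fun ⟨t, ht, e⟩ => ⟨⟨(t : Ω), ht⟩, e⟩⟩
    obtain ⟨χ, hχ, hχe⟩ := hmove hPY (hidx.1 P haD) (fun x => hPY (a x).2) β hβF
    have hX : autImage β P ≤ centralizerIn S T := (autImage_le β P).trans hYC
    have h1 : MulAut.congr (homIso hb hr) a ∈ C.autGroup (autImage β P) := by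
      refine (mem_autGroup hX).2 (hom_congr hχ fun y => ?_)
      obtain ⟨x, rfl⟩ := (homIso hb hr).surjective y
      show (((homIso hb hr) (a ((homIso hb hr).symm (homIso hb hr x))) : autImage β P) : Ω) = _
      rw [MulEquiv.symm_apply_apply]
      exact (hχe x ((homIso hb hr) x).2).symm
    have hc' : (orderOf (MulAut.congr (homIso hb hr) a)).Coprime p := by rwa [MulEquiv.orderOf_eq]
    have h3 := (mem_autGroup (autImage_le β P)).1 (hidx.2.2 _ (autImage_le β P)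
      ⟨⟨_, h1⟩, Cfsg.Lib.Fusion.mem_pResidual_of_coprime (by rwa [← Subgroup.orderOf_coe]), rfl⟩)
    refine ⟨_, h3, fun x hx => ?_⟩
    rw [show (⟨_, hx⟩ : autImage β P) = homIso hb hr x from Subtype.ext rfl]
    show ((homIso hb hr (a ((homIso hb hr).symm (homIso hb hr x))) : autImage β P) : Ω) = _
    rw [MulEquiv.symm_apply_apply]
    rfl
  have hfrat : ∀ P : Subgroup Ω, P ≤ Y → ∀ φ ∈ F.Hom P, ∃ α ∈ F.autGroup Y, ∃ φ₀ ∈ D.Hom P,
      ∀ (x : P) (hx : φ₀ x ∈ Y), φ x = ((α ⟨φ₀ x, hx⟩ : Y) : Ω) := by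
    intro P hP φ hφ
    obtain ⟨ψ, hψ, hψP⟩ := hext hP hφ
    obtain ⟨τ, hτ, hτe⟩ := exists_aut_of_hom (restrict_mem hψ (le_sup_right : T ≤ P ⊔ T))
      fun t => hT.2 T le_rfl _ (restrict_mem hψ le_sup_right) t
    obtain ⟨β, hβ, hβe, -⟩ := exists_autGroup_ext hS hF hTfc hτ
    have hWS : T ⊔ centralizerIn S T ≤ S := sup_le hTS (centralizerIn_le T)
    have hYW : Y ≤ T ⊔ centralizerIn S T := hYC.trans le_sup_right
    obtain ⟨α, hα, hαe⟩ := exists_aut_restrict hWS hβ.1 hYW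
      (fun y => hYdef.ge (systemCentralizer_invariant hβ.1 (x := Subgroup.inclusion hYW y) (hYdef.le y.2)))
    have hψW : ∀ z, ψ z ∈ T ⊔ centralizerIn S T := hom_mem_of_sup (fun z hz => by
        rw [show z = Subgroup.inclusion le_sup_left ⟨(z : Ω), hz⟩ from rfl, hψP]
        exact hYW (hY.2 P hP φ hφ _)) fun z hz =>
      Subgroup.mem_sup_left (stronglyClosed_apply_mem hT hψ hz)
    have hχ := F.comp_mem hψ ((mem_autGroup hWS).1 (inv_mem hβ.1)) hψW
    set χ := ((T ⊔ centralizerIn S T).subtype.comp (β⁻¹).toMonoidHom).comp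
      (ψ.codRestrict (T ⊔ centralizerIn S T) hψW) with hχdef
    have hχP : ∀ x : P, χ (Subgroup.inclusion le_sup_left x) =
        ((α⁻¹ ⟨φ x, hY.2 P hP φ hφ x⟩ : Y) : Ω) := by
      intro x
      show ((β⁻¹ ⟨ψ (Subgroup.inclusion le_sup_left x), hψW _⟩ : _) : Ω) = _
      rw [show (⟨ψ (Subgroup.inclusion le_sup_left x), hψW _⟩ : ↥(T ⊔ centralizerIn S T)) =
        β (Subgroup.inclusion hYW (α⁻¹ ⟨φ x, hY.2 P hP φ hφ x⟩)) from Subtype.ext (by
          rw [← hαe, MulAut.apply_inv_self]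
          exact hψP x), MulAut.inv_apply_self]
      rfl
    have hχT : ∀ t : T, χ (Subgroup.inclusion le_sup_right t) = t := by
      intro t
      show ((β⁻¹ ⟨ψ (Subgroup.inclusion le_sup_right t), hψW _⟩ : _) : Ω) = _
      rw [show (⟨ψ (Subgroup.inclusion le_sup_right t), hψW _⟩ : ↥(T ⊔ centralizerIn S T)) =
        β (Subgroup.inclusion le_sup_left t) from Subtype.ext ((hτe t).symm.trans (hβe t).symm),
        MulAut.inv_apply_self]
      rfl
    have hχC : χ.comp (Subgroup.inclusion le_sup_left) ∈ C.Hom P := by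
      rw [hC]
      exact ⟨restrict_mem hχ le_sup_left, hP.trans hYC, fun x => hYC (by
        show χ (Subgroup.inclusion le_sup_left x) ∈ Y
        rw [hχP]; exact (α⁻¹ _).2), χ, hχ, fun _ => rfl, hχT⟩
    obtain ⟨α₁, hα₁, φ₀, hφ₀, he⟩ := hDn.1.2.2.2.2.2 P hP _ hχC
    refine ⟨α * α₁, mul_mem hα (hautC α₁ hα₁), φ₀, hφ₀, fun x hx => ?_⟩
    show φ x = ((α (α₁ ⟨φ₀ x, hx⟩) : Y) : Ω)
    rw [show α₁ ⟨φ₀ x, hx⟩ = α⁻¹ ⟨φ x, hY.2 P hP φ hφ x⟩ from
      Subtype.ext ((he x hx).symm.trans (hχP x)), MulAut.apply_inv_self]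
  refine ⟨C, D, hC, hidx, ⟨⟨hD, hF, hDF, hY, fun P hP φ hφ α hα => ?_, hfrat⟩, ?_⟩, hDC⟩
  · obtain ⟨χ, hχ, hχe⟩ := twistCore_invariant (hautY α hα) (htw P hφ)
    exact ⟨χ, twistCore_le_right _ hχ, fun x _ hx => hχe x hx⟩
  -- the extension condition
  have hWS : Y ⊔ centralizerIn S Y ≤ S := sup_le hYS (centralizerIn_le Y)
  haveI := finite_of_le hWS
  haveI : Finite (MulAut ↥(Y ⊔ centralizerIn S Y)) := Finite.of_injective
    (fun f => (f : ↥(Y ⊔ centralizerIn S Y) → ↥(Y ⊔ centralizerIn S Y))) DFunLike.coe_injective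
  haveI : Finite (MulAut Y) := Finite.of_injective (fun f => (f : Y → Y)) DFunLike.coe_injective
  have hCinv : ∀ β ∈ F.autGroup (Y ⊔ centralizerIn S Y), ∀ c : ↥(Y ⊔ centralizerIn S Y),
      (c : Ω) ∈ centralizerIn S Y → ((β c : _) : Ω) ∈ centralizerIn S Y := by
    intro β hβ c hc
    refine mem_centralizerIn.2 ⟨hWS (β c).2, fun y hy => ?_⟩
    obtain ⟨s, hs, hse⟩ := hom_image_eq hY ((mem_autGroup hWS).1 hβ) le_sup_left hy
    change ((β s : _) : Ω) = y at hse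
    rw [← hse, ← Subgroup.coe_mul, ← map_mul, ← Subgroup.coe_mul, ← map_mul]
    exact congrArg (fun z => ((β z : _) : Ω)) (Subtype.ext ((mem_centralizerIn.1 hc).2 _ hs))
  let W : Subgroup (MulAut Y) :=
    { carrier := {α | ∃ β ∈ F.autGroup (Y ⊔ centralizerIn S Y),
        (∀ x : Y, ((β (Subgroup.inclusion le_sup_left x) : _) : Ω) = ((α x : Y) : Ω)) ∧
        ∀ c : ↥(Y ⊔ centralizerIn S Y), (c : Ω) ∈ centralizerIn S Y →
          (c : Ω)⁻¹ * ((β c : _) : Ω) ∈ Y ⊓ Subgroup.centralizer (Y : Set Ω)}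
      one_mem' := ⟨1, one_mem _, fun x => rfl, fun c _ => by simp⟩
      mul_mem' := fun {a b} ⟨β, hβ, ha1, ha2⟩ ⟨γ, hγ, hb1, hb2⟩ => ⟨β * γ, mul_mem hβ hγ, fun x => by
        show ((β (γ (Subgroup.inclusion le_sup_left x)) : _) : Ω) = ((a (b x) : Y) : Ω)
        rw [show γ (Subgroup.inclusion le_sup_left x) = Subgroup.inclusion le_sup_left (b x) from
          Subtype.ext (hb1 x), ha1], fun c hc => by
        have h := mul_mem (hb2 c hc) (ha2 (γ c) (hCinv γ hγ c hc))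
        rw [mul_assoc, mul_inv_cancel_left] at h
        exact h⟩
      inv_mem' := fun {a} ⟨β, hβ, ha1, ha2⟩ => ⟨β⁻¹, inv_mem hβ, fun x => by
        rw [show Subgroup.inclusion le_sup_left x = β (Subgroup.inclusion le_sup_left (a⁻¹ x)) from
          Subtype.ext (by rw [ha1, MulAut.apply_inv_self]; rfl), MulAut.inv_apply_self]
        rfl, fun c hc => by
        have h := ha2 (β⁻¹ c) (hCinv β⁻¹ (inv_mem hβ) c hc)
        rw [MulAut.apply_inv_self] at h
        simpa using inv_mem h⟩ }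
  suffices hW : D.autGroup Y ≤ W from fun α hα => hW hα
  obtain ⟨-, R, hR⟩ := (isFullyAutomized_and_fc_of_fn (hS.to_le hYS) hD (isFullyNormalized_top D)).2
  refine le_of_sylow_of_coprime R ?_ fun α hα hc => ?_
  · rw [hR, Subgroup.map_subgroupOf_eq_of_le (autInducedBy_le_autGroup le_rfl)]
    intro α hα
    obtain ⟨y, hy, hye⟩ := mem_autInducedBy.1 hα
    have hyW : y ∈ Subgroup.normalizer ((Y ⊔ centralizerIn S Y : Subgroup Ω) : Set Ω) :=
      Subgroup.le_normalizer (Subgroup.mem_sup_left hy)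
    refine ⟨conjAut _ hyW, autInducedBy_le_autGroup hWS (conjAut_mem_autInducedBy hyW (hYS hy)),
      fun x => (hye x).symm, fun c hc => ?_⟩
    show (c : Ω)⁻¹ * (y * c * y⁻¹) ∈ _
    rw [conj_eq_of_commute ((mem_centralizerIn.1 hc).2 y hy).symm, inv_mul_cancel]
    exact one_mem _
  -- an automorphism of order prime to `p`
  obtain ⟨-, -, -, ψ, hψ, hψY, hψT⟩ := hDC Y ((mem_autGroup le_rfl).1 hα)
  have hXS : Y ⊔ T ≤ S := sup_le hYS hTS
  have hval : ∀ {φ : (Y ⊔ T : Subgroup Ω) →* Ω}, φ ∈ F.Hom (Y ⊔ T) → ∀ z, φ z ∈ Y ⊔ T :=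
    fun hφ => hom_mem_of_sup (fun z hz => Subgroup.mem_sup_left (stronglyClosed_apply_mem hY hφ hz))
      fun z hz => Subgroup.mem_sup_right (stronglyClosed_apply_mem hT hφ hz)
  have hXn : F.IsFullyNormalized (Y ⊔ T) := ⟨hXS, by
    rintro Q ⟨φ, hφ, rfl⟩
    rw [range_eq_of_card_le hφ hXS (hval hφ) le_rfl]⟩
  have hrec := isReceptive_of_fc hS hF (isFullyAutomized_and_fc_of_fn hS hF hXn).1
  obtain ⟨χ, hχ, hχe⟩ := hrec.2 _ ψ hψ (range_eq_of_card_le hψ hXS (hval hψ) le_rfl)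
  have hle : Y ⊔ centralizerIn S Y ≤ extender S (Y ⊔ T) ψ := by
    refine sup_le (le_sup_left.trans (le_extender hXS (hom_mem hψ))) fun c hc => ?_
    have hcS := centralizerIn_le Y hc
    refine mem_extender_of hcS (normalizer_inf_le ⟨stronglyClosed_le_normalizer hY hcS,
      stronglyClosed_le_normalizer hT hcS⟩) hcS ?_
    intro x hx
    refine hom_eq_on_sup (f := ψ.comp (((conjHom (Y ⊔ T) c).codRestrict (Y ⊔ T) fun z => ?_)))
      (g := (MulAut.conj c).toMonoidHom.comp ψ) (fun z hz => ?_) (fun z hz => ?_) x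
    · exact (Subgroup.mem_normalizer_iff.1 (normalizer_inf_le ⟨stronglyClosed_le_normalizer hY hcS,
        stronglyClosed_le_normalizer hT hcS⟩) z).1 z.2
    · show ψ ⟨c * (z : Ω) * c⁻¹, _⟩ = c * ψ z * c⁻¹
      rw [conj_eq_of_commute ((mem_centralizerIn.1 hc).2 _ (stronglyClosed_apply_mem hY hψ hz))]
      exact congrArg ψ (Subtype.ext (conj_eq_of_commute ((mem_centralizerIn.1 hc).2 _ hz)))
    · show ψ ⟨c * (z : Ω) * c⁻¹, _⟩ = c * ψ z * c⁻¹
      have hz' : c * (z : Ω) * c⁻¹ ∈ T := sc_conj_mem hT hcS hz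
      rw [show z = Subgroup.inclusion le_sup_right ⟨(z : Ω), hz⟩ from rfl, hψT]
      exact hψT ⟨_, hz'⟩
  have hv : ∀ z : ↥(Y ⊔ centralizerIn S Y), χ (Subgroup.inclusion hle z) ∈ Y ⊔ centralizerIn S Y := by
    refine hom_mem_of_sup (f := χ.comp (Subgroup.inclusion hle))
      (fun z hz => Subgroup.mem_sup_left (stronglyClosed_apply_mem hY hχ
        (x := Subgroup.inclusion hle z) hz)) fun z hz => Subgroup.mem_sup_right ?_
    refine mem_centralizerIn.2 ⟨hom_mem hχ _, fun y hy => ?_⟩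
    obtain ⟨s, hs, hse⟩ := hom_image_eq hY hχ (le_sup_left.trans hle) hy
    rw [← hse]
    show χ (Subgroup.inclusion hle z) * χ s = χ s * χ (Subgroup.inclusion hle z)
    rw [← map_mul, ← map_mul]
    exact congrArg χ (Subtype.ext ((mem_centralizerIn.1 hz).2 _ hs))
  obtain ⟨γ, hγ, hγe⟩ := exists_aut_of_hom (restrict_mem hχ hle) hv
  have hγY : ∀ x : Y, γ (Subgroup.inclusion le_sup_left x) = Subgroup.inclusion le_sup_left (α x) :=
    fun x => Subtype.ext ((hγe _).trans ((hχe x (Subgroup.mem_sup_left x.2) _).trans (hψY x)))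
  have hγT : ∀ x : ↥(Y ⊔ centralizerIn S Y), (x : Ω) ∈ T → γ x = x := fun x hx =>
    Subtype.ext ((hγe _).trans ((hχe x (Subgroup.mem_sup_right hx) _).trans (hψT ⟨(x : Ω), hx⟩)))
  have hpowY : ∀ (n : ℕ) (x : Y),
      (γ ^ n) (Subgroup.inclusion le_sup_left x) = Subgroup.inclusion le_sup_left ((α ^ n) x) := by
    intro n
    induction n with
    | zero => intro x; rfl
    | succ n ih => intro x; rw [pow_succ, MulAut.mul_apply, hγY, ih, pow_succ, MulAut.mul_apply]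
  have hpowT : ∀ (n : ℕ) (x : ↥(Y ⊔ centralizerIn S Y)), (x : Ω) ∈ T → (γ ^ n) x = x := by
    intro n
    induction n with
    | zero => intro x _; rfl
    | succ n ih => intro x hx; rw [pow_succ, MulAut.mul_apply, hγT x hx, ih x hx]
  have hγ0 : orderOf γ ≠ 0 := (orderOf_pos γ).ne'
  obtain ⟨j, hj1, hj2⟩ := Nat.chineseRemainder (hc.pow_right ((orderOf γ).factorization p)) 1 0
  have hcop : (orderOf (γ ^ j)).Coprime p := by
    refine (Nat.Coprime.coprime_dvd_left ?_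
      ((Nat.coprime_ordCompl (Fact.out : p.Prime) hγ0).symm : (ordCompl[p] (orderOf γ)).Coprime p))
    rw [orderOf_dvd_iff_pow_eq_one, ← pow_mul, ← orderOf_dvd_iff_pow_eq_one]
    conv_lhs => rw [← Nat.ordProj_mul_ordCompl_eq_self (orderOf γ) p]
    exact mul_dvd_mul_right (Nat.modEq_zero_iff_dvd.1 hj2) _
  have hαj : α ^ j = α := by
    conv_rhs => rw [← pow_one α]
    exact pow_eq_pow_iff_modEq.2 hj1
  exact ⟨γ ^ j, pow_mem hγ j, fun x => by rw [hpowY, hαj]; rfl,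
    fun c hc' => displacement_mem hS hE hC hYdef (pow_mem hγ j) hcop (hpowT j) hc'⟩

theorem exists_centralizer_subsystem [Finite S] [Fact p.Prime] (hS : IsPGroup p S)
    (hE : E.IsNormalIn F p) {Y : Subgroup Ω} (hYdef : Y = systemCentralizer F E p hE.1.2.2.2.1) :
    ∃ D : FusionSystem Y, D.IsNormalIn F p ∧ ∀ P : Subgroup Ω, D.Hom P ⊆ F.centralizerHom T P := by
  obtain ⟨-, D, -, -, hD, hDC⟩ := exists_centralizer_subsystem' hS hE hYdef
  exact ⟨D, hD, hDC⟩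

end Cfsg.Lib.FusionSys
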