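import Cfsg.Agent.Lib.FusionSys.LeastNormal

/-!
# Classes of restrictions to centric subgroups

For `E` saturated and invariant in `F`, an element of `Aut_F(T)` with a power prime to `p` in `K ⊇ Aut_E(T)` is in
`K` if it restricts to some centric subgroup of `E` as a map of `E`.
-/

set_option autoImplicit false
set_option linter.style.haveILetI false

namespace Cfsg.Lib.FusionSys

open Cfsg Cfsg.FusionSystem

variable {Ω : Type*} [Group Ω] {S T : Subgroup Ω} {F : FusionSystem S} {E : FusionSystem T} {p : ℕ}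

/-- An automorphism with a power prime to `p` in `K ⊇ Aut_E(T)` lies in `K` as soon as its restriction to a
centric subgroup of `E` is a map of `E`. -/
theorem mem_of_restrict_centric [Finite S] [Fact p.Prime] (hS : IsPGroup p S) (hE : E.IsSaturated p)
    (hEi : E.IsInvariantIn F) {K : Subgroup (MulAut T)} (hAK : E.autGroup T ≤ K) {m : ℕ}
    (hm : Nat.Coprime m p) :
    ∀ (n : ℕ) {c : MulAut T}, c ∈ F.autGroup T → c ^ m ∈ K → ∀ (P : Subgroup Ω),
      Nat.card T - Nat.card P = n → ∀ hP : P ≤ T, E.IsCentric P →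
        autRes c hP ∈ E.Hom P → c ∈ K := by
  have hTS : T ≤ S := hEi.2.1.1
  haveI := finite_of_le hTS
  have hT : IsPGroup p T := hS.to_le hTS
  intro n
  induction n using Nat.strong_induction_on with
  | _ n ih =>
  intro c hc hcm P hn hP hPc hres
  by_cases hPT : P = T
  · subst hPT
    exact hAK ((mem_autGroup le_rfl).2 (hom_congr hres fun x => rfl))
  set N := normalizerIn T P with hNdef
  have hlt : P < N := lt_normalizerIn hT (lt_of_le_of_ne hP hPT)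
  have hNT : N ≤ T := normalizerIn_le P
  haveI := finite_of_le hNT
  haveI := finite_of_le hP
  have hNc : E.IsCentric N := isCentric_mono hPc hlt.le hNT
  have hcard : Nat.card T - Nat.card N < n := by
    have h1 : Nat.card P < Nat.card N := Set.Finite.card_lt_card (Set.toFinite _) hlt
    have h2 : Nat.card N ≤ Nat.card T := card_le_of_le hNT
    omega
  have hRc : E.IsCentric (autRes c hP).range :=
    ⟨range_le hres, fun Q hQ => hPc.2 Q (isConj_trans ⟨_, hres, rfl⟩ hQ)⟩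
  obtain ⟨χ₁, hχ₁, hχ₁e⟩ :=
    (isReceptive_of_fc hT hE (isFullyCentralized_of_isCentric hRc)).2 P _ hres rfl
  have hle : N ≤ extender T P (autRes c hP) := by
    intro g hg
    refine mem_extender_of hg.1 hg.2 (c ⟨g, hg.1⟩).2 fun x hx => ?_
    show ((c ⟨g * (x : Ω) * g⁻¹, hP hx⟩ : T) : Ω) = _
    rw [show (⟨g * (x : Ω) * g⁻¹, hP hx⟩ : T) = ⟨g, hg.1⟩ * ⟨x, hP x.2⟩ * ⟨g, hg.1⟩⁻¹ from rfl,
      map_mul, map_mul, map_inv]
    rfl
  set χ := χ₁.comp (Subgroup.inclusion hle) with hχdef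
  have hχ : χ ∈ E.Hom N := restrict_mem hχ₁ hle
  have hPχ : ∀ (x : P) (hx : (x : Ω) ∈ N), χ ⟨x, hx⟩ = ((c ⟨x, hP x.2⟩ : T) : Ω) := fun x hx =>
    hχ₁e x x.2 (hle hx)
  have hmod : ∀ (g : N), ((c⁻¹ ⟨χ g, hom_mem hχ g⟩ : T) : Ω) ∈ N ∧
      (g : Ω)⁻¹ * ((c⁻¹ ⟨χ g, hom_mem hχ g⟩ : T) : Ω) ∈ P := by
    intro g
    set u : T := c⁻¹ ⟨χ g, hom_mem hχ g⟩ with hu
    have hcu : c u = ⟨χ g, hom_mem hχ g⟩ := MulAut.apply_inv_self _ _ _
    have hzP : (g : Ω)⁻¹ * (u : Ω) ∈ P := by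
      refine hPc.2 P (isConj_refl E hP) (mem_centralizerIn.2 ⟨T.mul_mem (T.inv_mem (hNT g.2)) u.2, ?_⟩)
      intro x hx
      have hgx : (g : Ω) * x * (g : Ω)⁻¹ ∈ P := (Subgroup.mem_normalizer_iff.1 g.2.2 x).1 hx
      have h1 := hPχ ⟨_, hgx⟩ (hlt.le hgx)
      have h2 : χ ⟨(g : Ω) * x * (g : Ω)⁻¹, hlt.le hgx⟩ =
          χ g * χ ⟨x, hlt.le hx⟩ * (χ g)⁻¹ := by
        rw [← map_inv, ← map_mul, ← map_mul]
        rfl
      rw [h2, hPχ ⟨x, hx⟩ (hlt.le hx)] at h1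
      have h3 : c (u * ⟨x, hP hx⟩ * u⁻¹) = c ⟨(g : Ω) * x * (g : Ω)⁻¹, hP hgx⟩ := by
        apply Subtype.ext
        rw [map_mul, map_mul, map_inv, hcu]
        exact h1
      have h4 : (u : Ω) * x * (u : Ω)⁻¹ = (g : Ω) * x * (g : Ω)⁻¹ :=
        congrArg Subtype.val (c.injective h3)
      refine commute_of_conj_eq ?_
      rw [mul_inv_rev, inv_inv,
        show (g : Ω)⁻¹ * (u : Ω) * x * ((u : Ω)⁻¹ * g) = (g : Ω)⁻¹ * ((u : Ω) * x * (u : Ω)⁻¹) * g by group,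
        h4]
      group
    refine ⟨?_, hzP⟩
    have := N.mul_mem g.2 (hlt.le hzP)
    rwa [mul_inv_cancel_left] at this
  let η₀ : N →* N :=
    MonoidHom.mk' (fun g => (⟨((c⁻¹ ⟨χ g, hom_mem hχ g⟩ : T) : Ω), (hmod g).1⟩ : N)) fun a b => by
      apply Subtype.ext
      show ((c⁻¹ ⟨χ (a * b), hom_mem hχ (a * b)⟩ : T) : Ω) = _
      rw [show (⟨χ (a * b), hom_mem hχ (a * b)⟩ : T) = ⟨χ a, hom_mem hχ a⟩ * ⟨χ b, hom_mem hχ b⟩ from
        Subtype.ext (map_mul χ a b), map_mul]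
      rfl
  have hη₀inj : Function.Injective η₀ := fun a b h => by
    have h1 : c⁻¹ ⟨χ a, hom_mem hχ a⟩ = c⁻¹ ⟨χ b, hom_mem hχ b⟩ :=
      Subtype.ext (congrArg (fun z : N => (z : Ω)) h)
    exact E.injective_of_mem hχ (congrArg Subtype.val ((c⁻¹).injective h1))
  let η : MulAut N := MulEquiv.ofBijective η₀ ⟨hη₀inj, Finite.surjective_of_injective hη₀inj⟩
  have hcη : ∀ g : N, c ⟨η g, hNT (η g).2⟩ = ⟨χ g, hom_mem hχ g⟩ := fun g =>
    MulAut.apply_inv_self _ c _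
  have hηP : ∀ g : N, (g : Ω) ∈ P → η g = g := by
    intro g hg
    have h0 : c⁻¹ ⟨χ g, hom_mem hχ g⟩ = ⟨(g : Ω), hP hg⟩ := by
      rw [show (⟨χ g, hom_mem hχ g⟩ : T) = c ⟨(g : Ω), hP hg⟩ from Subtype.ext (hPχ ⟨g, hg⟩ g.2),
        MulAut.inv_apply_self]
    exact Subtype.ext (congrArg (fun z : T => (z : Ω)) h0)
  -- the powers
  have hpow : ∀ k : ℕ, (autRes (c ^ k) hNT).comp (η ^ k).toMonoidHom ∈ E.Hom N := by
    intro k
    induction k with
    | zero => exact hom_congr (subtype_mem E hNT) fun g => rfl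
    | succ k ihk =>
      obtain ⟨χk, hχk, hχke⟩ := hEi.2.2.1 N hNT χ hχ (c ^ k) ((F.autGroup T).pow_mem hc k)
      have hv : ∀ g : N, ((autRes (c ^ k) hNT).comp (η ^ k).toMonoidHom) g ∈
          (N.subgroupOf T).map (T.subtype.comp (c ^ k).toMonoidHom) := fun g =>
        ⟨⟨((η ^ k) g : Ω), hNT ((η ^ k) g).2⟩, ((η ^ k) g).2, rfl⟩
      refine hom_congr (E.comp_mem ihk hχk hv) fun g => ?_
      refine Eq.trans ?_ (hχke ((η ^ k) g) (hom_mem hχ _) (hv g)).symm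
      show (((c ^ (k + 1)) ⟨((η ^ (k + 1)) g : Ω), _⟩ : T) : Ω) = _
      have hh : (η ^ (k + 1)) g = η ((η ^ k) g) := by rw [pow_succ', MulAut.mul_apply]
      rw [pow_succ, MulAut.mul_apply]
      refine congrArg (fun z : T => ((c ^ k) z : Ω)) ?_
      rw [show (⟨((η ^ (k + 1)) g : Ω), hNT ((η ^ (k + 1)) g).2⟩ : T) =
        ⟨(η ((η ^ k) g) : Ω), hNT (η ((η ^ k) g)).2⟩ from Subtype.ext (congrArg (fun z : N => (z : Ω)) hh :)]
      exact hcη _
  obtain ⟨j, hj⟩ : ∃ j : ℕ, η ^ p ^ j = 1 := by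
    obtain ⟨e, he⟩ := IsPGroup.iff_card.1 (hT.to_le hNT)
    have h3 := pow_eq_one_of_stabilizes (P := N) (α := η)
      (D := fun i => if i = 0 then ⊥ else if i = 1 then P else N) (n := 2) rfl rfl ?_ ?_
    · exact ⟨e * 2, by rwa [pow_mul, ← he]⟩
    · intro i _ x hx
      match i with
      | 0 =>
        have : x = 1 := Subtype.ext (Subgroup.mem_bot.1 hx)
        simp [this]
      | 1 =>
        have : (x : Ω) ∈ P := hx
        rw [hηP x this]
        exact hx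
      | (k + 2) => exact (η x).2
    · intro i hi x hx
      match i with
      | 0 =>
        have : (x : Ω) ∈ P := hx
        show (x : Ω)⁻¹ * (η x : Ω) ∈ (⊥ : Subgroup Ω)
        rw [hηP x this, inv_mul_cancel]
        exact Subgroup.one_mem _
      | 1 => exact (hmod x).2
      | (k + 2) => omega
  have hcj : c ^ p ^ j ∈ K := by
    refine ih _ hcard ((F.autGroup T).pow_mem hc _) ?_ N rfl hNT hNc (hom_congr (hpow (p ^ j)) fun g => ?_)
    · rw [← pow_mul, mul_comm, pow_mul]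
      exact K.pow_mem hcm _
    · show _ = (((c ^ p ^ j) ⟨((η ^ p ^ j) g : Ω), hNT ((η ^ p ^ j) g).2⟩ : T) : Ω)
      simp only [hj, MulAut.one_apply]
      rfl
  have hco : Nat.gcd (p ^ j) m = 1 := (Nat.Coprime.pow_right j hm).symm
  have hbez := Nat.gcd_eq_gcd_ab (p ^ j) m
  rw [hco] at hbez
  have h : c = (c ^ p ^ j) ^ Nat.gcdA (p ^ j) m * (c ^ m) ^ Nat.gcdB (p ^ j) m := by
    rw [← zpow_natCast c (p ^ j), ← zpow_natCast c m, ← zpow_mul, ← zpow_mul, ← zpow_add, ← hbez,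
      Nat.cast_one, zpow_one]
  rw [h]
  exact mul_mem (K.zpow_mem hcj _) (K.zpow_mem hcm _)

end Cfsg.Lib.FusionSys
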