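import Cfsg.Agent.Lib.FusionSys.SatFamilyClass

/-!
The subgroup `N_S^K` for `K` the `p`-core of the automizer, and extension of all automorphisms to it.
-/

set_option autoImplicit false

namespace Cfsg.Lib.FusionSys

open Cfsg Cfsg.FusionSystem
open scoped Pointwise

variable {Ω : Type*} [Group Ω] {S : Subgroup Ω} {F : FusionSystem S}
variable {p : ℕ} {A B Pm R T U : Subgroup Ω}

/-- The automorphisms of the `p`-core of the automizer. -/
def coreAut (F : FusionSystem S) (p : ℕ) (A : Subgroup Ω) : Subgroup (MulAut A) :=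
  (Cfsg.pCore p (F.autGroup A)).map (F.autGroup A).subtype

theorem coreAut_le : coreAut F p A ≤ F.autGroup A := Subgroup.map_subtype_le _

theorem finite_mulAut_of_le [Finite S] (h : A ≤ S) : Finite (MulAut A) := by
  haveI := finite_of_le h
  exact Finite.of_injective MulEquiv.toEquiv MulEquiv.toEquiv_injective

theorem isPGroup_coreAut [Finite S] (hA : A ≤ S) : IsPGroup p (coreAut F p A) := by
  haveI := finite_mulAut_of_le hA
  exact (Cfsg.Lib.Core.pCore_isPGroup p (F.autGroup A)).map _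

theorem conj_mem_coreAut [Finite S] (hA : A ≤ S) {a k : MulAut A} (ha : a ∈ F.autGroup A)
    (hk : k ∈ coreAut F p A) : a * k * a⁻¹ ∈ coreAut F p A := by
  haveI := finite_mulAut_of_le hA
  obtain ⟨k', hk', rfl⟩ := hk
  exact ⟨⟨a, ha⟩ * k' * ⟨a, ha⟩⁻¹,
    (inferInstance : (Cfsg.pCore p (F.autGroup A)).Normal).conj_mem k' hk' ⟨a, ha⟩, rfl⟩

theorem congr_mem_coreAut [Finite S] {e : A ≃* B} (he : IsoIn F e) {k : MulAut A}
    (hk : k ∈ coreAut F p A) : MulAut.congr e k ∈ coreAut F p B := by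
  haveI := finite_mulAut_of_le he.le_left
  haveI := finite_mulAut_of_le he.le_right
  let Φ : F.autGroup A ≃* F.autGroup B :=
    { toFun := fun a => ⟨MulAut.congr e a, congr_mem_autGroup he a.2⟩
      invFun := fun b => ⟨MulAut.congr e.symm b, congr_mem_autGroup he.symm b.2⟩
      left_inv := fun a => Subtype.ext (MulEquiv.ext fun x => by simp [MulAut.congr])
      right_inv := fun b => Subtype.ext (MulEquiv.ext fun x => by simp [MulAut.congr])
      map_mul' := fun a b => Subtype.ext (map_mul (MulAut.congr e) _ _) }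
  obtain ⟨k', hk', rfl⟩ := hk
  refine ⟨Φ k', ?_, rfl⟩
  rw [← Cfsg.Lib.Core.map_pCore_equiv (p := p) Φ]
  exact ⟨k', hk', rfl⟩

theorem inn_le_coreAut [Finite S] [Fact p.Prime] (hS : IsPGroup p S) (hA : A ≤ S) :
    Inn A ≤ coreAut F p A := by
  intro α hα
  exact ⟨⟨α, inn_le_autGroup hA hα⟩, Cfsg.Lib.Core.le_pCore' (inn_subgroupOf_normal _)
    (((isPGroup_autInducedBy (P := A) hS).to_le (inn_le_autInducedBy hA)).comap_subtype) hα, rfl⟩

/-- The elements inducing an element of the core of the automizer. -/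
def coreNorm (F : FusionSystem S) (p : ℕ) (A : Subgroup Ω) : Subgroup Ω :=
  nK S A (coreAut F p A)

theorem mem_coreNorm {g : Ω} :
    g ∈ coreNorm F p A ↔
      ∃ h : g ∈ normalizerIn S A, conjAut A h.2 ∈ coreAut F p A := by
  constructor
  · intro hg
    obtain ⟨hgS, k, hk, hkg⟩ := mem_nK.1 hg
    refine ⟨⟨hgS, mem_normalizer_of_aut hkg⟩, ?_⟩
    rw [show conjAut A (mem_normalizer_of_aut hkg) = k from
      MulEquiv.ext fun x => Subtype.ext ((hkg x).symm)]
    exact hk
  · rintro ⟨h, hk⟩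
    exact mem_nK.2 ⟨h.1, _, hk, fun q => rfl⟩

theorem coreNorm_le : coreNorm F p A ≤ normalizerIn S A := fun _ hg => (mem_coreNorm.1 hg).1

theorem le_coreNorm [Finite S] [Fact p.Prime] (hS : IsPGroup p S) (hA : A ≤ S) :
    A ≤ coreNorm F p A := fun g hg => mem_coreNorm.2
  ⟨le_normalizerIn hA hg, inn_le_coreAut hS hA ⟨⟨g, hg⟩, MulEquiv.ext fun x => rfl⟩⟩

theorem conjAut_mul {g h : Ω} (hg : g ∈ Subgroup.normalizer (A : Set Ω))
    (hh : h ∈ Subgroup.normalizer (A : Set Ω)) :
    conjAut A (Subgroup.mul_mem _ hg hh) = conjAut A hg * conjAut A hh :=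
  map_mul A.normalizerMonoidHom ⟨g, hg⟩ ⟨h, hh⟩

theorem conjAut_inv {g : Ω} (hg : g ∈ Subgroup.normalizer (A : Set Ω)) :
    conjAut A (Subgroup.inv_mem _ hg) = (conjAut A hg)⁻¹ :=
  map_inv A.normalizerMonoidHom ⟨g, hg⟩

theorem normalizerIn_le_normalizer_coreNorm [Finite S] (hA : A ≤ S) :
    normalizerIn S A ≤ Subgroup.normalizer (coreNorm F p A : Set Ω) := by
  have key : ∀ g ∈ normalizerIn S A, ∀ x ∈ coreNorm F p A, g * x * g⁻¹ ∈ coreNorm F p A := by
    intro g hg x hx
    obtain ⟨hxN, hxk⟩ := mem_coreNorm.1 hx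
    refine mem_coreNorm.2
      ⟨Subgroup.mul_mem _ (Subgroup.mul_mem _ hg hxN) (Subgroup.inv_mem _ hg), ?_⟩
    rw [show conjAut A (Subgroup.mul_mem _ (Subgroup.mul_mem _ hg hxN) (Subgroup.inv_mem _ hg)).2 =
      conjAut A hg.2 * conjAut A hxN.2 * (conjAut A hg.2)⁻¹ by
        rw [← conjAut_inv, ← conjAut_mul, ← conjAut_mul]]
    exact conj_mem_coreAut hA
      (autInducedBy_le_autGroup hA (conjAut_mem_autInducedBy hg.2 hg.1)) hxk
  intro g hg
  rw [Subgroup.mem_normalizer_iff]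
  refine fun x => ⟨key g hg x, fun hx => ?_⟩
  simpa [mul_assoc] using key g⁻¹ (Subgroup.inv_mem _ hg) _ hx

/-- Values of an extension on elements inducing the core induce the core. -/
theorem ExtIso.into_coreNorm [Finite S] {e : A ≃* B} (h : ExtIso F T U e)
    (hT : T ≤ coreNorm F p A) : ExtIso F T (coreNorm F p B) e := by
  have he : IsoIn F e := h.isoIn
  obtain ⟨hA, ψ, hψ, hv, hψe⟩ := h
  refine ⟨hA, ψ, hψ, fun x => ?_, hψe⟩
  obtain ⟨hxN, hxk⟩ := mem_coreNorm.1 (hT x.2)
  have hn : ψ x ∈ Subgroup.normalizer (B : Set Ω) := by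
    have := map_mem_normalizer (Q := A) ψ x hxN.2
    rwa [map_subgroupOf_eq hA hψe] at this
  refine mem_coreNorm.2 ⟨⟨hom_mem hψ x, hn⟩, ?_⟩
  have e1 : conjAut B hn = MulAut.congr e (conjAut A hxN.2) := by
    refine MulEquiv.ext fun b => Subtype.ext ?_
    obtain ⟨a, rfl⟩ := e.surjective b
    have h1 : ψ (x * ⟨a, hA a.2⟩ * x⁻¹) = (e (conjAut A hxN.2 a) : Ω) :=
      hψe _ (conjAut A hxN.2 a).2 (x * ⟨a, hA a.2⟩ * x⁻¹).2
    rw [map_mul, map_mul, map_inv, hψe a a.2 (hA a.2)] at h1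
    simpa [MulAut.congr] using h1
  rw [e1]
  exact congr_mem_coreAut he hxk

/-- The generators: automorphisms extending to a bigger subgroup of the normalizer. -/
def extGen (F : FusionSystem S) (Pm : Subgroup Ω) : Set (MulAut Pm) :=
  {α | ∃ R, Pm < R ∧ R ≤ normalizerIn S Pm ∧ ExtIso F R (normalizerIn S Pm) (α : Pm ≃* Pm)}

theorem autGroup_le_closure_extGen [Finite S] [Fact p.Prime] (hS : IsPGroup p S)
    (hclass : ∀ A, F.IsConj Pm A → ToP F Pm A)
    (hbig : ∀ (A B : Subgroup Ω) (e : A ≃* B), IsoIn F e → F.IsConj Pm A → BigIso F e)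
    (hPm : Pm ≤ S) : F.autGroup Pm ≤ Subgroup.closure (extGen F Pm) := by
  have key : ∀ {A B : Subgroup Ω} (e : A ≃* B), BigIso F e → F.IsConj Pm A →
      ∀ (a : A ≃* Pm) (b : B ≃* Pm), ExtIso F (normalizerIn S A) (normalizerIn S Pm) a →
        ExtIso F (normalizerIn S B) (normalizerIn S Pm) b →
        (a.symm.trans (e.trans b) : MulAut Pm) ∈ Subgroup.closure (extGen F Pm) := by
    intro A B e h
    induction h with
    | @base A B e R hAR he =>
      intro hA a b ha hb
      have hRS : R ≤ S := he.le_S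
      haveI := finite_of_le hRS
      have hlt : A < normalizerIn R A := lt_normalizerIn (hS.to_le hRS) hAR
      have h1 : ExtIso F (normalizerIn R A) (normalizerIn S B) e :=
        ((he.mono hlt.le inf_le_left le_rfl).normalizes inf_le_right).mono hlt.le le_rfl inf_le_right
      have h2 := ha.mono (T' := normalizerIn R A) hlt.le
        (le_inf (inf_le_left.trans hRS) inf_le_right) le_rfl
      obtain ⟨T', hT', hcT', h2'⟩ := h2.symm
      haveI : Finite T' := finite_of_le (hT'.trans (normalizerIn_le Pm))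
      refine Subgroup.subset_closure
        ⟨T', lt_of_le_of_ne h2'.1 ?_, hT', (h2'.trans h1).trans hb |>.congr fun x => rfl⟩
      rintro rfl
      haveI : Finite (normalizerIn R A) := finite_of_le (inf_le_left.trans hRS)
      have h3 : Nat.card A = Nat.card Pm := Nat.card_congr a.toEquiv
      exact hlt.ne (Subgroup.eq_of_le_of_card_ge hlt.le (by omega))
    | @trans A B C e f he hf ih ih' =>
      intro hA a b ha hb
      have hB : F.IsConj Pm B := isConj_trans hA (isConj_iff.2 ⟨e, he.isoIn⟩)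
      obtain ⟨c, hc⟩ := hclass B hB
      have h1 := Subgroup.mul_mem _ (ih' hB c b hc hb) (ih hA a c ha hc)
      convert h1 using 1
      refine MulEquiv.ext fun x => ?_
      simp [MulAut.mul_apply]
  intro α hα
  have hr := extIso_refl F (normalizerIn_le (S := S) Pm) (le_normalizerIn hPm)
  have := key (α : Pm ≃* Pm) (hbig _ _ _ ((mem_autGroup hPm).1 hα) (isConj_refl F hPm))
    (isConj_refl F hPm) (MulEquiv.refl Pm) (MulEquiv.refl Pm) hr hr
  exact this

theorem restrAut_mem (hAR : A ≤ R) (hR : R ≤ S) (α : stabAut F R A) :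
    restrAut hAR α ∈ F.autGroup A := by
  have h1 : ExtIso F R R ((α : MulAut R) : R ≃* R) :=
    ⟨le_rfl, _, (mem_autGroup hR).1 α.2.1, fun x => ((α : MulAut R) x).2, fun _ _ _ => rfl⟩
  exact (mem_autGroup (hAR.trans hR)).2
    (h1.restrict (e := restrAut hAR α) hAR fun a => rfl).isoIn

/-- A normal `p`-subgroup meets the image inside the image of a Sylow subgroup. -/
theorem map_mem_of_normalized {G H : Type*} [Group G] [Finite G] [Group H] [Finite H] [Fact p.Prime]
    (ρ : G →* H) (W : Sylow p G) (N : Subgroup H) (hN : IsPGroup p N)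
    (hn : ∀ g : G, ∀ n ∈ N, ρ g * n * (ρ g)⁻¹ ∈ N) {y : G} (hy : ρ y ∈ N) :
    ρ y ∈ (W : Subgroup G).map ρ := by
  let W2 := W.mapSurjective (f := ρ.rangeRestrict) ρ.rangeRestrict_surjective
  haveI hnorm : (N.subgroupOf ρ.range).Normal := ⟨by
    rintro n hn' ⟨_, g, rfl⟩
    exact hn g _ hn'⟩
  have hle : N.subgroupOf ρ.range ≤ (W2 : Subgroup ρ.range) := by
    have h1 := W2.3 (Cfsg.Lib.Core.isPGroup_sup_of_normal (K := N.subgroupOf ρ.range) W2.isPGroup'
      (hN.comap_subtype (K := ρ.range))) le_sup_left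
    exact le_sup_right.trans h1.le
  obtain ⟨w, hw, he⟩ := hle (show (⟨ρ y, y, rfl⟩ : ρ.range) ∈ N.subgroupOf ρ.range from hy)
  exact ⟨w, hw, congrArg Subtype.val he⟩

theorem exists_extend_to_coreNorm [Finite S] [Fact p.Prime] (hS : IsPGroup p S)
    (hgood : GoodAbove F p Pm) (hclass : ∀ A, F.IsConj Pm A → ToP F Pm A) (hPm : Pm ≤ S) :
    ∀ (n : ℕ) (R : Subgroup Ω) (α : MulAut Pm), Nat.card S - Nat.card R ≤ n → Pm < R →
      R ≤ normalizerIn S Pm → ExtIso F R (normalizerIn S Pm) (α : Pm ≃* Pm) →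
      ExtIso F (coreNorm F p Pm) (coreNorm F p Pm) (α : Pm ≃* Pm) := by
  intro n
  induction n using Nat.strong_induction_on with
  | _ n ih =>
    intro R α hn hPR hRN hext
    set L := coreNorm F p Pm with hLdef
    by_cases hLR : L ≤ R
    · exact (hext.mono (le_coreNorm hS hPm) hLR le_rfl).into_coreNorm le_rfl
    have hRLN : R ⊔ L ≤ normalizerIn S Pm := sup_le hRN coreNorm_le
    have hNS : normalizerIn S Pm ≤ S := normalizerIn_le Pm
    haveI := finite_of_le hNS
    haveI := finite_of_le (hRLN.trans hNS)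
    haveI := finite_of_le (hRN.trans hNS)
    haveI := finite_mulAut_of_le hPm
    have hRlt : R < R ⊔ L := lt_of_le_of_ne le_sup_left fun h => hLR (h ▸ le_sup_right)
    set Rp := normalizerIn (R ⊔ L) R with hRpdef
    have hRRp : R < Rp := lt_normalizerIn (hS.to_le (hRLN.trans hNS)) hRlt
    obtain ⟨-, ψ, hψ, hψv, hψe⟩ := id hext
    obtain ⟨R', E, hE, -, hR', -, -, hEv⟩ := exists_image_iso (A := R) hψ le_rfl
    have hR'N : R' ≤ normalizerIn S Pm := by
      rw [hR']
      rintro _ ⟨x, -, rfl⟩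
      exact hψv x
    have hc : ∀ a : Pm, ((α a : Pm) : Ω) = (E ⟨a, hPR.le a.2⟩ : Ω) := fun a => by
      rw [hEv]
      exact (hψe a a.2 _).symm
    have hPR' : Pm ≤ R' := by
      intro y hy
      have := (E ⟨_, hPR.le ((α : Pm ≃* Pm).symm ⟨y, hy⟩).2⟩).2
      rwa [← hc, MulEquiv.apply_symm_apply] at this
    have hcR' : Nat.card R = Nat.card R' := Nat.card_congr E.toEquiv
    have hcRlt : Nat.card R < Nat.card Rp := by
      haveI : Finite Rp := finite_of_le (inf_le_left.trans (hRLN.trans hNS))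
      by_contra hh
      exact hRRp.ne (Subgroup.eq_of_le_of_card_ge hRRp.le (not_lt.1 hh))
    have hR'ne : R' ≠ normalizerIn S Pm := by
      rintro rfl
      have h1 : Nat.card Rp ≤ Nat.card (normalizerIn S Pm) :=
        Nat.card_le_card_of_injective _ (Subgroup.inclusion_injective (inf_le_left.trans hRLN))
      omega
    set T' := normalizerIn (normalizerIn S Pm) R' with hT'def
    have hR'T : R' < T' := lt_normalizerIn (hS.to_le hNS) (lt_of_le_of_ne hR'N hR'ne)
    have hcT' : Nat.card R < Nat.card T' := by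
      haveI : Finite T' := finite_of_le (inf_le_left.trans hNS)
      rw [hcR']
      by_contra hh
      exact hR'T.ne (Subgroup.eq_of_le_of_card_ge hR'T.le (not_lt.1 hh))
    have hcard : Nat.card Pm < Nat.card R := by
      by_contra hh
      exact hPR.ne (Subgroup.eq_of_le_of_card_ge hPR.le (not_lt.1 hh))
    obtain ⟨R₀, hR₀, hfa, hrec⟩ := hgood R (hRN.trans hNS) hcard
    have hR'R₀ : F.IsConj R' R₀ :=
      isConj_trans (isConj_symm (isConj_iff.2 ⟨E, hE.isoIn⟩)) hR₀
    obtain ⟨Ps, f₁, g₁, hPsR, hst, hf₁, hg₁, hg₁c⟩ := exists_good_move (A := Pm) hS hfa hrec hR'R₀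
      hPR' hR'T.le (le_inf (inf_le_left.trans hNS) inf_le_right) (inf_le_left.trans inf_le_right)
    obtain ⟨χ, hχ⟩ := hclass Ps (isConj_iff.2 ⟨f₁, hf₁.isoIn⟩)
    have hT'card : Nat.card S - Nat.card T' < n := by
      have : Nat.card T' ≤ Nat.card S := card_le_of_le (inf_le_left.trans hNS)
      omega
    have hμ : ExtIso F L L ((f₁.trans χ : MulAut Pm) : Pm ≃* Pm) :=
      ih _ hT'card T' _ le_rfl (lt_of_le_of_lt hPR' hR'T) inf_le_left
        ((hf₁.mono hf₁.1 le_rfl inf_le_right).trans hχ)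
    have hLS : L ≤ S := coreNorm_le.trans hNS
    -- the move of `R`
    let Θ : R ≃* R₀ := E.trans g₁
    have hΘ : IsoIn F Θ := hE.isoIn.trans hg₁.isoIn
    let θ : Pm ≃* Ps := (α : Pm ≃* Pm).trans f₁
    have hθ : IsoIn F θ := hext.isoIn.trans hf₁.isoIn
    have hθc : ∀ a : Pm, (θ a : Ω) = (Θ ⟨a, hPR.le a.2⟩ : Ω) := fun a => by
      show (f₁ (α a) : Ω) = (g₁ (E ⟨a, hPR.le a.2⟩) : Ω)
      rw [hg₁c]
      exact congrArg (fun z : R' => (g₁ z : Ω)) (Subtype.ext (hc a))
    have hR₀S : R₀ ≤ S := hrec.1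
    have hPsS : Ps ≤ S := hPsR.trans hR₀S
    haveI := finite_mulAut_of_le hR₀S
    haveI := finite_mulAut_of_le hPsS
    set K := stabAut F R₀ Ps with hKdef
    set ρ := restrAut (F := F) hPsR with hρdef
    obtain ⟨W, hW⟩ := hst
    -- transported conjugations
    let M : Subgroup Ω := normalizerIn S R ⊓ Subgroup.normalizer (Pm : Set Ω)
    have hx : ∀ g (hg : g ∈ M), MulAut.congr Θ (conjAut R hg.1.2) ∈ K := by
      intro g hg
      refine ⟨congr_mem_autGroup hΘ (autInducedBy_le_autGroup (hRN.trans hNS)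
        (conjAut_mem_autInducedBy hg.1.2 hg.1.1)), fun x => ?_⟩
      obtain ⟨r, rfl⟩ := Θ.surjective x
      rw [show MulAut.congr Θ (conjAut R hg.1.2) (Θ r) = Θ (conjAut R hg.1.2 r) by simp [MulAut.congr],
        ← mem_iff_of_compat Θ θ hPR.le hθc, ← mem_iff_of_compat Θ θ hPR.le hθc, coe_conjAut]
      exact Subgroup.mem_normalizer_iff.1 hg.2 _
    have hRM : R ≤ M := le_inf (le_normalizerIn (hRN.trans hNS)) (hRN.trans inf_le_right)
    have hRpM : Rp ≤ M :=
      le_inf (le_inf (inf_le_left.trans (hRLN.trans hNS)) inf_le_right)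
        (inf_le_left.trans (hRLN.trans inf_le_right))
    let τ : M →* K :=
      { toFun := fun g => ⟨_, hx g g.2⟩
        map_one' := Subtype.ext (by
          show MulAut.congr Θ (conjAut R _) = 1
          rw [show conjAut R (show (1 : Ω) ∈ Subgroup.normalizer (R : Set Ω) from Subgroup.one_mem _) = 1
            from map_one R.normalizerMonoidHom, map_one])
        map_mul' := fun a b => Subtype.ext (by
          show MulAut.congr Θ (conjAut R _) = _
          rw [conjAut_mul a.2.1.2 b.2.1.2, map_mul]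
          rfl) }
    have hτρ : ∀ g (hg : g ∈ M), ρ (τ ⟨g, hg⟩) = MulAut.congr θ (conjAut Pm hg.2) := by
      intro g hg
      refine MulEquiv.ext fun z => Subtype.ext ?_
      obtain ⟨a, rfl⟩ := θ.surjective z
      rw [hρdef, coe_restrAut]
      show ((MulAut.congr Θ (conjAut R hg.1.2) ⟨θ a, _⟩ : R₀) : Ω) = _
      rw [show (⟨(θ a : Ω), hPsR (θ a).2⟩ : R₀) = Θ ⟨a, hPR.le a.2⟩ from Subtype.ext (hθc a)]
      simp only [MulAut.congr, MulEquiv.coe_mk, Equiv.coe_fn_mk, MulEquiv.trans_apply,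
        MulEquiv.symm_apply_apply]
      rw [hθc]
      exact congrArg (fun z : R => (Θ z : Ω)) (Subtype.ext rfl)
    have hρW : ∀ g (hg : g ∈ Rp), ρ (τ ⟨g, hRpM hg⟩) ∈ (W : Subgroup K).map ρ := by
      intro g hg
      have h1 : g ∈ (R : Set Ω) * (L : Set Ω) := by
        rw [← Subgroup.coe_mul_of_left_le_normalizer_right R L
          (hRN.trans (normalizerIn_le_normalizer_coreNorm hPm))]
        exact hg.1
      obtain ⟨r, hr, l, hl, rfl⟩ := Set.mem_mul.1 h1
      have hlM : l ∈ M := by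
        have := M.mul_mem (M.inv_mem (hRM hr)) (hRpM hg)
        rwa [inv_mul_cancel_left] at this
      rw [show (⟨r * l, hRpM hg⟩ : M) = ⟨r, hRM hr⟩ * ⟨l, hlM⟩ from rfl, map_mul, map_mul]
      refine Subgroup.mul_mem _ ⟨τ ⟨r, hRM hr⟩, ?_, rfl⟩ ?_
      · rw [SetLike.mem_coe, hW, Subgroup.mem_subgroupOf]
        refine mem_autInducedBy.2 ⟨Θ ⟨r, hr⟩, hR₀S (Θ ⟨r, hr⟩).2, fun x => ?_⟩
        obtain ⟨y, rfl⟩ := Θ.surjective x
        show ((MulAut.congr Θ (conjAut R _) (Θ y) : R₀) : Ω) = _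
        simp only [MulAut.congr, MulEquiv.coe_mk, Equiv.coe_fn_mk, MulEquiv.trans_apply,
          MulEquiv.symm_apply_apply]
        rw [show conjAut R _ y = (⟨r, hr⟩ : R) * y * (⟨r, hr⟩ : R)⁻¹ from Subtype.ext rfl, map_mul,
          map_mul, map_inv]
        rfl
      · refine map_mem_of_normalized ρ W (coreAut F p Ps) (isPGroup_coreAut hPsS)
          (fun k n hn => conj_mem_coreAut hPsS (restrAut_mem hPsR hR₀S k) hn) ?_
        rw [hτρ]
        obtain ⟨_, hlk⟩ := mem_coreNorm.1 hl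
        exact congr_mem_coreAut hθ hlk
    let X : Subgroup K := (Rp.subgroupOf M).map τ
    have hX : IsPGroup p X :=
      (((hS.to_le (inf_le_left.trans (normalizerIn_le R) : M ≤ S)).to_subgroup _)).map τ
    obtain ⟨c, hcker, hcX⟩ := exists_ker_conj ρ W X hX (by
      rintro _ ⟨_, ⟨⟨g, hgM⟩, hg, rfl⟩, rfl⟩
      exact hρW g hg)
    let γ : R ≃* R₀ := Θ.trans (c : MulAut R₀)
    have hγ : ExtIso F Rp (normalizerIn S R₀) γ := by
      refine exists_extIso_of_receptive hrec (hΘ.trans ((mem_autGroup hR₀S).1 c.2.1)) hRRp.le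
        (le_inf (inf_le_left.trans (hRLN.trans hNS)) inf_le_right) fun g hg => ?_
      have h1 := hcX (τ ⟨g, hRpM hg⟩) ⟨⟨g, hRpM hg⟩, hg, rfl⟩
      rw [hW, Subgroup.mem_subgroupOf] at h1
      convert h1 using 1
      exact MulEquiv.ext fun x => rfl
    have hker : ∀ a : Ps, ((c : MulAut R₀) ⟨a, hPsR a.2⟩ : Ω) = a := fun a => by
      have := congrArg (fun z : MulAut Ps => (z a : Ω)) (MonoidHom.mem_ker.1 hcker)
      rw [hρdef] at this
      exact this
    have hθR : ExtIso F Rp (normalizerIn S Ps) θ := by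
      have h1 := hγ.restrict (e := θ) hPR.le fun a => by
        show (θ a : Ω) = ((c : MulAut R₀) (Θ ⟨a, hPR.le a.2⟩) : Ω)
        rw [show Θ ⟨a, hPR.le a.2⟩ = ⟨θ a, hPsR (θ a).2⟩ from Subtype.ext (hθc a).symm, hker]
      exact (h1.normalizes (inf_le_left.trans (hRLN.trans inf_le_right))).mono h1.1 le_rfl inf_le_right
    have hRpcard : Nat.card S - Nat.card Rp < n := by
      have : Nat.card Rp ≤ Nat.card S := card_le_of_le (inf_le_left.trans (hRLN.trans hNS))
      omega
    have hαμ : ExtIso F L L ((θ.trans χ : MulAut Pm) : Pm ≃* Pm) :=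
      ih _ hRpcard Rp _ le_rfl (hPR.trans hRRp) (inf_le_left.trans hRLN) (hθR.trans hχ)
    exact (hαμ.trans (hμ.symm_of_card hLS le_rfl)).congr fun x => by simp [θ]

theorem extIso_coreNorm_of_mem [Finite S] [Fact p.Prime] (hS : IsPGroup p S)
    (hgood : GoodAbove F p Pm) (hclass : ∀ A, F.IsConj Pm A → ToP F Pm A)
    (hbig : ∀ (A B : Subgroup Ω) (e : A ≃* B), IsoIn F e → F.IsConj Pm A → BigIso F e)
    (hPm : Pm ≤ S) {α : MulAut Pm} (hα : α ∈ F.autGroup Pm) :
    ExtIso F (coreNorm F p Pm) (coreNorm F p Pm) (α : Pm ≃* Pm) := by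
  have hLS : coreNorm F p Pm ≤ S := coreNorm_le.trans (normalizerIn_le Pm)
  refine Subgroup.closure_induction
    (p := fun a _ => ExtIso F (coreNorm F p Pm) (coreNorm F p Pm) (a : Pm ≃* Pm))
    (fun a ha => ?_) (extIso_refl F hLS (le_coreNorm hS hPm)) (fun a b _ _ ha hb => ?_)
    (fun a _ ha => ha.symm_of_card hLS le_rfl) (autGroup_le_closure_extGen hS hclass hbig hPm hα)
  · obtain ⟨R, h1, h2, h3⟩ := ha
    exact exists_extend_to_coreNorm hS hgood hclass hPm _ R a le_rfl h1 h2 h3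
  · exact (hb.trans ha).congr fun x => rfl

end Cfsg.Lib.FusionSys
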