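import Cfsg.Agent.Lib.FusionSys.LeastNormal
import Cfsg.Agent.Lib.FusionSys.ResidualExtension
import Cfsg.Agent.Lib.FusionSys.SatFamilyCore

/-!
A character of `Aut_F(T)`, trivial on `Aut_E(T)` and of order prime to `p`, evaluated on the maps of `F`
whose source meets `T` in a centric subgroup of `E`.
-/

set_option autoImplicit false
set_option linter.style.haveILetI false

namespace Cfsg.Lib.FusionSys

open Cfsg Cfsg.FusionSystem

variable {Ω : Type*} [Group Ω] {S T : Subgroup Ω} {F : FusionSystem S} {E : FusionSystem T} {p : ℕ}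
variable {Δ : Type*} [Group Δ] [Finite Δ]

/-- The hypotheses on the character. -/
structure CharSetup (F : FusionSystem S) (E : FusionSystem T) (p : ℕ) (χ : ↥(F.autGroup T) →* Δ) : Prop where
  isPGroup : IsPGroup p S
  saturated : F.IsSaturated p
  saturatedE : E.IsSaturated p
  invariant : E.IsInvariantIn F
  coprime : (Nat.card Δ).Coprime p
  ker : (E.autGroup T).subgroupOf (F.autGroup T) ≤ χ.ker

variable {χ : ↥(F.autGroup T) →* Δ}

theorem CharSetup.eq_one_of_pow (h : CharSetup F E p χ) {k : ℕ} {δ : Δ} (hδ : δ ^ p ^ k = 1) : δ = 1 :=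
  orderOf_eq_one_iff.1 (Nat.eq_one_of_dvd_coprimes (Nat.Coprime.pow_right k h.coprime)
    (orderOf_dvd_natCard δ) (orderOf_dvd_of_pow_eq_one hδ))

/-- The character kills an automorphism of `T` whose restriction to a centric subgroup is in `E`. -/
theorem CharSetup.eq_one_of_restrict [Finite S] [Fact p.Prime] (h : CharSetup F E p χ)
    (c : F.autGroup T) {U : Subgroup Ω} (hU : U ≤ T) (hUc : E.IsCentric U)
    (hres : autRes (c : MulAut T) hU ∈ E.Hom U) : χ c = 1 := by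
  have hEi := h.invariant
  have hTS : T ≤ S := hEi.2.1.1
  haveI := finite_mulAut_of_le hTS
  have hpow : ∀ j : ℕ, autRes ((c : MulAut T) ^ j) hU ∈ E.Hom U := by
    intro j
    induction j with
    | zero => exact hom_congr (subtype_mem E hU) fun x => rfl
    | succ j ih =>
      obtain ⟨ξ, hξ, hξe⟩ := strongInv_transport hEi.2.1 (isInvariant_strongInv hEi) hU hres
        ((F.autGroup T).pow_mem c.2 j)
      have hm : ∀ x : U, autRes ((c : MulAut T) ^ j) hU x ∈ autImage ((c : MulAut T) ^ j) U := fun x =>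
        ⟨⟨x, hU x.2⟩, x.2, rfl⟩
      refine hom_congr (E.comp_mem ih hξ hm) fun x => ?_
      refine Eq.trans ?_ (hξe x (hm x)).symm
      show ((((c : MulAut T) ^ (j + 1)) ⟨x, hU x.2⟩ : T) : Ω) = _
      rw [pow_succ]
      rfl
  obtain ⟨u, v, hv, huv⟩ := Nat.exists_eq_pow_mul_and_not_dvd (orderOf_pos (c : MulAut T)).ne' p
    (Fact.out : p.Prime).ne_one
  have hd : (c : MulAut T) ^ p ^ u ∈ E.autGroup T := by
    refine aut_mem_of_centric h.isPGroup h.saturatedE hEi ((F.autGroup T).pow_mem c.2 _)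
      (((Fact.out : p.Prime).coprime_iff_not_dvd.2 hv).symm) ?_ _ U rfl hU hUc (hpow _)
    rw [← pow_mul, ← huv, pow_orderOf_eq_one]
    exact one_mem _
  refine h.eq_one_of_pow (k := u) ?_
  rw [← map_pow]
  exact h.ker (show ((c ^ p ^ u : F.autGroup T) : MulAut T) ∈ E.autGroup T by simpa using hd)

/-- `δ` is a value of the character at `φ`. -/
def HasBase (E : FusionSystem T) (χ : ↥(F.autGroup T) →* Δ) (P : Subgroup Ω) (φ : P →* Ω) (δ : Δ) : Prop :=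
  ∃ (β : F.autGroup T) (ε : ↥(P ⊓ T) →* Ω), ε ∈ E.Hom (P ⊓ T) ∧ χ β = δ ∧
    ∀ (x : ↥(P ⊓ T)) (hx : ε x ∈ T), φ ⟨x, x.2.1⟩ = (((β : MulAut T) ⟨ε x, hx⟩ : T) : Ω)

/-- The value of the character at `φ`. -/
noncomputable def baseVal (E : FusionSystem T) (χ : ↥(F.autGroup T) →* Δ) (P : Subgroup Ω) (φ : P →* Ω) :
    Δ :=
  Classical.epsilon (HasBase E χ P φ)

theorem CharSetup.exists_hasBase (h : CharSetup F E p χ) {P : Subgroup Ω} {φ : P →* Ω}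
    (hφ : φ ∈ F.Hom P) : ∃ δ, HasBase E χ P φ δ := by
  obtain ⟨α, hα, ε, hε, he⟩ := h.invariant.2.2.2 (P ⊓ T) inf_le_right _ (restrict_mem hφ inf_le_left)
  exact ⟨χ ⟨α, hα⟩, ⟨α, hα⟩, ε, hε, rfl, he⟩

theorem hasBase_restrict {P N : Subgroup Ω} (hPN : P ≤ N) {φ : N →* Ω} {δ : Δ}
    (h : HasBase E χ N φ δ) : HasBase E χ P (φ.comp (Subgroup.inclusion hPN)) δ := by
  obtain ⟨β, ε, hε, hδ, he⟩ := h
  exact ⟨β, _, restrict_mem hε (inf_le_inf_right T hPN), hδ,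
    fun x hx => he (Subgroup.inclusion (inf_le_inf_right T hPN) x) hx⟩

theorem CharSetup.hasBase_comp [Finite S] (h : CharSetup F E p χ) {P R : Subgroup Ω} {φ : P →* Ω}
    {ψ : R →* Ω} (hv : ∀ x, φ x ∈ R) {δ δ' : Δ} (hφ : HasBase E χ P φ δ)
    (hψ : HasBase E χ R ψ δ') : HasBase E χ P (ψ.comp (φ.codRestrict R hv)) (δ' * δ) := by
  obtain ⟨β, ε, hε, rfl, he⟩ := hφ
  obtain ⟨γ, η, hη, rfl, hη'⟩ := hψ
  obtain ⟨ξ, hξ, hξe⟩ := strongInv_transport h.invariant.2.1 (isInvariant_strongInv h.invariant)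
    inf_le_right hη ((F.autGroup T).inv_mem β.2)
  have himg : ∀ x : ↥(P ⊓ T), φ ⟨x, x.2.1⟩ ∈ R ⊓ T := fun x =>
    ⟨hv _, by rw [he x (hom_mem hε x)]; exact ((β : MulAut T) _).2⟩
  have hinv : ∀ x : ↥(P ⊓ T), (((β : MulAut T)⁻¹ ⟨φ ⟨x, x.2.1⟩, (himg x).2⟩ : T) : Ω) = ε x := fun x => by
    rw [show (⟨φ ⟨x, x.2.1⟩, (himg x).2⟩ : T) = (β : MulAut T) ⟨ε x, hom_mem hε x⟩ from
      Subtype.ext (he x (hom_mem hε x)), MulAut.inv_apply_self]
  have hm : ∀ x, ε x ∈ autImage (β : MulAut T)⁻¹ (R ⊓ T) := fun x =>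
    ⟨⟨φ ⟨x, x.2.1⟩, (himg x).2⟩, himg x, hinv x⟩
  refine ⟨γ * β, _, E.comp_mem hε hξ hm, map_mul χ γ β, fun x hx => ?_⟩
  show ψ ⟨φ ⟨x, x.2.1⟩, hv _⟩ = (((γ : MulAut T) ((β : MulAut T) ⟨ξ ⟨ε x, hm x⟩, hx⟩) : T) : Ω)
  have hηx : η ⟨φ ⟨x, x.2.1⟩, himg x⟩ ∈ T := hom_mem hη _
  refine (hη' ⟨φ ⟨x, x.2.1⟩, himg x⟩ hηx).trans ?_
  refine congrArg (fun z : T => (((γ : MulAut T) z : T) : Ω)) ?_
  have h1 : ξ ⟨ε x, hm x⟩ = (((β : MulAut T)⁻¹ ⟨η ⟨φ ⟨x, x.2.1⟩, himg x⟩, hηx⟩ : T) : Ω) :=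
    (congrArg ξ (Subtype.ext (hinv x).symm)).trans (hξe ⟨φ ⟨x, x.2.1⟩, himg x⟩ (by
      show _ ∈ autImage _ _
      exact ⟨_, himg x, rfl⟩))
  rw [show (⟨ξ ⟨ε x, hm x⟩, hx⟩ : T) = (β : MulAut T)⁻¹ ⟨η ⟨φ ⟨x, x.2.1⟩, himg x⟩, hηx⟩ from
    Subtype.ext h1, MulAut.apply_inv_self]

theorem CharSetup.hasBase_unique [Finite S] [Fact p.Prime] (h : CharSetup F E p χ) {P : Subgroup Ω}
    {φ : P →* Ω} (hP : E.IsCentric (P ⊓ T)) {δ δ' : Δ} (h₁ : HasBase E χ P φ δ)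
    (h₂ : HasBase E χ P φ δ') : δ = δ' := by
  obtain ⟨β, ε, hε, rfl, he⟩ := h₁
  obtain ⟨β', ε', hε', rfl, he'⟩ := h₂
  rw [eq_comm, ← div_eq_one, div_eq_mul_inv, ← map_inv, ← map_mul]
  have hU : E.IsCentric ε.range := ⟨range_le hε, fun R hR => hP.2 R (isConj_trans ⟨ε, hε, rfl⟩ hR)⟩
  have key : χ (β'⁻¹ * β) = 1 := by
    refine h.eq_one_of_restrict (β'⁻¹ * β) hU.1 hU ?_
    obtain ⟨ρ, hρ, hρr, hρe⟩ := exists_inv hε rfl
    have hm : ∀ y, ρ y ∈ P ⊓ T := fun y => hρr.le ⟨y, rfl⟩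
    refine hom_congr (E.comp_mem hρ hε' hm) ?_
    rintro ⟨_, x, rfl⟩
    have h1 : (β : MulAut T) ⟨ε x, hom_mem hε x⟩ = (β' : MulAut T) ⟨ε' x, hom_mem hε' x⟩ :=
      Subtype.ext ((he x (hom_mem hε x)).symm.trans (he' x (hom_mem hε' x)))
    show ((((β' : MulAut T)⁻¹ * (β : MulAut T)) ⟨ε x, _⟩ : T) : Ω) = ε' ⟨ρ _, hm _⟩
    rw [MulAut.mul_apply, h1, MulAut.inv_apply_self]
    exact congrArg ε' (Subtype.ext (hρe x ⟨x, rfl⟩).symm)
  have h3 : χ β = χ β' := by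
    have := map_mul χ β' (β'⁻¹ * β)
    rwa [mul_inv_cancel_left, key, mul_one] at this
  rw [map_mul, map_inv, h3, mul_inv_cancel]

theorem CharSetup.baseVal_eq [Finite S] [Fact p.Prime] (h : CharSetup F E p χ) {P : Subgroup Ω}
    {φ : P →* Ω} (hP : E.IsCentric (P ⊓ T)) {δ : Δ} (hδ : HasBase E χ P φ δ) : baseVal E χ P φ = δ :=
  h.hasBase_unique hP (Classical.epsilon_spec ⟨δ, hδ⟩) hδ

theorem CharSetup.isCentric_inter_image [Finite S] (h : CharSetup F E p χ) {P R : Subgroup Ω}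
    {φ : P →* Ω} (hφ : φ ∈ F.Hom P) (hR : φ.range ≤ R) (hP : E.IsCentric (P ⊓ T)) :
    E.IsCentric (R ⊓ T) := by
  refine isCentric_mono (centric_image h.invariant hP (restrict_mem hφ inf_le_left)) ?_ inf_le_right
  rintro _ ⟨x, rfl⟩
  exact ⟨hR ⟨_, rfl⟩, stronglyClosed_apply_mem h.invariant.2.1 hφ x.2.2⟩

theorem CharSetup.baseVal_comp [Finite S] [Fact p.Prime] (h : CharSetup F E p χ) {P R : Subgroup Ω}
    {φ : P →* Ω} {ψ : R →* Ω} (hφ : φ ∈ F.Hom P) (hψ : ψ ∈ F.Hom R) (hv : ∀ x, φ x ∈ R)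
    (hP : E.IsCentric (P ⊓ T)) :
    baseVal E χ P (ψ.comp (φ.codRestrict R hv)) = baseVal E χ R ψ * baseVal E χ P φ := by
  have hR : E.IsCentric (R ⊓ T) := h.isCentric_inter_image hφ (by rintro _ ⟨x, rfl⟩; exact hv x) hP
  obtain ⟨δ, hδ⟩ := h.exists_hasBase hφ
  obtain ⟨δ', hδ'⟩ := h.exists_hasBase hψ
  rw [h.baseVal_eq hP (h.hasBase_comp hv hδ hδ'), h.baseVal_eq hP hδ, h.baseVal_eq hR hδ']

theorem CharSetup.baseVal_restrict [Finite S] [Fact p.Prime] (h : CharSetup F E p χ) {P N : Subgroup Ω}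
    (hPN : P ≤ N) {φ : N →* Ω} (hφ : φ ∈ F.Hom N) (hP : E.IsCentric (P ⊓ T)) :
    baseVal E χ P (φ.comp (Subgroup.inclusion hPN)) = baseVal E χ N φ := by
  obtain ⟨δ, hδ⟩ := h.exists_hasBase hφ
  rw [h.baseVal_eq hP (hasBase_restrict hPN hδ),
    h.baseVal_eq (isCentric_mono hP (inf_le_inf_right T hPN) inf_le_right) hδ]

theorem CharSetup.baseVal_conj [Finite S] [Fact p.Prime] (h : CharSetup F E p χ) {P : Subgroup Ω}
    (hP : E.IsCentric (P ⊓ T)) {g : Ω} (hg : g ∈ S) : baseVal E χ P (conjHom P g) = 1 := by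
  have hTS : T ≤ S := h.invariant.2.1.1
  have hn : g ∈ Subgroup.normalizer (T : Set Ω) := stronglyClosed_le_normalizer h.invariant.2.1 hg
  let β : F.autGroup T := ⟨conjAut T hn, autInducedBy_le_autGroup hTS (conjAut_mem_autInducedBy hn hg)⟩
  refine h.baseVal_eq hP ⟨β, _, subtype_mem E inf_le_right, ?_, fun x hx => rfl⟩
  obtain ⟨k, hk⟩ := isPGroup_autInducedBy (P := T) h.isPGroup ⟨conjAut T hn, conjAut_mem_autInducedBy hn hg⟩
  refine h.eq_one_of_pow (k := k) ?_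
  rw [← map_pow, show β ^ p ^ k = 1 from Subtype.ext (by
    rw [SubmonoidClass.coe_pow]; exact congrArg Subtype.val hk), map_one]

theorem CharSetup.baseVal_top [Finite S] [Fact p.Prime] (h : CharSetup F E p χ) {α : MulAut S}
    (β : F.autGroup T) (he : ∀ t : T, (((β : MulAut T) t : T) : Ω) =
      ((α ⟨t, h.invariant.2.1.1 t.2⟩ : S) : Ω)) :
    baseVal E χ S (S.subtype.comp α.toMonoidHom) = χ β := by
  have hTS : T ≤ S := h.invariant.2.1.1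
  have hTc : E.IsCentric (S ⊓ T) := by
    rw [inf_of_le_right hTS]
    refine ⟨le_rfl, fun R hR => ?_⟩
    haveI := finite_of_le hTS
    rw [eq_top_of_isConj hR]
    exact centralizerIn_le _
  exact h.baseVal_eq hTc ⟨β, _, subtype_mem E inf_le_right, rfl,
    fun x hx => (he ⟨(x : Ω), hx⟩).symm⟩

end Cfsg.Lib.FusionSys
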