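import Cfsg.Agent.Lib.FusionSys.CharacterValue
import Cfsg.Agent.Lib.FusionSys.AutTimesIn
import Cfsg.Agent.Lib.FusionSys.PPrimeResidual
import Cfsg.Agent.Lib.FusionSys.StrongInvariance

/-!
The normal subsystem over `S` cut out by a character of `Aut_F(T)` of order prime to `p`.
-/

set_option autoImplicit false
set_option linter.style.haveILetI false

namespace Cfsg.Lib.FusionSys

open Cfsg Cfsg.FusionSystem

variable {Ω : Type*} [Group Ω] {S T : Subgroup Ω} {F : FusionSystem S} {E : FusionSystem T} {p : ℕ}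
variable {Δ : Type*} [Group Δ] [Finite Δ] {χ : ↥(F.autGroup T) →* Δ}

/-- The automorphisms of `S` whose restriction to `T` is killed by the character. -/
def charKer (hTS : T ≤ S) (χ : ↥(F.autGroup T) →* Δ) : Subgroup (MulAut S) where
  carrier := {α | α ∈ F.autGroup S ∧ ∃ β : F.autGroup T, χ β = 1 ∧
    ∀ t : T, (((β : MulAut T) t : T) : Ω) = ((α ⟨t, hTS t.2⟩ : S) : Ω)}
  one_mem' := ⟨one_mem _, 1, map_one χ, fun _ => rfl⟩
  mul_mem' := by
    rintro a b ⟨ha, β, hβ, hae⟩ ⟨hb, γ, hγ, hbe⟩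
    refine ⟨mul_mem ha hb, β * γ, by rw [map_mul, hβ, hγ, mul_one], fun t => ?_⟩
    show (((β : MulAut T) ((γ : MulAut T) t) : T) : Ω) = ((a (b ⟨t, hTS t.2⟩) : S) : Ω)
    rw [hae]
    exact congrArg (fun z => ((a z : S) : Ω)) (Subtype.ext (hbe t))
  inv_mem' := by
    rintro a ⟨ha, β, hβ, hae⟩
    refine ⟨inv_mem ha, β⁻¹, by rw [map_inv, hβ, inv_one], fun t => ?_⟩
    show (((β : MulAut T)⁻¹ t : T) : Ω) = _
    have h : a ⟨(((β : MulAut T)⁻¹ t : T) : Ω), hTS ((β : MulAut T)⁻¹ t).2⟩ = ⟨t, hTS t.2⟩ :=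
      Subtype.ext ((hae _).symm.trans (by rw [MulAut.apply_inv_self]))
    rw [← h, MulAut.inv_apply_self]

theorem charKer_le (hTS : T ≤ S) : charKer hTS χ ≤ F.autGroup S := fun _ h => h.1

theorem exists_restrict_top [Finite S] (hT : F.StronglyClosed T) {α : MulAut S} (hα : α ∈ F.autGroup S) :
    ∃ β : F.autGroup T, ∀ t : T, (((β : MulAut T) t : T) : Ω) = ((α ⟨t, hT.1 t.2⟩ : S) : Ω) := by
  have h := restrict_mem ((mem_autGroup le_rfl).1 hα) hT.1
  have hr : ((S.subtype.comp α.toMonoidHom).comp (Subgroup.inclusion hT.1)).range = T :=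
    range_eq_of_card_le h hT.1 (fun x => hT.2 T le_rfl _ h x) le_rfl
  exact ⟨⟨homIso h hr, (mem_autGroup hT.1).2 (isoIn_homIso h hr)⟩, fun _ => rfl⟩

theorem mem_charKer_iff (hTS : T ≤ S) {α : MulAut S} {β : F.autGroup T}
    (he : ∀ t : T, (((β : MulAut T) t : T) : Ω) = ((α ⟨t, hTS t.2⟩ : S) : Ω)) (hα : α ∈ F.autGroup S) :
    α ∈ charKer hTS χ ↔ χ β = 1 := by
  refine ⟨fun ⟨_, γ, hγ, hγe⟩ => ?_, fun h => ⟨hα, β, h, he⟩⟩
  have : β = γ := Subtype.ext (MulEquiv.ext fun t => Subtype.ext ((he t).trans (hγe t).symm))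
  rw [this, hγ]

/-- The maps killed by the value. -/
def valSystem [Finite S] [Fact p.Prime] (h : CharSetup F E p χ) (v : (P : Subgroup Ω) → (P →* Ω) → Δ)
    (hv : IsVal F E χ 0 v) : FusionSystem S where
  Hom P := {φ | φ ∈ F.Hom P ∧ (F.IsCentric P → v P φ = 1) ∧
    (E.IsCentric (P ⊓ T) → baseVal E χ P φ = 1)}
  le_of_mem hφ := F.le_of_mem hφ.1
  injective_of_mem hφ := F.injective_of_mem hφ.1
  conj_mem := fun {P g} hP hg =>
    ⟨F.conj_mem hP hg, fun hc => hv.conj P g hc (Nat.zero_le _) hg, fun hc => h.baseVal_conj hc hg⟩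
  comp_mem := by
    rintro P Q φ ψ ⟨hφ, hφv, hφb⟩ ⟨hψ, hψv, hψb⟩ hm
    have hr : φ.range ≤ Q := by rintro _ ⟨x, rfl⟩; exact hm x
    refine ⟨F.comp_mem hφ hψ hm, fun hc => ?_, fun hc => ?_⟩
    · rw [hv.comp P Q φ ψ hm hc (Nat.zero_le _) hφ hψ, hφv hc,
        hψv (isCentric_mono (isCentric_of_conj hc ⟨φ, hφ, rfl⟩) hr (hom_le hψ)), mul_one]
    · rw [h.baseVal_comp hφ hψ hm hc, hφb hc, hψb (h.isCentric_inter_image hφ hr hc), mul_one]
  inv_mem := by
    rintro P φ ⟨hφ, hφv, hφb⟩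
    obtain ⟨ψ, hψ, hψe⟩ := F.inv_mem hφ
    have hm : ∀ x, φ x ∈ φ.range := fun x => ⟨x, rfl⟩
    have hid : ψ.comp (φ.codRestrict φ.range hm) = conjHom P 1 := MonoidHom.ext fun x => by
      show ψ ⟨φ x, hm x⟩ = 1 * (x : Ω) * 1⁻¹
      rw [hψe x]
      simp
    refine ⟨ψ, ⟨hψ, fun hc => ?_, fun hc => ?_⟩, hψe⟩
    · have hP : F.IsCentric P := isCentric_of_conj hc (isConj_symm ⟨φ, hφ, rfl⟩)
      have := hv.comp P φ.range φ ψ hm hP (Nat.zero_le _) hφ hψ
      rwa [hid, hv.conj P 1 hP (Nat.zero_le _) S.one_mem, hφv hP, mul_one, eq_comm] at this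
    · have hP : E.IsCentric (P ⊓ T) := h.isCentric_inter_conj (isConj_symm ⟨φ, hφ, rfl⟩) hc
      have := h.baseVal_comp hφ hψ hm hP
      rwa [hid, h.baseVal_conj hP S.one_mem, hφb hP, mul_one, eq_comm] at this

theorem val_autGroup_eq_one [Finite S] [Fact p.Prime] (h : CharSetup F E p χ)
    {v : (P : Subgroup Ω) → (P →* Ω) → Δ} (hv : IsVal F E χ 0 v) {P : Subgroup Ω} (hP : F.IsCentric P)
    {a : MulAut P} (ha : a ∈ F.autGroup P) (hk : ∃ k : ℕ, orderOf a = p ^ k) :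
    v P (P.subtype.comp a.toMonoidHom) = 1 := by
  have hmem : ∀ n : ℕ, P.subtype.comp (a ^ n).toMonoidHom ∈ F.Hom P := fun n =>
    (mem_autGroup hP.1).1 (pow_mem ha n)
  have hpow : ∀ n : ℕ, v P (P.subtype.comp (a ^ n).toMonoidHom) = v P (P.subtype.comp a.toMonoidHom) ^ n := by
    intro n
    induction n with
    | zero =>
      rw [pow_zero, pow_zero, show P.subtype.comp (1 : MulAut P).toMonoidHom = conjHom P 1 from
        MonoidHom.ext fun x => by show (x : Ω) = 1 * (x : Ω) * 1⁻¹; simp]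
      exact hv.conj P 1 hP (Nat.zero_le _) S.one_mem
    | succ n ih =>
      have hm : ∀ x, (P.subtype.comp (a ^ n).toMonoidHom) x ∈ P := fun x => ((a ^ n) x).2
      rw [pow_succ' (M := Δ), ← ih,
        ← hv.comp P P _ _ hm hP (Nat.zero_le _) (hmem n) ((mem_autGroup hP.1).1 ha)]
      refine congrArg (v P) (MonoidHom.ext fun x => ?_)
      show (((a ^ (n + 1)) x : P) : Ω) = (a ((a ^ n) x) : Ω)
      rw [pow_succ']
      rfl
  obtain ⟨k, hk⟩ := hk
  refine h.eq_one_of_pow (k := k) ?_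
  rw [← hpow, ← hk, pow_orderOf_eq_one]
  have := hpow 0
  rwa [pow_zero, pow_zero] at this

theorem isExtClosed_valSystem [Finite S] [Fact p.Prime] (h : CharSetup F E p χ)
    {v : (P : Subgroup Ω) → (P →* Ω) → Δ} (hv : IsVal F E χ 0 v) :
    IsExtClosed F p (valSystem h v hv) := by
  refine ⟨fun P hP a ha hk => (mem_autGroup hP.1).2 ⟨(mem_autGroup hP.1).1 ha,
    fun _ => val_autGroup_eq_one h hv hP ha hk, fun hc => ?_⟩, fun P N hPN hP hN φ hφ hr => ?_⟩
  · rw [← hv.base P _ hP (Nat.zero_le _) ((mem_autGroup hP.1).1 ha) hc]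
    exact val_autGroup_eq_one h hv hP ha hk
  · have hNc : F.IsCentric N := isCentric_mono hP hPN (hom_le hφ)
    have h1 : v N φ = 1 := (hv.restrict hPN hP (Nat.zero_le _) hφ).symm.trans (hr.2.1 hP)
    exact ⟨hφ, fun _ => h1, fun hc => (hv.base N φ hNc (Nat.zero_le _) hφ hc).symm.trans h1⟩

theorem CharSetup.exists_kernel_subsystem [Finite S] [Fact p.Prime] (h : CharSetup F E p χ)
    (hχ : Function.Surjective χ) [Nontrivial Δ] :
    ∃ F₀ : FusionSystem S, F₀.IsNormalIn F p ∧ ¬ (∀ P : Subgroup Ω, F₀.Hom P = F.Hom P) ∧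
      E.IsSubsystemOf F₀ ∧ F₀.autGroup S = charKer h.invariant.2.1.1 χ ∧
      ∀ R : FusionSystem S, F.IsPPrimeResidual p R → R.IsSubsystemOf F₀ := by
  have hS := h.isPGroup
  have hF := h.saturated
  have hEs := h.saturatedE
  have hEi := h.invariant
  have hsc := hEi.2.1
  have hTS : T ≤ S := hsc.1
  haveI := finite_of_le hTS
  have hT : IsPGroup p T := hS.to_le hTS
  obtain ⟨v, hv⟩ := h.exists_isVal
  obtain ⟨hE1, hE2⟩ := isExtClosed_minExtClosed (F := F) (p := p)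
  have hRK : minExtClosed F p ≤ valSystem h v hv := minExtClosed_le_of (isExtClosed_valSystem h hv)
  have hSc : F.IsCentric S := ⟨le_rfl, fun Q hQ => by
    rw [eq_top_of_isConj hQ]; exact centralizerIn_le _⟩
  set A := charKer (F := F) hTS χ with hAdef
  have hA : A ≤ F.autGroup S := charKer_le hTS
  -- values of the elements of `Aut_F(S)`
  have htop : ∀ α ∈ F.autGroup S, ∀ β : F.autGroup T,
      (∀ t : T, (((β : MulAut T) t : T) : Ω) = ((α ⟨t, hTS t.2⟩ : S) : Ω)) →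
        v S (S.subtype.comp α.toMonoidHom) = χ β := by
    intro α hα β he
    rw [hv.base S _ hSc (Nat.zero_le _) ((mem_autGroup le_rfl).1 hα) ?_]
    · exact h.baseVal_top β he
    · rw [inf_of_le_right hTS]
      exact ⟨le_rfl, fun R hR => by rw [eq_top_of_isConj hR]; exact centralizerIn_le _⟩
  have hfac : ∀ {P : Subgroup Ω} {φ : P →* Ω}, φ ∈ F.Hom P → ∃ α ∈ F.autGroup S,
      ∃ φ₀ ∈ (twistCore F (minExtClosed F p)).Hom P,
        ∀ (x : P) (hx : φ₀ x ∈ S), φ x = ((α ⟨φ₀ x, hx⟩ : S) : Ω) :=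
    fun hφ => exists_factor_of_centric hS hF hE1 hφ
  set F₀ := autTimesIn F (minExtClosed F p) A hA with hF₀def
  have hF₀F : F₀ ≤ F := by
    rintro P φ ⟨α, hα, φ₀, hφ₀, he⟩
    exact comp_mem' hφ₀.1 ((mem_autGroup le_rfl).1 (hA hα)) (fun x => hom_mem hφ₀ x) fun x => he x _
  have hRF₀ : ∀ {P : Subgroup Ω} {φ : P →* Ω}, φ ∈ (twistCore F (minExtClosed F p)).Hom P → φ ∈ F₀.Hom P :=
    fun {P φ} hφ => twistCore_le_autTimesIn P hφ
  -- the criterion on centric subgroups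
  have hcrit : ∀ {P : Subgroup Ω} {φ : P →* Ω}, φ ∈ F.Hom P →
      ((F.IsCentric P ∧ v P φ = 1) ∨ (E.IsCentric (P ⊓ T) ∧ baseVal E χ P φ = 1)) → φ ∈ F₀.Hom P := by
    intro P φ hφ hval
    obtain ⟨α, hα, φ₀, hφ₀, he⟩ := hfac hφ
    obtain ⟨β, hβ⟩ := exists_restrict_top hsc hα
    refine ⟨α, (mem_charKer_iff hTS hβ hα).2 ?_, φ₀, hφ₀, he⟩
    have hα' := (mem_autGroup le_rfl).1 hα
    have hφ₀R : φ₀ ∈ (valSystem h v hv).Hom P := hRK P (twistCore_le_right P hφ₀)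
    have heq : φ = (S.subtype.comp α.toMonoidHom).comp (φ₀.codRestrict S (hom_mem hφ₀)) :=
      MonoidHom.ext fun x => he x _
    rcases hval with ⟨hc, hval⟩ | ⟨hc, hval⟩
    · rw [heq, hv.comp P S φ₀ _ _ hc (Nat.zero_le _) hφ₀.1 hα', hφ₀R.2.1 hc, mul_one,
        htop α hα β hβ] at hval
      exact hval
    · rw [heq, h.baseVal_comp hφ₀.1 hα' _ hc, hφ₀R.2.2 hc, mul_one, h.baseVal_top β hβ] at hval
      exact hval
  have hval : ∀ {P : Subgroup Ω} {φ : P →* Ω}, φ ∈ F₀.Hom P → F.IsCentric P → v P φ = 1 := by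
    rintro P φ ⟨α, hα, φ₀, hφ₀, he⟩ hc
    obtain ⟨hαF, β, hβ, hβe⟩ := hα
    have heq : φ = (S.subtype.comp α.toMonoidHom).comp (φ₀.codRestrict S (hom_mem hφ₀)) :=
      MonoidHom.ext fun x => he x _
    rw [heq, hv.comp P S φ₀ _ _ hc (Nat.zero_le _) hφ₀.1 ((mem_autGroup le_rfl).1 hαF),
      (hRK P (twistCore_le_right P hφ₀)).2.1 hc, mul_one, htop α hαF β hβe, hβ]
  have hmin : minExtClosed F p ≤ F₀ := by
    refine minExtClosed_le_of ⟨fun P hP a ha hk => ?_, fun P N hPN hP hN φ hφ hr => ?_⟩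
    · exact (mem_autGroup hP.1).2
        (hcrit ((mem_autGroup hP.1).1 ha) (Or.inl ⟨hP, val_autGroup_eq_one h hv hP ha hk⟩))
    · exact hcrit hφ (Or.inl ⟨isCentric_mono hP hPN (hom_le hφ),
        (hv.restrict hPN hP (Nat.zero_le _) hφ).symm.trans (hval hr hP)⟩)
  -- saturation
  have hsat : F₀.IsSaturated p := by
    refine isSaturated_of_family hS {P | F.IsCentric P}
      (fun P hP Q ⟨φ, hφ, hr⟩ => isCentric_of_conj hP ⟨φ, hF₀F P hφ, hr⟩) (fun P hP => ?_)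
      (fun D hD => ?_) (fun P hP hPℋ => absurd ?_ hPℋ)
    · -- a fully normalized conjugate inside the residual
      obtain ⟨Q₁, hPQ₁, hQ₁⟩ : ∃ Q₁, F₀.IsConj P Q₁ ∧ F.IsFullyNormalized Q₁ := by
        obtain ⟨Q', ⟨ψ, hψ, hψr⟩, hQ'⟩ := exists_isFullyNormalized F hP.1
        obtain ⟨α, hα, ψ₀, hψ₀, he⟩ := hfac hψ
        refine ⟨ψ₀.range, ⟨ψ₀, hRF₀ hψ₀, rfl⟩, range_le hψ₀.1, fun R hR => ?_⟩
        have hα' := (mem_autGroup le_rfl).1 hα
        have hconj : F.IsConj ψ₀.range Q' :=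
          isConj_trans (isConj_symm ⟨ψ₀, hψ₀.1, rfl⟩) ⟨ψ, hψ, hψr⟩
        refine (hQ'.2 R (isConj_trans (isConj_symm hconj) hR)).trans ?_
        haveI := finite_of_le (normalizerIn_le (S := S) ψ₀.range)
        have hα'' := (mem_autGroup le_rfl).1 ((F.autGroup S).inv_mem hα)
        have hν := restrict_mem hα'' (normalizerIn_le (S := S) Q')
        have hrange : (Q'.subgroupOf S).map (S.subtype.comp (α⁻¹ : MulAut S).toMonoidHom) = ψ₀.range := by
          ext y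
          rw [mem_map_subgroupOf]
          constructor
          · rintro ⟨z, hz, hzQ, rfl⟩
            rw [← hψr] at hzQ
            obtain ⟨x, rfl⟩ := hzQ
            refine ⟨x, ?_⟩
            show _ = ((α⁻¹ ⟨ψ x, hz⟩ : S) : Ω)
            rw [show (⟨ψ x, hz⟩ : S) = α ⟨ψ₀ x, hom_mem hψ₀ x⟩ from Subtype.ext (he x _),
              MulAut.inv_apply_self]
          · rintro ⟨x, rfl⟩
            refine ⟨ψ x, hom_mem hψ x, hψr.le ⟨x, rfl⟩, ?_⟩
            show ((α⁻¹ ⟨ψ x, _⟩ : S) : Ω) = _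
            rw [show (⟨ψ x, hom_mem hψ x⟩ : S) = α ⟨ψ₀ x, hom_mem hψ₀ x⟩ from Subtype.ext (he x _),
              MulAut.inv_apply_self]
        have hle : ((S.subtype.comp (α⁻¹ : MulAut S).toMonoidHom).comp
            (Subgroup.inclusion (normalizerIn_le (S := S) Q'))).range ≤ normalizerIn S ψ₀.range := by
          rintro _ ⟨g, rfl⟩
          refine ⟨hom_mem hν g, ?_⟩
          have := map_mem_normalizer (Q := Q') (S.subtype.comp (α⁻¹ : MulAut S).toMonoidHom)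
            (Subgroup.inclusion (normalizerIn_le (S := S) Q') g) g.2.2
          rwa [hrange] at this
        rw [← card_range hν]
        exact Nat.card_le_card_of_injective _ (Subgroup.inclusion_injective hle)
      have hQ₁c : F.IsCentric Q₁ := by
        obtain ⟨σ, hσ, hσr⟩ := hPQ₁
        exact isCentric_of_conj hP ⟨σ, hF₀F P hσ, hσr⟩
      obtain ⟨hfc, -, W, hW⟩ := isFullyAutomized_and_fc_of_fn hS hF hQ₁
      haveI := finite_mulAut_of_le hQ₁.1
      refine ⟨Q₁, hPQ₁, ⟨hQ₁.1, ?_⟩, hQ₁.1, fun B ξ hξ hξr => ?_⟩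
      · have hle : F₀.autGroup Q₁ ≤ F.autGroup Q₁ := fun a ha =>
          (mem_autGroup hQ₁.1).2 (hF₀F _ ((mem_autGroup hQ₁.1).1 ha))
        obtain ⟨U, hU⟩ := ((isPGroup_autInducedBy hS).comap_subtype :
          IsPGroup p ((autInducedBy S Q₁).subgroupOf (F₀.autGroup Q₁))).exists_le_sylow
        refine ⟨U, le_antisymm ?_ hU⟩
        intro a ha
        have h1 := W.3 ((U.isPGroup').map (Subgroup.inclusion hle)) (by
          intro w hw
          rw [hW, Subgroup.mem_subgroupOf] at hw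
          exact ⟨⟨w, autInducedBy_le_autGroup hQ₁.1 hw⟩, hU hw, rfl⟩)
        have h2 : Subgroup.inclusion hle a ∈ (W : Subgroup (F.autGroup Q₁)) := by
          rw [← h1]
          exact ⟨a, ha, rfl⟩
        rw [hW, Subgroup.mem_subgroupOf] at h2
        exact h2
      · obtain ⟨ψ, hψ, hψe⟩ := (isReceptive_of_fc hS hF hfc).2 B ξ (hF₀F _ hξ) hξr
        have hB : F.IsCentric B := isCentric_of_conj hQ₁c (isConj_symm ⟨ξ, hF₀F _ hξ, hξr⟩)
        have hle : B ≤ extender S B ξ := le_extender hB.1 (hom_mem hξ)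
        refine ⟨ψ, hcrit hψ (Or.inl ⟨isCentric_mono hB hle (hom_le hψ), ?_⟩), hψe⟩
        rw [← hv.restrict hle hB (Nat.zero_le _) hψ,
          show ψ.comp (Subgroup.inclusion hle) = ξ from MonoidHom.ext fun x => hψe x x.2 _]
        exact hval hξ hB
    · intro P φ hφ
      obtain ⟨α, hα, φ₀, hφ₀, he⟩ := hφ
      let D' : FusionSystem S :=
        { Hom := fun P => {φ | φ ∈ F₀.Hom P ∧ φ ∈ D.Hom P}
          le_of_mem := fun h => F₀.le_of_mem h.1
          injective_of_mem := fun h => F₀.injective_of_mem h.1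
          conj_mem := fun hP hg => ⟨F₀.conj_mem hP hg, D.conj_mem hP hg⟩
          comp_mem := fun hφ hψ h => ⟨F₀.comp_mem hφ.1 hψ.1 h, D.comp_mem hφ.2 hψ.2 h⟩
          inv_mem := by
            rintro P φ ⟨h1, h2⟩
            obtain ⟨ψ, hψ, hψe⟩ := F₀.inv_mem h1
            obtain ⟨ξ, hξ, hξe⟩ := D.inv_mem h2
            refine ⟨ψ, ⟨hψ, hom_congr hξ ?_⟩, hψe⟩
            rintro ⟨_, x, rfl⟩
            exact (hψe x).trans (hξe x).symm }
      have hcl : IsExtClosed F p D' := by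
        refine ⟨fun P hP a ha hk => ?_, fun P N hPN hP hN φ hφ hr => ?_⟩
        · have h1 : P.subtype.comp a.toMonoidHom ∈ F₀.Hom P :=
            hmin P ((mem_autGroup hP.1).1 (hE1 P hP a ha hk))
          exact (mem_autGroup hP.1).2 ⟨h1, hD P hP h1⟩
        · have h1 : φ ∈ F₀.Hom N := hcrit hφ (Or.inl ⟨isCentric_mono hP hPN (hom_le hφ),
            (hv.restrict hPN hP (Nat.zero_le _) hφ).symm.trans (hval hr.1 hP)⟩)
          exact ⟨h1, hD N (isCentric_mono hP hPN (hom_le hφ)) h1⟩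
      have hαD : S.subtype.comp α.toMonoidHom ∈ D.Hom S := hD S hSc
        ⟨α, hα, S.subtype, subtype_mem _ le_rfl, fun _ _ => rfl⟩
      exact comp_mem' (minExtClosed_le_of hcl P (twistCore_le_right P hφ₀)).2 hαD
        (fun x => hom_mem hφ₀ x) fun x => he x _
    · refine ⟨hP.1, fun Q hQ => ?_⟩
      obtain ⟨φ, hφ, rfl⟩ := hQ
      obtain ⟨α, hα, φ₀, hφ₀, he⟩ := hfac hφ
      have h0 := hP.2 _ ⟨φ₀, hRF₀ hφ₀, rfl⟩
      intro g hg
      obtain ⟨hgS, hgc⟩ := mem_centralizerIn.1 hg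
      have h1 : ((α⁻¹ ⟨g, hgS⟩ : S) : Ω) ∈ φ₀.range := by
        refine h0 (mem_centralizerIn.2 ⟨(α⁻¹ ⟨g, hgS⟩).2, ?_⟩)
        rintro _ ⟨x, rfl⟩
        have h2 : α (α⁻¹ ⟨g, hgS⟩ * ⟨φ₀ x, hom_mem hφ₀.1 x⟩) =
            α (⟨φ₀ x, hom_mem hφ₀.1 x⟩ * α⁻¹ ⟨g, hgS⟩) := by
          rw [map_mul, map_mul, MulAut.apply_inv_self]
          refine Subtype.ext ?_
          simp only [Subgroup.coe_mul, ← he x (hom_mem hφ₀.1 x)]
          exact hgc _ ⟨x, rfl⟩
        exact congrArg Subtype.val (α.injective h2)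
      obtain ⟨x, hx⟩ := h1
      refine ⟨x, (he x (hom_mem hφ₀.1 x)).trans ?_⟩
      rw [show (⟨φ₀ x, hom_mem hφ₀.1 x⟩ : S) = α⁻¹ ⟨g, hgS⟩ from Subtype.ext hx, MulAut.apply_inv_self]
  -- the automorphisms of `S`
  have hautS : F₀.autGroup S = A := by
    refine le_antisymm (fun α hα => ?_) fun α hα =>
      (mem_autGroup le_rfl).2 ⟨α, hα, S.subtype, subtype_mem _ le_rfl, fun _ _ => rfl⟩
    have h1 := (mem_autGroup le_rfl).1 hα
    have hαF : α ∈ F.autGroup S := (mem_autGroup le_rfl).2 (hF₀F S h1)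
    obtain ⟨β, hβ⟩ := exists_restrict_top hsc hαF
    exact (mem_charKer_iff hTS hβ hαF).2 ((htop α hαF β hβ).symm.trans (hval h1 hSc))
  -- invariance
  have hscS : F.StronglyClosed S := ⟨le_rfl, fun R _ φ hφ x => hom_mem hφ x⟩
  have hinv : F₀.IsInvariantIn F := by
    refine ⟨fun P φ hφ => hF₀F P hφ, hscS, fun P hP φ hφ α hα => ?_, fun P hP φ hφ => ?_⟩
    · obtain ⟨a, ha, φ₀, hφ₀, he⟩ := hφ
      obtain ⟨ξ, hξ, hξe⟩ := twistCore_invariant hα hφ₀
      have hconj : α * a * α⁻¹ ∈ A := by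
        obtain ⟨haF, β, hβ, hβe⟩ := ha
        obtain ⟨γ, hγ⟩ := exists_restrict_top hsc hα
        refine ⟨mul_mem (mul_mem hα haF) (inv_mem hα), γ * β * γ⁻¹, by
          rw [map_mul, map_mul, map_inv, hβ, mul_one, mul_inv_cancel], fun t => ?_⟩
        show (((γ : MulAut T) ((β : MulAut T) ((γ : MulAut T)⁻¹ t)) : T) : Ω) =
          ((α (a (α⁻¹ ⟨t, hTS t.2⟩)) : S) : Ω)
        have h0 : α⁻¹ ⟨t, hTS t.2⟩ = ⟨(((γ : MulAut T)⁻¹ t : T) : Ω), hTS ((γ : MulAut T)⁻¹ t).2⟩ := by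
          apply α.injective
          rw [MulAut.apply_inv_self]
          refine Subtype.ext (Eq.trans ?_ (hγ _))
          rw [MulAut.apply_inv_self]
        rw [hγ, h0]
        exact congrArg (fun z => ((α z : S) : Ω)) (Subtype.ext (hβe _))
      have hv' := hom_mem hξ
      refine ⟨(S.subtype.comp (α * a * α⁻¹).toMonoidHom).comp (ξ.codRestrict S (hom_mem hξ)),
        ⟨α * a * α⁻¹, hconj, ξ, hξ, fun x hx => rfl⟩, fun x hφx hαx => ?_⟩
      show (((α * a * α⁻¹) ⟨ξ ⟨_, hαx⟩, _⟩ : S) : Ω) = _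
      rw [show (⟨ξ ⟨_, hαx⟩, hom_mem hξ _⟩ : S) = α ⟨φ₀ x, hom_mem hφ₀.1 x⟩ from Subtype.ext (hξe x hαx),
        MulAut.mul_apply, MulAut.mul_apply, MulAut.inv_apply_self]
      exact congrArg (fun z => ((α z : S) : Ω)) (Subtype.ext (he x (hom_mem hφ₀.1 x)).symm)
    · obtain ⟨α, hα, φ₀, hφ₀, he⟩ := hfac hφ
      exact ⟨α, hα, φ₀, hRF₀ hφ₀, he⟩
  refine ⟨F₀, ⟨⟨hsat, hF, hinv⟩, fun α hα => ?_⟩, ?_, ?_, hautS,
    fun R hR P φ hφ => hmin P (hR.2.2 _ (isSaturated_minExtClosed hS hF) ?_ P hφ)⟩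
  · -- the extension condition over `S`
    have hαF := (mem_autGroup le_rfl).1 ((hautS ▸ hA : F₀.autGroup S ≤ _) hα)
    have hSC : S ⊔ centralizerIn S S = S := sup_eq_left.2 (centralizerIn_le S)
    have hmem := restrict_mem hαF hSC.le
    obtain ⟨β, hβ, hβe⟩ := exists_aut_of_hom hmem (fun x => hSC.ge (α _).2)
    refine ⟨β, hβ, fun x => hβe _, fun c hc => ?_⟩
    rw [hβe]
    show (c : Ω)⁻¹ * ((α ⟨c, hSC.le c.2⟩ : S) : Ω) ∈ _
    have hαc : ((α ⟨c, hSC.le c.2⟩ : S) : Ω) ∈ centralizerIn S S := by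
      refine mem_centralizerIn.2 ⟨(α _).2, fun s hs => ?_⟩
      have h2 : (⟨c, hSC.le c.2⟩ : S) * α⁻¹ ⟨s, hs⟩ = α⁻¹ ⟨s, hs⟩ * ⟨c, hSC.le c.2⟩ :=
        Subtype.ext ((mem_centralizerIn.1 hc).2 _ (α⁻¹ ⟨s, hs⟩).2)
      have h3 := congrArg (fun z : S => ((α z : S) : Ω)) h2
      simp only [map_mul, MulAut.apply_inv_self, Subgroup.coe_mul] at h3
      exact h3
    exact ⟨S.mul_mem (S.inv_mem hc.1) hαc.1, (Subgroup.centralizer (S : Set Ω)).mul_mem ((Subgroup.centralizer (S : Set Ω)).inv_mem hc.2) hαc.2⟩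
  · -- proper
    intro hall
    have hker : ∀ α ∈ F.autGroup S, ∀ β : F.autGroup T,
        (∀ t : T, (((β : MulAut T) t : T) : Ω) = ((α ⟨t, hTS t.2⟩ : S) : Ω)) → χ β = 1 := by
      intro α hα β hβe
      have h1 : α ∈ F₀.autGroup S := (mem_autGroup le_rfl).2 (by
        show S.subtype.comp α.toMonoidHom ∈ F₀.Hom S
        rw [hall]
        exact (mem_autGroup le_rfl).1 hα)
      rw [hautS] at h1
      exact (mem_charKer_iff hTS hβe hα).1 h1
    have hTn : F.IsFullyNormalized T := ⟨hTS, fun R hR => by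
      obtain ⟨φ, hφ, rfl⟩ := hR
      rw [range_eq_of_card_le hφ hTS (fun x => hsc.2 T le_rfl φ hφ x) le_rfl]⟩
    obtain ⟨hTfc, -, W, hW⟩ := isFullyAutomized_and_fc_of_fn hS hF hTn
    haveI := finite_mulAut_of_le hTS
    have hWker : (W : Subgroup (F.autGroup T)) ≤ χ.ker := fun w hw => by
      obtain ⟨k, hk⟩ := W.isPGroup' ⟨w, hw⟩
      refine MonoidHom.mem_ker.2 (h.eq_one_of_pow (k := k) ?_)
      rw [← map_pow, show w ^ p ^ k = 1 by simpa using congrArg Subtype.val hk, map_one]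
    have htopG := Sylow.normalizer_sup_eq_top' (N := χ.ker) W hWker
    obtain ⟨δ, hδ⟩ := exists_ne (1 : Δ)
    obtain ⟨b, rfl⟩ := hχ δ
    refine hδ ((?_ : (⊤ : Subgroup (F.autGroup T)) ≤ χ.ker) (Subgroup.mem_top b))
    rw [← htopG]
    refine sup_le (fun g hg => ?_) le_rfl
    obtain ⟨ψ, hψ, hψe⟩ := IsReceptive_ext (isReceptive_of_fc hS hF hTfc)
      (e := (g : MulAut T)) ((mem_autGroup hTS).1 g.2) (N := S) (by
        intro s hs
        have hn : s ∈ Subgroup.normalizer (T : Set Ω) := stronglyClosed_le_normalizer hsc hs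
        refine ⟨hs, hn, ?_⟩
        have hsW : (⟨conjAut T hn, autInducedBy_le_autGroup hTS (conjAut_mem_autInducedBy hn hs)⟩ :
            F.autGroup T) ∈ (W : Subgroup (F.autGroup T)) := by
          rw [hW]
          exact conjAut_mem_autInducedBy hn hs
        have h1 := (Subgroup.mem_normalizer_iff.1 hg _).1 hsW
        rw [hW, Subgroup.mem_subgroupOf] at h1
        obtain ⟨k, hk, hke⟩ := mem_autInducedBy.1 h1
        refine ⟨k, hk, fun x y hxy => ?_⟩
        have h2 := hke ((g : MulAut T) x)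
        rw [← h2]
        show _ = (((g : MulAut T) (conjAut T hn ((g : MulAut T)⁻¹ ((g : MulAut T) x))) : T) : Ω)
        rw [MulAut.inv_apply_self]
        exact congrArg (fun z : T => (((g : MulAut T) z : T) : Ω)) (Subtype.ext hxy))
    obtain ⟨α, hα, hαe⟩ := exists_aut_of_hom hψ (hom_mem hψ)
    exact MonoidHom.mem_ker.2 (hker α hα g fun t => ((hαe _).trans (hψe t t.2 _)).symm)
  · -- contains `E`
    let D : FusionSystem T :=
      { Hom := fun P => E.Hom P ∩ F₀.Hom P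
        le_of_mem := fun h => E.le_of_mem h.1
        injective_of_mem := fun h => E.injective_of_mem h.1
        conj_mem := fun hP hg => ⟨E.conj_mem hP hg, F₀.conj_mem (hP.trans hTS) (hTS hg)⟩
        comp_mem := fun hφ hψ h => ⟨E.comp_mem hφ.1 hψ.1 h, F₀.comp_mem hφ.2 hψ.2 h⟩
        inv_mem := fun {P} {φ} hφ => by
          obtain ⟨ψ, hψ, hψe⟩ := E.inv_mem hφ.1
          obtain ⟨ξ, hξ, hξe⟩ := F₀.inv_mem hφ.2
          refine ⟨ψ, ⟨hψ, hom_congr hξ ?_⟩, hψe⟩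
          rintro ⟨_, x, rfl⟩
          exact (hψe x).trans (hξe x).symm }
    suffices hED : E ≤ D from fun P φ hφ => (hED P hφ).2
    refine le_of_autGroup_le hT hEs D fun P hP a ha => ?_
    have hPc : E.IsCentric P := by
      rcases hP with rfl | hP
      · exact ⟨le_rfl, fun R hR => by rw [eq_top_of_isConj hR]; exact centralizerIn_le _⟩
      · exact hP.1
    have ha' := (mem_autGroup hPc.1).1 ha
    refine (mem_autGroup hPc.1).2 ⟨ha', hcrit (hEi.1 _ ha') (Or.inr ⟨?_, ?_⟩)⟩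
    · rwa [inf_of_le_left hPc.1]
    · refine h.baseVal_eq (by rwa [inf_of_le_left hPc.1]) ⟨1, _, restrict_mem ha' inf_le_left, map_one χ,
        fun x hx => rfl⟩
  · refine ⟨fun P φ hφ => hφ.1, fun P hP => ?_⟩
    rw [Subgroup.map_le_iff_le_comap, Subgroup.closure_le]
    rintro a ⟨k, hk⟩
    exact mem_autGroup_of_centric hS hF hE1 hP a.2 ⟨k, by rw [← hk]; exact Subgroup.orderOf_coe a⟩

end Cfsg.Lib.FusionSys
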