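import Cfsg.Agent.Lib.FusionSys.CharacterBase
import Cfsg.Agent.Lib.FusionSys.Centric
import Cfsg.Agent.Lib.FusionSys.CentralizerStronglyClosed
import Cfsg.Agent.Lib.FusionSys.PPrimeResidual

/-!
The extension of the character to all maps between centric subgroups, multiplicative under composition.
-/

set_option autoImplicit false
set_option linter.style.haveILetI false

namespace Cfsg.Lib.FusionSys

open Cfsg Cfsg.FusionSystem
open scoped Pointwise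

variable {Ω : Type*} [Group Ω] {S T : Subgroup Ω} {F : FusionSystem S} {E : FusionSystem T} {p : ℕ}
variable {Δ : Type*} [Group Δ] [Finite Δ] {χ : ↥(F.autGroup T) →* Δ}

/-- A multiplicative value on the maps of centric subgroups of order at least `n`. -/
structure IsVal (F : FusionSystem S) (E : FusionSystem T) (χ : ↥(F.autGroup T) →* Δ) (n : ℕ)
    (v : (P : Subgroup Ω) → (P →* Ω) → Δ) : Prop where
  conj : ∀ (P : Subgroup Ω) (g : Ω), F.IsCentric P → n ≤ Nat.card P → g ∈ S → v P (conjHom P g) = 1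
  comp : ∀ (P R : Subgroup Ω) (φ : P →* Ω) (ψ : R →* Ω) (hv : ∀ x, φ x ∈ R), F.IsCentric P →
    n ≤ Nat.card P → φ ∈ F.Hom P → ψ ∈ F.Hom R → v P (ψ.comp (φ.codRestrict R hv)) = v R ψ * v P φ
  base : ∀ (P : Subgroup Ω) (φ : P →* Ω), F.IsCentric P → n ≤ Nat.card P → φ ∈ F.Hom P →
    E.IsCentric (P ⊓ T) → v P φ = baseVal E χ P φ

theorem IsVal.restrict {n : ℕ} {v : (P : Subgroup Ω) → (P →* Ω) → Δ} (hv : IsVal F E χ n v)
    {P N : Subgroup Ω} (hPN : P ≤ N) (hP : F.IsCentric P) (hn : n ≤ Nat.card P) {φ : N →* Ω}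
    (hφ : φ ∈ F.Hom N) : v P (φ.comp (Subgroup.inclusion hPN)) = v N φ := by
  have hm : ∀ x : P, conjHom P 1 x ∈ N := fun x => by
    show (1 : Ω) * x * 1⁻¹ ∈ N
    simpa using hPN x.2
  have h := hv.comp P N _ φ hm hP hn (F.conj_mem hP.1 S.one_mem) hφ
  rw [hv.conj P 1 hP hn S.one_mem, mul_one] at h
  rw [← h]
  refine congrArg (v P) (MonoidHom.ext fun x => congrArg φ (Subtype.ext ?_))
  show (x : Ω) = 1 * (x : Ω) * 1⁻¹
  simp

/-- The representative of the class of `P`. -/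
noncomputable def repOf (F : FusionSystem S) (T P : Subgroup Ω) : Subgroup Ω :=
  Classical.epsilon fun Q => F.IsConj P Q ∧ F.IsFullyNormalized Q ∧ F.IsFullyNormalized (Q ⊓ T)

theorem repOf_eq {P P' : Subgroup Ω} (h : F.IsConj P P') : repOf F T P' = repOf F T P := by
  refine congrArg Classical.epsilon (funext fun Q => ?_)
  exact propext ⟨fun hQ => ⟨isConj_trans h hQ.1, hQ.2⟩, fun hQ => ⟨isConj_trans (isConj_symm h) hQ.1, hQ.2⟩⟩

theorem exists_fn_inter_fn [Finite S] [Fact p.Prime] (hS : IsPGroup p S) (hF : F.IsSaturated p)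
    (hT : F.StronglyClosed T) {P : Subgroup Ω} (hP : P ≤ S) :
    ∃ Q, F.IsConj P Q ∧ F.IsFullyNormalized Q ∧ F.IsFullyNormalized (Q ⊓ T) := by
  obtain ⟨Q, hPQ, hQn⟩ := exists_isFullyNormalized F hP
  have hQS := hQn.1
  obtain ⟨U', hUU', hU'n⟩ := exists_isFullyNormalized F (inf_le_left.trans hQS : Q ⊓ T ≤ S)
  obtain ⟨hU'fc, hU'fa⟩ := isFullyAutomized_and_fc_of_fn hS hF hU'n
  obtain ⟨μ, hμ, -, hμmap⟩ := exists_normalizer_map hS hU'fa (isReceptive_of_fc hS hF hU'fc) hUU'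
  have hsub : normalizerIn S Q ≤ normalizerIn S (Q ⊓ T) := le_normalizer_inf_sc hT
  have hQN : Q ≤ normalizerIn S (Q ⊓ T) := (le_normalizerIn hQS).trans hsub
  have hμQ := restrict_mem hμ hQN
  set Q' := (μ.comp (Subgroup.inclusion hQN)).range with hQ'def
  have hQQ' : F.IsConj Q Q' := ⟨_, hμQ, rfl⟩
  refine ⟨Q', isConj_trans hPQ hQQ', ⟨range_le hμQ, fun R hR =>
    (hQn.2 R (isConj_trans hQQ' hR)).trans ?_⟩, ?_⟩
  · have hν := restrict_mem hμ hsub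
    have hmapQ : (Q.subgroupOf (normalizerIn S (Q ⊓ T))).map μ = Q' := by
      ext w
      rw [mem_map_subgroupOf]
      exact ⟨fun ⟨x, _, hxQ, hw⟩ => ⟨⟨x, hxQ⟩, hw⟩, fun ⟨x, hw⟩ => ⟨x, hQN x.2, x.2, hw⟩⟩
    have hle : (μ.comp (Subgroup.inclusion hsub)).range ≤ normalizerIn S Q' := by
      rintro _ ⟨g, rfl⟩
      refine ⟨hom_mem hν g, ?_⟩
      have := map_mem_normalizer (Q := Q) μ (Subgroup.inclusion hsub g) g.2.2
      rwa [hmapQ] at this
    haveI := finite_of_le (normalizerIn_le (S := S) Q')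
    rw [← card_range hν]
    exact Nat.card_le_card_of_injective _ (Subgroup.inclusion_injective hle)
  · suffices h : Q' ⊓ T = U' by rwa [h]
    ext w
    rw [← hμmap, mem_map_subgroupOf]
    constructor
    · rintro ⟨⟨x, rfl⟩, hxT⟩
      refine ⟨x, hQN x.2, ⟨x.2, ?_⟩, rfl⟩
      obtain ⟨ρ, hρ, -, hρe⟩ := exists_inv hμQ rfl
      have h := stronglyClosed_apply_mem hT hρ (x := ⟨(μ.comp (Subgroup.inclusion hQN)) x, ⟨x, rfl⟩⟩) hxT
      exact (hρe x ⟨x, rfl⟩) ▸ h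
    · rintro ⟨x, hx, hxU, rfl⟩
      exact ⟨⟨⟨x, hxU.1⟩, rfl⟩, stronglyClosed_apply_mem hT hμ (x := ⟨x, hx⟩) hxU.2⟩

theorem repOf_spec [Finite S] [Fact p.Prime] (h : CharSetup F E p χ) {P : Subgroup Ω} (hP : P ≤ S) :
    F.IsConj P (repOf F T P) ∧ F.IsFullyNormalized (repOf F T P) ∧
      F.IsFullyNormalized (repOf F T P ⊓ T) :=
  Classical.epsilon_spec (exists_fn_inter_fn h.isPGroup h.saturated h.invariant.2.1 hP)

theorem CharSetup.isCentric_inter_conj [Finite S] (h : CharSetup F E p χ) {P Q : Subgroup Ω}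
    (hPQ : F.IsConj P Q) (hP : E.IsCentric (P ⊓ T)) : E.IsCentric (Q ⊓ T) := by
  obtain ⟨φ, hφ, rfl⟩ := hPQ
  exact h.isCentric_inter_image hφ le_rfl hP

theorem CharSetup.lt_coreNorm_of_not_centric [Finite S] [Fact p.Prime] (h : CharSetup F E p χ)
    {Q : Subgroup Ω} (hQ : F.IsFullyNormalized Q) (hU : F.IsFullyNormalized (Q ⊓ T))
    (hQc : F.IsCentric Q) (hnot : ¬ E.IsCentric (Q ⊓ T)) : Q < coreNorm F p Q := by
  obtain ⟨hS, hF, hEs, hEi, -, -⟩ := h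
  have hsc := hEi.2.1
  have hTS : T ≤ S := hsc.1
  haveI := finite_of_le hTS
  have hQS := hQ.1
  haveI := finite_of_le hQS
  haveI := finite_mulAut_of_le hQS
  have hnot' : ¬ centralizerIn T (Q ⊓ T) ≤ Q ⊓ T := fun hc => hnot (by
    haveI := finite_of_le (inf_le_right : Q ⊓ T ≤ T)
    exact isCentric_of_isFullyCentralized (isFullyAutomized_and_fc_of_fn (hS.to_le hTS) hEs
      (isFullyNormalized_of_invariant hS hF hEi.1 hsc inf_le_right hU)).1 hc)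
  have hnorm : Q ≤ Subgroup.normalizer ((centralizerIn T (Q ⊓ T) : Subgroup Ω) : Set Ω) := by
    intro q hq
    have key : ∀ q ∈ Q, ∀ c ∈ centralizerIn T (Q ⊓ T), q * c * q⁻¹ ∈ centralizerIn T (Q ⊓ T) := by
      intro q hq c hc
      refine mem_centralizerIn.2 ⟨sc_conj_mem hsc (hQS hq) (mem_centralizerIn.1 hc).1, fun u hu => ?_⟩
      have hu' : q⁻¹ * u * q ∈ Q ⊓ T := ⟨Q.mul_mem (Q.mul_mem (Q.inv_mem hq) hu.1) hq, by
        have := sc_conj_mem hsc (S.inv_mem (hQS hq)) hu.2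
        rwa [inv_inv] at this⟩
      calc q * c * q⁻¹ * u = q * (c * (q⁻¹ * u * q)) * q⁻¹ := by group
        _ = q * (q⁻¹ * u * q * c) * q⁻¹ := by rw [(mem_centralizerIn.1 hc).2 _ hu']
        _ = u * (q * c * q⁻¹) := by group
    refine Subgroup.mem_normalizer_iff.2 fun c => ⟨key q hq c, fun hh => ?_⟩
    have := key q⁻¹ (Q.inv_mem hq) _ hh
    rwa [inv_inv, show q⁻¹ * (q * c * q⁻¹) * q = c by group] at this
  have hWS : Q ⊔ centralizerIn T (Q ⊓ T) ≤ S := sup_le hQS ((centralizerIn_le (S := T) _).trans hTS)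
  haveI := finite_of_le hWS
  have hQW : Q < Q ⊔ centralizerIn T (Q ⊓ T) := by
    refine lt_of_le_of_ne le_sup_left fun he => hnot' fun c hc => ?_
    have hcQ : c ∈ Q := by
      rw [he]
      exact Subgroup.mem_sup_right hc
    exact ⟨hcQ, (mem_centralizerIn.1 hc).1⟩
  obtain ⟨g, ⟨hg, hgN⟩, hgQ⟩ := SetLike.exists_of_lt (lt_normalizerIn (hS.to_le hWS) hQW)
  have hmul : ((Q ⊔ centralizerIn T (Q ⊓ T) : Subgroup Ω) : Set Ω) =
      (Q : Set Ω) * (centralizerIn T (Q ⊓ T) : Set Ω) :=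
    Subgroup.coe_mul_of_left_le_normalizer_right _ _ hnorm
  replace hg : g ∈ (Q : Set Ω) * (centralizerIn T (Q ⊓ T) : Set Ω) := hmul ▸ hg
  obtain ⟨q, hq, n, hn, rfl⟩ := hg
  have hnN : n ∈ Subgroup.normalizer (Q : Set Ω) := by
    have := (Subgroup.normalizer (Q : Set Ω)).mul_mem ((Subgroup.normalizer (Q : Set Ω)).inv_mem (Subgroup.le_normalizer hq)) hgN
    rwa [inv_mul_cancel_left] at this
  suffices hmem : n ∈ coreNorm F p Q by
    refine lt_of_le_of_ne (le_coreNorm hS hQS) fun he => hgQ (Q.mul_mem hq ?_)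
    rw [he]
    exact hmem
  let D : Subgroup (F.autGroup Q) :=
    { carrier := {a | ∀ x : Q, ((x : Ω) ∈ T → (a : MulAut Q) x = x) ∧
        (x : Ω)⁻¹ * (((a : MulAut Q) x : Q) : Ω) ∈ T}
      one_mem' := fun x => ⟨fun _ => rfl, by simp⟩
      mul_mem' := by
        intro a b ha hb x
        refine ⟨fun hx => ?_, ?_⟩
        · show (a : MulAut Q) ((b : MulAut Q) x) = x
          rw [(hb x).1 hx, (ha x).1 hx]
        · show (x : Ω)⁻¹ * (((a : MulAut Q) ((b : MulAut Q) x) : Q) : Ω) ∈ T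
          exact tcongr_trans hsc (hb x).2 (ha _).2
      inv_mem' := by
        intro a ha x
        have h0 : (a : MulAut Q) ((a : MulAut Q)⁻¹ x) = x := MulAut.apply_inv_self _ _ _
        refine ⟨fun hx => ?_, ?_⟩
        · show (a : MulAut Q)⁻¹ x = x
          conv_lhs => rw [← (ha x).1 hx]
          rw [MulAut.inv_apply_self]
        · show (x : Ω)⁻¹ * (((a : MulAut Q)⁻¹ x : Q) : Ω) ∈ T
          have := T.inv_mem (ha ((a : MulAut Q)⁻¹ x)).2
          rwa [h0, mul_inv_rev, inv_inv] at this }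
  haveI : D.Normal := ⟨fun a ha g x => by
    have hgx : ∀ z : Q, (z : Ω) ∈ T → (((g : MulAut Q) z : Q) : Ω) ∈ T := fun z hz =>
      stronglyClosed_aut_mem hsc g.2 hQS hz
    have hgi : ∀ z : Q, (z : Ω) ∈ T → (((g : MulAut Q)⁻¹ z : Q) : Ω) ∈ T := fun z hz =>
      stronglyClosed_aut_mem hsc ((F.autGroup Q).inv_mem g.2) hQS hz
    refine ⟨fun hx => ?_, ?_⟩
    · show (g : MulAut Q) ((a : MulAut Q) ((g : MulAut Q)⁻¹ x)) = x
      rw [(ha _).1 (hgi x hx), MulAut.apply_inv_self]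
    · show (x : Ω)⁻¹ * (((g : MulAut Q) ((a : MulAut Q) ((g : MulAut Q)⁻¹ x)) : Q) : Ω) ∈ T
      have h1 := hgx (((g : MulAut Q)⁻¹ x)⁻¹ * (a : MulAut Q) ((g : MulAut Q)⁻¹ x)) (ha _).2
      rwa [map_mul, map_inv, MulAut.apply_inv_self] at h1⟩
  have hDp : IsPGroup p D := fun a => by
    obtain ⟨k, hk⟩ := isPGroup_aut_stab hS hsc hQS (fun x => (a.2 x).1) (fun x => (a.2 x).2)
    exact ⟨k, Subtype.ext (Subtype.ext (by
      rw [SubmonoidClass.coe_pow, SubmonoidClass.coe_pow]; exact hk))⟩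
  have hnT : n ∈ T := (mem_centralizerIn.1 hn).1
  let c₀ : F.autGroup Q :=
    ⟨conjAut Q hnN, autInducedBy_le_autGroup hQS (conjAut_mem_autInducedBy hnN (hTS hnT))⟩
  have hDle : D ≤ pCore p (F.autGroup Q) := Cfsg.Lib.Core.le_pCore' ‹D.Normal› hDp
  suffices hc₀ : c₀ ∈ D from mem_coreNorm.2 ⟨⟨hTS hnT, hnN⟩, c₀, hDle hc₀, rfl⟩
  refine fun x => ⟨fun hx => ?_, ?_⟩
  · exact Subtype.ext (conj_eq_of_commute ((mem_centralizerIn.1 hn).2 _ ⟨x.2, hx⟩))
  · show (x : Ω)⁻¹ * (n * (x : Ω) * n⁻¹) ∈ T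
    have h1 := sc_conj_mem hsc (S.inv_mem (hQS x.2)) hnT
    rw [inv_inv] at h1
    have h2 := T.mul_mem h1 (T.inv_mem hnT)
    rwa [show (x : Ω)⁻¹ * n * x * n⁻¹ = (x : Ω)⁻¹ * (n * x * n⁻¹) by group] at h2

/-- A map from the normalizer of `P` to the normalizer of its representative. -/
noncomputable def repMap (F : FusionSystem S) (T P : Subgroup Ω) : normalizerIn S P →* Ω :=
  Classical.epsilon fun μ => μ ∈ F.Hom (normalizerIn S P) ∧ (∀ x, μ x ∈ normalizerIn S (repOf F T P)) ∧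
    (P.subgroupOf (normalizerIn S P)).map μ = repOf F T P

theorem repMap_spec [Finite S] [Fact p.Prime] (h : CharSetup F E p χ) {P : Subgroup Ω} (hP : P ≤ S) :
    repMap F T P ∈ F.Hom (normalizerIn S P) ∧
      (∀ x, repMap F T P x ∈ normalizerIn S (repOf F T P)) ∧
      (P.subgroupOf (normalizerIn S P)).map (repMap F T P) = repOf F T P := by
  obtain ⟨hc, hn, -⟩ := repOf_spec h hP
  obtain ⟨hfc, hfa⟩ := isFullyAutomized_and_fc_of_fn h.isPGroup h.saturated hn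
  exact Classical.epsilon_spec
    (exists_normalizer_map h.isPGroup hfa (isReceptive_of_fc h.isPGroup h.saturated hfc) hc)

/-- `g` is `φ` moved to the representative. -/
def IsRepHom (F : FusionSystem S) (T P : Subgroup Ω) (φ : P →* Ω) {Q : Subgroup Ω} (g : Q →* Ω) : Prop :=
  g ∈ F.Hom Q ∧ g.range = Q ∧ ∀ (x : P) (h : (x : Ω) ∈ normalizerIn S P)
    (h' : repMap F T P ⟨x, h⟩ ∈ Q) (h'' : φ x ∈ normalizerIn S φ.range),
      g ⟨_, h'⟩ = repMap F T φ.range ⟨φ x, h''⟩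

/-- The chosen extension of an automorphism of a fully normalized subgroup. -/
noncomputable def coreExt (F : FusionSystem S) (p : ℕ) {Q : Subgroup Ω} (g : Q →* Ω) :
    coreNorm F p Q →* Ω :=
  Classical.epsilon fun ψ => ψ ∈ F.Hom (coreNorm F p Q) ∧
    (∀ x, ψ x ∈ coreNorm F p Q) ∧ ∀ (x : Q) (h : (x : Ω) ∈ coreNorm F p Q), ψ ⟨x, h⟩ = g x

/-- The value of an automorphism of a representative. -/
noncomputable def coreVal (F : FusionSystem S) (p : ℕ) (v : (P : Subgroup Ω) → (P →* Ω) → Δ)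
    {Q : Subgroup Ω} (g : Q →* Ω) : Δ :=
  v (coreNorm F p Q) (coreExt F p g)

/-- The value one step further down. -/
noncomputable def stepVal (F : FusionSystem S) (E : FusionSystem T) (χ : ↥(F.autGroup T) →* Δ) (p n : ℕ)
    (v : (P : Subgroup Ω) → (P →* Ω) → Δ) (P : Subgroup Ω) (φ : P →* Ω) : Δ :=
  haveI := Classical.propDecidable (E.IsCentric (P ⊓ T))
  if n + 1 ≤ Nat.card P then v P φ
  else if E.IsCentric (P ⊓ T) then baseVal E χ P φ
  else (v (normalizerIn S φ.range) (repMap F T φ.range))⁻¹ *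
    coreVal F p v (Classical.epsilon fun g : repOf F T P →* Ω => IsRepHom F T P φ g) *
    v (normalizerIn S P) (repMap F T P)

theorem isSubgroup_lt_card [Finite S] {A B : Subgroup Ω} (hB : B ≤ S) (h : A < B) :
    Nat.card A < Nat.card B := by
  haveI := finite_of_le hB
  exact Set.Finite.card_lt_card (Set.toFinite _) h

section Step

variable [Finite S] [Fact p.Prime] {n : ℕ} {v : (P : Subgroup Ω) → (P →* Ω) → Δ}

theorem CharSetup.coreExt_spec (h : CharSetup F E p χ) {Q : Subgroup Ω} (hQ : F.IsFullyNormalized Q)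
    {g : Q →* Ω} (hg : g ∈ F.Hom Q) (hgr : g.range = Q) :
    coreExt F p g ∈ F.Hom (coreNorm F p Q) ∧ (∀ x, coreExt F p g x ∈ coreNorm F p Q) ∧
      ∀ (x : Q) (hx : (x : Ω) ∈ coreNorm F p Q), coreExt F p g ⟨x, hx⟩ = g x := by
  have hS := h.isPGroup
  have hQS := hQ.1
  haveI := finite_mulAut_of_le hQS
  obtain ⟨hfc, -, R, hR⟩ := isFullyAutomized_and_fc_of_fn hS h.saturated hQ
  set e := homIso hg hgr with he
  have heF : IsoIn F e := isoIn_homIso hg hgr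
  obtain ⟨hA, ψ, hψ, hv, hψe⟩ := ((exists_extIso_of_receptive (isReceptive_of_fc hS h.saturated hfc) heF
    (le_coreNorm hS hQS) (coreNorm_le) fun x hx => by
      obtain ⟨k, hk, hke⟩ := congr_mem_coreAut heF (mem_coreNorm.1 hx).2
      have hle : pCore p (F.autGroup Q) ≤ (R : Subgroup (F.autGroup Q)) := Cfsg.Lib.Core.pCore_le_sylow R
      have h1 := hle hk
      rw [hR, Subgroup.mem_subgroupOf] at h1
      rw [← hke]
      exact h1).into_coreNorm le_rfl)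
  exact Classical.epsilon_spec (p := fun ψ : coreNorm F p Q →* Ω => ψ ∈ F.Hom (coreNorm F p Q) ∧
    (∀ x, ψ x ∈ coreNorm F p Q) ∧ ∀ (x : Q) (h : (x : Ω) ∈ coreNorm F p Q), ψ ⟨x, h⟩ = g x)
    ⟨ψ, hψ, hv, fun x hx => hψe x x.2 hx⟩

/-- The value does not depend on the extension. -/
theorem CharSetup.val_eq_coreVal (h : CharSetup F E p χ) (hv : IsVal F E χ (n + 1) v) {Q : Subgroup Ω}
    (hQ : F.IsFullyNormalized Q) (hQc : F.IsCentric Q) (hn : n ≤ Nat.card Q)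
    (hlt : Q < coreNorm F p Q) {g : Q →* Ω} (hg : g ∈ F.Hom Q) (hgr : g.range = Q) {M : Subgroup Ω}
    (hQM : Q < M) (hM : M ≤ normalizerIn S Q) {ψ : M →* Ω} (hψ : ψ ∈ F.Hom M)
    (hψe : ∀ (x : Q) (hx : (x : Ω) ∈ M), ψ ⟨x, hx⟩ = g x) : v M ψ = coreVal F p v g := by
  have hS := h.isPGroup
  obtain ⟨hg₀, hg₀v, hg₀e⟩ := h.coreExt_spec hQ hg hgr
  have hQS := hQ.1
  set L := coreNorm F p Q with hL
  have hLN : L ≤ normalizerIn S Q := coreNorm_le
  have hrec := isReceptive_of_fc hS h.saturated (isFullyAutomized_and_fc_of_fn hS h.saturated hQ).1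
  obtain ⟨Ψ₀, hΨ₀, hΨ₀e⟩ := hrec.2 Q g hg hgr
  have key : ∀ (K : Subgroup Ω) (hQK : Q < K) (hK : K ≤ normalizerIn S Q) (θ : K →* Ω), θ ∈ F.Hom K →
      (∀ (x : Q) (hx : (x : Ω) ∈ K), θ ⟨x, hx⟩ = g x) → v K θ = v (extender S Q g) Ψ₀ := by
    intro K hQK hK θ hθ hθe
    have hle : K ≤ extender S Q g := fun m hm =>
      mem_extender_of (hK hm).1 (hK hm).2 (hom_mem hθ ⟨m, hm⟩) fun x hx => by
        rw [← hθe x (hQK.le x.2), ← hθe ⟨_, hx⟩ (hQK.le hx), ← map_inv, ← map_mul, ← map_mul]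
        rfl
    have hcard : n + 1 ≤ Nat.card K :=
      Nat.succ_le_of_lt (lt_of_le_of_lt hn (isSubgroup_lt_card (hom_le hθ) hQK))
    have hKc : F.IsCentric K := isCentric_mono hQc hQK.le (hom_le hθ)
    have hres := restrict_mem hΨ₀ hle
    obtain ⟨z, -, -, hz⟩ := centric_ext_unique hS h.saturated hQc hQK.le hres hθ fun x hx =>
      (hΨ₀e x hx (hle x.2)).trans (hθe ⟨(x : Ω), hx⟩ x.2).symm
    have hm : ∀ y : K, conjHom K (z : Ω) y ∈ K := fun y =>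
      K.mul_mem (K.mul_mem z.2 y.2) (K.inv_mem z.2)
    have hθeq : θ = (Ψ₀.comp (Subgroup.inclusion hle)).comp ((conjHom K (z : Ω)).codRestrict K hm) :=
      MonoidHom.ext fun y => hz y
    rw [hθeq, hv.comp K K _ _ hm hKc hcard (F.conj_mem (hom_le hθ) (hK z.2).1) hres,
      hv.conj K _ hKc hcard (hK z.2).1, mul_one, hv.restrict hle hKc hcard hΨ₀]
  rw [key M hQM hM ψ hψ hψe]
  exact (key L hlt hLN _ hg₀ hg₀e).symm

theorem CharSetup.coreVal_comp (h : CharSetup F E p χ) (hv : IsVal F E χ (n + 1) v) {Q : Subgroup Ω}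
    (hQ : F.IsFullyNormalized Q) (hQc : F.IsCentric Q) (hn : n ≤ Nat.card Q)
    (hlt : Q < coreNorm F p Q) {g₁ g₂ g : Q →* Ω} (hg₁ : g₁ ∈ F.Hom Q) (hg₁r : g₁.range = Q)
    (hg₂ : g₂ ∈ F.Hom Q) (hg₂r : g₂.range = Q) (hg : g ∈ F.Hom Q) (hgr : g.range = Q)
    (he : ∀ (x : Q) (hx : g₁ x ∈ Q), g x = g₂ ⟨g₁ x, hx⟩) :
    coreVal F p v g = coreVal F p v g₂ * coreVal F p v g₁ := by
  obtain ⟨h₁, h₁v, h₁e⟩ := h.coreExt_spec hQ hg₁ hg₁r
  obtain ⟨h₂, -, h₂e⟩ := h.coreExt_spec hQ hg₂ hg₂r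
  have hLc : F.IsCentric (coreNorm F p Q) := isCentric_mono hQc hlt.le (hom_le h₁)
  have hcard : n + 1 ≤ Nat.card (coreNorm F p Q) :=
    Nat.succ_le_of_lt (lt_of_le_of_lt hn (isSubgroup_lt_card (hom_le h₁) hlt))
  refine Eq.trans (h.val_eq_coreVal hv hQ hQc hn hlt hg hgr hlt coreNorm_le (F.comp_mem h₁ h₂ h₁v)
    fun x hx => ?_).symm (hv.comp _ _ _ _ h₁v hLc hcard h₁ h₂)
  show coreExt F p g₂ ⟨coreExt F p g₁ ⟨x, hx⟩, _⟩ = g x
  have hxQ : g₁ x ∈ Q := hg₁r.le ⟨x, rfl⟩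
  rw [he x hxQ, ← h₂e ⟨g₁ x, hxQ⟩ (hlt.le hxQ)]
  exact congrArg (coreExt F p g₂) (Subtype.ext (h₁e x hx))

theorem CharSetup.exists_isRepHom (h : CharSetup F E p χ) {P : Subgroup Ω} {φ : P →* Ω}
    (hφ : φ ∈ F.Hom P) : ∃ g : repOf F T P →* Ω, IsRepHom F T P φ g := by
  have hP := hom_le hφ
  have hA := range_le hφ
  obtain ⟨hμ, -, hμmap⟩ := repMap_spec h hP
  obtain ⟨hν, -, hνmap⟩ := repMap_spec h hA
  have hrep : repOf F T φ.range = repOf F T P := repOf_eq ⟨φ, hφ, rfl⟩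
  rw [hrep] at hνmap
  have hμP := restrict_mem hμ (le_normalizerIn hP)
  have hr : ((repMap F T P).comp (Subgroup.inclusion (le_normalizerIn hP))).range = repOf F T P := by
    conv_rhs => rw [← hμmap]
    ext y
    rw [mem_map_subgroupOf]
    exact ⟨fun ⟨x, hx⟩ => ⟨x, le_normalizerIn hP x.2, x.2, hx⟩, fun ⟨x, _, hxP, hx⟩ => ⟨⟨x, hxP⟩, hx⟩⟩
  obtain ⟨ρ, hρ, hρr, hρe⟩ := exists_inv hμP hr
  have hρv : ∀ y, ρ y ∈ P := fun y => hρr.le ⟨y, rfl⟩
  have h1 := F.comp_mem hρ hφ hρv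
  have h1v : ∀ y, (φ.comp (ρ.codRestrict P hρv)) y ∈ normalizerIn S φ.range := fun y =>
    le_normalizerIn hA ⟨⟨ρ y, hρv y⟩, rfl⟩
  refine ⟨_, F.comp_mem h1 hν h1v, le_antisymm ?_ ?_, fun x hx h' h'' => ?_⟩
  · rintro _ ⟨y, rfl⟩
    exact hνmap.le ⟨⟨φ ⟨ρ y, hρv y⟩, h1v y⟩, ⟨⟨ρ y, hρv y⟩, rfl⟩, rfl⟩
  · intro w hw
    rw [← hνmap] at hw
    obtain ⟨a, ⟨x, hx⟩, rfl⟩ := hw
    have hm : ((repMap F T P).comp (Subgroup.inclusion (le_normalizerIn hP))) x ∈ repOf F T P :=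
      hr.le ⟨x, rfl⟩
    refine ⟨⟨_, hm⟩, congrArg (repMap F T φ.range) (Subtype.ext ?_)⟩
    exact (congrArg φ (Subtype.ext (hρe x hm))).trans hx
  · exact congrArg (repMap F T φ.range) (Subtype.ext (congrArg φ (Subtype.ext
      (hρe x (hr.le ⟨x, rfl⟩)))))

theorem CharSetup.isRepHom_unique (h : CharSetup F E p χ) {P : Subgroup Ω} {φ : P →* Ω}
    (hφ : φ ∈ F.Hom P) {g g' : repOf F T P →* Ω} (hg : IsRepHom F T P φ g)
    (hg' : IsRepHom F T P φ g') : g = g' := by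
  obtain ⟨-, -, hμmap⟩ := repMap_spec h (hom_le hφ)
  refine MonoidHom.ext fun y => ?_
  obtain ⟨x, hx, hxP, hxy⟩ := mem_map_subgroupOf.1 (hμmap.ge y.2)
  have h'' : φ ⟨x, hxP⟩ ∈ normalizerIn S φ.range := le_normalizerIn (range_le hφ) ⟨_, rfl⟩
  have h' : repMap F T P ⟨x, hx⟩ ∈ repOf F T P := hxy ▸ y.2
  rw [show y = ⟨_, h'⟩ from Subtype.ext hxy.symm, hg.2.2 ⟨x, hxP⟩ hx h' h'',
    hg'.2.2 ⟨x, hxP⟩ hx h' h'']

theorem CharSetup.stepVal_eq (h : CharSetup F E p χ) {P : Subgroup Ω} {φ : P →* Ω} (hφ : φ ∈ F.Hom P)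
    (hn : Nat.card P = n) (hnc : ¬ E.IsCentric (P ⊓ T)) {Q : Subgroup Ω} (hQ : repOf F T P = Q)
    {g : Q →* Ω} (hg : IsRepHom F T P φ g) :
    stepVal F E χ p n v P φ = (v (normalizerIn S φ.range) (repMap F T φ.range))⁻¹ * coreVal F p v g *
      v (normalizerIn S P) (repMap F T P) := by
  subst hQ
  unfold stepVal
  rw [if_neg (by omega), if_neg hnc,
    h.isRepHom_unique hφ (Classical.epsilon_spec (p := fun g => IsRepHom F T P φ g) ⟨g, hg⟩) hg]

theorem CharSetup.stepVal_base {P : Subgroup Ω} (hn : Nat.card P = n) {φ : P →* Ω} (hc : E.IsCentric (P ⊓ T)) :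
    stepVal F E χ p n v P φ = baseVal E χ P φ := by
  unfold stepVal
  rw [if_neg (by omega), if_pos hc]

theorem stepVal_big {P : Subgroup Ω} (hn : n + 1 ≤ Nat.card P) (φ : P →* Ω) :
    stepVal F E χ p n v P φ = v P φ := by
  unfold stepVal
  rw [if_pos hn]

theorem CharSetup.rep_good (h : CharSetup F E p χ) {P : Subgroup Ω} (hP : F.IsCentric P)
    (hnc : ¬ E.IsCentric (P ⊓ T)) : F.IsFullyNormalized (repOf F T P) ∧ F.IsCentric (repOf F T P) ∧
      repOf F T P < coreNorm F p (repOf F T P) := by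
  obtain ⟨hc, hn, hu⟩ := repOf_spec h hP.1
  have hQc := isCentric_of_conj hP hc
  exact ⟨hn, hQc, h.lt_coreNorm_of_not_centric hn hu hQc fun hh =>
    hnc (h.isCentric_inter_conj (isConj_symm hc) hh)⟩

theorem CharSetup.stepVal_comp_eq (h : CharSetup F E p χ) (hv : IsVal F E χ (n + 1) v)
    {P : Subgroup Ω} (hP : F.IsCentric P) (hn : Nat.card P = n) (hnc : ¬ E.IsCentric (P ⊓ T))
    {φ : P →* Ω} {ψ : φ.range →* Ω} (hφ : φ ∈ F.Hom P) (hψ : ψ ∈ F.Hom φ.range)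
    (hm : ∀ x, φ x ∈ φ.range) :
    stepVal F E χ p n v P (ψ.comp (φ.codRestrict φ.range hm)) =
      stepVal F E χ p n v φ.range ψ * stepVal F E χ p n v P φ := by
  have hc := F.comp_mem hφ hψ hm
  obtain ⟨g₁, hg₁⟩ := h.exists_isRepHom hφ
  have hrep : repOf F T φ.range = repOf F T P := repOf_eq ⟨φ, hφ, rfl⟩
  obtain ⟨g₂, hg₂⟩ : ∃ g₂ : repOf F T P →* Ω, IsRepHom F T φ.range ψ g₂ :=
    hrep ▸ h.exists_isRepHom hψ
  obtain ⟨g, hg⟩ := h.exists_isRepHom hc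
  have hnc' : ¬ E.IsCentric (φ.range ⊓ T) := fun hh =>
    hnc (h.isCentric_inter_conj (isConj_symm ⟨φ, hφ, rfl⟩) hh)
  obtain ⟨hQn, hQc, hlt⟩ := h.rep_good hP hnc
  have hQn' : n ≤ Nat.card (repOf F T P) :=
    le_of_eq (hn.symm.trans (card_eq_of_isConj (repOf_spec h hP.1).1))
  have hr : (ψ.comp (φ.codRestrict φ.range hm)).range = ψ.range := by
    refine le_antisymm (fun _ ⟨x, hx⟩ => ⟨_, hx⟩) ?_
    rintro _ ⟨⟨_, x, rfl⟩, rfl⟩
    exact ⟨x, rfl⟩
  obtain ⟨-, -, hμmap⟩ := repMap_spec h hP.1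
  have key : ∀ (A B : Subgroup Ω) (_ : A = B) (a : Ω) (ha : a ∈ normalizerIn S A)
      (hb : a ∈ normalizerIn S B), repMap F T A ⟨a, ha⟩ = repMap F T B ⟨a, hb⟩ := by
    rintro A _ rfl a ha hb
    rfl
  have he : ∀ (x : repOf F T P) (hx : g₁ x ∈ repOf F T P), g x = g₂ ⟨g₁ x, hx⟩ := by
    intro y hy
    obtain ⟨x, hx, hxP, hxy⟩ := mem_map_subgroupOf.1 (hμmap.ge y.2)
    have h' : repMap F T P ⟨x, hx⟩ ∈ repOf F T P := hxy ▸ y.2
    obtain rfl : y = ⟨_, h'⟩ := Subtype.ext hxy.symm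
    have h'' : φ ⟨x, hxP⟩ ∈ normalizerIn S φ.range := le_normalizerIn (range_le hφ) ⟨_, rfl⟩
    have e₁ := hg₁.2.2 ⟨x, hxP⟩ hx h' h''
    have h2' : repMap F T φ.range ⟨φ ⟨x, hxP⟩, h''⟩ ∈ repOf F T P := e₁ ▸ hy
    have e₂ := hg₂.2.2 ⟨φ ⟨x, hxP⟩, ⟨_, rfl⟩⟩ h'' h2' (le_normalizerIn (range_le hψ) ⟨_, rfl⟩)
    rw [show (⟨g₁ ⟨_, h'⟩, hy⟩ : repOf F T P) = ⟨_, h2'⟩ from Subtype.ext e₁, e₂,
      hg.2.2 ⟨x, hxP⟩ hx h' (le_normalizerIn (range_le hc) ⟨_, rfl⟩)]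
    clear e₂
    exact key _ _ hr _ _ _
  rw [h.stepVal_eq hc hn hnc rfl hg, h.stepVal_eq hφ hn hnc rfl hg₁,
    h.stepVal_eq hψ ((card_range hφ).trans hn) hnc' hrep hg₂,
    h.coreVal_comp hv hQn hQc hQn' hlt hg₁.1 hg₁.2.1 hg₂.1 hg₂.2.1 hg.1 hg.2.1 he]
  rw [show v (normalizerIn S (ψ.comp (φ.codRestrict φ.range hm)).range)
      (repMap F T (ψ.comp (φ.codRestrict φ.range hm)).range) =
    v (normalizerIn S ψ.range) (repMap F T ψ.range) by rw [hr]]
  group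

theorem CharSetup.stepVal_restrict (h : CharSetup F E p χ) (hv : IsVal F E χ (n + 1) v)
    {A R : Subgroup Ω} (hA : F.IsCentric A) (hn : Nat.card A = n) (hAR : A < R) {ψ : R →* Ω}
    (hψ : ψ ∈ F.Hom R) :
    stepVal F E χ p n v A (ψ.comp (Subgroup.inclusion hAR.le)) = v R ψ := by
  have hRS := hom_le hψ
  have hRc : F.IsCentric R := isCentric_mono hA hAR.le hRS
  have hcardR : n + 1 ≤ Nat.card R := by
    have := isSubgroup_lt_card hRS hAR
    omega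
  by_cases hc : E.IsCentric (A ⊓ T)
  · rw [CharSetup.stepVal_base (P := A) hn hc, h.baseVal_restrict hAR.le hψ hc]
    exact (hv.base R ψ hRc hcardR hψ (isCentric_mono hc (inf_le_inf_right T hAR.le) inf_le_right)).symm
  set φ := ψ.comp (Subgroup.inclusion hAR.le) with hφdef
  have hφ : φ ∈ F.Hom A := restrict_mem hψ hAR.le
  obtain ⟨g, hg⟩ := h.exists_isRepHom hφ
  obtain ⟨hQn, hQc, hlt⟩ := h.rep_good hA hc
  obtain ⟨hμ, hμv, hμmap⟩ := repMap_spec h hA.1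
  obtain ⟨hν, hνv, -⟩ := repMap_spec h (range_le hφ)
  -- inside the normalizer of `A` in `R`
  set R₁ := normalizerIn R A with hR₁def
  haveI := finite_of_le hRS
  have hAR₁ : A < R₁ := lt_normalizerIn (h.isPGroup.to_le hRS) hAR
  have hR₁R : R₁ ≤ R := normalizerIn_le A
  have hR₁N : R₁ ≤ normalizerIn S A := fun x hx => ⟨hRS hx.1, hx.2⟩
  have hR₁S : R₁ ≤ S := hR₁R.trans hRS
  have hψ₁ := restrict_mem hψ hR₁R
  have hψ₁v : ∀ x, (ψ.comp (Subgroup.inclusion hR₁R)) x ∈ normalizerIn S φ.range := by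
    intro x
    refine ⟨hom_mem hψ₁ x, ?_⟩
    have hh := map_mem_normalizer (Q := A) ψ (Subgroup.inclusion hR₁R x) x.2.2
    have hmap : (A.subgroupOf R).map ψ = φ.range := by
      ext y
      rw [mem_map_subgroupOf]
      exact ⟨fun ⟨a, _, haA, hy⟩ => ⟨⟨a, haA⟩, hy⟩, fun ⟨a, hy⟩ => ⟨a, hAR.le a.2, a.2, hy⟩⟩
    rwa [hmap] at hh
  haveI := finite_of_le hRS
  have hμ₁ := restrict_mem hμ hR₁N
  set μ₁ := (repMap F T A).comp (Subgroup.inclusion hR₁N) with hμ₁def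
  set M := μ₁.range with hMdef
  obtain ⟨ρ, hρ, hρr, hρe⟩ := exists_inv hμ₁ hMdef.symm
  have hρv : ∀ y, ρ y ∈ R₁ := fun y => hρr.le ⟨y, rfl⟩
  have h2 := F.comp_mem hρ hψ₁ hρv
  have hMN : M ≤ normalizerIn S (repOf F T A) := by
    rintro _ ⟨x, rfl⟩
    exact hμv _
  have hQM : repOf F T A < M := by
    refine lt_of_le_of_ne (fun y hy => ?_) fun he => ?_
    · obtain ⟨x, hx, hxA, hxy⟩ := mem_map_subgroupOf.1 (hμmap.ge hy)
      exact ⟨⟨x, hAR₁.le hxA⟩, hxy⟩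
    · have h1 := card_range hμ₁
      rw [← hMdef, ← he, ← card_eq_of_isConj (repOf_spec h hA.1).1] at h1
      exact (isSubgroup_lt_card hR₁S hAR₁).ne h1
  have h2v : ∀ y, ((ψ.comp (Subgroup.inclusion hR₁R)).comp (ρ.codRestrict R₁ hρv)) y ∈
      normalizerIn S φ.range := fun y => hψ₁v _
  set ψ₂ := (repMap F T φ.range).comp
    (((ψ.comp (Subgroup.inclusion hR₁R)).comp (ρ.codRestrict R₁ hρv)).codRestrict _ h2v) with hψ₂def
  have hψ₂ : ψ₂ ∈ F.Hom M := F.comp_mem h2 hν h2v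
  have hψ₂g : ∀ (y : repOf F T A) (hy : (y : Ω) ∈ M), ψ₂ ⟨y, hy⟩ = g y := by
    intro y hy
    obtain ⟨x, hx, hxA, hxy⟩ := mem_map_subgroupOf.1 (hμmap.ge y.2)
    have h' : repMap F T A ⟨x, hx⟩ ∈ repOf F T A := hxy ▸ y.2
    obtain rfl : y = ⟨_, h'⟩ := Subtype.ext hxy.symm
    rw [hg.2.2 ⟨x, hxA⟩ hx h' (le_normalizerIn (range_le hφ) ⟨_, rfl⟩)]
    refine congrArg (repMap F T φ.range) (Subtype.ext ?_)
    show ψ (Subgroup.inclusion hR₁R ⟨ρ ⟨repMap F T A ⟨x, hx⟩, hy⟩, _⟩) = ψ (Subgroup.inclusion hAR.le ⟨x, hxA⟩)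
    refine congrArg ψ (Subtype.ext ?_)
    exact hρe ⟨x, hAR₁.le hxA⟩ hy
  have hR₁c : F.IsCentric R₁ := isCentric_mono hA hAR₁.le hR₁S
  have hcard₁ : n + 1 ≤ Nat.card R₁ := by
    have := isSubgroup_lt_card hR₁S hAR₁
    omega
  have hμ₁v : ∀ x, μ₁ x ∈ M := fun x => ⟨x, rfl⟩
  have eA := hv.comp R₁ M μ₁ ψ₂ hμ₁v hR₁c hcard₁ hμ₁ hψ₂
  have eB := hv.comp R₁ _ _ _ hψ₁v hR₁c hcard₁ hψ₁ hν
  have hcomp : ψ₂.comp (μ₁.codRestrict M hμ₁v) =
      (repMap F T φ.range).comp ((ψ.comp (Subgroup.inclusion hR₁R)).codRestrict _ hψ₁v) := by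
    refine MonoidHom.ext fun x => congrArg (repMap F T φ.range) (Subtype.ext ?_)
    exact congrArg ψ (Subtype.ext (hρe x ⟨x, rfl⟩))
  have hQn' : n ≤ Nat.card (repOf F T A) :=
    le_of_eq (hn.symm.trans (card_eq_of_isConj (repOf_spec h hA.1).1))
  rw [hcomp, eB, hv.restrict hR₁R hR₁c hcard₁ hψ, hμ₁def, hv.restrict hR₁N hR₁c hcard₁ hμ,
    h.val_eq_coreVal hv hQn hQc hQn' hlt hg.1 hg.2.1 hQM hMN hψ₂ hψ₂g] at eA
  rw [h.stepVal_eq hφ hn hc rfl hg, mul_assoc, ← eA, inv_mul_cancel_left]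

theorem CharSetup.isVal_step (h : CharSetup F E p χ) (hv : IsVal F E χ (n + 1) v) :
    IsVal F E χ n (stepVal F E χ p n v) where
  conj P g hP hn hg := by
    rcases Nat.lt_or_ge n (Nat.card P) with hlt | hge
    · rw [stepVal_big hlt]
      exact hv.conj P g hP hlt hg
    have hn' : Nat.card P = n := le_antisymm hge hn
    by_cases hPS : P = S
    · subst hPS
      have hc : E.IsCentric (P ⊓ T) := by
        rw [inf_of_le_right h.invariant.2.1.1]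
        refine ⟨le_rfl, fun R hR => ?_⟩
        haveI := finite_of_le h.invariant.2.1.1
        rw [eq_top_of_isConj hR]
        exact centralizerIn_le _
      rw [CharSetup.stepVal_base (P := P) hn' hc]
      exact h.baseVal_conj hc hg
    have hlt := lt_normalizerIn h.isPGroup (lt_of_le_of_ne hP.1 hPS)
    have hr := h.stepVal_restrict hv hP hn' hlt (F.conj_mem (normalizerIn_le (S := S) P) hg)
    rw [hv.conj _ _ (isCentric_mono hP hlt.le (normalizerIn_le P))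
      (Nat.succ_le_of_lt (hn' ▸ isSubgroup_lt_card (normalizerIn_le P) hlt)) hg] at hr
    exact hr
  comp P R φ ψ hm hP hn hφ hψ := by
    have hR : φ.range ≤ R := by rintro _ ⟨x, rfl⟩; exact hm x
    haveI := finite_of_le (hom_le hψ)
    have hcR : Nat.card P ≤ Nat.card R := card_range hφ ▸ Subgroup.card_le_of_le hR
    rcases Nat.lt_or_ge n (Nat.card P) with hlt | hge
    · rw [stepVal_big hlt, stepVal_big hlt, stepVal_big (hlt.trans_le hcR)]
      exact hv.comp P R φ ψ hm hP hlt hφ hψ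
    have hn' : Nat.card P = n := le_antisymm hge hn
    by_cases hc : E.IsCentric (P ⊓ T)
    · rw [CharSetup.stepVal_base (P := P) hn' hc, CharSetup.stepVal_base (P := P) hn' hc,
        h.baseVal_comp hφ hψ hm hc]
      congr 1
      rcases Nat.lt_or_ge n (Nat.card R) with hlt | hge'
      · rw [stepVal_big hlt]
        exact (hv.base R ψ (isCentric_mono (isCentric_of_conj hP ⟨φ, hφ, rfl⟩) hR (hom_le hψ)) hlt hψ
          (h.isCentric_inter_image hφ hR hc)).symm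
      · rw [CharSetup.stepVal_base (P := R) (le_antisymm hge' (hn'.symm.le.trans hcR))
          (h.isCentric_inter_image hφ hR hc)]
    have hm' : ∀ x, φ x ∈ φ.range := fun x => ⟨x, rfl⟩
    have hψ' := restrict_mem hψ hR
    have hsplit : ψ.comp (φ.codRestrict R hm) =
        (ψ.comp (Subgroup.inclusion hR)).comp (φ.codRestrict φ.range hm') := rfl
    rw [hsplit, h.stepVal_comp_eq hv hP hn' hc hφ hψ' hm']
    congr 1
    rcases eq_or_lt_of_le hR with heq | hlt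
    · subst heq
      rfl
    · rw [stepVal_big (P := R) (Nat.succ_le_of_lt ((card_range hφ).trans hn' ▸
        isSubgroup_lt_card (hom_le hψ) hlt))]
      exact h.stepVal_restrict hv (isCentric_of_conj hP ⟨φ, hφ, rfl⟩) ((card_range hφ).trans hn') hlt hψ
  base P φ hP hn hφ hc := by
    rcases Nat.lt_or_ge n (Nat.card P) with hlt | hge
    · rw [stepVal_big hlt]
      exact hv.base P φ hP hlt hφ hc
    · exact CharSetup.stepVal_base (P := P) (le_antisymm hge hn) hc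

theorem CharSetup.exists_isVal (h : CharSetup F E p χ) :
    ∃ v : (P : Subgroup Ω) → (P →* Ω) → Δ, IsVal F E χ 0 v := by
  suffices ∀ k, ∃ v : (P : Subgroup Ω) → (P →* Ω) → Δ, IsVal F E χ (Nat.card S + 1 - k) v by
    obtain ⟨v, hv⟩ := this (Nat.card S + 1)
    exact ⟨v, by simpa using hv⟩
  intro k
  induction k with
  | zero =>
    refine ⟨fun _ _ => 1, fun P _ hP hn _ => rfl, fun P R φ ψ hm hP hn _ _ => (mul_one 1).symm,
      fun P φ hP hn _ _ => ?_⟩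
    have := card_le_of_le hP.1
    omega
  | succ k ih =>
    obtain ⟨v, hv⟩ := ih
    rcases Nat.eq_zero_or_pos (Nat.card S + 1 - k) with h0 | hpos
    · refine ⟨v, ?_⟩
      rwa [show Nat.card S + 1 - (k + 1) = Nat.card S + 1 - k by omega]
    · rw [show Nat.card S + 1 - k = (Nat.card S + 1 - (k + 1)) + 1 by omega] at hv
      exact ⟨_, h.isVal_step hv⟩

end Step

end Cfsg.Lib.FusionSys
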