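import Cfsg.Agent.Lib.FusionSys.CommutingTransvections

/-!
# Transvection groups with one axis and strongly `p`-embedded subgroups
-/

set_option autoImplicit false

namespace Cfsg.Lib.FusionSys

open Cfsg Cfsg.FusionSystem
open scoped Pointwise

variable {Ω : Type*} [Group Ω] {S : Subgroup Ω} [Finite S] {p : ℕ} [Fact p.Prime]
variable {F : FusionSystem S} {P : Subgroup Ω}

/-- An abelian essential subgroup has no set `K` of transvections with common axis `H` whose centres meet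
every automorphic image of `H`. -/
theorem not_essential_of_common_axis (hS : IsPGroup p S) (hF : F.IsSaturated p) (hP : F.IsEssential p P)
    (hab : ∀ a b : P, a * b = b * a) (H : Subgroup P) (K : Set Ω) (hKS : K ⊆ S)
    (hKN : ∀ n ∈ K, n ∈ Subgroup.normalizer (P : Set Ω)) (hKp : ∀ n ∈ K, n ^ p ∈ P)
    (hKH : ∀ n ∈ K, ∀ v ∈ H, n * (v : Ω) = v * n)
    (hmeet : ∀ α ∈ F.autGroup P, ∃ n ∈ K, n ∉ P ∧ ∃ c ∈ H, (∃ c' ∈ H, α c' = c) ∧
      ∀ v : P, ∃ i : ℤ, n * (v : Ω) * n⁻¹ = v * (c : Ω) ^ i) : False := by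
  have hPS := hP.1.1
  haveI := finite_of_le hPS
  set A := F.autGroup P with hA
  obtain ⟨hC, hfn, hN, Y, hY⟩ := hP
  have hcen : centralizerIn S P ≤ P := hC.2 P (isConj_refl F hPS)
  set I := (Inn ↥P).subgroupOf A with hI
  have hI1 : ∀ a ∈ I, a = 1 := by
    rintro a ⟨y, hy⟩
    refine Subtype.ext (MulEquiv.ext fun v => ?_)
    show (a : MulAut P) v = v
    rw [← (show MulAut.conj y = (a : MulAut P) from hy)]
    show y * v * y⁻¹ = v
    rw [hab y v, mul_inv_cancel_right]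
  set π := QuotientGroup.mk' I
  have hπinj : Function.Injective π := by
    intro a b h
    exact inv_mul_eq_one.1 (hI1 _ (QuotientGroup.eq.1 h))
  obtain ⟨-, R₀, hR₀⟩ := (isFullyAutomized_and_fc_of_fn hS hF hfn).2
  obtain ⟨hdvd, hne, P₀, hP₀⟩ := hY
  obtain ⟨h, hh⟩ := MulAction.exists_smul_eq (A ⧸ I) P₀ (R₀.mapSurjective (QuotientGroup.mk'_surjective I))
  set Y' := MulAut.conj h • Y with hY'
  have hY'emb : Cfsg.IsStronglyPEmbedded p Y' := by
    refine ⟨hdvd, fun htop => hne ?_, h • P₀, kGeneratedCore_le_of fun R hR hR1 =>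
      kGeneratedCore_conj_le hP₀ h R hR hR1⟩
    rw [hY'] at htop
    exact eq_top_iff.2 fun w _ => Subgroup.smul_mem_pointwise_smul_iff.1
      (htop ▸ Subgroup.mem_top (MulAut.conj h • w))
  have hnormY : ∀ R : Subgroup (A ⧸ I), R ≤ ((h • P₀ : Sylow p (A ⧸ I)) : Subgroup (A ⧸ I)) → R ≠ ⊥ →
      Subgroup.normalizer (R : Set (A ⧸ I)) ≤ Y' := fun R hR hR1 => kGeneratedCore_conj_le hP₀ h R hR hR1
  have hmeet' : ∀ α : A, ∃ a : A, ∃ c ∈ H, (∃ c' ∈ H, (α : MulAut P) c' = c) ∧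
      (∀ v ∈ H, (a : MulAut P) v = v) ∧
      (∀ w, ∃ i : ℤ, (a : MulAut P) w = w * c ^ i) ∧ π a ∈ Y' ∧ orderOf (π a) = p ∧
      ∀ b : A, a * b = b * a → π b ∈ Y' := by
    intro α
    obtain ⟨n, hnK, hnP, c, hc, hc', hdisp⟩ := hmeet (α : MulAut P) α.2
    have hmemA := conjAut_mem_autInducedBy (hKN n hnK) (hKS hnK)
    set a : A := ⟨conjAut P (hKN n hnK), autInducedBy_le_autGroup hPS hmemA⟩ with ha
    have ha1 : a ≠ 1 := fun h1 => hnP (by
      refine mem_of_conjAut_mem_inn hcen hPS (hKS hnK) (α := (1 : MulAut P)) (fun w => ?_) (one_mem _)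
      exact congrArg (fun b : A => (((b : MulAut P) w : P) : Ω)) h1.symm)
    have ha1' : π a ≠ 1 := fun h1 => ha1 (hπinj (h1.trans (map_one π).symm))
    have hmem : π a ∈ ((h • P₀ : Sylow p (A ⧸ I)) : Subgroup (A ⧸ I)) := by
      rw [hh, Sylow.coe_mapSurjective]
      exact ⟨a, by rw [hR₀]; exact hmemA, rfl⟩
    have hle := hnormY (Subgroup.zpowers (π a)) (Subgroup.zpowers_le.2 hmem)
      (fun h1 => ha1' (Subgroup.zpowers_eq_bot.1 h1))
    refine ⟨a, c, hc, hc', fun v hv => Subtype.ext (conj_eq_of_commute (hKH n hnK v hv)), fun w => ?_,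
      hle (Subgroup.le_normalizer (Subgroup.mem_zpowers _)), ?_, fun b hb => hle ?_⟩
    · obtain ⟨i, hi⟩ := hdisp w
      exact ⟨i, Subtype.ext (by rw [Subgroup.coe_mul, SubgroupClass.coe_zpow]; exact hi)⟩
    · refine orderOf_eq_prime ?_ ha1'
      rw [← map_pow]
      refine (QuotientGroup.eq_one_iff _).2 ?_
      exact ⟨⟨n ^ p, hKp n hnK⟩, MulEquiv.ext fun w => Subtype.ext
        ((aut_pow_apply (α := (a : MulAut P)) (g := n) (fun x => rfl) p w).symm.trans (by rw [map_pow]; rfl))⟩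
    · refine Subgroup.mem_normalizer_fintype fun y hy => ?_
      obtain ⟨i, rfl⟩ := hy
      rw [SetLike.mem_coe]
      refine ⟨i, ?_⟩
      show π a ^ i = π b * π a ^ i * (π b)⁻¹
      rw [← map_zpow, ← map_inv, ← map_mul, ← map_mul]
      exact congrArg π ((Commute.zpow_right (show Commute b a from hb.symm) i).eq ▸
        (mul_inv_cancel_right _ _).symm)
  obtain ⟨g, hg⟩ : ∃ g : A, π g ∉ Y' := by
    by_contra h1
    push Not at h1
    exact hY'emb.2.1 (eq_top_iff.2 fun w _ => by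
      obtain ⟨a, rfl⟩ := QuotientGroup.mk'_surjective I w
      exact h1 a)
  obtain ⟨t, c, hc, ⟨c₀, hc₀, hgc₀⟩, htH, hti, -, -, hcl⟩ := hmeet' g
  obtain ⟨t₁, d, hd, ⟨d₀, hd₀, hgd₀⟩, ht₁H, ht₁i, ht₁Y, ht₁o, -⟩ := hmeet' g⁻¹
  set t' : A := g * t₁ * g⁻¹ with ht'
  have hgd : (g : MulAut P) d = d₀ := by
    rw [← hgd₀, InvMemClass.coe_inv, MulAut.apply_inv_self]
  have hcommt : t * t' = t' * t := by
    refine Subtype.ext (MulEquiv.ext fun v => ?_)
    have ht'i : ∀ v, ∃ i : ℤ, (t' : MulAut P) v = v * d₀ ^ i := by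
      intro v
      obtain ⟨i, hi⟩ := ht₁i ((g : MulAut P)⁻¹ v)
      refine ⟨i, ?_⟩
      show (g : MulAut P) ((t₁ : MulAut P) ((g : MulAut P)⁻¹ v)) = _
      rw [hi, map_mul, MulAut.apply_inv_self, map_zpow, hgd]
    have ht'c : (t' : MulAut P) c = c := by
      show (g : MulAut P) ((t₁ : MulAut P) ((g : MulAut P)⁻¹ c)) = _
      rw [← hgc₀, MulAut.inv_apply_self, ht₁H c₀ hc₀]
    have htd : (t : MulAut P) d₀ = d₀ := htH d₀ hd₀
    obtain ⟨i, hi⟩ := hti v
    obtain ⟨j, hj⟩ := ht'i v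
    show (t : MulAut P) ((t' : MulAut P) v) = (t' : MulAut P) ((t : MulAut P) v)
    rw [hi, hj, map_mul, map_mul, map_zpow, map_zpow, htd, ht'c, hi, hj, mul_assoc, mul_assoc, hab (c ^ i)]
  refine hg (Cfsg.Lib.SPEmbedded.fusion_criterion hY'emb ht₁Y ht₁o ?_)
  have := hcl t' hcommt
  rwa [ht', map_mul, map_mul, map_inv] at this

end Cfsg.Lib.FusionSys
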