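import Cfsg.Agent.Lib.FusionSys.Alperin
import Cfsg.Agent.Lib.FusionSys.Saturation
import Cfsg.Agent.Lib.SPEmbedded

/-!
# Transvection groups with one centre and strongly `p`-embedded subgroups
-/

set_option autoImplicit false

namespace Cfsg.Lib.FusionSys

open Cfsg Cfsg.FusionSystem
open scoped Pointwise

variable {Ω : Type*} [Group Ω] {S : Subgroup Ω} [Finite S] {p : ℕ} [Fact p.Prime]
variable {F : FusionSystem S} {P : Subgroup Ω}

/-- An abelian essential subgroup `P` admits no set `K` of elements of its normalizer acting as transvections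
with common centre `s` such that every element of `P` is centralized by some member of `K` outside `P`. -/
theorem not_essential_of_transvections (hS : IsPGroup p S) (hF : F.IsSaturated p) (hP : F.IsEssential p P)
    (hab : ∀ a b : P, a * b = b * a) (e : P) (K : Set Ω) (hKS : K ⊆ S)
    (hKN : ∀ n ∈ K, n ∈ Subgroup.normalizer (P : Set Ω)) (hKp : ∀ n ∈ K, n ^ p ∈ P)
    (hKe : ∀ n ∈ K, n * (e : Ω) = e * n)
    (hdisp : ∀ n ∈ K, ∀ v : P, ∃ i : ℤ, n * v * n⁻¹ = v * (e : Ω) ^ i)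
    (hfix : ∀ v : P, ∃ n ∈ K, n ∉ P ∧ n * v = v * n) : False := by
  have hPS := hP.1.1
  haveI := finite_of_le hPS
  set A := F.autGroup P with hA
  obtain ⟨hC, hfn, hN, Y, hY⟩ := hP
  have hcen : centralizerIn S P ≤ P := hC.2 P (isConj_refl F hPS)
  set I := (Inn ↥P).subgroupOf A with hI
  have hI1 : ∀ a ∈ I, a = 1 := by
    rintro a ⟨y, hy⟩
    refine Subtype.ext (MulEquiv.ext fun v => ?_)
    show (a : MulAut P) v = v
    rw [← (show MulAut.conj y = (a : MulAut P) from hy)]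
    show y * v * y⁻¹ = v
    rw [hab y v, mul_inv_cancel_right]
  set π := QuotientGroup.mk' I
  have hπinj : Function.Injective π := by
    intro a b h
    exact inv_mul_eq_one.1 (hI1 _ (QuotientGroup.eq.1 h))
  obtain ⟨-, R₀, hR₀⟩ := (isFullyAutomized_and_fc_of_fn hS hF hfn).2
  obtain ⟨hdvd, hne, P₀, hP₀⟩ := hY
  obtain ⟨h, hh⟩ := MulAction.exists_smul_eq (A ⧸ I) P₀ (R₀.mapSurjective (QuotientGroup.mk'_surjective I))
  set Y' := MulAut.conj h • Y with hY'
  have hY'emb : Cfsg.IsStronglyPEmbedded p Y' := by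
    refine ⟨hdvd, fun htop => hne ?_, h • P₀, kGeneratedCore_le_of fun R hR hR1 =>
      kGeneratedCore_conj_le hP₀ h R hR hR1⟩
    rw [hY'] at htop
    exact eq_top_iff.2 fun w _ => Subgroup.smul_mem_pointwise_smul_iff.1
      (htop ▸ Subgroup.mem_top (MulAut.conj h • w))
  have hnormY : ∀ R : Subgroup (A ⧸ I), R ≤ ((h • P₀ : Sylow p (A ⧸ I)) : Subgroup (A ⧸ I)) → R ≠ ⊥ →
      Subgroup.normalizer (R : Set (A ⧸ I)) ≤ Y' := fun R hR hR1 => kGeneratedCore_conj_le hP₀ h R hR hR1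
  -- the automorphism induced by a member of `K` centralizing `v`
  have hfix' : ∀ v : P, ∃ a : A, (a : MulAut P) v = v ∧ (a : MulAut P) e = e ∧
      (∀ w, ∃ i : ℤ, (a : MulAut P) w = w * e ^ i) ∧ π a ∈ Y' ∧ orderOf (π a) = p ∧
      ∀ b : A, a * b = b * a → π b ∈ Y' := by
    intro v
    obtain ⟨n, hnK, hnP, hnv⟩ := hfix v
    have hmemA := conjAut_mem_autInducedBy (hKN n hnK) (hKS hnK)
    set a : A := ⟨conjAut P (hKN n hnK), autInducedBy_le_autGroup hPS hmemA⟩ with ha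
    have ha1 : a ≠ 1 := fun h1 => hnP (by
      refine mem_of_conjAut_mem_inn hcen hPS (hKS hnK) (α := (1 : MulAut P)) (fun w => ?_) (one_mem _)
      exact congrArg (fun b : A => (((b : MulAut P) w : P) : Ω)) h1.symm)
    have ha1' : π a ≠ 1 := fun h1 => ha1 (hπinj (h1.trans (map_one π).symm))
    have hmem : π a ∈ ((h • P₀ : Sylow p (A ⧸ I)) : Subgroup (A ⧸ I)) := by
      rw [hh, Sylow.coe_mapSurjective]
      exact ⟨a, by rw [hR₀]; exact hmemA, rfl⟩
    have hle := hnormY (Subgroup.zpowers (π a)) (Subgroup.zpowers_le.2 hmem)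
      (fun h1 => ha1' (Subgroup.zpowers_eq_bot.1 h1))
    refine ⟨a, Subtype.ext (conj_eq_of_commute hnv), Subtype.ext (conj_eq_of_commute (hKe n hnK)), fun w => ?_,
      hle (Subgroup.le_normalizer (Subgroup.mem_zpowers _)), ?_, fun b hb => hle ?_⟩
    · obtain ⟨i, hi⟩ := hdisp n hnK w
      exact ⟨i, Subtype.ext (by rw [Subgroup.coe_mul, SubgroupClass.coe_zpow]; exact hi)⟩
    · refine orderOf_eq_prime ?_ ha1'
      rw [← map_pow]
      refine (QuotientGroup.eq_one_iff _).2 ?_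
      exact ⟨⟨n ^ p, hKp n hnK⟩, MulEquiv.ext fun w => Subtype.ext
        ((aut_pow_apply (α := (a : MulAut P)) (g := n) (fun x => rfl) p w).symm.trans (by rw [map_pow]; rfl))⟩
    · refine Subgroup.mem_normalizer_fintype fun y hy => ?_
      obtain ⟨i, rfl⟩ := hy
      rw [SetLike.mem_coe]
      refine ⟨i, ?_⟩
      show π a ^ i = π b * π a ^ i * (π b)⁻¹
      rw [← map_zpow, ← map_inv, ← map_mul, ← map_mul]
      exact congrArg π ((Commute.zpow_right (show Commute b a from hb.symm) i).eq ▸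
        (mul_inv_cancel_right _ _).symm)
  obtain ⟨g, hg⟩ : ∃ g : A, π g ∉ Y' := by
    by_contra h1
    push Not at h1
    exact hY'emb.2.1 (eq_top_iff.2 fun w _ => by
      obtain ⟨a, rfl⟩ := QuotientGroup.mk'_surjective I w
      exact h1 a)
  obtain ⟨t, hte, hte', hti, -, -, hcl⟩ := hfix' ((g : MulAut P) e)
  obtain ⟨t₁, ht₁e, -, ht₁i, ht₁Y, ht₁o, -⟩ := hfix' ((g : MulAut P)⁻¹ e)
  set t' : A := g * t₁ * g⁻¹ with ht'
  have hcommt : t * t' = t' * t := by
    refine Subtype.ext (MulEquiv.ext fun v => ?_)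
    have ht'i : ∀ v, ∃ i : ℤ, (t' : MulAut P) v = v * (g : MulAut P) e ^ i := by
      intro v
      obtain ⟨i, hi⟩ := ht₁i ((g : MulAut P)⁻¹ v)
      refine ⟨i, ?_⟩
      show (g : MulAut P) ((t₁ : MulAut P) ((g : MulAut P)⁻¹ v)) = _
      rw [hi, map_mul, MulAut.apply_inv_self, map_zpow]
    have ht'e : (t' : MulAut P) e = e := by
      show (g : MulAut P) ((t₁ : MulAut P) ((g : MulAut P)⁻¹ e)) = _
      rw [ht₁e, MulAut.apply_inv_self]
    obtain ⟨i, hi⟩ := hti v
    obtain ⟨j, hj⟩ := ht'i v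
    show (t : MulAut P) ((t' : MulAut P) v) = (t' : MulAut P) ((t : MulAut P) v)
    rw [hi, hj, map_mul, map_mul, map_zpow, map_zpow, hte, ht'e, hi, hj, mul_assoc, mul_assoc, hab (e ^ i)]
  refine hg (Cfsg.Lib.SPEmbedded.fusion_criterion hY'emb ht₁Y ht₁o ?_)
  have := hcl t' hcommt
  rwa [ht', map_mul, map_mul, map_inv] at this

end Cfsg.Lib.FusionSys
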