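import Cfsg.Agent.Lib.FusionSys.ComponentCommute

/-!
Components outside a normal subsystem lie in the subsystem centralizing it.
-/

set_option autoImplicit false
set_option linter.style.haveILetI false
set_option maxHeartbeats 800000

namespace Cfsg.Lib.FusionSys

open Cfsg Cfsg.FusionSystem

variable {Ω : Type*} [Group Ω] {S T V : Subgroup Ω} {F : FusionSystem S} {N : FusionSystem V}
  {C : FusionSystem T} {p : ℕ}

/-- A system equal to its hyperfocal subgroup that centralizes `V` lies in the centralizer of a normal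
subsystem over `V`. -/
theorem le_systemCentralizer_of_hyperfocal [Finite S] [Fact p.Prime] (hS : IsPGroup p S)
    (hN : N.IsNormalIn F p) (hhyp : C.hyperfocalSubgroup p = T)
    (hcent : ∀ P : Subgroup Ω, C.Hom P ⊆ F.centralizerHom V P) :
    T ≤ systemCentralizer F N p hN.1.2.2.2.1 := by
  have hF := hN.1.2.1
  have hV : F.StronglyClosed V := hN.1.2.2.2.1
  have hTC : T ≤ centralizerIn S V := (hcent T (subtype_mem C le_rfl)).2.1
  have hTS : T ≤ S := hTC.trans (centralizerIn_le V)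
  haveI := finite_of_le hTS
  refine hhyp.symm.le.trans (hyperfocal_le_of_coprime fun P hP α hα _ y => ?_)
  refine ⟨mul_mem (inv_mem (hTC (hP y.2))) (hTC (hP (α y).2)), fun γ hγ h => ?_⟩
  have hWS : (V ⊔ centralizerIn S V) ≤ S := sup_le hV.1 (centralizerIn_le V)
  have hyW : (y : Ω) ∈ (V ⊔ centralizerIn S V) := Subgroup.mem_sup_right (hTC (hP y.2))
  have hayW : (α y : Ω) ∈ (V ⊔ centralizerIn S V) := Subgroup.mem_sup_right (hTC (hP (α y).2))
  have hcW : ((γ ⟨_, h⟩ : ↥(V ⊔ centralizerIn S V)) : Ω) ∈ centralizerIn S V :=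
    aut_apply_mem_centralizerIn hV hγ (mul_mem (inv_mem (hTC (hP y.2))) (hTC (hP (α y).2)))
  refine ⟨hcW, fun Q hQV hQn hQc ψ hψ m hm hψm a _ _ _ hmem => ?_⟩
  have hQS : Q ≤ S := hQV.trans hV.1
  have hZ : centralizerIn V Q ≤ Q := hQc.2 Q (isConj_refl N hQV)
  have hCQ : centralizerIn S V ≤ centralizerIn S Q := centralizerIn_anti hQV
  -- `α` fixing `V`
  obtain ⟨-, -, -, χ, hχ, hχe, hχf⟩ := hcent P ((mem_autGroup hP).1 hα)
  have hPVW : P ⊔ V ≤ (V ⊔ centralizerIn S V) := sup_le (fun x hx => Subgroup.mem_sup_right (hTC (hP hx))) le_sup_left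
  have hχv : ∀ z, χ z ∈ P ⊔ V := hom_mem_of_sup (fun z hz => by
      rw [show z = Subgroup.inclusion le_sup_left ⟨(z : Ω), hz⟩ from rfl, hχe]
      exact Subgroup.mem_sup_left (α _).2) fun z hz => by
      rw [show z = Subgroup.inclusion le_sup_right ⟨(z : Ω), hz⟩ from rfl, hχf]
      exact Subgroup.mem_sup_right hz
  -- the image of `P`
  set X := (P.subgroupOf (V ⊔ centralizerIn S V)).map ((V ⊔ centralizerIn S V).subtype.comp γ.toMonoidHom) with hXdef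
  have hXV : X ≤ centralizerIn S V := by
    rintro _ ⟨z, hz, rfl⟩
    exact aut_apply_mem_centralizerIn hV hγ (hTC (hP hz))
  have hXC : X ≤ centralizerIn S Q := hXV.trans hCQ
  set R := Q ⊔ X with hRdef
  have hRW : R ≤ (V ⊔ centralizerIn S V) := sup_le (hQV.trans le_sup_left) (hXV.trans le_sup_right)
  have hRS : R ≤ S := hRW.trans hWS
  haveI := finite_of_le hRS
  haveI : Finite (MulAut R) := Finite.of_injective (fun f => (f : R → R)) DFunLike.coe_injective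
  have hγi : ∀ z : R, ((γ⁻¹ (Subgroup.inclusion hRW z) : ↥(V ⊔ centralizerIn S V)) : Ω) ∈ P ⊔ V := by
    refine hom_mem_of_sup (f := ((V ⊔ centralizerIn S V).subtype.comp (γ⁻¹).toMonoidHom).comp (Subgroup.inclusion hRW))
      (fun z hz => Subgroup.mem_sup_right ?_) fun z hz => Subgroup.mem_sup_left ?_
    · exact stronglyClosed_aut_mem hV (inv_mem hγ) hWS (x := Subgroup.inclusion hRW z) (hQV hz)
    · obtain ⟨w, hw, hwz⟩ := hz
      show ((γ⁻¹ (Subgroup.inclusion hRW z) : ↥(V ⊔ centralizerIn S V)) : Ω) ∈ P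
      rw [show Subgroup.inclusion hRW z = γ w from Subtype.ext hwz.symm, MulAut.inv_apply_self]
      exact hw
  have hσ := comp_mem' (F := F) (restrict_mem ((mem_autGroup hWS).1 (inv_mem hγ)) hRW)
    (restrict_mem hχ le_rfl) hγi (χ := χ.comp
      ((((V ⊔ centralizerIn S V).subtype.comp (γ⁻¹).toMonoidHom).comp (Subgroup.inclusion hRW)).codRestrict _ hγi)) fun _ => rfl
  set σ := χ.comp ((((V ⊔ centralizerIn S V).subtype.comp (γ⁻¹).toMonoidHom).comp (Subgroup.inclusion hRW)).codRestrict _ hγi)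
  have hσv : ∀ z, σ z ∈ (V ⊔ centralizerIn S V) := fun z => hPVW (hχv _)
  have hσ' := F.comp_mem hσ ((mem_autGroup hWS).1 hγ) hσv
  set σ' := ((V ⊔ centralizerIn S V).subtype.comp γ.toMonoidHom).comp (σ.codRestrict _ hσv)
  have hσQ : ∀ z : R, (z : Ω) ∈ Q → σ' z = z := by
    intro z hz
    have h1 : ((γ⁻¹ (Subgroup.inclusion hRW z) : ↥(V ⊔ centralizerIn S V)) : Ω) ∈ V :=
      stronglyClosed_aut_mem hV (inv_mem hγ) hWS (x := Subgroup.inclusion hRW z) (hQV hz)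
    show ((γ ⟨χ ⟨_, hγi z⟩, _⟩ : ↥(V ⊔ centralizerIn S V)) : Ω) = z
    rw [show (⟨χ ⟨_, hγi z⟩, hσv z⟩ : ↥(V ⊔ centralizerIn S V)) = γ⁻¹ (Subgroup.inclusion hRW z) from
      Subtype.ext (hχf ⟨_, h1⟩), MulAut.apply_inv_self]
    rfl
  have hσP : ∀ (w : P) (hw : (γ ⟨(w : Ω), hPVW (Subgroup.mem_sup_left w.2)⟩ : Ω) ∈ R),
      σ' ⟨_, hw⟩ = (γ ⟨(α w : Ω), hPVW (Subgroup.mem_sup_left (α w).2)⟩ : ↥(V ⊔ centralizerIn S V)) := by
    intro w hw
    show ((γ ⟨χ ⟨_, hγi ⟨_, hw⟩⟩, _⟩ : ↥(V ⊔ centralizerIn S V)) : Ω) = _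
    refine congrArg (fun t : ↥(V ⊔ centralizerIn S V) => ((γ t : ↥(V ⊔ centralizerIn S V)) : Ω)) (Subtype.ext ?_)
    show χ ⟨_, hγi ⟨_, hw⟩⟩ = _
    rw [show (⟨((γ⁻¹ (Subgroup.inclusion hRW ⟨_, hw⟩) : ↥(V ⊔ centralizerIn S V)) : Ω), hγi ⟨_, hw⟩⟩ : ↥(P ⊔ V)) =
      Subgroup.inclusion le_sup_left w from Subtype.ext (by
        show ((γ⁻¹ (γ ⟨(w : Ω), _⟩) : ↥(V ⊔ centralizerIn S V)) : Ω) = w
        rw [MulAut.inv_apply_self])]
    exact hχe w
  have hXmem : ∀ w : P, (γ ⟨(w : Ω), hPVW (Subgroup.mem_sup_left w.2)⟩ : Ω) ∈ X := fun w =>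
    ⟨_, w.2, rfl⟩
  obtain ⟨c, hc, hce⟩ := exists_aut_of_hom hσ' (hom_mem_of_sup (f := σ') (K := R) (fun z hz => by
      rw [hσQ z hz]; exact z.2) fun z hz => by
      obtain ⟨w, hw, hwz⟩ := hz
      rw [show z = ⟨_, Subgroup.mem_sup_right (hXmem ⟨(w : Ω), hw⟩)⟩ from Subtype.ext hwz.symm, hσP]
      exact Subgroup.mem_sup_right (hXmem _))
  -- the restriction of `ψ`
  have hRQC : R ≤ Q ⊔ centralizerIn S Q := sup_le_sup_left hXC Q
  have hQCS : Q ⊔ centralizerIn S Q ≤ S := sup_le hQS (centralizerIn_le Q)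
  have hψmove : ∀ z : R, (z : Ω) ∈ X → ∃ u ∈ Q,
      ((ψ (Subgroup.inclusion hRQC z) : _) : Ω) = (z : Ω) * u ∧
        ∀ w ∈ Q ⊔ centralizerIn S Q, u * w = w * u := fun z hz =>
    (goodExt_central hZ hψ (Subgroup.inclusion hRQC z) (hXC hz)).2
  obtain ⟨θ, hθ, hθe⟩ := exists_aut_restrict hQCS hψ.1.1 hRQC (hom_mem_of_sup (K := R)
    (f := ((Q ⊔ centralizerIn S Q).subtype.comp ψ.toMonoidHom).comp (Subgroup.inclusion hRQC))
    (fun z hz => Subgroup.mem_sup_left ((hψ.1.2 _).1 hz)) fun z hz => by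
      obtain ⟨u, hu, he, -⟩ := hψmove z hz
      show ((ψ (Subgroup.inclusion hRQC z) : _) : Ω) ∈ R
      rw [he]
      exact mul_mem z.2 (Subgroup.mem_sup_left hu))
  have hθm : θ ^ m = 1 := aut_pow_eq_one hRQC hθe hψm
  have hcQ : ∀ z : R, (z : Ω) ∈ Q → c z = z := fun z hz => Subtype.ext ((hce z).trans (hσQ z hz))
  have hθQ : ∀ z : R, (z : Ω) ∈ Q → (θ z : Ω) ∈ Q := fun z hz => by
    rw [hθe]; exact (hψ.1.2 _).1 hz
  have hciQ : ∀ z : R, (z : Ω) ∈ Q → c⁻¹ z = z := fun z hz => by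
    conv_lhs => rw [← hcQ z hz]
    rw [MulAut.inv_apply_self]
  have hciX : ∀ z : R, (z : Ω) ∈ X → ((c⁻¹ z : R) : Ω) ∈ X := by
    intro z hz
    obtain ⟨w, hw, hwz⟩ := hz
    have h1 : c ⟨_, Subgroup.mem_sup_right (hXmem (α⁻¹ ⟨(w : Ω), hw⟩))⟩ = z := by
      refine Subtype.ext ((hce _).trans ((hσP _ _).trans ?_))
      rw [← hwz]
      exact congrArg (fun t : ↥(V ⊔ centralizerIn S V) => ((γ t : ↥(V ⊔ centralizerIn S V)) : Ω)) (Subtype.ext
        (congrArg (fun t : P => (t : Ω)) (MulAut.apply_inv_self _ α ⟨(w : Ω), hw⟩)))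
    rw [← h1, MulAut.inv_apply_self]
    exact hXmem _
  have hconj : ∀ z : R, (z : Ω) ∈ X → ∃ u ∈ Q,
      ((θ (c⁻¹ z) : R) : Ω) = ((c⁻¹ z : R) : Ω) * u ∧ (((c * θ * c⁻¹) z : R) : Ω) = (z : Ω) * u := by
    intro z hz
    obtain ⟨u, hu, he, -⟩ := hψmove _ (hciX z hz)
    have he' : θ (c⁻¹ z) = c⁻¹ z * ⟨u, Subgroup.mem_sup_left hu⟩ := Subtype.ext ((hθe _).trans he)
    refine ⟨u, hu, congrArg Subtype.val he', ?_⟩
    rw [MulAut.mul_apply, MulAut.mul_apply, he', map_mul, MulAut.apply_inv_self, hcQ _ hu]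
    rfl
  have hrig := goodExt_rigid hS hF hZ (isFullyAutomized_and_fc_of_fn hS hF hQn).1 hψ hm hψm hXC
    (ψ := c * θ * c⁻¹) (mul_mem (mul_mem hc hθ) (inv_mem hc))
    (fun z hz => by
      rw [MulAut.mul_apply, MulAut.mul_apply, hciQ z hz, hcQ _ (hθQ z hz)]
      exact hθe z)
    (fun z hz => by
      obtain ⟨u, hu, -, he⟩ := hconj z hz
      rw [he, inv_mul_cancel_left]
      exact hQV hu)
    (by rw [conj_pow, hθm, mul_one, mul_inv_cancel])
  set z₁ : R := ⟨_, Subgroup.mem_sup_right (hXmem y)⟩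
  set z₂ : R := ⟨_, Subgroup.mem_sup_right (hXmem (α y))⟩
  obtain ⟨u, hu, hu₁, hu₂⟩ := hconj z₂ (hXmem (α y))
  have hcz : c⁻¹ z₂ = z₁ := by
    rw [show z₂ = c z₁ from Subtype.ext ((hce z₁).trans (hσP y z₁.2)).symm, MulAut.inv_apply_self]
  rw [hcz, hθe] at hu₁
  rw [hrig z₂] at hu₂
  apply Subtype.ext
  have hsplit : (⟨_, hmem⟩ : ↥(Q ⊔ centralizerIn S Q)) =
      (Subgroup.inclusion hRQC z₁)⁻¹ * Subgroup.inclusion hRQC z₂ := by
    refine Subtype.ext ?_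
    show ((γ ⟨_, h⟩ : ↥(V ⊔ centralizerIn S V)) : Ω) = (γ ⟨_, hyW⟩ : Ω)⁻¹ * (γ ⟨_, hayW⟩ : Ω)
    have he : γ ⟨_, h⟩ = (γ ⟨_, hyW⟩)⁻¹ * γ ⟨_, hayW⟩ := by
      rw [← map_inv, ← map_mul]
      rfl
    rw [he]
    rfl
  rw [hsplit, map_mul, map_inv, Subgroup.coe_mul, Subgroup.coe_inv, hu₁, hu₂]
  have huc : ∀ w ∈ Q ⊔ centralizerIn S Q, u * w = w * u := by
    obtain ⟨v, -, hv, hvc⟩ := hψmove z₂ (hXmem (α y))
    rw [hu₂] at hv
    exact (mul_left_cancel hv : u = v) ▸ hvc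
  show ((z₁ : Ω) * u)⁻¹ * ((z₂ : Ω) * u) = (z₁ : Ω)⁻¹ * z₂
  rw [mul_inv_rev, mul_assoc u⁻¹, ← mul_assoc (z₁ : Ω)⁻¹,
    ← huc _ ((Q ⊔ centralizerIn S Q).mul_mem ((Q ⊔ centralizerIn S Q).inv_mem (hRQC z₁.2)) (hRQC z₂.2)),
    inv_mul_cancel_left]

/-- A component outside a normal subsystem lies in the subsystem centralizing it. -/
theorem exists_normal_centralizing [Finite S] [Fact p.Prime] (hS : IsPGroup p S) (hN : N.IsNormalIn F p) :
    ∃ (Y : Subgroup Ω) (D : FusionSystem Y), D.IsNormalIn F p ∧ Y ≤ centralizerIn S V ∧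
      CentralizesSystem F N Y ∧ (∀ P : Subgroup Ω, D.Hom P ⊆ F.centralizerHom V P) ∧
      ∀ (U : Subgroup Ω) (C : FusionSystem U), C.IsComponentIn F p → ¬ C.IsSubsystemOf N →
        C.IsSubsystemOf D := by
  obtain ⟨CV, D, hCV, hidx, hD, hDC⟩ := exists_centralizer_subsystem' hS hN rfl
  refine ⟨_, D, hD, systemCentralizer_le, centralizesSystem_systemCentralizer hS hN, hDC,
    fun U C hC hne => ?_⟩
  have h := component_centralizes_normal hC.1 inferInstance inferInstance hS hC.2 V N hN hne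
  haveI := finite_of_le (centralizerIn_le (S := S) V)
  exact subsystem_le_of_pPower (hS.to_le (centralizerIn_le V)) hC.2.1 (fun P φ hφ => hCV P ▸ h P hφ)
    (le_systemCentralizer_of_hyperfocal hS hN hC.2.2.1 h) hidx

end Cfsg.Lib.FusionSys
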