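import Cfsg.Agent.Lib.FusionSys.MeetMain
import Cfsg.Agent.Lib.FusionSys.CentralizerOfNormal

/-!
The meet of two normal subsystems: normality and the universal property.
-/

set_option autoImplicit false
set_option linter.style.haveILetI false
set_option maxHeartbeats 800000

namespace Cfsg.Lib.FusionSys

open Cfsg Cfsg.FusionSystem

variable {Ω : Type*} [Group Ω] {S T₁ T₂ : Subgroup Ω} {F : FusionSystem S} {E₁ : FusionSystem T₁}
  {E₂ : FusionSystem T₂} {p : ℕ}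

/-- The maps of the system between subgroups of the base of an invariant subsystem carry its automizers. -/
theorem congr_mem_autGroup_invariant [Finite S] {T P Q : Subgroup Ω} {E : FusionSystem T}
    (hEi : E.IsInvariantIn F) (hP : P ≤ T) (hQ : Q ≤ T) {e : P ≃* Q} (he : IsoIn F e) {a : MulAut P}
    (ha : a ∈ E.autGroup P) : MulAut.congr e a ∈ E.autGroup Q := by
  obtain ⟨χ, hχ, hχe⟩ := isInvariant_strongInv hEi P P le_rfl hP _ ((mem_autGroup hP).1 ha)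
    (fun x => (a x).2) _ he
  have hmap : (P.subgroupOf P).map (Q.subtype.comp e.toMonoidHom) = Q := by
    ext y
    exact ⟨fun ⟨x, _, hx⟩ => hx ▸ (e x).2, fun hy => ⟨e.symm ⟨y, hy⟩, (e.symm ⟨y, hy⟩).2, by simp⟩⟩
  have key : ∀ (U : Subgroup Ω) (_ : U = Q) (χ : U →* Ω), χ ∈ E.Hom U →
      (∀ (x : Q) (hx : (x : Ω) ∈ U), χ ⟨x, hx⟩ = (MulAut.congr e a x : Ω)) →
      Q.subtype.comp (MulAut.congr e a).toMonoidHom ∈ E.Hom Q := by
    rintro U rfl χ hχ h
    exact hom_congr hχ fun x => (h x x.2).symm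
  refine (mem_autGroup hQ).2 (key _ hmap χ hχ fun x hx => ?_)
  have hx' : (Q.subtype.comp e.toMonoidHom) (Subgroup.inclusion le_rfl (e.symm x)) = (x : Ω) := by
    show ((e (e.symm x) : Q) : Ω) = x
    rw [MulEquiv.apply_symm_apply]
  refine (congrArg χ (Subtype.ext hx'.symm)).trans ((hχe (e.symm x) (by rw [hx']; exact hx)).trans ?_)
  rfl

namespace MeetCtx

variable (c : MeetCtx F E₁ E₂ p)
include c
variable [Finite S] [Fact p.Prime]

/-- The meet is normal in every one of the three systems. -/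
theorem isNormalIn_meet {V : Subgroup Ω} {G : FusionSystem V} (hGs : G.IsSaturated p) (hG : G.IsInvariantIn F)
    (hU : T₁ ⊓ T₂ ≤ V) (hD : (c.meetSys 0).IsSubsystemOf G) (hUG : G.StronglyClosed (T₁ ⊓ T₂))
    (hgood : c.hGood (T₁ ⊓ T₂) ≤ goodIn F G hUG (T₁ ⊓ T₂)) : (c.meetSys 0).IsNormalIn G p := by
  refine ⟨⟨c.isSaturated_meet, hGs, c.isInvariantIn_meet hGs hG hU hD⟩, fun α hα => ?_⟩
  have hVS := hG.2.1.1
  haveI := finite_of_le hVS
  haveI := finite_of_le c.closed.1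
  have hfc : G.IsFullyCentralized (T₁ ⊓ T₂) := ⟨hU, fun R ⟨φ, hφ, hφr⟩ => by
    rw [← hφr, range_eq_of_card_le hφ hU (fun x => hUG.2 _ le_rfl φ hφ x) le_rfl]⟩
  have h1 : α ∈ goodAut hUG (T₁ ⊓ T₂) hU := by
    have := hgood (c.kGen_le_hGood le_rfl (c.autGroup_meet_le c.uCentric_top hα))
    rwa [goodIn_eq c.pS hGs hG c.closed hfc] at this
  obtain ⟨β, hβ, hβe⟩ := h1
  refine ⟨β, hβ.1.1, hβe, fun x hx => Subgroup.mem_inf.2 ⟨hβ.2 x hx, Subgroup.mem_centralizer_iff.2 fun y hy => ?_⟩⟩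
  have hxc : ∀ y ∈ T₁ ⊓ T₂, (x : Ω) * y = y * x := (mem_centralizerIn.1 hx).2
  let z : ↥(T₁ ⊓ T₂) := α⁻¹ ⟨y, hy⟩
  have h2 : x * Subgroup.inclusion le_sup_left z = Subgroup.inclusion le_sup_left z * x :=
    Subtype.ext (hxc z z.2)
  have h3 := congrArg (fun w : ↥((T₁ ⊓ T₂) ⊔ centralizerIn V (T₁ ⊓ T₂)) => ((β w : _) : Ω)) h2
  simp only [map_mul, Subgroup.coe_mul, hβe] at h3
  rw [show ((α z : ↥(T₁ ⊓ T₂)) : Ω) = y from congrArg Subtype.val (MulAut.apply_inv_self _ α ⟨y, hy⟩)] at h3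
  have h4 := hxc y hy
  exact ((Commute.inv_left (show Commute (x : Ω) y from h4)).mul_left (show Commute (β x : Ω) y from h3)).eq.symm

theorem isNormalIn_F : (c.meetSys 0).IsNormalIn F p :=
  c.isNormalIn_meet c.sat (isInvariantIn_self F) c.closed.1 (c.meetSys_sub 0) c.closed fun _ h => h.1.1

theorem isNormalIn₁ : (c.meetSys 0).IsNormalIn E₁ p :=
  c.isNormalIn_meet c.sat₁ c.inv₁ inf_le_left (c.meetSys_sub₁ 0) c.closed₁ fun _ h => h.1.2

theorem isNormalIn₂ : (c.meetSys 0).IsNormalIn E₂ p :=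
  c.isNormalIn_meet c.sat₂ c.inv₂ inf_le_right (c.meetSys_sub₂ 0) c.closed₂ fun _ h => h.2

/-- An automorphism good in the three systems at a fully normalized subgroup is good. -/
theorem mem_hGood_of_fn {Q : Subgroup Ω} (hQU : Q ≤ T₁ ⊓ T₂) (hQ : F.IsFullyNormalized Q) {a : MulAut Q}
    (hF' : a ∈ goodAut c.closed Q (hQU.trans c.closed.1))
    (h₁ : a ∈ goodAut c.closed₁ Q (hQU.trans inf_le_left))
    (h₂ : a ∈ goodAut c.closed₂ Q (hQU.trans inf_le_right)) : a ∈ c.hGood Q := by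
  haveI := finite_of_le c.inv₁.2.1.1
  haveI := finite_of_le c.inv₂.2.1.1
  have fn₁ := isFullyNormalized_of_invariant c.pS c.sat c.inv₁.1 c.inv₁.2.1 (hQU.trans inf_le_left) hQ
  have fn₂ := isFullyNormalized_of_invariant c.pS c.sat c.inv₂.1 c.inv₂.2.1 (hQU.trans inf_le_right) hQ
  refine ⟨⟨?_, ?_⟩, ?_⟩
  · rw [SetLike.mem_coe, goodIn_eq c.pS c.sat (isInvariantIn_self F) c.closed
      (isFullyAutomized_and_fc_of_fn c.pS c.sat hQ).1]
    exact hF'
  · rw [SetLike.mem_coe, goodIn_eq c.pS c.sat₁ c.inv₁ c.closed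
      (isFullyAutomized_and_fc_of_fn (c.pS.to_le c.inv₁.2.1.1) c.sat₁ fn₁).1]
    exact h₁
  · rw [SetLike.mem_coe, goodIn_eq c.pS c.sat₂ c.inv₂ c.closed
      (isFullyAutomized_and_fc_of_fn (c.pS.to_le c.inv₂.2.1.1) c.sat₂ fn₂).1]
    exact h₂

/-- The automizer of the top of a system normal in the three is good. -/
theorem top_mem_hGood {D' : FusionSystem (T₁ ⊓ T₂)} (hF' : D'.IsNormalIn F p) (h₁ : D'.IsNormalIn E₁ p)
    (h₂ : D'.IsNormalIn E₂ p) {a : MulAut ↥(T₁ ⊓ T₂)} (ha : a ∈ D'.autGroup (T₁ ⊓ T₂)) :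
    a ∈ c.hGood (T₁ ⊓ T₂) := by
  haveI := finite_of_le c.inv₁.2.1.1
  haveI := finite_of_le c.inv₂.2.1.1
  refine c.mem_hGood_of_fn le_rfl ⟨c.closed.1, fun R ⟨φ, hφ, hφr⟩ => ?_⟩
    (mem_goodAut_top hF' ha) (mem_goodAut_top h₁ ha) (mem_goodAut_top h₂ ha)
  rw [← hφr, range_eq_of_card_le hφ c.closed.1 (fun x => c.closed.2 _ le_rfl φ hφ x) le_rfl]

/-- A system normal in the three lies in the meet at fully normalized centric subgroups. -/
theorem autGroup_le_meet {D' : FusionSystem (T₁ ⊓ T₂)} (hF' : D'.IsNormalIn F p) (h₁ : D'.IsNormalIn E₁ p)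
    (h₂ : D'.IsNormalIn E₂ p) {Q : Subgroup Ω} (hQU : Q ≤ T₁ ⊓ T₂) (hQn : F.IsFullyNormalized Q)
    (hQc : centralizerIn (T₁ ⊓ T₂) Q ≤ Q)
    (hbig : ∀ M : Subgroup Ω, Nat.card Q < Nat.card M → D'.Hom M ⊆ (c.meetSys 0).Hom M) :
    D'.autGroup Q ≤ (c.meetSys 0).autGroup Q := by
  classical
  intro a₀ ha₀
  haveI := finite_of_le c.closed.1
  haveI := finite_of_le c.inv₁.2.1.1
  haveI := finite_of_le c.inv₂.2.1.1
  haveI := finite_of_le hQU
  haveI : Finite (MulAut Q) := Finite.of_injective (fun f => (f : Q → Q)) DFunLike.coe_injective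
  have hU := c.pS.to_le c.closed.1
  have hDs := hF'.1.1
  have hQc' : UCentric F (T₁ ⊓ T₂) Q :=
    c.uCentric_of_fn c.sat (isInvariantIn_self F) c.closed.1 hQU hQn hQc
  have fn₁ := isFullyNormalized_of_invariant c.pS c.sat c.inv₁.1 c.inv₁.2.1 (hQU.trans inf_le_left) hQn
  have fn₂ := isFullyNormalized_of_invariant c.pS c.sat c.inv₂.1 c.inv₂.2.1 (hQU.trans inf_le_right) hQn
  obtain ⟨hfc, -, R, hR⟩ := isFullyAutomized_and_fc_of_fn hU hDs
    (isFullyNormalized_of_invariant c.pS c.sat hF'.1.2.2.1 hF'.1.2.2.2.1 hQU hQn)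
  let H : Subgroup (D'.autGroup Q) := (c.hGood Q).subgroupOf (D'.autGroup Q)
  haveI : H.Normal := ⟨fun x hx g => c.congr_mem_hGood
    (hF'.1.2.2.1 _ ((mem_autGroup hQU).1 g.2) : IsoIn F (g : MulAut Q)) hx⟩
  have hpH : ∀ x : D'.autGroup Q, (∃ k, orderOf x = p ^ k) → x ∈ H := fun x hx => by
    have hk : ∃ k, orderOf (x : MulAut Q) = p ^ k := by
      obtain ⟨k, hk⟩ := hx; exact ⟨k, by rw [← hk]; exact Subgroup.orderOf_coe x⟩
    exact c.mem_hGood_of_fn hQU hQn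
      (mem_goodAut_of_pElement c.pS c.sat hDs hF'.1.2.2 hQU hQn x.2 hk)
      (mem_goodAut_of_pElement (c.pS.to_le c.inv₁.2.1.1) c.sat₁ hDs h₁.1.2.2 hQU fn₁ x.2 hk)
      (mem_goodAut_of_pElement (c.pS.to_le c.inv₂.2.1.1) c.sat₂ hDs h₂.1.2.2 hQU fn₂ x.2 hk)
  have hgood : ∀ x : D'.autGroup Q, x ∈ H → (orderOf x).Coprime p →
      x ∈ ((c.meetSys 0).autGroup Q).subgroupOf (D'.autGroup Q) := fun x hx hc =>
    c.gen_meetSys 0 Q hQc' Nat.card_pos (Subgroup.subset_closure ⟨hx, show (orderOf (x : MulAut Q)).Coprime p by rwa [Subgroup.orderOf_coe]⟩)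
  have hRH : (R : Subgroup (D'.autGroup Q)) ≤ H := by
    intro x hx
    obtain ⟨k, hk⟩ := R.isPGroup' ⟨x, hx⟩
    obtain ⟨j, -, hj⟩ := (Nat.dvd_prime_pow Fact.out).1 (orderOf_dvd_of_pow_eq_one hk)
    exact hpH x ⟨j, by rw [← hj]; exact Subgroup.orderOf_coe (⟨x, hx⟩ : ↥(R : Subgroup (D'.autGroup Q)))⟩
  let RH : Sylow p H := R.subtype hRH
  have hmap : (RH : Subgroup H).map H.subtype = (R : Subgroup (D'.autGroup Q)) := by
    rw [Sylow.coe_subtype]
    exact Subgroup.map_subgroupOf_eq_of_le hRH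
  have hle : (⊤ : Subgroup (D'.autGroup Q)) ≤ ((c.meetSys 0).autGroup Q).subgroupOf (D'.autGroup Q) := by
    rw [← closure_pPrime_union_normalizer H RH, Subgroup.closure_le]
    rintro x (⟨hxH, hxc⟩ | hxN)
    · exact hgood x hxH hxc
    rw [hmap] at hxN
    by_cases hQT' : Q = T₁ ⊓ T₂
    · subst hQT'
      obtain ⟨i, j, hij, hi, l, hl⟩ := exists_pow_parts (c := c) x
      rw [SetLike.mem_coe, hij]
      refine mul_mem (hgood _ (c.top_mem_hGood hF' h₁ h₂ (x ^ i).2) hi) ?_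
      have hy : IsPGroup p (Subgroup.zpowers (x ^ j)) :=
        IsPGroup.iff_card.2 ⟨l, by rw [Nat.card_zpowers]; exact hl⟩
      have h1 : x ^ j ∈ Subgroup.zpowers (x ^ j) ⊓ (R : Subgroup (D'.autGroup (T₁ ⊓ T₂))) :=
        hy.inf_normalizer_sylow R ▸ (⟨Subgroup.mem_zpowers _, pow_mem hxN j⟩ :
          x ^ j ∈ Subgroup.zpowers (x ^ j) ⊓
            Subgroup.normalizer ((R : Subgroup (D'.autGroup (T₁ ⊓ T₂))) : Set (D'.autGroup (T₁ ⊓ T₂))))
      have h2 : x ^ j ∈ (R : Subgroup (D'.autGroup (T₁ ⊓ T₂))) := h1.2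
      rw [hR, Subgroup.mem_subgroupOf] at h2
      exact autInducedBy_le_autGroup le_rfl h2
    · obtain ⟨g, ⟨hgT, hgN⟩, hgQ⟩ := SetLike.exists_of_lt
        (lt_normalizerIn hU (lt_of_le_of_ne hQU hQT'))
      refine extensibleAut_le_of_bigger hQU hbig
        (mem_extensibleAut_of_induced (isReceptive_of_fc hU hDs hfc) x.2 hgT hgN hgQ ?_)
      have hg : (⟨conjAut Q hgN, autInducedBy_le_autGroup hQU (conjAut_mem_autInducedBy hgN hgT)⟩ :
          D'.autGroup Q) ∈ (R : Subgroup (D'.autGroup Q)) := by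
        rw [hR]
        exact conjAut_mem_autInducedBy hgN hgT
      have h := (Subgroup.mem_normalizer_iff.1 hxN _).1 hg
      rw [hR] at h
      exact h
  exact hle (Subgroup.mem_top (⟨a₀, ha₀⟩ : D'.autGroup Q))

/-- The universal property of the meet. -/
theorem le_meet {D' : FusionSystem (T₁ ⊓ T₂)} (hF' : D'.IsNormalIn F p) (h₁ : D'.IsNormalIn E₁ p)
    (h₂ : D'.IsNormalIn E₂ p) : D' ≤ c.meetSys 0 := by
  haveI := finite_of_le c.closed.1
  refine le_of_autGroup_le' (c.pS.to_le c.closed.1) hF'.1.1 _ fun P hP hbig a ha => ?_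
  have hPU : P ≤ T₁ ⊓ T₂ := by
    rcases hP with rfl | hP
    · exact le_rfl
    · exact hP.1.1
  have hPc : D'.IsCentric P := by
    rcases hP with rfl | hP
    · exact ⟨le_rfl, fun R hR => by rw [eq_top_of_isConj hR]; exact centralizerIn_le _⟩
    · exact hP.1
  obtain ⟨Q, hPQ, hQn⟩ := exists_isFullyNormalized F (hPU.trans c.closed.1)
  obtain ⟨φ, hφ, hr⟩ := id hPQ
  have hQU : Q ≤ T₁ ⊓ T₂ := by
    rw [← hr]
    rintro _ ⟨x, rfl⟩
    exact stronglyClosed_apply_mem c.closed hφ (hPU x.2)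
  have hQc : D'.IsCentric Q := hr ▸ centric_image hF'.1.2.2 hPc hφ
  let e := homIso hφ hr
  have he : IsoIn F e := isoIn_homIso hφ hr
  have hbigQ : ∀ M : Subgroup Ω, Nat.card Q < Nat.card M → D'.Hom M ⊆ (c.meetSys 0).Hom M := fun M hM =>
    hbig M (card_eq_of_isConj hPQ ▸ hM)
  have h3 := congr_mem_autGroup_invariant (c.isInvariantIn_meet c.sat (isInvariantIn_self F) c.closed.1
    (c.meetSys_sub 0)) hQU hPU he.symm (c.autGroup_le_meet hF' h₁ h₂ hQU hQn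
      (hQc.2 Q (isConj_refl D' hQU)) hbigQ (congr_mem_autGroup_invariant hF'.1.2.2 hPU hQU he ha))
  convert h3 using 1
  exact MulEquiv.ext fun x => by simp [MulAut.congr]

end MeetCtx

end Cfsg.Lib.FusionSys
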