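import Cfsg.Agent.Lib.FusionSys.InvariantFactor
import Cfsg.Agent.Lib.FusionSys.MeetNormal

/-!
A component centralizes every normal subsystem not containing it.
-/

set_option autoImplicit false
set_option linter.style.haveILetI false
set_option maxHeartbeats 1000000

namespace Cfsg.Lib.FusionSys

open Cfsg Cfsg.FusionSystem

variable {Ω : Type*} [Group Ω] {S U V : Subgroup Ω} {F : FusionSystem S} {X : FusionSystem U} {p : ℕ}

theorem isFullyCentralized_of_sc [Finite S] {Z : Subgroup Ω} (hZ : F.StronglyClosed Z) :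
    F.IsFullyCentralized Z :=
  ⟨hZ.1, fun R ⟨φ, hφ, hr⟩ => by
    rw [← hr, range_eq_of_card_le hφ hZ.1 (fun x => hZ.2 Z le_rfl φ hφ x) le_rfl]⟩

/-- The automorphisms in a normal subsystem of a self-centralizing fully normalized subgroup are good. -/
theorem autGroup_le_goodAut [Finite S] [Fact p.Prime] (hS : IsPGroup p S) (hX : X.IsNormalIn F p)
    {P : Subgroup Ω} (hPU : P ≤ U) (hP : F.IsFullyNormalized P) (hC : centralizerIn U P ≤ P) :
    X.autGroup P ≤ goodAut hX.1.2.2.2.1 P hP.1 := by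
  have hUS := hX.1.2.2.2.1.1
  haveI := finite_of_le hUS
  have c : MeetCtx F X X p := ⟨hS, hX, hX⟩
  have hcopy : ∀ W : Subgroup Ω, W = U → ∃ X' : FusionSystem W, X'.IsNormalIn F p ∧
      X'.IsNormalIn X p ∧ X.IsSubsystemOf X' := by
    rintro W rfl
    exact ⟨X, hX, isNormalIn_refl hX.1.1, fun _ => subset_rfl⟩
  obtain ⟨X', h1, h2, h3⟩ := hcopy (U ⊓ U) (inf_idem U)
  intro a ha
  have hPUU : P ≤ U ⊓ U := le_inf hPU hPU
  have hUc : UCentric F (U ⊓ U) P :=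
    c.uCentric_of_fn c.sat (isInvariantIn_self F) c.closed.1 hPUU hP
      ((le_inf ((centralizerIn_le P).trans inf_le_left) inf_le_right).trans hC)
  have ha' : a ∈ (c.meetSys 0).autGroup P := (mem_autGroup hPUU).2
    (c.le_meet h1 h2 h2 P (h3 P ((mem_autGroup hPU).1 ha)))
  have h := (c.kGen_le_hGood hPUU (c.autGroup_meet_le hUc ha')).1.1
  rw [goodIn_eq hS c.sat (isInvariantIn_self F) c.closed (isFullyAutomized_and_fc_of_fn hS c.sat hP).1] at h
  obtain ⟨ψ, hψ, hψe⟩ := h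
  exact ⟨ψ, ⟨hψ.1, fun x hx => (Subgroup.mem_inf.1 (hψ.2 x hx)).1⟩, hψe⟩

/-- The maps of `C_X(Z)` with an extension to `V` moving it only modulo `Z`. -/
def moveSystem [Finite S] {Y : Subgroup Ω} (G : FusionSystem Y) (hYU : Y ≤ U) (hYS : Y ≤ S)
    (hY : ∀ g ∈ Y, ∀ z ∈ U ⊓ V, g * z = z * g) (hU : F.StronglyClosed U) (hV : F.StronglyClosed V) :
    FusionSystem Y where
  Hom P := {φ | φ ∈ G.Hom P ∧ ∃ ψ ∈ F.Hom (P ⊔ V),
    (∀ x : P, ψ (Subgroup.inclusion le_sup_left x) = φ x) ∧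
      (∀ t : V, (t : Ω)⁻¹ * ψ (Subgroup.inclusion le_sup_right t) ∈ U ⊓ V) ∧
      ∀ t : V, (t : Ω) ∈ U → ψ (Subgroup.inclusion le_sup_right t) = t}
  le_of_mem h := G.le_of_mem h.1
  injective_of_mem h := G.injective_of_mem h.1
  conj_mem := by
    intro P g hP hg
    refine ⟨G.conj_mem hP hg, _, F.conj_mem (sup_le (hP.trans hYS) hV.1) (hYS hg), fun _ => rfl,
      fun t => ?_, fun t ht => conj_eq_of_commute (hY g hg t ⟨ht, t.2⟩)⟩
    show (t : Ω)⁻¹ * (g * t * g⁻¹) ∈ U ⊓ V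
    refine ⟨?_, V.mul_mem (V.inv_mem t.2) (sc_conj_mem hV (hYS hg) t.2)⟩
    have h := sc_conj_mem hU (S.inv_mem (hV.1 t.2)) (hYU hg)
    rw [inv_inv] at h
    have h2 := U.mul_mem h (U.inv_mem (hYU hg))
    rwa [show (t : Ω)⁻¹ * g * t * g⁻¹ = (t : Ω)⁻¹ * (g * t * g⁻¹) by group] at h2
  comp_mem := by
    rintro P P' φ φ' ⟨hφ, ψ, hψ, he, hd, hf⟩ ⟨hφ', ψ', hψ', he', hd', hf'⟩ h
    have hv : ∀ z, ψ z ∈ P' ⊔ V := hom_mem_of_sup (fun z hz => by
        rw [show z = Subgroup.inclusion le_sup_left ⟨(z : Ω), hz⟩ from rfl, he]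
        exact Subgroup.mem_sup_left (h _)) fun z hz =>
      Subgroup.mem_sup_right (stronglyClosed_apply_mem hV hψ hz)
    refine ⟨G.comp_mem hφ hφ' h, _, F.comp_mem hψ hψ' hv, fun x => ?_, fun t => ?_, fun t ht => ?_⟩
    · show ψ' ⟨ψ (Subgroup.inclusion le_sup_left x), hv _⟩ = φ' ⟨φ x, h x⟩
      exact (congrArg ψ' (Subtype.ext (he x) : _ = Subgroup.inclusion le_sup_left ⟨φ x, h x⟩)).trans
        (he' _)
    · have h1 := (U ⊓ V).mul_mem (hd t)
        (hd' ⟨_, stronglyClosed_apply_mem hV hψ (x := Subgroup.inclusion le_sup_right t) t.2⟩)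
      rwa [← mul_assoc, mul_assoc (t : Ω)⁻¹, mul_inv_cancel, mul_one] at h1
    · exact (congrArg ψ' (Subtype.ext (hf t ht) : _ = Subgroup.inclusion le_sup_right t)).trans (hf' t ht)
  inv_mem := by
    rintro P φ ⟨hφ, ψ, hψ, he, hd, hf⟩
    obtain ⟨ρ, hρ, hρe⟩ := G.inv_mem hφ
    obtain ⟨ψi, hψi, hψie⟩ := F.inv_mem hψ
    have hle : φ.range ⊔ V ≤ ψ.range := by
      refine sup_le ?_ fun q hq => ?_
      · rintro _ ⟨x, rfl⟩
        exact ⟨_, he x⟩
      · obtain ⟨s, -, hs⟩ := hom_image_eq hV hψ le_sup_right hq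
        exact ⟨s, hs⟩
    refine ⟨ρ, ⟨hρ, _, restrict_mem hψi hle, ?_, fun q => ?_, fun t ht => ?_⟩, hρe⟩
    · rintro ⟨_, x, rfl⟩
      refine ((congrArg ψi (Subtype.ext (he x).symm : _ =
        (⟨ψ (Subgroup.inclusion le_sup_left x), ⟨_, rfl⟩⟩ : ψ.range))).trans (hψie _)).trans ?_
      exact (hρe x).symm
    · obtain ⟨s, hs, hsq⟩ := hom_image_eq hV hψ le_sup_right q.2
      show (q : Ω)⁻¹ * ψi ⟨q, _⟩ ∈ U ⊓ V
      rw [show ψi ⟨q, hle (Subgroup.mem_sup_right q.2)⟩ = (s : Ω) from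
        (congrArg ψi (Subtype.ext hsq.symm : _ = (⟨ψ s, ⟨_, rfl⟩⟩ : ψ.range))).trans (hψie s)]
      have h := (U ⊓ V).inv_mem (hd ⟨(s : Ω), hs⟩)
      rw [mul_inv_rev, inv_inv] at h
      rw [← hsq]
      exact h
    · exact (congrArg ψi (Subtype.ext (hf t ht).symm : _ =
        (⟨ψ (Subgroup.inclusion le_sup_right t), ⟨_, rfl⟩⟩ : ψ.range))).trans (hψie _)

/-- Every map of `C_X(U ∩ V)` extends to `V`, fixing `U ∩ V` and moving `V` only modulo it. -/
theorem le_moveSystem [Finite S] [Fact p.Prime] (hS : IsPGroup p S) (hX : X.IsNormalIn F p)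
    (hV : F.StronglyClosed V) {G : FusionSystem (centralizerIn U (U ⊓ V))}
    (hG : X.IsCentralizerSystem (U ⊓ V) G)
    (hY : ∀ g ∈ centralizerIn U (U ⊓ V), ∀ z ∈ U ⊓ V, g * z = z * g) :
    G ≤ moveSystem G (centralizerIn_le _) ((centralizerIn_le _).trans hX.1.2.2.2.1.1) hY
      hX.1.2.2.2.1 hV := by
  have hF := hX.1.2.1
  have hXi := hX.1.2.2
  have hU : F.StronglyClosed U := hXi.2.1
  have hUS := hU.1
  have hYU : (centralizerIn U (U ⊓ V)) ≤ U := centralizerIn_le (U ⊓ V)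
  have hYS : (centralizerIn U (U ⊓ V)) ≤ S := hYU.trans hUS
  haveI := finite_of_le hUS
  haveI := finite_of_le hYS
  have hZs : F.StronglyClosed (U ⊓ V) := ⟨inf_le_left.trans hUS, fun R hR φ hφ x =>
    ⟨hU.2 R (hR.trans inf_le_left) φ hφ x, hV.2 R (hR.trans inf_le_right) φ hφ x⟩⟩
  have hZX : X.StronglyClosed (U ⊓ V) := stronglyClosed_of_subsystem hXi.1 hZs inf_le_left
  have hGs : G.IsSaturated p :=
    isSaturated_centralizerSystem (hS.to_le hUS) hX.1.1 (isFullyCentralized_of_sc hZX) hG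
  have hZ₀Y : centralizerIn (U ⊓ V) (U ⊓ V) ≤ (centralizerIn U (U ⊓ V)) := fun z hz =>
    mem_centralizerIn.2 ⟨(centralizerIn_le (U ⊓ V) hz).1, (mem_centralizerIn.1 hz).2⟩
  refine le_of_autGroup_le (hS.to_le hYS) hGs _ fun P hP => ?_
  have hPY : P ≤ (centralizerIn U (U ⊓ V)) := hP.elim (fun e => e.le) fun e => e.1.1
  have hPU : P ≤ U := hPY.trans hYU
  haveI := finite_of_le (hPY.trans hYS)
  haveI : Finite (MulAut P) := Finite.of_injective (fun f => (f : P → P)) DFunLike.coe_injective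
  have hPc : G.IsCentric P := hP.elim
    (fun e => ⟨e.le, fun R hR => by subst e; rw [eq_top_of_isConj hR]; exact centralizerIn_le _⟩) fun e => e.1
  have hPn : G.IsFullyNormalized P := hP.elim (fun e => e ▸ isFullyNormalized_top G) fun e => e.2.1
  obtain ⟨-, R, hR⟩ := (isFullyAutomized_and_fc_of_fn (hS.to_le hYS) hGs hPn).2
  set Z₀ := centralizerIn (U ⊓ V) (U ⊓ V) with hZ₀def
  have hZ₀P : Z₀ ≤ P := fun z hz => hPc.2 P (isConj_refl G hPY) (mem_centralizerIn.2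
    ⟨hZ₀Y hz, fun y hy => ((hY y (hPY hy)) z (centralizerIn_le (U ⊓ V) hz)).symm⟩)
  have hPcore : (pCore p (G.autGroup P)).map (G.autGroup P).subtype ≤ autInducedBy P P := by
    rcases hP with e | e
    · subst e
      rintro _ ⟨d, hd, rfl⟩
      have h := Cfsg.Lib.Core.pCore_le_sylow R hd
      rwa [hR] at h
    · rw [(isRadical_of_isEssential (hS.to_le hYS) e).2]
      exact inn_le_autInducedBy le_rfl
  refine le_of_sylow_of_coprime R ?_ fun a ha hcop => ?_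
  · rintro _ ⟨d, hd, rfl⟩
    rw [hR] at hd
    obtain ⟨g, hg, hge⟩ := mem_autInducedBy.1 hd
    exact (mem_autGroup hPY).2 (hom_congr ((moveSystem _ _ _ _ _ _).conj_mem hPY hg) hge)
  -- automorphisms of order prime to `p`
  have hga := (mem_autGroup hPY).1 ha
  rw [IsoIn, hG] at hga
  obtain ⟨-, -, -, ψ₁, hψ₁, hψ₁e, hψ₁f⟩ := hga
  set Q := P ⊔ (U ⊓ V) with hQdef
  have hQU : Q ≤ U := sup_le hPU inf_le_left
  have hQS : Q ≤ S := hQU.trans hUS
  haveI := finite_of_le hQS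
  haveI : Finite (MulAut Q) := Finite.of_injective (fun f => (f : Q → Q)) DFunLike.coe_injective
  obtain ⟨g₀, hg₀, hg₀e⟩ := exists_aut_of_hom hψ₁ (hom_mem_of_sup (fun z hz => by
      rw [show z = Subgroup.inclusion le_sup_left ⟨(z : Ω), hz⟩ from rfl, hψ₁e]
      exact Subgroup.mem_sup_left (a _).2) fun z hz => by
      rw [show z = Subgroup.inclusion le_sup_right ⟨(z : Ω), hz⟩ from rfl, hψ₁f]
      exact Subgroup.mem_sup_right hz)
  obtain ⟨j, m, hja, hm, hjm⟩ := exists_pPrime_pow (e := a) g₀ (isOfFinOrder_of_finite g₀) hcop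
  set γ := g₀ ^ j with hγdef
  have hγX : γ ∈ X.autGroup Q := pow_mem hg₀ j
  have hγP : ∀ x : P, γ (Subgroup.inclusion le_sup_left x) = Subgroup.inclusion le_sup_left (a x) := by
    intro x
    refine Subtype.ext ?_
    rw [hγdef, ← aut_pow_agree le_sup_left (θ := a) (fun y => ((hg₀e _).trans (hψ₁e y)).symm) j x, hja]
    rfl
  have hγZ : ∀ x : Q, (x : Ω) ∈ (U ⊓ V) → γ x = x := by
    intro x hx
    have h0 : g₀ x = x := Subtype.ext ((hg₀e x).trans (hψ₁f ⟨(x : Ω), hx⟩))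
    have key : ∀ n : ℕ, (g₀ ^ n) x = x := by
      intro n
      induction n with
      | zero => rfl
      | succ n ih => rw [pow_succ, MulAut.mul_apply, h0, ih]
    exact key j
  have hγi : ∀ x : P, γ⁻¹ (Subgroup.inclusion le_sup_left x) = Subgroup.inclusion le_sup_left (a⁻¹ x) := by
    intro x
    apply γ.injective
    rw [MulAut.apply_inv_self, hγP, MulAut.apply_inv_self]
  have hγZi : ∀ x : Q, (x : Ω) ∈ (U ⊓ V) → γ⁻¹ x = x := fun x hx => by
    conv_lhs => rw [← hγZ x hx]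
    rw [MulAut.inv_apply_self]
  have hZn : ∀ t ∈ S, ∀ z ∈ (U ⊓ V), t * z * t⁻¹ ∈ (U ⊓ V) := fun t ht z hz => sc_conj_mem hZs ht hz
  -- `V` moves `P` modulo the centre of `(U ⊓ V)`
  have hmove : ∀ t ∈ V, ∀ y ∈ P, y⁻¹ * (t * y * t⁻¹) ∈ Z₀ := by
    intro t ht y hy
    have htS := hV.1 ht
    refine mem_centralizerIn.2 ⟨⟨U.mul_mem (U.inv_mem (hPU hy)) (sc_conj_mem hU htS (hPU hy)), ?_⟩,
      fun z hz => ?_⟩
    · have h := V.mul_mem (sc_conj_mem hV (hUS (U.inv_mem (hPU hy))) ht) (V.inv_mem ht)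
      rwa [inv_inv, show y⁻¹ * t * y * t⁻¹ = y⁻¹ * (t * y * t⁻¹) by group] at h
    · have h1 : (t⁻¹ * z * t) ∈ (U ⊓ V) := by
        have := hZn t⁻¹ (S.inv_mem htS) z hz
        rwa [inv_inv] at this
      have h2 : Commute y (t⁻¹ * z * t) := hY y (hPY hy) _ h1
      have h3 : Commute (t * y * t⁻¹) z := by
        show t * y * t⁻¹ * z = z * (t * y * t⁻¹)
        calc t * y * t⁻¹ * z = t * (y * (t⁻¹ * z * t)) * t⁻¹ := by group
          _ = t * (t⁻¹ * z * t * y) * t⁻¹ := by rw [h2.eq]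
          _ = z * (t * y * t⁻¹) := by group
      exact ((Commute.inv_left (show Commute y z from hY y (hPY hy) z hz)).mul_left h3).eq
  have hnP : ∀ t ∈ V, t ∈ Subgroup.normalizer (P : Set Ω) := fun t ht => by
    have key : ∀ t ∈ V, ∀ y ∈ P, t * y * t⁻¹ ∈ P := fun t ht y hy => by
      have h := P.mul_mem hy (hZ₀P (hmove t ht y hy))
      rwa [mul_inv_cancel_left] at h
    refine Subgroup.mem_normalizer_iff.2 fun y => ⟨key t ht y, fun h => ?_⟩
    have := key t⁻¹ (V.inv_mem ht) _ h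
    rwa [inv_inv, show t⁻¹ * (t * y * t⁻¹) * t = y by group] at this
  have hnQ : ∀ t ∈ V, t ∈ Subgroup.normalizer (Q : Set Ω) := fun t ht =>
    normalizer_inf_le ⟨hnP t ht, stronglyClosed_le_normalizer hZs (hV.1 ht)⟩
  -- the elements acting trivially on `Z₀` and modulo it are inner
  have hfix₀ : ∀ g ∈ G.autGroup P, ∀ x : P, (x : Ω) ∈ Z₀ → g x = x := by
    intro g hg x hx
    have h := (mem_autGroup hPY).1 hg
    rw [IsoIn, hG] at h
    obtain ⟨-, -, -, ψ, -, hψe, hψf⟩ := h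
    refine Subtype.ext ((hψe x).symm.trans ?_)
    exact hψf ⟨(x : Ω), centralizerIn_le (U ⊓ V) hx⟩
  let Δ : Subgroup (G.autGroup P) :=
    { carrier := {d | ∀ x : P, (x : Ω)⁻¹ * (((d : MulAut P) x : P) : Ω) ∈ Z₀}
      one_mem' := fun x => by simp
      mul_mem' := fun {b c} hb hc x => by
        have h := Z₀.mul_mem (hc x) (hb ((c : MulAut P) x))
        rwa [mul_assoc, mul_inv_cancel_left] at h
      inv_mem' := fun {d} hd x => by
        have h := Z₀.inv_mem (hd ((d : MulAut P)⁻¹ x))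
        rwa [MulAut.apply_inv_self, mul_inv_rev, inv_inv] at h }
  haveI : Δ.Normal := ⟨fun d hd g x => by
    have h1 := hd ((g : MulAut P)⁻¹ x)
    have h2 := congrArg Subtype.val (hfix₀ _ g.2
      (((g : MulAut P)⁻¹ x)⁻¹ * (d : MulAut P) ((g : MulAut P)⁻¹ x)) h1)
    rw [map_mul, map_inv, MulAut.apply_inv_self] at h2
    simp only [Subgroup.coe_mul, Subgroup.coe_inv] at h1 h2
    show (x : Ω)⁻¹ * (((g : MulAut P) ((d : MulAut P) ((g : MulAut P)⁻¹ x)) : P) : Ω) ∈ Z₀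
    rw [h2]
    exact h1⟩
  have hΔp : IsPGroup p Δ := fun d => by
    obtain ⟨k, hk⟩ := orderOf_pow_of_stab (hS.to_le (hPY.trans hYS)) hZ₀P
      (γ := ((d : G.autGroup P) : MulAut P)) (fun x hx => hfix₀ _ (d : G.autGroup P).2 x hx) d.2
    exact ⟨k, Subtype.ext (Subtype.ext (by
      rw [SubmonoidClass.coe_pow, SubmonoidClass.coe_pow, ← hk, pow_orderOf_eq_one]; rfl))⟩
  have hinner : ∀ d : G.autGroup P, d ∈ Δ → ∃ u ∈ P, ∀ x : P,
      (((d : MulAut P) x : P) : Ω) = u * x * u⁻¹ := fun d hd =>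
    mem_autInducedBy.1 (hPcore ⟨d, Cfsg.Lib.Core.le_pCore' inferInstance hΔp hd, rfl⟩)
  have hu : ∀ t (ht : t ∈ V), ∃ u ∈ P, ∀ x : Q,
      ((γ (conjAut Q (hnQ t ht) x) : Q) : Ω) = u * t * (γ x : Ω) * (u * t)⁻¹ := by
    intro t ht
    set k := conjAut Q (hnQ t ht) with hkdef
    set kP := conjAut P (hnP t ht) with hkPdef
    have hkF : k ∈ F.autGroup Q :=
      autInducedBy_le_autGroup hQS (conjAut_mem_autInducedBy _ (hV.1 ht))
    have hκX : γ * k * γ⁻¹ * k⁻¹ ∈ X.autGroup Q := by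
      rw [show γ * k * γ⁻¹ * k⁻¹ = γ * (k * γ⁻¹ * k⁻¹) by group]
      exact mul_mem hγX (autGroup_invariant_conj_mem hXi hQU (inv_mem hγX) hkF)
    have hkP : ∀ x : P, k (Subgroup.inclusion le_sup_left x) = Subgroup.inclusion le_sup_left (kP x) :=
      fun x => rfl
    have hkPi : ∀ x : P, k⁻¹ (Subgroup.inclusion le_sup_left x) =
        Subgroup.inclusion le_sup_left (kP⁻¹ x) := by
      intro x
      apply k.injective
      rw [MulAut.apply_inv_self, hkP, MulAut.apply_inv_self]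
    have hkZ : ∀ x : Q, (x : Ω) ∈ (U ⊓ V) → (k x : Ω) ∈ (U ⊓ V) ∧ ((k⁻¹ x : Q) : Ω) ∈ (U ⊓ V) := fun x hx =>
      ⟨stronglyClosed_aut_mem hZs hkF hQS hx, stronglyClosed_aut_mem hZs (inv_mem hkF) hQS hx⟩
    have hκZ : ∀ x : Q, (x : Ω) ∈ (U ⊓ V) → (γ * k * γ⁻¹ * k⁻¹) x = x := fun x hx => by
      simp only [MulAut.mul_apply]
      rw [hγZi _ (hkZ x hx).2, MulAut.apply_inv_self, hγZ x hx]
    have hκP : ∀ x : P, (γ * k * γ⁻¹ * k⁻¹) (Subgroup.inclusion le_sup_left x) =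
        Subgroup.inclusion le_sup_left ((a * kP * a⁻¹ * kP⁻¹) x) := fun x => by
      simp only [MulAut.mul_apply]
      rw [hkPi, hγi, hkP, hγP]
    have hκG : a * kP * a⁻¹ * kP⁻¹ ∈ G.autGroup P := by
      refine (mem_autGroup hPY).2 ?_
      rw [IsoIn, hG]
      refine ⟨hom_congr (restrict_mem ((mem_autGroup hQU).1 hκX) le_sup_left) fun x =>
        (congrArg (fun z : Q => (z : Ω)) (hκP x)).symm, hPY, fun x => hPY ((a * kP * a⁻¹ * kP⁻¹) x).2, _,
        (mem_autGroup hQU).1 hκX, fun x => congrArg (fun z : Q => (z : Ω)) (hκP x), fun z => ?_⟩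
      exact congrArg (fun z : Q => (z : Ω)) (hκZ (Subgroup.inclusion le_sup_right z) z.2)
    have hk₀ : ∀ y : P, (y : Ω)⁻¹ * (kP y : Ω) ∈ Z₀ := fun y => hmove t ht y y.2
    have hκΔ : (⟨_, hκG⟩ : G.autGroup P) ∈ Δ := by
      intro x
      show (x : Ω)⁻¹ * ((a (kP (a⁻¹ (kP⁻¹ x))) : P) : Ω) ∈ Z₀
      set w := kP⁻¹ x with hwdef
      have h1 : (x : Ω)⁻¹ * (w : Ω) ∈ Z₀ := by
        have h := Z₀.inv_mem (hk₀ w)
        rwa [hwdef, MulAut.apply_inv_self, ← hwdef, mul_inv_rev, inv_inv] at h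
      have h2 := hk₀ (a⁻¹ w)
      have h3 := hfix₀ a ha ((a⁻¹ w)⁻¹ * kP (a⁻¹ w)) h2
      rw [map_mul, map_inv, MulAut.apply_inv_self] at h3
      have h4 : (w : Ω)⁻¹ * (a (kP (a⁻¹ w)) : Ω) ∈ Z₀ := by
        have h3' := congrArg (fun z : P => (z : Ω)) h3
        simp only [Subgroup.coe_mul, Subgroup.coe_inv] at h3'
        rw [h3']
        exact h2
      have h5 := Z₀.mul_mem h1 h4
      rwa [mul_assoc, mul_inv_cancel_left] at h5
    obtain ⟨u, hu, hue⟩ := hinner _ hκΔ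
    refine ⟨u, hu, ?_⟩
    have hun : u ∈ Q := Subgroup.mem_sup_left hu
    have huQ : ∀ x : Q, (γ * k * γ⁻¹ * k⁻¹) x = ⟨u, hun⟩ * x * (⟨u, hun⟩ : Q)⁻¹ := by
      intro x
      refine hom_eq_on_sup (f := (γ * k * γ⁻¹ * k⁻¹).toMonoidHom)
        (g := (MulAut.conj (⟨u, hun⟩ : Q)).toMonoidHom) (fun x hx => ?_) (fun x hx => ?_) x
      · refine Subtype.ext ?_
        rw [show x = Subgroup.inclusion le_sup_left ⟨(x : Ω), hx⟩ from rfl]
        exact (congrArg (fun z : Q => (z : Ω)) (hκP ⟨(x : Ω), hx⟩)).trans (hue _)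
      · show (γ * k * γ⁻¹ * k⁻¹) x = ⟨u, hun⟩ * x * (⟨u, hun⟩ : Q)⁻¹
        rw [hκZ x hx]
        exact Subtype.ext (conj_eq_of_commute (hY u (hPY hu) x hx)).symm
    intro x
    have h := congrArg (fun z : Q => (z : Ω)) (huQ (k (γ x)))
    simp only [MulAut.mul_apply, MulAut.inv_apply_self] at h
    rw [h]
    show u * (t * (γ x : Ω) * t⁻¹) * u⁻¹ = _
    group
  -- `P (U ⊓ V)` is self-centralizing in `U` with all its conjugates
  have hcent : ∀ φ : Q →* Ω, φ ∈ F.Hom Q → centralizerIn U φ.range ≤ φ.range := by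
    intro φ hφ c hc
    obtain ⟨α, hα, φ₀, hφ₀, he⟩ := hXi.2.2.2 Q hQU φ hφ
    obtain ⟨hcU, hcc⟩ := mem_centralizerIn.1 hc
    set d := α⁻¹ ⟨c, hcU⟩ with hddef
    suffices h : (d : Ω) ∈ φ₀.range by
      obtain ⟨x, hx⟩ := h
      refine ⟨x, ?_⟩
      rw [he x (hom_mem hφ₀ x), show (⟨φ₀ x, hom_mem hφ₀ x⟩ : U) = d from Subtype.ext hx, hddef,
        MulAut.apply_inv_self]
    have hdc : ∀ x : Q, (d : Ω) * φ₀ x = φ₀ x * d := fun x => by
      have h1 : (⟨c, hcU⟩ : U) * α ⟨φ₀ x, hom_mem hφ₀ x⟩ = α ⟨φ₀ x, hom_mem hφ₀ x⟩ * ⟨c, hcU⟩ :=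
        Subtype.ext (hcc _ ⟨x, he x (hom_mem hφ₀ x)⟩)
      have h2 := congrArg (fun z : U => ((α⁻¹ z : U) : Ω)) h1
      simp only [map_mul, Subgroup.coe_mul, MulAut.inv_apply_self] at h2
      exact h2
    have hr := restrict_mem hφ₀ (le_sup_right : (U ⊓ V) ≤ Q)
    obtain ⟨b, hb, hbe⟩ := exists_aut_of_hom hr fun z =>
      stronglyClosed_apply_mem hZX hφ₀ (x := Subgroup.inclusion le_sup_right z) z.2
    obtain ⟨β, hβ, hβe, hβc⟩ := exists_autGroup_ext (hS.to_le hUS) hX.1.1 (isFullyCentralized_of_sc hZX) hb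
    have hZYU : (U ⊓ V) ⊔ centralizerIn U (U ⊓ V) ≤ U := sup_le inf_le_left (centralizerIn_le (U ⊓ V))
    have hv : ∀ x : Q, φ₀ x ∈ (U ⊓ V) ⊔ centralizerIn U (U ⊓ V) := hom_mem_of_sup (fun x hx =>
        Subgroup.mem_sup_right (mem_centralizerIn.2 ⟨hom_mem hφ₀ x, fun z hz => by
          obtain ⟨s, hs, rfl⟩ := hom_image_eq hZX hφ₀ le_sup_right hz
          rw [← map_mul, ← map_mul]
          exact congrArg φ₀ (Subtype.ext (hY x (hPY hx) s hs))⟩)) fun x hx =>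
      Subgroup.mem_sup_left (stronglyClosed_apply_mem hZX hφ₀ hx)
    have hβi := (mem_autGroup hZYU).1 (inv_mem hβ.1)
    have hφ₁ := X.comp_mem hφ₀ hβi hv
    set φ₁ := (((U ⊓ V) ⊔ centralizerIn U (U ⊓ V)).subtype.comp (β⁻¹).toMonoidHom).comp (φ₀.codRestrict _ hv)
    have hφ₁Z : ∀ x : Q, (x : Ω) ∈ (U ⊓ V) → φ₁ x = x := fun x hx => by
      show ((β⁻¹ ⟨φ₀ x, hv x⟩ : _) : Ω) = x
      rw [show (⟨φ₀ x, hv x⟩ : ↥((U ⊓ V) ⊔ centralizerIn U (U ⊓ V))) = β (Subgroup.inclusion le_sup_left ⟨(x : Ω), hx⟩)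
        from Subtype.ext ((hbe ⟨(x : Ω), hx⟩).symm.trans (hβe ⟨(x : Ω), hx⟩).symm), MulAut.inv_apply_self]
      rfl
    have hφ₁P : ∀ x : P, φ₁ (Subgroup.inclusion le_sup_left x) ∈ (centralizerIn U (U ⊓ V)) := fun x =>
      mem_centralizerIn.2 ⟨hom_mem hφ₁ _, fun z hz => by
        have h := congrArg φ₁ (Subtype.ext (hY x (hPY x.2) z hz) :
          Subgroup.inclusion le_sup_left x * (⟨z, Subgroup.mem_sup_right hz⟩ : Q) =
            ⟨z, Subgroup.mem_sup_right hz⟩ * Subgroup.inclusion le_sup_left x)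
        rw [map_mul, map_mul, hφ₁Z ⟨z, Subgroup.mem_sup_right hz⟩ hz] at h
        exact h⟩
    have hg : φ₁.comp (Subgroup.inclusion le_sup_left) ∈ G.Hom P := by
      rw [hG]
      exact ⟨restrict_mem hφ₁ _, hPY, hφ₁P, φ₁, hφ₁, fun _ => rfl, fun z => hφ₁Z _ z.2⟩
    have hdY : (d : Ω) ∈ (U ⊓ V) ⊔ centralizerIn U (U ⊓ V) := Subgroup.mem_sup_right (mem_centralizerIn.2 ⟨d.2, fun z hz => by
      obtain ⟨s, -, rfl⟩ := hom_image_eq hZX hφ₀ le_sup_right hz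
      exact hdc s⟩)
    set d' := β⁻¹ ⟨(d : Ω), hdY⟩ with hd'def
    have hd'c : ∀ x : Q, (d' : Ω) * φ₁ x = φ₁ x * d' := fun x => by
      have h1 : (⟨(d : Ω), hdY⟩ : ↥((U ⊓ V) ⊔ centralizerIn U (U ⊓ V))) * ⟨φ₀ x, hv x⟩ = ⟨φ₀ x, hv x⟩ * ⟨(d : Ω), hdY⟩ :=
        Subtype.ext (hdc x)
      have h2 := congrArg (fun z : ↥((U ⊓ V) ⊔ centralizerIn U (U ⊓ V)) => ((β⁻¹ z : _) : Ω)) h1
      simp only [map_mul, Subgroup.coe_mul] at h2
      exact h2
    have hd'P : (d' : Ω) ∈ (φ₁.comp (Subgroup.inclusion (le_sup_left : P ≤ Q))).range :=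
      hPc.2 _ ⟨_, hg, rfl⟩ (mem_centralizerIn.2 ⟨mem_centralizerIn.2 ⟨hZYU d'.2, fun z hz => by
          have h := hd'c ⟨z, Subgroup.mem_sup_right hz⟩
          rwa [hφ₁Z _ hz] at h⟩, by
        rintro _ ⟨x, rfl⟩
        exact hd'c _⟩)
    obtain ⟨x, hx⟩ := hd'P
    refine ⟨Subgroup.inclusion le_sup_left x, ?_⟩
    have h3 := β⁻¹.injective (Subtype.ext hx :
      β⁻¹ ⟨φ₀ (Subgroup.inclusion le_sup_left x), hv _⟩ = β⁻¹ ⟨(d : Ω), hdY⟩)
    exact congrArg Subtype.val h3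
  -- move `P (U ⊓ V)`
  obtain ⟨μ, hμ, hμv, hP₁n, hW⟩ := exists_fn_pos hS hF hQS
  have hQN : Q ≤ normalizerIn S Q := le_normalizerIn hQS
  set P₁ := img μ hQN with hP₁def
  have hμQ := restrict_mem hμ hQN
  have hP₁U : P₁ ≤ U := by
    rintro _ ⟨x, rfl⟩
    exact stronglyClosed_apply_mem hU hμ (x := Subgroup.inclusion hQN x) (hQU x.2)
  have hP₁c : centralizerIn U P₁ ≤ P₁ := hcent _ hμQ
  set e := homIso hμQ (rfl : _ = P₁) with hedef
  have hee : ∀ x : Q, ((e x : P₁) : Ω) = μ (Subgroup.inclusion hQN x) := fun x => rfl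
  set γ₁ := MulAut.congr e γ with hγ₁def
  have hγ₁X : γ₁ ∈ X.autGroup P₁ :=
    congr_mem_autGroup_invariant hXi hQU hP₁U (isoIn_homIso hμQ rfl) hγX
  have hγ₁cop : (orderOf γ₁).Coprime p := by
    rw [hγ₁def, MulEquiv.orderOf_eq]
    exact Nat.Coprime.coprime_dvd_left (orderOf_dvd_of_pow_eq_one hjm) hm
  obtain ⟨ψ₀, hψ₀, n, hn, hψn, -, hψ₀e⟩ :=
    exists_goodExt_pPrime (autGroup_le_goodAut hS hX hP₁U hP₁n hP₁c hγ₁X) hγ₁cop
  have hVN : V ≤ normalizerIn S Q := fun t ht => ⟨hV.1 ht, hnQ t ht⟩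
  have hμV : (μ.comp (Subgroup.inclusion hVN)).range = V :=
    range_eq_of_card_le (restrict_mem hμ hVN) hV.1
      (fun x => hV.2 V le_rfl _ (restrict_mem hμ hVN) x) le_rfl
  have hVP₁ : V ≤ Subgroup.normalizer (P₁ : Set Ω) := fun g hg => by
    obtain ⟨t, rfl⟩ := hμV.ge hg
    exact (hμv _).2
  set W := P₁ ⊔ centralizerIn S P₁
  obtain ⟨β, hβ, -, -, -, hβW, hβU⟩ := exists_ext_mod hS hF hU hP₁U hP₁c hW hψ₀ hn hψn hV.1 hVP₁ (by
    intro g hg
    obtain ⟨t, rfl⟩ := hμV.ge hg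
    obtain ⟨u, hu', hue⟩ := hu t t.2
    have huN : u ∈ normalizerIn S Q := hQN (Subgroup.mem_sup_left hu')
    set u' : normalizerIn S Q := ⟨u, huN⟩
    set t' : normalizerIn S Q := Subgroup.inclusion hVN t
    refine ⟨μ (u' * t'), ?_, ?_, fun x hx hy => ?_⟩
    · rw [map_mul]
      exact mul_mem (Subgroup.mem_sup_left (Subgroup.mem_sup_left
        ⟨⟨u, Subgroup.mem_sup_left hu'⟩, rfl⟩)) (Subgroup.mem_sup_right hg)
    · show (μ t')⁻¹ * μ (u' * t') ∈ U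
      have hmem : ((t'⁻¹ * (u' * t') : normalizerIn S Q) : Ω) ∈ U := by
        have h := sc_conj_mem hU (S.inv_mem (hV.1 t.2)) (hPU hu')
        rw [inv_inv] at h
        show (t : Ω)⁻¹ * (u * t) ∈ U
        rwa [← mul_assoc]
      have h := stronglyClosed_apply_mem hU hμ (x := t'⁻¹ * (u' * t')) hmem
      rwa [map_mul, eq_inv_of_mul_eq_one_left (show μ t'⁻¹ * μ t' = 1 by
        rw [← map_mul, inv_mul_cancel, map_one])] at h
    · obtain ⟨x₀, hx₀⟩ := e.surjective ⟨(x : Ω), hx⟩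
      have hxe : (x : Ω) = μ (Subgroup.inclusion hQN x₀) := by
        rw [← hee, hx₀]
      have hye : (⟨_, hy⟩ : W) = Subgroup.inclusion le_sup_left (e (conjAut Q (hnQ t t.2) x₀)) := by
        refine Subtype.ext ?_
        show μ t' * (x : Ω) * (μ t')⁻¹ = μ (Subgroup.inclusion hQN (conjAut Q (hnQ t t.2) x₀))
        rw [hxe, ← eq_inv_of_mul_eq_one_left (show μ t'⁻¹ * μ t' = 1 by
          rw [← map_mul, inv_mul_cancel, map_one]), ← map_mul, ← map_mul]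
        exact congrArg μ (Subtype.ext rfl)
      have hxe' : x = Subgroup.inclusion le_sup_left (e x₀) := Subtype.ext (hx₀ ▸ rfl)
      rw [hye, hxe', hψ₀e, hψ₀e]
      simp only [hγ₁def, MulAut.congr, MulEquiv.coe_mk, Equiv.coe_fn_mk, MulEquiv.trans_apply,
        MulEquiv.symm_apply_apply, hee]
      rw [← eq_inv_of_mul_eq_one_left (show μ (u' * t')⁻¹ * μ (u' * t') = 1 by
        rw [← map_mul, inv_mul_cancel, map_one]), ← map_mul, ← map_mul]
      exact congrArg μ (Subtype.ext (hue x₀)))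
  -- pull back
  have hWS : W ⊔ V ≤ S := sup_le hW.1 hV.1
  have hβF := (mem_autGroup hWS).1 hβ
  have hle₁ : P₁ ⊔ V ≤ W ⊔ V := sup_le_sup_right le_sup_left V
  have hle₀ : Q ⊔ V ≤ normalizerIn S Q := sup_le hQN hVN
  have hμ' := restrict_mem hμ hle₀
  have hv₁ : ∀ x, (μ.comp (Subgroup.inclusion hle₀)) x ∈ W ⊔ V := hom_mem_of_sup
    (fun x hx => hle₁ (Subgroup.mem_sup_left ⟨⟨(x : Ω), hx⟩, rfl⟩))
    fun x hx => Subgroup.mem_sup_right (hμV.le ⟨⟨(x : Ω), hx⟩, rfl⟩)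
  have h₂ := F.comp_mem hμ' hβF hv₁
  obtain ⟨χ, hχ, -, hχe⟩ := exists_inv hμ' rfl
  have hβP₁ : ∀ x : Q, ((β ⟨μ (Subgroup.inclusion hle₀ (Subgroup.inclusion le_sup_left x)), hv₁ _⟩ : _) : Ω) =
      μ (Subgroup.inclusion hle₀ (Subgroup.inclusion le_sup_left (γ x))) := by
    intro x
    refine (hβW (Subgroup.inclusion le_sup_left (e x))).trans ?_
    rw [hψ₀e]
    simp only [hγ₁def, MulAut.congr, MulEquiv.coe_mk, Equiv.coe_fn_mk, MulEquiv.trans_apply,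
      MulEquiv.symm_apply_apply, hee]
    rfl
  have hv₂ : ∀ x, ((W ⊔ V).subtype.comp β.toMonoidHom).comp
      ((μ.comp (Subgroup.inclusion hle₀)).codRestrict _ hv₁) x ∈ (μ.comp (Subgroup.inclusion hle₀)).range := by
    refine hom_mem_of_sup (fun x hx => ?_) fun x hx => ?_
    · exact ⟨Subgroup.inclusion le_sup_left (γ ⟨(x : Ω), hx⟩), (hβP₁ ⟨(x : Ω), hx⟩).symm⟩
    · obtain ⟨t, ht⟩ := hμV.ge (stronglyClosed_apply_mem hV hβF (x := ⟨_, hv₁ x⟩)
        (hμV.le ⟨⟨(x : Ω), hx⟩, rfl⟩))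
      exact ⟨Subgroup.inclusion le_sup_right t, ht⟩
  have hψ := F.comp_mem h₂ hχ hv₂
  set ψ := χ.comp ((((W ⊔ V).subtype.comp β.toMonoidHom).comp
    ((μ.comp (Subgroup.inclusion hle₀)).codRestrict _ hv₁)).codRestrict _ hv₂)
  have hψQ : ∀ x : Q, ψ (Subgroup.inclusion le_sup_left x) = (γ x : Ω) := fun x =>
    (congrArg χ (Subtype.ext (hβP₁ x) : _ = (⟨μ (Subgroup.inclusion hle₀
      (Subgroup.inclusion le_sup_left (γ x))), ⟨_, rfl⟩⟩ :
        (μ.comp (Subgroup.inclusion hle₀)).range))).trans (hχe _ _)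
  refine (mem_autGroup hPY).2 ⟨(mem_autGroup hPY).1 ha, _,
    restrict_mem hψ (sup_le_sup_right le_sup_left V : P ⊔ V ≤ Q ⊔ V), fun x => ?_, fun t => ?_,
    fun t ht => ?_⟩
  · exact (hψQ (Subgroup.inclusion le_sup_left x)).trans (congrArg Subtype.val (hγP x))
  · set t₂ : ↥(Q ⊔ V) := Subgroup.inclusion le_sup_right t
    obtain ⟨s, hs, hse⟩ := hom_image_eq hV (restrict_mem hμ hle₀) le_sup_right
      (stronglyClosed_apply_mem hV hβF (x := ⟨_, hv₁ t₂⟩) (hμV.le ⟨t, rfl⟩))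
    have hψt : ψ t₂ = (s : Ω) :=
      (congrArg χ (Subtype.ext hse.symm : _ = (⟨_, ⟨s, rfl⟩⟩ :
        (μ.comp (Subgroup.inclusion hle₀)).range))).trans (hχe s _)
    show (t : Ω)⁻¹ * ψ t₂ ∈ U ⊓ V
    rw [hψt]
    refine ⟨?_, V.mul_mem (V.inv_mem t.2) hs⟩
    have hU' : (μ.comp (Subgroup.inclusion hle₀)) (t₂⁻¹ * s) ∈ U := by
      rw [map_mul, eq_inv_of_mul_eq_one_left (show (μ.comp (Subgroup.inclusion hle₀)) t₂⁻¹ *
        (μ.comp (Subgroup.inclusion hle₀)) t₂ = 1 by rw [← map_mul, inv_mul_cancel, map_one]), hse]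
      exact hβU ⟨_, hv₁ t₂⟩
    obtain ⟨r, hr⟩ : (μ.comp (Subgroup.inclusion hle₀)) (t₂⁻¹ * s) ∈
        (μ.comp (Subgroup.inclusion hle₀)).range := ⟨_, rfl⟩
    have := stronglyClosed_apply_mem hU hχ (x := ⟨_, ⟨t₂⁻¹ * s, rfl⟩⟩) hU'
    rw [hχe (t₂⁻¹ * s) ⟨_, rfl⟩] at this
    exact this
  · exact (hψQ ⟨(t : Ω), Subgroup.mem_sup_right (show (t : Ω) ∈ (U ⊓ V) from ⟨ht, t.2⟩)⟩).trans
      (congrArg Subtype.val (hγZ ⟨(t : Ω), Subgroup.mem_sup_right (show (t : Ω) ∈ (U ⊓ V) from ⟨ht, t.2⟩)⟩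
        ⟨ht, t.2⟩))

/-- A component centralizes every normal subsystem not containing it. -/
theorem component_centralizes_normal {T S : Subgroup Ω} {C : FusionSystem T} {F : FusionSystem S} {p : ℕ}
    (h : C.IsSubnormalIn F p) :
    Finite S → Fact p.Prime → IsPGroup p S → C.Quasisimple p →
      ∀ (V : Subgroup Ω) (N : FusionSystem V), N.IsNormalIn F p → ¬ C.IsSubsystemOf N →
        ∀ P : Subgroup Ω, C.Hom P ⊆ F.centralizerHom V P := by
  induction h with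
  | refl F p =>
    intro hfin hp hS hq V N hN hne P φ hφ
    haveI := hfin
    haveI := hp
    obtain ⟨ψ, hψ, he, hfix⟩ := (isCentral_center F).2 P φ hφ
    have hVZ := le_center_of_not_subsystem hS hq hN hne
    have hSC : ∀ s ∈ _, s ∈ centralizerIn _ V := fun s hs => mem_centralizerIn.2 ⟨hs, fun q hq' =>
      Subgroup.mem_centralizer_iff.1 (F.center_le_centralizer (hVZ hq')) s hs⟩
    exact ⟨hφ, fun x hx => hSC x (hom_le hφ hx), fun x => hSC _ (hom_mem hφ x), _,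
      restrict_mem hψ (sup_le_sup_left hVZ P), fun x => he x, fun q => hfix ⟨(q : Ω), hVZ q.2⟩⟩
  | @step U S C X F p hsub hX ih =>
    intro hfin hp hS hq V N hN hne
    haveI := hfin
    haveI := hp
    have hXi := hX.1.2.2
    have hU : F.StronglyClosed U := hXi.2.1
    have hUS : U ≤ S := hU.1
    have hV : F.StronglyClosed V := hN.1.2.2.2.1
    haveI := finite_of_le hUS
    have c : MeetCtx F X N p := ⟨hS, hX, hN⟩
    have hC := ih (finite_of_le hUS) hp (hS.to_le hUS) hq _ _ c.isNormalIn₁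
      fun hsub' => hne fun P φ hφ => c.meetSys_sub₂ 0 P (hsub' P hφ)
    set Z := U ⊓ V with hZdef
    obtain ⟨G, hG⟩ := exists_centralizerSystem X (inf_le_left : Z ≤ U)
    have hY : ∀ g ∈ centralizerIn U Z, ∀ z ∈ Z, g * z = z * g :=
      fun g hg => (mem_centralizerIn.1 hg).2
    have hmv := le_moveSystem hS hX hV hG hY
    have hTS : T ≤ S := ((hom_le (isSubsystemOf_of_isSubnormalIn hsub T (subtype_mem C le_rfl))).trans hUS)
    haveI := finite_of_le hTS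
    have hTY : T ≤ centralizerIn U Z := (hC T (subtype_mem C le_rfl)).2.1
    -- automorphisms of order prime to `p`
    have hext : ∀ P : Subgroup Ω, P ≤ T → ∀ a ∈ C.autGroup P, ∃ ψ ∈ F.Hom (P ⊔ V),
        (∀ x : P, ψ (Subgroup.inclusion le_sup_left x) = (a x : Ω)) ∧
        (∀ t : V, (t : Ω)⁻¹ * ψ (Subgroup.inclusion le_sup_right t) ∈ Z) ∧
        ∀ t : V, (t : Ω) ∈ U → ψ (Subgroup.inclusion le_sup_right t) = t := by
      intro P hPT a ha
      have h := hC P ((mem_autGroup hPT).1 ha)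
      rw [← hG] at h
      exact (hmv P h).2
    have hTV : T ≤ centralizerIn S V := by
      refine hq.2.1.symm.le.trans (hyperfocal_le_of_coprime fun P hP a ha hcop x => ?_)
      obtain ⟨ψ, hψ, hψe, hψd, hψf⟩ := hext P hP a ha
      refine mem_centralizerIn.2 ⟨hTS (mul_mem (inv_mem (hP x.2)) (hP (a x).2)), fun t ht => ?_⟩
      have hxU : (x : Ω) ∈ U := centralizerIn_le Z (hTY (hP x.2))
      have hxS := hUS hxU
      have hc : (x : Ω) * t * (x : Ω)⁻¹ * t⁻¹ ∈ Z := by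
        refine ⟨?_, V.mul_mem (sc_conj_mem hV hxS ht) (V.inv_mem ht)⟩
        have h := U.mul_mem hxU (sc_conj_mem hU (hV.1 ht) (U.inv_mem hxU))
        rwa [show (x : Ω) * (t * (x : Ω)⁻¹ * t⁻¹) = (x : Ω) * t * (x : Ω)⁻¹ * t⁻¹ by group] at h
      let x' : ↥(P ⊔ V) := Subgroup.inclusion le_sup_left x
      let t' : ↥(P ⊔ V) := ⟨t, Subgroup.mem_sup_right ht⟩
      have h1 : ψ (x' * t' * x'⁻¹ * t'⁻¹) = (x : Ω) * t * (x : Ω)⁻¹ * t⁻¹ := by
        rw [show x' * t' * x'⁻¹ * t'⁻¹ = Subgroup.inclusion le_sup_right ⟨_, hc.2⟩ from Subtype.ext rfl,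
          hψf _ hc.1]
      rw [map_mul, map_mul, map_mul, show ψ x'⁻¹ = (ψ x')⁻¹ from eq_inv_of_mul_eq_one_left (by
          rw [← map_mul, inv_mul_cancel, map_one]), show ψ t'⁻¹ = (ψ t')⁻¹ from eq_inv_of_mul_eq_one_left (by
          rw [← map_mul, inv_mul_cancel, map_one]), hψe] at h1
      have hz := hψd ⟨t, ht⟩
      set z := t⁻¹ * ψ t' with hzdef
      have hψt : ψ t' = t * z := by rw [hzdef, mul_inv_cancel_left]
      have haz : Commute ((a x : P) : Ω) z := hY _ (hTY (hP (a x).2)) z hz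
      rw [hψt, show (a x : Ω) * (t * z) * (a x : Ω)⁻¹ * (t * z)⁻¹ =
        (a x : Ω) * t * (z * (a x : Ω)⁻¹ * z⁻¹) * t⁻¹ by group,
        haz.symm.inv_right.eq, mul_inv_cancel_right] at h1
      have h2 : (a x : Ω) * t * (a x : Ω)⁻¹ = (x : Ω) * t * (x : Ω)⁻¹ := mul_right_cancel h1
      calc (x : Ω)⁻¹ * (a x : Ω) * t
          = (x : Ω)⁻¹ * ((a x : Ω) * t * (a x : Ω)⁻¹) * (a x : Ω) := by group
        _ = t * ((x : Ω)⁻¹ * (a x : Ω)) := by rw [h2]; group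
    obtain ⟨CV, hCV⟩ := exists_centralizerSystem F hV.1
    let D : FusionSystem T :=
      { Hom := fun P => C.Hom P ∩ CV.Hom P
        le_of_mem := fun h => C.le_of_mem h.1
        injective_of_mem := fun h => C.injective_of_mem h.1
        conj_mem := fun hP hg => ⟨C.conj_mem hP hg, CV.conj_mem (hP.trans hTV) (hTV hg)⟩
        comp_mem := fun h1 h2 h => ⟨C.comp_mem h1.1 h2.1 h, CV.comp_mem h1.2 h2.2 h⟩
        inv_mem := by
          rintro P φ ⟨h1, h2⟩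
          obtain ⟨ρ, hρ, hρe⟩ := C.inv_mem h1
          obtain ⟨ρ', hρ', hρ'e⟩ := CV.inv_mem h2
          refine ⟨ρ, ⟨hρ, hom_congr hρ' ?_⟩, hρe⟩
          rintro ⟨_, x, rfl⟩
          exact (hρe x).trans (hρ'e x).symm }
    have hCs : C.IsSaturated p := hq.1
    have hCD : C ≤ D := by
      refine le_of_autGroup_le (hS.to_le hTS) hCs D fun P hP => ?_
      have hPT : P ≤ T := hP.elim (fun e => e.le) fun e => e.1.1
      have hPS : P ≤ S := hPT.trans hTS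
      haveI := finite_of_le hPT
      haveI : Finite (MulAut P) := Finite.of_injective (fun f => (f : P → P)) DFunLike.coe_injective
      have hfn : C.IsFullyNormalized P := hP.elim (fun e => e ▸ isFullyNormalized_top C) fun e => e.2.1
      obtain ⟨-, R, hR⟩ := (isFullyAutomized_and_fc_of_fn (hS.to_le hTS) hCs hfn).2
      refine le_of_sylow_of_coprime R ?_ fun a ha hc => ?_
      · rw [hR, Subgroup.map_subgroupOf_eq_of_le (autInducedBy_le_autGroup hPT)]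
        exact autInducedBy_le_autGroup hPT
      obtain ⟨ψ, hψ, hψe, hψd, hψf⟩ := hext P hPT a ha
      obtain ⟨γ, hγ, hγe⟩ := exists_aut_of_hom hψ (hom_mem_of_sup (fun z hz => by
          rw [show z = Subgroup.inclusion le_sup_left ⟨(z : Ω), hz⟩ from rfl, hψe]
          exact Subgroup.mem_sup_left (a _).2) fun z hz =>
        Subgroup.mem_sup_right (stronglyClosed_apply_mem hV hψ hz))
      have hWS : P ⊔ V ≤ S := sup_le hPS hV.1
      haveI := finite_of_le hWS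
      have hγP : ∀ y : P, (a y : Ω) = (γ (Subgroup.inclusion le_sup_left y) : Ω) :=
        fun y => ((hγe _).trans (hψe y)).symm
      have hγ0 : ∀ q : ↥(P ⊔ V), (q : Ω) ∈ Z → γ q = q := fun q hq =>
        Subtype.ext ((hγe q).trans (hψf ⟨(q : Ω), hq.2⟩ hq.1))
      have hγn : ∀ (n : ℕ) (q : ↥(P ⊔ V)), (q : Ω) ∈ V → (γ ^ n) q = q * (q⁻¹ * γ q) ^ n := by
        intro n q hq
        have hd : ((q⁻¹ * γ q : ↥(P ⊔ V)) : Ω) ∈ Z := by
          rw [Subgroup.coe_mul, Subgroup.coe_inv, hγe]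
          exact hψd ⟨(q : Ω), hq⟩
        induction n with
        | zero => simp
        | succ n ihn =>
          rw [pow_succ', MulAut.mul_apply, ihn, map_mul, map_pow, hγ0 _ hd, pow_succ',
            ← mul_assoc q, mul_inv_cancel_left]
      obtain ⟨e, he⟩ := IsPGroup.iff_card.1 (hS.to_le hWS)
      obtain ⟨j, hj1, hj2⟩ := Nat.chineseRemainder (hc.pow_right e) 1 0
      have haj : a ^ j = a := by
        conv_rhs => rw [← pow_one a]
        exact pow_eq_pow_iff_modEq.2 hj1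
      refine (mem_autGroup hPT).2 ⟨(mem_autGroup hPT).1 ha, ?_⟩
      rw [hCV]
      refine ⟨isSubsystemOf_of_isSubnormalIn (hsub.step hX) P ((mem_autGroup hPT).1 ha),
        hPT.trans hTV, fun x => hTV (hPT (a x).2), _, (mem_autGroup hWS).1 (pow_mem hγ j), fun x => ?_,
        fun q => ?_⟩
      · show (((γ ^ j) (Subgroup.inclusion le_sup_left x) : _) : Ω) = (a x : Ω)
        rw [← aut_pow_agree le_sup_left (θ := a) hγP j x, haj]
      · show (((γ ^ j) (Subgroup.inclusion le_sup_right q) : _) : Ω) = q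
        obtain ⟨k, hk⟩ := Nat.modEq_zero_iff_dvd.1 hj2
        rw [hγn j _ q.2, hk, ← he, pow_mul, pow_card_eq_one', one_pow, mul_one]
        rfl
    intro P φ hφ
    have h := (hCD P hφ).2
    rwa [hCV] at h

end Cfsg.Lib.FusionSys
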