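import Cfsg.Agent.Lib.FusionSys.CentralizerSubsystem
import Cfsg.Agent.Lib.FusionSys.CenterFactor
import Cfsg.Agent.Lib.FusionSys.FactorSat
import Cfsg.Agent.Lib.FusionSys.HyperfocalFactor
import Cfsg.Agent.Lib.FusionSys.Inner

/-!
Components centralize the largest normal subgroup.
-/

set_option autoImplicit false
set_option linter.style.haveILetI false

namespace Cfsg.Lib.FusionSys

open Cfsg Cfsg.FusionSystem

variable {Ω : Type*} [Group Ω] {S T : Subgroup Ω} {F : FusionSystem S} {E : FusionSystem T} {p : ℕ}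

theorem exists_extension_aut [Finite S] {Q : Subgroup Ω} (hQ : F.IsNormal Q) {P : Subgroup Ω}
    {φ : P →* Ω} (hφ : φ ∈ F.Hom P) :
    ∃ ψ ∈ F.Hom (P ⊔ Q), (∀ x : P, ψ (Subgroup.inclusion le_sup_left x) = φ x) ∧
      (∀ q : Q, ψ (Subgroup.inclusion le_sup_right q) ∈ Q) := by
  obtain ⟨ψ, hψ, hψe, -⟩ := hQ.2 P φ hφ
  exact ⟨ψ, hψ, hψe, fun q => stronglyClosed_apply_mem (isNormal_stronglyClosed hQ) hψ
    (x := Subgroup.inclusion le_sup_right q) q.2⟩

theorem isNormalIn_inner_of_isNormal [Finite S] [Fact p.Prime] (hS : IsPGroup p S) (hF : F.IsSaturated p)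
    {Q : Subgroup Ω} (hQ : F.IsNormal Q) : (innerFusionSystem Q).IsNormalIn F p :=
  isNormalIn_inner hS hF (isNormal_stronglyClosed hQ) fun P hP φ hφ => by
    obtain ⟨α, hα, he⟩ := (isNormal_iff_aut_ext hS hF hQ.1).1 hQ P hP φ hφ
    exact ⟨α, hα, fun x => (he x).symm⟩

theorem isNormal_of_isCentral {Q : Subgroup Ω} (hQ : F.IsCentral Q) : F.IsNormal Q := by
  refine ⟨hQ.1, fun P φ hφ => ?_⟩
  obtain ⟨ψ, hψ, he, hfix⟩ := hQ.2 P φ hφ
  refine ⟨ψ, hψ, he, ?_⟩
  ext y
  rw [mem_map_subgroupOf]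
  constructor
  · rintro ⟨x, hx, hxQ, rfl⟩
    exact (hfix ⟨x, hxQ⟩).symm ▸ hxQ
  · intro hy
    exact ⟨y, Subgroup.mem_sup_right hy, hy, hfix ⟨y, hy⟩⟩

/-- The largest normal subgroup of a quasisimple system is central. -/
theorem core_le_center_of_quasisimple [Finite S] [Fact p.Prime] (hS : IsPGroup p S)
    (hq : F.Quasisimple p) : F.core ≤ F.center := by
  obtain ⟨hF, hhyp, hsimp⟩ := hq
  have hZn : F.IsNormal F.center := isNormal_of_isCentral (isCentral_center F)
  have hQn : F.IsNormal F.core := isNormal_core F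
  have hZQ : F.center ≤ F.core := le_sSup hZn
  have hZs := isNormal_stronglyClosed hZn
  set N := (F.center).subgroupOf S with hN
  set θ : ↥S →* ↥S ⧸ N := QuotientGroup.mk' N with hθ
  have hker : ∀ s : ↥S, θ s = 1 ↔ (s : Ω) ∈ F.center := fun s => QuotientGroup.eq_one_iff s
  have hrange : θ.range = ⊤ := MonoidHom.range_eq_top.2 (QuotientGroup.mk'_surjective _)
  obtain ⟨E, hE⟩ := exists_factorSystem (F := F) (T := F.center)
    (S' := (⊤ : Subgroup (↥S ⧸ N))) hZs (θ := θ) hker hrange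
  obtain ⟨hEs, hne, hnorm⟩ := hsimp E hE
  have hS' : IsPGroup p (⊤ : Subgroup (↥S ⧸ N)) := (hS.to_quotient _).to_subgroup ⊤
  set R := imageAlong θ F.core with hR
  have hRn : E.IsNormal R := by
    refine (isNormal_iff_aut_ext hS' hEs le_top).2 fun P' hP' φ' hφ' => ?_
    obtain ⟨hP'T, φ, hφ, hind⟩ := (hE.2.2.2 P' φ').1 hφ'
    have hPQ : preimageAlong θ P' ≤ F.core := by
      intro x hx
      obtain ⟨hxS, hx'⟩ := mem_preimageAlong.1 hx
      obtain ⟨y, hy, hyQ, hye⟩ := mem_imageAlong.1 (hP' hx')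
      have hz : (y : Ω)⁻¹ * x ∈ F.center := (hker (⟨y, hy⟩⁻¹ * ⟨x, hxS⟩)).1 (by
        rw [map_mul, map_inv, inv_mul_eq_one]
        exact hye)
      have := mul_mem hyQ (hZQ hz)
      rwa [mul_inv_cancel_left] at this
    obtain ⟨α, hα, hαe⟩ := (isNormal_iff_aut_ext hS hF hQn.1).1 hQn _ hPQ φ hφ
    obtain ⟨hm, -, -⟩ := isSurjectiveMorphism_of_isFactorSystem hS hF hZs hE
    obtain ⟨α', hα', hind'⟩ := hm.2 F.core _ ((mem_autGroup hQn.1).1 hα)
    have hv : ∀ y, α' y ∈ R := by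
      intro y
      obtain ⟨x, hx, hxQ, hye⟩ := mem_imageAlong.1 y.2
      rw [inducedAlong_apply hind' (x := ⟨x, hxQ⟩) (hxS := hx) hye.symm (hx' := hQn.1 (α ⟨x, hxQ⟩).2)]
      exact mem_imageAlong.2 ⟨_, hQn.1 (α ⟨x, hxQ⟩).2, (α ⟨x, hxQ⟩).2, rfl⟩
    obtain ⟨β, hβ, hβe⟩ := exists_aut_of_hom hα' hv
    refine ⟨β, hβ, fun y => ?_⟩
    obtain ⟨x, hx, hxQ, hye⟩ := mem_imageAlong.1 (hP' y.2)
    have hxP : x ∈ preimageAlong θ P' := mem_preimageAlong.2 ⟨hx, hye ▸ y.2⟩
    rw [hβe, inducedAlong_apply hind' (x := ⟨x, hxQ⟩) (hxS := hx) hye.symm (hx' := hQn.1 (α ⟨x, hxQ⟩).2),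
      inducedAlong_apply hind (x := ⟨x, hxP⟩) (hxS := hx) hye.symm (hx' := hom_mem hφ _)]
    exact congrArg θ (Subtype.ext (hαe ⟨x, hxP⟩))
  rcases hnorm _ _ (isNormalIn_inner_of_isNormal hS' hEs hRn) with h | ⟨-, h⟩
  · intro x hx
    exact (hker ⟨x, hQn.1 hx⟩).1 (Subgroup.mem_bot.1 (h.le (mem_imageAlong.2 ⟨x, hQn.1 hx, hx, rfl⟩)))
  · exfalso
    apply hne
    have h1 := hyperfocal_factor hS hF hZs hE
    rw [hhyp, Subgroup.subgroupOf_self, ← MonoidHom.range_eq_map, hrange] at h1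
    rw [eq_bot_iff, ← h1]
    have hRT : R ≤ (⊤ : Subgroup (↥S ⧸ N)) := le_top
    refine hyperfocal_le_of_coprime fun P hP α hα hc x => ?_
    have h2 := (mem_autGroup hP).1 hα
    rw [IsoIn, ← h] at h2
    obtain ⟨hPR, g, hg, hge⟩ := h2
    have hmem : α ∈ autInducedBy R P := mem_autInducedBy.2 ⟨g, hg, hge⟩
    have hp := isPGroup_autInducedBy (P := P) (hS'.to_le hRT) ⟨α, hmem⟩
    obtain ⟨k, hk⟩ := hp
    have h1' : orderOf α ∣ p ^ k := orderOf_dvd_of_pow_eq_one (congrArg Subtype.val hk :)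
    rw [orderOf_eq_one_iff.1 (Nat.eq_one_of_dvd_coprimes
      (hc.pow_right k) dvd_rfl h1')]
    simp

theorem isNormal_inf_of_invariant [Finite S] [Fact p.Prime] (hS : IsPGroup p S)
    {X : FusionSystem T} (hXs : X.IsSaturated p) (hXi : X.IsInvariantIn F) {Q : Subgroup Ω}
    (hQ : F.IsNormal Q) : X.IsNormal (Q ⊓ T) := by
  have hTS := hXi.2.1.1
  haveI := finite_of_le hTS
  obtain ⟨Z, m, h0, hm, -, hchar, hcomm⟩ := exists_series_of_nilpotent hS hQ.1
  refine isNormal_of_series (hS.to_le hTS) hXs (fun i => Z i ⊓ T) m ?_ ?_ (fun i _ => ?_)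
    fun i _ g hg y hy => ⟨hcomm i g hg.1 y hy.1, ?_⟩
  · show Z 0 ⊓ T = ⊥
    rw [h0, bot_inf_eq]
  · show Z m ⊓ T = Q ⊓ T
    rw [hm]
  · have hZs := isNormal_stronglyClosed (isNormal_of_characteristic hQ (hchar i).1 (hchar i).2)
    exact ⟨inf_le_right, fun R hR φ hφ x =>
      ⟨hZs.2 R (hR.trans inf_le_left) φ (hXi.1 R hφ) x, hom_mem hφ x⟩⟩
  · rw [commutatorElement_def]
    exact T.mul_mem (T.mul_mem (T.mul_mem hg.2 hy.2) (T.inv_mem hg.2)) (T.inv_mem hy.2)

/-- The maps of `X` whose extension to `Q` moves `Q` only modulo `T`. -/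
def dispSystem [Finite S] (hXi : E.IsInvariantIn F) {Q : Subgroup Ω} (hQ : F.IsNormal Q) :
    FusionSystem T where
  Hom P := {φ | φ ∈ E.Hom P ∧ ∃ ψ ∈ F.Hom (P ⊔ Q),
    (∀ x : P, ψ (Subgroup.inclusion le_sup_left x) = φ x) ∧
      ∀ q : Q, (q : Ω)⁻¹ * ψ (Subgroup.inclusion le_sup_right q) ∈ T}
  le_of_mem h := E.le_of_mem h.1
  injective_of_mem h := E.injective_of_mem h.1
  conj_mem := by
    intro P g hP hg
    refine ⟨E.conj_mem hP hg, _, F.conj_mem (sup_le (hP.trans hXi.2.1.1) hQ.1) (hXi.2.1.1 hg),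
      fun _ => rfl, fun q => ?_⟩
    show (q : Ω)⁻¹ * (g * q * g⁻¹) ∈ T
    have h := sc_conj_mem hXi.2.1 (S.inv_mem (hQ.1 q.2)) hg
    rw [inv_inv] at h
    have h2 := T.mul_mem h (T.inv_mem hg)
    rwa [show (q : Ω)⁻¹ * g * q * g⁻¹ = (q : Ω)⁻¹ * (g * q * g⁻¹) by group] at h2
  comp_mem := by
    rintro P P' φ φ' ⟨hφ, ψ, hψ, he, hd⟩ ⟨hφ', ψ', hψ', he', hd'⟩ h
    have hQs := isNormal_stronglyClosed hQ
    have hv : ∀ z, ψ z ∈ P' ⊔ Q := hom_mem_of_sup (fun z hz => by
        rw [show z = Subgroup.inclusion le_sup_left ⟨(z : Ω), hz⟩ from rfl, he]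
        exact Subgroup.mem_sup_left (h _)) fun z hz =>
      Subgroup.mem_sup_right (stronglyClosed_apply_mem hQs hψ hz)
    refine ⟨E.comp_mem hφ hφ' h, _, F.comp_mem hψ hψ' hv, fun x => ?_, fun q => ?_⟩
    · show ψ' ⟨ψ (Subgroup.inclusion le_sup_left x), hv _⟩ = φ' ⟨φ x, h x⟩
      exact (congrArg ψ' (Subtype.ext (he x) : _ = Subgroup.inclusion le_sup_left ⟨φ x, h x⟩)).trans
        (he' _)
    · refine tcongr_trans hXi.2.1 (hd q) ?_
      exact hd' ⟨_, stronglyClosed_apply_mem hQs hψ (x := Subgroup.inclusion le_sup_right q) q.2⟩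
  inv_mem := by
    rintro P φ ⟨hφ, ψ, hψ, he, hd⟩
    obtain ⟨ρ, hρ, hρe⟩ := E.inv_mem hφ
    obtain ⟨ψi, hψi, hψie⟩ := F.inv_mem hψ
    have hle : φ.range ⊔ Q ≤ ψ.range := by
      refine sup_le ?_ fun q hq => ?_
      · rintro _ ⟨x, rfl⟩
        exact ⟨_, he x⟩
      · obtain ⟨s, -, hs⟩ := hom_image_eq (isNormal_stronglyClosed hQ) hψ le_sup_right hq
        exact ⟨s, hs⟩
    refine ⟨ρ, ⟨hρ, _, restrict_mem hψi hle, ?_, fun q => ?_⟩, hρe⟩
    · rintro ⟨_, x, rfl⟩
      refine ((congrArg ψi (Subtype.ext (he x).symm : _ =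
        (⟨ψ (Subgroup.inclusion le_sup_left x), ⟨_, rfl⟩⟩ : ψ.range))).trans (hψie _)).trans ?_
      exact (hρe x).symm
    · obtain ⟨s, hs, hsq⟩ := hom_image_eq (isNormal_stronglyClosed hQ) hψ le_sup_right q.2
      show (q : Ω)⁻¹ * ψi ⟨q, _⟩ ∈ T
      rw [show ψi ⟨q, hle (Subgroup.mem_sup_right q.2)⟩ = (s : Ω) from
        (congrArg ψi (Subtype.ext hsq.symm : _ = (⟨ψ s, ⟨_, rfl⟩⟩ : ψ.range))).trans (hψie s)]
      have h := T.inv_mem (hd ⟨(s : Ω), hs⟩)
      rw [mul_inv_rev, inv_inv] at h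
      rw [← hsq]
      exact h

theorem mem_dispSystem_autGroup [Finite S] {hXi : E.IsInvariantIn F} {Q : Subgroup Ω} {hQ : F.IsNormal Q}
    {P : Subgroup Ω} (hP : P ≤ T) {a : MulAut P} (ha : a ∈ E.autGroup P)
    {α : MulAut ↥(P ⊔ Q)} (hα : α ∈ F.autGroup (P ⊔ Q))
    (he : ∀ x : P, α (Subgroup.inclusion le_sup_left x) = Subgroup.inclusion le_sup_left (a x))
    (hd : ∀ q : ↥(P ⊔ Q), (q : Ω) ∈ Q → (q : Ω)⁻¹ * (α q : Ω) ∈ T) :
    a ∈ (dispSystem hXi hQ).autGroup P :=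
  (mem_autGroup hP).2 ⟨(mem_autGroup hP).1 ha, _,
    (mem_autGroup (sup_le (hP.trans hXi.2.1.1) hQ.1)).1 hα, fun x => congrArg Subtype.val (he x),
    fun q => hd (Subgroup.inclusion le_sup_right q) q.2⟩

theorem exists_aut_ext_normal [Finite S] {Q : Subgroup Ω} (hQ : F.IsNormal Q) {P : Subgroup Ω}
    (hP : P ≤ S) {a : MulAut P} (ha : a ∈ F.autGroup P) :
    ∃ α ∈ F.autGroup (P ⊔ Q),
      ∀ x : P, α (Subgroup.inclusion le_sup_left x) = Subgroup.inclusion le_sup_left (a x) := by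
  obtain ⟨ψ, hψ, hψe, hψQ⟩ := exists_extension_aut hQ ((mem_autGroup hP).1 ha)
  obtain ⟨α, hα, hαe⟩ := exists_aut_of_hom hψ (hom_mem_of_sup (fun z hz => by
      rw [show z = Subgroup.inclusion le_sup_left ⟨(z : Ω), hz⟩ from rfl, hψe]
      exact Subgroup.mem_sup_left (a _).2) fun z hz => Subgroup.mem_sup_right (hψQ ⟨(z : Ω), hz⟩))
  exact ⟨α, hα, fun x => Subtype.ext ((hαe _).trans (hψe x))⟩

/-- A `p'`-automorphism of `T` in a normal subsystem moves `Q` only modulo `T`. -/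
theorem disp_top [Finite S] [Fact p.Prime] (hS : IsPGroup p S) (hX : E.IsNormalIn F p) {Q : Subgroup Ω}
    (hQ : F.IsNormal Q) {a : MulAut T} (ha : a ∈ E.autGroup T) (hcop : (orderOf a).Coprime p) :
    a ∈ (dispSystem hX.1.2.2 hQ).autGroup T := by
  have hF := hX.1.2.1
  have hXi := hX.1.2.2
  have hEs := hX.1.1
  have hsc := hXi.2.1
  have hTS := hsc.1
  have hQs := isNormal_stronglyClosed hQ
  haveI := finite_of_le hTS
  haveI : Finite (MulAut T) := Finite.of_injective (fun f => (f : T → T)) DFunLike.coe_injective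
  set C := centralizerIn S T with hCdef
  set W := T ⊔ C with hWdef
  have hWS : W ≤ S := sup_le hTS (centralizerIn_le T)
  haveI := finite_of_le hWS
  haveI : Finite (MulAut W) := Finite.of_injective (fun f => (f : W → W)) DFunLike.coe_injective
  have haF : a ∈ F.autGroup T := (mem_autGroup hTS).2 (hXi.1 T ((mem_autGroup le_rfl).1 ha))
  obtain ⟨β, hβ, hβe, hβd⟩ := hX.2 a ha
  have hWn : F.IsFullyNormalized W := ⟨hWS, by
    rintro R ⟨φ, hφ, rfl⟩
    rw [range_eq_of_card_le hφ hWS (hom_mem_of_sup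
      (fun z hz => Subgroup.mem_sup_left (stronglyClosed_apply_mem hsc hφ hz))
      fun z hz => Subgroup.mem_sup_right (mem_centralizerIn.2 ⟨hom_mem hφ z, fun t ht => by
        obtain ⟨s, hs, rfl⟩ := hom_image_eq hsc hφ le_sup_left ht
        rw [← map_mul, ← map_mul]
        exact congrArg φ (Subtype.ext ((mem_centralizerIn.1 hz).2 _ hs))⟩)) le_rfl]⟩
  obtain ⟨hWfc, -, RW, hRW⟩ := isFullyAutomized_and_fc_of_fn hS hF hWn
  have hnW : ∀ g ∈ S, g ∈ Subgroup.normalizer (W : Set Ω) := fun g hg =>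
    normalizer_inf_le ⟨stronglyClosed_le_normalizer hsc hg, sc_centralizer_le_normalizer hsc hg⟩
  have hnT : ∀ g ∈ S, g ∈ Subgroup.normalizer (T : Set Ω) := fun g hg =>
    stronglyClosed_le_normalizer hsc hg
  -- the Sylow subgroup of `Aut_X(T)`
  have hsyl : ∀ b ∈ E.autGroup T, b ∈ autInducedBy S T → b ∈ autInducedBy T T := by
    obtain ⟨-, R, hR⟩ := (isFullyAutomized_and_fc_of_fn (hS.to_le hTS) hEs (isFullyNormalized_top E)).2
    intro b hb hbS
    have hp : IsPGroup p ((autInducedBy S T).subgroupOf (E.autGroup T)) :=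
      (isPGroup_autInducedBy (P := T) hS).comap_subtype
    have hle : (R : Subgroup (E.autGroup T)) ≤ (autInducedBy S T).subgroupOf (E.autGroup T) := by
      rw [hR]
      exact fun x hx => autInducedBy_mono hTS hx
    have h := (R.is_maximal' hp hle).le (show (⟨b, hb⟩ : E.autGroup T) ∈ _ from hbS)
    rwa [hR] at h
  -- the stabilizer of `1 < T < W`
  let Δ : Subgroup (F.autGroup W) :=
    { carrier := {d | ∀ x : W, ((x : Ω) ∈ T → (d : MulAut W) x = x) ∧
        (x : Ω)⁻¹ * (((d : MulAut W) x : W) : Ω) ∈ T}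
      one_mem' := fun x => ⟨fun _ => rfl, by simp⟩
      mul_mem' := by
        intro c d hc hd x
        refine ⟨fun hx => ?_, ?_⟩
        · show (c : MulAut W) ((d : MulAut W) x) = x
          rw [(hd x).1 hx, (hc x).1 hx]
        · show (x : Ω)⁻¹ * (((c : MulAut W) ((d : MulAut W) x) : W) : Ω) ∈ T
          exact tcongr_trans hsc (hd x).2 (hc _).2
      inv_mem' := by
        intro d hd x
        have h0 : (d : MulAut W) ((d : MulAut W)⁻¹ x) = x := MulAut.apply_inv_self _ _ _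
        refine ⟨fun hx => ?_, ?_⟩
        · show (d : MulAut W)⁻¹ x = x
          conv_lhs => rw [← (hd x).1 hx]
          rw [MulAut.inv_apply_self]
        · show (x : Ω)⁻¹ * (((d : MulAut W)⁻¹ x : W) : Ω) ∈ T
          have := T.inv_mem (hd ((d : MulAut W)⁻¹ x)).2
          rwa [h0, mul_inv_rev, inv_inv] at this }
  haveI : Δ.Normal := ⟨fun d hd g x => by
    have hgx : ∀ z : W, (z : Ω) ∈ T → (((g : MulAut W) z : W) : Ω) ∈ T := fun z hz =>
      stronglyClosed_aut_mem hsc g.2 hWS hz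
    have hgi : ∀ z : W, (z : Ω) ∈ T → (((g : MulAut W)⁻¹ z : W) : Ω) ∈ T := fun z hz =>
      stronglyClosed_aut_mem hsc (inv_mem g.2) hWS hz
    refine ⟨fun hx => ?_, ?_⟩
    · show (g : MulAut W) ((d : MulAut W) ((g : MulAut W)⁻¹ x)) = x
      rw [(hd _).1 (hgi x hx), MulAut.apply_inv_self]
    · show (x : Ω)⁻¹ * (((g : MulAut W) ((d : MulAut W) ((g : MulAut W)⁻¹ x)) : W) : Ω) ∈ T
      have h1 := hgx (((g : MulAut W)⁻¹ x)⁻¹ * (d : MulAut W) ((g : MulAut W)⁻¹ x)) (hd _).2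
      rwa [map_mul, map_inv, MulAut.apply_inv_self] at h1⟩
  have hΔp : IsPGroup p Δ := fun d => by
    obtain ⟨k, hk⟩ := isPGroup_aut_stab hS hsc hWS (fun x => (d.2 x).1) (fun x => (d.2 x).2)
    exact ⟨k, Subtype.ext (Subtype.ext (by
      rw [SubmonoidClass.coe_pow, SubmonoidClass.coe_pow]; exact hk))⟩
  have hΔS : ∀ d : F.autGroup W, d ∈ Δ → (d : MulAut W) ∈ autInducedBy S W := fun d hd => by
    have h : d ∈ (RW : Subgroup (F.autGroup W)) :=
      Cfsg.Lib.Core.pCore_le_sylow RW (Cfsg.Lib.Core.le_pCore' inferInstance hΔp hd)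
    rwa [hRW] at h
  obtain ⟨α₁, hα₁, hα₁e⟩ := exists_aut_ext_normal hQ hTS haF
  have hC : ∀ (g : MulAut W), g ∈ F.autGroup W → ∀ x : W, (x : Ω) ∈ C → ((g x : W) : Ω) ∈ C :=
    fun g hg x hx => aut_apply_mem_centralizerIn hsc hg hx
  -- the extender of `β` contains `Q`
  have hext : ∀ q : Q, β * conjAut W (hnW q (hQ.1 q.2)) * β⁻¹ ∈ autInducedBy S W := by
    intro q
    set c := conjAut W (hnW q (hQ.1 q.2)) with hcdef
    set cT := conjAut T (hnT q (hQ.1 q.2)) with hcTdef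
    have hcF : c ∈ F.autGroup W :=
      autInducedBy_le_autGroup hWS (conjAut_mem_autInducedBy _ (hQ.1 q.2))
    have hcTF : cT ∈ F.autGroup T :=
      autInducedBy_le_autGroup hTS (conjAut_mem_autInducedBy _ (hQ.1 q.2))
    have hμX : a * cT * a⁻¹ * cT⁻¹ ∈ E.autGroup T := by
      rw [show a * cT * a⁻¹ * cT⁻¹ = a * (cT * a⁻¹ * cT⁻¹) by group]
      exact mul_mem ha (autGroup_invariant_conj_mem hXi le_rfl (inv_mem ha) hcTF)
    have hμS : a * cT * a⁻¹ * cT⁻¹ ∈ autInducedBy S T := by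
      refine mul_mem ?_ (inv_mem (conjAut_mem_autInducedBy _ (hQ.1 q.2)))
      have hs : ((α₁ (Subgroup.inclusion le_sup_right q) : _) : Ω) ∈ S :=
        (sup_le hTS hQ.1) (α₁ _).2
      refine mem_autInducedBy.2 ⟨_, hs, fun x => ?_⟩
      show ((a (cT (a⁻¹ x)) : T) : Ω) = _
      have h1 : α₁ (Subgroup.inclusion le_sup_left (cT (a⁻¹ x))) =
          α₁ (Subgroup.inclusion le_sup_right q) * α₁ (Subgroup.inclusion le_sup_left (a⁻¹ x)) *
            (α₁ (Subgroup.inclusion le_sup_right q))⁻¹ := by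
        rw [← map_mul, ← map_inv, ← map_mul]
        rfl
      rw [hα₁e, hα₁e, MulAut.apply_inv_self] at h1
      exact congrArg Subtype.val h1
    obtain ⟨t, ht, hte⟩ := mem_autInducedBy.1 (hsyl _ hμX hμS)
    have htc : conjAut W (hnW t (hTS ht)) ∈ autInducedBy S W := conjAut_mem_autInducedBy _ (hTS ht)
    have htF := autInducedBy_le_autGroup (F := F) hWS htc
    have hν : (conjAut W (hnW t (hTS ht)))⁻¹ * (β * c * β⁻¹ * c⁻¹) ∈ F.autGroup W :=
      mul_mem (inv_mem htF) (mul_mem (mul_mem (mul_mem hβ hcF) (inv_mem hβ)) (inv_mem hcF))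
    have hνΔ : (⟨_, hν⟩ : F.autGroup W) ∈ Δ := by
      have hT' : ∀ x : W, (x : Ω) ∈ T →
          (conjAut W (hnW t (hTS ht)))⁻¹ ((β * c * β⁻¹ * c⁻¹) x) = x := by
        intro x hx
        obtain ⟨y, rfl⟩ : ∃ y : T, Subgroup.inclusion le_sup_left y = x := ⟨⟨(x : Ω), hx⟩, rfl⟩
        have hβ' : ∀ y : T, β (Subgroup.inclusion le_sup_left y) = Subgroup.inclusion le_sup_left (a y) :=
          fun y => Subtype.ext (hβe y)
        have hβi : ∀ y : T,
            β⁻¹ (Subgroup.inclusion le_sup_left y) = Subgroup.inclusion le_sup_left (a⁻¹ y) := by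
          intro y
          apply β.injective
          rw [MulAut.apply_inv_self, hβ', MulAut.apply_inv_self]
        have hc' : ∀ y : T, c (Subgroup.inclusion le_sup_left y) = Subgroup.inclusion le_sup_left (cT y) :=
          fun y => rfl
        have hci : ∀ y : T,
            c⁻¹ (Subgroup.inclusion le_sup_left y) = Subgroup.inclusion le_sup_left (cT⁻¹ y) := by
          intro y
          apply c.injective
          rw [MulAut.apply_inv_self, hc', MulAut.apply_inv_self]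
        show (conjAut W (hnW t (hTS ht)))⁻¹ (β (c (β⁻¹ (c⁻¹ (Subgroup.inclusion le_sup_left y))))) = _
        rw [hci, hβi, hc', hβ']
        apply (conjAut W (hnW t (hTS ht))).injective
        rw [MulAut.apply_inv_self]
        exact Subtype.ext (hte y)
      intro x
      refine ⟨hT' x, ?_⟩
      obtain ⟨u, hu, z, hz, hxz⟩ := exists_mul_of_mem_sup_centralizer x.2
      have hz' : z ∈ W := Subgroup.mem_sup_right hz
      have hu' : u ∈ W := Subgroup.mem_sup_left hu
      rw [show x = (⟨u, hu'⟩ : W) * ⟨z, hz'⟩ from Subtype.ext hxz]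
      show ((⟨u, hu'⟩ * ⟨z, hz'⟩ : W) : Ω)⁻¹ * (((conjAut W (hnW t (hTS ht)))⁻¹
        ((β * c * β⁻¹ * c⁻¹) ((⟨u, hu'⟩ : W) * ⟨z, hz'⟩)) : W) : Ω) ∈ T
      rw [map_mul, map_mul, hT' ⟨u, hu'⟩ hu]
      simp only [Subgroup.coe_mul, mul_inv_rev, mul_assoc, inv_mul_cancel_left]
      have hci : c⁻¹ ∈ F.autGroup W := inv_mem hcF
      have hy : ((c⁻¹ ⟨z, hz'⟩ : W) : Ω) ∈ C := hC _ hci _ hz
      have hby : ((β⁻¹ (c⁻¹ ⟨z, hz'⟩) : W) : Ω) ∈ C := hC _ (inv_mem hβ) _ hy
      have h1 : ((c (c⁻¹ ⟨z, hz'⟩) : W) : Ω)⁻¹ * ((c (β⁻¹ (c⁻¹ ⟨z, hz'⟩)) : W) : Ω) ∈ T := by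
        refine tcongr_aut hsc hWS hcF ?_
        have := T.inv_mem (hβd _ hby).1
        rwa [MulAut.apply_inv_self, mul_inv_rev, inv_inv] at this
      rw [MulAut.apply_inv_self] at h1
      have h2 := tcongr_trans hsc h1 (hβd _ (hC _ hcF _ hby)).1
      set w := (β * c * β⁻¹ * c⁻¹) ⟨z, hz'⟩ with hw
      refine tcongr_trans hsc (y := (w : Ω)) h2 ?_
      show (w : Ω)⁻¹ * (((conjAut W (hnW t (hTS ht)))⁻¹ w : W) : Ω) ∈ T
      have h3 : ((conjAut W (hnW t (hTS ht)))⁻¹ w : Ω) = t⁻¹ * (w : Ω) * t := by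
        have h := congrArg Subtype.val (MulAut.apply_inv_self _ (conjAut W (hnW t (hTS ht))) w)
        rw [coe_conjAut] at h
        conv_rhs => rw [← h]
        group
      rw [h3]
      have h4 := sc_conj_mem hsc (S.inv_mem (hWS w.2)) (T.inv_mem ht)
      rw [inv_inv] at h4
      have h5 := T.mul_mem h4 ht
      rwa [show (w : Ω)⁻¹ * t⁻¹ * w * t = (w : Ω)⁻¹ * (t⁻¹ * w * t) by group] at h5
    have h := mul_mem (mul_mem htc (hΔS _ hνΔ)) (conjAut_mem_autInducedBy (hnW q (hQ.1 q.2)) (hQ.1 q.2))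
    rwa [show conjAut W (hnW t (hTS ht)) * ((conjAut W (hnW t (hTS ht)))⁻¹ * (β * c * β⁻¹ * c⁻¹)) * c =
      β * c * β⁻¹ by group] at h
  obtain ⟨χ, hχ, hχe⟩ := (isReceptive_of_fc hS hF hWfc).2 W _ ((mem_autGroup hWS).1 hβ)
    (range_eq_of_card_le ((mem_autGroup hWS).1 hβ) hWS (fun x => (β x).2) le_rfl)
  have hle : W ⊔ Q ≤ extender S W (W.subtype.comp β.toMonoidHom) := by
    refine sup_le (le_extender hWS (fun x => hWS (β x).2)) fun q hq => ?_
    obtain ⟨s, hs, hse⟩ := mem_autInducedBy.1 (hext ⟨q, hq⟩)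
    refine mem_extender_of (hQ.1 hq) (hnW q (hQ.1 hq)) hs fun x hx => ?_
    refine Eq.trans ?_ (hse (β x))
    show ((β ⟨q * x * q⁻¹, hx⟩ : W) : Ω) = ((β (conjAut W (hnW q (hQ.1 hq)) (β⁻¹ (β x))) : W) : Ω)
    rw [MulAut.inv_apply_self]
    rfl
  have hWQS : W ⊔ Q ≤ S := sup_le hWS hQ.1
  have hχ' := restrict_mem hχ hle
  obtain ⟨γ, hγ, hγe⟩ := exists_aut_of_hom hχ' (hom_mem_of_sup (fun z hz => by
      refine Subgroup.mem_sup_left ?_
      show χ (Subgroup.inclusion hle z) ∈ W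
      rw [show χ (Subgroup.inclusion hle z) = _ from hχe (z : Ω) hz (hle z.2)]
      exact (β _).2) fun z hz => Subgroup.mem_sup_right (stronglyClosed_apply_mem hQs hχ' hz))
  haveI := finite_of_le hWQS
  haveI : Finite (MulAut ↥(W ⊔ Q)) := Finite.of_injective (fun f => (f : ↥(W ⊔ Q) → ↥(W ⊔ Q)))
    DFunLike.coe_injective
  have hγW : ∀ x : W, γ (Subgroup.inclusion le_sup_left x) = Subgroup.inclusion le_sup_left (β x) :=
    fun x => Subtype.ext ((hγe _).trans (hχe (x : Ω) x.2 _))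
  have hγpow : ∀ (n : ℕ) (x : W),
      (γ ^ n) (Subgroup.inclusion le_sup_left x) = Subgroup.inclusion le_sup_left ((β ^ n) x) := by
    intro n
    induction n with
    | zero => intro x; rfl
    | succ n ih => intro x; rw [pow_succ, MulAut.mul_apply, hγW, ih, pow_succ, MulAut.mul_apply]
  have hβpow : ∀ (n : ℕ) (x : T),
      (β ^ n) (Subgroup.inclusion le_sup_left x) = Subgroup.inclusion le_sup_left ((a ^ n) x) := by
    intro n
    induction n with
    | zero => intro x; rfl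
    | succ n ih =>
      intro x
      rw [pow_succ, MulAut.mul_apply, show β (Subgroup.inclusion le_sup_left x) =
        Subgroup.inclusion le_sup_left (a x) from Subtype.ext (hβe x), ih, pow_succ, MulAut.mul_apply]
  have hβpd : ∀ (n : ℕ) (x : W), (x : Ω) ∈ C → (x : Ω)⁻¹ * (((β ^ n) x : W) : Ω) ∈ T := by
    intro n
    induction n with
    | zero => intro x _; simp
    | succ n ih =>
      intro x hx
      rw [pow_succ, MulAut.mul_apply]
      exact tcongr_trans hsc (hβd x hx).1 (ih _ (hC _ hβ _ hx))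
  obtain ⟨j, hj1, hj2⟩ := Nat.chineseRemainder (hcop.pow_right ((orderOf γ).factorization p)) 1 0
  have hγ0 : orderOf γ ≠ 0 := (orderOf_pos γ).ne'
  set δ := γ ^ j with hδdef
  have hcopδ : (orderOf δ).Coprime p := by
    refine (Nat.Coprime.coprime_dvd_left ?_
      ((Nat.coprime_ordCompl (Fact.out : p.Prime) hγ0).symm : (ordCompl[p] (orderOf γ)).Coprime p))
    rw [orderOf_dvd_iff_pow_eq_one, hδdef, ← pow_mul, ← orderOf_dvd_iff_pow_eq_one]
    conv_lhs => rw [← Nat.ordProj_mul_ordCompl_eq_self (orderOf γ) p]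
    exact mul_dvd_mul_right (Nat.modEq_zero_iff_dvd.1 hj2) _
  have haj : a ^ j = a := by
    conv_rhs => rw [← pow_one a]
    exact pow_eq_pow_iff_modEq.2 hj1
  have hδF : δ ∈ F.autGroup (W ⊔ Q) := pow_mem hγ j
  have hδT : ∀ x : T, δ (Subgroup.inclusion (le_sup_left.trans le_sup_left) x) =
      Subgroup.inclusion (le_sup_left.trans le_sup_left) (a x) := by
    intro x
    have h := hγpow j (Subgroup.inclusion le_sup_left x)
    rw [hβpow, haj] at h
    exact h
  have hδW : ∀ x : ↥(W ⊔ Q), (x : Ω) ∈ W → (x : Ω)⁻¹ * (δ x : Ω) ∈ T := by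
    intro x hx
    obtain ⟨u, hu, z, hz, hxz⟩ := exists_mul_of_mem_sup_centralizer hx
    rw [show x = Subgroup.inclusion le_sup_left ((⟨u, Subgroup.mem_sup_left hu⟩ : W) *
      ⟨z, Subgroup.mem_sup_right hz⟩) from Subtype.ext hxz, hδdef, hγpow, map_mul (β ^ j),
      show (β ^ j) (⟨u, Subgroup.mem_sup_left hu⟩ : W) = Subgroup.inclusion le_sup_left ((a ^ j) ⟨u, hu⟩)
        from hβpow j ⟨u, hu⟩]
    simp only [Subgroup.coe_inclusion, Subgroup.coe_mul]
    exact tcongr_mul hsc (centralizerIn_le T hz) (T.mul_mem (T.inv_mem hu) ((a ^ j) _).2)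
      (hβpd j ⟨z, Subgroup.mem_sup_right hz⟩ hz)
  -- the displacement of `Q`
  have hdisp : ∀ q : ↥(W ⊔ Q), (q : Ω) ∈ Q → (q : Ω)⁻¹ * (δ q : Ω) ∈ T := by
    intro q hq
    set cT := conjAut T (hnT q (hQ.1 hq)) with hcTdef
    have hsS : ((δ q : _) : Ω) ∈ S := hWQS (δ q).2
    have hcTF : cT ∈ F.autGroup T :=
      autInducedBy_le_autGroup hTS (conjAut_mem_autInducedBy _ (hQ.1 hq))
    have hμX : a * cT * a⁻¹ * cT⁻¹ ∈ E.autGroup T := by
      rw [show a * cT * a⁻¹ * cT⁻¹ = a * (cT * a⁻¹ * cT⁻¹) by group]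
      exact mul_mem ha (autGroup_invariant_conj_mem hXi le_rfl (inv_mem ha) hcTF)
    have hδc : a * cT * a⁻¹ = conjAut T (hnT _ hsS) := by
      apply MulEquiv.ext
      intro x
      apply Subtype.ext
      show ((a (cT (a⁻¹ x)) : T) : Ω) = (δ q : Ω) * (x : Ω) * (δ q : Ω)⁻¹
      have h1 : δ (Subgroup.inclusion (le_sup_left.trans le_sup_left) (cT (a⁻¹ x))) =
          δ q * δ (Subgroup.inclusion (le_sup_left.trans le_sup_left) (a⁻¹ x)) * (δ q)⁻¹ := by
        rw [← map_mul, ← map_inv, ← map_mul]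
        rfl
      rw [hδT, hδT, MulAut.apply_inv_self] at h1
      exact congrArg Subtype.val h1
    have hμS : a * cT * a⁻¹ * cT⁻¹ ∈ autInducedBy S T := by
      rw [hδc]
      exact mul_mem (conjAut_mem_autInducedBy _ hsS) (inv_mem (conjAut_mem_autInducedBy _ (hQ.1 hq)))
    obtain ⟨t, ht, hte⟩ := mem_autInducedBy.1 (hsyl _ hμX hμS)
    -- `d` lies in `W`
    obtain ⟨d, hddef⟩ : ∃ d, d = q⁻¹ * δ q := ⟨_, rfl⟩
    have hdW : (d : Ω) ∈ W := by
      have he : t⁻¹ * ((δ q : Ω) * (q : Ω)⁻¹) ∈ C := by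
        refine mem_centralizerIn.2 ⟨mul_mem (S.inv_mem (hTS ht)) (mul_mem hsS (S.inv_mem (hQ.1 hq))),
          fun x hx => ?_⟩
        have h := hte ⟨x, hx⟩
        rw [hδc] at h
        have hci : ((cT⁻¹ ⟨x, hx⟩ : T) : Ω) = (q : Ω)⁻¹ * x * q := by
          have h' := congrArg Subtype.val (MulAut.apply_inv_self _ cT ⟨x, hx⟩)
          rw [hcTdef, coe_conjAut] at h'
          rw [← hcTdef] at h'
          change _ = x at h'
          conv_rhs => rw [← h']
          group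
        change (δ q : Ω) * ((cT⁻¹ ⟨x, hx⟩ : T) : Ω) * (δ q : Ω)⁻¹ = t * x * t⁻¹ at h
        rw [hci] at h
        calc t⁻¹ * ((δ q : Ω) * (q : Ω)⁻¹) * x
            = t⁻¹ * ((δ q : Ω) * ((q : Ω)⁻¹ * x * q) * (δ q : Ω)⁻¹) * ((δ q : Ω) * (q : Ω)⁻¹) := by group
          _ = x * (t⁻¹ * ((δ q : Ω) * (q : Ω)⁻¹)) := by rw [h]; group
      have h2 := W.mul_mem (Subgroup.mem_sup_left ht) (Subgroup.mem_sup_right he)
      rw [mul_inv_cancel_left] at h2
      have h3 := (Subgroup.mem_normalizer_iff.1 (hnW _ (S.inv_mem (hQ.1 hq))) _).1 h2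
      rw [inv_inv] at h3
      rwa [hddef, show ((q⁻¹ * δ q : ↥(W ⊔ Q)) : Ω) =
        (q : Ω)⁻¹ * ((δ q : Ω) * (q : Ω)⁻¹) * q by rw [Subgroup.coe_mul, Subgroup.coe_inv]; group]
    have hz := hδW d hdW
    have hiter : ∀ n : ℕ, ((q : Ω) * (d : Ω) ^ n)⁻¹ * ((δ ^ n) q : Ω) ∈ T := by
      intro n
      induction n with
      | zero => simp
      | succ n ih =>
        have h1 : ((δ (q * d ^ n) : _) : Ω)⁻¹ * (δ ((δ ^ n) q) : Ω) ∈ T :=
          tcongr_aut hsc hWQS hδF (x := q * d ^ n) (y := (δ ^ n) q)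
            (by rwa [Subgroup.coe_mul, Subgroup.coe_pow])
        rw [pow_succ' δ, MulAut.mul_apply]
        refine tcongr_trans hsc ?_ h1
        have hpow : ∀ k : ℕ, ((d : Ω) ^ k)⁻¹ * ((δ d : _) : Ω) ^ k ∈ T := by
          intro k
          induction k with
          | zero => simp
          | succ k ihk =>
            rw [pow_succ, pow_succ]
            exact tcongr_mul hsc (hWQS d.2) ihk hz
        rw [map_mul, map_pow, Subgroup.coe_mul, Subgroup.coe_pow,
          show ((δ q : _) : Ω) = (q : Ω) * (d : Ω) by rw [hddef, Subgroup.coe_mul, Subgroup.coe_inv]; group,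
          pow_succ', show (q : Ω) * ((d : Ω) * (d : Ω) ^ n) = (q : Ω) * (d : Ω) * (d : Ω) ^ n from
            (mul_assoc _ _ _).symm]
        refine tcongr_mul hsc (pow_mem (hWQS d.2) n) ?_ (hpow n)
        rw [inv_mul_cancel]
        exact T.one_mem
    have hm := hiter (orderOf δ)
    rw [pow_orderOf_eq_one, MulAut.one_apply, mul_inv_rev, mul_assoc, inv_mul_cancel, mul_one] at hm
    obtain ⟨k, hk⟩ := exists_pow_eq_self_of_coprime (x := d) (n := orderOf δ) (by
      obtain ⟨i, hi⟩ := (IsPGroup.iff_orderOf.1 (hS.to_le hWQS)) d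
      rw [hi]
      exact hcopδ.pow_right i)
    rw [show (q : Ω)⁻¹ * (δ q : Ω) = (d : Ω) by rw [hddef]; rfl, ← hk, Subgroup.coe_pow, Subgroup.coe_pow]
    exact pow_mem (inv_inv ((d : Ω) ^ orderOf δ) ▸ T.inv_mem hm) k
  have hTW : T ⊔ Q ≤ W ⊔ Q := sup_le_sup_right le_sup_left Q
  obtain ⟨θ, hθ, hθe⟩ := exists_aut_restrict hWQS hδF hTW (hom_mem_of_sup
    (f := ((W ⊔ Q).subtype.comp δ.toMonoidHom).comp (Subgroup.inclusion hTW))
    (fun z hz => Subgroup.mem_sup_left (stronglyClosed_aut_mem hsc hδF hWQS (x := Subgroup.inclusion hTW z) hz))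
    fun z hz => Subgroup.mem_sup_right (stronglyClosed_aut_mem hQs hδF hWQS (x := Subgroup.inclusion hTW z) hz))
  refine mem_dispSystem_autGroup le_rfl ha hθ (fun x => Subtype.ext ?_) fun q hq => ?_
  · rw [hθe]
    exact congrArg Subtype.val (hδT x)
  · rw [hθe]
    exact hdisp (Subgroup.inclusion hTW q) hq

/-- Every map of a normal subsystem extends to `Q`, moving it only modulo `T`. -/
theorem le_dispSystem [Finite S] [Fact p.Prime] (hS : IsPGroup p S) (hX : E.IsNormalIn F p)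
    {Q : Subgroup Ω} (hQ : F.IsNormal Q) : E ≤ dispSystem hX.1.2.2 hQ := by
  have hXi := hX.1.2.2
  have hEs := hX.1.1
  have hTS := hXi.2.1.1
  haveI := finite_of_le hTS
  have hT : IsPGroup p T := hS.to_le hTS
  refine le_of_autGroup_le' hT hEs _ fun P hP hbig => ?_
  have hPT : P ≤ T := hP.elim (fun e => e.le) fun e => e.1.1
  haveI := finite_of_le hPT
  haveI : Finite (MulAut P) := Finite.of_injective (fun f => (f : P → P)) DFunLike.coe_injective
  have hPn : E.IsFullyNormalized P := hP.elim (fun e => e ▸ isFullyNormalized_top E) fun e => e.2.1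
  obtain ⟨hfc, -, R, hR⟩ := isFullyAutomized_and_fc_of_fn hT hEs hPn
  set D := dispSystem hXi hQ with hDdef
  let H : Subgroup (E.autGroup P) := (D.autGroup P).subgroupOf (E.autGroup P)
  haveI : H.Normal := ⟨fun x hx g => by
    have hxD : (x : MulAut P) ∈ D.autGroup P := hx
    obtain ⟨-, ψ, hψ, hψe, hψd⟩ := (mem_autGroup hPT).1 hxD
    obtain ⟨α, hα, hαe⟩ := exists_aut_of_hom hψ (hom_mem_of_sup (fun z hz => by
        rw [show z = Subgroup.inclusion le_sup_left ⟨(z : Ω), hz⟩ from rfl, hψe]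
        exact Subgroup.mem_sup_left ((x : MulAut P) _).2) fun z hz =>
      Subgroup.mem_sup_right (stronglyClosed_apply_mem (isNormal_stronglyClosed hQ) hψ hz))
    have hPS := hPT.trans hTS
    obtain ⟨β, hβ, hβe⟩ := exists_aut_ext_normal hQ hPS
      ((mem_autGroup hPS).2 (hXi.1 _ ((mem_autGroup hPT).1 g.2)))
    have hWS : P ⊔ Q ≤ S := sup_le hPS hQ.1
    have hαe' : ∀ z : P, α (Subgroup.inclusion le_sup_left z) =
        Subgroup.inclusion le_sup_left ((x : MulAut P) z) := fun z => Subtype.ext ((hαe _).trans (hψe z))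
    refine mem_dispSystem_autGroup (α := β * α * β⁻¹) hPT (mul_mem (mul_mem g.2 x.2) (inv_mem g.2))
      (mul_mem (mul_mem hβ hα) (inv_mem hβ)) (fun z => ?_) fun q hq => ?_
    · have hβi : β⁻¹ (Subgroup.inclusion le_sup_left z) =
          Subgroup.inclusion le_sup_left ((g : MulAut P)⁻¹ z) := by
        apply β.injective
        rw [MulAut.apply_inv_self, hβe, MulAut.apply_inv_self]
      rw [MulAut.mul_apply, MulAut.mul_apply, hβi, hαe', hβe]
      rfl
    · have hq' := stronglyClosed_aut_mem (isNormal_stronglyClosed hQ) (inv_mem hβ) hWS hq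
      have h1 : ((β⁻¹ q : _) : Ω)⁻¹ * (α (β⁻¹ q) : Ω) ∈ T := by
        rw [hαe]
        exact hψd ⟨_, hq'⟩
      have h2 := tcongr_aut hXi.2.1 hWS hβ h1
      rw [MulAut.apply_inv_self] at h2
      exact h2⟩
  have hRH : (R : Subgroup (E.autGroup P)) ≤ H := by
    rw [hR]
    intro x hx
    obtain ⟨t, ht, hte⟩ := mem_autInducedBy.1 hx
    exact (mem_autGroup hPT).2 (hom_congr (D.conj_mem hPT ht) fun z => hte z)
  let RH : Sylow p H := R.subtype hRH
  have hmap : (RH : Subgroup H).map H.subtype = (R : Subgroup (E.autGroup P)) := by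
    rw [Sylow.coe_subtype]
    exact Subgroup.map_subgroupOf_eq_of_le hRH
  by_cases hPT' : P = T
  · subst hPT'
    refine le_of_sylow_of_coprime R ?_ fun a ha hc => disp_top hS hX hQ ha hc
    rintro _ ⟨x, hx, rfl⟩
    exact hRH hx
  have hle : (⊤ : Subgroup (E.autGroup P)) ≤ H := by
    rw [← closure_pPrime_union_normalizer H RH, Subgroup.closure_le]
    rintro x (⟨hxH, -⟩ | hxN)
    · exact hxH
    · obtain ⟨g, ⟨hgT, hgN⟩, hgP⟩ := SetLike.exists_of_lt
        (lt_normalizerIn hT (lt_of_le_of_ne hPT hPT'))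
      refine extensibleAut_le_of_bigger hPT hbig
        (mem_extensibleAut_of_induced (isReceptive_of_fc hT hEs hfc) x.2 hgT hgN hgP ?_)
      rw [hmap] at hxN
      have hg : (⟨conjAut P hgN, autInducedBy_le_autGroup hPT (conjAut_mem_autInducedBy hgN hgT)⟩ :
          E.autGroup P) ∈ (R : Subgroup (E.autGroup P)) := by
        rw [hR]
        exact conjAut_mem_autInducedBy hgN hgT
      have h := (Subgroup.mem_normalizer_iff.1 hxN _).1 hg
      rw [hR] at h
      exact h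
  intro a ha
  exact hle (Subgroup.mem_top (⟨a, ha⟩ : E.autGroup P))

/-- A quasisimple subnormal subsystem centralizes the largest normal subgroup. -/
theorem component_centralizes_core {T S : Subgroup Ω} {C : FusionSystem T} {F : FusionSystem S} {p : ℕ}
    (h : C.IsSubnormalIn F p) :
    Finite S → Fact p.Prime → IsPGroup p S → C.Quasisimple p →
      ∀ P : Subgroup Ω, C.Hom P ⊆ F.centralizerHom F.core P := by
  induction h with
  | refl F p =>
    intro hfin hp hS hq P φ hφ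
    haveI := hfin
    haveI := hp
    obtain ⟨ψ, hψ, he, hfix⟩ := (isCentral_center F).2 P φ hφ
    have hQZ : F.core ≤ F.center := core_le_center_of_quasisimple hS hq
    have hSC : ∀ s ∈ _, s ∈ centralizerIn _ F.core := fun s hs => mem_centralizerIn.2 ⟨hs, fun q hq' =>
      Subgroup.mem_centralizer_iff.1 (F.center_le_centralizer (hQZ hq')) s hs⟩
    exact ⟨hφ, fun x hx => hSC x (hom_le hφ hx), fun x => hSC _ (hom_mem hφ x), _,
      restrict_mem hψ (sup_le_sup_left hQZ P), fun x => he x, fun q => hfix ⟨(q : Ω), hQZ q.2⟩⟩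
  | @step U S C X F p _ hX ih =>
    intro hfin hp hS hq
    haveI := hfin
    haveI := hp
    have hXi := hX.1.2.2
    have hUS : U ≤ S := hXi.2.1.1
    haveI := finite_of_le hUS
    have hC := ih (finite_of_le hUS) hp (hS.to_le hUS) hq
    have hTU : T ≤ U := hom_le (hC T (subtype_mem C le_rfl)).1
    have hTS : T ≤ S := hTU.trans hUS
    haveI := finite_of_le hTS
    set Q := F.core with hQdef
    have hQ : F.IsNormal Q := isNormal_core F
    have hQX : Q ⊓ U ≤ X.core := le_sSup (isNormal_inf_of_invariant hS hX.1.1 hXi hQ)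
    -- automorphisms of order prime to `p`
    have hcop : ∀ P : Subgroup Ω, P ≤ T → ∀ a ∈ C.autGroup P, (orderOf a).Coprime p →
        ∃ γ ∈ F.autGroup (P ⊔ Q),
          (∀ x : P, γ (Subgroup.inclusion le_sup_left x) = Subgroup.inclusion le_sup_left (a x)) ∧
          ∀ q : ↥(P ⊔ Q), (q : Ω) ∈ Q → γ q = q := by
      intro P hPT a ha hc
      have hPU : P ≤ U := hPT.trans hTU
      obtain ⟨-, -, -, χ, hχ, hχe, hχfix⟩ := hC P ((mem_autGroup hPT).1 ha)
      obtain ⟨-, ψ, hψ, hψe, hψd⟩ := le_dispSystem hS hX hQ _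
        (restrict_mem hχ (sup_le_sup_left hQX P))
      have hle : P ⊔ Q ≤ (P ⊔ Q ⊓ U) ⊔ Q := sup_le_sup_right le_sup_left Q
      have hψP : ∀ x : P, ψ (Subgroup.inclusion hle (Subgroup.inclusion le_sup_left x)) = (a x : Ω) :=
        fun x => (hψe (Subgroup.inclusion le_sup_left x)).trans (hχe x)
      obtain ⟨γ, hγ, hγe⟩ := exists_aut_of_hom (restrict_mem hψ hle) (hom_mem_of_sup (fun z hz => by
          refine Subgroup.mem_sup_left ?_
          rw [show z = Subgroup.inclusion le_sup_left ⟨(z : Ω), hz⟩ from rfl]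
          show ψ (Subgroup.inclusion hle (Subgroup.inclusion le_sup_left ⟨(z : Ω), hz⟩)) ∈ P
          rw [hψP]
          exact (a _).2) fun z hz =>
        Subgroup.mem_sup_right (stronglyClosed_apply_mem (isNormal_stronglyClosed hQ)
          (restrict_mem hψ hle) hz))
      have hWS : P ⊔ Q ≤ S := sup_le (hPT.trans hTS) hQ.1
      haveI := finite_of_le hWS
      haveI : Finite (MulAut ↥(P ⊔ Q)) := Finite.of_injective (fun f => (f : ↥(P ⊔ Q) → ↥(P ⊔ Q)))
        DFunLike.coe_injective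
      have hγP : ∀ (n : ℕ) (x : P),
          (γ ^ n) (Subgroup.inclusion le_sup_left x) = Subgroup.inclusion le_sup_left ((a ^ n) x) := by
        intro n
        induction n with
        | zero => intro x; rfl
        | succ n ih =>
          intro x
          rw [pow_succ, MulAut.mul_apply, show γ (Subgroup.inclusion le_sup_left x) =
            Subgroup.inclusion le_sup_left (a x) from Subtype.ext ((hγe _).trans (hψP x)), ih, pow_succ,
            MulAut.mul_apply]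
      have hγ0 : ∀ q : ↥(P ⊔ Q), (q : Ω) ∈ Q ⊓ U → γ q = q := fun q hq => Subtype.ext ((hγe q).trans
        ((hψe ⟨(q : Ω), Subgroup.mem_sup_right hq⟩).trans (hχfix ⟨(q : Ω), hQX hq⟩)))
      have hγd : ∀ q : ↥(P ⊔ Q), (q : Ω) ∈ Q → (q : Ω)⁻¹ * (γ q : Ω) ∈ Q ⊓ U := fun q hq =>
        ⟨Q.mul_mem (Q.inv_mem hq) (stronglyClosed_aut_mem (isNormal_stronglyClosed hQ) hγ hWS hq), by
          rw [hγe]; exact hψd ⟨(q : Ω), hq⟩⟩
      have hγn : ∀ (n : ℕ) (q : ↥(P ⊔ Q)), (q : Ω) ∈ Q → (γ ^ n) q = q * (q⁻¹ * γ q) ^ n := by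
        intro n q hq
        induction n with
        | zero => simp
        | succ n ihn =>
          rw [pow_succ', MulAut.mul_apply, ihn, map_mul, map_pow, hγ0 (q⁻¹ * γ q) (hγd q hq), pow_succ',
            ← mul_assoc q, mul_inv_cancel_left]
      obtain ⟨e, he⟩ := IsPGroup.iff_card.1 (hS.to_le hWS)
      obtain ⟨j, hj1, hj2⟩ := Nat.chineseRemainder (hc.pow_right e) 1 0
      refine ⟨γ ^ j, pow_mem hγ j, fun x => ?_, fun q hq => ?_⟩
      · rw [hγP, show a ^ j = a from by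
          conv_rhs => rw [← pow_one a]
          exact pow_eq_pow_iff_modEq.2 hj1]
      · obtain ⟨k, hk⟩ := Nat.modEq_zero_iff_dvd.1 hj2
        rw [hγn j q hq, hk, ← he, pow_mul, pow_card_eq_one', one_pow, mul_one]
    -- the hyperfocal subgroup centralizes `Q`
    have hTQ : T ≤ centralizerIn S Q := by
      refine hq.2.1.symm.le.trans (hyperfocal_le_of_coprime fun P hP a ha hc x => ?_)
      obtain ⟨γ, -, hγe, hγQ⟩ := hcop P hP a ha hc
      refine mem_centralizerIn.2 ⟨hTS (mul_mem (inv_mem (hP x.2)) (hP (a x).2)), fun q hq' => ?_⟩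
      have hcq : (x : Ω) * q * (x : Ω)⁻¹ ∈ Q :=
        sc_conj_mem (isNormal_stronglyClosed hQ) (hTS (hP x.2)) hq'
      have hfix := hγQ (Subgroup.inclusion le_sup_left x * ⟨q, Subgroup.mem_sup_right hq'⟩ *
        (Subgroup.inclusion le_sup_left x)⁻¹) hcq
      rw [map_mul, map_mul, map_inv, hγe, hγQ ⟨q, Subgroup.mem_sup_right hq'⟩ hq'] at hfix
      have h := congrArg Subtype.val hfix
      change ((a x : P) : Ω) * q * ((a x : P) : Ω)⁻¹ = (x : Ω) * q * (x : Ω)⁻¹ at h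
      calc (x : Ω)⁻¹ * (a x : Ω) * q
          = (x : Ω)⁻¹ * ((a x : Ω) * q * (a x : Ω)⁻¹) * (a x : Ω) := by group
        _ = q * ((x : Ω)⁻¹ * (a x : Ω)) := by rw [h]; group
    let D : FusionSystem T :=
      { Hom := fun P => {φ | φ ∈ C.Hom P ∧ ∃ ψ ∈ F.Hom (P ⊔ Q),
          (∀ x : P, ψ (Subgroup.inclusion le_sup_left x) = φ x) ∧
            ∀ q : Q, ψ (Subgroup.inclusion le_sup_right q) = q}
        le_of_mem := fun h => C.le_of_mem h.1
        injective_of_mem := fun h => C.injective_of_mem h.1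
        conj_mem := fun {P} {g} hP hg => ⟨C.conj_mem hP hg, _,
          F.conj_mem (sup_le (hP.trans hTS) hQ.1) (hTS hg), fun _ => rfl, fun q =>
            conj_eq_of_commute ((mem_centralizerIn.1 (hTQ hg)).2 q q.2)⟩
        comp_mem := by
          rintro P P' φ φ' ⟨hφ, ψ, hψ, he, hf⟩ ⟨hφ', ψ', hψ', he', hf'⟩ h
          have hv : ∀ z, ψ z ∈ P' ⊔ Q := hom_mem_of_sup (fun z hz => by
              rw [show z = Subgroup.inclusion le_sup_left ⟨(z : Ω), hz⟩ from rfl, he]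
              exact Subgroup.mem_sup_left (h _)) fun z hz => by
              rw [show z = Subgroup.inclusion le_sup_right ⟨(z : Ω), hz⟩ from rfl, hf]
              exact Subgroup.mem_sup_right hz
          refine ⟨C.comp_mem hφ hφ' h, _, F.comp_mem hψ hψ' hv, fun x => ?_, fun q => ?_⟩
          · exact (congrArg ψ' (Subtype.ext (he x) : _ = Subgroup.inclusion le_sup_left ⟨φ x, h x⟩)).trans
              (he' _)
          · exact (congrArg ψ' (Subtype.ext (hf q) : _ = Subgroup.inclusion le_sup_right q)).trans (hf' q)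
        inv_mem := by
          rintro P φ ⟨hφ, ψ, hψ, he, hf⟩
          obtain ⟨ρ, hρ, hρe⟩ := C.inv_mem hφ
          obtain ⟨ψi, hψi, hψie⟩ := F.inv_mem hψ
          have hle : φ.range ⊔ Q ≤ ψ.range := by
            refine sup_le ?_ fun q hq' => ⟨Subgroup.inclusion le_sup_right ⟨q, hq'⟩, hf ⟨q, hq'⟩⟩
            rintro _ ⟨x, rfl⟩
            exact ⟨_, he x⟩
          refine ⟨ρ, ⟨hρ, _, restrict_mem hψi hle, ?_, fun q => ?_⟩, hρe⟩
          · rintro ⟨_, x, rfl⟩
            refine ((congrArg ψi (Subtype.ext (he x).symm : _ =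
              (⟨ψ (Subgroup.inclusion le_sup_left x), ⟨_, rfl⟩⟩ : ψ.range))).trans (hψie _)).trans ?_
            exact (hρe x).symm
          · exact (congrArg ψi (Subtype.ext (hf q).symm : _ =
              (⟨ψ (Subgroup.inclusion le_sup_right q), ⟨_, rfl⟩⟩ : ψ.range))).trans (hψie _) }
    have hCs : C.IsSaturated p := hq.1
    have hCD : C ≤ D := by
      refine le_of_autGroup_le (hS.to_le hTS) hCs D fun P hP => ?_
      have hPT : P ≤ T := hP.elim (fun e => e.le) fun e => e.1.1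
      haveI := finite_of_le hPT
      haveI : Finite (MulAut P) := Finite.of_injective (fun f => (f : P → P)) DFunLike.coe_injective
      have hfn : C.IsFullyNormalized P := hP.elim (fun e => e ▸ isFullyNormalized_top C) fun e => e.2.1
      obtain ⟨-, R, hR⟩ := (isFullyAutomized_and_fc_of_fn (hS.to_le hTS) hCs hfn).2
      refine le_of_sylow_of_coprime R ?_ fun a ha hc => ?_
      · rw [hR, Subgroup.map_subgroupOf_eq_of_le (autInducedBy_le_autGroup hPT)]
        exact autInducedBy_le_autGroup hPT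
      · obtain ⟨γ, hγ, hγe, hγQ⟩ := hcop P hPT a ha hc
        exact (mem_autGroup hPT).2 ⟨(mem_autGroup hPT).1 ha, _,
          (mem_autGroup (sup_le (hPT.trans hTS) hQ.1)).1 hγ, fun x => congrArg Subtype.val (hγe x),
          fun q => congrArg Subtype.val (hγQ _ q.2)⟩
    intro P φ hφ
    obtain ⟨-, ψ, hψ, he, hf⟩ := hCD P hφ
    exact ⟨hXi.1 P (hC P hφ).1, (hom_le hφ).trans hTQ, fun x => hTQ (hom_mem hφ x), ψ, hψ, he, hf⟩

/-- There is a normal subsystem inside the centralizer of the core containing every component. -/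
theorem exists_normal_above_components [Finite S] [Fact p.Prime] (hS : IsPGroup p S)
    (hF : F.IsSaturated p) :
    ∃ D : FusionSystem (centralizerIn S F.core), D.IsNormalIn F p ∧
      (∀ P : Subgroup Ω, D.Hom P ⊆ F.centralizerHom F.core P) ∧
      ∀ (U : Subgroup Ω) (C : FusionSystem U), C.IsComponentIn F p → C.IsSubsystemOf D := by
  set Q := F.core with hQdef
  have hQ : F.IsNormal Q := isNormal_core F
  have hI := isNormalIn_inner_of_isNormal hS hF hQ
  have hQs := isNormal_stronglyClosed hQ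
  have hcent : CentralizesSystem F (innerFusionSystem Q) (centralizerIn S Q) := by
    refine ⟨le_rfl, ?_⟩
    rintro P φ hφ
    obtain ⟨hP, g, hg, hge⟩ := id hφ
    refine mem_centralizerHom_of_ext hI.1.2.2.1 hQ.1 le_rfl hφ
      ⟨_, F.conj_mem (sup_le (hP.trans hQ.1) (centralizerIn_le Q)) (hQ.1 hg), fun x => (hge x).symm,
        fun c => conj_eq_of_commute ((mem_centralizerIn.1 c.2).2 g hg).symm⟩
  have hY : centralizerIn S Q = systemCentralizer F (innerFusionSystem Q) p hI.1.2.2.2.1 :=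
    le_antisymm (le_systemCentralizer hS hF hI.1.2.2 hcent) systemCentralizer_le
  obtain ⟨CQ, D, hCQ, hidx, hD, hDC⟩ := exists_centralizer_subsystem' hS hI hY
  refine ⟨D, hD, hDC, fun U C hC => ?_⟩
  have h := component_centralizes_core hC.1 inferInstance inferInstance hS hC.2
  haveI := finite_of_le (centralizerIn_le (S := S) Q)
  exact subsystem_le_of_pPower (hS.to_le (centralizerIn_le Q)) hC.2.1
    (fun P φ hφ => hCQ P ▸ h P hφ) (fun x hx => (h U (subtype_mem C le_rfl)).2.1 hx) hidx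

end Cfsg.Lib.FusionSys
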