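import Cfsg.Agent.Lib.FusionSys.Normal
import Cfsg.Agent.Lib.FusionSys.Centric
import Cfsg.Agent.Lib.FusionSys.StronglyClosedSup
import Cfsg.Prelude.Def_FusionComponents

/-!
# Constrained systems; normal subsystems of constrained systems are constrained
-/

set_option autoImplicit false

namespace Cfsg.Lib.FusionSys

open Cfsg Cfsg.FusionSystem
open scoped commutatorElement

variable {Ω : Type*} [Group Ω] {S : Subgroup Ω} {F : FusionSystem S}

/-- A strongly closed subgroup that is abelian over a normal subgroup and induces inner automorphisms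
on it is normal. -/
theorem isNormal_of_inner_abelian_over [Finite S] {p : ℕ} [Fact p.Prime] (hS : IsPGroup p S)
    (hF : F.IsSaturated p) {U A : Subgroup Ω} (hA : F.StronglyClosed A) (hU : F.IsNormal U)
    (hdec : ∀ g ∈ A, ∃ u ∈ U, ∃ c : Ω, (∀ x ∈ U, c * x = x * c) ∧ g = u * c)
    (hab : ∀ g ∈ A, ∀ y ∈ A, ⁅g, y⁆ ∈ U) : F.IsNormal A := by
  obtain ⟨W, m, hW0, hWm, -, hWchar, hWc⟩ := exists_series_of_nilpotent hS hU.1
  refine isNormal_of_series hS hF (fun i => if i ≤ m then W i else A) (m + 1) (by simp [hW0])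
    (by simp) ?_ ?_
  · intro i _
    show F.StronglyClosed (if i ≤ m then W i else A)
    split_ifs
    exacts [isNormal_stronglyClosed (isNormal_of_characteristic hU (hWchar i).1 (hWchar i).2), hA]
  · intro i hi g hg y hy
    show ⁅g, y⁆ ∈ if i ≤ m then W i else A
    rw [if_pos (by omega : i ≤ m)]
    rcases Nat.lt_or_eq_of_le (show i ≤ m by omega) with h | rfl
    · have hy' : y ∈ W (i + 1) := by
        have hy2 : y ∈ (if i + 1 ≤ m then W (i + 1) else A) := hy
        rwa [if_pos (Nat.succ_le_of_lt h)] at hy2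
      obtain ⟨u, hu, c, hc, rfl⟩ := hdec g hg
      have h1 : ⁅u * c, y⁆ = ⁅u, y⁆ := by
        rw [commutatorElement_def, commutatorElement_def, mul_inv_rev]
        calc u * c * y * (c⁻¹ * u⁻¹) * y⁻¹ = u * (c * y * c⁻¹) * u⁻¹ * y⁻¹ := by group
          _ = _ := by rw [hc y ((hWchar (i + 1)).1 hy'), mul_inv_cancel_right]
      rw [h1]
      exact hWc i u hu y hy'
    · rw [hWm]
      exact hab g hg y (by simpa using hy)

theorem isCentric_of_isNormal [Finite S] {Q : Subgroup Ω} (hQ : F.IsNormal Q)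
    (hc : centralizerIn S Q ≤ Q) : F.IsCentric Q := by
  refine ⟨hQ.1, ?_⟩
  rintro R ⟨φ, hφ, rfl⟩
  rw [range_eq_of_card_le hφ hQ.1
    (fun y => stronglyClosed_apply_mem (isNormal_stronglyClosed hQ) hφ y.2) le_rfl]
  exact hc

theorem centralizerIn_core_le [Finite S] {p : ℕ} (hF : F.IsConstrained p) :
    centralizerIn S F.core ≤ F.core := by
  obtain ⟨-, Q, hQ, hQc⟩ := hF
  have hle : Q ≤ F.core := le_sSup hQ
  exact (centralizerIn_anti hle).trans ((hQc.2 Q (isConj_refl F hQ.1)).trans hle)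

theorem isConstrained_iff_core [Finite S] {p : ℕ} (hF : F.IsSaturated p) :
    F.IsConstrained p ↔ centralizerIn S F.core ≤ F.core :=
  ⟨centralizerIn_core_le, fun h => ⟨hF, F.core, isNormal_core F, isCentric_of_isNormal (isNormal_core F) h⟩⟩

/-- The trace of the core on a normal subsystem is normal and self-centralizing there. -/
theorem core_inf_normal_centric [Finite S] {p : ℕ} [Fact p.Prime] (hS : IsPGroup p S)
    (hF : F.IsConstrained p) {T : Subgroup Ω} {E : FusionSystem T} (hE : E.IsNormalIn F p) :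
    E.IsNormal (F.core ⊓ T) ∧ centralizerIn T (F.core ⊓ T) ≤ F.core ⊓ T := by
  obtain ⟨⟨hEsat, -, hEF, hT, -, -⟩, -⟩ := hE
  have hFsat := hF.1
  haveI := finite_of_le hT.1
  have hTp : IsPGroup p T := hS.to_le hT.1
  have hsc : ∀ X : Subgroup Ω, F.StronglyClosed X → E.StronglyClosed (X ⊓ T) := fun X hX =>
    ⟨inf_le_right, fun R hR φ hφ x =>
      ⟨hX.2 R (hR.trans inf_le_left) φ (hEF R hφ) x, hom_mem hφ x⟩⟩
  set Q := F.core with hQdef
  have hQ : F.IsNormal Q := isNormal_core F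
  have hQc := centralizerIn_core_le hF
  have hQs := isNormal_stronglyClosed hQ
  have hinf : ∀ X : Subgroup Ω, F.StronglyClosed X → F.StronglyClosed (X ⊓ T) := fun X hX =>
    ⟨inf_le_right.trans hT.1, fun R hR φ hφ x =>
      ⟨hX.2 R (hR.trans inf_le_left) φ hφ x, hT.2 R (hR.trans inf_le_right) φ hφ x⟩⟩
  set U := Q ⊓ T with hUdef
  obtain ⟨Z, m, hZ0, hZm, -, hZchar, hZc⟩ := exists_series_of_nilpotent hS hQ.1
  have hZs : ∀ i, F.StronglyClosed (Z i) := fun i =>
    isNormal_stronglyClosed (isNormal_of_characteristic hQ (hZchar i).1 (hZchar i).2)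
  have hZc' : ∀ i, i < m → ∀ g ∈ U, ∀ y ∈ Z (i + 1) ⊓ T, ⁅g, y⁆ ∈ Z i ⊓ T := fun i _ g hg y hy =>
    ⟨hZc i g hg.1 y hy.1, by
      rw [commutatorElement_def]
      exact T.mul_mem (T.mul_mem (T.mul_mem hg.2 hy.2) (T.inv_mem hg.2)) (T.inv_mem hy.2)⟩
  have hUF : F.IsNormal U := isNormal_of_series hS hFsat (fun i => Z i ⊓ T) m (by simp [hZ0])
    (by simp [hZm, hUdef]) (fun i _ => hinf _ (hZs i)) hZc'
  have hUE : E.IsNormal U := isNormal_of_series hTp hEsat (fun i => Z i ⊓ T) m (by simp [hZ0])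
    (by simp [hZm, hUdef]) (fun i _ => hsc _ (hZs i)) hZc'
  refine ⟨hUE, ?_⟩
  -- the subgroup `U C_T(U)` is normal, hence in the core
  set A := (U ⊔ centralizerIn S U) ⊓ T with hAdef
  have hA : F.StronglyClosed A :=
    hinf _ (stronglyClosed_sup_centralizerIn hS hFsat (isNormal_stronglyClosed hUF))
  have hUS : U ≤ S := hUF.1
  have hdec : ∀ g ∈ A, ∃ u ∈ U, ∃ c ∈ centralizerIn T U, g = u * c := by
    intro g hg
    have h1 : g ∈ ((U ⊔ centralizerIn S U : Subgroup Ω) : Set Ω) := hg.1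
    rw [Subgroup.coe_mul_of_right_le_normalizer_left U (centralizerIn S U)
      ((centralizerIn_le U).trans (stronglyClosed_le_normalizer (isNormal_stronglyClosed hUF)))] at h1
    obtain ⟨u, hu, c, hc, rfl⟩ := Set.mem_mul.1 h1
    have hcT : c ∈ T := by
      have := T.mul_mem (T.inv_mem hu.2) hg.2
      rwa [inv_mul_cancel_left] at this
    exact ⟨u, hu, c, mem_centralizerIn.2 ⟨hcT, (mem_centralizerIn.1 hc).2⟩, rfl⟩
  have hTn := stronglyClosed_le_normalizer hT
  have hQn := stronglyClosed_le_normalizer hQs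
  -- the displacement of `q ∈ Q` by `c`
  have hdisp : ∀ c ∈ centralizerIn T U, ∀ q ∈ Q,
      q⁻¹ * (c * q * c⁻¹) ∈ U ∧ ∀ x ∈ U, q⁻¹ * (c * q * c⁻¹) * x = x * (q⁻¹ * (c * q * c⁻¹)) := by
    intro c hc q hq
    obtain ⟨hcT, hcU⟩ := mem_centralizerIn.1 hc
    have hqS := hQ.1 hq
    refine ⟨⟨Q.mul_mem (Q.inv_mem hq) ((Subgroup.mem_normalizer_iff.1 (hQn (hT.1 hcT)) q).1 hq), ?_⟩,
      fun x hx => ?_⟩
    · have h1 := T.mul_mem ((Subgroup.mem_normalizer_iff''.1 (hTn hqS) c).1 hcT) (T.inv_mem hcT)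
      simpa [mul_assoc] using h1
    · have hx' : q * x * q⁻¹ ∈ U :=
        (Subgroup.mem_normalizer_iff.1 (stronglyClosed_le_normalizer (isNormal_stronglyClosed hUF) hqS) x).1 hx
      calc q⁻¹ * (c * q * c⁻¹) * x = q⁻¹ * (c * q) * (c⁻¹ * x) := by group
        _ = q⁻¹ * (c * q) * (x * c⁻¹) := by
          rw [(show Commute c x from hcU x hx).inv_left.eq]
        _ = q⁻¹ * (c * (q * x * q⁻¹)) * q * c⁻¹ := by group
        _ = x * (q⁻¹ * (c * q * c⁻¹)) := by rw [hcU _ hx']; group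
  have hAN : F.IsNormal A := by
    refine isNormal_of_inner_abelian_over hS hFsat hA hUF (fun g hg => ?_) ?_
    · obtain ⟨u, hu, c, hc, rfl⟩ := hdec g hg
      exact ⟨u, hu, c, (mem_centralizerIn.1 hc).2, rfl⟩
    intro g hg y hy
    obtain ⟨u, hu, c, hc, rfl⟩ := hdec g hg
    obtain ⟨v, hv, d, hd, rfl⟩ := hdec y hy
    obtain ⟨hcT, hcU⟩ := mem_centralizerIn.1 hc
    obtain ⟨hdT, hdU⟩ := mem_centralizerIn.1 hd
    have hcd : ⁅c, d⁆ ∈ U := by
      have hconj : ∀ c ∈ centralizerIn T U, ∀ d ∈ centralizerIn T U, ∀ q ∈ Q,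
          c * (d * q * d⁻¹) * c⁻¹ = q * (q⁻¹ * (c * q * c⁻¹)) * (q⁻¹ * (d * q * d⁻¹)) := by
        intro c hc d hd q hq
        have h1 := (hdisp d hd q hq).1
        have h2 := (mem_centralizerIn.1 hc).2 _ h1
        calc c * (d * q * d⁻¹) * c⁻¹ = c * q * (q⁻¹ * (d * q * d⁻¹)) * c⁻¹ := by group
          _ = c * q * c⁻¹ * ((c * (q⁻¹ * (d * q * d⁻¹))) * c⁻¹) := by group
          _ = _ := by rw [h2]; group
      have h3 : ⁅c, d⁆ ∈ centralizerIn S Q := by
        refine mem_centralizerIn.2 ⟨?_, fun q hq => ?_⟩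
        · rw [commutatorElement_def]
          exact S.mul_mem (S.mul_mem (S.mul_mem (hT.1 hcT) (hT.1 hdT)) (S.inv_mem (hT.1 hcT)))
            (S.inv_mem (hT.1 hdT))
        · have hswap : ∀ r ∈ Q, c * (d * r * d⁻¹) * c⁻¹ = d * (c * r * c⁻¹) * d⁻¹ := fun r hr => by
            rw [hconj c hc d hd r hr, hconj d hd c hc r hr, mul_assoc r,
              (hdisp c hc r hr).2 _ (hdisp d hd r hr).1, ← mul_assoc r]
          have hr : (d * c)⁻¹ * q * (d * c) ∈ Q :=
            (Subgroup.mem_normalizer_iff''.1 (hQn (S.mul_mem (hT.1 hdT) (hT.1 hcT))) q).1 hq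
          generalize hrdef : (d * c)⁻¹ * q * (d * c) = r at hr
          have h5 := hswap r hr
          have h4 : q = d * (c * r * c⁻¹) * d⁻¹ := by rw [← hrdef]; group
          have h6 : q * ⁅c, d⁆ = ⁅c, d⁆ * q := by
            rw [commutatorElement_def]
            calc q * (c * d * c⁻¹ * d⁻¹) = c * (d * r * d⁻¹) * c⁻¹ * (c * d * c⁻¹ * d⁻¹) := by
                  rw [h5, ← h4]
              _ = c * d * r * c⁻¹ * d⁻¹ := by group
              _ = c * d * c⁻¹ * d⁻¹ * q := by rw [h4]; group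
          exact h6.symm
      exact ⟨hQc h3, by
        rw [commutatorElement_def]
        exact T.mul_mem (T.mul_mem (T.mul_mem hcT hdT) (T.inv_mem hcT)) (T.inv_mem hdT)⟩
    -- reduce to `⁅c, d⁆`
    have e : ⁅u * c, v * d⁆ = u * v * ⁅c, d⁆ * u⁻¹ * v⁻¹ := by
      have a1 : c * v = v * c := hcU v hv
      have a2 : d * u⁻¹ = u⁻¹ * d := (show Commute d u⁻¹ from hdU _ (U.inv_mem hu)).eq
      have a3 : c⁻¹ * u⁻¹ = u⁻¹ * c⁻¹ := ((show Commute c u from hcU u hu).inv_inv).eq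
      have a4 : d⁻¹ * v⁻¹ = v⁻¹ * d⁻¹ := ((show Commute d v from hdU v hv).inv_inv).eq
      rw [commutatorElement_def, commutatorElement_def, mul_inv_rev, mul_inv_rev]
      calc u * c * (v * d) * (c⁻¹ * u⁻¹) * (d⁻¹ * v⁻¹)
          = u * (c * v) * d * (c⁻¹ * u⁻¹) * (d⁻¹ * v⁻¹) := by group
        _ = u * (v * c) * d * (c⁻¹ * u⁻¹) * (d⁻¹ * v⁻¹) := by rw [a1]
        _ = u * v * c * d * c⁻¹ * (u⁻¹ * d⁻¹) * v⁻¹ := by group
        _ = u * v * c * d * c⁻¹ * (d⁻¹ * u⁻¹) * v⁻¹ := by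
          rw [(show Commute d u from hdU u hu).inv_inv.eq]
        _ = _ := by group
    rw [e]
    exact U.mul_mem (U.mul_mem (U.mul_mem (U.mul_mem hu hv) hcd) (U.inv_mem hu)) (U.inv_mem hv)
  intro c hc
  refine ⟨(le_sSup hAN : A ≤ F.core) ⟨Subgroup.mem_sup_right ?_, (mem_centralizerIn.1 hc).1⟩,
    (mem_centralizerIn.1 hc).1⟩
  exact mem_centralizerIn.2 ⟨hT.1 (mem_centralizerIn.1 hc).1, (mem_centralizerIn.1 hc).2⟩

/-- A normal subsystem of a constrained system is constrained. -/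
theorem isConstrained_of_isNormalIn [Finite S] {p : ℕ} [Fact p.Prime] (hS : IsPGroup p S)
    (hF : F.IsConstrained p) {T : Subgroup Ω} {E : FusionSystem T} (hE : E.IsNormalIn F p) :
    E.IsConstrained p := by
  haveI := finite_of_le hE.1.2.2.2.1.1
  obtain ⟨hn, hc⟩ := core_inf_normal_centric hS hF hE
  exact ⟨hE.1.1, _, hn, isCentric_of_isNormal hn hc⟩

theorem isSubnormalIn_constrained {p : ℕ} {T : Subgroup Ω} {E : FusionSystem T}
    (hE : E.IsSubnormalIn F p) (hp : p.Prime) (hSfin : Finite S) (hS : IsPGroup p S)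
    (hF : F.IsConstrained p) : E.IsConstrained p := by
  induction hE with
  | refl G q => exact hF
  | @step _ _ _ _ _ q _ hDF ih =>
    haveI := hSfin
    haveI : Fact q.Prime := ⟨hp⟩
    exact ih hp (finite_of_le hDF.1.2.2.2.1.1) (hS.to_le hDF.1.2.2.2.1.1)
      (isConstrained_of_isNormalIn hS hF hDF)

end Cfsg.Lib.FusionSys
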