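import Cfsg.Agent.Lib.FusionSys.PPrimeResidual
import Cfsg.Agent.Lib.FusionSys.StrongInvariance

/-!
The `p'`-residual subsystem of a saturated invariant subsystem lies in every saturated invariant subsystem over
the same subgroup.
-/

set_option autoImplicit false

namespace Cfsg.Lib.FusionSys

open Cfsg Cfsg.FusionSystem

variable {Ω : Type*} [Group Ω] {S T : Subgroup Ω} {F : FusionSystem S} {E D : FusionSystem T} {p : ℕ}

/-- A `p`-automorphism in one saturated invariant subsystem lies in every other invariant subsystem over the same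
subgroup. -/
theorem pAut_mem [Finite S] [Fact p.Prime] (hS : IsPGroup p S) (hE : E.IsSaturated p) (hEi : E.IsInvariantIn F)
    (hDi : D.IsInvariantIn F) {P : Subgroup Ω} (hP : P ≤ T) {a : MulAut P} (ha : a ∈ E.autGroup P)
    (hk : ∃ k : ℕ, orderOf a = p ^ k) : a ∈ D.autGroup P := by
  have hTS : T ≤ S := hEi.2.1.1
  haveI := finite_of_le hTS
  obtain ⟨Q, hPQ, hQ⟩ := exists_isFullyNormalized E hP
  obtain ⟨e, he⟩ := isConj_iff.1 hPQ
  haveI := finite_of_le hQ.1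
  haveI : Finite (MulAut Q) := Finite.of_injective (fun f => (f : Q → Q)) DFunLike.coe_injective
  obtain ⟨-, R, hR⟩ := (isFullyAutomized_and_fc_of_fn (hS.to_le hTS) hE hQ).2
  obtain ⟨k, hk⟩ := hk
  let a' : E.autGroup Q := ⟨MulAut.congr e a, congr_mem_autGroup he ha⟩
  have hp : IsPGroup p (Subgroup.zpowers a') := by
    refine IsPGroup.iff_card.2 ⟨k, ?_⟩
    rw [Nat.card_zpowers, ← Subgroup.orderOf_coe]
    exact (MulEquiv.orderOf_eq (MulAut.congr e) a).trans hk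
  obtain ⟨R', hR'⟩ := hp.exists_le_sylow
  obtain ⟨b, hb⟩ := MulAction.exists_smul_eq (E.autGroup Q) R' R
  have hmem : b * a' * b⁻¹ ∈ (R : Subgroup (E.autGroup Q)) := by
    rw [← hb, Sylow.coe_subgroup_smul]
    exact Subgroup.smul_mem_pointwise_smul _ (MulAut.conj b) _ (hR' (Subgroup.mem_zpowers a'))
  rw [hR] at hmem
  obtain ⟨s, hs, hse⟩ := mem_autInducedBy.1 hmem
  let f : P ≃* Q := e.trans (b : MulAut Q)
  have hf : IsoIn E f := he.trans ((mem_autGroup hQ.1).1 b.2)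
  have hconj : ∀ x : P, (f (a x) : Ω) = s * (f x : Ω) * s⁻¹ := fun x => by
    refine Eq.trans ?_ (hse (f x))
    show ((b : MulAut Q) (e (a x)) : Ω) =
      (((b : MulAut Q) * MulAut.congr e a * (b : MulAut Q)⁻¹) ((b : MulAut Q) (e x)) : Ω)
    rw [MulAut.mul_apply, MulAut.mul_apply, MulAut.inv_apply_self]
    show _ = (((b : MulAut Q) (e (a (e.symm (e x))))) : Ω)
    rw [MulEquiv.symm_apply_apply]
  have hval : ∀ x : Q, conjHom Q s x ∈ Q := fun x => by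
    have h := hconj (f.symm x)
    rw [MulEquiv.apply_symm_apply] at h
    exact Set.mem_of_eq_of_mem h.symm (f (a (f.symm x))).2
  obtain ⟨χ, hχ, hχe⟩ := isInvariant_strongInv hDi Q Q le_rfl hQ.1 (conjHom Q s) (D.conj_mem hQ.1 hs) hval
    (P.subtype.comp f.symm.toMonoidHom) (hEi.1 _ hf.symm)
  have hmap : (Q.subgroupOf Q).map (P.subtype.comp f.symm.toMonoidHom) = P := by
    ext y
    constructor
    · rintro ⟨x, -, rfl⟩
      exact (f.symm x).2
    · intro hy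
      exact ⟨f ⟨y, hy⟩, (f ⟨y, hy⟩).2, by simp⟩
  refine (mem_autGroup hP).2 ?_
  show P.subtype.comp a.toMonoidHom ∈ D.Hom P
  have key : ∀ (U : Subgroup Ω) (hU : U = P) (χ : U →* Ω), χ ∈ D.Hom U →
      (∀ (x : P) (hx : (x : Ω) ∈ U), χ ⟨x, hx⟩ = (a x : Ω)) → P.subtype.comp a.toMonoidHom ∈ D.Hom P := by
    intro U hU χ' hχ' h
    subst hU
    exact hom_congr hχ' fun x => (h x x.2).symm
  refine key _ hmap χ hχ fun x hx => ?_
  have hfx : (P.subtype.comp f.symm.toMonoidHom) (Subgroup.inclusion le_rfl (f x)) = (x : Ω) := by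
    show (f.symm (f x) : Ω) = x
    rw [MulEquiv.symm_apply_apply]
  refine Eq.trans (congrArg χ (Subtype.ext hfx.symm)) ((hχe (f x) (by rw [hfx]; exact hx)).trans ?_)
  have he2 : (⟨conjHom Q s (f x), hval (f x)⟩ : Q) = f (a x) := Subtype.ext (hconj x).symm
  rw [he2]
  show (f.symm (f (a x)) : Ω) = _
  rw [MulEquiv.symm_apply_apply]

/-- Centric in one invariant subsystem implies centric in every subsystem over the same subgroup. -/
theorem isCentric_transfer [Finite S] (hEi : E.IsInvariantIn F) (hDF : D.IsSubsystemOf F) {P : Subgroup Ω}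
    (hP : E.IsCentric P) : D.IsCentric P := by
  refine ⟨hP.1, ?_⟩
  rintro R ⟨ψ, hψ, rfl⟩
  obtain ⟨α, -, φ₀, hφ₀, he⟩ := hEi.2.2.2 P hP.1 ψ (hDF P hψ)
  intro c hc
  obtain ⟨hcT, hcc⟩ := mem_centralizerIn.1 hc
  have hc0 : ((α⁻¹ ⟨c, hcT⟩ : T) : Ω) ∈ φ₀.range := by
    refine hP.2 _ ⟨φ₀, hφ₀, rfl⟩ (mem_centralizerIn.2 ⟨(α⁻¹ ⟨c, hcT⟩).2, ?_⟩)
    rintro _ ⟨x, rfl⟩
    have h := hcc (ψ x) ⟨x, rfl⟩
    rw [he x (hom_mem hφ₀ x)] at h
    have h2 : (⟨c, hcT⟩ : T) * α ⟨φ₀ x, hom_mem hφ₀ x⟩ = α ⟨φ₀ x, hom_mem hφ₀ x⟩ * ⟨c, hcT⟩ :=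
      Subtype.ext h
    have h3 := congrArg (⇑(α⁻¹)) h2
    rw [map_mul, map_mul, MulAut.inv_apply_self] at h3
    exact congrArg Subtype.val h3
  obtain ⟨x, hx⟩ := hc0
  refine ⟨x, (he x (hom_mem hφ₀ x)).trans ?_⟩
  rw [show (⟨φ₀ x, hom_mem hφ₀ x⟩ : T) = α⁻¹ ⟨c, hcT⟩ from Subtype.ext hx, MulAut.apply_inv_self]

/-- The restriction of an automorphism of `T` to a subgroup. -/
def autRes (c : MulAut T) {P : Subgroup Ω} (hP : P ≤ T) : P →* Ω :=
  (T.subtype.comp c.toMonoidHom).comp (Subgroup.inclusion hP)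

/-- An automorphism with a power prime to `p` in an invariant saturated subsystem lies in it as soon as its
restriction to a centric subgroup does. -/
theorem aut_mem_of_centric [Finite S] [Fact p.Prime] (hS : IsPGroup p S) (hE : E.IsSaturated p)
    (hEi : E.IsInvariantIn F) {c : MulAut T} (hc : c ∈ F.autGroup T) {m : ℕ} (hm : Nat.Coprime m p)
    (hcm : c ^ m ∈ E.autGroup T) :
    ∀ (n : ℕ) (P : Subgroup Ω), Nat.card T - Nat.card P = n → ∀ hP : P ≤ T, E.IsCentric P →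
      autRes c hP ∈ E.Hom P → c ∈ E.autGroup T := by
  have hTS : T ≤ S := hEi.2.1.1
  haveI := finite_of_le hTS
  have hT : IsPGroup p T := hS.to_le hTS
  intro n
  induction n using Nat.strong_induction_on with
  | _ n ih =>
  intro P hn hP hPc hres
  by_cases hPT : P = T
  · subst hPT
    exact (mem_autGroup le_rfl).2 (hom_congr hres fun x => rfl)
  set N := normalizerIn T P with hNdef
  have hlt : P < N := lt_normalizerIn hT (lt_of_le_of_ne hP hPT)
  have hNT : N ≤ T := normalizerIn_le P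
  haveI := finite_of_le hNT
  haveI := finite_of_le hP
  have hNc : E.IsCentric N := isCentric_mono hPc hlt.le hNT
  refine ih (Nat.card T - Nat.card N) ?_ N rfl hNT hNc ?_
  · have h1 : Nat.card P < Nat.card N := Set.Finite.card_lt_card (Set.toFinite _) hlt
    have h2 : Nat.card N ≤ Nat.card T := card_le_of_le hNT
    omega
  have hRc : E.IsCentric (autRes c hP).range :=
    ⟨range_le hres, fun Q hQ => hPc.2 Q (isConj_trans ⟨_, hres, rfl⟩ hQ)⟩
  obtain ⟨χ₁, hχ₁, hχ₁e⟩ :=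
    (isReceptive_of_fc hT hE (isFullyCentralized_of_isCentric hRc)).2 P _ hres rfl
  have hle : N ≤ extender T P (autRes c hP) := by
    intro g hg
    refine mem_extender_of hg.1 hg.2 (c ⟨g, hg.1⟩).2 fun x hx => ?_
    show ((c ⟨g * (x : Ω) * g⁻¹, hP hx⟩ : T) : Ω) = _
    rw [show (⟨g * (x : Ω) * g⁻¹, hP hx⟩ : T) = ⟨g, hg.1⟩ * ⟨x, hP x.2⟩ * ⟨g, hg.1⟩⁻¹ from rfl,
      map_mul, map_mul, map_inv]
    rfl
  set χ := χ₁.comp (Subgroup.inclusion hle) with hχdef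
  have hχ : χ ∈ E.Hom N := restrict_mem hχ₁ hle
  have hPχ : ∀ (x : P) (hx : (x : Ω) ∈ N), χ ⟨x, hx⟩ = ((c ⟨x, hP x.2⟩ : T) : Ω) := fun x hx =>
    hχ₁e x x.2 (hle hx)
  have hmod : ∀ (g : N), ((c⁻¹ ⟨χ g, hom_mem hχ g⟩ : T) : Ω) ∈ N ∧
      (g : Ω)⁻¹ * ((c⁻¹ ⟨χ g, hom_mem hχ g⟩ : T) : Ω) ∈ P := by
    intro g
    set u : T := c⁻¹ ⟨χ g, hom_mem hχ g⟩ with hu
    have hcu : c u = ⟨χ g, hom_mem hχ g⟩ := MulAut.apply_inv_self _ _ _
    have hzP : (g : Ω)⁻¹ * (u : Ω) ∈ P := by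
      refine hPc.2 P (isConj_refl E hP) (mem_centralizerIn.2 ⟨T.mul_mem (T.inv_mem (hNT g.2)) u.2, ?_⟩)
      intro x hx
      have hgx : (g : Ω) * x * (g : Ω)⁻¹ ∈ P := (Subgroup.mem_normalizer_iff.1 g.2.2 x).1 hx
      have h1 := hPχ ⟨_, hgx⟩ (hlt.le hgx)
      have h2 : χ ⟨(g : Ω) * x * (g : Ω)⁻¹, hlt.le hgx⟩ =
          χ g * χ ⟨x, hlt.le hx⟩ * (χ g)⁻¹ := by
        rw [← map_inv, ← map_mul, ← map_mul]
        rfl
      rw [h2, hPχ ⟨x, hx⟩ (hlt.le hx)] at h1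
      have h3 : c (u * ⟨x, hP hx⟩ * u⁻¹) = c ⟨(g : Ω) * x * (g : Ω)⁻¹, hP hgx⟩ := by
        apply Subtype.ext
        rw [map_mul, map_mul, map_inv, hcu]
        exact h1
      have h4 : (u : Ω) * x * (u : Ω)⁻¹ = (g : Ω) * x * (g : Ω)⁻¹ :=
        congrArg Subtype.val (c.injective h3)
      refine commute_of_conj_eq ?_
      rw [mul_inv_rev, inv_inv,
        show (g : Ω)⁻¹ * (u : Ω) * x * ((u : Ω)⁻¹ * g) = (g : Ω)⁻¹ * ((u : Ω) * x * (u : Ω)⁻¹) * g by group,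
        h4]
      group
    refine ⟨?_, hzP⟩
    have := N.mul_mem g.2 (hlt.le hzP)
    rwa [mul_inv_cancel_left] at this
  let η₀ : N →* N :=
    MonoidHom.mk' (fun g => (⟨((c⁻¹ ⟨χ g, hom_mem hχ g⟩ : T) : Ω), (hmod g).1⟩ : N)) fun a b => by
      apply Subtype.ext
      show ((c⁻¹ ⟨χ (a * b), hom_mem hχ (a * b)⟩ : T) : Ω) = _
      rw [show (⟨χ (a * b), hom_mem hχ (a * b)⟩ : T) = ⟨χ a, hom_mem hχ a⟩ * ⟨χ b, hom_mem hχ b⟩ from
        Subtype.ext (map_mul χ a b), map_mul]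
      rfl
  have hη₀inj : Function.Injective η₀ := fun a b h => by
    have h1 : c⁻¹ ⟨χ a, hom_mem hχ a⟩ = c⁻¹ ⟨χ b, hom_mem hχ b⟩ :=
      Subtype.ext (congrArg (fun z : N => (z : Ω)) h)
    exact E.injective_of_mem hχ (congrArg Subtype.val ((c⁻¹).injective h1))
  let η : MulAut N := MulEquiv.ofBijective η₀ ⟨hη₀inj, Finite.surjective_of_injective hη₀inj⟩
  have hcη : ∀ g : N, c ⟨η g, hNT (η g).2⟩ = ⟨χ g, hom_mem hχ g⟩ := fun g =>
    MulAut.apply_inv_self _ c _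
  have hηP : ∀ g : N, (g : Ω) ∈ P → η g = g := by
    intro g hg
    have h0 : c⁻¹ ⟨χ g, hom_mem hχ g⟩ = ⟨(g : Ω), hP hg⟩ := by
      rw [show (⟨χ g, hom_mem hχ g⟩ : T) = c ⟨(g : Ω), hP hg⟩ from Subtype.ext (hPχ ⟨g, hg⟩ g.2),
        MulAut.inv_apply_self]
    exact Subtype.ext (congrArg (fun z : T => (z : Ω)) h0)
  -- the powers
  have hpow : ∀ k : ℕ, (autRes (c ^ k) hNT).comp (η ^ k).toMonoidHom ∈ E.Hom N := by
    intro k
    induction k with
    | zero => exact hom_congr (subtype_mem E hNT) fun g => rfl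
    | succ k ihk =>
      obtain ⟨χk, hχk, hχke⟩ := hEi.2.2.1 N hNT χ hχ (c ^ k) ((F.autGroup T).pow_mem hc k)
      have hv : ∀ g : N, ((autRes (c ^ k) hNT).comp (η ^ k).toMonoidHom) g ∈
          (N.subgroupOf T).map (T.subtype.comp (c ^ k).toMonoidHom) := fun g =>
        ⟨⟨((η ^ k) g : Ω), hNT ((η ^ k) g).2⟩, ((η ^ k) g).2, rfl⟩
      refine hom_congr (E.comp_mem ihk hχk hv) fun g => ?_
      refine Eq.trans ?_ (hχke ((η ^ k) g) (hom_mem hχ _) (hv g)).symm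
      show (((c ^ (k + 1)) ⟨((η ^ (k + 1)) g : Ω), _⟩ : T) : Ω) = _
      have hh : (η ^ (k + 1)) g = η ((η ^ k) g) := by rw [pow_succ', MulAut.mul_apply]
      rw [pow_succ, MulAut.mul_apply]
      refine congrArg (fun z : T => ((c ^ k) z : Ω)) ?_
      rw [show (⟨((η ^ (k + 1)) g : Ω), hNT ((η ^ (k + 1)) g).2⟩ : T) =
        ⟨(η ((η ^ k) g) : Ω), hNT (η ((η ^ k) g)).2⟩ from Subtype.ext (congrArg (fun z : N => (z : Ω)) hh :)]
      exact hcη _
  have hηm : η ^ m ∈ E.autGroup N := by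
    have hi : c ^ m ∈ E.autGroup T := hcm
    have hinv := (mem_autGroup (F := E) le_rfl).1 ((E.autGroup T).inv_mem hi)
    refine (mem_autGroup hNT).2 (hom_congr (E.comp_mem (hpow m) hinv fun g => (((c ^ m) _ : T)).2) fun g => ?_)
    show ((η ^ m) g : Ω) = (((c ^ m)⁻¹ ((c ^ m) ⟨((η ^ m) g : Ω), hNT ((η ^ m) g).2⟩) : T) : Ω)
    rw [MulAut.inv_apply_self]
  obtain ⟨j, hj⟩ : ∃ j : ℕ, η ^ p ^ j = 1 := by
    obtain ⟨e, he⟩ := IsPGroup.iff_card.1 (hT.to_le hNT)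
    have h3 := pow_eq_one_of_stabilizes (P := N) (α := η)
      (D := fun i => if i = 0 then ⊥ else if i = 1 then P else N) (n := 2) rfl rfl ?_ ?_
    · exact ⟨e * 2, by rwa [pow_mul, ← he]⟩
    · intro i _ x hx
      match i with
      | 0 =>
        have : x = 1 := Subtype.ext (Subgroup.mem_bot.1 hx)
        simp [this]
      | 1 =>
        have : (x : Ω) ∈ P := hx
        rw [hηP x this]
        exact hx
      | (k + 2) => exact (η x).2
    · intro i hi x hx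
      match i with
      | 0 =>
        have : (x : Ω) ∈ P := hx
        show (x : Ω)⁻¹ * (η x : Ω) ∈ (⊥ : Subgroup Ω)
        rw [hηP x this, inv_mul_cancel]
        exact Subgroup.one_mem _
      | 1 => exact (hmod x).2
      | (k + 2) => omega
  have hη : η ∈ E.autGroup N := by
    have hco : (orderOf η).Coprime m :=
      Nat.Coprime.coprime_dvd_left (orderOf_dvd_of_pow_eq_one hj) (Nat.Coprime.pow_left j hm.symm)
    obtain ⟨q, hq⟩ := exists_pow_eq_self_of_coprime hco.symm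
    rw [← hq]
    exact (E.autGroup N).pow_mem hηm q
  have hback := (mem_autGroup hNT).1 ((E.autGroup N).inv_mem hη)
  refine hom_congr (E.comp_mem hback hχ fun g => (η⁻¹ g).2) fun g => ?_
  show ((c ⟨(g : Ω), hNT g.2⟩ : T) : Ω) = χ (η⁻¹ g)
  refine Eq.trans ?_ (congrArg Subtype.val (hcη (η⁻¹ g)))
  refine congrArg (fun z : T => (c z : Ω)) (Subtype.ext ?_)
  show (g : Ω) = (η (η⁻¹ g) : Ω)
  rw [MulAut.apply_inv_self]

/-- The `p'`-residual subsystem is the least saturated invariant subsystem. -/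
theorem residual_le_invariant [Finite S] [Fact p.Prime] (hS : IsPGroup p S) (hE : E.IsSaturated p)
    (hEi : E.IsInvariantIn F) (hD : D.IsSaturated p) (hDi : D.IsInvariantIn F) {R : FusionSystem T}
    (hR : E.IsPPrimeResidual p R) : R.IsSubsystemOf D := by
  have hTS : T ≤ S := hEi.2.1.1
  haveI := finite_of_le hTS
  have hT : IsPGroup p T := hS.to_le hTS
  have hsat := isSaturated_minExtClosed hT hE
  have hidx : (minExtClosed E p).HasPrimeToPIndexIn E p := by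
    refine ⟨fun P φ h => h.1, fun P hP => ?_⟩
    rw [Subgroup.map_le_iff_le_comap, Subgroup.closure_le]
    rintro a ⟨k, hk⟩
    exact mem_autGroup_of_centric hT hE isExtClosed_minExtClosed.1 hP a.2
      ⟨k, by rw [← hk]; exact Subgroup.orderOf_coe a⟩
  let K : FusionSystem T :=
    { Hom := fun P => E.Hom P ∩ D.Hom P
      le_of_mem := fun h => E.le_of_mem h.1
      injective_of_mem := fun h => E.injective_of_mem h.1
      conj_mem := fun hP hg => ⟨E.conj_mem hP hg, D.conj_mem hP hg⟩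
      comp_mem := fun hφ hψ h => ⟨E.comp_mem hφ.1 hψ.1 h, D.comp_mem hφ.2 hψ.2 h⟩
      inv_mem := fun {P} {φ} hφ => by
        obtain ⟨ψ, hψ, hψe⟩ := E.inv_mem hφ.1
        obtain ⟨χ, hχ, hχe⟩ := D.inv_mem hφ.2
        refine ⟨ψ, ⟨hψ, hom_congr hχ ?_⟩, hψe⟩
        rintro ⟨_, x, rfl⟩
        exact (hψe x).trans (hχe x).symm }
  have hpK : ∀ P : Subgroup Ω, E.IsCentric P → ∀ a ∈ E.autGroup P, (∃ k : ℕ, orderOf a = p ^ k) →
      a ∈ K.autGroup P := fun P hP a ha hk =>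
    (mem_autGroup hP.1).2 ⟨(mem_autGroup hP.1).1 ha,
      (mem_autGroup hP.1).1 (pAut_mem hS hE hEi hDi hP.1 ha hk)⟩
  suffices hK : IsExtClosed E p K from
    fun P φ hφ => (minExtClosed_le_of hK P (hR.2.2 _ hsat hidx P hφ)).2
  refine ⟨hpK, fun P N hPN hP hN φ hφ h => ⟨hφ, ?_⟩⟩
  obtain ⟨a, ha, φ₀, hφ₀, he⟩ := exists_factor_of_centric hT hE hpK hφ
  have hφ₀K : φ₀ ∈ K.Hom N := twistCore_le_right N hφ₀
  -- the restriction of `a` to the image of `P`
  have hr₀ := restrict_mem hφ₀K hPN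
  set Q := (φ₀.comp (Subgroup.inclusion hPN)).range with hQ
  have hQc : E.IsCentric Q := isCentric_of_conj hP ⟨_, hr₀.1, rfl⟩
  have hQT : Q ≤ T := hQc.1
  have haD : a ∈ D.autGroup T := by
    obtain ⟨m, hm, hma⟩ : ∃ m : ℕ, Nat.Coprime m p ∧ ∃ k : ℕ, orderOf (a ^ m) = p ^ k := by
      haveI : Finite (MulAut T) := Finite.of_injective (fun f => (f : T → T)) DFunLike.coe_injective
      have hne : orderOf a ≠ 0 := (orderOf_pos a).ne'
      obtain ⟨k, m, hpm, hkm⟩ := Nat.exists_eq_pow_mul_and_not_dvd hne p (Fact.out : p.Prime).ne_one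
      refine ⟨m, ((Fact.out : p.Prime).coprime_iff_not_dvd.2 hpm).symm, k, ?_⟩
      rw [orderOf_pow_of_dvd (fun h => hne (by rw [hkm, h, mul_zero])) (hkm ▸ dvd_mul_left m _), hkm,
        Nat.mul_div_cancel _ (Nat.pos_of_ne_zero fun h => hne (by rw [hkm, h, mul_zero]))]
    refine aut_mem_of_centric hS hD hDi ?_ hm
      (pAut_mem hS hE hEi hDi le_rfl ((E.autGroup T).pow_mem ha m) hma) _ Q rfl hQT
      (isCentric_transfer hEi hDi.1 hQc) ?_
    · exact (mem_autGroup hEi.2.1.1).2 (hEi.1 _ ((mem_autGroup le_rfl).1 ha))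
    · obtain ⟨ψ, hψ, hψr, hψe⟩ := exists_inv hr₀.2 rfl
      have hv : ∀ y, ψ y ∈ P := fun y => hψr.le ⟨y, rfl⟩
      refine hom_congr (D.comp_mem hψ h.2 hv) ?_
      rintro ⟨_, x, rfl⟩
      show ((a ⟨φ₀ (Subgroup.inclusion hPN x), _⟩ : T) : Ω) =
        φ (Subgroup.inclusion hPN ⟨ψ _, hv _⟩)
      rw [show (⟨ψ ⟨(φ₀.comp (Subgroup.inclusion hPN)) x, x, rfl⟩, hv _⟩ : P) = x from
        Subtype.ext (hψe x ⟨x, rfl⟩), he _ (hom_mem hφ₀K.1 _)]
  refine hom_congr (D.comp_mem hφ₀K.2 ((mem_autGroup le_rfl).1 haD) fun x => hom_mem hφ₀K.1 x) fun x => ?_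
  exact he x (hom_mem hφ₀K.1 x)

end Cfsg.Lib.FusionSys
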