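import Cfsg.Agent.Lib.FusionSys.CentralLift.WeaklyNormal
import Cfsg.Agent.Lib.FusionSys.ResidualNormalMain
import Cfsg.Agent.Lib.FusionSys.LeastNormal
import Cfsg.Agent.Lib.FusionSys.PPowerIsNormal
import Cfsg.Agent.Lib.FusionSys.PPowerExists
import Cfsg.Agent.Lib.FusionSys.ComponentCore
import Cfsg.Agent.Lib.FusionSys.Constrained
import Cfsg.Agent.Lib.FusionSys.TerminatingSeries

/-!
A saturated system that is not constrained has a component.
-/

set_option autoImplicit false
set_option linter.style.haveILetI false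

namespace Cfsg.Lib.FusionSys

open Cfsg Cfsg.FusionSystem

variable {Ω : Type*} [Group Ω] {S T U : Subgroup Ω} {F : FusionSystem S} {p : ℕ}

theorem isSubnormalIn_trans' {C : FusionSystem T} {D : FusionSystem U} (h : D.IsSubnormalIn F p)
    (hC : C.IsSubnormalIn D p) : C.IsSubnormalIn F p := by
  induction h with
  | refl G q => exact hC
  | step h1 h2 ih => exact .step (ih hC) h2

/-- The core of a normal subsystem is normal. -/
theorem core_le_core_of_normal [Finite S] [Fact p.Prime] (hS : IsPGroup p S) (hF : F.IsSaturated p)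
    {E : FusionSystem T} (hE : E.IsNormalIn F p) : E.core ≤ F.core := by
  haveI := finite_of_le hE.1.2.2.2.1.1
  refine le_sSup (isNormal_of_invariant hS hF hE.1.2.2 (isNormal_core E) fun α hα t ht => ?_)
  exact (le_sSup (isNormal_autImage hE.1.2.2 hα (isNormal_core E)) : autImage α E.core ≤ E.core)
    ⟨t, ht, rfl⟩

theorem isNormal_self_of_inner [Finite S] (h : ∀ P, F.Hom P = (innerFusionSystem S).Hom P) :
    F.IsNormal S := by
  refine ⟨le_rfl, fun P φ hφ => ?_⟩
  rw [h] at hφ
  obtain ⟨hP, g, hg, hge⟩ := hφ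
  refine ⟨_, F.conj_mem (sup_le hP le_rfl) hg, fun x => (hge x).symm, ?_⟩
  ext y
  rw [mem_map_subgroupOf]
  constructor
  · rintro ⟨x, hx, hxS, rfl⟩
    exact S.mul_mem (S.mul_mem hg hxS) (S.inv_mem hg)
  · intro hy
    have h1 : g⁻¹ * y * g ∈ S := S.mul_mem (S.mul_mem (S.inv_mem hg) hy) hg
    exact ⟨_, Subgroup.mem_sup_right h1, h1, by
      show g * (g⁻¹ * y * g) * g⁻¹ = y
      group⟩

/-- A system whose hyperfocal subgroup is central is constrained. -/
theorem isConstrained_of_hyperfocal_le_center [Finite S] [Fact p.Prime] (hS : IsPGroup p S)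
    (hF : F.IsSaturated p) (h : F.hyperfocalSubgroup p ≤ F.center) : F.IsConstrained p := by
  have hbot : F.hyperfocalSubgroup p = ⊥ := by
    rw [eq_bot_iff]
    refine hyperfocal_le_of_coprime fun P hP α hα hc x => ?_
    haveI := finite_of_le hP
    set z : P := x⁻¹ * α x with hz
    have hzZ : (z : Ω) ∈ F.center := h (mem_hyperfocal_of_coprime hP hα hc x)
    have hfix : α z = z := Subtype.ext (((isCentral_iff hS hF F.center).1 (isCentral_center F)).2 _ hzZ _
      ⟨_, restrict_mem ((mem_autGroup hP).1 hα) (Subgroup.zpowers_le.2 z.2), rfl⟩)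
    have hpow : ∀ n : ℕ, (α ^ n) x = x * z ^ n := by
      intro n
      induction n with
      | zero => simp
      | succ n ih =>
        rw [pow_succ', MulAut.mul_apply, ih, map_mul, map_pow, hfix, pow_succ', ← mul_assoc, hz,
          mul_inv_cancel_left]
    have h1 : z ^ orderOf α = 1 := by
      have := hpow (orderOf α)
      rw [pow_orderOf_eq_one, MulAut.one_apply, left_eq_mul] at this
      exact this
    obtain ⟨k, hk⟩ := hS.to_le hP z
    show (z : Ω) ∈ (⊥ : Subgroup Ω)
    rw [orderOf_eq_one_iff.1 (Nat.eq_one_of_dvd_coprimes (hc.pow_right k)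
      (orderOf_dvd_of_pow_eq_one h1) (orderOf_dvd_of_pow_eq_one hk)), Subgroup.coe_one]
    exact Subgroup.one_mem _
  have hn := isNormal_self_of_inner (hom_eq_inner_of_hyperfocal hS hF hbot)
  exact ⟨hF, S, hn, isCentric_of_isNormal hn (centralizerIn_le S)⟩

/-- Constrained systems have no components. -/
theorem not_component_of_constrained [Finite S] [Fact p.Prime] (hS : IsPGroup p S)
    (hF : F.IsConstrained p) {C : FusionSystem T} (hC : C.IsComponentIn F p) : False := by
  obtain ⟨hsub, hq⟩ := hC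
  have hTS : T ≤ S := hom_le (isSubsystemOf_of_isSubnormalIn hsub T (subtype_mem C le_rfl))
  haveI := finite_of_le hTS
  have hT : IsPGroup p T := hS.to_le hTS
  have hc := centralizerIn_core_le (isSubnormalIn_constrained hsub Fact.out inferInstance hS hF)
  have hQZ := core_le_center_of_quasisimple hT hq
  have hTZ : T ≤ C.center := fun t ht => hQZ (hc (mem_centralizerIn.2 ⟨ht, fun q hq' =>
    Subgroup.mem_centralizer_iff.1 (C.center_le_centralizer (hQZ hq')) t ht⟩))
  obtain ⟨E, hE⟩ := exists_factorSystem (F := C) (T := C.center)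
    (S' := (⊤ : Subgroup (↥T ⧸ (C.center).subgroupOf T)))
    (isNormal_stronglyClosed (isNormal_of_isCentral (isCentral_center C)))
    (θ := QuotientGroup.mk' _) (fun s => QuotientGroup.eq_one_iff s)
    (MonoidHom.range_eq_top.2 (QuotientGroup.mk'_surjective _))
  refine (hq.2.2 E hE).2.1 (eq_bot_iff.2 fun y _ => ?_)
  obtain ⟨x, rfl⟩ := QuotientGroup.mk'_surjective _ y
  exact Subgroup.mem_bot.2 ((QuotientGroup.eq_one_iff x).2 (hTZ x.2))

universe u

variable {Ω₀ : Type u} [Group Ω₀] {T₀ : Subgroup Ω₀}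

set_option maxHeartbeats 1600000 in
/-- A saturated system that is not constrained has a component. -/
theorem exists_component : ∀ (n : ℕ) {T : Subgroup Ω₀} (D : FusionSystem T), Nat.card T = n →
    Finite T → IsPGroup p T → Fact p.Prime → D.IsSaturated p → ¬ D.IsConstrained p →
    ∃ (U : Subgroup Ω₀) (C : FusionSystem U), C.IsComponentIn D p := by
  intro n
  induction n using Nat.strong_induction_on with
  | _ n ih =>
  intro T D hn hfin hT hp hD hncon
  haveI := hfin
  haveI := hp
  by_cases hbig : ∃ (U : Subgroup Ω₀) (E : FusionSystem U), U < T ∧ E.IsSubnormalIn D p ∧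
      E.IsSaturated p ∧ ¬ E.IsConstrained p
  · obtain ⟨U, E, hlt, hsub, hEs, hEc⟩ := hbig
    haveI := finite_of_le hlt.le
    obtain ⟨W, C, hC⟩ := ih (Nat.card U) (hn ▸ Set.Finite.card_lt_card (Set.toFinite _) hlt) E rfl
      inferInstance (hT.to_le hlt.le) hp hEs hEc
    exact ⟨W, C, isSubnormalIn_trans' hsub hC.1, hC.2⟩
  have hsmall : ∀ (U : Subgroup Ω₀) (E : FusionSystem U), U < T → E.IsSubnormalIn D p →
      E.IsSaturated p → E.IsConstrained p := fun U E h1 h2 h3 =>
    by_contra fun h4 => hbig ⟨U, E, h1, h2, h3, h4⟩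
  set Q := D.core with hQdef
  have hQn : D.IsNormal Q := isNormal_core D
  have hncent : ¬ centralizerIn T Q ≤ Q := fun h => hncon ((isConstrained_iff_core hD).2 h)
  -- a normal subsystem over the centralizer of the core
  obtain ⟨D1, hD1, hD1C, -⟩ := exists_normal_above_components hT hD
  have hCT : centralizerIn T Q = T := by
    by_contra hne
    have hlt : centralizerIn T Q < T := lt_of_le_of_ne (centralizerIn_le Q) hne
    haveI := finite_of_le hlt.le
    have h1 := centralizerIn_core_le (hsmall _ D1 hlt (.step (.refl _ _) hD1) hD1.1.1)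
    have h2 := core_le_core_of_normal hT hD hD1
    refine hncent fun c hc => h2 (h1 (mem_centralizerIn.2 ⟨hc, fun q hq => ?_⟩))
    exact (mem_centralizerIn.1 hc).2 q (h2 hq)
  -- the residual
  obtain ⟨R, hR⟩ := exists_pPrimeResidual hT hD
  have hRn : R.IsNormalIn D p := isNormalIn_residual hT ⟨hD, hD, isInvariantIn_self D⟩ hR
  have hRs : R.IsSaturated p := hR.1
  have hsubR : ∀ {U : Subgroup Ω₀} {E : FusionSystem U}, E.IsNormalIn R p → E.IsSubnormalIn D p :=
    fun hE => .step (.step (.refl _ _) hE) hRn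
  -- the residual centralizes the core
  have hQcen : R.IsCentral Q := by
    have hsc := hD1.1.2.2
    have hTs : ∀ (V : Subgroup Ω₀) (E : FusionSystem V), V = T → E.IsSaturated p → E.IsInvariantIn D →
        ∀ P, R.Hom P ⊆ E.Hom P := by
      rintro V E rfl hEs hEi P
      exact residual_le_invariant hT hD (isInvariantIn_self D) hEs hEi hR P
    refine (isCentral_iff hT hRs Q).2 ⟨hQn.1, ?_⟩
    rintro x hx y ⟨φ, hφ, rfl⟩
    obtain ⟨-, -, -, ψ, -, hψe, hψQ⟩ := hD1C _ (hTs _ D1 hCT hD1.1.1 hsc _ hφ)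
    rw [← hψe ⟨x, Subgroup.mem_zpowers x⟩]
    exact hψQ ⟨x, hx⟩
  have hQZ : Q ≤ R.center := le_sSup hQcen
  have hRQ : R.core ≤ Q := core_le_core_of_normal hT hD hRn
  have hZn : R.IsNormal R.center := isNormal_of_isCentral (isCentral_center R)
  have hZQ : R.center ≤ Q := (le_sSup hZn : R.center ≤ R.core).trans hRQ
  have hRnc : ¬ R.IsConstrained p := fun hc => by
    refine hncent fun c hc' => hRQ (centralizerIn_core_le hc (mem_centralizerIn.2
      ⟨(mem_centralizerIn.1 hc').1, fun q hq => (mem_centralizerIn.1 hc').2 q (hRQ hq)⟩))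
  -- proper normal subsystems are over central subgroups
  have hproper : ∀ (U : Subgroup Ω₀) (E : FusionSystem U), E.IsNormalIn R p → U < T → U ≤ R.center := by
    intro U E hE hlt
    haveI := finite_of_le hlt.le
    have h1 := centralizerIn_core_le (hsmall U E hlt (hsubR hE) hE.1.1)
    have h2 := (core_le_core_of_normal hT hRs hE).trans hRQ
    intro u hu
    refine hQZ (h2 (h1 (mem_centralizerIn.2 ⟨hu, fun q hq => ?_⟩)))
    exact ((mem_centralizerIn.1 (hCT.ge (hlt.le hu))).2 q (h2 hq))
  have hhyp : R.hyperfocalSubgroup p = T := by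
    by_contra hne
    have hlt : R.hyperfocalSubgroup p < T := lt_of_le_of_ne (hyperfocal_le R) hne
    obtain ⟨E, ⟨hEs, hEi⟩, -⟩ := existsUnique_pPower hT hRs _ hlt.le le_rfl
    have hEn := isNormalIn_of_pPower hT hRs hyperfocal_subgroupOf_normal le_rfl hlt.le hEs hEi
    exact hRnc (isConstrained_of_hyperfocal_le_center hT hRs (hproper _ E hEn hlt))
  refine ⟨T, R, .step (.refl _ _) hRn, hRs, hhyp, fun E hE => ?_⟩
  set θ := QuotientGroup.mk' ((R.center).subgroupOf T) with hθ
  have hker : ∀ s : T, θ s = 1 ↔ (s : Ω₀) ∈ R.center := fun s => QuotientGroup.eq_one_iff s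
  have hrange : θ.range = ⊤ := MonoidHom.range_eq_top.2 (QuotientGroup.mk'_surjective _)
  have hZs := isNormal_stronglyClosed hZn
  refine ⟨isSaturated_factor hT hRs hZs hE, fun hbot => ?_, fun U' N hN => ?_⟩
  · refine hncent fun c hc => hZQ ((hker ⟨c, (mem_centralizerIn.1 hc).1⟩).1 ?_)
    exact Subgroup.mem_bot.1 (hbot ▸ Subgroup.mem_top _)
  by_cases hU' : U' = ⊥
  · exact Or.inl hU'
  right
  have h : CentralLift.CSetup p R R.center θ E N := ⟨hT, hRs, isCentral_center R, hE, hN⟩
  have hUT : preimageAlong θ U' ≤ T := preimageAlong_le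
  haveI := finite_of_le hUT
  set M := CentralLift.genSystem θ R.center p R N with hMdef
  have hM := CentralLift.gen_isWeaklyNormal h
  obtain ⟨M0, hM0⟩ := exists_pPrimeResidual (hT.to_le hUT) hM.1
  have hM0n := isNormalIn_residual hT hM hM0
  have hUeq : preimageAlong θ U' = T := by
    by_contra hne
    have h1 := hproper _ M0 hM0n (lt_of_le_of_ne hUT hne)
    refine hU' (eq_bot_iff.2 fun y hy => ?_)
    obtain ⟨x, rfl⟩ := QuotientGroup.mk'_surjective _ y
    exact Subgroup.mem_bot.2 ((hker x).2 (h1 (mem_preimageAlong.2 ⟨x.2, hy⟩)))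
  have hU'top : U' = ⊤ := by
    rw [eq_top_iff]
    intro y _
    obtain ⟨x, rfl⟩ := QuotientGroup.mk'_surjective _ y
    exact (mem_preimageAlong.1 (hUeq.ge x.2)).2
  refine ⟨hU'top, fun P' => Set.Subset.antisymm (hN.1.2.2.1 P') fun ψ hψ => ?_⟩
  -- the residual lies in the lifted system
  have hRM : ∀ (V : Subgroup Ω₀) (L : FusionSystem V), V = T → L.IsWeaklyNormalIn R p →
      ∀ P, R.Hom P ⊆ L.Hom P := by
    rintro V L rfl ⟨hLs, -, hLi⟩
    obtain ⟨R', hR'⟩ := exists_pPrimeResidual hT hRs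
    have hle := residual_le_invariant hT hRs (isInvariantIn_self R) hLs hLi hR'
    intro P φ hφ
    refine hle P (hR.2.2 R' hR'.1 ⟨fun P φ h => hR.2.1.1 P (hR'.2.1.1 P h), fun P hP => ?_⟩ P hφ)
    rw [Subgroup.map_le_iff_le_comap, Subgroup.closure_le]
    rintro a ⟨k, hk⟩
    have haR : (a : MulAut P) ∈ R.autGroup P := hR.2.1.2 P hP ⟨a, Subgroup.subset_closure ⟨k, hk⟩, rfl⟩
    exact hR'.2.1.2 P hP ⟨⟨a, haR⟩, Subgroup.subset_closure ⟨k, by
      rw [Subgroup.orderOf_mk, ← hk, Subgroup.orderOf_coe]⟩, rfl⟩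
  obtain ⟨hP', φ, hφ, hi⟩ := (hE.2.2.2 P' ψ).1 hψ
  obtain ⟨-, ψ', hψ', hi'⟩ := (hRM _ M hUeq hM (preimageAlong θ P') hφ).1
  have him : imageAlong θ (preimageAlong θ P') = P' := imageAlong_preimageAlong hrange hP'
  refine hom_congr (restrict_mem hψ' him.ge) fun y => ?_
  obtain ⟨x, hx, hxP, hxy⟩ := mem_imageAlong.1 (him.ge y.2)
  exact (inducedAlong_apply hi (x := ⟨x, hxP⟩) (hxS := hx) hxy.symm (hx' := hom_mem hφ _)).trans
    (inducedAlong_apply hi' (x := ⟨x, hxP⟩) (hxS := hx) (y := Subgroup.inclusion him.ge y) hxy.symm).symm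

/-- Constrained systems are those without components. -/
theorem constrained_iff_no_component {Ω : Type u} [Group Ω] {S : Subgroup Ω} [Finite S] [Fact p.Prime]
    (hS : IsPGroup p S) (F : FusionSystem S) (hF : F.IsSaturated p) :
    F.IsConstrained p ↔ ¬ ∃ (T : Subgroup Ω) (C : FusionSystem T), C.IsComponentIn F p :=
  ⟨fun hc ⟨_, _, hC⟩ => not_component_of_constrained hS hc hC, fun hno => by_contra fun hc =>
    hno (exists_component _ F rfl inferInstance hS inferInstance hF hc)⟩

end Cfsg.Lib.FusionSys
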