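import Cfsg.Agent.Lib.FusionSys.ComponentExists

/-!
Constrainedness passes to centralizer systems, and back from the centralizer system of a normal subgroup.
-/

set_option autoImplicit false
set_option linter.style.haveILetI false

namespace Cfsg.Lib.FusionSys

open Cfsg Cfsg.FusionSystem

variable {Ω : Type*} [Group Ω] {S Y U : Subgroup Ω} {F : FusionSystem S} {p : ℕ}

theorem isFullyCentralized_of_normal (hY : F.IsNormal Y) [Finite S] : F.IsFullyCentralized Y := by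
  refine ⟨hY.1, fun R hR => ?_⟩
  obtain ⟨φ, hφ, rfl⟩ := hR
  rw [range_eq_of_card_le hφ hY.1
    (fun y => stronglyClosed_apply_mem (isNormal_stronglyClosed hY) hφ y.2) le_rfl]

theorem isConstrained_copy {T T' : Subgroup Ω} (h : T = T') {E : FusionSystem T}
    {E' : FusionSystem T'} (hh : ∀ P, E.Hom P = E'.Hom P) (hc : E'.IsConstrained p) :
    E.IsConstrained p := by
  subst h
  rw [fusionSystem_ext hh]
  exact hc

/-- An automorphism of `Y C_S(Y)` fixed by the system, preserving both factors, extending a map on `Y`. -/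
theorem exists_aut_sup [Finite S] [Fact p.Prime] (hS : IsPGroup p S) (hF : F.IsSaturated p)
    (hY : F.IsNormal Y) {C : Subgroup Ω} (hC : C = centralizerIn S Y) {φ : Y →* Ω} (hφ : φ ∈ F.Hom Y) :
    ∃ e : ↥(C ⊔ Y) ≃* ↥(C ⊔ Y), IsoIn F e ∧
      (∀ (y : Ω) (hy : y ∈ Y), ((e ⟨y, Subgroup.mem_sup_right hy⟩ : ↥(C ⊔ Y)) : Ω) = φ ⟨y, hy⟩) ∧
      (∀ (c : Ω) (hc : c ∈ C), ((e ⟨c, Subgroup.mem_sup_left hc⟩ : ↥(C ⊔ Y)) : Ω) ∈ C) := by
  have hr : φ.range = Y := range_eq_of_card_le hφ hY.1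
    (fun y => stronglyClosed_apply_mem (isNormal_stronglyClosed hY) hφ y.2) le_rfl
  haveI := finite_of_le hY.1
  have hrec : F.IsReceptive Y := isReceptive_of_fc hS hF (isFullyCentralized_of_normal hY)
  set a := homIso hφ hr
  have hM : C ⊔ Y ≤ S := sup_le (hC.le.trans (centralizerIn_le Y)) hY.1
  have hle : C ⊔ Y ≤ extender S Y (Y.subtype.comp a.toMonoidHom) :=
    sup_le (hC.le.trans (centralizerIn_le_extender _)) (le_extender hY.1 fun x => hY.1 (a x).2)
  obtain ⟨ψ, hψ, hψe⟩ := hrec.2 Y _ (isoIn_homIso hφ hr) (by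
    ext y
    constructor
    · rintro ⟨x, rfl⟩; exact (a x).2
    · intro hy; exact ⟨a.symm ⟨y, hy⟩, congrArg Subtype.val (a.apply_symm_apply ⟨y, hy⟩)⟩)
  have hψ' := restrict_mem hψ hle
  set ρ := ψ.comp (Subgroup.inclusion hle)
  have hρY : ∀ (y : Ω) (hy : y ∈ Y), ρ ⟨y, Subgroup.mem_sup_right hy⟩ = φ ⟨y, hy⟩ := fun y hy =>
    hψe y hy _
  have hρC : ∀ (c : Ω) (hc : c ∈ C), ρ ⟨c, Subgroup.mem_sup_left hc⟩ ∈ C := by
    intro c hc
    refine hC.ge ?_
    refine mem_centralizerIn.2 ⟨hom_mem hψ' _, fun y hy => ?_⟩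
    obtain ⟨z, rfl⟩ := hr.ge hy
    rw [← hρY z z.2, ← map_mul, ← map_mul]
    exact congrArg ρ (Subtype.ext ((mem_centralizerIn.1 (hC.le hc)).2 z z.2))
  have hsub : C.subgroupOf (C ⊔ Y) ⊔ Y.subgroupOf (C ⊔ Y) = ⊤ := by
    rw [← Subgroup.subgroupOf_sup le_sup_left le_sup_right, Subgroup.subgroupOf_self]
  have hv : ∀ x, ρ x ∈ C ⊔ Y := by
    intro x
    have : (⊤ : Subgroup ↥(C ⊔ Y)) ≤ (C ⊔ Y).comap ρ := by
      rw [← hsub]
      refine sup_le (fun c hc => ?_) fun y hy => ?_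
      · exact Subgroup.mem_sup_left (hρC c hc)
      · refine Subgroup.mem_sup_right ?_
        rw [hρY y hy]
        exact hr.le ⟨_, rfl⟩
    exact this (Subgroup.mem_top x)
  exact ⟨homIso hψ' (range_eq_of_card_le hψ' hM hv le_rfl), isoIn_homIso hψ' _, hρY, hρC⟩

/-- The centralizer system of a normal subgroup is invariant. -/
theorem isInvariantIn_centralizerSystem [Finite S] [Fact p.Prime] (hS : IsPGroup p S)
    (hF : F.IsSaturated p) (hY : F.IsNormal Y) {D : FusionSystem (centralizerIn S Y)}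
    (hD : F.IsCentralizerSystem Y D) : D.IsInvariantIn F := by
  have hCS : centralizerIn S Y ≤ S := centralizerIn_le Y
  have hnY := isNormal_stronglyClosed hY
  haveI := finite_of_le hY.1
  refine ⟨fun P φ hφ => (hD P ▸ hφ : φ ∈ F.centralizerHom Y P).1, ⟨hCS, fun R hR φ hφ x => ?_⟩,
    fun P hP φ hφ α hα => ?_, fun P hP φ hφ => ?_⟩
  · obtain ⟨ψ, hψ, hψe, hψY⟩ := hY.2 R φ hφ
    refine mem_centralizerIn.2 ⟨hom_mem hφ x, fun y hy => ?_⟩
    obtain ⟨z, hz, hzY, rfl⟩ := mem_map_subgroupOf.1 (hψY.ge hy)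
    rw [← hψe x, ← map_mul, ← map_mul]
    exact congrArg ψ (Subtype.ext ((mem_centralizerIn.1 (hR x.2)).2 z hzY))
  · rw [hD] at hφ
    obtain ⟨hφF, -, hv, ψ, hψ, hψe, hψY⟩ := hφ
    -- extend `α` to `C Y`, preserving `Y`
    obtain ⟨χ₀, hχ₀, hχe, hχY⟩ := hY.2 _ _ ((mem_autGroup hCS).1 hα)
    have hCY : centralizerIn S Y ⊔ Y ≤ S := sup_le hCS hY.1
    have hvY : ∀ x, χ₀ x ∈ centralizerIn S Y ⊔ Y := by
      intro x
      have hsub : (centralizerIn S Y).subgroupOf (centralizerIn S Y ⊔ Y) ⊔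
          Y.subgroupOf (centralizerIn S Y ⊔ Y) = ⊤ := by
        rw [← Subgroup.subgroupOf_sup le_sup_left le_sup_right, Subgroup.subgroupOf_self]
      have : (⊤ : Subgroup ↥(centralizerIn S Y ⊔ Y)) ≤ (centralizerIn S Y ⊔ Y).comap χ₀ := by
        rw [← hsub]
        refine sup_le (fun c hc => ?_) fun y hy => ?_
        · refine Subgroup.mem_sup_left ?_
          rw [show χ₀ c = _ from hχe ⟨c, hc⟩]
          exact (α ⟨c, hc⟩).2
        · exact Subgroup.mem_sup_right (hχY.le ⟨y, hy, rfl⟩)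
      exact this (Subgroup.mem_top x)
    set e := homIso hχ₀ (range_eq_of_card_le hχ₀ hCY hvY le_rfl)
    have he : IsoIn F e := isoIn_homIso hχ₀ _
    set P' := (P.subgroupOf (centralizerIn S Y)).map
      ((centralizerIn S Y).subtype.comp α.toMonoidHom) with hP'
    have hP'C : P' ≤ centralizerIn S Y := by
      rintro _ ⟨t, -, rfl⟩; exact (α t).2
    have hle : P' ⊔ Y ≤ centralizerIn S Y ⊔ Y := sup_le_sup_right hP'C Y
    have hsub : P'.subgroupOf (P' ⊔ Y) ⊔ Y.subgroupOf (P' ⊔ Y) = ⊤ := by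
      rw [← Subgroup.subgroupOf_sup le_sup_left le_sup_right, Subgroup.subgroupOf_self]
    -- the inverse of `e` carries `P' Y` into `P Y`
    have hfY : ∀ (y : Ω) (hy : y ∈ Y),
        ((e.symm ⟨y, Subgroup.mem_sup_right hy⟩ : ↥(centralizerIn S Y ⊔ Y)) : Ω) ∈ Y := by
      intro y hy
      obtain ⟨z, hz, hzY, he'⟩ := mem_map_subgroupOf.1 (hχY.ge hy)
      have : e.symm ⟨y, Subgroup.mem_sup_right hy⟩ = ⟨z, hz⟩ :=
        e.symm_apply_eq.2 (Subtype.ext he'.symm)
      rw [this]; exact hzY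
    have hfP : ∀ (t : centralizerIn S Y), e.symm ⟨(α t : Ω), Subgroup.mem_sup_left (α t).2⟩ =
        ⟨t, Subgroup.mem_sup_left t.2⟩ := fun t => e.symm_apply_eq.2 (Subtype.ext (hχe t).symm)
    have hg : ∀ x : ↥(P' ⊔ Y), ((e.symm (Subgroup.inclusion hle x) : ↥(centralizerIn S Y ⊔ Y)) : Ω) ∈
        P ⊔ Y := by
      intro x
      have : (⊤ : Subgroup ↥(P' ⊔ Y)) ≤ (P ⊔ Y).comap ((centralizerIn S Y ⊔ Y).subtype.comp
          (e.symm.toMonoidHom.comp (Subgroup.inclusion hle))) := by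
        rw [← hsub]
        refine sup_le (fun t ht => ?_) fun y hy => Subgroup.mem_sup_right (hfY y hy)
        obtain ⟨s, hs, hse⟩ := (Subgroup.mem_subgroupOf.1 ht : (t : Ω) ∈ P')
        refine Subgroup.mem_sup_left ?_
        have h1 : Subgroup.inclusion hle t = ⟨(α s : Ω), Subgroup.mem_sup_left (α s).2⟩ :=
          Subtype.ext hse.symm
        show ((e.symm (Subgroup.inclusion hle t) : ↥(centralizerIn S Y ⊔ Y)) : Ω) ∈ P
        rw [h1, hfP]
        exact hs
      exact this (Subgroup.mem_top x)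
    have h1 := F.comp_mem (restrict_mem he.symm hle) hψ hg
    have hψv : ∀ x, ψ x ∈ centralizerIn S Y ⊔ Y := by
      intro x
      have hsub' : P.subgroupOf (P ⊔ Y) ⊔ Y.subgroupOf (P ⊔ Y) = ⊤ := by
        rw [← Subgroup.subgroupOf_sup le_sup_left le_sup_right, Subgroup.subgroupOf_self]
      have : (⊤ : Subgroup ↥(P ⊔ Y)) ≤ (centralizerIn S Y ⊔ Y).comap ψ := by
        rw [← hsub']
        refine sup_le (fun c hc => ?_) fun y hy => ?_
        · refine Subgroup.mem_sup_left ?_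
          rw [show ψ c = _ from hψe ⟨c, hc⟩]
          exact hv ⟨c, hc⟩
        · refine Subgroup.mem_sup_right ?_
          rw [show ψ y = _ from hψY ⟨y, hy⟩]
          exact hy
      exact this (Subgroup.mem_top x)
    have h2 := F.comp_mem h1 he (fun x => hψv _)
    set Θ : ↥(P' ⊔ Y) →* Ω := ((centralizerIn S Y ⊔ Y).subtype.comp e.toMonoidHom).comp
      (((ψ.comp ((((centralizerIn S Y ⊔ Y).subtype.comp e.symm.toMonoidHom).comp
        (Subgroup.inclusion hle)).codRestrict (P ⊔ Y) hg))).codRestrict _ fun x => hψv _)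
    have hΘY : ∀ y : Y, Θ (Subgroup.inclusion le_sup_right y) = y := by
      intro y
      have h3 := hfY y y.2
      have h4 : ψ ⟨_, Subgroup.mem_sup_right h3⟩ =
          ((e.symm ⟨y, Subgroup.mem_sup_right y.2⟩ : ↥(centralizerIn S Y ⊔ Y)) : Ω) := hψY ⟨_, h3⟩
      show ((e ⟨ψ ⟨_, _⟩, _⟩ : ↥(centralizerIn S Y ⊔ Y)) : Ω) = y
      refine (congrArg (fun w => ((e w : ↥(centralizerIn S Y ⊔ Y)) : Ω))
        (Subtype.ext h4 : (⟨ψ ⟨_, Subgroup.mem_sup_right h3⟩, hψv _⟩ : ↥(centralizerIn S Y ⊔ Y)) =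
          e.symm ⟨y, Subgroup.mem_sup_right y.2⟩)).trans ?_
      rw [e.apply_symm_apply]
    have hΘP : ∀ (x : P) (hx : ((α ⟨x, hP x.2⟩ : centralizerIn S Y) : Ω) ∈ P'),
        Θ ⟨_, Subgroup.mem_sup_left hx⟩ = ((α ⟨φ x, hv x⟩ : centralizerIn S Y) : Ω) := by
      intro x hx
      show ((e ⟨ψ ⟨((e.symm _ : ↥(centralizerIn S Y ⊔ Y)) : Ω), _⟩, _⟩ : ↥(centralizerIn S Y ⊔ Y)) : Ω) = _
      have h3 : (e.symm (Subgroup.inclusion hle ⟨_, Subgroup.mem_sup_left hx⟩)) =
          ⟨x, Subgroup.mem_sup_left (hP x.2)⟩ := hfP ⟨x, hP x.2⟩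
      have h4 : ψ ⟨((e.symm (Subgroup.inclusion hle ⟨_, Subgroup.mem_sup_left hx⟩) :
          ↥(centralizerIn S Y ⊔ Y)) : Ω), hg ⟨_, Subgroup.mem_sup_left hx⟩⟩ = φ x :=
        (congrArg ψ (Subtype.ext (congrArg (fun w : ↥(centralizerIn S Y ⊔ Y) => (w : Ω)) h3 :) :
          (⟨_, hg ⟨_, Subgroup.mem_sup_left hx⟩⟩ : ↥(P ⊔ Y)) = Subgroup.inclusion le_sup_left x)).trans (hψe x)
      refine (congrArg (fun w => ((e w : ↥(centralizerIn S Y ⊔ Y)) : Ω))
        (Subtype.ext h4 : (⟨_, hψv _⟩ : ↥(centralizerIn S Y ⊔ Y)) =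
          ⟨φ x, Subgroup.mem_sup_left (hv x)⟩)).trans ?_
      exact hχe ⟨φ x, hv x⟩
    refine ⟨Θ.comp (Subgroup.inclusion le_sup_left), ?_, fun x hφx hαx => hΘP x hαx⟩
    rw [hD]
    refine ⟨restrict_mem h2 le_sup_left, hP'C, ?_, Θ, h2, fun x => rfl, hΘY⟩
    rintro ⟨_, s, hs, rfl⟩
    exact (hΘP ⟨s, hs⟩ ⟨s, hs, rfl⟩).symm ▸ (α _).2
  · have hPS : P ≤ S := hom_le hφ
    obtain ⟨ψ, hψ, hψe, hψY⟩ := hY.2 P φ hφ
    obtain ⟨e, he, heY, heC⟩ := exists_aut_sup hS hF hY rfl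
      (restrict_mem hψ (le_sup_right : Y ≤ P ⊔ Y))
    have hsub : P.subgroupOf (P ⊔ Y) ⊔ Y.subgroupOf (P ⊔ Y) = ⊤ := by
      rw [← Subgroup.subgroupOf_sup le_sup_left le_sup_right, Subgroup.subgroupOf_self]
    have hφC : ∀ x : P, φ x ∈ centralizerIn S Y := by
      intro x
      refine mem_centralizerIn.2 ⟨hom_mem hφ x, fun y hy => ?_⟩
      obtain ⟨z, hz, hzY, rfl⟩ := mem_map_subgroupOf.1 (hψY.ge hy)
      rw [← hψe x, ← map_mul, ← map_mul]
      exact congrArg ψ (Subtype.ext ((mem_centralizerIn.1 (hP x.2)).2 z hzY))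
    have hψv : ∀ x, ψ x ∈ centralizerIn S Y ⊔ Y := by
      intro x
      have : (⊤ : Subgroup ↥(P ⊔ Y)) ≤ (centralizerIn S Y ⊔ Y).comap ψ := by
        rw [← hsub]
        refine sup_le (fun c hc => ?_) fun y hy => Subgroup.mem_sup_right (hψY.le ⟨y, hy, rfl⟩)
        refine Subgroup.mem_sup_left ?_
        rw [show ψ c = _ from hψe ⟨c, hc⟩]
        exact hφC ⟨c, hc⟩
      exact this (Subgroup.mem_top x)
    have hCC : centralizerIn S Y ≤ centralizerIn S Y ⊔ Y := le_sup_left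
    have hρ := restrict_mem he hCC
    set α := homIso hρ (range_eq_of_card_le hρ hCS (fun c => heC c c.2) le_rfl) with hα
    have hθ := F.comp_mem hψ he.symm hψv
    set θ : ↥(P ⊔ Y) →* Ω := ((centralizerIn S Y ⊔ Y).subtype.comp e.symm.toMonoidHom).comp
      (ψ.codRestrict _ hψv)
    have hθY : ∀ y : Y, θ (Subgroup.inclusion le_sup_right y) = y := by
      intro y
      show ((e.symm ⟨ψ _, _⟩ : ↥(centralizerIn S Y ⊔ Y)) : Ω) = y
      rw [show (⟨ψ (Subgroup.inclusion le_sup_right y), hψv _⟩ : ↥(centralizerIn S Y ⊔ Y)) =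
        e ⟨y, Subgroup.mem_sup_right y.2⟩ from Subtype.ext (heY y y.2).symm, e.symm_apply_apply]
    have hθP : ∀ x : P, θ (Subgroup.inclusion le_sup_left x) =
        ((α.symm ⟨φ x, hφC x⟩ : centralizerIn S Y) : Ω) := by
      intro x
      show ((e.symm ⟨ψ _, _⟩ : ↥(centralizerIn S Y ⊔ Y)) : Ω) = _
      have hh : ((α (α.symm ⟨φ x, hφC x⟩) : centralizerIn S Y) : Ω) = φ x := by
        rw [MulEquiv.apply_symm_apply]
      have h : e (Subgroup.inclusion hCC (α.symm ⟨φ x, hφC x⟩)) =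
          ⟨φ x, Subgroup.mem_sup_left (hφC x)⟩ :=
        Subtype.ext hh
      rw [show (⟨ψ (Subgroup.inclusion le_sup_left x), hψv _⟩ : ↥(centralizerIn S Y ⊔ Y)) =
        e (Subgroup.inclusion hCC (α.symm ⟨φ x, hφC x⟩)) from
          h ▸ Subtype.ext (hψe x), e.symm_apply_apply]
      rfl
    refine ⟨α, (mem_autGroup hCS).2 (isoIn_homIso hρ _), θ.comp (Subgroup.inclusion le_sup_left), ?_,
      fun x hx => ?_⟩
    · rw [hD]
      exact ⟨restrict_mem hθ le_sup_left, hP, fun x => (hθP x).symm ▸ (α.symm _).2, θ, hθ,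
        fun x => rfl, hθY⟩
    · rw [show (⟨θ.comp (Subgroup.inclusion le_sup_left) x, hx⟩ : centralizerIn S Y) =
        α.symm ⟨φ x, hφC x⟩ from Subtype.ext (hθP x), α.apply_symm_apply]

/-- A saturated system in which the centralizer system of a normal subgroup is constrained is constrained. -/
theorem isConstrained_of_centralizerSystem [Finite S] [Fact p.Prime] (hS : IsPGroup p S)
    (hF : F.IsSaturated p) (hY : F.IsNormal Y) {D : FusionSystem (centralizerIn S Y)}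
    (hD : F.IsCentralizerSystem Y D) (hc : D.IsConstrained p) : F.IsConstrained p := by
  have hinv := isInvariantIn_centralizerSystem hS hF hY hD
  haveI := finite_of_le (centralizerIn_le (S := S) Y)
  have hR : F.IsNormal D.core := isNormal_of_invariant hS hF hinv (isNormal_core D) fun α hα t ht =>
    (le_sSup (isNormal_autImage hinv hα (isNormal_core D)) : autImage α D.core ≤ D.core) ⟨t, ht, rfl⟩
  rw [isConstrained_iff_core hF]
  intro c hc'
  obtain ⟨hcS, hcc⟩ := mem_centralizerIn.1 hc'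
  have hYc : Y ≤ F.core := le_sSup hY
  have hRc : D.core ≤ F.core := le_sSup hR
  exact hRc (centralizerIn_core_le hc (mem_centralizerIn.2
    ⟨mem_centralizerIn.2 ⟨hcS, fun y hy => hcc y (hYc hy)⟩, fun r hr => hcc r (hRc hr)⟩))

set_option maxHeartbeats 1200000 in
/-- Centralizer systems of fully centralized subgroups in constrained systems are constrained. -/
theorem isConstrained_centralizerSystem [Finite S] [Fact p.Prime] (hS : IsPGroup p S)
    (hF : F.IsConstrained p) (hU : F.IsFullyCentralized U) {D : FusionSystem (centralizerIn S U)}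
    (hD : F.IsCentralizerSystem U D) : D.IsConstrained p := by
  have hsat := isSaturated_centralizerSystem hS hF.1 hU hD
  haveI := finite_of_le (centralizerIn_le (S := S) U)
  have hTp : IsPGroup p (centralizerIn S U) := hS.to_le (centralizerIn_le U)
  have hQc := centralizerIn_core_le hF
  have hQ := isNormal_core F
  set Q := F.core
  set Y := Q ⊓ centralizerIn S U with hYdef
  have hYS : Y ≤ centralizerIn S U := inf_le_right
  haveI := finite_of_le (hYS.trans (centralizerIn_le U))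
  have hY : D.IsNormal Y := by
    refine ⟨hYS, fun P φ hφ => ?_⟩
    rw [hD] at hφ
    obtain ⟨hφF, hP, hv, ψ, hψ, hψe, hψU⟩ := hφ
    obtain ⟨ρ, hρ, hρe, hρQ⟩ := hQ.2 _ ψ hψ
    have hle : (P ⊔ Y) ⊔ U ≤ (P ⊔ U) ⊔ Q :=
      sup_le (sup_le (le_sup_left.trans le_sup_left) (inf_le_left.trans le_sup_right))
        (le_sup_right.trans le_sup_left)
    have h1 := restrict_mem hρ hle
    set θ := ρ.comp (Subgroup.inclusion hle)
    have hθU : ∀ u : U, θ (Subgroup.inclusion le_sup_right u) = u := fun u =>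
      (hρe (Subgroup.inclusion le_sup_right u)).trans (hψU u)
    have hθC : ∀ (z : Ω) (hz : z ∈ (P ⊔ Y) ⊔ U), (∀ u ∈ U, z * u = u * z) →
        θ ⟨z, hz⟩ ∈ centralizerIn S U := fun z hz hzu =>
      mem_centralizerIn.2 ⟨hom_mem h1 _, fun u hu => by
        have h := congrArg θ (Subtype.ext (hzu u hu) :
          (⟨z, hz⟩ : ↥((P ⊔ Y) ⊔ U)) * Subgroup.inclusion le_sup_right ⟨u, hu⟩ =
            Subgroup.inclusion le_sup_right ⟨u, hu⟩ * ⟨z, hz⟩)
        rw [map_mul, map_mul, hθU ⟨u, hu⟩] at h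
        exact h⟩
    have hPYS : P ⊔ Y ≤ centralizerIn S U := sup_le hP hYS
    have h3 := restrict_mem h1 (le_sup_left : P ⊔ Y ≤ (P ⊔ Y) ⊔ U)
    refine ⟨θ.comp (Subgroup.inclusion le_sup_left), ?_, fun x => ?_, ?_⟩
    · rw [hD]
      exact ⟨h3, hPYS, fun x => hθC x _ (mem_centralizerIn.1 (hPYS x.2)).2, θ, h1, fun _ => rfl, hθU⟩
    · exact (hρe (Subgroup.inclusion le_sup_left x)).trans (hψe x)
    · haveI := finite_of_le ((sup_le (hPYS.trans (centralizerIn_le U)) le_rfl :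
        (P ⊔ Y) ⊔ S ≤ S).trans' le_sup_left)
      refine Subgroup.eq_of_le_of_card_ge ?_ (le_of_eq ?_)
      · intro y hy
        obtain ⟨z, hz, hzY, rfl⟩ := mem_map_subgroupOf.1 hy
        exact Subgroup.mem_inf.2 ⟨hρQ.le ⟨⟨z, hle (Subgroup.mem_sup_left hz)⟩, hzY.1, rfl⟩,
          hθC z _ (mem_centralizerIn.1 hzY.2).2⟩
      · rw [Nat.card_congr ((Subgroup.equivMapOfInjective _ _
          (F.injective_of_mem h3)).symm.toEquiv)]
        exact (Nat.card_congr (Subgroup.subgroupOfEquivOfLe le_sup_right).toEquiv).symm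
  obtain ⟨D', hD'⟩ := exists_centralizerSystem D hY.1
  have hsat' := isSaturated_centralizerSystem hTp hsat (isFullyCentralized_of_normal hY) hD'
  haveI := finite_of_le (centralizerIn_le (S := centralizerIn S U) Y)
  refine isConstrained_of_centralizerSystem hTp hsat hY hD'
    (isConstrained_of_hyperfocal_le_center (hTp.to_le (centralizerIn_le Y)) hsat' ?_)
  refine hyperfocal_le_of_coprime fun P hP α hα hc x => ?_
  have hPT : P ≤ centralizerIn S U := hP.trans (centralizerIn_le Y)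
  have hPS : P ≤ S := hPT.trans (centralizerIn_le U)
  haveI := finite_of_le hPS
  suffices hfix : α x = x by
    rw [hfix, inv_mul_cancel]; exact Subgroup.one_mem _
  have h := (mem_autGroup hP).1 hα
  rw [IsoIn, hD'] at h
  obtain ⟨-, -, -, ψ₀, hψ₀, hψ₀e, hψ₀Y⟩ := h
  rw [hD] at hψ₀
  obtain ⟨-, -, -, ψ₁, hψ₁, hψ₁e, hψ₁U⟩ := hψ₀
  set W := (P ⊔ Y ⊔ U) ⊔ Q with hW
  obtain ⟨ρ, hρ, hρe, hρQ⟩ : ∃ ρ ∈ F.Hom W, (∀ x : ↥(P ⊔ Y ⊔ U), ρ (Subgroup.inclusion le_sup_left x) = ψ₁ x) ∧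
      (Q.subgroupOf W).map ρ = Q := hQ.2 _ ψ₁ hψ₁
  have hWS : W ≤ S := hom_le hρ
  have iP : P ≤ W := le_sup_left.trans (le_sup_left.trans le_sup_left)
  have iY : Y ≤ W := inf_le_left.trans le_sup_right
  have iU : U ≤ W := le_sup_right.trans le_sup_left
  have iQ : Q ≤ W := le_sup_right
  have hρP : ∀ x : P, ρ (Subgroup.inclusion iP x) = α x := fun x =>
    ((hρe (Subgroup.inclusion le_sup_left (Subgroup.inclusion le_sup_left x))).trans
      (hψ₁e _)).trans (hψ₀e x)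
  have hρY : ∀ y : Y, ρ (Subgroup.inclusion iY y) = y := fun y =>
    ((hρe (Subgroup.inclusion le_sup_left (Subgroup.inclusion le_sup_right y))).trans
      (hψ₁e _)).trans (hψ₀Y y)
  have hρU : ∀ u : U, ρ (Subgroup.inclusion iU u) = u := fun u =>
    (hρe (Subgroup.inclusion le_sup_right u)).trans (hψ₁U u)
  have hv : ∀ w, ρ w ∈ W := by
    intro w
    have hsub : (P.subgroupOf W ⊔ Y.subgroupOf W ⊔ U.subgroupOf W) ⊔ Q.subgroupOf W = ⊤ := by
      rw [← Subgroup.subgroupOf_sup iP iY, ← Subgroup.subgroupOf_sup (sup_le iP iY) iU,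
        ← Subgroup.subgroupOf_sup (sup_le (sup_le iP iY) iU) iQ, Subgroup.subgroupOf_self]
    have : (⊤ : Subgroup W) ≤ W.comap ρ := by
      rw [← hsub]
      refine sup_le (sup_le (sup_le (fun z hz => ?_) fun z hz => ?_) fun z hz => ?_) fun z hz => ?_
      · exact iP ((hρP ⟨z, hz⟩).symm ▸ (α ⟨z, hz⟩).2)
      · exact iY ((hρY ⟨z, hz⟩).symm ▸ hz)
      · exact iU ((hρU ⟨z, hz⟩).symm ▸ hz)
      · exact iQ (hρQ.le ⟨z, hz, rfl⟩)
    exact this (Subgroup.mem_top w)
  haveI := finite_of_le hWS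
  set γ : MulAut W := homIso hρ (range_eq_of_card_le hρ hWS hv le_rfl) with hγdef
  haveI : Finite (MulAut W) := Finite.of_injective (fun f => (f : W → W)) DFunLike.coe_injective
  obtain ⟨k, m, hm, hkm⟩ := Nat.exists_eq_pow_mul_and_not_dvd (orderOf_pos γ).ne' p
    (Fact.out : p.Prime).ne_one
  set γ' := γ ^ p ^ k with hγ'
  have hord : (orderOf γ').Coprime p := by
    have : orderOf γ' ∣ m := orderOf_dvd_of_pow_eq_one (by rw [hγ', ← pow_mul, ← hkm, pow_orderOf_eq_one])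
    exact (((Fact.out : p.Prime).coprime_iff_not_dvd.2 hm).symm).coprime_dvd_left this
  have hfixY : ∀ y : Y, γ (Subgroup.inclusion iY y) = Subgroup.inclusion iY y := fun y =>
    Subtype.ext (hρY y)
  have hfixU : ∀ u : U, γ (Subgroup.inclusion iU u) = Subgroup.inclusion iU u := fun u =>
    Subtype.ext (hρU u)
  have hpowfix : ∀ (n : ℕ) (w : W), γ w = w → (γ ^ n) w = w := by
    intro n w hw
    induction n with
    | zero => rfl
    | succ n ih => rw [pow_succ, MulAut.mul_apply, hw, ih]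
  have hWp : IsPGroup p W := hS.to_le hWS
  have hQnorm : ∀ g ∈ S, ∀ q ∈ Q, g * q * g⁻¹ ∈ Q := fun g hg q hq => by
    have := (isNormal_stronglyClosed hQ).2 Q le_rfl _ (F.conj_mem hQ.1 hg) ⟨q, hq⟩
    exact this
  -- the fixed points in `U Q`
  set R := (U ⊔ Q).subgroupOf W
  have hRp : IsPGroup p R := hWp.to_subgroup R
  set K : Subgroup R := (γ'.toMonoidHom.eqLocus (MonoidHom.id W)).comap R.subtype
  have hK : ∀ r : R, r ∈ K ↔ γ' r = r := fun r => Iff.rfl
  have hRnc : NormalizerCondition R := by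
    haveI := hRp.isNilpotent
    exact Group.normalizerCondition_of_isNilpotent
  have hQfix : K = ⊤ := by
    refine normalizerCondition_iff_only_full_group_self_normalizing.1 hRnc K
      (le_antisymm (fun n hn => ?_) Subgroup.le_normalizer)
    rw [hK]
    refine eq_one_of_coprime_fix hWp hord ?_
    set d : W := (n : W)⁻¹ * γ' n with hd
    -- `d` lies in `Q`
    have hdQ : (d : Ω) ∈ Q := by
      have h2 : (n : W) ∈ U.subgroupOf W ⊔ Q.subgroupOf W := by
        rw [← Subgroup.subgroupOf_sup iU iQ]; exact n.2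
      haveI hQn : (Q.subgroupOf W).Normal := ⟨fun q hq g => hQnorm g (hWS g.2) q hq⟩
      obtain ⟨u, hu, q, hq, huq⟩ := Subgroup.mem_sup_of_normal_right.1 h2
      have hq' : ∀ j : ℕ, ((γ ^ j) q : W) ∈ Q.subgroupOf W := by
        intro j
        induction j with
        | zero => exact hq
        | succ j ih =>
          rw [pow_succ', MulAut.mul_apply]
          exact hρQ.le ⟨(γ ^ j) q, ih, rfl⟩
      rw [hd, ← huq, map_mul, hpowfix _ u (hfixU ⟨u, hu⟩), mul_inv_rev,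
        mul_assoc, inv_mul_cancel_left]
      exact (Q.subgroupOf W).mul_mem ((Q.subgroupOf W).inv_mem hq) (hq' _)
    -- `d` centralizes `U`
    have hdU : ∀ u ∈ U, (d : Ω) * u = u * d := by
      intro u hu
      let r : R := ⟨⟨u, iU hu⟩, Subgroup.mem_sup_left hu⟩
      have hr : r ∈ K := hpowfix _ _ (hfixU ⟨u, hu⟩)
      have h3 : γ' (n * r * n⁻¹ : R) = ((n * r * n⁻¹ : R) : W) :=
        (Subgroup.mem_normalizer_iff.1 hn r).1 hr
      rw [Subgroup.coe_mul, Subgroup.coe_mul, Subgroup.coe_inv, map_mul, map_mul, map_inv,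
        show γ' (r : W) = r from hr] at h3
      have h4 : d * r = r * d := by
        rw [hd]
        calc (n : W)⁻¹ * γ' n * r = (n : W)⁻¹ * (γ' n * r * (γ' n)⁻¹) * γ' n := by group
          _ = _ := by rw [h3]; group
      exact congrArg Subtype.val h4
    have hdY : (d : Ω) ∈ Y :=
      Subgroup.mem_inf.2 ⟨hdQ, mem_centralizerIn.2 ⟨hQ.1 hdQ, hdU⟩⟩
    exact hpowfix _ d (hfixY ⟨d, hdY⟩)
  have hfixQ : ∀ q : W, (q : Ω) ∈ Q → γ' q = q := fun q hq =>
    (hK ⟨q, Subgroup.mem_sup_right hq⟩).1 (hQfix ▸ Subgroup.mem_top _)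
  have hfixP : γ' (Subgroup.inclusion iP x) = Subgroup.inclusion iP x := by
    refine eq_one_of_coprime_fix hWp hord (hfixQ _ (hQc ?_))
    refine mem_centralizerIn.2 ⟨hWS (Subtype.mem _), fun q hq => ?_⟩
    set g := Subgroup.inclusion iP x
    let q' : W := ⟨q, iQ hq⟩
    have h5 : γ' (g * q' * g⁻¹) = g * q' * g⁻¹ := hfixQ _ (hQnorm g (hWS g.2) q hq)
    rw [map_mul, map_mul, map_inv, hfixQ q' hq] at h5
    have h6 : g⁻¹ * γ' g * q' = q' * (g⁻¹ * γ' g) := by
      calc g⁻¹ * γ' g * q' = g⁻¹ * (γ' g * q' * (γ' g)⁻¹) * γ' g := by group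
        _ = _ := by rw [h5]; group
    exact congrArg Subtype.val h6
  have hagree : ∀ (n : ℕ), (γ ^ n) (Subgroup.inclusion iP x) = Subgroup.inclusion iP ((α ^ n) x) := by
    intro n
    induction n with
    | zero => rfl
    | succ n ih =>
      rw [pow_succ', MulAut.mul_apply, ih, pow_succ', MulAut.mul_apply]
      exact Subtype.ext (hρP ((α ^ n) x))
  have hαk : (α ^ p ^ k) x = x :=
    Subgroup.inclusion_injective iP ((hagree _).symm.trans hfixP)
  obtain ⟨j, hj⟩ := exists_pow_eq_self_of_coprime (((hc.pow_right k)).symm)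
  have hit : ∀ j : ℕ, ((α ^ p ^ k) ^ j) x = x := by
    intro j
    induction j with
    | zero => rfl
    | succ j ih => rw [pow_succ, MulAut.mul_apply, hαk, ih]
  conv_lhs => rw [← hj]
  exact hit j

end Cfsg.Lib.FusionSys
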