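import Cfsg.Agent.Lib.FusionSys.Constrained
import Cfsg.Agent.Lib.FusionSys.NormalSubgroup
import Cfsg.Agent.Lib.FusionSys.Factor
import Mathlib.GroupTheory.IsSubnormal

/-!
# Fusion systems of subnormal subgroups of groups with constrained fusion system
-/

set_option autoImplicit false

namespace Cfsg.Lib.FusionSys

open Cfsg Cfsg.FusionSystem

/-- Constrainedness passes along an injective homomorphism of the ambient groups. -/
theorem isConstrained_of_injective {Ω Ω' : Type*} [Group Ω] [Group Ω'] {p : ℕ} (f : Ω' →* Ω)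
    (hf : Function.Injective f) {S' : Subgroup Ω'} [Finite S'] {S : Subgroup Ω} [Finite S]
    (hS : S'.map f = S) {E : FusionSystem S'} {D : FusionSystem S} (hsat : E.IsSaturated p)
    (h : ∀ (P' : Subgroup Ω') (φ' : P' →* Ω'), φ' ∈ E.Hom P' ↔
      P' ≤ S' ∧ (∀ x, φ' x ∈ S') ∧ ∃ ψ ∈ D.Hom (P'.map f),
        ∀ x : P', ψ ⟨f x, Subgroup.mem_map_of_mem f x.2⟩ = f (φ' x))
    (hD : D.IsConstrained p) : E.IsConstrained p := by
  obtain ⟨-, Q, hQ, hQc⟩ := hD
  set Q' := Q.comap f with hQ'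
  have hQ'S : Q' ≤ S' := fun x hx => by
    obtain ⟨y, hy, hyx⟩ := hS.ge (hQ.1 hx)
    rwa [hf hyx] at hy
  have hmapQ : Q'.map f = Q := by
    refine le_antisymm (Subgroup.map_comap_le f Q) fun q hq => ?_
    obtain ⟨y, -, rfl⟩ := hS.ge (hQ.1 hq)
    exact ⟨y, hq, rfl⟩
  let e : S' ≃* S := (S'.equivMapOfInjective f hf).trans (MulEquiv.subgroupCongr hS)
  have he : ∀ s : S', ((e s : S) : Ω) = f s := fun s => rfl
  have hei : ∀ s : S, f ((e.symm s : S') : Ω') = s := fun s => by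
    rw [← he, MulEquiv.apply_symm_apply]
  have hN : E.IsNormal Q' := by
    refine ⟨hQ'S, fun P φ hφ => ?_⟩
    obtain ⟨hP, hv, ψ, hψ, hψe⟩ := (h P φ).1 hφ
    obtain ⟨χ, hχ, hχe, hχQ⟩ := hQ.2 _ ψ hψ
    have hm : (P ⊔ Q').map f = P.map f ⊔ Q := by rw [Subgroup.map_sup, hmapQ]
    let g : (P ⊔ Q' : Subgroup Ω') →* S :=
      (χ.comp ((f.comp (P ⊔ Q').subtype).codRestrict _ fun x => hm.le
        (Subgroup.mem_map_of_mem f x.2))).codRestrict S fun x => hom_mem hχ _
    let χ' : (P ⊔ Q' : Subgroup Ω') →* Ω' := S'.subtype.comp (e.symm.toMonoidHom.comp g)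
    have hχ'f : ∀ x : (P ⊔ Q' : Subgroup Ω'),
        f (χ' x) = χ ⟨f x, hm.le (Subgroup.mem_map_of_mem f x.2)⟩ := fun x => hei (g x)
    have hsup : P ⊔ Q' ≤ S' := sup_le hP hQ'S
    refine ⟨χ', (h _ _).2 ⟨hsup, fun x => (e.symm (g x)).2, _, restrict_mem hχ hm.le,
      fun x => (hχ'f x).symm⟩, fun x => hf ?_, ?_⟩
    · rw [hχ'f, ← hψe, ← hχe ⟨f x, Subgroup.mem_map_of_mem f x.2⟩]
      exact congrArg χ (Subtype.ext rfl)
    · ext y
      rw [mem_map_subgroupOf]
      constructor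
      · rintro ⟨x, hx, hxQ, rfl⟩
        show f (χ' ⟨x, hx⟩) ∈ Q
        rw [hχ'f]
        exact hχQ.le ((mem_map_subgroupOf (ψ := χ)).2 ⟨f x, _, hxQ, rfl⟩)
      · intro hy
        obtain ⟨z, hz, hzQ, hzy⟩ := (mem_map_subgroupOf (ψ := χ)).1 (hχQ.ge (show f y ∈ Q from hy))
        obtain ⟨x, hx, rfl⟩ := hmapQ.ge hzQ
        exact ⟨x, Subgroup.mem_sup_right hx, hx, hf ((hχ'f _).trans hzy)⟩
  refine ⟨hsat, Q', hN, isCentric_of_isNormal hN fun c hc => ?_⟩
  obtain ⟨hcS, hcc⟩ := mem_centralizerIn.1 hc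
  refine hQc.2 Q (isConj_refl D hQ.1) (mem_centralizerIn.2 ⟨hS.le ⟨c, hcS, rfl⟩, fun q hq => ?_⟩)
  obtain ⟨x, hx, rfl⟩ := hmapQ.ge hq
  rw [← map_mul, ← map_mul, hcc x hx]

variable {G : Type*} [Group G] [Finite G] {p : ℕ} [Fact p.Prime]

theorem isConstrained_subnormal (S : Sylow p G)
    (hF : (groupFusionSystem (S : Subgroup G)).IsConstrained p) {H : Subgroup G} (hH : H.IsSubnormal) :
    (∃ R : Sylow p H, (R : Subgroup H) = (S : Subgroup G).subgroupOf H) ∧
      (groupFusionSystem ((S : Subgroup G).subgroupOf H)).IsConstrained p := by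
  induction hH with
  | top =>
    obtain ⟨R, hR⟩ := exists_sylow_of_normal S (⊤ : Subgroup G)
    refine ⟨⟨R, hR⟩, ?_⟩
    rw [← hR]
    refine isConstrained_of_injective (⊤ : Subgroup G).subtype (Subgroup.subtype_injective _) ?_
      (isSaturated_groupFusionSystem R) (fun P φ => ?_) hF
    · rw [hR, Subgroup.subgroupOf_map_subtype, inf_top_eq]
    · constructor
      · rintro ⟨h1, h2, g, hg⟩
        refine ⟨h1, h2, conjHom _ (g : G), ⟨?_, ?_, g, fun _ => rfl⟩, fun x => ?_⟩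
        · rintro _ ⟨y, hy, rfl⟩; exact hR.le (h1 hy)
        · rintro ⟨_, y, hy, rfl⟩
          have h3 := hR.le (h2 ⟨y, hy⟩)
          rw [Subgroup.mem_subgroupOf, hg] at h3
          exact h3
        · show (g : G) * (x : (⊤ : Subgroup G)) * (g : G)⁻¹ = ((φ x : (⊤ : Subgroup G)) : G)
          rw [hg]; rfl
      · rintro ⟨h1, h2, ψ, ⟨-, -, g, hg⟩, hψ⟩
        refine ⟨h1, h2, ⟨g, Subgroup.mem_top g⟩, fun x => Subtype.ext ?_⟩
        show ((φ x : (⊤ : Subgroup G)) : G) = _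
        exact (hψ x).symm.trans (hg _)
  | step H K hle hK hN ih =>
    obtain ⟨⟨RK, hRK⟩, hC⟩ := ih
    rw [← hRK] at hC
    haveI := hN
    obtain ⟨R', hR'⟩ := exists_sylow_of_normal RK (H.subgroupOf K)
    let e : H.subgroupOf K ≃* H := Subgroup.subgroupOfEquivOfLe hle
    let R : Sylow p H := R'.mapSurjective (f := e.toMonoidHom) e.surjective
    have hRe : (R : Subgroup H) = (S : Subgroup G).subgroupOf H := by
      show (R' : Subgroup (H.subgroupOf K)).map e.toMonoidHom = _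
      rw [hR', hRK]
      ext x
      constructor
      · rintro ⟨y, hy, rfl⟩; exact hy
      · intro hx
        exact ⟨e.symm x, hx, e.apply_symm_apply x⟩
    refine ⟨⟨R, hRe⟩, ?_⟩
    rw [← hRe]
    have hmap : (R : Subgroup H).map (Subgroup.inclusion hle) =
        (RK : Subgroup K) ⊓ H.subgroupOf K := by
      rw [hRe, hRK]
      ext x
      constructor
      · rintro ⟨y, hy, rfl⟩; exact ⟨hy, y.2⟩
      · rintro ⟨hx1, hx2⟩
        exact ⟨⟨x, hx2⟩, hx1, Subtype.ext rfl⟩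
    refine isConstrained_of_injective (Subgroup.inclusion hle) (Subgroup.inclusion_injective hle)
      hmap (isSaturated_groupFusionSystem R) (fun P φ => ?_)
      (isConstrained_of_isNormalIn RK.isPGroup' hC (isNormalIn_ofSubgroup RK (H.subgroupOf K)))
    constructor
    · rintro ⟨h1, h2, g, hg⟩
      refine ⟨h1, h2, conjHom _ (Subgroup.inclusion hle g),
        ⟨?_, ?_, Subgroup.inclusion hle g, g.2, fun _ => rfl⟩, fun x => ?_⟩
      · exact (Subgroup.map_mono h1).trans hmap.le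
      · rintro ⟨_, y, hy, rfl⟩
        have h3 := hmap.le (Subgroup.mem_map_of_mem (Subgroup.inclusion hle) (h2 ⟨y, hy⟩))
        rw [hg, map_mul, map_mul, map_inv] at h3
        exact h3
      · show Subgroup.inclusion hle g * Subgroup.inclusion hle x * (Subgroup.inclusion hle g)⁻¹ = _
        rw [hg, map_mul, map_mul, map_inv]
    · rintro ⟨h1, h2, ψ, ⟨-, -, g, hgH, hg⟩, hψ⟩
      refine ⟨h1, h2, ⟨g, hgH⟩, fun x => Subgroup.inclusion_injective hle ?_⟩
      rw [← hψ, hg, map_mul, map_mul, map_inv]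
      rfl

end Cfsg.Lib.FusionSys
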