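import Cfsg.Agent.Lib.FusionSys.IndexPrime

/-!
Subsystems of index prime to `p`: a family of subgroups closed under conjugation and containing the essential
subgroups suffices.
-/

set_option autoImplicit false
set_option linter.style.haveILetI false

namespace Cfsg.Lib.FusionSys

open Cfsg Cfsg.FusionSystem
open scoped Pointwise

variable {Ω : Type*} [Group Ω] {S : Subgroup Ω} {F E : FusionSystem S} {p : ℕ}

/-- A `p`-element of `Aut_F` of a member of the family lies in the invariant subsystem. -/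
theorem twistCore_autGroup_of_family
    {𝒞 : Set (Subgroup Ω)} (hconj : ∀ P ∈ 𝒞, ∀ Q, F.IsConj P Q → Q ∈ 𝒞)
    (h : ∀ P ∈ 𝒞, ∀ a ∈ F.autGroup P, (∃ k : ℕ, orderOf a = p ^ k) → a ∈ E.autGroup P)
    {P : Subgroup Ω} (hP : P ∈ 𝒞) (hPS : P ≤ S) {a : MulAut P} (ha : a ∈ F.autGroup P)
    (hk : ∃ k : ℕ, orderOf a = p ^ k) : a ∈ (twistCore F E).autGroup P := by
  have hi := (mem_autGroup hPS).1 ha
  refine (mem_autGroup hPS).2 ⟨hi, fun β hβ => ?_⟩
  have hb := restrict_mem ((mem_autGroup le_rfl).1 hβ) hPS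
  have hr : ((S.subtype.comp β.toMonoidHom).comp (Subgroup.inclusion hPS)).range = autImage β P := by
    ext y
    exact ⟨fun ⟨x, hx⟩ => ⟨⟨x, hPS x.2⟩, x.2, hx⟩, fun ⟨t, ht, e⟩ => ⟨⟨(t : Ω), ht⟩, e⟩⟩
  let e := homIso hb hr
  have he : IsoIn F e := isoIn_homIso hb hr
  have hc := hconj P hP _ (isConj_iff.2 ⟨e, he⟩)
  have hk' : ∃ k : ℕ, orderOf (MulAut.congr e a) = p ^ k := by
    rwa [MulEquiv.orderOf_eq]
  have hE := (mem_autGroup he.le_right).1 (h _ hc _ (congr_mem_autGroup he ha) hk')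
  refine ⟨_, hE, fun x hx => ?_⟩
  have hex : (⟨_, hx⟩ : autImage β P) = e x := Subtype.ext rfl
  rw [hex]
  show ((e (a (e.symm (e x))) : autImage β P) : Ω) = _
  rw [MulEquiv.symm_apply_apply]
  rfl

theorem le_autTimes_family [Finite S] [Fact p.Prime] (hS : IsPGroup p S) (hF : F.IsSaturated p)
    {𝒞 : Set (Subgroup Ω)} (hconj : ∀ P ∈ 𝒞, ∀ Q, F.IsConj P Q → Q ∈ 𝒞)
    (hess : ∀ P : Subgroup Ω, F.IsEssential p P → P ∈ 𝒞)
    (h : ∀ P ∈ 𝒞, ∀ a ∈ F.autGroup P, (∃ k : ℕ, orderOf a = p ^ k) → a ∈ E.autGroup P) : F ≤ autTimes F E := by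
  refine le_of_autGroup_le' hS hF _ fun P hP hbig => ?_
  by_cases hPS : P = S
  · subst hPS
    intro α hα
    exact (mem_autGroup le_rfl).2
      ⟨α, hα, P.subtype, subtype_mem _ le_rfl, fun _ _ => rfl⟩
  have hP := hP.resolve_left hPS
  have hPle : P ≤ S := hP.1.1
  haveI := finite_of_le hPle
  haveI : Finite (MulAut P) := Finite.of_injective (fun f => (f : P → P)) DFunLike.coe_injective
  obtain ⟨hfc, hfa⟩ := isFullyAutomized_and_fc_of_fn hS hF hP.2.1
  obtain ⟨-, R, hR⟩ := hfa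
  let K : Subgroup (F.autGroup P) :=
    ((twistCore F E).autGroup P).subgroupOf (F.autGroup P)
  let C : Subgroup (F.autGroup P) := Subgroup.closure {a | ∃ k : ℕ, orderOf a = p ^ k}
  have hCn : C.Normal := Subgroup.Normal.mk fun n hn g => by
    have : C.map (MulAut.conj g).toMonoidHom ≤ C := by
      rw [Subgroup.map_le_iff_le_comap]
      refine (Subgroup.closure_le _).2 fun a ha => Subgroup.subset_closure ?_
      obtain ⟨k, hk⟩ := ha
      exact ⟨k, by rw [← hk]; exact MulEquiv.orderOf_eq (MulAut.conj g) a⟩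
    exact this ⟨n, hn, rfl⟩
  have hCK : C ≤ K := (Subgroup.closure_le _).2 fun a ha =>
    twistCore_autGroup_of_family hconj h (hess P hP) hPle a.2 (by obtain ⟨k, hk⟩ := ha; exact ⟨k, by rw [← hk]; exact Subgroup.orderOf_coe a⟩)
  have hRC : (R : Subgroup (F.autGroup P)) ≤ C := fun a ha => Subgroup.subset_closure (by
    obtain ⟨k, hk⟩ := IsPGroup.iff_orderOf.1 R.isPGroup' ⟨a, ha⟩
    exact ⟨k, by rwa [Subgroup.orderOf_mk] at hk⟩)
  have hN : Subgroup.normalizer ((R : Subgroup (F.autGroup P)) : Set (F.autGroup P)) ≤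
      ((autTimes F E).autGroup P).subgroupOf (F.autGroup P) := by
    intro β hβ
    have hlt : P < S := lt_of_le_of_ne hPle hPS
    obtain ⟨g, hg, hgP⟩ := SetLike.exists_of_lt (lt_normalizerIn hS hlt)
    have hc : conjAut P hg.2 ∈ F.autGroup P :=
      autInducedBy_le_autGroup hPle (conjAut_mem_autInducedBy hg.2 hg.1)
    have hcR : (⟨_, hc⟩ : F.autGroup P) ∈ (R : Subgroup (F.autGroup P)) := by
      rw [hR]; exact conjAut_mem_autInducedBy hg.2 hg.1
    have h1 := (Subgroup.mem_normalizer_iff.1 hβ _).1 hcR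
    rw [hR] at h1
    obtain ⟨k, hkS, hk⟩ := mem_autInducedBy.1 h1
    have hext : (β : MulAut P) ∈ extensibleAut F P := by
      refine mem_extensibleAut_of_conj (isReceptive_of_fc hS hF hfc) β.2 hg hgP hkS fun x y hy => ?_
      have := hk ((β : MulAut P) x)
      rw [← this]
      show _ = (((β : MulAut P) (conjAut P hg.2 ((β : MulAut P)⁻¹ ((β : MulAut P) x)))) : Ω)
      rw [MulAut.inv_apply_self]
      exact congrArg (fun z => (((β : MulAut P) z : P) : Ω)) (Subtype.ext hy)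
    refine (?_ : extensibleAut F P ≤ (autTimes F E).autGroup P) hext
    refine (Subgroup.closure_le _).2 ?_
    rintro α ⟨Q, hPQ, φ, hφ, he⟩
    haveI := finite_of_le (hom_le hφ)
    exact (mem_autGroup hPle).2 (hom_congr
      (restrict_mem (hbig Q (Set.Finite.card_lt_card (Set.toFinite _) hPQ) hφ) hPQ.le) fun x => (he x).symm)
  intro a ha
  have htop := Sylow.normalizer_sup_eq_top' (N := C) R hRC
  have : (⟨a, ha⟩ : F.autGroup P) ∈ ((autTimes F E).autGroup P).subgroupOf (F.autGroup P) := by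
    refine (?_ : (⊤ : Subgroup (F.autGroup P)) ≤ _) (Subgroup.mem_top _)
    rw [← htop]
    refine sup_le hN fun c hc => ?_
    have hc' := (mem_autGroup hPle).1 (hCK hc)
    exact (mem_autGroup hPle).2 (twistCore_le_autTimes P hc')
  exact this

theorem exists_factor_of_family [Finite S] [Fact p.Prime] (hS : IsPGroup p S)
    (hF : F.IsSaturated p)
    {𝒞 : Set (Subgroup Ω)} (hconj : ∀ P ∈ 𝒞, ∀ Q, F.IsConj P Q → Q ∈ 𝒞)
    (hess : ∀ P : Subgroup Ω, F.IsEssential p P → P ∈ 𝒞)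
    (h : ∀ P ∈ 𝒞, ∀ a ∈ F.autGroup P, (∃ k : ℕ, orderOf a = p ^ k) → a ∈ E.autGroup P) {P : Subgroup Ω} {φ : P →* Ω} (hφ : φ ∈ F.Hom P) :
    ∃ α ∈ F.autGroup S, ∃ φ₀ ∈ (twistCore F E).Hom P,
      ∀ (x : P) (hx : φ₀ x ∈ S), φ x = ((α ⟨φ₀ x, hx⟩ : S) : Ω) :=
  le_autTimes_family hS hF hconj hess h P hφ

/-- The condition on the family gives it on all subgroups. -/
theorem mem_autGroup_of_family [Finite S] [Fact p.Prime] (hS : IsPGroup p S)
    (hF : F.IsSaturated p)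
    {𝒞 : Set (Subgroup Ω)} (hconj : ∀ P ∈ 𝒞, ∀ Q, F.IsConj P Q → Q ∈ 𝒞)
    (hess : ∀ P : Subgroup Ω, F.IsEssential p P → P ∈ 𝒞)
    (h : ∀ P ∈ 𝒞, ∀ a ∈ F.autGroup P, (∃ k : ℕ, orderOf a = p ^ k) → a ∈ E.autGroup P) {P : Subgroup Ω} (hPS : P ≤ S) {a : MulAut P} (ha : a ∈ F.autGroup P)
    (hk : ∃ k : ℕ, orderOf a = p ^ k) : a ∈ E.autGroup P := by
  obtain ⟨Q, hPQ, hQ⟩ := exists_isFullyNormalized F hPS
  obtain ⟨e, he⟩ := isConj_iff.1 hPQ
  haveI := finite_of_le hQ.1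
  haveI : Finite (MulAut Q) := Finite.of_injective (fun f => (f : Q → Q)) DFunLike.coe_injective
  obtain ⟨-, R, hR⟩ := (isFullyAutomized_and_fc_of_fn hS hF hQ).2
  obtain ⟨k, hk⟩ := hk
  let a' : F.autGroup Q := ⟨MulAut.congr e a, congr_mem_autGroup he ha⟩
  have hp : IsPGroup p (Subgroup.zpowers a') := by
    refine IsPGroup.iff_card.2 ⟨k, ?_⟩
    rw [Nat.card_zpowers, ← Subgroup.orderOf_coe]
    exact (MulEquiv.orderOf_eq (MulAut.congr e) a).trans hk
  obtain ⟨R', hR'⟩ := hp.exists_le_sylow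
  obtain ⟨b, hb⟩ := MulAction.exists_smul_eq (F.autGroup Q) R' R
  have hmem : b * a' * b⁻¹ ∈ (R : Subgroup (F.autGroup Q)) := by
    rw [← hb, Sylow.coe_subgroup_smul]
    exact Subgroup.smul_mem_pointwise_smul _ (MulAut.conj b) _ (hR' (Subgroup.mem_zpowers a'))
  rw [hR] at hmem
  obtain ⟨s, hs, hse⟩ := mem_autInducedBy.1 hmem
  let f : P ≃* Q := e.trans (b : MulAut Q)
  have hf : IsoIn F f := he.trans ((mem_autGroup hQ.1).1 b.2)
  obtain ⟨α, hα, φ₀, hφ₀, hφe⟩ := exists_factor_of_family hS hF hconj hess h hf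
  have hconj : ∀ x : P, (f (a x) : Ω) = s * (f x : Ω) * s⁻¹ := fun x => by
    refine Eq.trans ?_ (hse (f x))
    show ((b : MulAut Q) (e (a x)) : Ω) =
      (((b : MulAut Q) (e (a (e.symm ((b : MulAut Q)⁻¹ ((b : MulAut Q) (e x))))))) : Ω)
    rw [MulAut.inv_apply_self, MulEquiv.symm_apply_apply]
  set s' : S := α⁻¹ ⟨s, hs⟩
  have hkey : ∀ x : P, φ₀ (a x) = (s' : Ω) * φ₀ x * (s' : Ω)⁻¹ := fun x => by
    have h1 : α ⟨φ₀ (a x), hom_mem hφ₀ _⟩ = α (s' * ⟨φ₀ x, hom_mem hφ₀ _⟩ * s'⁻¹) := by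
      rw [map_mul, map_mul, map_inv, MulAut.apply_inv_self]
      apply Subtype.ext
      rw [← hφe (a x) (hom_mem hφ₀ _)]
      show (f (a x) : Ω) = s * ((α ⟨φ₀ x, _⟩ : S) : Ω) * s⁻¹
      rw [← hφe x (hom_mem hφ₀ _)]
      exact hconj x
    exact congrArg Subtype.val (α.injective h1)
  have hφE := twistCore_le_right P hφ₀
  obtain ⟨ψ, hψ, -, hψe⟩ := exists_inv hφE rfl
  have hc := E.comp_mem hφE (E.conj_mem (P := φ₀.range) (range_le hφE) s'.2) (fun x => ⟨x, rfl⟩)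
  refine (mem_autGroup hPS).2 (comp_mem' hc hψ (fun x => ?_) fun x => ?_)
  · exact ⟨a x, hkey x⟩
  · exact ((congrArg ψ (Subtype.ext (hkey x).symm)).trans (hψe (a x) ⟨a x, rfl⟩)).symm

end Cfsg.Lib.FusionSys
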