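import Cfsg.Agent.Lib.FusionSys.CentralizerSubsystem
import Cfsg.Agent.Lib.FusionSys.IndexPrime

/-!
# Lifts of automorphisms in a normal subsystem over an element centralizing it

For `E` normal in `F` over `T`, an `E`-centric subgroup `P` and `c ∈ C_S(T)`, every element of `Aut_E(P)`
is the restriction of an `F`-automorphism of `P ⟨c⟩` moving `c` by an element of `T`, in fact of `Z(P)`
(normality gives this on `T`, invariance and saturation the rest).  These lifts form a group with a cocycle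
(the displacement of `c`); lifts of order prime to `p` of products of `p`-elements are unique.
-/

set_option autoImplicit false
set_option linter.style.haveILetI false

namespace Cfsg.Lib.FusionSys

open Cfsg Cfsg.FusionSystem
open scoped Pointwise IsMulCommutative

variable {Ω : Type*} [Group Ω] {S T : Subgroup Ω} {F : FusionSystem S} {E : FusionSystem T} {p : ℕ}

/-- Restriction of the automorphisms stabilizing a subgroup. -/
def resAutHom {W P : Subgroup Ω} (hPW : P ≤ W) (B : Subgroup (MulAut W))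
    (hB : ∀ β ∈ B, ∀ x : W, (x : Ω) ∈ P ↔ ((β x : W) : Ω) ∈ P) : B →* MulAut P where
  toFun β :=
    { toFun := fun x => ⟨(((β : MulAut W) (Subgroup.inclusion hPW x) : W) : Ω),
        (hB _ β.2 _).1 x.2⟩
      invFun := fun x => ⟨((((β⁻¹ : B) : MulAut W) (Subgroup.inclusion hPW x) : W) : Ω),
        (hB _ (β⁻¹).2 _).1 x.2⟩
      left_inv := fun x => Subtype.ext (congrArg (fun z : W => (z : Ω))
        (MulAut.inv_apply_self W (β : MulAut W) (Subgroup.inclusion hPW x)))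
      right_inv := fun x => Subtype.ext (congrArg (fun z : W => (z : Ω))
        (MulAut.apply_inv_self W (β : MulAut W) (Subgroup.inclusion hPW x)))
      map_mul' := fun x y => Subtype.ext (by simp) }
  map_one' := MulEquiv.ext fun _ => Subtype.ext rfl
  map_mul' _ _ := MulEquiv.ext fun _ => Subtype.ext rfl

/-- The automorphism of the centre of a group induced by an automorphism. -/
def centerAutHom (G : Type*) [Group G] : MulAut G →* MulAut (Subgroup.center G) where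
  toFun e := Subgroup.centerCongr e
  map_one' := MulEquiv.ext fun _ => Subtype.ext rfl
  map_mul' _ _ := MulEquiv.ext fun _ => Subtype.ext rfl

theorem coe_centerAutHom {G : Type*} [Group G] (e : MulAut G) (x : Subgroup.center G) :
    ((centerAutHom G e x : Subgroup.center G) : G) = e x := rfl

/-- Every map of a normal subsystem on a centric subgroup is good. -/
theorem goodMap_of_centric [Finite S] [Fact p.Prime] (hS : IsPGroup p S) (hE : E.IsNormalIn F p)
    {P : Subgroup Ω} (hP : E.IsCentric P) {φ : P →* Ω} (hφ : φ ∈ E.Hom P) : GoodMap F T φ := by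
  obtain ⟨⟨hEs, hF, hEi⟩, hEx⟩ := hE
  set hT := hEi.2.1
  have hTS : T ≤ S := hT.1
  haveI := finite_of_le hTS
  obtain ⟨α, hα, φ₀, hφ₀, he⟩ := exists_factor_of_centric (E := goodSystem F E hT) (hS.to_le hTS) hEs
    (fun Q hQ a ha hk => (mem_autGroup hQ.1).2
      ⟨(mem_autGroup hQ.1).1 ha, fun _ => goodMap_pAut hS hF hEs hEi hQ ha hk⟩) hφ
  have hφ₀g := twistCore_le_right P hφ₀
  have hαg : T.subtype.comp α.toMonoidHom ∈ (goodSystem F E hT).Hom T := by
    refine ⟨(mem_autGroup le_rfl).1 hα, fun _ => ?_⟩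
    obtain ⟨β, hβ, hβe, hβc⟩ := hEx α hα
    have hWS : T ⊔ centralizerIn S T ≤ S := sup_le hTS (centralizerIn_le T)
    exact ⟨_, (mem_autGroup hWS).1 hβ, fun x _ => hβe x, fun c hc hc' => (hβc ⟨c, hc'⟩ hc).1⟩
  have h : φ ∈ (goodSystem F E hT).Hom P :=
    comp_mem' hφ₀g hαg (fun x => hom_mem hφ₀g x) fun x => he x (hom_mem hφ₀g x)
  exact h.2 hP

/-- The lifts to `P ⟨c⟩` of the automorphisms of `P` in `E` that move `c` modulo `T`. -/
def liftGroup (F : FusionSystem S) (E : FusionSystem T) (hT : F.StronglyClosed T) (P : Subgroup Ω)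
    (hP : P ≤ T) (c : Ω) (hc : c ∈ S) : Subgroup (MulAut ↥(P ⊔ Subgroup.zpowers c)) where
  carrier := {β | β ∈ stabAut F (P ⊔ Subgroup.zpowers c) P ∧
    (∃ a ∈ E.autGroup P, ∀ x : P, ((β (Subgroup.inclusion le_sup_left x) : _) : Ω) = (a x : Ω)) ∧
    c⁻¹ * ((β ⟨c, Subgroup.mem_sup_right (Subgroup.mem_zpowers c)⟩ : _) : Ω) ∈ T}
  one_mem' := ⟨one_mem _, ⟨1, one_mem _, fun _ => rfl⟩, by simp⟩
  mul_mem' := by
    rintro β γ ⟨hβ, ⟨a, ha, hae⟩, hβc⟩ ⟨hγ, ⟨b, hb, hbe⟩, hγc⟩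
    refine ⟨mul_mem hβ hγ, ⟨a * b, mul_mem ha hb, fun x => ?_⟩, ?_⟩
    · rw [MulAut.mul_apply, MulAut.mul_apply, ← hae]
      exact congrArg (fun z => ((β z : _) : Ω)) (Subtype.ext (hbe x))
    · set cW : ↥(P ⊔ Subgroup.zpowers c) := ⟨c, Subgroup.mem_sup_right (Subgroup.mem_zpowers c)⟩
      have hWS : P ⊔ Subgroup.zpowers c ≤ S := sup_le (hP.trans hT.1) (Subgroup.zpowers_le.2 hc)
      have h2 : ((β (cW⁻¹ * γ cW) : _) : Ω) ∈ T :=
        stronglyClosed_aut_mem hT hβ.1 hWS (x := cW⁻¹ * γ cW) hγc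
      rw [map_mul, map_inv] at h2
      rw [MulAut.mul_apply]
      have := T.mul_mem hβc h2
      rwa [Subgroup.coe_mul, Subgroup.coe_inv, mul_assoc, mul_inv_cancel_left] at this
  inv_mem' := by
    rintro β ⟨hβ, ⟨a, ha, hae⟩, hβc⟩
    refine ⟨inv_mem hβ, ⟨a⁻¹, inv_mem ha, fun x => ?_⟩, ?_⟩
    · have h : β (Subgroup.inclusion le_sup_left (a⁻¹ x)) = Subgroup.inclusion le_sup_left x :=
        Subtype.ext ((hae _).trans (by rw [MulAut.apply_inv_self]; rfl))
      rw [← h, MulAut.inv_apply_self]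
      rfl
    · set cW : ↥(P ⊔ Subgroup.zpowers c) := ⟨c, Subgroup.mem_sup_right (Subgroup.mem_zpowers c)⟩
      have hWS : P ⊔ Subgroup.zpowers c ≤ S := sup_le (hP.trans hT.1) (Subgroup.zpowers_le.2 hc)
      have h2 : ((β⁻¹ (cW⁻¹ * β cW) : _) : Ω) ∈ T :=
        stronglyClosed_aut_mem hT (inv_mem hβ).1 hWS (x := cW⁻¹ * β cW) hβc
      rw [map_mul, map_inv, MulAut.inv_apply_self] at h2
      have := T.inv_mem h2
      rwa [Subgroup.coe_mul, Subgroup.coe_inv, mul_inv_rev, inv_inv] at this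

section Lift

variable {hT : F.StronglyClosed T} {P : Subgroup Ω} {hP : P ≤ T} {c : Ω} {hcS : c ∈ S}

theorem liftGroup_stab {β : MulAut ↥(P ⊔ Subgroup.zpowers c)} (hβ : β ∈ liftGroup F E hT P hP c hcS)
    (x : ↥(P ⊔ Subgroup.zpowers c)) : (x : Ω) ∈ P ↔ ((β x : _) : Ω) ∈ P := hβ.1.2 x

/-- Restriction of a lift. -/
def liftRes : liftGroup F E hT P hP c hcS →* MulAut P :=
  resAutHom le_sup_left _ fun _ hβ => liftGroup_stab hβ

theorem coe_liftRes (β : liftGroup F E hT P hP c hcS) (x : P) :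
    ((liftRes β x : P) : Ω) =
      (((β : MulAut ↥(P ⊔ Subgroup.zpowers c)) (Subgroup.inclusion le_sup_left x) : _) : Ω) := rfl

theorem liftRes_mem (β : liftGroup F E hT P hP c hcS) : liftRes β ∈ E.autGroup P := by
  obtain ⟨a, ha, hae⟩ := β.2.2.1
  rwa [show liftRes β = a from MulEquiv.ext fun x => Subtype.ext (hae x)]

theorem disp_mem (hcC : c ∈ centralizerIn S T) (hZ : centralizerIn T P ≤ P)
    (β : liftGroup F E hT P hP c hcS) :
    ∃ z : Subgroup.center P, ((z : P) : Ω) = c⁻¹ *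
      (((β : MulAut ↥(P ⊔ Subgroup.zpowers c))
        ⟨c, Subgroup.mem_sup_right (Subgroup.mem_zpowers c)⟩ : _) : Ω) := by
  set cW : ↥(P ⊔ Subgroup.zpowers c) := ⟨c, Subgroup.mem_sup_right (Subgroup.mem_zpowers c)⟩
  have hc : ∀ y ∈ P, c * y = y * c := fun y hy => (mem_centralizerIn.1 hcC).2 y (hP hy)
  have hcomm : ∀ y ∈ P, (((β : MulAut ↥(P ⊔ Subgroup.zpowers c)) cW : _) : Ω) * y =
      y * (((β : MulAut ↥(P ⊔ Subgroup.zpowers c)) cW : _) : Ω) := by
    intro y hy
    obtain ⟨x, hx⟩ := (liftRes β).surjective ⟨y, hy⟩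
    have h1 : (cW * Subgroup.inclusion le_sup_left x : ↥(P ⊔ Subgroup.zpowers c)) =
        Subgroup.inclusion le_sup_left x * cW := Subtype.ext (hc x x.2)
    have h2 := congrArg (fun z : ↥(P ⊔ Subgroup.zpowers c) =>
      (((β : MulAut ↥(P ⊔ Subgroup.zpowers c)) z : _) : Ω)) h1
    simp only [map_mul, Subgroup.coe_mul, ← coe_liftRes, hx] at h2
    exact h2
  have hd : ∀ y ∈ P, c⁻¹ * (((β : MulAut ↥(P ⊔ Subgroup.zpowers c)) cW : _) : Ω) * y =
      y * (c⁻¹ * (((β : MulAut ↥(P ⊔ Subgroup.zpowers c)) cW : _) : Ω)) := fun y hy =>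
    ((show Commute c y from hc y hy).inv_left.mul_left (hcomm y hy)).eq
  have hdP := hZ (mem_centralizerIn.2 ⟨β.2.2.2, hd⟩)
  exact ⟨⟨⟨_, hdP⟩, Subgroup.mem_center_iff.2 fun y => Subtype.ext (hd y y.2).symm⟩, rfl⟩

/-- The displacement of `c`. -/
noncomputable def liftDisp (hcC : c ∈ centralizerIn S T) (hZ : centralizerIn T P ≤ P)
    (β : liftGroup F E hT P hP c hcS) : Subgroup.center P := (disp_mem hcC hZ β).choose

theorem coe_liftDisp (hcC : c ∈ centralizerIn S T) (hZ : centralizerIn T P ≤ P)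
    (β : liftGroup F E hT P hP c hcS) :
    (((liftDisp hcC hZ β : Subgroup.center P) : P) : Ω) = c⁻¹ *
      (((β : MulAut ↥(P ⊔ Subgroup.zpowers c))
        ⟨c, Subgroup.mem_sup_right (Subgroup.mem_zpowers c)⟩ : _) : Ω) :=
  (disp_mem hcC hZ β).choose_spec

/-- The action of the lifts on the centre. -/
def liftAct : liftGroup F E hT P hP c hcS →* MulAut (Subgroup.center P) :=
  (centerAutHom P).comp liftRes

theorem coe_liftAct (β : liftGroup F E hT P hP c hcS) (x : Subgroup.center P) :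
    (((liftAct β x : Subgroup.center P) : P) : Ω) =
      (((β : MulAut ↥(P ⊔ Subgroup.zpowers c))
        (Subgroup.inclusion le_sup_left (x : P)) : _) : Ω) := rfl

variable (hcC : c ∈ centralizerIn S T) (hZ : centralizerIn T P ≤ P)

theorem liftDisp_mul (β γ : liftGroup F E hT P hP c hcS) :
    liftDisp hcC hZ (β * γ) = liftDisp hcC hZ β * liftAct β (liftDisp hcC hZ γ) := by
  apply Subtype.ext; apply Subtype.ext
  rw [Subgroup.coe_mul, Subgroup.coe_mul, coe_liftDisp, coe_liftDisp, coe_liftAct]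
  set cW : ↥(P ⊔ Subgroup.zpowers c) := ⟨c, Subgroup.mem_sup_right (Subgroup.mem_zpowers c)⟩
  have h : Subgroup.inclusion le_sup_left (liftDisp hcC hZ γ : P) =
      cW⁻¹ * (γ : MulAut ↥(P ⊔ Subgroup.zpowers c)) cW := Subtype.ext (coe_liftDisp hcC hZ γ)
  rw [h, map_mul, map_inv]
  simp only [Subgroup.coe_mul, InvMemClass.coe_inv, MulAut.mul_apply]
  group

/-- A lift is determined by its restriction and its displacement. -/
theorem lift_ext {β γ : liftGroup F E hT P hP c hcS} (hr : liftRes β = liftRes γ)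
    (hd : liftDisp hcC hZ β = liftDisp hcC hZ γ) : β = γ := by
  apply Subtype.ext
  apply MulEquiv.ext
  intro x
  refine hom_eq_on_sup (f := (β : MulAut ↥(P ⊔ Subgroup.zpowers c)).toMonoidHom)
    (g := (γ : MulAut ↥(P ⊔ Subgroup.zpowers c)).toMonoidHom) (fun y hy => Subtype.ext ?_)
    (fun y hy => ?_) x
  · exact congrArg (fun e : MulAut P => ((e ⟨(y : Ω), hy⟩ : P) : Ω)) hr
  · obtain ⟨n, hn⟩ := hy
    set cW : ↥(P ⊔ Subgroup.zpowers c) := ⟨c, Subgroup.mem_sup_right (Subgroup.mem_zpowers c)⟩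
    have he : (β : MulAut ↥(P ⊔ Subgroup.zpowers c)) cW = (γ : MulAut ↥(P ⊔ Subgroup.zpowers c)) cW := by
      apply Subtype.ext
      have := congrArg (fun z : Subgroup.center P => ((z : P) : Ω)) hd
      simp only [coe_liftDisp] at this
      exact mul_left_cancel this
    rw [show y = cW ^ n from Subtype.ext (by rw [← hn, Subgroup.coe_zpow])]
    simp only [MulEquiv.coe_toMonoidHom, map_zpow, he]

/-- The displacements of the lifts of the identity. -/
def dispSub : Subgroup (Subgroup.center P) where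
  carrier := {u | ∃ k : liftGroup F E hT P hP c hcS, liftRes k = 1 ∧ liftDisp hcC hZ k = u}
  one_mem' := by
    refine ⟨1, map_one _, ?_⟩
    have h := liftDisp_mul hcC hZ (1 : liftGroup F E hT P hP c hcS) 1
    rw [mul_one, map_one, MulAut.one_apply] at h
    exact left_eq_mul.1 h
  mul_mem' := by
    rintro _ _ ⟨k, hk, rfl⟩ ⟨l, hl, rfl⟩
    refine ⟨k * l, by rw [map_mul, hk, hl, one_mul], ?_⟩
    rw [liftDisp_mul, show liftAct k = 1 by rw [liftAct, MonoidHom.comp_apply, hk, map_one],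
      MulAut.one_apply]
  inv_mem' := by
    rintro _ ⟨k, hk, rfl⟩
    refine ⟨k⁻¹, by rw [map_inv, hk, inv_one], ?_⟩
    have h := liftDisp_mul hcC hZ k k⁻¹
    rw [mul_inv_cancel, show liftAct k = 1 by rw [liftAct, MonoidHom.comp_apply, hk, map_one],
      MulAut.one_apply] at h
    have h1 := liftDisp_mul hcC hZ (1 : liftGroup F E hT P hP c hcS) 1
    rw [mul_one, map_one, MulAut.one_apply, left_eq_mul] at h1
    rw [h1] at h
    exact eq_inv_of_mul_eq_one_right h.symm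

theorem liftDisp_one : liftDisp hcC hZ (1 : liftGroup F E hT P hP c hcS) = 1 := by
  have h := liftDisp_mul hcC hZ (1 : liftGroup F E hT P hP c hcS) 1
  rw [mul_one, map_one, MulAut.one_apply] at h
  exact left_eq_mul.1 h

theorem dispSub_invariant (g : liftGroup F E hT P hP c hcS) {u : Subgroup.center P}
    (hu : u ∈ dispSub hcC hZ (F := F) (E := E) (hT := hT) (hP := hP) (hcS := hcS)) :
    liftAct g u ∈ dispSub hcC hZ (F := F) (E := E) (hT := hT) (hP := hP) (hcS := hcS) := by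
  obtain ⟨k, hk, rfl⟩ := hu
  refine ⟨g * k * g⁻¹, by rw [map_mul, map_mul, hk, mul_one, map_inv, mul_inv_cancel], ?_⟩
  have hk1 : liftAct k = 1 := by rw [liftAct, MonoidHom.comp_apply, hk, map_one]
  have h1 := liftDisp_mul hcC hZ g g⁻¹
  rw [mul_inv_cancel, liftDisp_one] at h1
  rw [mul_assoc, liftDisp_mul, liftDisp_mul, hk1, MulAut.one_apply, map_mul, ← mul_assoc]
  refine (mul_right_comm (G := Subgroup.center P) _ _ _).trans ?_
  rw [← h1]
  exact one_mul _

include hcC hZ in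
theorem isPGroup_ker_liftRes [Finite S] [Fact p.Prime] (hS : IsPGroup p S) :
    IsPGroup p (liftRes : liftGroup F E hT P hP c hcS →* MulAut P).ker := by
  haveI := finite_of_le (hP.trans hT.1)
  obtain ⟨j, hj⟩ := IsPGroup.iff_card.1 ((hS.to_le (hP.trans hT.1)).to_subgroup (Subgroup.center P))
  intro k
  refine ⟨j, ?_⟩
  apply Subtype.ext
  have hk : liftRes (k : liftGroup F E hT P hP c hcS) = 1 := k.2
  have h : ∀ n : ℕ, liftDisp hcC hZ ((k : liftGroup F E hT P hP c hcS) ^ n) =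
      liftDisp hcC hZ (k : liftGroup F E hT P hP c hcS) ^ n := by
    intro n
    induction n with
    | zero => rw [pow_zero, pow_zero, liftDisp_one]
    | succ n ih =>
      rw [pow_succ', liftDisp_mul, ih, pow_succ',
        show liftAct (k : liftGroup F E hT P hP c hcS) = 1 by
          rw [liftAct, MonoidHom.comp_apply, hk, map_one], MulAut.one_apply]
  refine lift_ext hcC hZ ?_ ?_
  · rw [Subgroup.coe_pow, map_pow, hk, one_pow, Subgroup.coe_one, map_one]
  · rw [Subgroup.coe_pow, h, ← hj, pow_card_eq_one', Subgroup.coe_one, liftDisp_one]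

theorem conjAut_mem_liftGroup (hcC : c ∈ centralizerIn S T) {t : Ω} (ht : t ∈ T)
    (hn : t ∈ Subgroup.normalizer (P : Set Ω)) :
    ∃ β : liftGroup F E hT P hP c hcS, liftRes β = conjAut P hn ∧
      ∀ x : ↥(P ⊔ Subgroup.zpowers c),
        (((β : MulAut ↥(P ⊔ Subgroup.zpowers c)) x : _) : Ω) = t * x * t⁻¹ := by
  have hct : t * c * t⁻¹ = c := conj_eq_of_commute ((mem_centralizerIn.1 hcC).2 t ht).symm
  have hnX : t ∈ Subgroup.normalizer ((Subgroup.zpowers c : Subgroup Ω) : Set Ω) := by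
    refine Subgroup.centralizer_le_normalizer _ (Subgroup.mem_centralizer_iff.2 ?_)
    rintro _ ⟨n, rfl⟩
    exact ((show Commute c t from (mem_centralizerIn.1 hcC).2 t ht).zpow_left n).eq
  have hnW : t ∈ Subgroup.normalizer ((P ⊔ Subgroup.zpowers c : Subgroup Ω) : Set Ω) :=
    normalizer_inf_le ⟨hn, hnX⟩
  have hWS : P ⊔ Subgroup.zpowers c ≤ S := sup_le (hP.trans hT.1) (Subgroup.zpowers_le.2 hcS)
  refine ⟨⟨conjAut _ hnW, conjAut_mem_stabAut hWS (hT.1 ht) hnW hn, ⟨conjAut P hn,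
    autInducedBy_le_autGroup hP (conjAut_mem_autInducedBy hn ht), fun _ => rfl⟩, ?_⟩,
    MulEquiv.ext fun x => Subtype.ext rfl, fun _ => rfl⟩
  rw [coe_conjAut, hct, inv_mul_cancel]
  exact T.one_mem

/-- Every automorphism in `E` of a centric subgroup lifts. -/
theorem exists_lift [Finite S] [Fact p.Prime] (hS : IsPGroup p S) (hE : E.IsNormalIn F p)
    (hPc : E.IsCentric P) (hcC : c ∈ centralizerIn S T) {a : MulAut P} (ha : a ∈ E.autGroup P) :
    ∃ β : liftGroup F E hT P hP c hcS, liftRes β = a := by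
  obtain ⟨ψ, hψ, hψe, hψc⟩ := goodMap_of_centric hS hE hPc ((mem_autGroup hP).1 ha)
  have hle : P ⊔ Subgroup.zpowers c ≤ P ⊔ centralizerIn S T :=
    sup_le_sup_left (Subgroup.zpowers_le.2 hcC) P
  have hres := restrict_mem hψ hle
  obtain ⟨hz, -⟩ := good_ext_spec ((mem_autGroup hP).1 ha) hPc hψe hψc
  have hpow : ∀ n : ℤ, ψ (⟨c, Subgroup.mem_sup_right hcC⟩ ^ n) ∈ P ⊔ Subgroup.zpowers c := by
    intro n
    rw [map_zpow]
    refine zpow_mem ?_ n
    obtain ⟨y, hy⟩ := hz c hcC (Subgroup.mem_sup_right hcC)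
    have h2 : c * (a y : Ω) ∈ P ⊔ Subgroup.zpowers c :=
      mul_mem (Subgroup.mem_sup_right (Subgroup.mem_zpowers c)) (Subgroup.mem_sup_left (a y).2)
    change ((a y : P) : Ω) = _ at hy
    rwa [hy, mul_inv_cancel_left] at h2
  have hv : ∀ x : ↥(P ⊔ Subgroup.zpowers c), (ψ.comp (Subgroup.inclusion hle)) x ∈
      P ⊔ Subgroup.zpowers c := by
    refine hom_mem_of_sup (fun x hx => ?_) fun x hx => ?_
    · show ψ (Subgroup.inclusion hle x) ∈ _
      exact (hψe ⟨(x : Ω), hx⟩ (hle x.2)).symm ▸ Subgroup.mem_sup_left (a _).2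
    · obtain ⟨n, hn⟩ := hx
      show ψ (Subgroup.inclusion hle x) ∈ _
      rw [show Subgroup.inclusion hle x = ⟨c, Subgroup.mem_sup_right hcC⟩ ^ n from
        Subtype.ext (by rw [Subgroup.coe_zpow]; exact hn.symm)]
      exact hpow n
  obtain ⟨θ, hθ, hθe⟩ := exists_aut_of_hom hres hv
  have hθP : ∀ x : P, ((θ (Subgroup.inclusion le_sup_left x) : _) : Ω) = (a x : Ω) := fun x =>
    (hθe _).trans (hψe x _)
  refine ⟨⟨θ, ⟨hθ, fun x => ⟨fun hx => ?_, fun hx => ?_⟩⟩, ⟨a, ha, hθP⟩, ?_⟩,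
    MulEquiv.ext fun x => Subtype.ext (hθP x)⟩
  · rw [show x = Subgroup.inclusion le_sup_left ⟨(x : Ω), hx⟩ from rfl, hθP]
    exact (a _).2
  · have h : θ (Subgroup.inclusion le_sup_left (a⁻¹ ⟨_, hx⟩)) = θ x :=
      Subtype.ext ((hθP _).trans (by rw [MulAut.apply_inv_self]))
    rw [← θ.injective h]
    exact (a⁻¹ ⟨_, hx⟩).2
  · rw [hθe]
    exact hψc c hcC _

/-- A lift with no displacement is a map centralizing `c`. -/
theorem liftRes_mem_centralizer {C : FusionSystem (centralizerIn S (Subgroup.zpowers c))}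
    (hsub : E.IsSubsystemOf F) (hC : F.IsCentralizerSystem (Subgroup.zpowers c) C)
    (β : liftGroup F E hT P hP c hcS) (h : liftDisp hcC hZ β = 1) :
    liftRes β ∈ C.autGroup P := by
  have hX : Subgroup.zpowers c ≤ centralizerIn S T := Subgroup.zpowers_le.2 hcC
  have hPC : P ≤ centralizerIn S (Subgroup.zpowers c) := hP.trans (le_centralizerIn_of_le hT.1 hX)
  have hWS : P ⊔ Subgroup.zpowers c ≤ S := sup_le (hP.trans hT.1) (Subgroup.zpowers_le.2 hcS)
  refine (mem_autGroup hPC).2 (show _ ∈ C.Hom P from ?_)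
  rw [hC]
  refine mem_centralizerHom_of_ext hsub hT.1 hX ((mem_autGroup hP).1 (liftRes_mem β))
    ⟨_, (mem_autGroup hWS).1 β.2.1.1, fun _ => rfl, fun x => ?_⟩
  have hfix : (((β : MulAut ↥(P ⊔ Subgroup.zpowers c))
      ⟨c, Subgroup.mem_sup_right (Subgroup.mem_zpowers c)⟩ : _) : Ω) = c := by
    have h1 := coe_liftDisp hcC hZ β
    rw [h] at h1
    exact (inv_mul_eq_one.1 h1.symm).symm
  obtain ⟨n, hn⟩ := x.2
  show (((β : MulAut ↥(P ⊔ Subgroup.zpowers c)) (Subgroup.inclusion le_sup_right x) : _) : Ω) = x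
  rw [show (Subgroup.inclusion le_sup_right x : ↥(P ⊔ Subgroup.zpowers c)) =
    (⟨c, Subgroup.mem_sup_right (Subgroup.mem_zpowers c)⟩ : ↥(P ⊔ Subgroup.zpowers c)) ^ n from
      Subtype.ext (by rw [Subgroup.coe_zpow]; exact hn.symm), map_zpow, Subgroup.coe_zpow, hfix]
  exact hn

/-- A lift displacing `c` into the displacements of the identity lifts changes to one fixing it. -/
theorem liftRes_mem_centralizer' {C : FusionSystem (centralizerIn S (Subgroup.zpowers c))}
    (hsub : E.IsSubsystemOf F) (hC : F.IsCentralizerSystem (Subgroup.zpowers c) C)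
    (β : liftGroup F E hT P hP c hcS)
    (h : liftDisp hcC hZ β ∈ dispSub hcC hZ (F := F) (E := E) (hT := hT) (hP := hP) (hcS := hcS)) :
    liftRes β ∈ C.autGroup P := by
  obtain ⟨k, hk, hkd⟩ := dispSub_invariant hcC hZ β⁻¹ (inv_mem h)
  have h2 := liftRes_mem_centralizer hcC hZ hsub hC (β * k) (by
    rw [liftDisp_mul, hkd, ← MulAut.mul_apply, ← map_mul, mul_inv_cancel, map_one,
      MulAut.one_apply, mul_inv_cancel])
  rwa [map_mul, hk, mul_one] at h2

/-- An automorphism centralizing `c` has a lift with no displacement. -/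
theorem exists_lift_fix [Finite S] {C : FusionSystem (centralizerIn S (Subgroup.zpowers c))}
    (hC : F.IsCentralizerSystem (Subgroup.zpowers c) C) {a : MulAut P} (ha : a ∈ E.autGroup P)
    (haC : a ∈ C.autGroup P) :
    ∃ β : liftGroup F E hT P hP c hcS, liftRes β = a ∧ liftDisp hcC hZ β = 1 := by
  have hX : Subgroup.zpowers c ≤ centralizerIn S T := Subgroup.zpowers_le.2 hcC
  have hPC : P ≤ centralizerIn S (Subgroup.zpowers c) := hP.trans (le_centralizerIn_of_le hT.1 hX)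
  have h := (mem_autGroup hPC).1 haC
  change _ ∈ C.Hom P at h
  rw [hC] at h
  obtain ⟨-, -, -, ψ, hψ, hψP, hψX⟩ := h
  have hv : ∀ x, ψ x ∈ P ⊔ Subgroup.zpowers c := by
    refine hom_mem_of_sup (fun x hx => ?_) fun x hx => ?_
    · rw [show x = Subgroup.inclusion le_sup_left ⟨(x : Ω), hx⟩ from rfl, hψP]
      exact Subgroup.mem_sup_left (a _).2
    · rw [show x = Subgroup.inclusion le_sup_right ⟨(x : Ω), hx⟩ from rfl, hψX]
      exact Subgroup.mem_sup_right hx
  obtain ⟨θ, hθ, hθe⟩ := exists_aut_of_hom hψ hv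
  have hθP : ∀ x : P, ((θ (Subgroup.inclusion le_sup_left x) : _) : Ω) = (a x : Ω) := fun x =>
    (hθe _).trans (hψP x)
  have hθc : c⁻¹ * ((θ ⟨c, Subgroup.mem_sup_right (Subgroup.mem_zpowers c)⟩ : _) : Ω) = 1 := by
    rw [hθe, inv_mul_eq_one]
    exact (hψX ⟨c, Subgroup.mem_zpowers c⟩).symm
  refine ⟨⟨θ, ⟨hθ, fun x => ⟨fun hx => ?_, fun hx => ?_⟩⟩, ⟨a, ha, hθP⟩, hθc ▸ T.one_mem⟩,
    MulEquiv.ext fun x => Subtype.ext (hθP x), ?_⟩
  · rw [show x = Subgroup.inclusion le_sup_left ⟨(x : Ω), hx⟩ from rfl, hθP]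
    exact (a _).2
  · have h : θ (Subgroup.inclusion le_sup_left (a⁻¹ ⟨_, hx⟩)) = θ x :=
      Subtype.ext ((hθP _).trans (by rw [MulAut.apply_inv_self]))
    rw [← θ.injective h]
    exact (a⁻¹ ⟨_, hx⟩).2
  · exact Subtype.ext (Subtype.ext ((coe_liftDisp hcC hZ _).trans hθc))

end Lift

/-- The subgroup of `Aut_E(P)` generated by the elements of `p`-power order. -/
def pElemAut (E : FusionSystem T) (p : ℕ) (P : Subgroup Ω) : Subgroup (MulAut P) :=
  Subgroup.closure {a | a ∈ E.autGroup P ∧ ∃ k : ℕ, orderOf a = p ^ k}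

theorem pElemAut_le (P : Subgroup Ω) : pElemAut E p P ≤ E.autGroup P :=
  (Subgroup.closure_le _).2 fun _ h => h.1

theorem congr_mem_invariant [Finite S] (hEi : E.IsInvariantIn F) {Q Q₁ : Subgroup Ω} (hQT : Q ≤ T)
    {e : Q ≃* Q₁} (he : IsoIn F e) {a : MulAut Q} (ha : a ∈ E.autGroup Q) :
    MulAut.congr e a ∈ E.autGroup Q₁ := by
  have hQ₁T : Q₁ ≤ T := fun y hy => by
    have := stronglyClosed_apply_mem hEi.2.1 he (x := e.symm ⟨y, hy⟩) (hQT (e.symm ⟨y, hy⟩).2)
    simpa using this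
  obtain ⟨χ, hχ, hχe⟩ := isInvariant_strongInv hEi Q Q le_rfl hQT _ ((mem_autGroup hQT).1 ha)
    (fun x => (a x).2) _ he
  refine (mem_autGroup hQ₁T).2 ?_
  have hmap : (Q.subgroupOf Q).map (Q₁.subtype.comp e.toMonoidHom) = Q₁ := by
    ext y
    exact ⟨fun ⟨x, _, hx⟩ => hx ▸ (e x).2, fun hy => ⟨e.symm ⟨y, hy⟩, (e.symm ⟨y, hy⟩).2, by simp⟩⟩
  revert hχ hχe χ
  generalize (Q.subgroupOf Q).map (Q₁.subtype.comp e.toMonoidHom) = U at hmap ⊢
  subst hmap
  intro χ hχ hχe
  refine hom_congr hχ fun y => ?_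
  have h := hχe (e.symm y) (by
    show ((e (e.symm y) : U) : Ω) ∈ U
    exact (e (e.symm y)).2)
  refine Eq.trans ?_ ((congrArg χ (Subtype.ext ?_)).trans h).symm
  · rfl
  · show (y : Ω) = ((e (e.symm y) : U) : Ω)
    rw [MulEquiv.apply_symm_apply]

/-- Lifts of order prime to `p` of products of `p`-elements are unique, in terms of a fully normalized
conjugate: they are carried to restrictions of one good extension. -/
theorem exists_goodExt_lift [Finite S] [Fact p.Prime] (hS : IsPGroup p S) (hE : E.IsNormalIn F p)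
    {hT : F.StronglyClosed T} {P : Subgroup Ω} {hP : P ≤ T} (hPc : E.IsCentric P)
    {c : Ω} {hcS : c ∈ S} (hcC : c ∈ centralizerIn S T) {Q : Subgroup Ω} (hQn : F.IsFullyNormalized Q)
    {e : P ≃* Q} (he : IsoIn F e) :
    ∃ (W' : Subgroup Ω) (f : ↥(P ⊔ Subgroup.zpowers c) ≃* W') (hW : W' ≤ Q ⊔ centralizerIn S Q),
      (∀ x : P, ((f (Subgroup.inclusion le_sup_left x) : W') : Ω) = (e x : Ω)) ∧
      ∀ a ∈ pElemAut E p P, (orderOf a).Coprime p →
        ∃ ψ ∈ goodExt hT Q hQn.1, ∃ n : ℕ, n.Coprime p ∧ ψ ^ n = 1 ∧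
          (∀ x : Q, ((ψ (Subgroup.inclusion le_sup_left x) : _) : Ω) = ((MulAut.congr e a) x : Ω)) ∧
          ∀ β : liftGroup F E hT P hP c hcS, liftRes β = a → ∀ m : ℕ, m.Coprime p → β ^ m = 1 →
            ∀ x : ↥(P ⊔ Subgroup.zpowers c),
              ((ψ (Subgroup.inclusion hW (f x)) : _) : Ω) =
                ((f ((β : MulAut ↥(P ⊔ Subgroup.zpowers c)) x) : W') : Ω) := by
  obtain ⟨⟨hEs, hF, hEi⟩, -⟩ := hE
  have hPS : P ≤ S := hP.trans hT.1
  obtain ⟨hfc, -⟩ := isFullyAutomized_and_fc_of_fn hS hF hQn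
  have hQT : Q ≤ T := fun y hy => by
    have := stronglyClosed_apply_mem hT he (x := e.symm ⟨y, hy⟩) (hP (e.symm ⟨y, hy⟩).2)
    simpa using this
  have hre : (Q.subtype.comp e.toMonoidHom).range = Q := by
    ext y
    exact ⟨fun ⟨x, hx⟩ => hx ▸ (e x).2, fun hy => ⟨e.symm ⟨y, hy⟩, by simp⟩⟩
  obtain ⟨ε, hε, hεe, hεc, -⟩ := exists_ext_fc hS hF hfc he hre
  have hcP : c ∈ centralizerIn S P := centralizerIn_anti hP hcC
  have hWle : P ⊔ Subgroup.zpowers c ≤ P ⊔ centralizerIn S P :=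
    sup_le_sup_left (Subgroup.zpowers_le.2 hcP) P
  set cQ : Ω := ε (Subgroup.inclusion le_sup_right (⟨c, hcP⟩ : centralizerIn S P)) with hcQ
  have hcQC : cQ ∈ centralizerIn S Q := hεc _
  have hres := restrict_mem hε hWle
  have hεP : ∀ x : P, (ε.comp (Subgroup.inclusion hWle)) (Subgroup.inclusion le_sup_left x) = (e x : Ω) :=
    hεe
  have hεn : ∀ (n : ℤ) (x : ↥(P ⊔ Subgroup.zpowers c)), (x : Ω) = c ^ n →
      (ε.comp (Subgroup.inclusion hWle)) x = cQ ^ n := by
    intro n x hx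
    rw [show x = (⟨c, Subgroup.mem_sup_right (Subgroup.mem_zpowers c)⟩ : ↥(P ⊔ Subgroup.zpowers c)) ^ n
      from Subtype.ext (by rw [Subgroup.coe_zpow]; exact hx), map_zpow]
    rfl
  have hrange : (ε.comp (Subgroup.inclusion hWle)).range = Q ⊔ Subgroup.zpowers cQ := by
    refine le_antisymm ?_ (sup_le ?_ (Subgroup.zpowers_le.2 ?_))
    · rintro _ ⟨x, rfl⟩
      refine hom_mem_of_sup (fun y hy => ?_) (fun y hy => ?_) x
      · rw [show y = Subgroup.inclusion le_sup_left ⟨(y : Ω), hy⟩ from rfl, hεP]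
        exact Subgroup.mem_sup_left (e _).2
      · obtain ⟨n, hn⟩ := hy
        rw [hεn n y hn.symm]
        exact Subgroup.mem_sup_right (Subgroup.zpow_mem_zpowers _ n)
    · intro y hy
      refine ⟨Subgroup.inclusion le_sup_left (e.symm ⟨y, hy⟩), ?_⟩
      rw [hεP, MulEquiv.apply_symm_apply]
    · refine ⟨⟨c, Subgroup.mem_sup_right (Subgroup.mem_zpowers c)⟩, ?_⟩
      rw [hεn 1 _ (zpow_one c).symm, zpow_one]
  set f := homIso hres hrange with hf
  have hfe : ∀ x, ((f x : ↥(Q ⊔ Subgroup.zpowers cQ)) : Ω) = ε (Subgroup.inclusion hWle x) :=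
    fun x => coe_homIso hres hrange x
  refine ⟨_, f, sup_le_sup_left (Subgroup.zpowers_le.2 hcQC) Q, fun x => (hfe _).trans (hεP x),
    fun a haH hac => ?_⟩
  have ha₁ : MulAut.congr e a ∈ goodAut hT Q hQn.1 := by
    have hle : pElemAut E p P ≤ (goodAut hT Q hQn.1).comap (MulAut.congr e).toMonoidHom := by
      refine (Subgroup.closure_le _).2 fun a ha => ?_
      exact mem_goodAut_of_pElement hS hF hEs hEi hQT hQn (congr_mem_invariant hEi hP he ha.1) (by
        show ∃ k : ℕ, orderOf (MulAut.congr e a) = p ^ k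
        rw [MulEquiv.orderOf_eq]; exact ha.2)
    exact hle haH
  obtain ⟨ψ₀, hψ₀, n, hn, hψ₀n, -, hψ₀e⟩ :=
    exists_goodExt_pPrime ha₁ (by rwa [MulEquiv.orderOf_eq])
  have hQc : E.IsCentric Q := hre ▸ centric_image hEi hPc he
  refine ⟨ψ₀, hψ₀, n, hn, hψ₀n, hψ₀e, ?_⟩
  rintro β rfl m hm hβm x
  have hrig := goodExt_rigid hS hF (hQc.2 Q (isConj_refl E hQT)) hfc hψ₀ (Nat.Coprime.mul_left hm hn)
    (by rw [mul_comm m n, pow_mul, hψ₀n, one_pow]) (Subgroup.zpowers_le.2 hcQC)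
    (ψ := MulAut.congr f (β : MulAut ↥(P ⊔ Subgroup.zpowers c)))
    (congr_mem_autGroup (isoIn_homIso hres hrange) β.2.1.1) ?_ ?_ ?_ (f x)
  · rw [← hrig]
    show ((f ((β : MulAut ↥(P ⊔ Subgroup.zpowers c)) (f.symm (f x))) : _) : Ω) = _
    rw [MulEquiv.symm_apply_apply]
  · intro y hy
    obtain ⟨x, hx⟩ := e.surjective ⟨(y : Ω), hy⟩
    have hyx : y = f (Subgroup.inclusion le_sup_left x) :=
      Subtype.ext (((congrArg Subtype.val hx).symm.trans (hεP x).symm).trans (hfe _).symm)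
    have h1 : Subgroup.inclusion (sup_le_sup_left (Subgroup.zpowers_le.2 hcQC) Q) y =
        Subgroup.inclusion le_sup_left (⟨(y : Ω), hy⟩ : Q) := rfl
    rw [h1, hψ₀e]
    show ((f ((β : MulAut ↥(P ⊔ Subgroup.zpowers c)) (f.symm y)) : _) : Ω) = _
    rw [show f.symm y = Subgroup.inclusion le_sup_left x from
      (congrArg f.symm hyx).trans (f.symm_apply_apply _), hfe,
      show (⟨(y : Ω), hy⟩ : Q) = e x from hx.symm]
    show _ = ((e (liftRes β (e.symm (e x))) : Q) : Ω)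
    rw [MulEquiv.symm_apply_apply]
    exact hεP (liftRes β x)
  · intro y hy
    obtain ⟨k, hk⟩ := hy
    have hfc' : ((f ⟨c, Subgroup.mem_sup_right (Subgroup.mem_zpowers c)⟩ : _) : Ω) = cQ := by
      rw [hfe]; rfl
    have hy' : y = f ((⟨c, Subgroup.mem_sup_right (Subgroup.mem_zpowers c)⟩ :
        ↥(P ⊔ Subgroup.zpowers c)) ^ k) :=
      Subtype.ext (by rw [map_zpow, Subgroup.coe_zpow, hfc']; exact hk.symm)
    rw [hy']
    show _ * ((f ((β : MulAut ↥(P ⊔ Subgroup.zpowers c)) (f.symm (f _))) : _) : Ω) ∈ T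
    rw [MulEquiv.symm_apply_apply, map_zpow, map_zpow, map_zpow]
    set d : P := ((liftDisp hcC (hPc.2 P (isConj_refl E hP)) β : Subgroup.center P) : P) with hd
    have hβc : (β : MulAut ↥(P ⊔ Subgroup.zpowers c))
        ⟨c, Subgroup.mem_sup_right (Subgroup.mem_zpowers c)⟩ =
        ⟨c, Subgroup.mem_sup_right (Subgroup.mem_zpowers c)⟩ * Subgroup.inclusion le_sup_left d :=
      Subtype.ext (by
        rw [Subgroup.coe_mul, Subgroup.coe_inclusion, hd, coe_liftDisp, mul_inv_cancel_left])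
    have hcd : Commute (⟨c, Subgroup.mem_sup_right (Subgroup.mem_zpowers c)⟩ :
        ↥(P ⊔ Subgroup.zpowers c)) (Subgroup.inclusion le_sup_left d) :=
      Subtype.ext ((mem_centralizerIn.1 hcP).2 d d.2)
    rw [hβc, map_mul, (hcd.map f).mul_zpow, Subgroup.coe_mul, inv_mul_cancel_left, ← map_zpow,
      ← map_zpow, hfe, show (ε (Subgroup.inclusion hWle (Subgroup.inclusion le_sup_left (d ^ k)))) =
        (e (d ^ k) : Ω) from hεP _]
    exact hQT (e _).2
  · rw [← map_pow, pow_mul, show ((β : MulAut ↥(P ⊔ Subgroup.zpowers c))) ^ m = 1 from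
      congrArg Subtype.val hβm, one_pow, map_one]

theorem lift_rigid [Finite S] [Fact p.Prime] (hS : IsPGroup p S) (hE : E.IsNormalIn F p)
    {hT : F.StronglyClosed T} {P : Subgroup Ω} {hP : P ≤ T} (hPc : E.IsCentric P)
    {c : Ω} {hcS : c ∈ S} (hcC : c ∈ centralizerIn S T)
    {β γ : liftGroup F E hT P hP c hcS} (hr : liftRes β = liftRes γ)
    (hH : liftRes β ∈ pElemAut E p P) {m : ℕ} (hm : m.Coprime p) (hβm : β ^ m = 1) (hγm : γ ^ m = 1) :
    β = γ := by
  obtain ⟨Q, hPQ, hQn⟩ := exists_isFullyNormalized F (hP.trans hT.1)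
  obtain ⟨e, he⟩ := isConj_iff.1 hPQ
  obtain ⟨W', f, hW, hfe, hkey⟩ := exists_goodExt_lift hS hE hPc hcC hQn he (hT := hT) (hP := hP)
    (hcS := hcS)
  obtain ⟨ψ, -, -, -, -, -, hψb⟩ := hkey _ hH (Nat.Coprime.coprime_dvd_left
    (orderOf_dvd_of_pow_eq_one (by rw [← map_pow, hβm, map_one])) hm)
  apply Subtype.ext
  apply MulEquiv.ext
  intro x
  exact f.injective (Subtype.ext ((hψb β rfl m hm hβm x).symm.trans (hψb γ hr.symm m hm hγm x)))

end Cfsg.Lib.FusionSys
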