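import Cfsg.Agent.Lib.FusionSys.PPrimeResidual
import Cfsg.Agent.Lib.FusionSys.IndexPrimeFamily
import Cfsg.Agent.Lib.FusionSys.NormalLift
import Cfsg.Agent.Lib.FusionSys.PPowerNormal

/-!
# A subsystem of index prime to `p` containing a given invariant subsystem

`F` is saturated over `S` and contains `E`, saturated and invariant in some `G` containing `F`.  On the family of
the centric `P` whose part in `T` is centric in `E` we close the `p`-automorphisms, and the maps that are maps of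
`E` on the part in `T`, under extensions.  The result is saturated, has index prime to `p` and contains `E`.
-/

set_option autoImplicit false
set_option linter.style.haveILetI false

namespace Cfsg.Lib.FusionSys

open Cfsg Cfsg.FusionSystem

variable {Ω : Type*} [Group Ω] {S S₀ T : Subgroup Ω} {F D : FusionSystem S} {G : FusionSystem S₀}
  {E : FusionSystem T} {p : ℕ}

/-- The centric subgroups whose part in `T` is centric in `E`. -/
def centFamily (F : FusionSystem S) (E : FusionSystem T) : Set (Subgroup Ω) :=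
  {P | F.IsCentric P ∧ E.IsCentric (P ⊓ T)}

theorem stronglyClosed_sub (hTS : T ≤ S) (hEi : E.IsInvariantIn G) (hFG : F.IsSubsystemOf G) :
    F.StronglyClosed T :=
  ⟨hTS, fun R hR φ hφ x => hEi.2.1.2 R hR φ (hFG R hφ) x⟩

theorem range_restrict_inf [Finite S] (hT : F.StronglyClosed T) {P : Subgroup Ω} {φ : P →* Ω}
    (hφ : φ ∈ F.Hom P) :
    (φ.comp (Subgroup.inclusion (inf_le_left : P ⊓ T ≤ P))).range = φ.range ⊓ T := by
  refine le_antisymm ?_ ?_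
  · rintro _ ⟨x, rfl⟩
    exact ⟨⟨_, rfl⟩, stronglyClosed_apply_mem hT hφ (x := Subgroup.inclusion inf_le_left x) x.2.2⟩
  · rintro _ ⟨⟨x, rfl⟩, hx⟩
    obtain ⟨χ, hχ, hχe⟩ := F.inv_mem hφ
    have h := stronglyClosed_apply_mem hT hχ (x := ⟨φ x, x, rfl⟩) hx
    rw [hχe x] at h
    exact ⟨⟨x, x.2, h⟩, rfl⟩

theorem centFamily_conj [Finite S] (hTS : T ≤ S) (hEi : E.IsInvariantIn G) (hFG : F.IsSubsystemOf G) :
    ∀ P ∈ centFamily F E, ∀ Q, F.IsConj P Q → Q ∈ centFamily F E := by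
  rintro P ⟨hP, hPT⟩ Q hQ
  refine ⟨isCentric_of_conj hP hQ, ?_⟩
  obtain ⟨φ, hφ, rfl⟩ := hQ
  rw [← range_restrict_inf (stronglyClosed_sub hTS hEi hFG) hφ]
  exact centric_image hEi hPT (hFG _ (restrict_mem hφ inf_le_left))

theorem centFamily_mono {P N : Subgroup Ω} (hP : P ∈ centFamily F E) (hPN : P ≤ N) (hN : N ≤ S) :
    N ∈ centFamily F E :=
  ⟨isCentric_mono hP.1 hPN hN, isCentric_mono hP.2 (inf_le_inf_right T hPN) inf_le_right⟩

/-- Outside the family some conjugate has a part in `T` not containing its centralizer. -/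
theorem exists_bad_conj [Finite S] [Fact p.Prime] (hS : IsPGroup p S) (hF : F.IsSaturated p) (hTS : T ≤ S)
    (hEi : E.IsInvariantIn G) (hFG : F.IsSubsystemOf G) (hsub : E.IsSubsystemOf F) {P : Subgroup Ω}
    (hP : P ≤ S) (hPT : ¬ E.IsCentric (P ⊓ T)) :
    ∃ φ ∈ F.Hom P, ¬ centralizerIn T (φ.range ⊓ T) ≤ φ.range ⊓ T := by
  have hsc := stronglyClosed_sub hTS hEi hFG
  obtain ⟨Q₁, hconj, hQ₁⟩ := exists_isFullyNormalized F (inf_le_left.trans hP : P ⊓ T ≤ S)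
  obtain ⟨hfc, hfa⟩ := isFullyAutomized_and_fc_of_fn hS hF hQ₁
  obtain ⟨ν, hν, -, hνQ⟩ := exists_normalizer_map hS hfa (isReceptive_of_fc hS hF hfc) hconj
  have hPN : P ≤ normalizerIn S (P ⊓ T) := by
    intro g hg
    refine ⟨hP hg, Subgroup.mem_normalizer_iff.2 fun z => ⟨fun hz => ?_, fun hz => ?_⟩⟩
    · exact ⟨P.mul_mem (P.mul_mem hg hz.1) (P.inv_mem hg), stronglyClosed_conj_mem hsc (hP hg) hz.2⟩
    · have h1 := P.mul_mem (P.mul_mem (P.inv_mem hg) hz.1) hg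
      have h2 := stronglyClosed_conj_mem hsc (S.inv_mem (hP hg)) hz.2
      simp only [mul_assoc, inv_mul_cancel_left, inv_mul_cancel, mul_one, inv_inv] at h1 h2
      exact ⟨h1, h2⟩
  have hφ := restrict_mem hν hPN
  refine ⟨_, hφ, fun hC => hPT ?_⟩
  have hQ : (ν.comp (Subgroup.inclusion hPN)).range ⊓ T = Q₁ := by
    rw [← range_restrict_inf hsc hφ, ← hνQ]
    ext y
    rw [mem_map_subgroupOf]
    constructor
    · rintro ⟨x, rfl⟩
      exact ⟨x, hPN x.2.1, x.2, rfl⟩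
    · rintro ⟨x, hx, hxQ, rfl⟩
      exact ⟨⟨x, hxQ⟩, rfl⟩
  rw [hQ] at hC
  have hQ₁T : Q₁ ≤ T := hQ ▸ inf_le_right
  have hQ₁c : E.IsCentric Q₁ := by
    refine ⟨hQ₁T, fun R hR c hc => ?_⟩
    obtain ⟨e, he⟩ := isConj_iff.1 (isConj_symm hR)
    have heF : IsoIn F e := hsub _ he
    have hre : (Q₁.subtype.comp e.toMonoidHom).range = Q₁ := by
      ext y
      exact ⟨fun ⟨x, hx⟩ => hx ▸ (e x).2, fun hy => ⟨e.symm ⟨y, hy⟩, by simp⟩⟩
    obtain ⟨ε, hε, hεe, hεc, -⟩ := exists_ext_fc hS hF hfc heF hre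
    have hcS : c ∈ centralizerIn S R := ⟨hTS hc.1, hc.2⟩
    have h1 : ε (Subgroup.inclusion le_sup_right ⟨c, hcS⟩) ∈ Q₁ :=
      hC ⟨stronglyClosed_apply_mem hsc hε (x := Subgroup.inclusion le_sup_right ⟨c, hcS⟩) hc.1, (hεc _).2⟩
    have h2 : ε (Subgroup.inclusion le_sup_left (e.symm ⟨_, h1⟩)) =
        ε (Subgroup.inclusion le_sup_right ⟨c, hcS⟩) := by
      rw [hεe]
      show ((e (e.symm ⟨_, h1⟩) : Q₁) : Ω) = _
      rw [MulEquiv.apply_symm_apply]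
    have h3 := congrArg Subtype.val (F.injective_of_mem hε h2)
    exact Set.mem_of_eq_of_mem h3.symm (e.symm ⟨_, h1⟩).2
  obtain ⟨e, he⟩ := isConj_iff.1 hconj
  have hre : ((P ⊓ T).subtype.comp e.symm.toMonoidHom).range = P ⊓ T := by
    ext y
    exact ⟨fun ⟨x, hx⟩ => hx ▸ (e.symm x).2, fun hy => ⟨e ⟨y, hy⟩, by simp⟩⟩
  exact hre ▸ centric_image hEi hQ₁c (hFG _ he.symm)

/-- An element of `T` fixing the part in `T` and moving modulo inner automorphisms. -/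
theorem exists_fix_elt [Finite S] [Fact p.Prime] (hS : IsPGroup p S) (hTS : T ≤ S)
    (hT : F.StronglyClosed T) {Q : Subgroup Ω} (hQ : Q ≤ S)
    (hC : ¬ centralizerIn T (Q ⊓ T) ≤ Q ⊓ T) :
    ∃ g ∈ T, g ∉ Q ∧ g ∈ Subgroup.normalizer (Q : Set Ω) ∧ ∀ x ∈ Q ⊓ T, g * x * g⁻¹ = x := by
  have hCS : centralizerIn T (Q ⊓ T) ≤ S := inf_le_left.trans hTS
  have hQn : Q ≤ Subgroup.normalizer (centralizerIn T (Q ⊓ T) : Set Ω) := by
    intro g hg
    have key : ∀ y ∈ Q, ∀ z ∈ centralizerIn T (Q ⊓ T), y * z * y⁻¹ ∈ centralizerIn T (Q ⊓ T) := by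
      intro y hy z hz
      obtain ⟨hzT, hzc⟩ := mem_centralizerIn.1 hz
      refine mem_centralizerIn.2 ⟨stronglyClosed_conj_mem hT (hQ hy) hzT, fun w hw => ?_⟩
      have hw' : y⁻¹ * w * y ∈ Q ⊓ T := by
        refine ⟨Q.mul_mem (Q.mul_mem (Q.inv_mem hy) hw.1) hy, ?_⟩
        simpa using stronglyClosed_conj_mem hT (S.inv_mem (hQ hy)) hw.2
      calc y * z * y⁻¹ * w = y * (z * (y⁻¹ * w * y)) * y⁻¹ := by group
        _ = y * (y⁻¹ * w * y * z) * y⁻¹ := by rw [hzc _ hw']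
        _ = w * (y * z * y⁻¹) := by group
    refine Subgroup.mem_normalizer_iff.2 fun z => ⟨key g hg z, fun hz => ?_⟩
    have h := key g⁻¹ (Q.inv_mem hg) _ hz
    simpa [mul_assoc] using h
  have hsupS : Q ⊔ centralizerIn T (Q ⊓ T) ≤ S := sup_le hQ hCS
  have hlt : Q < Q ⊔ centralizerIn T (Q ⊓ T) :=
    left_lt_sup.2 fun h => hC fun c hc => ⟨h hc, hc.1⟩
  haveI := finite_of_le hsupS
  obtain ⟨w, ⟨hw, hwn⟩, hwQ⟩ := SetLike.exists_of_lt (lt_normalizerIn (hS.to_le hsupS) hlt)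
  have hw' : w ∈ ((Q ⊔ centralizerIn T (Q ⊓ T) : Subgroup Ω) : Set Ω) := hw
  rw [Subgroup.coe_mul_of_left_le_normalizer_right Q _ hQn] at hw'
  obtain ⟨x, hx, c, hc, rfl⟩ := Set.mem_mul.1 hw'
  refine ⟨c, hc.1, fun hcQ => hwQ (Q.mul_mem hx hcQ), ?_, fun y hy =>
    conj_eq_of_commute ((mem_centralizerIn.1 hc).2 y hy)⟩
  have := Subgroup.mul_mem _ (Subgroup.inv_mem _ (Subgroup.le_normalizer hx)) hwn
  rwa [inv_mul_cancel_left] at this

/-- Conjugation by such an element lies in the largest normal `p`-subgroup of the automizer. -/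
theorem conjAut_mem_coreAut_of_fix [Finite S] [Fact p.Prime] (hS : IsPGroup p S) (hT : F.StronglyClosed T)
    {Q : Subgroup Ω} (hQ : Q ≤ S) {g : Ω} (hg : g ∈ T) (hgn : g ∈ Subgroup.normalizer (Q : Set Ω))
    (hfix : ∀ x ∈ Q ⊓ T, g * x * g⁻¹ = x) : conjAut Q hgn ∈ coreAut F p Q := by
  haveI := finite_mulAut_of_le hQ
  let W : Subgroup (F.autGroup Q) :=
    { carrier := {δ | (∀ x : Q, (x : Ω) ∈ T → (δ : MulAut Q) x = x) ∧
        ∀ x : Q, (x : Ω)⁻¹ * (((δ : MulAut Q) x : Q) : Ω) ∈ T}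
      one_mem' := ⟨fun _ _ => rfl, fun x => by simp⟩
      mul_mem' := fun {a b} ha hb => ⟨fun x hx => by rw [Subgroup.coe_mul, MulAut.mul_apply, hb.1 x hx, ha.1 x hx],
        fun x => by
          have := T.mul_mem (hb.2 x) (ha.2 ((b : MulAut Q) x))
          simpa [mul_assoc] using this⟩
      inv_mem' := fun {a} ha => ⟨fun x hx => by
        rw [Subgroup.coe_inv]
        conv_lhs => rw [← ha.1 x hx]
        exact MulAut.inv_apply_self _ _ _, fun x => by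
          have h := T.inv_mem (ha.2 ((a : MulAut Q)⁻¹ x))
          rw [MulAut.apply_inv_self] at h
          simpa [mul_inv_rev] using h⟩ }
  have hn : W.Normal := by
    refine ⟨fun δ hδ b => ⟨fun x hx => ?_, fun x => ?_⟩⟩
    · have h := stronglyClosed_aut_mem hT (inv_mem b.2) hQ hx
      rw [Subgroup.coe_mul, Subgroup.coe_mul, Subgroup.coe_inv, MulAut.mul_apply, MulAut.mul_apply,
        hδ.1 _ h, MulAut.apply_inv_self]
    · set y := ((b : MulAut Q))⁻¹ x with hy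
      have h := stronglyClosed_aut_mem hT b.2 hQ (x := y⁻¹ * (δ : MulAut Q) y) (hδ.2 y)
      rw [map_mul, map_inv, show (b : MulAut Q) y = x from MulAut.apply_inv_self _ _ _] at h
      exact h
  have hp : IsPGroup p W := fun δ => by
    obtain ⟨k, hk⟩ := isPGroup_aut_stab hS hT hQ δ.2.1 δ.2.2
    exact ⟨k, Subtype.ext (Subtype.ext (by rw [Subgroup.coe_pow, Subgroup.coe_pow]; exact hk))⟩
  have hmem : conjAut Q hgn ∈ F.autGroup Q :=
    autInducedBy_le_autGroup hQ (conjAut_mem_autInducedBy hgn (hT.1 hg))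
  refine ⟨⟨_, hmem⟩, Cfsg.Lib.Core.le_pCore' hn hp
    ⟨fun x hx => Subtype.ext (hfix x ⟨x.2, hx⟩), fun x => ?_⟩, rfl⟩
  show (x : Ω)⁻¹ * (g * x * g⁻¹) ∈ T
  have := T.mul_mem (stronglyClosed_conj_mem hT (S.inv_mem (hQ x.2)) hg) (T.inv_mem hg)
  simpa [mul_assoc] using this

theorem mem_centFamily_of_essential [Finite S] [Fact p.Prime] (hS : IsPGroup p S) (hF : F.IsSaturated p)
    (hTS : T ≤ S) (hEi : E.IsInvariantIn G) (hFG : F.IsSubsystemOf G) (hsub : E.IsSubsystemOf F)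
    (P : Subgroup Ω) (hP : F.IsEssential p P) : P ∈ centFamily F E := by
  refine ⟨hP.1, by_contra fun hPT => ?_⟩
  have hPS := hP.1.1
  obtain ⟨φ, hφ, hbad⟩ := exists_bad_conj hS hF hTS hEi hFG hsub hPS hPT
  have hT := stronglyClosed_sub hTS hEi hFG
  obtain ⟨g, hgT, hgQ, hgn, hfix⟩ := exists_fix_elt (F := F) hS hTS hT (range_le hφ) hbad
  have h1 := congr_mem_coreAut (isoIn_homIso hφ (rfl : φ.range = φ.range)).symm
    (conjAut_mem_coreAut_of_fix hS hT (range_le hφ) hgT hgn hfix)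
  have hrad := (isRadical_of_isEssential hS hP).2
  change _ ∈ (pCore p (F.autGroup P)).map (F.autGroup P).subtype at h1
  rw [hrad] at h1
  obtain ⟨y, hy⟩ := h1
  set e := homIso hφ (rfl : φ.range = φ.range) with he
  refine hgQ (mem_of_conjAut_mem_inn (hP.1.2 φ.range ⟨φ, hφ, rfl⟩) (range_le hφ) (hTS hgT)
    (fun x => coe_conjAut _ hgn x) ⟨e y, ?_⟩)
  have h2 := congrArg (MulAut.congr e) hy
  refine MulEquiv.ext fun x => ?_
  have h3 := congrArg (fun a : MulAut φ.range => a x) h2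
  simp only [MulAut.congr, MulEquiv.coe_mk, Equiv.coe_fn_mk, MulEquiv.trans_apply,
    MulEquiv.apply_symm_apply, MulAut.conj_apply, map_mul, map_inv] at h3
  exact h3.trans (congrArg (conjAut φ.range hgn) (e.apply_symm_apply x))

/-- The three closure conditions. -/
def IsFamilyClosed (F : FusionSystem S) (E : FusionSystem T) (p : ℕ) (D : FusionSystem S) : Prop :=
  (∀ P ∈ centFamily F E, ∀ a ∈ F.autGroup P, (∃ k : ℕ, orderOf a = p ^ k) → a ∈ D.autGroup P) ∧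
    (∀ (P N : Subgroup Ω) (hPN : P ≤ N), P ∈ centFamily F E → N ≤ Subgroup.normalizer (P : Set Ω) →
      ∀ φ ∈ F.Hom N, φ.comp (Subgroup.inclusion hPN) ∈ D.Hom P → φ ∈ D.Hom N) ∧
    ∀ P ∈ centFamily F E, ∀ φ ∈ F.Hom P,
      φ.comp (Subgroup.inclusion (inf_le_left : P ⊓ T ≤ P)) ∈ E.Hom (P ⊓ T) → φ ∈ D.Hom P

/-- The least subsystem with these properties. -/
def minFamilyClosed (F : FusionSystem S) (E : FusionSystem T) (p : ℕ) : FusionSystem S where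
  Hom P := {φ | φ ∈ F.Hom P ∧ ∀ D : FusionSystem S, IsFamilyClosed F E p D → φ ∈ D.Hom P}
  le_of_mem h := F.le_of_mem h.1
  injective_of_mem h := F.injective_of_mem h.1
  conj_mem hP hg := ⟨F.conj_mem hP hg, fun D _ => D.conj_mem hP hg⟩
  comp_mem hφ hψ h := ⟨F.comp_mem hφ.1 hψ.1 h, fun D hD => D.comp_mem (hφ.2 D hD) (hψ.2 D hD) h⟩
  inv_mem := by
    rintro P φ ⟨hφ, hφ'⟩
    obtain ⟨ψ, hψ, hψe⟩ := F.inv_mem hφ
    refine ⟨ψ, ⟨hψ, fun D hD => ?_⟩, hψe⟩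
    obtain ⟨χ, hχ, hχe⟩ := D.inv_mem (hφ' D hD)
    refine hom_congr hχ ?_
    rintro ⟨_, x, rfl⟩
    exact (hψe x).trans (hχe x).symm

theorem minFamilyClosed_le : minFamilyClosed F E p ≤ F := fun _ _ h => h.1

theorem minFamilyClosed_le_of (hD : IsFamilyClosed F E p D) : minFamilyClosed F E p ≤ D :=
  fun _ _ h => h.2 D hD

theorem isFamilyClosed_minFamilyClosed : IsFamilyClosed F E p (minFamilyClosed F E p) := by
  refine ⟨fun P hP a ha hk => ?_, fun P N hPN hP hN φ hφ h => ?_, fun P hP φ hφ h => ?_⟩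
  · exact (mem_autGroup hP.1.1).2 ⟨(mem_autGroup hP.1.1).1 ha,
      fun D hD => (mem_autGroup hP.1.1).1 (hD.1 P hP a ha hk)⟩
  · exact ⟨hφ, fun D hD => hD.2.1 P N hPN hP hN φ hφ (h.2 D hD)⟩
  · exact ⟨hφ, fun D hD => hD.2.2 P hP φ hφ h⟩

theorem family_class_good [Finite S] [Fact p.Prime] (hS : IsPGroup p S) (hF : F.IsSaturated p)
    {E₀ : FusionSystem T} (hTS : T ≤ S) (hEi : E₀.IsInvariantIn G) (hFG : F.IsSubsystemOf G)
    (hsub : E₀.IsSubsystemOf F)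
    {P : Subgroup Ω} (hP : P ∈ centFamily F E₀) :
    ∃ Q, (minFamilyClosed F E₀ p).IsConj P Q ∧ (minFamilyClosed F E₀ p).IsFullyAutomized p Q ∧
      (minFamilyClosed F E₀ p).IsReceptive Q := by
  set E := minFamilyClosed F E₀ p with hEdef
  obtain ⟨hE1, hE2, -⟩ := isFamilyClosed_minFamilyClosed (F := F) (E := E₀) (p := p)
  obtain ⟨Q, ⟨φ, hφ, hr⟩, hQ⟩ := exists_isFullyNormalized F hP.1.1
  obtain ⟨α, hα, φ₀, hφ₀, he⟩ := exists_factor_of_family hS hF (centFamily_conj hTS hEi hFG) (mem_centFamily_of_essential hS hF hTS hEi hFG hsub) hE1 hφ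
  have hφ₀E : φ₀ ∈ E.Hom P := twistCore_le_right P hφ₀
  have hφ₀F : φ₀ ∈ F.Hom P := hφ₀.1
  set Q₀ := φ₀.range with hQ₀
  have hPQ₀ : F.IsConj P Q₀ := ⟨φ₀, hφ₀F, rfl⟩
  have hQ₀h : Q₀ ∈ centFamily F E₀ := centFamily_conj hTS hEi hFG P hP _ hPQ₀
  have hQ₀c : F.IsCentric Q₀ := hQ₀h.1
  have hQQ₀ : F.IsConj Q Q₀ := isConj_trans (isConj_symm ⟨φ, hφ, hr⟩) hPQ₀
  have hmem : ∀ z : S, (z : Ω) ∈ Q₀ ↔ ((α z : S) : Ω) ∈ Q := by
    intro z
    constructor
    · rintro ⟨x, hx⟩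
      rw [← hr, show z = ⟨φ₀ x, hom_mem hφ₀F x⟩ from Subtype.ext hx.symm, ← he x (hom_mem hφ₀F x)]
      exact ⟨x, rfl⟩
    · rw [← hr]
      rintro ⟨x, hx⟩
      rw [he x (hom_mem hφ₀F x)] at hx
      exact ⟨x, congrArg Subtype.val (α.injective (Subtype.ext hx))⟩
  have hfn : F.IsFullyNormalized Q₀ := by
    refine ⟨hQ₀c.1, fun R hR => (hQ.2 R (isConj_trans hQQ₀ hR)).trans ?_⟩
    haveI := finite_of_le (normalizerIn_le (S := S) Q₀)
    have hn : ∀ y : normalizerIn S Q,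
        ((α⁻¹ ⟨y, y.2.1⟩ : S) : Ω) ∈ normalizerIn S Q₀ := by
      intro y
      refine ⟨(α⁻¹ ⟨y, y.2.1⟩).2, ?_⟩
      refine Subgroup.mem_normalizer_iff.2 fun z => ?_
      set s := α⁻¹ ⟨(y : Ω), y.2.1⟩ with hs
      have hys : (α s : Ω) = y := congrArg Subtype.val (MulAut.apply_inv_self _ α _)
      constructor
      · intro hz
        have h1 := (hmem (s * ⟨z, hQ₀c.1 hz⟩ * s⁻¹)).2 ?_
        · exact h1
        rw [map_mul, map_mul, map_inv, Subgroup.coe_mul, Subgroup.coe_mul, Subgroup.coe_inv, hys]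
        exact (Subgroup.mem_normalizer_iff.1 y.2.2 _).1 ((hmem _).1 hz)
      · intro hz
        have h1 := (hmem ⟨_, hQ₀c.1 hz⟩).1 hz
        have h2 : (⟨(s : Ω) * z * (s : Ω)⁻¹, hQ₀c.1 hz⟩ : S) =
            s * (s⁻¹ * ⟨(s : Ω) * z * (s : Ω)⁻¹, hQ₀c.1 hz⟩ * s) * s⁻¹ := by group
        have h3 : ((s⁻¹ * ⟨(s : Ω) * z * (s : Ω)⁻¹, hQ₀c.1 hz⟩ * s : S) : Ω) = z := by
          simp [mul_assoc]
        rw [h2, map_mul, map_mul, map_inv, Subgroup.coe_mul, Subgroup.coe_mul, Subgroup.coe_inv,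
          hys] at h1
        have h4 := (hmem _).2 ((Subgroup.mem_normalizer_iff.1 y.2.2 _).2 h1)
        rwa [h3] at h4
    exact Nat.card_le_card_of_injective (fun y => (⟨_, hn y⟩ : normalizerIn S Q₀)) fun a b hab =>
      Subtype.ext (congrArg Subtype.val ((α⁻¹ : MulAut S).injective
        (Subtype.ext (congrArg Subtype.val hab :))) :)
  obtain ⟨hfc, -, W, hW⟩ := isFullyAutomized_and_fc_of_fn hS hF hfn
  haveI := finite_mulAut_of_le hQ₀c.1
  refine ⟨Q₀, ⟨φ₀, hφ₀E, rfl⟩, ⟨hQ₀c.1, ?_⟩, hQ₀c.1, fun A χ hχ hχr => ?_⟩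
  · have hle : E.autGroup Q₀ ≤ F.autGroup Q₀ := fun a ha =>
      (mem_autGroup hQ₀c.1).2 (minFamilyClosed_le _ ((mem_autGroup hQ₀c.1).1 ha))
    obtain ⟨T, hT⟩ := ((isPGroup_autInducedBy hS).comap_subtype :
      IsPGroup p ((autInducedBy S Q₀).subgroupOf (E.autGroup Q₀))).exists_le_sylow
    refine ⟨T, le_antisymm ?_ hT⟩
    intro a ha
    have h1 := W.3 ((T.isPGroup').map (Subgroup.inclusion hle)) (by
      intro w hw
      rw [hW, Subgroup.mem_subgroupOf] at hw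
      exact ⟨⟨w, autInducedBy_le_autGroup hQ₀c.1 hw⟩, hT hw, rfl⟩)
    have h2 : Subgroup.inclusion hle a ∈ (W : Subgroup (F.autGroup Q₀)) := by
      rw [← h1]
      exact ⟨a, ha, rfl⟩
    rw [hW, Subgroup.mem_subgroupOf] at h2
    exact h2
  · obtain ⟨ψ, hψ, hψe⟩ :=
      (isReceptive_of_fc hS hF hfc).2 A χ (minFamilyClosed_le _ hχ) hχr
    have hA : A ∈ centFamily F E₀ :=
      centFamily_conj hTS hEi hFG _ hQ₀h _ (isConj_symm ⟨χ, minFamilyClosed_le _ hχ, hχr⟩)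
    have hle : A ≤ extender S A χ := le_extender hA.1.1 (hom_mem hχ)
    refine ⟨ψ, hE2 A _ hle hA ((extender_le χ).trans inf_le_right) ψ hψ
      (hom_congr hχ fun x => hψe x x.2 _), hψe⟩

theorem isSaturated_minFamilyClosed [Finite S] [Fact p.Prime] (hS : IsPGroup p S) (hF : F.IsSaturated p)
    (hTS : T ≤ S) (hEi : E.IsInvariantIn G) (hFG : F.IsSubsystemOf G) (hsub : E.IsSubsystemOf F) :
    (minFamilyClosed F E p).IsSaturated p := by
  obtain ⟨hE1, hE2, hE3⟩ := isFamilyClosed_minFamilyClosed (F := F) (E := E) (p := p)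
  have hconj := centFamily_conj (F := F) hTS hEi hFG
  have hess := mem_centFamily_of_essential hS hF hTS hEi hFG hsub
  refine isSaturated_of_family hS (centFamily F E)
    (fun P hP Q hQ => hconj P hP Q (by obtain ⟨φ, hφ, hr⟩ := hQ; exact ⟨φ, hφ.1, hr⟩))
    (fun P hP => family_class_good hS hF hTS hEi hFG hsub hP) (fun D hD => ?_) fun P hP hPℋ => ?_
  · let D' : FusionSystem S :=
      { Hom := fun P => {φ | φ ∈ (minFamilyClosed F E p).Hom P ∧ φ ∈ D.Hom P}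
        le_of_mem := fun h => FusionSystem.le_of_mem _ h.1
        injective_of_mem := fun h => FusionSystem.injective_of_mem _ h.1
        conj_mem := fun hP hg => ⟨FusionSystem.conj_mem _ hP hg, D.conj_mem hP hg⟩
        comp_mem := fun hφ hψ h => ⟨FusionSystem.comp_mem _ hφ.1 hψ.1 h, D.comp_mem hφ.2 hψ.2 h⟩
        inv_mem := by
          rintro P φ ⟨h1, h2⟩
          obtain ⟨ψ, hψ, hψe⟩ := FusionSystem.inv_mem _ h1
          obtain ⟨χ, hχ, hχe⟩ := D.inv_mem h2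
          refine ⟨ψ, ⟨hψ, hom_congr hχ ?_⟩, hψe⟩
          rintro ⟨_, x, rfl⟩
          exact (hψe x).trans (hχe x).symm }
    have hcl : IsFamilyClosed F E p D' := by
      refine ⟨fun P hP a ha hk => ?_, fun P N hPN hP hN φ hφ h => ?_, fun P hP φ hφ h => ?_⟩
      · have h1 := (mem_autGroup hP.1.1).1 (hE1 P hP a ha hk)
        exact (mem_autGroup hP.1.1).2 ⟨h1, hD P hP h1⟩
      · have h1 := hE2 P N hPN hP hN φ hφ h.1
        exact ⟨h1, hD N (centFamily_mono hP hPN (hom_le hφ)) h1⟩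
      · have h1 := hE3 P hP φ hφ h
        exact ⟨h1, hD P hP h1⟩
    exact fun P φ hφ => (minFamilyClosed_le_of hcl P hφ).2
  · have hPF : F.IsCentric P := by
      refine ⟨hP.1, fun Q hQ => ?_⟩
      obtain ⟨φ, hφ, rfl⟩ := hQ
      obtain ⟨α, hα, φ₀, hφ₀, he⟩ := exists_factor_of_family hS hF hconj hess hE1 hφ
      have h0 := hP.2 _ ⟨φ₀, twistCore_le_right P hφ₀, rfl⟩
      intro g hg
      obtain ⟨hgS, hgc⟩ := mem_centralizerIn.1 hg
      have h1 : ((α⁻¹ ⟨g, hgS⟩ : S) : Ω) ∈ φ₀.range := by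
        refine h0 (mem_centralizerIn.2 ⟨(α⁻¹ ⟨g, hgS⟩).2, ?_⟩)
        rintro _ ⟨x, rfl⟩
        have h2 : α (α⁻¹ ⟨g, hgS⟩ * ⟨φ₀ x, hom_mem hφ₀.1 x⟩) =
            α (⟨φ₀ x, hom_mem hφ₀.1 x⟩ * α⁻¹ ⟨g, hgS⟩) := by
          rw [map_mul, map_mul, MulAut.apply_inv_self]
          refine Subtype.ext ?_
          simp only [Subgroup.coe_mul, ← he x (hom_mem hφ₀.1 x)]
          exact hgc _ ⟨x, rfl⟩
        exact congrArg Subtype.val (α.injective h2)
      obtain ⟨x, hx⟩ := h1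
      refine ⟨x, (he x (hom_mem hφ₀.1 x)).trans ?_⟩
      rw [show (⟨φ₀ x, hom_mem hφ₀.1 x⟩ : S) = α⁻¹ ⟨g, hgS⟩ from Subtype.ext hx,
        MulAut.apply_inv_self]
    obtain ⟨φ, hφ, hbad⟩ := exists_bad_conj hS hF hTS hEi hFG hsub hP.1 fun h => hPℋ ⟨hPF, h⟩
    obtain ⟨α, hα, φ₀, hφ₀, he⟩ := exists_factor_of_family hS hF hconj hess hE1 hφ
    have hT := stronglyClosed_sub (F := F) hTS hEi hFG
    have hmove : ¬ centralizerIn T (φ₀.range ⊓ T) ≤ φ₀.range ⊓ T := by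
      intro hle
      refine hbad fun c hc => ⟨?_, hc.1⟩
      obtain ⟨hcT, hcc⟩ := mem_centralizerIn.1 hc
      have h1 : ((α⁻¹ ⟨c, hTS hcT⟩ : S) : Ω) ∈ φ₀.range ⊓ T := by
        refine hle (mem_centralizerIn.2 ⟨stronglyClosed_aut_mem hT (inv_mem hα) le_rfl hcT, ?_⟩)
        rintro _ ⟨⟨x, rfl⟩, hxT⟩
        have hx' : φ x ∈ φ.range ⊓ T := ⟨⟨x, rfl⟩, by
          rw [he x (hom_mem hφ₀.1 x)]
          exact stronglyClosed_aut_mem hT hα le_rfl hxT⟩
        have h2 : α (α⁻¹ ⟨c, hTS hcT⟩ * ⟨φ₀ x, hom_mem hφ₀.1 x⟩) =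
            α (⟨φ₀ x, hom_mem hφ₀.1 x⟩ * α⁻¹ ⟨c, hTS hcT⟩) := by
          rw [map_mul, map_mul, MulAut.apply_inv_self]
          refine Subtype.ext ?_
          simp only [Subgroup.coe_mul, ← he x (hom_mem hφ₀.1 x)]
          exact hcc _ hx'
        exact congrArg Subtype.val (α.injective h2)
      obtain ⟨x, hx⟩ := h1.1
      refine ⟨x, (he x (hom_mem hφ₀.1 x)).trans ?_⟩
      rw [show (⟨φ₀ x, hom_mem hφ₀.1 x⟩ : S) = α⁻¹ ⟨c, hTS hcT⟩ from Subtype.ext hx,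
        MulAut.apply_inv_self]
    have hφ₀D := twistCore_le_right P hφ₀
    refine ⟨φ₀.range, ⟨φ₀, hφ₀D, rfl⟩, fun hsub' => ?_⟩
    have hQS : φ₀.range ≤ S := range_le hφ₀D
    obtain ⟨g, hgT, hgQ, hgn, hfix⟩ := exists_fix_elt (F := F) hS hTS hT hQS hmove
    have hTD : (minFamilyClosed F E p).StronglyClosed T :=
      ⟨hTS, fun R hR χ hχ x => hT.2 R hR χ hχ.1 x⟩
    exact hgQ (mem_of_conjAut_mem_inn (hP.2 _ ⟨φ₀, hφ₀D, rfl⟩) hQS (hTS hgT) (fun x => coe_conjAut _ hgn x)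
      (hsub' ⟨conjAut_mem_autInducedBy hgn (hTS hgT), conjAut_mem_coreAut_of_fix hS hTD hQS hgT hgn hfix⟩))

theorem hasPrimeToPIndexIn_minFamilyClosed [Finite S] [Fact p.Prime] (hS : IsPGroup p S) (hF : F.IsSaturated p)
    (hTS : T ≤ S) (hEi : E.IsInvariantIn G) (hFG : F.IsSubsystemOf G) (hsub : E.IsSubsystemOf F) :
    (minFamilyClosed F E p).HasPrimeToPIndexIn F p := by
  refine ⟨fun P φ h => h.1, fun P hP => ?_⟩
  rw [Subgroup.map_le_iff_le_comap, Subgroup.closure_le]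
  rintro a ⟨k, hk⟩
  exact mem_autGroup_of_family hS hF (centFamily_conj hTS hEi hFG)
    (mem_centFamily_of_essential hS hF hTS hEi hFG hsub) isFamilyClosed_minFamilyClosed.1 hP a.2
    ⟨k, by rw [← hk]; exact Subgroup.orderOf_coe a⟩

theorem subsystem_minFamilyClosed [Finite S] [Fact p.Prime] (hS : IsPGroup p S) (hF : F.IsSaturated p)
    (hTS : T ≤ S) (hEi : E.IsInvariantIn G) (hFG : F.IsSubsystemOf G) (hsub : E.IsSubsystemOf F)
    (hEs : E.IsSaturated p) [Finite S₀] : E.IsSubsystemOf (minFamilyClosed F E p) := by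
  obtain ⟨hE1, -, hE3⟩ := isFamilyClosed_minFamilyClosed (F := F) (E := E) (p := p)
  have hsc := stronglyClosed_sub (F := F) hTS hEi hFG
  haveI := finite_of_le hTS
  suffices key : E ≤ fullOn (minFamilyClosed F E p) T hTS from fun P φ hφ => (key P hφ).1
  refine le_of_autGroup_le (hS.to_le hTS) hEs _ fun M hM β hβ => ?_
  have hMc : E.IsCentric M := by
    rcases hM with rfl | hM
    · exact ⟨le_rfl, fun Q hQ => by rw [eq_top_of_isConj hQ]; exact centralizerIn_le _⟩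
    · exact hM.1
  have hMS : M ≤ S := hMc.1.trans hTS
  obtain ⟨Q, ⟨χ, hχ, hχr⟩, hQ⟩ := exists_isFullyCentralized F hMS
  obtain ⟨α, hα, χ₀, hχ₀, he⟩ := exists_factor_of_family hS hF (centFamily_conj hTS hEi hFG)
    (mem_centFamily_of_essential hS hF hTS hEi hFG hsub) hE1 hχ
  have hχ₀D := twistCore_le_right M hχ₀
  have hχ₀F : χ₀ ∈ F.Hom M := hχ₀.1
  set Q₀ := χ₀.range with hQ₀
  have hQ₀S : Q₀ ≤ S := range_le hχ₀F
  have hfc : F.IsFullyCentralized Q₀ := by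
    refine ⟨hQ₀S, fun R hR => ?_⟩
    refine (hQ.2 R (isConj_trans (isConj_trans (isConj_symm ⟨χ, hχ, hχr⟩) ⟨χ₀, hχ₀F, rfl⟩) hR)).trans ?_
    haveI := finite_of_le (centralizerIn_le (S := S) Q)
    have hv : ∀ y : centralizerIn S Q, ((α⁻¹ ⟨y, y.2.1⟩ : S) : Ω) ∈ centralizerIn S Q₀ := by
      intro y
      refine mem_centralizerIn.2 ⟨(α⁻¹ _).2, ?_⟩
      rintro _ ⟨x, rfl⟩
      have h2 : α (α⁻¹ ⟨y, y.2.1⟩ * ⟨χ₀ x, hom_mem hχ₀F x⟩) =
          α (⟨χ₀ x, hom_mem hχ₀F x⟩ * α⁻¹ ⟨y, y.2.1⟩) := by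
        rw [map_mul, map_mul, MulAut.apply_inv_self]
        refine Subtype.ext ?_
        simp only [Subgroup.coe_mul, ← he x (hom_mem hχ₀F x)]
        exact (mem_centralizerIn.1 y.2).2 _ (hχr ▸ ⟨x, rfl⟩)
      exact congrArg Subtype.val (α.injective h2)
    haveI := finite_of_le (centralizerIn_le (S := S) Q₀)
    exact Nat.card_le_card_of_injective (fun y => (⟨_, hv y⟩ : centralizerIn S Q₀)) fun a b hab =>
      Subtype.ext (congrArg Subtype.val ((α⁻¹ : MulAut S).injective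
        (Subtype.ext (congrArg Subtype.val hab :))) :)
  have hQ₀c : E.IsCentric Q₀ := centric_image hEi hMc (hFG _ hχ₀F)
  set P := Q₀ ⊔ centralizerIn S Q₀ with hPdef
  have hPS : P ≤ S := sup_le hQ₀S (centralizerIn_le _)
  have hPT : P ⊓ T = Q₀ := by
    refine le_antisymm (fun x hx => ?_) (le_inf le_sup_left hQ₀c.1)
    obtain ⟨a, ha, b, hb, rfl⟩ := exists_mul_of_mem_sup_centralizer hx.1
    have hbT : b ∈ T := by
      have := T.mul_mem (T.inv_mem (hQ₀c.1 ha)) hx.2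
      rwa [inv_mul_cancel_left] at this
    exact Q₀.mul_mem ha (hQ₀c.2 Q₀ (isConj_refl E hQ₀c.1) ⟨hbT, hb.2⟩)
  have hPℋ : P ∈ centFamily F E := by
    refine ⟨⟨hPS, ?_⟩, hPT ▸ hQ₀c⟩
    rintro R ⟨ψ, hψ, rfl⟩ c hc
    have hres := restrict_mem hψ (le_sup_left : Q₀ ≤ P)
    have hv : ∀ y : centralizerIn S Q₀, ψ (Subgroup.inclusion le_sup_right y) ∈
        centralizerIn S (ψ.comp (Subgroup.inclusion (le_sup_left : Q₀ ≤ P))).range := by
      intro y
      refine mem_centralizerIn.2 ⟨hom_mem hψ _, ?_⟩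
      rintro _ ⟨x, rfl⟩
      show ψ _ * ψ _ = ψ _ * ψ _
      rw [← map_mul, ← map_mul]
      exact congrArg ψ (Subtype.ext ((mem_centralizerIn.1 y.2).2 _ x.2))
    haveI := finite_of_le (centralizerIn_le (S := S) (ψ.comp (Subgroup.inclusion (le_sup_left : Q₀ ≤ P))).range)
    have hbij := Function.Injective.bijective_of_nat_card_le
      (f := fun y => (⟨_, hv y⟩ : centralizerIn S (ψ.comp (Subgroup.inclusion (le_sup_left : Q₀ ≤ P))).range))
      (fun a b hab => Subtype.ext (congrArg Subtype.val (F.injective_of_mem hψ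
        (congrArg Subtype.val hab)) :))
      (hfc.2 _ ⟨_, hres, rfl⟩)
    obtain ⟨y, hy⟩ := hbij.2 ⟨c, hc.1, fun z hz => hc.2 z (by
      obtain ⟨w, rfl⟩ := hz
      exact ⟨_, rfl⟩)⟩
    exact ⟨_, congrArg Subtype.val hy⟩
  let e : M ≃* Q₀ := homIso hχ₀F rfl
  have heD : IsoIn (minFamilyClosed F E p) e := isoIn_homIso hχ₀D rfl
  have hβ' := congr_mem_invariant hEi hMc.1 (hFG _ (isoIn_homIso hχ₀F rfl) : IsoIn G e) hβ
  have hβ'E := (mem_autGroup hQ₀c.1).1 hβ'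
  have hr : (Q₀.subtype.comp (MulAut.congr e β).toMonoidHom).range = Q₀ := by
    ext y
    exact ⟨fun ⟨x, hx⟩ => hx ▸ ((MulAut.congr e β) x).2,
      fun hy => ⟨(MulAut.congr e β).symm ⟨y, hy⟩, by simp⟩⟩
  obtain ⟨ε, hε, hεe, -, -⟩ := exists_ext_fc hS hF hfc (hsub _ hβ'E) hr
  have hεT : ε.comp (Subgroup.inclusion (inf_le_left : P ⊓ T ≤ P)) ∈ E.Hom (P ⊓ T) :=
    hom_congr (restrict_mem hβ'E (le_of_eq hPT)) fun x => hεe ⟨x, hPT.le x.2⟩
  have h1 := restrict_mem (hE3 P hPℋ ε hε hεT) (le_sup_left : Q₀ ≤ P)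
  have h2 : IsoIn (minFamilyClosed F E p) (MulAut.congr e β) := hom_congr h1 fun x => (hεe x).symm
  refine (mem_autGroup hMc.1).2 ⟨?_, hMc.1, fun x => hMc.1 (β x).2⟩
  exact IsoIn.of_eq (heD.trans (h2.trans heD.symm)) fun x => by simp [MulAut.congr]

end Cfsg.Lib.FusionSys
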