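import Cfsg.Agent.Lib.FusionSys.ResidualLimitUnique
import Cfsg.Agent.Lib.FusionSys.PPowerIsNormal
import Cfsg.Agent.Lib.FusionSys.PPowerExists
import Cfsg.Agent.Lib.FusionSys.ResidualNormalMain
import Cfsg.Agent.Lib.FusionSys.LeastNormal
import Cfsg.Agent.Lib.FusionSys.NormalLift
import Cfsg.Agent.Lib.FusionSys.TerminatingSeries

/-!
Residual limits exist and are the same for a subsystem of index prime to `p`.
-/

set_option autoImplicit false
set_option linter.style.haveILetI false

namespace Cfsg.Lib.FusionSys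

open Cfsg Cfsg.FusionSystem

variable {Ω : Type*} [Group Ω] {S T : Subgroup Ω} {F : FusionSystem S} {p : ℕ} [Fact p.Prime]

theorem pPower_transport_invariant [Finite S] (hS : IsPGroup p S) (hT : F.StronglyClosed T)
    {X : FusionSystem S} (hXi : X.IsInvariantIn F) {E : FusionSystem T}
    (hE : E.IsSaturated p) (hidx : E.HasPPowerIndexIn X p) :
    E ≤ twistCore (fullOn F T hT.1) E := by
  haveI := finite_of_le hT.1
  refine le_of_autGroup_le (hS.to_le hT.1) hE _ fun P hP => ?_
  have hPT : P ≤ T := hP.elim (fun e => e.le) fun e => e.1.1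
  haveI := finite_of_le (hPT.trans hT.1)
  haveI : Finite (MulAut P) := Finite.of_injective (fun f => (f : P → P)) DFunLike.coe_injective
  have hfn : E.IsFullyNormalized P := hP.elim (fun e => e ▸ isFullyNormalized_top E) fun e => e.2.1
  obtain ⟨-, R, hR⟩ := (isFullyAutomized_and_fc_of_fn (hS.to_le hT.1) hE hfn).2
  refine le_of_sylow_of_coprime R (le_of_eq_of_le
    (by rw [hR, Subgroup.map_subgroupOf_eq_of_le (autInducedBy_le_autGroup hPT)])
    (autInducedBy_le_autGroup hPT)) fun a ha hc => ?_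
  have haE := (mem_autGroup hPT).1 ha
  have hi : a ∈ (fullOn F T hT.1).autGroup P :=
    (mem_autGroup hPT).2 ⟨hXi.1 P (hidx.1 P haE), hPT, fun x => hPT (a x).2⟩
  refine (mem_autGroup hPT).2 ⟨(mem_autGroup hPT).1 hi, fun β hβ => ?_⟩
  have hb := restrict_mem ((mem_autGroup le_rfl).1 hβ) hPT
  have hr : ((T.subtype.comp β.toMonoidHom).comp (Subgroup.inclusion hPT)).range = autImage β P := by
    ext y
    exact ⟨fun ⟨x, hx⟩ => ⟨⟨x, hPT x.2⟩, x.2, hx⟩, fun ⟨t, ht, e⟩ => ⟨⟨(t : Ω), ht⟩, e⟩⟩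
  have he := isoIn_homIso hb hr
  have h1 := (mem_autGroup (autImage_le β P)).1 (congr_mem_autGroup he hi)
  have hX : autImage β P ≤ S := (autImage_le β P).trans hT.1
  have h2 := congr_mem_invariant hXi (hPT.trans hT.1) (hom_congr hb.1 fun x => rfl : IsoIn F (homIso hb hr))
    ((mem_autGroup (hPT.trans hT.1)).2 (hidx.1 P haE))
  have hc' : (orderOf (MulAut.congr (homIso hb hr) a)).Coprime p := by rwa [MulEquiv.orderOf_eq]
  have h3 := (mem_autGroup (autImage_le β P)).1 (hidx.2.2 _ (autImage_le β P)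
    ⟨⟨_, h2⟩, Cfsg.Lib.Fusion.mem_pResidual_of_coprime (by rwa [← Subgroup.orderOf_coe]), rfl⟩)
  refine ⟨_, h3, fun x hx => ?_⟩
  have hex : (⟨_, hx⟩ : autImage β P) = homIso hb hr x := Subtype.ext rfl
  rw [hex]
  show ((homIso hb hr (a ((homIso hb hr).symm (homIso hb hr x))) : autImage β P) : Ω) = _
  rw [MulEquiv.symm_apply_apply]
  rfl


/-- A `p`-power index subsystem of the `p'`-residual is invariant in the whole system. -/
theorem isInvariantIn_pPower_residual [Finite S] (hS : IsPGroup p S) (hF : F.IsSaturated p)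
    (hTn : (T.subgroupOf S).Normal) (hTS : T ≤ S) (hT : F.StronglyClosed T) {X : FusionSystem S}
    (hX : F.IsPPrimeResidual p X) (hhyp : X.hyperfocalSubgroup p ≤ T) {Y : FusionSystem T}
    (hY : Y.IsSaturated p) (hidx : Y.HasPPowerIndexIn X p) : Y.IsInvariantIn F := by
  haveI := finite_of_le hTS
  have hXn := isNormalIn_residual hS ⟨hF, hF, isInvariantIn_self F⟩ hX
  have hXi := hXn.1.2.2
  have hYn := isNormalIn_of_pPower hS hX.1 hTn hhyp hTS hY hidx
  have hautT : ∀ α ∈ F.autGroup T, α ∈ (fullOn F T hT.1).autGroup T := fun α hα =>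
    (mem_autGroup le_rfl).2 ⟨(mem_autGroup hTS).1 hα, le_rfl, fun x => (α x).2⟩
  refine ⟨fun P φ hφ => hXi.1 P (hidx.1 P hφ), hT, fun P hPT φ hφ α hα => ?_, fun P hPT φ hφ => ?_⟩
  · obtain ⟨χ, hχ, hχe⟩ :=
      twistCore_invariant (hautT α hα) (pPower_transport_invariant hS hT hXi hY hidx P hφ)
    exact ⟨χ, twistCore_le_right _ hχ, fun x _ hx => hχe x hx⟩
  · obtain ⟨γ, hγ, b, hb, he⟩ := hXi.2.2.2 P (hPT.trans hTS) φ hφ
    have hv : ∀ t : T, (((γ : MulAut S) ⟨t, hTS t.2⟩ : S) : Ω) ∈ T := fun t =>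
      stronglyClosed_aut_mem hT hγ le_rfl t.2
    obtain ⟨α₁, hα₁, hα₁e⟩ :=
      exists_aut_of_hom (restrict_mem ((mem_autGroup le_rfl).1 hγ) hTS) hv
    obtain ⟨a, ha, φ₀, hφ₀, hae⟩ := hYn.1.2.2.2.2.2 P hPT b hb
    refine ⟨α₁ * a, mul_mem hα₁ ((mem_autGroup hTS).2 (hXi.1 T ((mem_autGroup hTS).1 ha))), φ₀, hφ₀,
      fun x hx => ?_⟩
    rw [MulAut.mul_apply, he x (hom_mem hb x)]
    refine Eq.trans ?_ (hα₁e _).symm
    exact congrArg (fun z : S => (((γ : MulAut S) z : S) : Ω)) (Subtype.ext (hae x hx))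

theorem residual_idem [Finite S] {X Z : FusionSystem S} (hX : F.IsPPrimeResidual p X)
    (hZ : X.IsPPrimeResidual p Z) : X = Z := by
  refine fusionSystem_le_antisymm (hX.2.2 Z hZ.1 ⟨fun P φ h => hX.2.1.1 P (hZ.2.1.1 P h), fun P hP => ?_⟩)
    hZ.2.1.1
  rw [Subgroup.map_le_iff_le_comap, Subgroup.closure_le]
  rintro a ⟨k, hk⟩
  exact hZ.2.1.2 P hP ⟨⟨a, hX.2.1.2 P hP ⟨a, Subgroup.subset_closure ⟨k, hk⟩, rfl⟩⟩,
    Subgroup.subset_closure ⟨k, by rw [Subgroup.orderOf_mk, ← hk, Subgroup.orderOf_coe]⟩, rfl⟩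

/-- Residual limits exist. -/
theorem exists_residualLimit : ∀ (n : ℕ) {S : Subgroup Ω} [Finite S], IsPGroup p S →
    Nat.card S ≤ n → ∀ (F : FusionSystem S), F.IsSaturated p →
      ∃ (U : Subgroup Ω) (L : FusionSystem U), L.IsResidualLimitOf F p := by
  intro n
  induction n using Nat.strong_induction_on with
  | _ n ih =>
    intro S _ hS hn F hF
    have hsmall : ∀ (G : FusionSystem S), G.IsSaturated p → G.hyperfocalSubgroup p ≠ S →
        ∃ (U : Subgroup Ω) (L : FusionSystem U), L.IsResidualLimitOf G p := by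
      intro G hG hne
      have hle : G.hyperfocalSubgroup p ≤ S := hyperfocal_le G
      haveI := finite_of_le hle
      obtain ⟨D, hD, -⟩ := existsUnique_pPower hS hG _ hle le_rfl
      obtain ⟨D', hD'⟩ := exists_pPrimeResidual (hS.to_le hle) hD.1
      have hlt : Nat.card (G.hyperfocalSubgroup p) < n := by
        refine lt_of_lt_of_le (lt_of_le_of_ne (card_le_of_le hle) fun h => hne ?_) hn
        exact eq_of_le_of_card_le le_rfl hle h.ge
      obtain ⟨U, L, hL⟩ := ih _ hlt (hS.to_le hle) le_rfl D' hD'.1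
      exact ⟨U, L, .step G p D D' hD hD' hL⟩
    by_cases hhyp : F.hyperfocalSubgroup p = S
    · have key : ∀ (W : Subgroup Ω), W = S → ∀ D : FusionSystem W, D.IsSaturated p →
          ∃ (D' : FusionSystem W) (U : Subgroup Ω) (L : FusionSystem U),
            D.IsPPrimeResidual p D' ∧ L.IsResidualLimitOf D' p := by
        intro W hW D hD
        subst hW
        obtain ⟨D', hD'⟩ := exists_pPrimeResidual hS hD
        by_cases h' : D'.hyperfocalSubgroup p = W
        · obtain ⟨Z, hZ⟩ := exists_pPrimeResidual hS hD'.1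
          have h := residual_idem hD' hZ
          subst h
          exact ⟨D', W, D', hD', .stable D' p h' hZ⟩
        · obtain ⟨U, L, hL⟩ := hsmall D' hD'.1 h'
          exact ⟨D', U, L, hD', hL⟩
      obtain ⟨D, hD, -⟩ := existsUnique_pPower hS hF _ (hyperfocal_le F) le_rfl
      obtain ⟨D', U, L, hD', hL⟩ := key _ hhyp D hD.1
      exact ⟨U, L, .step F p D D' hD hD' hL⟩
    · exact hsmall F hF hhyp

/-- A saturated system and its `p'`-residual have the same residual limit. -/
theorem limit_of_pPrimeResidual : ∀ (n : ℕ) {S : Subgroup Ω} [Finite S], IsPGroup p S →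
    Nat.card S ≤ n → ∀ {F X : FusionSystem S}, F.IsSaturated p → F.IsPPrimeResidual p X →
      ∀ {V : Subgroup Ω} {L : FusionSystem V}, L.IsResidualLimitOf X p →
      ∀ {U : Subgroup Ω} {L' : FusionSystem U}, L'.IsResidualLimitOf F p → ∀ P, L'.Hom P = L.Hom P := by
  intro n
  induction n using Nat.strong_induction_on with
  | _ n ih =>
    intro S _ hS hn F X hF hX V L hL U L' hL'
    cases hL' with
    | stable _ _ hhyp hres =>
      have h : X = F := fusionSystem_le_antisymm (hX.2.2 F hres.1 hres.2.1) (hres.2.2 X hX.1 hX.2.1)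
      subst h
      exact fun P => (stable_limit_eq hL hS X hF hhyp hres (fun _ => rfl) P).symm
    | step _ _ D D' hD hD' hL' =>
      have hle : F.hyperfocalSubgroup p ≤ S := hyperfocal_le F
      haveI := finite_of_le hle
      have hHp := hS.to_le hle
      by_cases hhyp : F.hyperfocalSubgroup p = S
      · have key : ∀ (W : Subgroup Ω), W = S → ∀ D D' : FusionSystem W, D.IsSaturated p →
            D.HasPPowerIndexIn F p → D.IsPPrimeResidual p D' → L'.IsResidualLimitOf D' p →
            L'.IsResidualLimitOf X p := by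
          intro W hW D₀ D₀' hDs hDi hD₀' h
          subst hW
          have hDF : D₀ = F := fusionSystem_le_antisymm hDi.1
            (subsystem_le_of_pPower hS hF (isSubsystemOf_refl F) le_rfl hDi)
          subst hDF
          have h' : D₀' = X := fusionSystem_le_antisymm (hD₀'.2.2 X hX.1 hX.2.1) (hX.2.2 _ hD₀'.1 hD₀'.2.1)
          subst h'
          exact h
        exact residualLimit_unique hS hX.1 (key _ hhyp D D' hD.1 hD.2 hD' hL') hL
      · have hHn : ((F.hyperfocalSubgroup p).subgroupOf S).Normal := hyperfocal_subgroupOf_normal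
        have hHsc := stronglyClosed_of_hyperfocal_le hS hF hHn le_rfl hle
        have hXH : X.hyperfocalSubgroup p ≤ (F.hyperfocalSubgroup p) := hyperfocal_mono hX.2.1.1
        obtain ⟨Y, hY, -⟩ := existsUnique_pPower hS hX.1 (F.hyperfocalSubgroup p) hle hXH
        have hYi := isInvariantIn_pPower_residual hS hF hHn hle hHsc hX hXH hY.1 hY.2
        obtain ⟨Y', hY'⟩ := exists_pPrimeResidual hHp hY.1
        have hDi := (isNormalIn_of_pPower hS hF hHn le_rfl hle hD.1 hD.2).1.2.2
        have hD'n := isNormalIn_residual hS ⟨hD.1, hF, hDi⟩ hD'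
        have hY'n := isNormalIn_residual hS ⟨hY.1, hF, hYi⟩ hY'
        have heq : D' = Y' := fusionSystem_le_antisymm
          (residual_le_invariant hS hD.1 hDi hY'.1 hY'n.1.2.2 hD')
          (residual_le_invariant hS hY.1 hYi hD'.1 hD'n.1.2.2 hY')
        have hlt : Nat.card (F.hyperfocalSubgroup p) < n := by
          refine lt_of_lt_of_le (lt_of_le_of_ne (card_le_of_le hle) fun h => hhyp ?_) hn
          exact eq_of_le_of_card_le le_rfl hle h.ge
        obtain ⟨W, M, hM⟩ := exists_residualLimit _ hHp le_rfl Y hY.1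
        subst heq
        have h1 := ih _ hlt hHp le_rfl hY.1 hY' hL' hM
        have hHX : X.StronglyClosed (F.hyperfocalSubgroup p) := ⟨hle, fun R hR φ hφ x => hHsc.2 R hR φ (hX.2.1.1 R hφ) x⟩
        exact fun P => (h1 P).symm.trans (limit_of_pPower hS hX.1 hHX hY.1 hY.2 hM hL P).symm

/-- A subsystem of index prime to `p` has the same residual limit. -/
theorem limit_of_pPrimeIndex [Finite S] (hS : IsPGroup p S) {D : FusionSystem S} (hF : F.IsSaturated p)
    (hD : D.IsSaturated p) (hidx : D.HasPrimeToPIndexIn F p) {V : Subgroup Ω} {L : FusionSystem V}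
    (hL : L.IsResidualLimitOf D p) {U : Subgroup Ω} {L' : FusionSystem U} (hL' : L'.IsResidualLimitOf F p)
    (P : Subgroup Ω) : L'.Hom P = L.Hom P := by
  obtain ⟨X, hX⟩ := exists_pPrimeResidual hS hF
  have hXD : D.IsPPrimeResidual p X := by
    refine ⟨hX.1, ⟨hX.2.2 D hD hidx, fun Q hQ => ?_⟩, fun Z hZ hZi =>
      hX.2.2 Z hZ ⟨fun Q φ h => hidx.1 Q (hZi.1 Q h), fun Q hQ => ?_⟩⟩
    · rw [Subgroup.map_le_iff_le_comap, Subgroup.closure_le]
      rintro a ⟨k, hk⟩
      exact hX.2.1.2 Q hQ ⟨⟨a, (mem_autGroup hQ).2 (hidx.1 Q ((mem_autGroup hQ).1 a.2))⟩,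
        Subgroup.subset_closure ⟨k, by rw [Subgroup.orderOf_mk, ← hk, Subgroup.orderOf_coe]⟩, rfl⟩
    · rw [Subgroup.map_le_iff_le_comap, Subgroup.closure_le]
      rintro a ⟨k, hk⟩
      exact hZi.2 Q hQ ⟨⟨a, hidx.2 Q hQ ⟨a, Subgroup.subset_closure ⟨k, hk⟩, rfl⟩⟩,
        Subgroup.subset_closure ⟨k, by rw [Subgroup.orderOf_mk, ← hk, Subgroup.orderOf_coe]⟩, rfl⟩
  obtain ⟨W, M, hM⟩ := exists_residualLimit _ hS le_rfl X hX.1
  exact (limit_of_pPrimeResidual _ hS le_rfl hF hX hM hL' P).trans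
    (limit_of_pPrimeResidual _ hS le_rfl hD hXD hM hL P).symm

end Cfsg.Lib.FusionSys
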