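import Cfsg.Agent.Lib.FusionSys.FamilyResidual
import Cfsg.Agent.Lib.FusionSys.PrimeIndexLimit

/-!
The two kinds of steps keep a subsystem invariant in the whole system.
-/

set_option autoImplicit false
set_option linter.style.haveILetI false

namespace Cfsg.Lib.FusionSys

open Cfsg Cfsg.FusionSystem

variable {Ω : Type*} [Group Ω] {S T U U' : Subgroup Ω} {F : FusionSystem S} {X : FusionSystem U}
  {E : FusionSystem T} {p : ℕ}

theorem fullOn_aut_of_mem (hUS : U ≤ S) {α : MulAut U} (hα : α ∈ F.autGroup U) :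
    α ∈ (fullOn F U hUS).autGroup U :=
  (mem_autGroup le_rfl).2 ⟨(mem_autGroup hUS).1 hα, le_rfl, fun x => (α x).2⟩

theorem mem_of_fullOn_aut (hUS : U ≤ S) {α : MulAut U} (hα : α ∈ (fullOn F U hUS).autGroup U) :
    α ∈ F.autGroup U :=
  (mem_autGroup hUS).2 ((mem_autGroup le_rfl).1 hα).1

theorem range_restrict_aut {P : Subgroup Ω} (hPU : P ≤ U) (β : MulAut U) :
    ((U.subtype.comp β.toMonoidHom).comp (Subgroup.inclusion hPU)).range = autImage β P := by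
  ext y
  exact ⟨fun ⟨x, hx⟩ => ⟨⟨x, hPU x.2⟩, x.2, hx⟩, fun ⟨t, ht, e⟩ => ⟨⟨(t : Ω), ht⟩, e⟩⟩

/-- An invariant subsystem is transported to itself. -/
theorem exists_transport (hX : X.IsInvariantIn F) {β : MulAut U} (hβ : β ∈ F.autGroup U) {P : Subgroup Ω}
    {φ : P →* Ω} (hφ : φ ∈ X.Hom P) :
    ∃ χ ∈ X.Hom (autImage β P), ∀ (x : P) (hx : ((β ⟨x, hom_le hφ x.2⟩ : U) : Ω) ∈ autImage β P),
      χ ⟨_, hx⟩ = ((β ⟨φ x, hom_mem hφ x⟩ : U) : Ω) := by
  obtain ⟨χ, hχ, hχe⟩ := hX.2.2.1 P (hom_le hφ) φ hφ β hβ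
  exact ⟨χ, hχ, fun x hx => hχe x (hom_mem hφ x) hx⟩

theorem pPower_transport_sub [Finite S] [Fact p.Prime] (hS : IsPGroup p S) (hX : X.IsInvariantIn F)
    (hU' : F.StronglyClosed U') (hle : U' ≤ U) {Y : FusionSystem U'} (hY : Y.IsSaturated p)
    (hidx : Y.HasPPowerIndexIn X p) : Y ≤ twistCore (fullOn F U' hU'.1) Y := by
  have hUS := hX.2.1.1
  haveI := finite_of_le hU'.1
  refine le_of_autGroup_le (hS.to_le hU'.1) hY _ fun P hP => ?_
  have hPU' : P ≤ U' := hP.elim (fun e => e.le) fun e => e.1.1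
  haveI := finite_of_le (hPU'.trans hU'.1)
  haveI : Finite (MulAut P) := Finite.of_injective (fun f => (f : P → P)) DFunLike.coe_injective
  have hfn : Y.IsFullyNormalized P := hP.elim (fun e => e ▸ isFullyNormalized_top Y) fun e => e.2.1
  obtain ⟨-, R, hR⟩ := (isFullyAutomized_and_fc_of_fn (hS.to_le hU'.1) hY hfn).2
  refine le_of_sylow_of_coprime R (le_of_eq_of_le
    (by rw [hR, Subgroup.map_subgroupOf_eq_of_le (autInducedBy_le_autGroup hPU')])
    (autInducedBy_le_autGroup hPU')) fun a ha hc => ?_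
  have haY := (mem_autGroup hPU').1 ha
  refine (mem_autGroup hPU').2 ⟨⟨hX.1 P (hidx.1 P haY), hPU', fun x => hPU' (a x).2⟩, fun β hβ => ?_⟩
  have hβF := mem_of_fullOn_aut hU'.1 hβ
  have hb := restrict_mem ((mem_autGroup hU'.1).1 hβF) hPU'
  have hr := range_restrict_aut hPU' β
  have h2 := congr_mem_invariant hX (hPU'.trans hle) (isoIn_homIso hb hr : IsoIn F (homIso hb hr))
    ((mem_autGroup (hPU'.trans hle)).2 (hidx.1 P haY))
  have hc' : (orderOf (MulAut.congr (homIso hb hr) a)).Coprime p := by rwa [MulEquiv.orderOf_eq]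
  have h3 := (mem_autGroup (autImage_le β P)).1 (hidx.2.2 _ (autImage_le β P)
    ⟨⟨_, h2⟩, Cfsg.Lib.Fusion.mem_pResidual_of_coprime (by rwa [← Subgroup.orderOf_coe]), rfl⟩)
  refine ⟨_, h3, fun x hx => ?_⟩
  have hex : (⟨_, hx⟩ : autImage β P) = homIso hb hr x := Subtype.ext rfl
  rw [hex]
  show ((homIso hb hr (a ((homIso hb hr).symm (homIso hb hr x))) : autImage β P) : Ω) = _
  rw [MulEquiv.symm_apply_apply]
  rfl

/-- A `p`-power index subsystem of an invariant subsystem is invariant. -/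
theorem isInvariantIn_pPower_sub [Finite S] [Fact p.Prime] (hS : IsPGroup p S) (hX : X.IsInvariantIn F)
    (hXs : X.IsSaturated p) (hU' : F.StronglyClosed U') (hle : U' ≤ U) (hn : (U'.subgroupOf U).Normal)
    (hhyp : X.hyperfocalSubgroup p ≤ U') {Y : FusionSystem U'} (hY : Y.IsSaturated p)
    (hidx : Y.HasPPowerIndexIn X p) : Y.IsInvariantIn F := by
  have hUS := hX.2.1.1
  haveI := finite_of_le hUS
  haveI := finite_of_le hU'.1
  have hYn := isNormalIn_of_pPower (hS.to_le hUS) hXs hn hhyp hle hY hidx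
  refine ⟨fun P φ hφ => hX.1 P (hidx.1 P hφ), hU', fun P hP φ hφ α hα => ?_, fun P hP φ hφ => ?_⟩
  · obtain ⟨χ, hχ, hχe⟩ :=
      twistCore_invariant (fullOn_aut_of_mem hU'.1 hα) (pPower_transport_sub hS hX hU' hle hY hidx P hφ)
    exact ⟨χ, twistCore_le_right _ hχ, fun x _ hx => hχe x hx⟩
  · obtain ⟨γ, hγ, b, hb, he⟩ := hX.2.2.2 P (hP.trans hle) φ hφ
    have hv : ∀ t : U', (((γ : MulAut U) ⟨t, hle t.2⟩ : U) : Ω) ∈ U' := fun t =>
      stronglyClosed_aut_mem hU' hγ hUS t.2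
    obtain ⟨α₁, hα₁, hα₁e⟩ :=
      exists_aut_of_hom (restrict_mem ((mem_autGroup hUS).1 hγ) hle) hv
    obtain ⟨a, ha, φ₀, hφ₀, hae⟩ := hYn.1.2.2.2.2.2 P hP b hb
    refine ⟨α₁ * a, mul_mem hα₁ ((mem_autGroup hU'.1).2 (hX.1 U' ((mem_autGroup hle).1 ha))), φ₀, hφ₀,
      fun x hx => ?_⟩
    rw [MulAut.mul_apply, he x (hom_mem hb x)]
    refine Eq.trans ?_ (hα₁e _).symm
    exact congrArg (fun z : U => (((γ : MulAut U) z : U) : Ω)) (Subtype.ext (hae x hx))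

/-- The family is stable under transport. -/
theorem autImage_mem_centFamily [Finite S] (hX : X.IsInvariantIn F) (hTU : T ≤ U) (hEi : E.IsInvariantIn F)
    {β : MulAut U} (hβ : β ∈ F.autGroup U) {P : Subgroup Ω} (hP : P ∈ centFamily X E) :
    autImage β P ∈ centFamily X E := by
  have hUS := hX.2.1.1
  have hPU := hP.1.1
  haveI := finite_of_le hUS
  refine ⟨⟨autImage_le β P, ?_⟩, ?_⟩
  · rintro R ⟨χ, hχ, rfl⟩ c hc
    obtain ⟨χ', hχ', hχ'e⟩ := exists_transport hX (inv_mem hβ) hχ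
    have hback : autImage (β⁻¹) (autImage β P) = P := by
      rw [autImage_autImage, inv_mul_cancel, autImage_one hPU]
    have hcen := hP.1.2 χ'.range ⟨_, restrict_mem hχ' hback.ge, by
      ext y
      constructor
      · rintro ⟨x, rfl⟩
        exact ⟨_, rfl⟩
      · rintro ⟨x, rfl⟩
        exact ⟨⟨(x : Ω), hback.le x.2⟩, rfl⟩⟩
    obtain ⟨hcU, hcc⟩ := mem_centralizerIn.1 hc
    have h1 : ((β⁻¹ ⟨c, hcU⟩ : U) : Ω) ∈ χ'.range := by
      refine hcen (mem_centralizerIn.2 ⟨(β⁻¹ _).2, ?_⟩)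
      rintro _ ⟨⟨_, w, hw, rfl⟩, rfl⟩
      have h := hχ'e ⟨(w : Ω), hw⟩ ⟨⟨(w : Ω), hom_le hχ hw⟩, hw, rfl⟩
      change χ' ⟨_, _⟩ = _ at h
      have h2 : (⟨c, hcU⟩ : U) * ⟨χ ⟨(w : Ω), hw⟩, hom_mem hχ _⟩ =
          ⟨χ ⟨(w : Ω), hw⟩, hom_mem hχ _⟩ * ⟨c, hcU⟩ := Subtype.ext (hcc _ ⟨_, rfl⟩)
      have h3 := congrArg (fun z : U => (z : Ω)) (congrArg (⇑β⁻¹) h2)
      simp only [map_mul, Subgroup.coe_mul, ← h] at h3
      exact h3
    obtain ⟨⟨_, w, hw, rfl⟩, hw'⟩ := h1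
    refine ⟨⟨(w : Ω), hw⟩, ?_⟩
    have h := (hχ'e ⟨(w : Ω), hw⟩ ⟨⟨(w : Ω), hom_le hχ hw⟩, hw, rfl⟩).symm.trans hw'
    exact congrArg Subtype.val ((β⁻¹ : MulAut U).injective (Subtype.ext h))
  · have hT := hEi.2.1
    have hb := restrict_mem (restrict_mem ((mem_autGroup hUS).1 hβ) hPU) (inf_le_left : P ⊓ T ≤ P)
    have hr : autImage β P ⊓ T = (((U.subtype.comp β.toMonoidHom).comp (Subgroup.inclusion hPU)).comp
        (Subgroup.inclusion (inf_le_left : P ⊓ T ≤ P))).range := by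
      rw [← range_restrict_aut hPU β]
      exact (range_restrict_inf hT (restrict_mem ((mem_autGroup hUS).1 hβ) hPU)).symm
    rw [hr]
    exact centric_image hEi hP.2 hb

/-- The family closure of an invariant subsystem is invariant. -/
theorem isInvariantIn_minFamilyClosed [Finite S] [Fact p.Prime] (hS : IsPGroup p S) (hX : X.IsInvariantIn F)
    (hXs : X.IsSaturated p) (hTU : T ≤ U) (hEi : E.IsInvariantIn F) (hsub : E.IsSubsystemOf X) :
    (minFamilyClosed X E p).IsInvariantIn F := by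
  have hUS := hX.2.1.1
  haveI := finite_of_le hUS
  have hUp := hS.to_le hUS
  obtain ⟨hE1, hE2, hE3⟩ := isFamilyClosed_minFamilyClosed (F := X) (E := E) (p := p)
  set Y := minFamilyClosed X E p with hY
  have hT := hEi.2.1
  have hiso : ∀ {P : Subgroup Ω} (hPU : P ≤ U) {β : MulAut U}, β ∈ F.autGroup U →
      ((U.subtype.comp β.toMonoidHom).comp (Subgroup.inclusion hPU)) ∈ F.Hom P := fun hPU β hβ =>
    restrict_mem ((mem_autGroup hUS).1 hβ) hPU
  have hcl : IsFamilyClosed X E p (twistCore (fullOn F U hUS) Y) := by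
    have hfull : ∀ {P : Subgroup Ω} {φ : P →* Ω}, φ ∈ X.Hom P → φ ∈ (fullOn F U hUS).Hom P :=
      fun hφ => ⟨hX.1 _ hφ, hom_le hφ, hom_mem hφ⟩
    refine ⟨fun P hP a ha hk => ?_, fun P N hPN hP hN φ hφ h => ?_, fun P hP φ hφ h => ?_⟩
    · have hPU := hP.1.1
      refine (mem_autGroup hPU).2 ⟨hfull ((mem_autGroup hPU).1 ha), fun β hβ => ?_⟩
      have hβF := mem_of_fullOn_aut hUS hβ
      have hb := hiso hPU hβF
      have hr := range_restrict_aut hPU β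
      have h1 := congr_mem_invariant hX hPU (isoIn_homIso hb hr : IsoIn F (homIso hb hr)) ha
      have hk' : ∃ k : ℕ, orderOf (MulAut.congr (homIso hb hr) a) = p ^ k := by rwa [MulEquiv.orderOf_eq]
      have h2 := (mem_autGroup (autImage_le β P)).1
        (hE1 _ (autImage_mem_centFamily hX hTU hEi hβF hP) _ h1 hk')
      refine ⟨_, h2, fun x hx => ?_⟩
      have hex : (⟨_, hx⟩ : autImage β P) = homIso hb hr x := Subtype.ext rfl
      rw [hex]
      show ((homIso hb hr (a ((homIso hb hr).symm (homIso hb hr x))) : autImage β P) : Ω) = _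
      rw [MulEquiv.symm_apply_apply]
      rfl
    · refine ⟨hfull hφ, fun β hβ => ?_⟩
      have hβF := mem_of_fullOn_aut hUS hβ
      obtain ⟨χ, hχ, hχe⟩ := exists_transport hX hβF hφ
      obtain ⟨χP, hχP, hχPe⟩ := h.2 β hβ
      have hle : autImage β P ≤ autImage β N := Subgroup.map_mono fun x hx => hPN hx
      have hNn : autImage β N ≤ Subgroup.normalizer (autImage β P : Set Ω) := by
        rintro _ ⟨g, hg, rfl⟩
        have key : ∀ g : U, (g : Ω) ∈ N → ∀ z ∈ autImage β P,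
            (β g : Ω) * z * (β g : Ω)⁻¹ ∈ autImage β P := by
          rintro g hg _ ⟨w, hw, rfl⟩
          refine ⟨g * w * g⁻¹, (Subgroup.mem_normalizer_iff.1 (hN hg) w).1 hw, ?_⟩
          simp
        refine Subgroup.mem_normalizer_iff.2 fun z => ⟨key g hg z, fun hz => ?_⟩
        have h := key g⁻¹ (N.inv_mem hg) _ hz
        simpa [mul_assoc] using h
      refine ⟨χ, hE2 _ _ hle (autImage_mem_centFamily hX hTU hEi hβF hP) hNn χ hχ (hom_congr hχP ?_), hχe⟩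
      rintro ⟨_, w, hw, rfl⟩
      exact (hχe ⟨(w : Ω), hPN hw⟩ ⟨w, hPN hw, rfl⟩).trans (hχPe ⟨(w : Ω), hw⟩ ⟨w, hw, rfl⟩).symm
    · refine ⟨hfull hφ, fun β hβ => ?_⟩
      have hβF := mem_of_fullOn_aut hUS hβ
      obtain ⟨χ, hχ, hχe⟩ := exists_transport hX hβF hφ
      have hv : ∀ t : T, ((U.subtype.comp β.toMonoidHom).comp (Subgroup.inclusion hTU)) t ∈ T := fun t =>
        hT.2 T le_rfl _ (hiso hTU hβF) t
      obtain ⟨α, hα, hαe⟩ := exists_aut_of_hom (hiso hTU hβF) hv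
      obtain ⟨ξ, hξ, hξe⟩ := hEi.2.2.1 (P ⊓ T) inf_le_right _ h α hα
      have hle : autImage β P ⊓ T ≤ ((P ⊓ T).subgroupOf T).map (T.subtype.comp α.toMonoidHom) := by
        rintro _ ⟨⟨w, hw, rfl⟩, hwT⟩
        have hwT' : (w : Ω) ∈ T := by
          have h := stronglyClosed_aut_mem hT (inv_mem hβF) hUS (x := β w) hwT
          rwa [MulAut.inv_apply_self] at h
        exact ⟨⟨(w : Ω), hwT'⟩, ⟨hw, hwT'⟩, hαe ⟨(w : Ω), hwT'⟩⟩
      refine ⟨χ, hE3 _ (autImage_mem_centFamily hX hTU hEi hβF hP) χ hχ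
        (hom_congr (restrict_mem hξ hle) ?_), hχe⟩
      rintro ⟨_, ⟨w, hw, rfl⟩, hwT⟩
      have hwT' : (w : Ω) ∈ T := by
        have h := stronglyClosed_aut_mem hT (inv_mem hβF) hUS (x := β w) hwT
        rwa [MulAut.inv_apply_self] at h
      let x' : ↥(P ⊓ T) := ⟨(w : Ω), hw, hwT'⟩
      have hφT : φ ⟨(w : Ω), hw⟩ ∈ T := stronglyClosed_apply_mem hT (hX.1 _ hφ) hwT'
      refine (hχe ⟨(w : Ω), hw⟩ ⟨w, hw, rfl⟩).trans ?_
      refine Eq.trans ?_ ((congrArg ξ (Subtype.ext (hαe ⟨(w : Ω), hwT'⟩).symm)).trans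
        (hξe x' hφT ⟨⟨(w : Ω), hwT'⟩, x'.2, rfl⟩)).symm
      exact (hαe ⟨φ ⟨(w : Ω), hw⟩, hφT⟩).symm
  have hYX : Y.IsSubsystemOf F := fun P φ hφ => hX.1 P hφ.1
  refine ⟨hYX, hX.2.1, fun P hP φ hφ α hα => ?_, fun P hP φ hφ => ?_⟩
  · obtain ⟨χ, hχ, hχe⟩ :=
      twistCore_invariant (fullOn_aut_of_mem hUS hα) (minFamilyClosed_le_of hcl P hφ)
    exact ⟨χ, twistCore_le_right _ hχ, fun x _ hx => hχe x hx⟩
  · obtain ⟨γ, hγ, b, hb, he⟩ := hX.2.2.2 P hP φ hφ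
    obtain ⟨a, ha, φ₀, hφ₀, hae⟩ := exists_factor_of_family hUp hXs
      (centFamily_conj hTU hEi hX.1) (mem_centFamily_of_essential hUp hXs hTU hEi hX.1 hsub) hE1 hb
    refine ⟨γ * a, mul_mem hγ ((mem_autGroup hUS).2 (hX.1 U ((mem_autGroup le_rfl).1 ha))), φ₀,
      twistCore_le_right P hφ₀, fun x hx => ?_⟩
    rw [MulAut.mul_apply, he x (hom_mem hb x)]
    exact congrArg (fun z : U => (((γ : MulAut U) z : U) : Ω)) (Subtype.ext (hae x hx))

end Cfsg.Lib.FusionSys
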