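import Cfsg.Agent.Lib.FusionSys.JointControl
import Cfsg.Agent.Lib.FusionSys.CentricClass
import Cfsg.Agent.Lib.FusionSys.FamilyResidual
import Cfsg.Agent.Lib.FusionSys.PrimeIndexLimit
import Cfsg.Agent.Lib.FusionSys.StageInvariant

/-!
# Reduction of the residual limit along a normal series of `Aut_F(T)/Aut_E(T)`

A stage for `K`, normal in `Aut_F(T)` over `Aut_E(T)`, is a saturated subsystem of `F` over the elements of `S`
inducing elements of `K` on `T`, containing `E`, of maps joint with elements of `K`.  Steps of index a power of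
`p` or prime to `p` pass from a stage to the next without changing the residual limit.
-/

set_option autoImplicit false
set_option linter.style.haveILetI false

namespace Cfsg.Lib.FusionSys

open Cfsg Cfsg.FusionSystem

variable {Ω : Type*} [Group Ω] {S T U : Subgroup Ω} {F : FusionSystem S} {E : FusionSystem T} {p : ℕ}

/-- The elements of `S` inducing elements of `K` on `T`. -/
def inducingIn (F : FusionSystem S) (hT : F.StronglyClosed T) (K : Subgroup (MulAut T)) : Subgroup Ω where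
  carrier := {u | u ∈ S ∧ ∀ hn : u ∈ Subgroup.normalizer (T : Set Ω), conjAut T hn ∈ K}
  one_mem' := ⟨S.one_mem, fun hn => by
    rw [show conjAut T hn = 1 from MulEquiv.ext fun x => Subtype.ext (by simp)]
    exact K.one_mem⟩
  mul_mem' := fun {u v} hu hv => ⟨S.mul_mem hu.1 hv.1, fun hn => by
    rw [show conjAut T hn = conjAut T (stronglyClosed_le_normalizer hT hu.1) *
        conjAut T (stronglyClosed_le_normalizer hT hv.1) from MulEquiv.ext fun x => Subtype.ext (by
          simp [mul_assoc])]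
    exact K.mul_mem (hu.2 _) (hv.2 _)⟩
  inv_mem' := fun {u} hu => ⟨S.inv_mem hu.1, fun hn => by
    have hm := K.inv_mem (hu.2 (stronglyClosed_le_normalizer hT hu.1))
    rwa [show (conjAut T (stronglyClosed_le_normalizer hT hu.1))⁻¹ = conjAut T hn from
      (eq_inv_of_mul_eq_one_left (MulEquiv.ext fun x => Subtype.ext (by simp [mul_assoc]))).symm] at hm⟩

theorem mem_inducingIn {hT : F.StronglyClosed T} {K : Subgroup (MulAut T)} {u : Ω} :
    u ∈ inducingIn F hT K ↔
      u ∈ S ∧ ∀ hn : u ∈ Subgroup.normalizer (T : Set Ω), conjAut T hn ∈ K := Iff.rfl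

theorem inducingIn_le (hT : F.StronglyClosed T) (K : Subgroup (MulAut T)) : inducingIn F hT K ≤ S :=
  fun _ h => h.1

theorem autInducedBy_self_le [Finite S] (hEi : E.IsInvariantIn F) {K : Subgroup (MulAut T)}
    (hA : E.autGroup T ≤ K) : autInducedBy T T ≤ K :=
  (autInducedBy_le_autGroup (F := E) le_rfl).trans hA

theorem le_inducingIn [Finite S] (hEi : E.IsInvariantIn F) {K : Subgroup (MulAut T)}
    (hA : E.autGroup T ≤ K) : T ≤ inducingIn F hEi.2.1 K := fun t ht =>
  ⟨hEi.2.1.1 ht, fun hn => autInducedBy_self_le hEi hA (conjAut_mem_autInducedBy hn ht)⟩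

/-- The conditions on a subgroup of `Aut_F(T)`. -/
structure StageGroup (F : FusionSystem S) (E : FusionSystem T) (K : Subgroup (MulAut T)) : Prop where
  le : K ≤ F.autGroup T
  base : E.autGroup T ≤ K
  normal : ∀ g ∈ F.autGroup T, ∀ k ∈ K, g * k * g⁻¹ ∈ K

theorem inducingIn_normal [Finite S] (hT : F.StronglyClosed T) {K : Subgroup (MulAut T)}
    (hK : StageGroup F E K) : ((inducingIn F hT K).subgroupOf S).Normal := by
  refine ⟨fun u hu g => ?_⟩
  refine ⟨(g * u * g⁻¹).2, fun hn => ?_⟩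
  have hgn := stronglyClosed_le_normalizer hT g.2
  have hun := stronglyClosed_le_normalizer hT u.2
  rw [show conjAut T hn = conjAut T hgn * conjAut T hun * (conjAut T hgn)⁻¹ from
    eq_mul_inv_of_mul_eq (MulEquiv.ext fun x => Subtype.ext (by simp [mul_assoc]))]
  exact hK.normal _ (autInducedBy_le_autGroup hT.1 (conjAut_mem_autInducedBy hgn g.2)) _
    ((mem_inducingIn.1 (show (u : Ω) ∈ inducingIn F hT K from hu)).2 hun)

/-- The elements inducing elements of `K` form a strongly closed subgroup. -/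
theorem stronglyClosed_inducingIn [Finite S] [Fact p.Prime] (hS : IsPGroup p S) (hF : F.IsSaturated p)
    (hEi : E.IsInvariantIn F) {K : Subgroup (MulAut T)} (hK : StageGroup F E K) :
    F.StronglyClosed (inducingIn F hEi.2.1 K) := by
  have hT := hEi.2.1
  refine ⟨inducingIn_le _ _, fun R hR φ hφ x => ⟨hom_mem hφ x, fun hn => ?_⟩⟩
  obtain ⟨a, ha, -, ψ, hψ, hψe, hψT, -⟩ := exists_jointWith hS hF hEi hφ
  obtain ⟨hxS, hxK⟩ := mem_inducingIn.1 (hR x.2)
  have hxn : (x : Ω) ∈ Subgroup.normalizer (T : Set Ω) := stronglyClosed_le_normalizer hT hxS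
  set t : T := ⟨_, hψe x⟩ with ht
  have htn : (t : Ω) ∈ Subgroup.normalizer (T : Set Ω) := Subgroup.le_normalizer t.2
  have key : conjAut T hn * conjAut T htn * a = a * conjAut T hxn := by
    refine MulEquiv.ext fun s => Subtype.ext ?_
    have h1 : Subgroup.inclusion le_sup_right ((conjAut T hxn) s) = Subgroup.inclusion le_sup_left x *
        Subgroup.inclusion le_sup_right s * (Subgroup.inclusion le_sup_left x)⁻¹ := Subtype.ext rfl
    have h4 : ψ (Subgroup.inclusion le_sup_left x) = φ x * t := (mul_inv_cancel_left _ _).symm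
    rw [MulAut.mul_apply, MulAut.mul_apply, MulAut.mul_apply, coe_conjAut, coe_conjAut, ← hψT,
      ← hψT ((conjAut T hxn) s), h1, map_mul, map_mul, map_inv, h4]
    group
  rw [show conjAut T hn = a * conjAut T hxn * a⁻¹ * (conjAut T htn)⁻¹ from
    eq_mul_inv_of_mul_eq (eq_mul_inv_of_mul_eq key)]
  exact mul_mem (hK.normal a ha _ (hxK hxn))
    (inv_mem (autInducedBy_self_le hEi hK.base (conjAut_mem_autInducedBy htn t.2)))

/-- A stage. -/
structure IsStage (F : FusionSystem S) (E : FusionSystem T) (p : ℕ) (hT : F.StronglyClosed T)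
    (K : Subgroup (MulAut T)) (D : FusionSystem U) : Prop where
  base_eq : U = inducingIn F hT K
  sat : D.IsSaturated p
  sub : D.IsSubsystemOf F
  contains : E.IsSubsystemOf D
  joint : ∀ (P : Subgroup Ω), ∀ φ ∈ D.Hom P, JointIn F E K φ

/-- The first stage. -/
theorem isStage_top [Finite S] [Fact p.Prime] (hS : IsPGroup p S) (hF : F.IsSaturated p)
    (hEi : E.IsInvariantIn F) : IsStage F E p hEi.2.1 (F.autGroup T) F := by
  refine ⟨le_antisymm (fun u hu => ⟨hu, fun hn => autInducedBy_le_autGroup hEi.2.1.1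
    (conjAut_mem_autInducedBy hn hu)⟩) (inducingIn_le _ _), hF, fun _ _ h => h, hEi.1,
    fun P φ hφ => exists_jointWith hS hF hEi hφ⟩

/-- A step of `p`-power index. -/
theorem exists_stage_pPower [Finite S] [Fact p.Prime] (hS : IsPGroup p S) (hEi : E.IsInvariantIn F)
    (hEs : E.IsSaturated p) {K' K : Subgroup (MulAut T)} (hK' : StageGroup F E K') (hK : StageGroup F E K)
    (hle : K ≤ K') {m : ℕ} (hpow : ∀ k ∈ K', k ^ p ^ m ∈ K) {D : FusionSystem U}
    (hD : IsStage F E p hEi.2.1 K' D) :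
    ∃ D' : FusionSystem (inducingIn F hEi.2.1 K), IsStage F E p hEi.2.1 K D' ∧
      (D.hyperfocalSubgroup p ≤ inducingIn F hEi.2.1 K ∧ D'.HasPPowerIndexIn D p) ∧
      ∀ {V W : Subgroup Ω} (L : FusionSystem V) (L' : FusionSystem W), L.IsResidualLimitOf D' p →
        L'.IsResidualLimitOf D p → ∀ P, L'.Hom P = L.Hom P := by
  set hT := hEi.2.1
  set U' := inducingIn F hT K with hU'
  have hUS : U ≤ S := hD.base_eq.le.trans (inducingIn_le _ _)
  have hU'U : U' ≤ U := fun u hu => hD.base_eq.ge ⟨hu.1, fun hn => hle (hu.2 hn)⟩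
  haveI := finite_of_le hUS
  haveI := finite_of_le (hU'U.trans hUS)
  have hUp := hS.to_le hUS
  have hcop : ∀ (P : Subgroup Ω) (α : MulAut P), (P.subtype.comp α.toMonoidHom) ∈ D.Hom P →
      (orderOf α).Coprime p → JointIn F E K (P.subtype.comp α.toMonoidHom) := by
    intro P α hα hc
    obtain ⟨a, ha, hj⟩ := hD.joint P _ hα
    exact jointIn_of_coprime hEi (hK'.le ha) hj (hpow a ha) (Nat.Coprime.pow_right m hc)
  have hhyp : D.hyperfocalSubgroup p ≤ U' := by
    refine hyperfocal_le_of_coprime fun P hP α hα hc x => ?_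
    have hx : (x : Ω)⁻¹ * ((α x : P) : Ω) ∈ S :=
      S.mul_mem (S.inv_mem (hUS (hP x.2))) (hUS (hP (α x).2))
    exact ⟨hx, fun hn => conjAut_inv_mul_mem hT hK.normal (autInducedBy_self_le hEi hK.base)
      (hcop P α ((mem_autGroup hP).1 hα) hc) x hn⟩
  obtain ⟨D', ⟨hD's, hD'i⟩, -⟩ := existsUnique_pPower hUp hD.sat U' hU'U hhyp
  have hTU' : T ≤ U' := le_inducingIn hEi hK.base
  have hU'n : (U'.subgroupOf U).Normal := by
    refine ⟨fun u hu g => ?_⟩
    exact (inducingIn_normal hT hK).conj_mem ⟨u, hUS u.2⟩ hu ⟨g, hUS g.2⟩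
  refine ⟨D', ⟨hU', hD's, fun P φ h => hD.sub P (hD'i.1 P h),
    subsystem_le_of_pPower hUp hEs hD.contains hTU' hD'i, ?_⟩, ?_⟩
  · suffices key : D' ≤ jointSystem hEi K hK.le (inducingIn_le hT K) (fun u hu hn => hu.2 hn) from
      fun P φ hφ => (key P hφ).2.2
    refine le_of_autGroup_le (hS.to_le (inducingIn_le hT K)) hD's _ fun P hP => ?_
    have hPU : P ≤ U' := hP.elim (fun e => e.le) fun e => e.1.1
    haveI := finite_mulAut_of_le (S := S) (hPU.trans (inducingIn_le hT K))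
    have hfn : D'.IsFullyNormalized P := hP.elim (fun e => e ▸ isFullyNormalized_top D') fun e => e.2.1
    obtain ⟨-, R, hR⟩ := (isFullyAutomized_and_fc_of_fn (hS.to_le (inducingIn_le hT K)) hD's hfn).2
    refine le_of_sylow_of_coprime R (le_of_eq_of_le
      (by rw [hR, Subgroup.map_subgroupOf_eq_of_le (autInducedBy_le_autGroup hPU)])
      (autInducedBy_le_autGroup hPU)) fun α hα hc => ?_
    exact (mem_autGroup hPU).2 ⟨hPU, fun x => hPU (α x).2,
      hcop P α (hD'i.1 P ((mem_autGroup hPU).1 hα)) hc⟩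
  · refine ⟨⟨hhyp, hD'i⟩, ?_⟩
    intro V W L L' hL hL'
    exact limit_of_pPower hUp hD.sat (stronglyClosed_of_hyperfocal_le hUp hD.sat hU'n hhyp hU'U) hD's
      hD'i hL hL'

/-- Elements of `K'` that are, on a centric part of `E`, elements of `K` after maps of `E`. -/
theorem mem_of_centric_part [Finite S] [Fact p.Prime] (hS : IsPGroup p S) (hEi : E.IsInvariantIn F)
    (hEs : E.IsSaturated p) {K : Subgroup (MulAut T)} (hK : StageGroup F E K) {n : ℕ} (hn : n.Coprime p)
    {a k : MulAut T} (ha : a ∈ F.autGroup T) (hk : k ∈ K) (hpow : (k⁻¹ * a) ^ n ∈ K) {Q : Subgroup Ω}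
    (hQ : E.IsCentric Q) {φ₀ φ₁ : Q →* Ω} (h₀ : φ₀ ∈ E.Hom Q) (h₁ : φ₁ ∈ E.Hom Q)
    (he : ∀ (x : Q), a ⟨φ₀ x, hom_mem h₀ x⟩ = k ⟨φ₁ x, hom_mem h₁ x⟩) : a ∈ K := by
  obtain ⟨ρ, hρ, hρr, hρe⟩ := exists_inv h₀ rfl
  have hv : ∀ y, ρ y ∈ Q := fun y => hρr.le ⟨y, rfl⟩
  have hc : k⁻¹ * a ∈ F.autGroup T := mul_mem (inv_mem (hK.le hk)) ha
  have hres : autRes (k⁻¹ * a) (range_le h₀) ∈ E.Hom φ₀.range := by
    refine comp_mem' hρ h₁ hv ?_
    rintro ⟨_, x, rfl⟩
    show (((k⁻¹ * a) ⟨φ₀ x, _⟩ : T) : Ω) = φ₁ ⟨ρ ⟨φ₀ x, _⟩, hv _⟩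
    rw [MulAut.mul_apply, he x, MulAut.inv_apply_self]
    exact congrArg φ₁ (Subtype.ext (hρe x ⟨x, rfl⟩).symm)
  have h := mem_of_restrict_centric hS hEs hEi hK.base hn _ hc hpow _ rfl (range_le h₀)
    (⟨range_le h₀, fun R hR => hQ.2 R (isConj_trans ⟨φ₀, h₀, rfl⟩ hR)⟩) hres
  rw [← mul_inv_cancel_left k a]
  exact mul_mem hk h

/-- A step of index prime to `p`. -/
theorem exists_stage_pPrime [Finite S] [Fact p.Prime] (hS : IsPGroup p S) (hEi : E.IsInvariantIn F)
    (hEs : E.IsSaturated p) {K' K : Subgroup (MulAut T)} (hK' : StageGroup F E K') (hK : StageGroup F E K)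
    (hle : K ≤ K') {n : ℕ} (hn : n.Coprime p) (hpow : ∀ k ∈ K', k ^ n ∈ K) {D : FusionSystem U}
    (hD : IsStage F E p hEi.2.1 K' D) :
    IsStage F E p hEi.2.1 K (minFamilyClosed D E p) ∧
      ∀ {V W : Subgroup Ω} (L : FusionSystem V) (L' : FusionSystem W), L.IsResidualLimitOf (minFamilyClosed D E p) p →
        L'.IsResidualLimitOf D p → ∀ P, L'.Hom P = L.Hom P := by
  set hT := hEi.2.1
  have hU : U = inducingIn F hT K := by
    refine hD.base_eq.trans (le_antisymm (fun u hu => ⟨hu.1, fun hn' => ?_⟩)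
      fun u hu => ⟨hu.1, fun hn' => hle (hu.2 hn')⟩)
    obtain ⟨j, hj⟩ := IsPGroup.iff_orderOf.1 (isPGroup_autInducedBy (P := T) hS)
      ⟨_, conjAut_mem_autInducedBy hn' hu.1⟩
    rw [Subgroup.orderOf_mk] at hj
    obtain ⟨i, hi⟩ := exists_pow_eq_self_of_coprime (x := conjAut T hn') (n := n)
      (by rw [hj]; exact Nat.Coprime.pow_right j hn)
    rw [← hi]
    exact K.pow_mem (hpow _ (hu.2 hn')) i
  have hUS : U ≤ S := hU.le.trans (inducingIn_le _ _)
  haveI := finite_of_le hUS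
  have hUp := hS.to_le hUS
  have hTU : T ≤ U := (le_inducingIn hEi hK.base).trans hU.ge
  have hsat := isSaturated_minFamilyClosed hUp hD.sat hTU hEi hD.sub hD.contains
  have hidx := hasPrimeToPIndexIn_minFamilyClosed hUp hD.sat hTU hEi hD.sub hD.contains
  let J := jointSystem hEi K hK.le hUS fun u hu hn' => (hU.le hu).2 hn'
  have hcl : IsFamilyClosed D E p J := by
    refine ⟨fun P hP a ha ⟨j, hj⟩ => ?_, fun P N hPN hP hN φ hφ h => ?_, fun P hP φ hφ h => ?_⟩
    · have hPU := hP.1.1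
      have haD := (mem_autGroup hPU).1 ha
      obtain ⟨b, hb, hbj⟩ := hD.joint P _ haD
      exact (mem_autGroup hPU).2 ⟨hPU, fun x => hPU (a x).2,
        jointIn_of_coprime hEi (hK'.le hb) hbj (hpow b hb) (by rw [hj]; exact (Nat.Coprime.pow_right j hn).symm)⟩
    · obtain ⟨a, ha, haj⟩ := hD.joint N φ hφ
      obtain ⟨-, -, k, hk, hkj⟩ := h
      refine ⟨hom_le hφ, fun x => hom_mem hφ x, a, ?_, haj⟩
      obtain ⟨-, -, -, -, -, φ₀, hφ₀, he₀⟩ := haj.restrict hPN
      obtain ⟨-, -, -, -, -, φ₁, hφ₁, he₁⟩ := hkj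
      exact mem_of_centric_part hS hEi hEs hK hn (hK'.le ha) hk (hpow _ (mul_mem (inv_mem (hle hk)) ha))
        hP.2 hφ₀ hφ₁ fun x => Subtype.ext ((he₀ x _).symm.trans (he₁ x _))
    · obtain ⟨a, ha, haj⟩ := hD.joint P φ hφ
      refine ⟨hom_le hφ, fun x => hom_mem hφ x, a, ?_, haj⟩
      obtain ⟨-, -, -, -, -, φ₀, hφ₀, he₀⟩ := haj
      exact mem_of_centric_part hS hEi hEs hK hn (hK'.le ha) K.one_mem (hpow _ (by rwa [inv_one, one_mul]))
        hP.2 hφ₀ h fun x => Subtype.ext (he₀ x _).symm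
  refine ⟨⟨hU, hsat, fun P φ h => hD.sub P h.1,
    subsystem_minFamilyClosed hUp hD.sat hTU hEi hD.sub hD.contains hEs,
    fun P φ hφ => (minFamilyClosed_le_of hcl P hφ).2.2⟩, ?_⟩
  intro V W L L' hL hL'
  exact limit_of_pPrimeIndex hUp hD.sat hsat hidx hL hL'

/-- The last stage: a saturated system of maps joint with elements of `Aut_E(T)`, with the same residual limit. -/
theorem exists_last_stage [Finite S] [Fact p.Prime] (hS : IsPGroup p S) (hF : F.IsSaturated p)
    (hEi : E.IsInvariantIn F) (hEs : E.IsSaturated p) [hn : ((E.autGroup T).subgroupOf (F.autGroup T)).Normal]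
    (hsolv : IsPSolvable p (↥(F.autGroup T) ⧸ (E.autGroup T).subgroupOf (F.autGroup T))) :
    ∃ D : FusionSystem (inducingIn F hEi.2.1 (E.autGroup T)),
      IsStage F E p hEi.2.1 (E.autGroup T) D ∧ D.IsInvariantIn F ∧
      ∀ {V W : Subgroup Ω} (L : FusionSystem V) (L' : FusionSystem W), L.IsResidualLimitOf D p →
        L'.IsResidualLimitOf F p → ∀ P, L'.Hom P = L.Hom P := by
  classical
  set hT := hEi.2.1
  haveI := finite_mulAut_of_le (S := S) hT.1
  set G := F.autGroup T with hG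
  set A₀ := (E.autGroup T).subgroupOf G with hA₀
  obtain ⟨n, H, hH0, hHn, hmono, hnor, hstep⟩ := hsolv
  have hAG : E.autGroup T ≤ G := fun a ha =>
    (mem_autGroup hT.1).2 (hEi.1 T ((mem_autGroup le_rfl).1 ha))
  let K : Fin (n + 1) → Subgroup (MulAut T) := fun i => ((H i).comap (QuotientGroup.mk' A₀)).map G.subtype
  have hmem : ∀ i (a : MulAut T), a ∈ K i ↔ ∃ ha : a ∈ G, QuotientGroup.mk' A₀ ⟨a, ha⟩ ∈ H i :=
    fun i a => ⟨by rintro ⟨b, hb, rfl⟩; exact ⟨b.2, hb⟩, fun ⟨ha, h⟩ => ⟨⟨a, ha⟩, h, rfl⟩⟩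
  have hK : ∀ i, StageGroup F E (K i) := fun i => by
    refine ⟨fun a ha => ((hmem i a).1 ha).1, fun a ha => (hmem i a).2 ⟨hAG ha, ?_⟩, fun g hg a ha => ?_⟩
    · rw [show QuotientGroup.mk' A₀ ⟨a, hAG ha⟩ = 1 from (QuotientGroup.eq_one_iff _).2 ha]
      exact one_mem _
    · obtain ⟨haG, ha'⟩ := (hmem i a).1 ha
      refine (hmem i _).2 ⟨mul_mem (mul_mem hg haG) (inv_mem hg), ?_⟩
      exact (hnor i).conj_mem _ ha' (QuotientGroup.mk' A₀ ⟨g, hg⟩)
  have hKtop : K (Fin.last n) = G := by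
    ext a
    rw [hmem, hHn]
    exact ⟨fun ⟨h, _⟩ => h, fun h => ⟨h, Subgroup.mem_top _⟩⟩
  have hKbot : K 0 = E.autGroup T := by
    refine le_antisymm (fun a ha => ?_) (hK 0).base
    obtain ⟨haG, h⟩ := (hmem 0 a).1 ha
    rw [hH0, Subgroup.mem_bot] at h
    exact (QuotientGroup.eq_one_iff (N := A₀) ⟨a, haG⟩).1 h
  suffices key : ∀ i : Fin (n + 1), ∃ (U : Subgroup Ω) (D : FusionSystem U), IsStage F E p hT (K i) D ∧
      D.IsInvariantIn F ∧
      ∀ {V W : Subgroup Ω} (L : FusionSystem V) (L' : FusionSystem W), L.IsResidualLimitOf D p →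
        L'.IsResidualLimitOf F p → ∀ P, L'.Hom P = L.Hom P by
    obtain ⟨U, D, hD, hinv, hlim⟩ := key 0
    rw [hKbot] at hD
    obtain rfl := hD.base_eq
    exact ⟨D, hD, hinv, hlim⟩
  intro i
  induction i using Fin.reverseInduction with
  | last =>
    refine ⟨S, F, hKtop ▸ isStage_top hS hF hEi, isInvariantIn_self F, fun L L' hL hL' P => ?_⟩
    exact residualLimit_unique hS hF hL' hL P
  | cast i ih =>
    obtain ⟨U, D, hD, hinv, hlim⟩ := ih
    have hle : K i.castSucc ≤ K i.succ := fun a ha => by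
      obtain ⟨haG, h⟩ := (hmem _ a).1 ha
      exact (hmem _ a).2 ⟨haG, hmono (Fin.castSucc_le_succ i) h⟩
    have hpow : ∀ k ∈ K i.succ, k ^ (H i.castSucc).relIndex (H i.succ) ∈ K i.castSucc := by
      intro k hk
      obtain ⟨hkG, hk'⟩ := (hmem _ k).1 hk
      refine (hmem _ _).2 ⟨pow_mem hkG _, ?_⟩
      haveI := hnor i.castSucc
      have h := Subgroup.pow_index_mem ((H i.castSucc).subgroupOf (H i.succ)) ⟨_, hk'⟩
      exact h
    have hUS : U ≤ S := hD.base_eq.le.trans (inducingIn_le _ _)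
    have combine : ∀ {U' : Subgroup Ω} (D' : FusionSystem U'),
        (∀ {V W : Subgroup Ω} (L : FusionSystem V) (L' : FusionSystem W), L.IsResidualLimitOf D' p →
          L'.IsResidualLimitOf D p → ∀ P, L'.Hom P = L.Hom P) →
        ∀ {V W : Subgroup Ω} (L : FusionSystem V) (L' : FusionSystem W), L.IsResidualLimitOf D' p →
          L'.IsResidualLimitOf F p → ∀ P, L'.Hom P = L.Hom P := by
      intro U' D' h V W L L' hL hL' P
      haveI := finite_of_le hUS
      obtain ⟨X, M, hM⟩ := exists_residualLimit _ (hS.to_le hUS) le_rfl D hD.sat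
      exact (hlim M L' hM hL' P).trans (h L M hL hM P)
    rcases hstep i with ⟨m, hm⟩ | hc
    · obtain ⟨D', hD', ⟨hhyp, hidx⟩, hl⟩ :=
        exists_stage_pPower hS hEi hEs (hK _) (hK _) hle (m := m) (hm ▸ hpow) hD
      refine ⟨_, D', hD', isInvariantIn_pPower_sub hS hinv hD.sat (stronglyClosed_inducingIn hS hF hEi (hK _))
        (fun u hu => hD.base_eq.ge ⟨hu.1, fun hn => hle (hu.2 hn)⟩) ?_ hhyp hD'.sat hidx, combine D' hl⟩
      exact Subgroup.normal_subgroupOf_of_le_normalizer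
        (hUS.trans (stronglyClosed_le_normalizer (stronglyClosed_inducingIn hS hF hEi (hK i.castSucc))))
    · obtain ⟨hD', hl⟩ := exists_stage_pPrime hS hEi hEs (hK _) (hK _) hle hc hpow hD
      refine ⟨_, _, hD', isInvariantIn_minFamilyClosed hS hinv hD.sat ?_ hEi hD.contains, combine _ hl⟩
      exact (le_inducingIn hEi (hK i.succ).base).trans hD.base_eq.ge

end Cfsg.Lib.FusionSys
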