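import Cfsg.Agent.Lib.FusionSys.ControlledLimit

/-!
# The normal envelope over `T C_S(T)` of a normal subsystem with `p`-solvable automizer quotient
-/

set_option autoImplicit false
set_option linter.style.haveILetI false

namespace Cfsg.Lib.FusionSys

open Cfsg Cfsg.FusionSystem

variable {Ω : Type*} [Group Ω] {S T U : Subgroup Ω} {F : FusionSystem S} {E : FusionSystem T} {p : ℕ}

theorem residualLimit_subsystem {L : FusionSystem U} (h : L.IsResidualLimitOf F p) : L.IsSubsystemOf F := by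
  induction h with
  | stable F p _ _ => exact isSubsystemOf_refl F
  | step F p D D' hD hD' _ ih => exact fun P φ hφ => hD.2.1 P (hD'.2.1.1 P (ih P hφ))

/-- The envelope. -/
theorem exists_envelope [Finite S] [Fact p.Prime] (hS : IsPGroup p S) (hF : F.IsSaturated p)
    (hE : E.IsNormalIn F p) [hn : ((E.autGroup T).subgroupOf (F.autGroup T)).Normal]
    (hsolv : IsPSolvable p (↥(F.autGroup T) ⧸ (E.autGroup T).subgroupOf (F.autGroup T))) :
    ∃ F₀ : FusionSystem (T ⊔ centralizerIn S T), F₀.IsNormalIn F p ∧ E.IsSubsystemOf F₀ ∧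
      F₀.autGroup T = E.autGroup T ∧ ∀ {U : Subgroup Ω} (Finf : FusionSystem U),
        Finf.IsResidualLimitOf F p → Finf.IsSubsystemOf F₀ ∧
          ∀ {V : Subgroup Ω} (L : FusionSystem V), L.IsResidualLimitOf F₀ p →
            ∀ P : Subgroup Ω, L.Hom P = Finf.Hom P := by
  obtain ⟨⟨hEs, -, hEi⟩, -⟩ := hE
  have hT := hEi.2.1
  have hbase := inducingIn_base_eq hS hEi hEs
  obtain ⟨D, hD, hinv, hlim⟩ := exists_last_stage hS hF hEi hEs hsolv
  suffices key : ∀ (W : Subgroup Ω), W = T ⊔ centralizerIn S T → ∀ D : FusionSystem W,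
      IsStage F E p hT (E.autGroup T) D → D.IsInvariantIn F →
      (∀ {V W' : Subgroup Ω} (L : FusionSystem V) (L' : FusionSystem W'), L.IsResidualLimitOf D p →
        L'.IsResidualLimitOf F p → ∀ P, L'.Hom P = L.Hom P) →
      ∃ F₀ : FusionSystem (T ⊔ centralizerIn S T), F₀.IsNormalIn F p ∧ E.IsSubsystemOf F₀ ∧
        F₀.autGroup T = E.autGroup T ∧ ∀ {U : Subgroup Ω} (Finf : FusionSystem U),
          Finf.IsResidualLimitOf F p → Finf.IsSubsystemOf F₀ ∧
            ∀ {V : Subgroup Ω} (L : FusionSystem V), L.IsResidualLimitOf F₀ p →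
              ∀ P : Subgroup Ω, L.Hom P = Finf.Hom P from key _ hbase D hD hinv hlim
  intro W hW
  subst hW
  set W := T ⊔ centralizerIn S T with hW
  intro D hD hinv hlim
  have hWS : W ≤ S := sup_le hT.1 (centralizerIn_le T)
  haveI := finite_of_le hWS
  refine ⟨D, ⟨⟨hD.sat, hF, hinv⟩, fun α hα => ?_⟩, hD.contains, le_antisymm (fun α hα => ?_)
    (fun α hα => (mem_autGroup le_sup_left).2 (hD.contains T ((mem_autGroup le_rfl).1 hα))),
    fun Finf hFinf => ?_⟩
  · have hCW : centralizerIn S W ≤ W := fun c hc => Subgroup.mem_sup_right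
      (centralizerIn_anti (le_sup_left : T ≤ W) hc)
    have hle : W ⊔ centralizerIn S W ≤ W := sup_le le_rfl hCW
    have hαF := hinv.1 W ((mem_autGroup le_rfl).1 hα)
    have hv : ∀ x, ((W.subtype.comp α.toMonoidHom).comp (Subgroup.inclusion hle)) x ∈
        W ⊔ centralizerIn S W := fun x => Subgroup.mem_sup_left (α _).2
    obtain ⟨β, hβ, hβe⟩ := exists_aut_of_hom (restrict_mem hαF hle) hv
    refine ⟨β, hβ, fun x => hβe _, fun c hc => ?_⟩
    rw [hβe]
    refine ⟨W.mul_mem (W.inv_mem (hle c.2)) (α _).2, ?_⟩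
    intro w hw
    obtain ⟨v, hv'⟩ := α.surjective ⟨w, hw⟩
    set c₁ : W := Subgroup.inclusion hle c
    have h1 : w * (α c₁ : Ω) = (α c₁ : Ω) * w := by
      have hcc : v * c₁ = c₁ * v := Subtype.ext ((mem_centralizerIn.1 hc).2 v v.2).symm
      have h := congrArg (fun z : W => ((α z : W) : Ω)) hcc
      simp only [map_mul, Subgroup.coe_mul, hv'] at h
      exact h
    have h2 : w * (c : Ω)⁻¹ = (c : Ω)⁻¹ * w :=
      ((Commute.inv_left ((mem_centralizerIn.1 hc).2 w hw)).eq).symm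
    show w * ((c : Ω)⁻¹ * (α c₁ : Ω)) = (c : Ω)⁻¹ * (α c₁ : Ω) * w
    rw [← mul_assoc, h2, mul_assoc, h1, mul_assoc]
  · obtain ⟨a, ha, -, -, -, -, -, φ₀, hφ₀, he⟩ := hD.joint T _ ((mem_autGroup le_sup_left).1 hα)
    have hle : T ≤ T ⊓ T := le_inf le_rfl le_rfl
    refine (mem_autGroup le_rfl).2 (comp_mem' (restrict_mem hφ₀ hle) ((mem_autGroup le_rfl).1 ha)
      (fun y => hom_mem hφ₀ _) fun y => ?_)
    exact he (Subgroup.inclusion hle y) (hom_mem hφ₀ _)
  · obtain ⟨X, M, hM⟩ := exists_residualLimit _ (hS.to_le hWS) le_rfl D hD.sat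
    refine ⟨fun P φ hφ => residualLimit_subsystem hM P ((hlim M Finf hM hFinf P).subset hφ),
      fun L hL P => (hlim L Finf hL hFinf P).symm⟩

end Cfsg.Lib.FusionSys
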