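import Mathlib
import Cfsg.Agent.Lib.Local.TimmesfeldReplacement

/-!
# The elementary Thompson subgroup of the subgroups of a finite group, as a measure

`elemRank p P` is the largest order of an elementary abelian subgroup of `P`, `elemJoin p P` the join of those of
that order, and `elemMeasure N p P` orders subgroups by the first and then by the order of the second.  A
subgroup of that order can be replaced by one acting quadratically on a given normal elementary abelian
subgroup (Thompson's replacement).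
-/

set_option autoImplicit false
set_option linter.style.haveILetI false

namespace Cfsg.Lib.FusionSys

open Subgroup
open scoped commutatorElement Pointwise

variable {Ω : Type*} [Group Ω] {p : ℕ} {P Q A B : Subgroup Ω}

/-- Abelian of exponent dividing `p`. -/
def ElemAb (p : ℕ) (A : Subgroup Ω) : Prop :=
  (∀ x ∈ A, ∀ y ∈ A, x * y = y * x) ∧ ∀ x ∈ A, x ^ p = 1

theorem elemAb_mono (hA : ElemAb p A) (h : B ≤ A) : ElemAb p B :=
  ⟨fun x hx y hy => hA.1 x (h hx) y (h hy), fun x hx => hA.2 x (h hx)⟩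

/-- The join of two commuting elementary abelian subgroups. -/
theorem elemAb_sup (hA : ElemAb p A) (hB : ElemAb p B) (hc : A ≤ centralizer (B : Set Ω)) :
    ElemAb p (A ⊔ B) := by
  have hAB : ∀ x ∈ A, ∀ y ∈ B, x * y = y * x := fun x hx y hy =>
    (mem_centralizer_iff.1 (hc hx) y hy).symm
  have hle : ((A ⊔ B : Subgroup Ω) : Set Ω) = (A : Set Ω) * (B : Set Ω) :=
    coe_mul_of_left_le_normalizer_right _ _ fun x hx => mem_normalizer_iff.2 fun y =>
      ⟨fun hy => by rwa [hAB x hx y hy, mul_inv_cancel_right],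
        fun hy => by
          have h1 := hAB x hx _ hy
          rwa [show y = x * y * x⁻¹ by
            calc y = x⁻¹ * (x * y * x⁻¹ * x) := by group
              _ = x * y * x⁻¹ := by rw [← h1, inv_mul_cancel_left]]⟩
  have hmem : ∀ z ∈ A ⊔ B, ∃ a ∈ A, ∃ b ∈ B, z = a * b := fun z hz => by
    rw [← SetLike.mem_coe, hle] at hz
    obtain ⟨a, ha, b, hb, rfl⟩ := hz
    exact ⟨a, ha, b, hb, rfl⟩
  constructor
  · intro x hx y hy
    obtain ⟨a, ha, b, hb, rfl⟩ := hmem x hx
    obtain ⟨a', ha', b', hb', rfl⟩ := hmem y hy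
    exact (Commute.mul_left (Commute.mul_right (hA.1 a ha a' ha') (hAB a ha b' hb'))
      (Commute.mul_right (hAB a' ha' b hb).symm (hB.1 b hb b' hb'))).eq
  · intro x hx
    obtain ⟨a, ha, b, hb, rfl⟩ := hmem x hx
    rw [(show Commute a b from hAB a ha b hb).mul_pow, hA.2 a ha, hB.2 b hb, mul_one]

/-- The largest order of an elementary abelian subgroup. -/
noncomputable def elemRank (p : ℕ) (P : Subgroup Ω) : ℕ :=
  sSup {n | ∃ A ≤ P, ElemAb p A ∧ Nat.card A = n}

/-- An elementary abelian subgroup of largest order. -/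
def IsMaxElem (p : ℕ) (P A : Subgroup Ω) : Prop :=
  A ≤ P ∧ ElemAb p A ∧ Nat.card A = elemRank p P

/-- The join of the elementary abelian subgroups of largest order. -/
noncomputable def elemJoin (p : ℕ) (P : Subgroup Ω) : Subgroup Ω := sSup {A | IsMaxElem p P A}

/-- The measure: first the rank, then the order of the join. -/
noncomputable def elemMeasure (N p : ℕ) (P : Subgroup Ω) : ℕ :=
  elemRank p P * (N + 1) + Nat.card (elemJoin p P)

theorem card_le_elemRank [Finite P] (hAP : A ≤ P) (hA : ElemAb p A) :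
    Nat.card A ≤ elemRank p P :=
  le_csSup ⟨Nat.card P, by rintro n ⟨B, hB, -, rfl⟩; exact card_le_of_le hB⟩ ⟨A, hAP, hA, rfl⟩

theorem exists_isMaxElem [Finite P] : ∃ A, IsMaxElem p P A := by
  obtain ⟨A, hAP, hA, hc⟩ := Nat.sSup_mem (s := {n | ∃ A ≤ P, ElemAb p A ∧ Nat.card A = n})
    ⟨_, ⊥, bot_le, ⟨fun x hx y hy => by rw [mem_bot.1 hx, mem_bot.1 hy], fun x hx => by
      rw [mem_bot.1 hx, one_pow]⟩, rfl⟩
    ⟨Nat.card P, by rintro n ⟨B, hB, -, rfl⟩; exact card_le_of_le hB⟩
  exact ⟨A, hAP, hA, hc⟩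

theorem elemJoin_le : elemJoin p P ≤ P := sSup_le fun _ hA => hA.1

theorem elemRank_mono [Finite Q] (h : P ≤ Q) : elemRank p P ≤ elemRank p Q := by
  haveI : Finite P := Finite.of_injective _ (inclusion_injective h)
  obtain ⟨A, hA⟩ := exists_isMaxElem (p := p) (P := P)
  exact hA.2.2 ▸ card_le_elemRank (hA.1.trans h) hA.2.1

theorem elemJoin_mono (h : P ≤ Q) (hr : elemRank p P = elemRank p Q) :
    elemJoin p P ≤ elemJoin p Q :=
  sSup_le fun _ hA => le_sSup ⟨hA.1.trans h, hA.2.1, hA.2.2.trans hr⟩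

variable {N : ℕ}

theorem elemMeasure_mono [Finite Q] (h : P ≤ Q) (hN : Nat.card Q ≤ N) :
    elemMeasure N p P ≤ elemMeasure N p Q := by
  rcases (elemRank_mono (p := p) h).lt_or_eq with hlt | heq
  · haveI : Finite P := Finite.of_injective _ (inclusion_injective h)
    have h1 : Nat.card (elemJoin p P) ≤ N :=
      (card_le_of_le (elemJoin_le.trans h)).trans hN
    unfold elemMeasure
    calc elemRank p P * (N + 1) + Nat.card (elemJoin p P) ≤ (elemRank p P + 1) * (N + 1) := by
          rw [add_mul, one_mul]; omega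
      _ ≤ elemRank p Q * (N + 1) := Nat.mul_le_mul_right _ hlt
      _ ≤ _ := Nat.le_add_right _ _
  · haveI : Finite (elemJoin p Q) := Finite.of_injective _ (inclusion_injective (elemJoin_le (p := p)))
    unfold elemMeasure
    rw [heq]
    exact Nat.add_le_add_left (card_le_of_le (elemJoin_mono h heq)) _

theorem elemJoin_eq_of_measure [Finite Q] (h : P ≤ Q) (hN : Nat.card Q ≤ N)
    (he : elemMeasure N p P = elemMeasure N p Q) :
    elemJoin p P = elemJoin p Q ∧ elemRank p P = elemRank p Q := by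
  haveI : Finite (elemJoin p Q) := Finite.of_injective _ (inclusion_injective (elemJoin_le (p := p)))
  have hr : elemRank p P = elemRank p Q := by
    refine le_antisymm (elemRank_mono h) (not_lt.1 fun hlt => ?_)
    have h1 : Nat.card (elemJoin p P) ≤ N := (card_le_of_le (elemJoin_le.trans h)).trans hN
    have h2 : (elemRank p P + 1) * (N + 1) ≤ elemRank p Q * (N + 1) := Nat.mul_le_mul_right _ hlt
    rw [add_mul, one_mul] at h2
    unfold elemMeasure at he
    omega
  refine ⟨Subgroup.eq_of_le_of_card_ge (elemJoin_mono h hr) ?_, hr⟩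
  unfold elemMeasure at he
  rw [hr] at he
  omega

theorem elemMeasure_lt [Finite Q] (h : P ≤ Q) (hN : Nat.card Q ≤ N) (hA : IsMaxElem p Q A)
    (hAP : ¬ A ≤ P) : elemMeasure N p P < elemMeasure N p Q :=
  lt_of_le_of_ne (elemMeasure_mono h hN) fun he =>
    hAP ((le_sSup hA : A ≤ elemJoin p Q).trans
      ((elemJoin_eq_of_measure h hN he).1.ge.trans elemJoin_le))

theorem elem_map_range [Finite P] {φ : P →* Ω} (hφ : Function.Injective φ) (hAP : A ≤ P)
    (hA : ElemAb p A) :
    ElemAb p ((A.subgroupOf P).map φ) ∧ Nat.card ((A.subgroupOf P).map φ) = Nat.card A := by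
  refine ⟨⟨?_, ?_⟩, ?_⟩
  · rintro _ ⟨x, hx, rfl⟩ _ ⟨y, hy, rfl⟩
    rw [← map_mul, ← map_mul]
    exact congrArg φ (Subtype.ext (hA.1 _ hx _ hy))
  · rintro _ ⟨x, hx, rfl⟩
    rw [← map_pow]
    exact (congrArg φ (Subtype.ext (hA.2 _ hx) : x ^ p = 1)).trans (map_one φ)
  · rw [Subgroup.card_map_of_injective hφ, Nat.card_congr (subgroupOfEquivOfLe hAP).toEquiv]

/-- The rank and the join are carried along by an injective map. -/
theorem elemJoin_map [Finite P] {φ : P →* Ω} (hφ : Function.Injective φ) :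
    elemRank p φ.range = elemRank p P ∧
      elemJoin p φ.range = ((elemJoin p P).subgroupOf P).map φ := by
  haveI : Finite φ.range := Finite.of_surjective φ.rangeRestrict φ.rangeRestrict_surjective
  have hback : ∀ B ≤ φ.range, ElemAb p B → ∃ A ≤ P, ElemAb p A ∧ Nat.card A = Nat.card B ∧
      B = (A.subgroupOf P).map φ := by
    intro B hB hBe
    have hsub : ((B.comap φ).map P.subtype).subgroupOf P = B.comap φ := by
      rw [subgroupOf, comap_map_eq_self_of_injective P.subtype_injective]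
    have hmap : B = (((B.comap φ).map P.subtype).subgroupOf P).map φ := by
      rw [hsub, map_comap_eq_self hB]
    refine ⟨(B.comap φ).map P.subtype, map_subtype_le _, ⟨?_, ?_⟩, ?_, hmap⟩
    · rintro _ ⟨x, hx, rfl⟩ _ ⟨y, hy, rfl⟩
      rw [← map_mul, ← map_mul]
      exact congrArg P.subtype (hφ (by rw [map_mul, map_mul]; exact hBe.1 _ hx _ hy))
    · rintro _ ⟨x, hx, rfl⟩
      rw [← map_pow, hφ (show φ (x ^ p) = φ 1 by rw [map_pow, map_one]; exact hBe.2 _ hx), map_one]
    · rw [card_map_of_injective P.subtype_injective]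
      conv_rhs => rw [hmap, hsub, card_map_of_injective hφ]
  have hmapP : ∀ A ≤ P, (A.subgroupOf P).map φ ≤ φ.range := fun A _ => by
    rintro _ ⟨x, -, rfl⟩
    exact ⟨x, rfl⟩
  have hr : elemRank p φ.range = elemRank p P := by
    refine le_antisymm ?_ ?_
    · obtain ⟨B, hB⟩ := exists_isMaxElem (p := p) (P := φ.range)
      obtain ⟨A, hAP, hA, hc, -⟩ := hback B hB.1 hB.2.1
      rw [← hB.2.2, ← hc]
      exact card_le_elemRank hAP hA
    · obtain ⟨A, hA⟩ := exists_isMaxElem (p := p) (P := P)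
      obtain ⟨h1, h2⟩ := elem_map_range hφ hA.1 hA.2.1
      rw [← hA.2.2, ← h2]
      exact card_le_elemRank (hmapP A hA.1) h1
  refine ⟨hr, le_antisymm (sSup_le fun B hB => ?_) ?_⟩
  · obtain ⟨A, hAP, hA, hc, rfl⟩ := hback B hB.1 hB.2.1
    exact map_mono (comap_mono (le_sSup ⟨hAP, hA, by rw [hc, hB.2.2, hr]⟩))
  · have hle : elemJoin p P ≤ ((elemJoin p φ.range).comap φ).map P.subtype := by
      refine sSup_le fun A hA => ?_
      obtain ⟨h1, h2⟩ := elem_map_range hφ hA.1 hA.2.1
      have h3 : (A.subgroupOf P).map φ ≤ elemJoin p φ.range :=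
        le_sSup ⟨hmapP A hA.1, h1, by rw [h2, hA.2.2, hr]⟩
      intro x hx
      exact ⟨⟨x, hA.1 hx⟩, h3 ⟨⟨x, hA.1 hx⟩, hx, rfl⟩, rfl⟩
    rintro _ ⟨x, hx, rfl⟩
    obtain ⟨y, hy, hyx⟩ := hle hx
    exact P.subtype_injective hyx ▸ hy

theorem elemMeasure_map [Finite P] {φ : P →* Ω} (hφ : Function.Injective φ) :
    elemMeasure N p φ.range = elemMeasure N p P := by
  obtain ⟨hr, hj⟩ := elemJoin_map (p := p) hφ
  unfold elemMeasure
  rw [hr, hj, card_map_of_injective hφ, Nat.card_congr (subgroupOfEquivOfLe elemJoin_le).toEquiv]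

/-- The normalizer of `P` normalizes the join. -/
theorem normalizer_le_normalizer_elemJoin [Finite P] :
    normalizer (P : Set Ω) ≤ normalizer (elemJoin p P : Set Ω) := by
  intro g hg
  haveI : Finite (elemJoin p P) := Finite.of_injective _ (inclusion_injective (elemJoin_le (p := p)))
  set φ := (MulAut.conj g).toMonoidHom.comp P.subtype with hφ
  have hinj : Function.Injective φ := (MulAut.conj g).injective.comp P.subtype_injective
  have hr : φ.range = P := by
    ext y
    refine ⟨fun ⟨x, hx⟩ => hx ▸ (mem_normalizer_iff.1 hg x).1 x.2, fun hy => ?_⟩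
    exact ⟨⟨g⁻¹ * y * g, (mem_normalizer_iff''.1 hg y).1 hy⟩, by simp [hφ, mul_assoc]⟩
  have hj := (elemJoin_map (p := p) hinj).2
  rw [hr] at hj
  refine mem_normalizer_fintype fun n hn => ?_
  rw [hj]
  exact ⟨⟨n, elemJoin_le hn⟩, hn, rfl⟩

variable [Fact p.Prime]

/-- Thompson's replacement: some elementary abelian subgroup of largest order, not inside `P`, acts
quadratically on `V`. -/
theorem exists_quadratic_maxElem {H V : Subgroup Ω} [Finite H] (hH : IsPGroup p H) (hVH : V ≤ H)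
    (hV : ElemAb p V) (hHV : H ≤ normalizer (V : Set Ω)) (hPV : P ≤ centralizer (V : Set Ω))
    (hA : IsMaxElem p H A) (hAP : ¬ A ≤ P) :
    ∃ B, IsMaxElem p H B ∧ ¬ B ≤ P ∧ ∀ b ∈ B, ∀ v ∈ V, ⁅⁅v, b⁆, b⁆ = 1 := by
  by_cases hAV : A ≤ centralizer (V : Set Ω)
  · refine ⟨A, hA, hAP, fun b hb v hv => ?_⟩
    rw [commutatorElement_eq_one_iff_mul_comm.2 (mem_centralizer_iff.1 (hAV hb) v hv)]
    exact commutatorElement_one_left b
  set V' := V.subgroupOf H
  set A' := A.subgroupOf H
  haveI : IsMulCommutative V' := ⟨⟨fun x y => Subtype.ext (Subtype.ext (hV.1 _ x.2 _ y.2))⟩⟩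
  have hAV' : A' ≤ normalizer (V' : Set H) := fun a ha => mem_normalizer_iff.2 fun v =>
    mem_normalizer_iff.1 (hHV a.2) v
  have hab : ⁅A', A'⁆ ≤ centralizer (V' : Set H) := by
    rw [(commutator_eq_bot_iff_le_centralizer.2 fun a ha => mem_centralizer_iff.2 fun b hb =>
      Subtype.ext (hA.2.1.1 _ hb _ ha) : ⁅A', A'⁆ = ⊥)]
    exact bot_le
  have hsub : ∀ (X : Subgroup H), Nat.card X = Nat.card (X.map H.subtype) := fun X =>
    (card_map_of_injective H.subtype_injective).symm
  have hel : ∀ (X : Subgroup H), X ≤ A' → ElemAb p (X.map H.subtype) := fun X hX =>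
    elemAb_mono hA.2.1 (by rintro _ ⟨x, hx, rfl⟩; exact hX hx)
  have hjoin : ∀ X ≤ A', ∀ (Y : Subgroup H), Y ≤ V' ⊓ centralizer (X : Set H) →
      Nat.card (X ⊔ Y : Subgroup H) ≤ Nat.card A ∧ ElemAb p ((X ⊔ Y : Subgroup H).map H.subtype) := by
    intro X hX Y hY
    have hYe : ElemAb p (Y.map H.subtype) := elemAb_mono hV (by
      rintro _ ⟨y, hy, rfl⟩; exact (hY hy).1)
    have he : ElemAb p ((X ⊔ Y : Subgroup H).map H.subtype) := by
      rw [Subgroup.map_sup]
      refine elemAb_sup (hel X hX) hYe ?_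
      rintro _ ⟨x, hx, rfl⟩
      refine mem_centralizer_iff.2 ?_
      rintro _ ⟨y, hy, rfl⟩
      exact congrArg Subtype.val (mem_centralizer_iff.1 (hY hy).2 x hx).symm
    refine ⟨?_, he⟩
    rw [hsub, hA.2.2]
    exact card_le_elemRank (map_subtype_le _) he
  have hcardA : Nat.card A' = Nat.card A := Nat.card_congr (subgroupOfEquivOfLe hA.1).toEquiv
  have hVA : V' ⊓ centralizer (A' : Set H) ≤ A' := by
    have h := (hjoin A' le_rfl _ le_rfl).1
    have he := Subgroup.eq_of_le_of_card_ge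
      (le_sup_left : A' ≤ A' ⊔ (V' ⊓ centralizer (A' : Set H))) (by rw [hcardA]; exact h)
    exact le_sup_right.trans he.ge
  have hmax : ∀ X ≤ A', Nat.card X * Nat.card (V' ⊓ centralizer (X : Set H) : Subgroup H) ≤
      Nat.card A' * Nat.card (V' ⊓ centralizer (A' : Set H) : Subgroup H) := by
    intro X hX
    refine (Cfsg.Lib.Local.Timmesfeld.card_mul_card_le X _).trans ?_
    rw [mul_comm, hcardA]
    refine Nat.mul_le_mul (hjoin X hX _ le_rfl).1 (card_le_of_le (le_inf ?_ ?_))
    · exact inf_le_right.trans inf_le_left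
    · exact fun v hv => mem_centralizer_iff.2 fun a ha =>
        Subtype.ext (hA.2.1.1 _ ha _ (hX hv.1))
  obtain ⟨h1, h2⟩ := Cfsg.Lib.Local.Timmesfeld.replacement V' A' hAV' hab hmax (U := V') le_rfl
  set A₁ := A' ⊓ centralizer ((⁅V', A'⁆ : Subgroup H) : Set H)
  set C₁ := V' ⊓ centralizer (A₁ : Set H)
  obtain ⟨hcle, he⟩ := hjoin A₁ inf_le_left C₁ le_rfl
  have hmove : ¬ V' ≤ centralizer (A₁ : Set H) := by
    intro h
    apply hAV
    have hV1 : V' = ⁅V', A'⁆ ⊔ (V' ⊓ centralizer (A' : Set H)) := (inf_eq_left.2 h).symm.trans h1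
    set W := ⁅V', A'⁆ with hW
    have hWV : W ≤ V' := hV1.ge.trans' le_sup_left
    have hWW : W ≤ ⁅W, A'⁆ := by
      refine commutator_le.2 fun v hv a ha => ?_
      rw [hV1] at hv
      have hle : W ≤ normalizer ((V' ⊓ centralizer (A' : Set H) : Subgroup H) : Set H) :=
        fun x hx => mem_normalizer_fintype fun y hy => by
          rwa [show x * y = y * x from Subtype.ext (hV.1 _ (hWV hx) _ hy.1), mul_inv_cancel_right]
      rw [← SetLike.mem_coe, coe_mul_of_left_le_normalizer_right _ _ hle] at hv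
      obtain ⟨x, hx, y, hy, rfl⟩ := hv
      have hya : ⁅y, a⁆ = 1 :=
        commutatorElement_eq_one_iff_mul_comm.2 (mem_centralizer_iff.1 hy.2 a ha).symm
      have he : ⁅x * y, a⁆ = ⁅x, a⁆ := by
        rw [show ⁅x * y, a⁆ = x * ⁅y, a⁆ * x⁻¹ * ⁅x, a⁆ by simp only [commutatorElement_def]; group,
          hya, mul_one, mul_inv_cancel, one_mul]
      show ⁅x * y, a⁆ ∈ ⁅W, A'⁆
      rw [he]
      exact commutator_mem_commutator hx ha
    have hlow : ∀ n, W ≤ (⊤ : Subgroup H).lowerCentralSeries n := by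
      intro n
      induction n with
      | zero => exact le_top
      | succ n ih => exact hWW.trans (commutator_mono ih le_top)
    haveI := hH.isNilpotent
    obtain ⟨n, hn⟩ := Subgroup.nilpotent_iff_lowerCentralSeries.1 (inferInstance : Group.IsNilpotent H)
    intro a ha
    refine mem_centralizer_iff.2 fun v hv => ?_
    have h3 : ⁅(⟨v, hVH hv⟩ : H), (⟨a, hA.1 ha⟩ : H)⁆ ∈ W := commutator_mem_commutator hv ha
    have h4 := (hlow n).trans hn.le h3
    exact congrArg Subtype.val (commutatorElement_eq_one_iff_mul_comm.1 (mem_bot.1 h4))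
  refine ⟨(A₁ ⊔ C₁).map H.subtype, ⟨map_subtype_le _, he, ?_⟩, fun hle => ?_, ?_⟩
  · rw [← hsub, ← hA.2.2]
    refine le_antisymm hcle ?_
    refine Nat.le_of_mul_le_mul_right ?_
      (Nat.card_pos (α := (V' ⊓ centralizer (A' : Set H) : Subgroup H)))
    rw [← hcardA, h2]
    refine (Cfsg.Lib.Local.Timmesfeld.card_mul_card_le A₁ C₁).trans ?_
    rw [mul_comm]
    refine Nat.mul_le_mul_left _ (card_le_of_le (le_inf (inf_le_right.trans inf_le_left) ?_))
    exact fun v hv => mem_centralizer_iff.2 fun a ha => Subtype.ext (hA.2.1.1 _ ha _ hv.1.1)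
  · refine hmove fun v hv => mem_centralizer_iff.2 fun a ha => Subtype.ext ?_
    exact (mem_centralizer_iff.1 (hPV (hle ⟨a, mem_sup_left ha, rfl⟩)) _ hv).symm
  · rintro _ ⟨b, hb, rfl⟩ v hv
    have hn : A₁ ≤ normalizer (C₁ : Set H) := fun x hx => mem_normalizer_fintype fun y hy => by
      rwa [mem_centralizer_iff.1 hy.2 x hx, mul_inv_cancel_right]
    rw [coe_mul_of_left_le_normalizer_right _ _ hn] at hb
    obtain ⟨a, ha, c, hc, rfl⟩ := hb
    let v' : H := ⟨v, hVH hv⟩
    have hvc : v' * c = c * v' := Subtype.ext (hV.1 _ hv _ hc.1)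
    have h3 : ⁅v', a * c⁆ = ⁅v', a⁆ := by
      rw [show ⁅v', a * c⁆ = ⁅v', a⁆ * (a * ⁅v', c⁆ * a⁻¹) by simp only [commutatorElement_def]; group,
        commutatorElement_eq_one_iff_mul_comm.2 hvc, mul_one, mul_inv_cancel, mul_one]
    have hW : ⁅v', a⁆ ∈ ⁅V', A'⁆ := commutator_mem_commutator hv ha.1
    have h4 : ⁅⁅v', a⁆, a * c⁆ = 1 := by
      refine commutatorElement_eq_one_iff_mul_comm.2 (Commute.mul_right ?_ ?_)
      · exact mem_centralizer_iff.1 ha.2 _ hW
      · exact Subtype.ext (hV.1 _ ((Cfsg.Lib.Local.Timmesfeld.commutator_mem V' A' hAV') hv ha.1) _ hc.1)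
    show (((⁅⁅v', a * c⁆, a * c⁆ : H)) : Ω) = 1
    rw [h3, h4, Subgroup.coe_one]

end Cfsg.Lib.FusionSys
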