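import Mathlib

/-!
# Averaging of cocycles, and control by quadratic elements

`G` acts on the abelian `p`-group `A` through `σ`, and `δ` is a cocycle.  A cocycle with values in an
invariant subgroup on a subgroup of index prime to `p` is, modulo that subgroup, the coboundary of an
element.  For `p` odd the normalizer `M` of the subgroup of a Sylow subgroup generated by its elements
acting quadratically on the factors of an invariant chain controls: if `δ` is in the bottom of the chain
on `M`, it is in the bottom everywhere.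
-/

set_option autoImplicit false
set_option linter.style.haveILetI false

namespace Cfsg.Lib.FusionSys.QuadraticControl

open Subgroup

variable {G : Type*} [Group G] [Finite G] {A : Type*} [CommGroup A] (σ : G →* MulAut A) (δ : G → A)

/-- The automorphism induced by `g` modulo an invariant subgroup. -/
def actMod (U : Subgroup A) (hU : ∀ g, ∀ x ∈ U, σ g x ∈ U) (g : G) : A ⧸ U →* A ⧸ U :=
  QuotientGroup.map U U (σ g).toMonoidHom fun x hx => hU g x hx

theorem actMod_mk (U : Subgroup A) (hU : ∀ g, ∀ x ∈ U, σ g x ∈ U) (g : G) (x : A) :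
    actMod σ U hU g (QuotientGroup.mk' U x) = QuotientGroup.mk' U (σ g x) := rfl

theorem actMod_actMod (U : Subgroup A) (hU : ∀ g, ∀ x ∈ U, σ g x ∈ U) (g h : G) (q : A ⧸ U) :
    actMod σ U hU g (actMod σ U hU h q) = actMod σ U hU (g * h) q := by
  obtain ⟨x, rfl⟩ := QuotientGroup.mk'_surjective U q
  rw [actMod_mk, actMod_mk, actMod_mk, map_mul, MulAut.mul_apply]

variable (hδ : ∀ g h, δ (g * h) = δ g * σ g (δ h))

include hδ in
/-- The product over the cosets of `M`, and the identity it satisfies modulo `U`. -/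
theorem prod_cosets_identity [Fintype A] (M : Subgroup G) [Fintype (G ⧸ M)] (U : Subgroup A)
    (hU : ∀ g, ∀ x ∈ U, σ g x ∈ U) (hM : ∀ h ∈ M, δ h ∈ U) (g : G) :
    QuotientGroup.mk' U (δ g) ^ M.index * actMod σ U hU g (QuotientGroup.mk' U (∏ r : G ⧸ M, δ r.out)) =
      QuotientGroup.mk' U (∏ r : G ⧸ M, δ r.out) := by
  rw [map_prod, map_prod, Subgroup.index_eq_card, Nat.card_eq_fintype_card, ← Finset.card_univ,
    ← Finset.prod_const, ← Finset.prod_mul_distrib]
  conv_rhs => rw [← Equiv.prod_comp (MulAction.toPerm g)]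
  refine Finset.prod_congr rfl fun r _ => ?_
  rw [actMod_mk, ← map_mul, ← hδ]
  show _ = QuotientGroup.mk' U (δ (g • r).out)
  set h := (g • r).out⁻¹ * (g * r.out) with hh
  have hhM : h ∈ M := by
    rw [hh, ← QuotientGroup.eq, QuotientGroup.out_eq']
    conv_lhs => rw [← QuotientGroup.out_eq' r]
    rfl
  rw [show g * r.out = (g • r).out * h by rw [hh]; group, hδ, map_mul,
    show QuotientGroup.mk' U (σ (g • r).out (δ h)) = 1 from
      (QuotientGroup.eq_one_iff _).2 (hU _ _ (hM h hhM)), mul_one]

include hδ in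
/-- A cocycle in `U` on a subgroup of index prime to `p` is a coboundary modulo `U`. -/
theorem exists_average [Finite A] {p : ℕ} [Fact p.Prime] (hA : IsPGroup p A) (M : Subgroup G)
    (hm : ¬ p ∣ M.index) (U : Subgroup A) (hU : ∀ g, ∀ x ∈ U, σ g x ∈ U) (hM : ∀ h ∈ M, δ h ∈ U) :
    ∃ z : A, ∀ g, δ g * σ g z / z ∈ U := by
  haveI := Fintype.ofFinite A
  haveI := Fintype.ofFinite (G ⧸ M)
  obtain ⟨z, hz⟩ := (hA.powEquiv' hm).surjective (∏ r : G ⧸ M, δ r.out)
  replace hz : z ^ M.index = ∏ r : G ⧸ M, δ r.out := hz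
  refine ⟨z, fun g => ?_⟩
  have h := prod_cosets_identity σ δ hδ M U hU hM g
  rw [← hz, map_pow, map_pow, ← mul_pow, actMod_mk, ← map_mul] at h
  have h2 := ((hA.to_quotient U).powEquiv' hm).injective h
  rw [← QuotientGroup.eq_one_iff]
  show QuotientGroup.mk' U (δ g * σ g z / z) = 1
  rw [map_div, h2, div_self']

/-- `a` acts quadratically on every factor of the chain. -/
def Quad (N : ℕ → Subgroup A) (a : G) : Prop :=
  ∀ i, ∀ x ∈ N (i + 1), σ a (σ a x / x) / (σ a x / x) ∈ N i

theorem quad_conj {N : ℕ → Subgroup A} (hinv : ∀ i g, ∀ x ∈ N i, σ g x ∈ N i) {a : G}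
    (ha : Quad σ N a) (g : G) : Quad σ N (g * a * g⁻¹) := by
  intro i x hx
  have h := hinv i g _ (ha i _ (hinv (i + 1) g⁻¹ x hx))
  simpa only [map_mul, MulAut.mul_apply, map_div, map_inv, MulAut.apply_inv_self, MulAut.inv_apply_self] using h

theorem pow_eq_one_of_dvd {Q : Type*} [CommGroup Q] {x : Q} {m n : ℕ} (h : m ∣ n) (hx : x ^ m = 1) :
    x ^ n = 1 := by
  obtain ⟨c, rfl⟩ := h
  rw [pow_mul, hx, one_pow]

open Classical in
/-- The product over an orbit that is moved by a normal-closure generator vanishes. -/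
theorem prod_orbit_eq_one {p : ℕ} [Fact p.Prime] (hp : p ≠ 2) {K : Type*} [Group K] [Finite K]
    (hK : IsPGroup p K) (gens : Set K) (hgen : closure gens = ⊤)
    {X : Type*} [MulAction K X] [Fintype X] {Q : Type*} [CommGroup Q] (act : K → Q →* Q)
    (hact : ∀ k l q, act k (act l q) = act (k * l) q) (hone : ∀ q, act 1 q = q)
    (f : X → Q) (hf : ∀ (k : K) x, f (k • x) = act k (f x))
    (V : Subgroup Q) (hfV : ∀ x, f x ∈ V)
    (hexp : ∀ q ∈ V, q ^ p = 1)
    (hquad : ∀ a ∈ gens, ∀ q ∈ V, act a (act a q / q) = act a q / q)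
    (r : X) (hr : ∃ k : K, k • r ≠ r) :
    ∏ x ∈ Finset.univ.filter (fun x => x ∈ MulAction.orbit K r), f x = 1 := by
  classical
  have hne : MulAction.stabilizer K r ≠ ⊤ := by
    intro h
    obtain ⟨k, hk⟩ := hr
    exact hk (MulAction.mem_stabilizer_iff.1 (h ▸ mem_top k))
  obtain ⟨K₀, hK₀, hLK⟩ := (eq_top_or_exists_le_coatom (MulAction.stabilizer K r)).resolve_left hne
  haveI := hK.isNilpotent
  haveI : K₀.Normal := NormalizerCondition.normal_of_coatom K₀ Group.normalizerCondition_of_isNilpotent hK₀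
  obtain ⟨a, ha, haK⟩ : ∃ a ∈ gens, a ∉ K₀ := by
    by_contra h
    push Not at h
    exact hK₀.1 (top_le_iff.1 (hgen ▸ (closure_le K₀).2 h))
  set q := orderOf (QuotientGroup.mk' K₀ a) with hq
  have hgenq : ∀ k : K, ∃ i < q, QuotientGroup.mk' K₀ a ^ i = QuotientGroup.mk' K₀ k := by
    intro k
    have htop : K₀ ⊔ zpowers a = ⊤ := hK₀.2 _ (lt_of_le_of_ne le_sup_left fun h =>
      haK (h ▸ mem_sup_right (mem_zpowers a)))
    have hk : QuotientGroup.mk' K₀ k ∈ (⊤ : Subgroup K).map (QuotientGroup.mk' K₀) :=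
      mem_map_of_mem _ (mem_top k)
    rw [← htop, Subgroup.map_sup, MonoidHom.map_zpowers,
      (Subgroup.map_eq_bot_iff _).2 (QuotientGroup.ker_mk' K₀).ge, bot_sup_eq,
      mem_zpowers_iff_mem_range_orderOf] at hk
    simpa [Finset.mem_image, hq] using hk
  set S₀ := Finset.univ.filter (fun x => x ∈ MulAction.orbit K₀ r) with hS₀
  have hbij : ∏ x ∈ Finset.univ.filter (fun x => x ∈ MulAction.orbit K r), f x =
      ∏ ix ∈ Finset.range q ×ˢ S₀, f (a ^ ix.1 • ix.2) := by
    refine (Finset.prod_bij (fun ix _ => a ^ ix.1 • ix.2) ?_ ?_ ?_ fun _ _ => rfl).symm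
    · rintro ⟨i, x⟩ hx
      simp only [S₀, Finset.mem_product, Finset.mem_filter, Finset.mem_univ, true_and] at hx ⊢
      obtain ⟨k, rfl⟩ := hx.2
      exact ⟨a ^ i * k, mul_smul (a ^ i) (k : K) r⟩
    · rintro ⟨i, x⟩ hx ⟨j, y⟩ hy he
      simp only [S₀, Finset.mem_product, Finset.mem_filter, Finset.mem_univ, true_and,
        Finset.mem_range] at hx hy
      obtain ⟨k, rfl⟩ := hx.2
      obtain ⟨l, rfl⟩ := hy.2
      have h1 : (a ^ i * (k : K))⁻¹ * (a ^ j * (l : K)) ∈ MulAction.stabilizer K r := by
        rw [MulAction.mem_stabilizer_iff, mul_smul, inv_smul_eq_iff, mul_smul, mul_smul]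
        exact he.symm
      have h2 := (QuotientGroup.eq_one_iff _).2 (hLK h1)
      change QuotientGroup.mk' K₀ _ = 1 at h2
      rw [map_mul, map_inv, map_mul, map_mul,
        show QuotientGroup.mk' K₀ (k : K) = 1 from (QuotientGroup.eq_one_iff _).2 k.2,
        show QuotientGroup.mk' K₀ (l : K) = 1 from (QuotientGroup.eq_one_iff _).2 l.2, mul_one,
        mul_one, inv_mul_eq_one, map_pow, map_pow] at h2
      have hij : i = j := pow_injOn_Iio_orderOf hx.1 hy.1 h2
      subst hij
      exact Prod.ext rfl ((MulAction.injective (a ^ i)) he)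
    · intro x hx
      simp only [Finset.mem_filter, Finset.mem_univ, true_and] at hx
      obtain ⟨k, rfl⟩ := hx
      obtain ⟨i, hi, hik⟩ := hgenq k
      have hk0 : (a ^ i)⁻¹ * k ∈ K₀ := by
        rw [← QuotientGroup.eq]
        exact (by rw [← hik, map_pow] : QuotientGroup.mk' K₀ (a ^ i) = QuotientGroup.mk' K₀ k)
      refine ⟨(i, ((a ^ i)⁻¹ * k) • r), ?_, ?_⟩
      · simp only [S₀, Finset.mem_product, Finset.mem_filter, Finset.mem_univ, true_and,
          Finset.mem_range]
        exact ⟨hi, ⟨⟨_, hk0⟩, rfl⟩⟩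
      · show a ^ i • ((a ^ i)⁻¹ * k) • r = k • r
        rw [← mul_smul, mul_inv_cancel_left]
  rw [hbij, Finset.prod_product]
  set y := ∏ x ∈ S₀, f x with hy
  have hy' : ∀ i : ℕ, ∏ x ∈ S₀, f (a ^ i • x) = act (a ^ i) y := fun i => by
    rw [hy, map_prod]
    exact Finset.prod_congr rfl fun x _ => hf _ x
  simp only [hy']
  have hyV : y ∈ V := Subgroup.prod_mem _ fun x _ => hfV x
  have hyp : y ^ p = 1 := hexp y hyV
  set u := act a y / y with hu
  have hup : u ^ p = 1 := by rw [hu, div_pow, ← map_pow, hyp, map_one, div_one]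
  have hpow : ∀ i : ℕ, act (a ^ i) y = y * u ^ i := by
    intro i
    induction i with
    | zero => rw [pow_zero, hone, pow_zero, mul_one]
    | succ i ih =>
      rw [pow_succ' a, ← hact, ih, map_mul, map_pow, hquad a ha y hyV, ← hu, pow_succ',
        show act a y = y * u by rw [hu, mul_div_cancel], mul_assoc]
  simp only [hpow]
  rw [Finset.prod_mul_distrib, Finset.prod_const, Finset.card_range, Finset.prod_pow_eq_pow_sum]
  have hqp : ∃ j, q = p ^ j := IsPGroup.iff_orderOf.1 (hK.to_quotient K₀) _
  obtain ⟨j, hj⟩ := hqp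
  have hj0 : j ≠ 0 := by
    rintro rfl
    rw [pow_zero, hq, orderOf_eq_one_iff] at hj
    exact haK ((QuotientGroup.eq_one_iff a).1 hj)
  have hpq : p ∣ q := hj ▸ dvd_pow_self p hj0
  have hodd : Odd q := hj ▸ ((Fact.out : p.Prime).odd_of_ne_two hp).pow
  have hsum : p ∣ ∑ i ∈ Finset.range q, i := by
    rw [Finset.sum_range_id]
    obtain ⟨b, hb⟩ := hodd
    have : q * (q - 1) / 2 = q * b := by
      rw [show q - 1 = 2 * b by omega, ← mul_assoc, mul_comm q 2, mul_assoc]
      omega
    rw [this]
    exact hpq.mul_right b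
  rw [pow_eq_one_of_dvd hpq hyp, pow_eq_one_of_dvd hsum hup, mul_one]

variable [Finite A] {p : ℕ} [Fact p.Prime]

/-- The subgroup of `P₀` generated by its elements acting quadratically. -/
def quadSub (P₀ : Subgroup G) (N : ℕ → Subgroup A) : Subgroup G :=
  closure {a : G | a ∈ P₀ ∧ Quad σ N a}

include hδ in
/-- For `p` odd, the normalizer of the quadratic subgroup controls. -/
theorem control (hp : p ≠ 2) (hA : IsPGroup p A) (N : ℕ → Subgroup A)
    (hinv : ∀ i g, ∀ x ∈ N i, σ g x ∈ N i) (hmono : ∀ i, N i ≤ N (i + 1))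
    (hpow : ∀ i, ∀ x ∈ N (i + 1), x ^ p ∈ N i) (n : ℕ) (htop : N n = ⊤) (P₀ : Sylow p G)
    (hM : ∀ h ∈ normalizer ((quadSub σ (P₀ : Subgroup G) N : Subgroup G) : Set G), δ h ∈ N 0) :
    ∀ g, δ g ∈ N 0 := by
  classical
  haveI := Fintype.ofFinite A
  set K := quadSub σ (P₀ : Subgroup G) N with hKdef
  set M := normalizer (K : Set G) with hMdef
  haveI := Fintype.ofFinite (G ⧸ M)
  have hKP : K ≤ P₀ := (closure_le _).2 fun a ha => ha.1
  have hKp : IsPGroup p K := P₀.2.to_le hKP
  have hP₀M : (P₀ : Subgroup G) ≤ M := by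
    intro g hg
    refine mem_normalizer_fintype fun k hk => ?_
    have hle : K.map (MulAut.conj g).toMonoidHom ≤ K := by
      rw [hKdef, quadSub, MonoidHom.map_closure, closure_le]
      rintro _ ⟨a, ⟨haP, haQ⟩, rfl⟩
      exact subset_closure ⟨mul_mem (mul_mem hg haP) (inv_mem hg), quad_conj σ hinv haQ g⟩
    exact hle ⟨k, hk, rfl⟩
  have hm : ¬ p ∣ M.index := fun h => P₀.not_dvd_index (h.trans (index_dvd_of_le hP₀M))
  have hbottom : ∀ k, ∀ x ∈ N 0, x ∈ N k := by
    intro k x hx
    induction k with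
    | zero => exact hx
    | succ k ih => exact hmono k ih
  suffices ∀ k ≤ n, (∀ g, δ g ∈ N k) → ∀ g, δ g ∈ N 0 from this n le_rfl fun g => htop ▸ mem_top _
  intro k
  induction k with
  | zero => exact fun _ h => h
  | succ k ih =>
    intro hk hδk
    refine ih (Nat.le_of_succ_le hk) fun g => ?_
    set U := N k with hUdef
    have hU : ∀ g, ∀ x ∈ U, σ g x ∈ U := hinv k
    have hMU : ∀ h ∈ M, δ h ∈ U := fun h hh => hbottom k _ (hM h hh)
    have hid := prod_cosets_identity σ δ hδ M U hU hMU
    set w := ∏ r : G ⧸ M, δ r.out with hw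
    have hwN : w ∈ N (k + 1) := Subgroup.prod_mem _ fun r _ => hδk _
    set W := QuotientGroup.mk' U w with hW
    have hWM : ∀ h ∈ M, actMod σ U hU h W = W := by
      intro h hh
      have h1 := hid h
      rwa [show QuotientGroup.mk' U (δ h) = 1 from (QuotientGroup.eq_one_iff _).2 (hMU h hh), one_pow,
        one_mul] at h1
    let f : G ⧸ M → A ⧸ U := fun r => actMod σ U hU r.out W
    have hf : ∀ (x : G) r, f (x • r) = actMod σ U hU x (f r) := by
      intro x r
      show actMod σ U hU (x • r).out W = actMod σ U hU x (actMod σ U hU r.out W)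
      have hxr : (x • r).out⁻¹ * (x * r.out) ∈ M := by
        rw [← QuotientGroup.eq, QuotientGroup.out_eq']
        conv_lhs => rw [← QuotientGroup.out_eq' r]
        rfl
      rw [actMod_actMod, show x * r.out = (x • r).out * ((x • r).out⁻¹ * (x * r.out)) by group,
        ← actMod_actMod, hWM _ hxr]
    set V := (N (k + 1)).map (QuotientGroup.mk' U) with hV
    have hVexp : ∀ q ∈ V, q ^ p = 1 := by
      rintro _ ⟨b, hb, rfl⟩
      rw [← map_pow]
      exact (QuotientGroup.eq_one_iff _).2 (hpow k b hb)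
    have hVinv : ∀ x, ∀ q ∈ V, actMod σ U hU x q ∈ V := by
      rintro x _ ⟨b, hb, rfl⟩
      exact ⟨σ x b, hinv _ x b hb, rfl⟩
    have hfV : ∀ r, f r ∈ V := fun r => hVinv _ _ ⟨w, hwN, rfl⟩
    have hprod : ∏ r, f r = W := by
      have hfix : f (QuotientGroup.mk (1 : G)) = W := by
        refine hWM _ ?_
        have h1 := QuotientGroup.out_eq' (QuotientGroup.mk (1 : G) : G ⧸ M)
        rw [QuotientGroup.eq, mul_one, inv_mem_iff] at h1
        exact h1
      let π : G ⧸ M → Quotient (MulAction.orbitRel K (G ⧸ M)) := Quotient.mk''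
      haveI := Fintype.ofFinite (Quotient (MulAction.orbitRel K (G ⧸ M)))
      rw [← Finset.prod_fiberwise Finset.univ π f,
        Finset.prod_eq_single (π (QuotientGroup.mk 1))]
      · have hone : (Finset.univ.filter fun r => π r = π (QuotientGroup.mk 1)) =
            {QuotientGroup.mk 1} := by
          ext r
          simp only [Finset.mem_filter, Finset.mem_univ, true_and, Finset.mem_singleton]
          refine ⟨fun h => ?_, fun h => h ▸ rfl⟩
          obtain ⟨⟨x, hx⟩, rfl⟩ := Quotient.exact' h
          show x • (QuotientGroup.mk 1 : G ⧸ M) = _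
          rw [MulAction.Quotient.smul_mk, smul_eq_mul, mul_one, eq_comm, QuotientGroup.eq, inv_one, one_mul]
          exact Subgroup.le_normalizer hx
        rw [hone, Finset.prod_singleton, hfix]
      · intro ω _ hω
        obtain ⟨r, rfl⟩ := Quotient.mk''_surjective ω
        have hmove : ∃ x : K, x • r ≠ r := by
          by_contra hc
          push Not at hc
          apply hω
          obtain ⟨x, rfl⟩ := QuotientGroup.mk_surjective r
          -- `x⁻¹ K x` lies in `M`
          have hle : K.map (MulAut.conj x⁻¹).toMonoidHom ≤ M := by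
            rintro _ ⟨y, hy, rfl⟩
            have h1 := hc ⟨y, hy⟩
            change y • (QuotientGroup.mk x : G ⧸ M) = _ at h1
            rw [MulAction.Quotient.smul_mk, smul_eq_mul, eq_comm, QuotientGroup.eq] at h1
            show x⁻¹ * y * x⁻¹⁻¹ ∈ M
            rwa [inv_inv, mul_assoc]
          haveI : Finite M := inferInstance
          have hp' : IsPGroup p ((K.map (MulAut.conj x⁻¹).toMonoidHom).subgroupOf M) :=
            (hKp.map _).comap_subtype
          obtain ⟨R, hR⟩ := hp'.exists_le_sylow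
          obtain ⟨h, hh⟩ := MulAction.exists_smul_eq M R (P₀.subtype hP₀M)
          have hxM : x ∈ M := by
            have key : (h : G) * x⁻¹ ∈ M := by
              refine mem_normalizer_fintype fun y hy => ?_
              have hle2 : K.map (MulAut.conj ((h : G) * x⁻¹)).toMonoidHom ≤ K := by
                rw [hKdef, quadSub, MonoidHom.map_closure, closure_le]
                rintro _ ⟨a, ha, rfl⟩
                refine subset_closure ⟨?_, quad_conj σ hinv ha.2 _⟩
                have haK : a ∈ K := subset_closure ha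
                have hxa : x⁻¹ * a * x ∈ M := by
                  have := hle ⟨a, haK, rfl⟩
                  simpa [mul_assoc] using this
                have h3 : (⟨x⁻¹ * a * x, hxa⟩ : M) ∈ (R : Subgroup M) := hR (by
                  rw [mem_subgroupOf]
                  exact ⟨a, haK, by simp [mul_assoc]⟩)
                have h4 := Subgroup.smul_mem_pointwise_smul _ (MulAut.conj h) _ h3
                rw [← Sylow.coe_subgroup_smul] at h4
                have h5 : MulAut.conj h • (⟨x⁻¹ * a * x, hxa⟩ : M) ∈ (P₀.subtype hP₀M : Subgroup M) := by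
                  rw [← hh]; exact h4
                rw [Sylow.coe_subtype, mem_subgroupOf] at h5
                simpa [mul_assoc] using h5
              exact hle2 ⟨y, hy, rfl⟩
            have := mul_mem (inv_mem h.2) key
            rwa [inv_mul_cancel_left, inv_mem_iff] at this
          refine congrArg π ?_
          rw [QuotientGroup.eq, mul_one, inv_mem_iff]
          exact hxM
        have hfilter : (Finset.univ.filter fun r' => π r' = π r) =
            Finset.univ.filter (fun r' => r' ∈ MulAction.orbit K r) := by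
          refine Finset.filter_congr fun r' _ => ?_
          exact Quotient.eq''
        rw [show (Quotient.mk'' r : Quotient (MulAction.orbitRel K (G ⧸ M))) = π r from rfl, hfilter]
        refine prod_orbit_eq_one hp hKp {a : K | (a : G) ∈ P₀ ∧ Quad σ N a}
          (Subgroup.closure_closure_coe_preimage) (fun x => actMod σ U hU (x : G))
          (fun x y q => actMod_actMod σ U hU _ _ q) ?_ f (fun x r => hf x r) V hfV
          hVexp ?_ r hmove
        · intro q
          obtain ⟨b, rfl⟩ := QuotientGroup.mk'_surjective U q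
          rw [actMod_mk, Subgroup.coe_one, map_one, MulAut.one_apply]
        · rintro a ⟨-, ha⟩ _ ⟨b, hb, rfl⟩
          rw [actMod_mk, ← map_div, actMod_mk, ← div_eq_one, ← map_div]
          exact (QuotientGroup.eq_one_iff _).2 (ha k b hb)
      · exact fun h => absurd (Finset.mem_univ _) h
    have hinvW : actMod σ U hU g W = W := by
      conv_rhs => rw [← hprod, ← Equiv.prod_comp (MulAction.toPerm g)]
      conv_lhs => rw [← hprod, map_prod]
      exact Finset.prod_congr rfl fun r _ => (hf g r).symm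
    have h1 := hid g
    rw [hinvW, mul_eq_right] at h1
    rw [← QuotientGroup.eq_one_iff]
    exact ((hA.to_quotient U).powEquiv' hm).injective (show _ ^ M.index = (1 : A ⧸ U) ^ M.index by
      rw [one_pow]; exact h1)

end Cfsg.Lib.FusionSys.QuadraticControl
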