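import Cfsg.Agent.Lib.FusionSys.NormalLift
import Cfsg.Agent.Lib.FusionSys.QuadraticControl
import Cfsg.Agent.Lib.FusionSys.ElemRank
import Cfsg.Agent.Lib.PGroup.OmegaTwo

/-!
# Centralized automorphisms, raising the measure

For `p` odd: if every map of the normal subsystem on a subgroup of larger measure centralizes `c`, so do
the automorphisms of a fully normalized centric subgroup whose normalizer has larger measure.  The lifts
act on the centre; those normalizing the subgroup generated by quadratically acting elements extend to a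
subgroup of larger measure, and they control.  Also: a centric radical subgroup contains the centralizer of
the join of its elementary abelian subgroups of largest order.
-/

set_option autoImplicit false
set_option linter.style.haveILetI false

namespace Cfsg.Lib.FusionSys

open Cfsg Cfsg.FusionSystem
open scoped IsMulCommutative commutatorElement Pointwise

variable {Ω : Type*} [Group Ω] {S T : Subgroup Ω} {F : FusionSystem S} {E : FusionSystem T} {p : ℕ}

theorem autGroup_le_centralizer_of_measure [Finite S] [Fact p.Prime] (hp : p ≠ 2) (hS : IsPGroup p S)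
    (hE : E.IsNormalIn F p) {c : Ω} (hcC : c ∈ centralizerIn S T)
    {C : FusionSystem (centralizerIn S (Subgroup.zpowers c))}
    (hC : F.IsCentralizerSystem (Subgroup.zpowers c) C) {Q : Subgroup Ω} (hQc : E.IsCentric Q)
    (hQn : E.IsFullyNormalized Q)
    (hlt : elemMeasure (Nat.card T) p Q < elemMeasure (Nat.card T) p (normalizerIn T Q))
    (hIH : ∀ M : Subgroup Ω, elemMeasure (Nat.card T) p Q < elemMeasure (Nat.card T) p M →
      ∀ φ ∈ E.Hom M, φ ∈ C.Hom M) :
    E.autGroup Q ≤ C.autGroup Q := by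
  classical
  have hEs := hE.1.1
  have hEi := hE.1.2.2
  have hT : F.StronglyClosed T := hEi.2.1
  have hTS := hT.1
  haveI := finite_of_le hTS
  have hTp : IsPGroup p T := hS.to_le hTS
  have hQT : Q ≤ T := hQc.1
  have hcS : c ∈ S := centralizerIn_le T hcC
  have hWS : Q ⊔ Subgroup.zpowers c ≤ S := sup_le (hQT.trans hTS) (Subgroup.zpowers_le.2 hcS)
  haveI := finite_of_le hWS
  haveI := finite_of_le (hQT.trans hTS)
  haveI : Finite (MulAut ↥(Q ⊔ Subgroup.zpowers c)) := Finite.of_injective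
    (fun f => (f : ↥(Q ⊔ Subgroup.zpowers c) → ↥(Q ⊔ Subgroup.zpowers c))) DFunLike.coe_injective
  haveI : Finite (MulAut Q) := Finite.of_injective (fun f => (f : Q → Q)) DFunLike.coe_injective
  have hZ : centralizerIn T Q ≤ Q := hQc.2 Q (isConj_refl E hQT)
  obtain ⟨hfc, -, R, hR⟩ := isFullyAutomized_and_fc_of_fn hTp hEs hQn
  have hrec := isReceptive_of_fc hTp hEs hfc
  let G := liftGroup F E hT Q hQT c hcS
  let δ : G → Subgroup.center Q := liftDisp hcC hZ
  let σ : G →* MulAut (Subgroup.center Q) := liftAct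
  set U : Subgroup (Subgroup.center Q) :=
    dispSub hcC hZ (F := F) (E := E) (hT := hT) (hP := hQT) (hcS := hcS) with hU
  let N : ℕ → Subgroup (Subgroup.center Q) := fun i =>
    (powMonoidHom (p ^ i) : Subgroup.center Q →* Subgroup.center Q).ker ⊔ U
  have hmemN : ∀ i x, x ∈ N i ↔ ∃ y, y ^ p ^ i = 1 ∧ ∃ u ∈ U, y * u = x := by
    intro i x
    rw [Subgroup.mem_sup]
    simp [MonoidHom.mem_ker]
  have hinv : ∀ i g, ∀ x ∈ N i, σ g x ∈ N i := by
    intro i g x hx
    obtain ⟨y, hy, u, hu, rfl⟩ := (hmemN i x).1 hx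
    exact (hmemN i _).2 ⟨σ g y, by rw [← map_pow, hy, map_one], σ g u,
      dispSub_invariant hcC hZ g hu, (map_mul _ _ _).symm⟩
  have hmono : ∀ i, N i ≤ N (i + 1) := by
    intro i x hx
    obtain ⟨y, hy, u, hu, rfl⟩ := (hmemN i x).1 hx
    exact (hmemN _ _).2 ⟨y, by rw [pow_succ, pow_mul, hy, one_pow], u, hu, rfl⟩
  have hpow : ∀ i, ∀ x ∈ N (i + 1), x ^ p ∈ N i := by
    intro i x hx
    obtain ⟨y, hy, u, hu, rfl⟩ := (hmemN _ x).1 hx
    exact (hmemN _ _).2 ⟨y ^ p, by rw [← pow_mul, ← pow_succ', hy], u ^ p, pow_mem hu p,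
      (mul_pow y u p).symm⟩
  have hA : IsPGroup p (Subgroup.center Q) := (hTp.to_le hQT).to_subgroup _
  obtain ⟨n, hn⟩ := IsPGroup.iff_card.1 hA
  have htop : N n = ⊤ := eq_top_iff.2 fun x _ =>
    (hmemN n x).2 ⟨x, by rw [← hn, pow_card_eq_one'], 1, one_mem _, mul_one x⟩
  have hN0 : ∀ x ∈ N 0, x ∈ U := by
    intro x hx
    obtain ⟨y, hy, u, hu, rfl⟩ := (hmemN 0 x).1 hx
    rw [pow_zero, pow_one] at hy
    rwa [hy, one_mul]
  -- the Sylow subgroup over `Aut_T(Q)`
  let res : G →* E.autGroup Q := MonoidHom.codRestrict liftRes _ liftRes_mem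
  have hker : IsPGroup p res.ker :=
    IsPGroup.to_le (isPGroup_ker_liftRes hcC hZ hS (F := F) (E := E) (hT := hT) (hP := hQT) (hcS := hcS))
      fun g hg => congrArg Subtype.val hg
  obtain ⟨P₀, hP₀⟩ := (R.2.comap_of_ker_isPGroup res hker).exists_le_sylow
  have hres : Function.Surjective res := fun a => by
    obtain ⟨β, hβ⟩ := exists_lift hS hE hQc hcC a.2 (hT := hT) (hP := hQT) (hcS := hcS)
    exact ⟨β, Subtype.ext hβ⟩
  have hP₀R : (P₀ : Subgroup G).map res = (R : Subgroup (E.autGroup Q)) := by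
    refine R.3 (P₀.2.map res) ?_
    rw [← Subgroup.map_comap_eq_self_of_surjective hres (R : Subgroup (E.autGroup Q))]
    exact Subgroup.map_mono hP₀
  -- a quadratic subgroup of largest order outside `Q`
  have hHT : normalizerIn T Q ≤ T := normalizerIn_le Q
  haveI := finite_of_le hHT
  have hcardH : Nat.card (normalizerIn T Q) ≤ Nat.card T := card_le_of_le hHT
  set V : Subgroup Ω := ((powMonoidHom p : Subgroup.center Q →* Subgroup.center Q).ker).map
    (Q.subtype.comp (Subgroup.center Q).subtype) with hVdef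
  have hmemV : ∀ v, v ∈ V ↔ ∃ z : Subgroup.center Q, z ^ p = 1 ∧ ((z : Q) : Ω) = v := fun v => by
    rw [hVdef, Subgroup.mem_map]
    simp [MonoidHom.mem_ker]
  have hVQ : V ≤ Q := fun v hv => by
    obtain ⟨z, -, rfl⟩ := (hmemV v).1 hv
    exact (z : Q).2
  have hQV : Q ≤ Subgroup.centralizer (V : Set Ω) := fun x hx =>
    Subgroup.mem_centralizer_iff.2 fun v hv => by
      obtain ⟨z, -, rfl⟩ := (hmemV v).1 hv
      exact (congrArg Subtype.val (Subgroup.mem_center_iff.1 z.2 ⟨x, hx⟩)).symm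
  have hVe : ElemAb p V := by
    refine ⟨fun x hx y hy => (Subgroup.mem_centralizer_iff.1 (hQV (hVQ hx)) y hy).symm, fun v hv => ?_⟩
    obtain ⟨z, hz, rfl⟩ := (hmemV v).1 hv
    exact congrArg (fun w : Subgroup.center Q => ((w : Q) : Ω)) hz
  haveI : Finite (V : Set Ω) := Finite.of_injective _ (Subgroup.inclusion_injective hVQ)
  have hHV : normalizerIn T Q ≤ Subgroup.normalizer (V : Set Ω) := by
    intro t ht
    refine Subgroup.mem_normalizer_fintype (S := (V : Set Ω)) fun v hv => ?_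
    obtain ⟨z, hz, rfl⟩ := (hmemV v).1 hv
    exact (hmemV _).2 ⟨centerAutHom Q (conjAut Q ht.2) z, by rw [← map_pow, hz, map_one], rfl⟩
  obtain ⟨A, hAmax, hAQ⟩ : ∃ A, IsMaxElem p (normalizerIn T Q) A ∧ ¬ A ≤ Q := by
    by_contra hall
    push Not at hall
    obtain ⟨A, hA⟩ := exists_isMaxElem (p := p) (P := normalizerIn T Q)
    have hr : elemRank p Q = elemRank p (normalizerIn T Q) :=
      le_antisymm (elemRank_mono (le_normalizerIn hQT)) (hA.2.2 ▸ card_le_elemRank (hall A hA) hA.2.1)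
    have hj : elemJoin p Q = elemJoin p (normalizerIn T Q) :=
      le_antisymm (elemJoin_mono (le_normalizerIn hQT) hr)
        (sSup_le fun B hB => le_sSup ⟨hall B hB, hB.2.1, hB.2.2.trans hr.symm⟩)
    refine hlt.ne ?_
    unfold elemMeasure
    rw [hr, hj]
  obtain ⟨B, hB, hBQ, hquad⟩ :=
    exists_quadratic_maxElem (hTp.to_le hHT) (hVQ.trans (le_normalizerIn hQT)) hVe hHV hQV hAmax hAQ
  have hBlift : ∀ b ∈ B, ∀ hn : b ∈ Subgroup.normalizer (Q : Set Ω),
      ∃ β : G, liftRes β = conjAut Q hn ∧ β ∈ QuadraticControl.quadSub σ (P₀ : Subgroup G) N := by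
    intro b hb hn
    have hbT : b ∈ T := hHT (hB.1 hb)
    obtain ⟨β, hβ, -⟩ := conjAut_mem_liftGroup hcC hbT hn (F := F) (E := E) (hT := hT) (hP := hQT)
      (hcS := hcS)
    refine ⟨β, hβ, Subgroup.subset_closure ⟨hP₀ ?_, ?_⟩⟩
    · show res β ∈ (R : Subgroup (E.autGroup Q))
      rw [hR, Subgroup.mem_subgroupOf]
      show liftRes β ∈ autInducedBy T Q
      rw [hβ]
      exact conjAut_mem_autInducedBy hn hbT
    intro i x hx
    have hσ : ∀ w : Subgroup.center Q, ((σ β w : Q) : Ω) = b * (w : Q) * b⁻¹ := fun w => by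
      show (((liftRes β) (w : Q) : Q) : Ω) = _
      rw [hβ, coe_conjAut]
    obtain ⟨y, hy, u, hu, rfl⟩ := (hmemN _ x).1 hx
    have hσu : σ β (σ β u / u) / (σ β u / u) ∈ U :=
      div_mem (dispSub_invariant hcC hZ β (div_mem (dispSub_invariant hcC hZ β hu) hu))
        (div_mem (dispSub_invariant hcC hZ β hu) hu)
    refine (hmemN i _).2 ⟨σ β (σ β y / y) / (σ β y / y), ?_, _, hσu, ?_⟩
    · set z := y ^ p ^ i with hz
      have hzp : z ^ p = 1 := by rw [hz, ← pow_mul, ← pow_succ, hy]
      rw [div_pow, ← map_pow, div_pow, ← map_pow, ← hz, div_eq_one]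
      apply Subtype.ext; apply Subtype.ext
      set v : Ω := ((z : Q) : Ω) with hv
      have hq := hquad b hb v ((hmemV v).2 ⟨z, hzp, rfl⟩)
      have hw : ((σ β z / z : Subgroup.center Q) : Q).1 = b * v * b⁻¹ * v⁻¹ := by
        rw [div_eq_mul_inv, Subgroup.coe_mul, Subgroup.coe_mul, hσ]
        rfl
      rw [hσ, hw, show b * v * b⁻¹ * v⁻¹ = ⁅v, b⁆⁻¹ by simp [commutatorElement_def, mul_assoc]]
      exact conj_eq_of_commute (Commute.inv_right
        (commutatorElement_eq_one_iff_commute.1 hq).symm)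
    · simp only [map_mul, map_div, div_eq_mul_inv, mul_inv_rev]
      ac_rfl
  have hM : ∀ h ∈ Subgroup.normalizer
      ((QuadraticControl.quadSub σ (P₀ : Subgroup G) N : Subgroup G) : Set G), δ h ∈ N 0 := by
    intro β hβ
    have hφ : Q.subtype.comp (liftRes β).toMonoidHom ∈ E.Hom Q :=
      (mem_autGroup hQT).1 (liftRes_mem β)
    have hr : (Q.subtype.comp (liftRes β).toMonoidHom).range = Q := by
      ext y
      exact ⟨fun ⟨x, hx⟩ => hx ▸ (liftRes β x).2,
        fun hy => ⟨(liftRes β)⁻¹ ⟨y, hy⟩, by simp⟩⟩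
    obtain ⟨ψ, hψ, hψe⟩ := hrec.2 Q _ hφ hr
    have hle : Q ⊔ B ≤ extender T Q (Q.subtype.comp (liftRes β).toMonoidHom) := by
      refine sup_le (le_extender hQT (hom_mem hφ)) fun b hb => ?_
      have hn : b ∈ Subgroup.normalizer (Q : Set Ω) := (hB.1 hb).2
      obtain ⟨γ, hγ, hγK⟩ := hBlift b hb hn
      have hconj := (Subgroup.mem_normalizer_iff.1 hβ γ).1 hγK
      have hin : res (β * γ * β⁻¹) ∈ (R : Subgroup (E.autGroup Q)) := by
        rw [← hP₀R]
        exact ⟨_, (Subgroup.closure_le _).2 (fun a ha => ha.1) hconj, rfl⟩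
      rw [hR, Subgroup.mem_subgroupOf] at hin
      change liftRes (β * γ * β⁻¹) ∈ autInducedBy T Q at hin
      rw [map_mul, map_mul, map_inv, hγ] at hin
      obtain ⟨h, hh, hhe⟩ := mem_autInducedBy.1 hin
      refine mem_extender_of (hHT (hB.1 hb)) hn hh fun x hx => ?_
      show ((liftRes β ⟨b * x * b⁻¹, hx⟩ : Q) : Ω) = h * ((liftRes β x : Q) : Ω) * h⁻¹
      rw [← hhe, MulAut.mul_apply, MulAut.mul_apply, MulAut.inv_apply_self]
      rfl
    have hQB : Q ⊔ B ≤ normalizerIn T Q := sup_le (le_normalizerIn hQT) hB.1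
    haveI := finite_of_le (hQB.trans hHT)
    have hBmax : IsMaxElem p (Q ⊔ B) B := ⟨le_sup_right, hB.2.1,
      le_antisymm (card_le_elemRank le_sup_right hB.2.1) (hB.2.2 ▸ elemRank_mono hQB)⟩
    have hlt' : elemMeasure (Nat.card T) p Q < elemMeasure (Nat.card T) p (Q ⊔ B : Subgroup Ω) :=
      elemMeasure_lt le_sup_left (card_le_of_le (hQB.trans hHT)) hBmax hBQ
    have hfix := hIH _ hlt' _ (restrict_mem hψ hle)
    have hQC : Q ≤ centralizerIn S (Subgroup.zpowers c) :=
      hQT.trans (le_centralizerIn_of_le hTS (Subgroup.zpowers_le.2 hcC))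
    have haC : liftRes β ∈ C.autGroup Q := (mem_autGroup hQC).2
      (hom_congr (restrict_mem hfix (le_sup_left : Q ≤ Q ⊔ B)) fun x =>
        (hψe (x : Ω) x.2 (hle (Subgroup.mem_sup_left x.2))).symm)
    obtain ⟨γ, hγ, hγd⟩ := exists_lift_fix hcC hZ hC (liftRes_mem β) haC (hT := hT) (hP := hQT)
      (hcS := hcS)
    refine Subgroup.mem_sup_right ?_
    have hk : liftRes (γ⁻¹ * β) = 1 := by rw [map_mul, map_inv, hγ, inv_mul_cancel]
    show liftDisp hcC hZ β ∈ U
    rw [show β = γ * (γ⁻¹ * β) from (mul_inv_cancel_left γ β).symm, liftDisp_mul, hγd, one_mul]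
    exact dispSub_invariant hcC hZ γ ⟨γ⁻¹ * β, hk, rfl⟩
  have hall := QuadraticControl.control σ δ (fun g h => liftDisp_mul hcC hZ g h) hp hA N hinv hmono hpow
    n htop P₀ hM
  intro a ha
  obtain ⟨β, rfl⟩ := exists_lift hS hE hQc hcC ha (hT := hT) (hP := hQT) (hcS := hcS)
  exact liftRes_mem_centralizer' hcC hZ hEi.1 hC β (hN0 _ (hall β))

/-- A centric radical subgroup contains the centralizer of its elementary Thompson subgroup. -/
theorem centralizerIn_elemJoin_le [Finite T] [Fact p.Prime] (hp : p ≠ 2) (hT : IsPGroup p T)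
    {P : Subgroup Ω} (hP : E.IsCentric P) (hrad : E.IsRadical p P) :
    centralizerIn T (elemJoin p P) ≤ P := by
  classical
  have hPT := hP.1
  haveI := finite_of_le hPT
  haveI : Finite (MulAut P) := Finite.of_injective (fun f => (f : P → P)) DFunLike.coe_injective
  set J := elemJoin p P with hJ
  have hJP : J ≤ P := elemJoin_le
  -- the automorphisms fixing `J`
  let K : Subgroup (E.autGroup P) :=
    { carrier := {a | ∀ x : P, (x : Ω) ∈ J → (a : MulAut P) x = x}
      one_mem' := fun _ _ => rfl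
      mul_mem' := fun {a b} ha hb x hx => by
        rw [Subgroup.coe_mul, MulAut.mul_apply, hb x hx, ha x hx]
      inv_mem' := fun {a} ha x hx => by
        rw [Subgroup.coe_inv]
        conv_lhs => rw [← ha x hx]
        exact MulAut.inv_apply_self _ _ _ }
  have hJinv : ∀ (a : MulAut P) (x : P), (x : Ω) ∈ J → ((a x : P) : Ω) ∈ J := by
    intro a x hx
    have hr : (P.subtype.comp a.toMonoidHom).range = P := by
      ext y
      exact ⟨fun ⟨z, hz⟩ => hz ▸ (a z).2, fun hy => ⟨a⁻¹ ⟨y, hy⟩, by simp⟩⟩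
    have h := (elemJoin_map (p := p) (φ := P.subtype.comp a.toMonoidHom)
      (P.subtype_injective.comp a.injective)).2
    rw [hr, ← hJ] at h
    rw [h]
    exact ⟨x, hx, rfl⟩
  haveI hKn : K.Normal := ⟨fun k hk g x hx => by
    rw [Subgroup.coe_mul, Subgroup.coe_mul, Subgroup.coe_inv, MulAut.mul_apply, MulAut.mul_apply,
      hk _ (hJinv _ x hx), MulAut.apply_inv_self]⟩
  have hKp : IsPGroup p K := by
    refine IsPGroup.iff_orderOf.2 fun k => ?_
    obtain ⟨u, v, hv, huv⟩ := Nat.exists_eq_pow_mul_and_not_dvd (orderOf_pos k).ne' p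
      (Fact.out : p.Prime).ne_one
    set k' := k ^ p ^ u with hk'
    suffices hk1 : k' = 1 by
      obtain ⟨j, -, hj⟩ := (Nat.dvd_prime_pow Fact.out).1 (orderOf_dvd_of_pow_eq_one hk1)
      exact ⟨j, hj⟩
    have hvp : v.Coprime p := ((Fact.out : p.Prime).coprime_iff_not_dvd.2 hv).symm
    have hk'v : k' ^ v = 1 := by rw [hk', ← pow_mul, ← huv, pow_orderOf_eq_one]
    set a : MulAut P := ((k' : E.autGroup P) : MulAut P) with ha
    have hav : a ^ v = 1 := congrArg (fun w : K => ((w : E.autGroup P) : MulAut P)) hk'v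
    have hfix : ∀ x : P, (x : Ω) ∈ J → a x = x := k'.2
    let CJ : Subgroup P := (Subgroup.centralizer (J : Set Ω)).subgroupOf P
    have hCinv : ∀ b : MulAut P, (∀ x : P, (x : Ω) ∈ J → b x = x) → ∀ x ∈ CJ, b x ∈ CJ := by
      intro b hb x hx
      refine Subgroup.mem_centralizer_iff.2 fun y hy => ?_
      have h1 : (⟨y, hJP hy⟩ : P) * x = x * ⟨y, hJP hy⟩ :=
        Subtype.ext (Subgroup.mem_centralizer_iff.1 hx y hy)
      have h2 := congrArg (fun z : P => ((b z : P) : Ω)) h1
      simp only [map_mul, Subgroup.coe_mul, hb ⟨y, hJP hy⟩ hy] at h2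
      exact h2
    have hafix : ∀ x ∈ CJ, a x = x := by
      have hinvfix : ∀ x : P, (x : Ω) ∈ J → a⁻¹ x = x := fun x hx => by
        conv_lhs => rw [← hfix x hx]
        exact MulAut.inv_apply_self _ _ _
      let γ : MulAut CJ :=
        { toFun := fun x => ⟨a x, hCinv a hfix x x.2⟩
          invFun := fun x => ⟨a⁻¹ x, hCinv a⁻¹ hinvfix x x.2⟩
          left_inv := fun x => Subtype.ext (MulAut.inv_apply_self _ _ _)
          right_inv := fun x => Subtype.ext (MulAut.apply_inv_self _ _ _)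
          map_mul' := fun x y => Subtype.ext (map_mul a (x : P) (y : P)) }
      have hγn : ∀ (n : ℕ) (x : CJ), (((γ ^ n) x : CJ) : P) = (a ^ n) x := by
        intro n
        induction n with
        | zero => intro x; rfl
        | succ n ih => intro x; rw [pow_succ, MulAut.mul_apply, ih, pow_succ, MulAut.mul_apply]; rfl
      have hγ : γ = 1 := by
        refine Cfsg.Lib.PGroup.mulAut_eq_one_of_fix_omega hp ((hT.to_le hPT).to_subgroup CJ) ?_ ?_
        · refine Nat.Coprime.coprime_dvd_left (orderOf_dvd_of_pow_eq_one ?_) hvp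
          exact MulEquiv.ext fun x => Subtype.ext ((hγn v x).trans (by rw [hav]; rfl))
        · intro x hx
          refine Subtype.ext (hfix _ ?_)
          -- an element of order `p` centralizing `J` lies in it
          obtain ⟨A, hA⟩ := exists_isMaxElem (p := p) (P := P)
          set z : Ω := ((x : P) : Ω) with hzdef
          have hz : z ^ p = 1 := congrArg (fun w : CJ => ((w : P) : Ω)) hx
          have hze : ElemAb p (Subgroup.zpowers z) := by
            refine ⟨fun s hs t ht => ?_, fun s hs => ?_⟩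
            · obtain ⟨i, rfl⟩ := hs
              obtain ⟨j, rfl⟩ := ht
              exact ((Commute.refl z).zpow_zpow i j).eq
            · obtain ⟨i, rfl⟩ := hs
              show (z ^ i) ^ p = 1
              rw [← zpow_natCast, ← zpow_mul, mul_comm, zpow_mul, zpow_natCast, hz, one_zpow]
          have hzA : z ∈ Subgroup.centralizer (A : Set Ω) :=
            Subgroup.mem_centralizer_iff.2 fun y hy =>
              Subgroup.mem_centralizer_iff.1 x.2 y ((le_sSup hA : A ≤ J) hy)
          have he : ElemAb p (Subgroup.zpowers z ⊔ A) :=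
            elemAb_sup hze hA.2.1 (Subgroup.zpowers_le.2 hzA)
          have hle : Subgroup.zpowers z ⊔ A ≤ P := sup_le (Subgroup.zpowers_le.2 (x : P).2) hA.1
          haveI := finite_of_le (hle.trans hPT)
          have heq := Subgroup.eq_of_le_of_card_ge (le_sup_right : A ≤ Subgroup.zpowers z ⊔ A)
            (by rw [hA.2.2]; exact card_le_elemRank hle he)
          exact (le_sSup hA : A ≤ J) (heq.ge (Subgroup.mem_sup_left (Subgroup.mem_zpowers z)))
      intro x hx
      exact congrArg Subtype.val (congrArg (fun g : MulAut CJ => g ⟨x, hx⟩) hγ)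
    have ha1 : a = 1 := by
      apply MulEquiv.ext
      intro x
      set d := x⁻¹ * a x with hd
      have hdC : d ∈ CJ := by
        refine Subgroup.mem_centralizer_iff.2 fun y hy => ?_
        let y' : P := ⟨y, hJP hy⟩
        have hxy : ((x * y' * x⁻¹ : P) : Ω) ∈ J := hJinv (MulAut.conj x) y' hy
        have h1 := hfix _ hxy
        rw [map_mul, map_mul, map_inv, hfix y' hy] at h1
        have h2 : y' * d = d * y' := by
          rw [hd]
          calc y' * (x⁻¹ * a x) = x⁻¹ * (x * y' * x⁻¹) * a x := by group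
            _ = x⁻¹ * (a x * y' * (a x)⁻¹) * a x := by rw [h1]
            _ = _ := by group
        exact congrArg Subtype.val h2
      have hn : ∀ n : ℕ, (a ^ n) x = x * d ^ n := by
        intro n
        induction n with
        | zero => simp
        | succ n ih =>
          rw [pow_succ', MulAut.mul_apply, ih, map_mul, map_pow, hafix d hdC, hd, pow_succ',
            ← mul_assoc x, mul_inv_cancel_left]
      have hdv : d ^ v = 1 := mul_eq_left.1 ((hn v).symm.trans (by rw [hav]; rfl))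
      obtain ⟨j, hj⟩ := IsPGroup.iff_orderOf.1 (hT.to_le hPT) d
      have hd1 : d = 1 := orderOf_eq_one_iff.1 (Nat.eq_one_of_dvd_coprimes
        (Nat.Coprime.pow_right j hvp) (orderOf_dvd_of_pow_eq_one hdv) (hj ▸ dvd_rfl))
      exact (inv_mul_eq_one.1 hd1).symm
    exact Subtype.ext (Subtype.ext ha1)
  have hKI : ∀ a : E.autGroup P, a ∈ K → (a : MulAut P) ∈ Inn P := fun a ha => by
    rw [← hrad.2]
    exact ⟨a, Cfsg.Lib.Core.le_pCore' hKn hKp ha, rfl⟩
  -- the normalizer growth
  have hCn : ∀ g ∈ P, ∀ y ∈ centralizerIn T J, g * y * g⁻¹ ∈ centralizerIn T J := by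
    intro g hg y hy
    obtain ⟨hyT, hyc⟩ := mem_centralizerIn.1 hy
    refine mem_centralizerIn.2 ⟨T.mul_mem (T.mul_mem (hPT hg) hyT) (T.inv_mem (hPT hg)), fun w hw => ?_⟩
    have hw' : g⁻¹ * w * g ∈ J := (Subgroup.mem_normalizer_iff''.1
      (normalizer_le_normalizer_elemJoin (Subgroup.le_normalizer hg)) w).1 hw
    calc g * y * g⁻¹ * w = g * (y * (g⁻¹ * w * g)) * g⁻¹ := by group
      _ = g * ((g⁻¹ * w * g) * y) * g⁻¹ := by rw [hyc _ hw']
      _ = w * (g * y * g⁻¹) := by group
  by_contra hnot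
  set M := P ⊔ centralizerIn T J with hM
  have hMT : M ≤ T := sup_le hPT (centralizerIn_le J)
  haveI := finite_of_le hMT
  obtain ⟨g, ⟨hgM, hgN⟩, hgP⟩ := SetLike.exists_of_lt (lt_normalizerIn (hT.to_le hMT)
    (lt_of_le_of_ne le_sup_left fun h => hnot (h ▸ le_sup_right) : P < M))
  have hset : ((M : Subgroup Ω) : Set Ω) = (P : Set Ω) * (centralizerIn T J : Set Ω) := by
    refine Subgroup.coe_mul_of_left_le_normalizer_right _ _ fun x hx => ?_
    refine Subgroup.mem_normalizer_iff.2 fun y => ⟨hCn x hx y, fun hy => ?_⟩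
    have := hCn x⁻¹ (inv_mem hx) _ hy
    rwa [inv_inv, show x⁻¹ * (x * y * x⁻¹) * x = y by group] at this
  replace hgM : g ∈ (P : Set Ω) * (centralizerIn T J : Set Ω) := hset ▸ (hgM : g ∈ (M : Set Ω))
  obtain ⟨q, hq, y, hy, rfl⟩ := hgM
  have hyN : y ∈ Subgroup.normalizer (P : Set Ω) := by
    have := mul_mem (inv_mem (Subgroup.le_normalizer hq)) hgN
    rwa [inv_mul_cancel_left] at this
  have hyT := centralizerIn_le J hy
  have hya : conjAut P hyN ∈ E.autGroup P :=
    autInducedBy_le_autGroup hPT (conjAut_mem_autInducedBy hyN hyT)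
  obtain ⟨x, hx⟩ := hKI ⟨_, hya⟩ fun w hw =>
    Subtype.ext (conj_eq_of_commute ((mem_centralizerIn.1 hy).2 (w : Ω) hw))
  have hyP : y ∈ P := by
    have h1 : (x : Ω)⁻¹ * y ∈ centralizerIn T P := by
      refine mem_centralizerIn.2 ⟨T.mul_mem (T.inv_mem (hPT x.2)) hyT, fun w hw => ?_⟩
      have h2 : (x : Ω) * w * (x : Ω)⁻¹ = y * w * y⁻¹ :=
        congrArg (fun g : MulAut P => ((g ⟨w, hw⟩ : P) : Ω)) hx
      calc (x : Ω)⁻¹ * y * w = (x : Ω)⁻¹ * (y * w * y⁻¹) * y := by group
        _ = w * ((x : Ω)⁻¹ * y) := by rw [← h2]; group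
    have := mul_mem x.2 (hP.2 P (isConj_refl E hPT) h1)
    rwa [mul_inv_cancel_left] at this
  exact hgP (mul_mem hq hyP)

end Cfsg.Lib.FusionSys
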