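import Cfsg.Agent.Lib.FusionSys.NormalFixBase
import Cfsg.Agent.Lib.FusionSys.NormalFixRank

/-!
# `C_S(T) ≤ Z(T) C_S(E)` for a normal subsystem `E` over `T` at an odd prime

By downward induction on the measure `elemMeasure` the adjusted element is centralized by every map of
`E`: on an essential subgroup `P` the automorphisms are generated by extensible ones and those of order
prime to `p` in the group generated by the `p`-elements, and the latter are determined on
`J C_T(J) ≤ P` for `J` the elementary Thompson subgroup of `P`.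
-/

set_option autoImplicit false
set_option linter.style.haveILetI false

namespace Cfsg.Lib.FusionSys

open Cfsg Cfsg.FusionSystem
open scoped Pointwise IsMulCommutative

variable {Ω : Type*} [Group Ω] {S T : Subgroup Ω} {F : FusionSystem S} {E : FusionSystem T} {p : ℕ}

theorem map_congr_inn {P Q : Subgroup Ω} (e : P ≃* Q) :
    (Inn P).map (MulAut.congr e).toMonoidHom = Inn Q := by
  have key : ∀ x : P, MulAut.congr e (MulAut.conj x) = MulAut.conj (e x) := fun x =>
    MulEquiv.ext fun y => by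
      show e (x * e.symm y * x⁻¹) = e x * y * (e x)⁻¹
      rw [map_mul, map_mul, map_inv, MulEquiv.apply_symm_apply]
  ext α
  constructor
  · rintro ⟨_, ⟨x, rfl⟩, rfl⟩
    exact ⟨e x, (key x).symm⟩
  · rintro ⟨y, rfl⟩
    exact ⟨MulAut.conj (e.symm y), ⟨e.symm y, rfl⟩, (key _).trans (by rw [MulEquiv.apply_symm_apply])⟩

theorem isRadical_of_isoIn [Finite S] {P Q : Subgroup Ω} {e : P ≃* Q} (he : IsoIn F e)
    (h : F.IsRadical p P) : F.IsRadical p Q := by
  haveI := finite_of_le he.le_left
  haveI : Finite (MulAut P) := Finite.of_injective (fun f => (f : P → P)) DFunLike.coe_injective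
  haveI := finite_of_le he.le_right
  haveI : Finite (MulAut Q) := Finite.of_injective (fun f => (f : Q → Q)) DFunLike.coe_injective
  refine ⟨he.le_right, ?_⟩
  let f : F.autGroup P ≃* F.autGroup Q :=
    ((F.autGroup P).equivMapOfInjective _ (MulAut.congr e).injective).trans
      (MulEquiv.subgroupCongr (autGroup_map_congr he))
  rw [← map_congr_inn e, ← h.2, ← Cfsg.Lib.Core.map_pCore_equiv f, Subgroup.map_map, Subgroup.map_map]
  rfl

/-- The join of the largest elementary abelian subgroups of `T`, with its centralizer, is weakly closed. -/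
theorem weaklyClosed_elemJoin_sup [Finite S] (hT : F.StronglyClosed T) :
    F.WeaklyClosed (elemJoin p T ⊔ centralizerIn T (elemJoin p T)) := by
  haveI := finite_of_le hT.1
  set J := elemJoin p T with hJ
  set Q := J ⊔ centralizerIn T J with hQ
  have hQT : Q ≤ T := sup_le elemJoin_le (centralizerIn_le J)
  haveI := finite_of_le hQT
  refine ⟨hQT.trans hT.1, fun φ hφ => range_eq_of_card_le hφ (hQT.trans hT.1) ?_ le_rfl⟩
  have hinj := F.injective_of_mem hφ
  have hr : φ.range ≤ T := by
    rintro _ ⟨x, rfl⟩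
    exact stronglyClosed_apply_mem hT hφ (hQT x.2)
  have hrank : elemRank p Q = elemRank p T := by
    obtain ⟨A, hA⟩ := exists_isMaxElem (p := p) (P := T)
    exact le_antisymm (elemRank_mono hQT)
      (hA.2.2 ▸ card_le_elemRank (((le_sSup hA : A ≤ J)).trans le_sup_left) hA.2.1)
  have hJQ : elemJoin p Q = J := le_antisymm (elemJoin_mono hQT hrank)
    (sSup_le fun A hA => le_sSup ⟨((le_sSup hA : A ≤ J)).trans le_sup_left, hA.2.1, hA.2.2.trans hrank.symm⟩)
  obtain ⟨hmr, hmj⟩ := elemJoin_map (p := p) hinj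
  haveI := finite_of_le hr
  have hle : (J.subgroupOf Q).map φ ≤ J := by
    rw [← hJQ, ← hmj]
    exact (elemJoin_mono hr (hmr.trans hrank)).trans hJQ.ge
  have heq : (J.subgroupOf Q).map φ = J := by
    haveI := finite_of_le (elemJoin_le (p := p) (P := T))
    refine Subgroup.eq_of_le_of_card_ge hle ?_
    rw [Subgroup.card_map_of_injective hinj,
      Nat.card_congr (Subgroup.subgroupOfEquivOfLe (le_sup_left : J ≤ Q)).toEquiv]
  refine hom_mem_of_sup (fun x hx => Subgroup.mem_sup_left (hle ⟨x, hx, rfl⟩)) fun x hx => ?_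
  refine Subgroup.mem_sup_right (mem_centralizerIn.2 ⟨hr ⟨x, rfl⟩, fun y hy => ?_⟩)
  obtain ⟨w, hw, rfl⟩ := heq.ge hy
  rw [← map_mul, ← map_mul]
  exact congrArg φ (Subtype.ext ((mem_centralizerIn.1 hx).2 _ hw))

theorem isCentric_elemJoin_sup [Finite S] (hEi : E.IsInvariantIn F) :
    E.IsCentric (elemJoin p T ⊔ centralizerIn T (elemJoin p T)) := by
  refine ⟨sup_le elemJoin_le (centralizerIn_le _), ?_⟩
  rintro R ⟨φ, hφ, rfl⟩
  rw [(weaklyClosed_elemJoin_sup hEi.2.1).2 φ (hEi.1 _ hφ)]
  exact (centralizerIn_anti le_sup_left).trans le_sup_right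

/-- `p`-elements restrict to `p`-elements. -/
theorem pElemAut_restrict {P Q : Subgroup Ω} (hQP : Q ≤ P) (hQT : P ≤ T)
    (hB : ∀ b ∈ E.autGroup P, ∀ x : P, (x : Ω) ∈ Q ↔ ((b x : P) : Ω) ∈ Q) [Fact p.Prime]
    (a : E.autGroup P) (ha : (a : MulAut P) ∈ pElemAut E p P) :
    resAutHom hQP (E.autGroup P) hB a ∈ pElemAut E p Q := by
  have hle : pElemAut E p P ≤ (((pElemAut E p Q).comap (resAutHom hQP (E.autGroup P) hB)).map
      (E.autGroup P).subtype) := by
    refine (Subgroup.closure_le _).2 ?_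
    rintro b ⟨hb, k, hk⟩
    refine ⟨⟨b, hb⟩, Subgroup.subset_closure ⟨?_, ?_⟩, rfl⟩
    · exact (mem_autGroup (hQP.trans hQT)).2
        (hom_congr (restrict_mem ((mem_autGroup hQT).1 hb) hQP) fun _ => rfl)
    · have hd : orderOf (resAutHom hQP (E.autGroup P) hB ⟨b, hb⟩) ∣ p ^ k :=
        hk ▸ Subgroup.orderOf_mk b hb ▸ orderOf_map_dvd _ _
      obtain ⟨j, -, hj⟩ := (Nat.dvd_prime_pow Fact.out).1 hd
      exact ⟨j, hj⟩
  obtain ⟨b, hb, hba⟩ := hle ha
  rwa [← Subtype.ext hba]

/-- The element adjusted on `T` and on the largest Thompson subgroup centralizes every map. -/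
theorem mem_centralizer_of_adjusted [Finite S] [Fact p.Prime] (hp : p ≠ 2) (hS : IsPGroup p S)
    (hE : E.IsNormalIn F p) {c : Ω} (hcC : c ∈ centralizerIn S T)
    {C : FusionSystem (centralizerIn S (Subgroup.zpowers c))}
    (hC : F.IsCentralizerSystem (Subgroup.zpowers c) C)
    (hbaseT : E.autGroup T ≤ C.autGroup T)
    (hbaseQ : E.autGroup (elemJoin p T ⊔ centralizerIn T (elemJoin p T)) ≤
      C.autGroup (elemJoin p T ⊔ centralizerIn T (elemJoin p T))) :
    ∀ (M : Subgroup Ω) (φ : M →* Ω), φ ∈ E.Hom M → φ ∈ C.Hom M := by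
  classical
  have hEs := hE.1.1
  have hEi := hE.1.2.2
  have hT : F.StronglyClosed T := hEi.2.1
  have hTS := hT.1
  haveI := finite_of_le hTS
  have hTp : IsPGroup p T := hS.to_le hTS
  have hcS : c ∈ S := centralizerIn_le T hcC
  have hTC : T ≤ centralizerIn S (Subgroup.zpowers c) :=
    le_centralizerIn_of_le hTS (Subgroup.zpowers_le.2 hcC)
  set μ := elemMeasure (Ω := Ω) (Nat.card T) p with hμ
  suffices hmain : ∀ (k m : ℕ), μ T + 1 ≤ m + k → ∀ M : Subgroup Ω, m ≤ μ M →
      ∀ φ ∈ E.Hom M, φ ∈ C.Hom M from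
    fun M φ hφ => hmain (μ T + 1) 0 (by omega) M (Nat.zero_le _) φ hφ
  intro k
  induction k with
  | zero =>
    intro m hm M hM φ hφ
    have h := elemMeasure_mono (N := Nat.card T) (p := p) (hom_le hφ) le_rfl
    have h' : m ≤ μ T := hM.trans h
    omega
  | succ k ih =>
    intro m hm
    have hIH : ∀ M : Subgroup Ω, m < μ M → ∀ φ ∈ E.Hom M, φ ∈ C.Hom M := fun M hM =>
      ih (m + 1) (by omega) M hM
    have hrange : ∀ {P : Subgroup Ω} {φ : P →* Ω}, φ ∈ E.Hom P → μ φ.range = μ P := by
      intro P φ hφ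
      haveI := finite_of_le (hom_le hφ)
      exact elemMeasure_map (E.injective_of_mem hφ)
    let D : FusionSystem T :=
      { Hom := fun P => {φ | φ ∈ E.Hom P ∧ (m ≤ μ P → φ ∈ C.Hom P)}
        le_of_mem := fun h => E.le_of_mem h.1
        injective_of_mem := fun h => E.injective_of_mem h.1
        conj_mem := fun hP hg =>
          ⟨E.conj_mem hP hg, fun _ => C.conj_mem (hP.trans hTC) (hTC hg)⟩
        comp_mem := fun {P Q φ ψ} hφ hψ h => ⟨E.comp_mem hφ.1 hψ.1 h, fun hm' => by
          refine C.comp_mem (hφ.2 hm') (hψ.2 ?_) h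
          have hQT := hom_le hψ.1
          haveI := finite_of_le hQT
          exact hm'.trans ((hrange hφ.1).ge.trans (elemMeasure_mono (by
            rintro _ ⟨x, rfl⟩
            exact h x) (card_le_of_le hQT)))⟩
        inv_mem := fun {P φ} hφ => by
          obtain ⟨ψ, hψ, hψe⟩ := E.inv_mem hφ.1
          refine ⟨ψ, ⟨hψ, fun hm' => ?_⟩, hψe⟩
          obtain ⟨χ, hχ, hχe⟩ := C.inv_mem (hφ.2 (by rwa [← hrange hφ.1]))
          refine hom_congr hχ ?_
          rintro ⟨_, x, rfl⟩
          exact (hψe x).trans (hχe x).symm }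
    suffices hED : E ≤ D from fun M hM φ hφ => (hED M hφ).2 hM
    refine le_of_autGroup_le' hTp hEs D fun P hP hbig => ?_
    have hPT : P ≤ T := hP.elim (fun h => h.le) fun h => h.1.1
    have toD : ∀ a ∈ E.autGroup P, (m ≤ μ P → a ∈ C.autGroup P) → a ∈ D.autGroup P := fun a ha h =>
      (mem_autGroup hPT).2 ⟨(mem_autGroup hPT).1 ha,
        fun hm' => (mem_autGroup (hPT.trans hTC)).1 (h hm')⟩
    by_cases hPT' : P = T
    · subst hPT'
      exact fun a ha => toD a ha fun _ => hbaseT ha
    have hess : E.IsEssential p P := hP.resolve_left hPT'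
    have hPc := hess.1
    haveI := finite_of_le hPT
    haveI : Finite (MulAut P) := Finite.of_injective (fun f => (f : P → P)) DFunLike.coe_injective
    by_cases hlt : m < μ P
    · exact fun a ha => toD a ha fun _ => (mem_autGroup (hPT.trans hTC)).2
        (hIH P hlt _ ((mem_autGroup hPT).1 ha))
    by_cases hm' : m ≤ μ P
    swap
    · exact fun a ha => toD a ha fun h => absurd h hm'
    have hμP : μ P = m := le_antisymm (not_lt.1 hlt) hm'
    have hrad := isRadical_of_isEssential hTp hess
    set J := elemJoin p P with hJ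
    have hCJ : centralizerIn T J ≤ P := centralizerIn_elemJoin_le hp hTp hPc hrad
    have hJP : J ≤ P := elemJoin_le
    set Q := J ⊔ centralizerIn T J with hQ
    have hQP : Q ≤ P := sup_le hJP hCJ
    have hQT : Q ≤ T := hQP.trans hPT
    -- the automorphisms of `Q`
    obtain ⟨hQc, hQfix⟩ : E.IsCentric Q ∧ E.autGroup Q ≤ C.autGroup Q := by
      by_cases hmax : m = μ T
      · have he := (elemJoin_eq_of_measure (N := Nat.card T) (p := p) hPT le_rfl (hμP.trans hmax)).1
        rw [hQ, hJ, he]
        exact ⟨isCentric_elemJoin_sup hEi, hbaseQ⟩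
      have hJT : J ≤ T := hJP.trans hPT
      obtain ⟨J', hJJ', hJ'n⟩ := exists_isFullyNormalized E hJT
      obtain ⟨hJ'fc, hJ'fa⟩ := isFullyAutomized_and_fc_of_fn hTp hEs hJ'n
      obtain ⟨χ, hχ, -, hχmap⟩ :=
        exists_normalizer_map hTp hJ'fa (isReceptive_of_fc hTp hEs hJ'fc) hJJ'
      have hPN : P ≤ normalizerIn T J := fun x hx =>
        ⟨hPT hx, normalizer_le_normalizer_elemJoin (Subgroup.le_normalizer hx)⟩
      have hNT : normalizerIn T J ≤ T := normalizerIn_le J
      haveI := finite_of_le hNT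
      have hNlt : m < μ (normalizerIn T J) := by
        refine hμP ▸ lt_of_le_of_ne (elemMeasure_mono hPN (card_le_of_le hNT)) fun he => hmax ?_
        have hJN := (elemJoin_eq_of_measure hPN (card_le_of_le hNT) he).1
        by_cases hN : normalizerIn T J = T
        · rw [← hμP, he, hN]
        · obtain ⟨g, ⟨hgT, hgN⟩, hgn⟩ := SetLike.exists_of_lt
            (lt_normalizerIn hTp (lt_of_le_of_ne hNT hN))
          refine absurd ⟨hgT, ?_⟩ hgn
          have := normalizer_le_normalizer_elemJoin (p := p) hgN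
          rwa [← hJN, ← hJ] at this
      have hχC := hIH _ hNlt χ hχ
      have hχP := restrict_mem hχ hPN
      set P' := (χ.comp (Subgroup.inclusion hPN)).range with hP'
      have heP : IsoIn E (homIso hχP (rfl : (χ.comp (Subgroup.inclusion hPN)).range = P')) :=
        isoIn_homIso hχP rfl
      have hP'c : E.IsCentric P' := isCentric_of_conj hPc (isConj_iff.2 ⟨_, heP⟩)
      have hP'T : P' ≤ T := hP'c.1
      haveI := finite_of_le hP'T
      obtain ⟨hr', hj'⟩ := elemJoin_map (p := p) (E.injective_of_mem hχP)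
      have hJ'eq : elemJoin p P' = J' := by
        rw [hP', hj', ← hχmap]
        ext y
        constructor
        · rintro ⟨x, hx, rfl⟩
          exact ⟨Subgroup.inclusion hPN x, hx, rfl⟩
        · rintro ⟨x, hx, rfl⟩
          exact ⟨⟨(x : Ω), hJP hx⟩, hx, rfl⟩
      have hμP' : μ P' = m := (hrange hχP).trans hμP
      have hCJ' : centralizerIn T J' ≤ P' :=
        hJ'eq ▸ centralizerIn_elemJoin_le hp hTp hP'c (isRadical_of_isoIn heP hrad)
      set Q' := J' ⊔ centralizerIn T J' with hQ'
      have hQ'P' : Q' ≤ P' := sup_le (hJ'eq ▸ elemJoin_le) hCJ'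
      have hQ'T : Q' ≤ T := hQ'P'.trans hP'T
      -- `χ` carries `Q` onto `Q'`
      have hQN : Q ≤ normalizerIn T J := hQP.trans hPN
      have hχQ := restrict_mem hχ hQN
      have hrQ : (χ.comp (Subgroup.inclusion hQN)).range = Q' := by
        refine le_antisymm ?_ (sup_le ?_ fun y hy => ?_)
        · rintro _ ⟨x, rfl⟩
          refine hom_mem_of_sup (fun z hz => ?_) (fun z hz => ?_) x
          · exact Subgroup.mem_sup_left (hχmap.le ⟨Subgroup.inclusion hQN z, hz, rfl⟩)
          · refine Subgroup.mem_sup_right (mem_centralizerIn.2 ⟨hom_mem hχQ z, fun w hw => ?_⟩)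
            obtain ⟨s, hs, rfl⟩ := hχmap.ge hw
            show χ (Subgroup.inclusion hQN z) * χ s = χ s * χ (Subgroup.inclusion hQN z)
            rw [← map_mul, ← map_mul]
            exact congrArg χ (Subtype.ext ((mem_centralizerIn.1 hz).2 _ hs))
        · intro y hy
          obtain ⟨s, hs, rfl⟩ := hχmap.ge hy
          exact ⟨⟨(s : Ω), Subgroup.mem_sup_left hs⟩, rfl⟩
        · obtain ⟨⟨x, hx⟩, rfl⟩ := hCJ' hy
          refine ⟨⟨x, Subgroup.mem_sup_right (mem_centralizerIn.2 ⟨hPT hx, fun w hw => ?_⟩)⟩, rfl⟩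
          have hw' : χ ⟨w, hPN (hJP hw)⟩ ∈ J' := hχmap.le ⟨⟨w, hPN (hJP hw)⟩, hw, rfl⟩
          have h := (mem_centralizerIn.1 hy).2 _ hw'
          change χ ⟨x, hPN hx⟩ * χ ⟨w, hPN (hJP hw)⟩ = χ ⟨w, hPN (hJP hw)⟩ * χ ⟨x, hPN hx⟩ at h
          rw [← map_mul, ← map_mul] at h
          exact congrArg Subtype.val (E.injective_of_mem hχ h)
      have heQE : IsoIn E (homIso hχQ hrQ) := isoIn_homIso hχQ hrQ
      have heQC : IsoIn C (homIso hχQ hrQ) :=
        hom_congr (restrict_mem hχC hQN) fun x => coe_homIso hχQ hrQ x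
      haveI := finite_of_le hQ'T
      -- `Q'` is fully normalized and centric
      have hrk : elemRank p Q' = elemRank p P' := by
        obtain ⟨A, hA⟩ := exists_isMaxElem (p := p) (P := P')
        refine le_antisymm (elemRank_mono hQ'P') (hA.2.2 ▸ card_le_elemRank ?_ hA.2.1)
        exact (le_sSup hA : A ≤ elemJoin p P').trans (hJ'eq.le.trans le_sup_left)
      have hJQ' : elemJoin p Q' = J' := le_antisymm (hJ'eq ▸ elemJoin_mono hQ'P' hrk)
        (hJ'eq ▸ sSup_le fun A hA => le_sSup
          ⟨(le_sSup hA : A ≤ elemJoin p P').trans (hJ'eq.le.trans le_sup_left), hA.2.1,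
            hA.2.2.trans hrk.symm⟩)
      have hμQ' : μ Q' = m := by
        rw [← hμP']
        show elemMeasure _ p Q' = elemMeasure _ p P'
        unfold elemMeasure
        rw [hrk, hJQ', hJ'eq]
      have hJimg : ∀ φ ∈ E.Hom Q', E.IsConj J' (elemJoin p φ.range) := by
        intro φ hφ
        have h1 := (elemJoin_map (p := p) (E.injective_of_mem hφ)).2
        refine ⟨φ.comp (Subgroup.inclusion le_sup_left), restrict_mem hφ le_sup_left, ?_⟩
        rw [h1, hJQ']
        ext y
        constructor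
        · rintro ⟨x, rfl⟩
          exact ⟨Subgroup.inclusion le_sup_left x, x.2, rfl⟩
        · rintro ⟨x, hx, rfl⟩
          exact ⟨⟨(x : Ω), hx⟩, rfl⟩
      have hQ'c : E.IsCentric Q' := by
        refine ⟨hQ'T, ?_⟩
        rintro R ⟨φ, hφ, rfl⟩
        haveI := finite_of_le (range_le hφ)
        have hconj := hJimg φ hφ
        have hle' : centralizerIn T J' ≤ Q' := le_sup_right
        have himg : ((centralizerIn T J').subgroupOf Q').map φ ≤
            centralizerIn T (elemJoin p φ.range) := by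
          rintro _ ⟨x, hx, rfl⟩
          refine mem_centralizerIn.2 ⟨hom_mem hφ x, fun w hw => ?_⟩
          rw [(elemJoin_map (p := p) (E.injective_of_mem hφ)).2, hJQ'] at hw
          obtain ⟨s, hs, rfl⟩ := hw
          rw [← map_mul, ← map_mul]
          exact congrArg φ (Subtype.ext ((mem_centralizerIn.1 hx).2 _ hs))
        haveI := finite_of_le (centralizerIn_le (S := T) (elemJoin p φ.range))
        have heq := Subgroup.eq_of_le_of_card_ge himg (by
          rw [Subgroup.card_map_of_injective (E.injective_of_mem hφ),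
            Nat.card_congr (Subgroup.subgroupOfEquivOfLe hle').toEquiv]
          exact hJ'fc.2 _ hconj)
        refine (centralizerIn_anti (elemJoin_le (p := p))).trans ?_
        rw [← heq]
        rintro _ ⟨x, -, rfl⟩
        exact ⟨x, rfl⟩
      have hnorm : normalizerIn T J' ≤ normalizerIn T Q' := by
        intro g hg
        refine ⟨hg.1, normalizer_inf_le ⟨hg.2, ?_⟩⟩
        have key : ∀ g ∈ normalizerIn T J', ∀ y ∈ centralizerIn T J', g * y * g⁻¹ ∈ centralizerIn T J' := by
          intro g hg y hy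
          obtain ⟨hyT, hyc⟩ := mem_centralizerIn.1 hy
          refine mem_centralizerIn.2 ⟨T.mul_mem (T.mul_mem hg.1 hyT) (T.inv_mem hg.1), fun w hw => ?_⟩
          have hw' : g⁻¹ * w * g ∈ J' := (Subgroup.mem_normalizer_iff''.1 hg.2 w).1 hw
          calc g * y * g⁻¹ * w = g * (y * (g⁻¹ * w * g)) * g⁻¹ := by group
            _ = g * ((g⁻¹ * w * g) * y) * g⁻¹ := by rw [hyc _ hw']
            _ = w * (g * y * g⁻¹) := by group
        refine Subgroup.mem_normalizer_iff.2 fun y => ⟨key g hg y, fun hy => ?_⟩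
        have := key g⁻¹ (inv_mem hg) _ hy
        rwa [inv_inv, show g⁻¹ * (g * y * g⁻¹) * g = y by group] at this
      have hQ'n : E.IsFullyNormalized Q' := by
        refine ⟨hQ'T, ?_⟩
        rintro R ⟨φ, hφ, rfl⟩
        haveI := finite_of_le (range_le hφ)
        haveI := finite_of_le (normalizerIn_le (S := T) (elemJoin p φ.range))
        haveI := finite_of_le (normalizerIn_le (S := T) Q')
        refine le_trans (Subgroup.card_le_of_le (K := normalizerIn T (elemJoin p φ.range)) fun g hg => ?_)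
          ((hJ'n.2 _ (hJimg φ hφ)).trans (Subgroup.card_le_of_le hnorm))
        exact ⟨hg.1, normalizer_le_normalizer_elemJoin hg.2⟩
      have hN'lt : μ Q' < μ (normalizerIn T Q') := by
        rw [hμQ']
        refine hNlt.trans_le ?_
        rw [← hrange hχ]
        haveI := finite_of_le (normalizerIn_le (S := T) Q')
        refine elemMeasure_mono ?_ (card_le_of_le (normalizerIn_le _))
        rintro _ ⟨x, rfl⟩
        haveI := finite_of_le ((hJ'n.1 : J' ≤ T))
        haveI : Finite (J' : Set Ω) := ‹Finite J'›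
        refine hnorm ⟨hom_mem hχ x, Subgroup.mem_normalizer_fintype (S := (J' : Set Ω)) fun w hw => ?_⟩
        obtain ⟨s, hs, rfl⟩ := hχmap.ge hw
        rw [← map_inv, ← map_mul, ← map_mul]
        exact hχmap.le ⟨_, (Subgroup.mem_normalizer_iff.1 x.2.2 (s : Ω)).1 hs, rfl⟩
      have hall := autGroup_le_centralizer_of_measure hp hS hE hcC hC hQ'c hQ'n hN'lt
        (fun M hM φ hφ => hIH M (hμQ' ▸ hM) φ hφ)
      refine ⟨isCentric_of_conj hQ'c (isConj_symm (isConj_iff.2 ⟨_, heQE⟩)), fun a ha => ?_⟩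
      have h1 := hall (congr_mem_autGroup heQE ha)
      have h2 := congr_mem_autGroup heQC.symm h1
      rwa [show MulAut.congr (homIso hχQ hrQ).symm (MulAut.congr (homIso hχQ hrQ) a) = a from
        MulEquiv.ext fun x => by simp [MulAut.congr]] at h2
    -- `Q` is invariant and centric
    have hB : ∀ b ∈ E.autGroup P, ∀ x : P, (x : Ω) ∈ Q ↔ ((b x : P) : Ω) ∈ Q := by
      suffices h : ∀ (b : MulAut P) (x : P), (x : Ω) ∈ Q → ((b x : P) : Ω) ∈ Q by
        intro b _ x
        refine ⟨h b x, fun hx => ?_⟩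
        have := h b⁻¹ _ hx
        rwa [MulAut.inv_apply_self] at this
      intro b x hx
      have hbJ : ∀ y : P, (y : Ω) ∈ J → ((b y : P) : Ω) ∈ J := by
        intro y hy
        have hr : (P.subtype.comp b.toMonoidHom).range = P := by
          ext z
          exact ⟨fun ⟨w, hw⟩ => hw ▸ (b w).2, fun hz => ⟨b⁻¹ ⟨z, hz⟩, by simp⟩⟩
        have h := (elemJoin_map (p := p) (φ := P.subtype.comp b.toMonoidHom)
          (P.subtype_injective.comp b.injective)).2
        rw [hr, ← hJ] at h
        rw [h]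
        exact ⟨y, hy, rfl⟩
      refine hom_mem_of_sup (f := (P.subtype.comp b.toMonoidHom).comp (Subgroup.inclusion hQP))
        (fun z hz => Subgroup.mem_sup_left (hbJ _ hz)) (fun z hz => Subgroup.mem_sup_right ?_) ⟨(x : Ω), hx⟩
      refine mem_centralizerIn.2 ⟨hPT (b _).2, fun w hw => ?_⟩
      have hbJ' : ((b⁻¹ ⟨w, hJP hw⟩ : P) : Ω) ∈ J := by
        have hsurj : (J.subgroupOf P).map b.toMonoidHom = J.subgroupOf P := by
          refine Subgroup.eq_of_le_of_card_ge ?_ ?_
          · rintro _ ⟨y, hy, rfl⟩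
            exact hbJ y hy
          · rw [Subgroup.card_map_of_injective b.injective]
        obtain ⟨y, hy, hyw⟩ := hsurj.ge (show (⟨w, hJP hw⟩ : P) ∈ J.subgroupOf P from hw)
        rw [← hyw, MulEquiv.coe_toMonoidHom, MulAut.inv_apply_self]
        exact hy
      have h1 : Subgroup.inclusion hQP z * b⁻¹ ⟨w, hJP hw⟩ = b⁻¹ ⟨w, hJP hw⟩ * Subgroup.inclusion hQP z :=
        Subtype.ext ((mem_centralizerIn.1 hz).2 _ hbJ')
      have h2 := congrArg (fun v : P => ((b v : P) : Ω)) h1
      simp only [map_mul, MulAut.apply_inv_self, Subgroup.coe_mul] at h2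
      exact h2
    have hZQ : centralizerIn T Q ≤ Q := (centralizerIn_anti le_sup_left).trans le_sup_right
    have hZP : centralizerIn T P ≤ P := hPc.2 P (isConj_refl E hPT)
    -- the generation
    obtain ⟨hfcE, -, R, hR⟩ := isFullyAutomized_and_fc_of_fn hTp hEs hess.2.1
    let H : Subgroup (E.autGroup P) := (pElemAut E p P).subgroupOf (E.autGroup P)
    haveI : H.Normal := ⟨fun x hx g => by
      have hsub : (pElemAut E p P).map (MulAut.conj (g : MulAut P)).toMonoidHom ≤ pElemAut E p P := by
        rw [pElemAut, MonoidHom.map_closure, Subgroup.closure_le]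
        rintro _ ⟨a, ⟨ha, k, hk⟩, rfl⟩
        exact Subgroup.subset_closure ⟨mul_mem (mul_mem g.2 ha) (inv_mem g.2), k,
          by rw [← hk]; exact MulEquiv.orderOf_eq (MulAut.conj (g : MulAut P)) a⟩
      exact hsub ⟨_, hx, rfl⟩⟩
    have hRH : (R : Subgroup (E.autGroup P)) ≤ H := by
      intro x hx
      obtain ⟨k, hk⟩ := IsPGroup.iff_orderOf.1 R.2 ⟨x, hx⟩
      exact Subgroup.subset_closure ⟨x.2, k, by
        rw [Subgroup.orderOf_mk] at hk
        rwa [Subgroup.coe_subtype, Subgroup.orderOf_coe]⟩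
    let RH : Sylow p H := R.subtype hRH
    have hmap : (RH : Subgroup H).map H.subtype = (R : Subgroup (E.autGroup P)) := by
      rw [Sylow.coe_subtype]
      exact Subgroup.map_subgroupOf_eq_of_le hRH
    have hall : (⊤ : Subgroup (E.autGroup P)) ≤ (D.autGroup P).subgroupOf (E.autGroup P) := by
      rw [← closure_pPrime_union_normalizer H RH, Subgroup.closure_le]
      rintro x (⟨hxH, hxc⟩ | hxN)
      · refine toD x x.2 fun _ => ?_
        set aQ := resAutHom hQP (E.autGroup P) hB x with haQ
        have haQH : aQ ∈ pElemAut E p Q := pElemAut_restrict hQP hPT hB x hxH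
        obtain ⟨θ, hθ, hθd⟩ := exists_lift_fix hcC hZQ hC (pElemAut_le Q haQH) (hQfix (pElemAut_le Q haQH))
          (hT := hT) (hP := hQT) (hcS := hcS)
        obtain ⟨β₀, hβ₀⟩ := exists_lift hS hE hPc hcC x.2 (hT := hT) (hP := hPT) (hcS := hcS)
        haveI := finite_of_le (sup_le (hPT.trans hTS) (Subgroup.zpowers_le.2 hcS))
        haveI : Finite (MulAut ↥(P ⊔ Subgroup.zpowers c)) := Finite.of_injective
          (fun f => (f : ↥(P ⊔ Subgroup.zpowers c) → ↥(P ⊔ Subgroup.zpowers c))) DFunLike.coe_injective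
        obtain ⟨u, v, hv, huv⟩ := Nat.exists_eq_pow_mul_and_not_dvd (orderOf_pos β₀).ne' p
          (Fact.out : p.Prime).ne_one
        have hvp : v.Coprime p := ((Fact.out : p.Prime).coprime_iff_not_dvd.2 hv).symm
        obtain ⟨k', hk'⟩ := exists_pow_eq_self_of_coprime (x := x) (n := p ^ u)
          ((Nat.Coprime.pow_right u hxc).symm)
        set β := β₀ ^ (p ^ u * k') with hβ
        have hres : liftRes β = (x : MulAut P) := by
          rw [hβ, map_pow, hβ₀, pow_mul, ← Subgroup.coe_pow, ← Subgroup.coe_pow, hk']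
        have hβv : β ^ v = 1 := by
          rw [hβ, ← pow_mul, mul_right_comm, ← huv, pow_mul, pow_orderOf_eq_one, one_pow]
        have hxv : x ^ v = 1 := Subtype.ext (by
          rw [Subgroup.coe_pow, ← hres, ← map_pow, hβv, map_one]; rfl)
        -- restrict the lift to `Q`
        have hWle : Q ⊔ Subgroup.zpowers c ≤ P ⊔ Subgroup.zpowers c := sup_le_sup_right hQP _
        have hWPS : P ⊔ Subgroup.zpowers c ≤ S := sup_le (hPT.trans hTS) (Subgroup.zpowers_le.2 hcS)
        have hdQ : (((liftDisp hcC hZP β : Subgroup.center P) : P) : Ω) ∈ Q := by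
          set d := ((liftDisp hcC hZP β : Subgroup.center P) : P)
          exact hZQ (mem_centralizerIn.2 ⟨hPT d.2, fun y hy => (congrArg Subtype.val
            (Subgroup.mem_center_iff.1 (liftDisp hcC hZP β).2 ⟨y, hQP hy⟩)).symm⟩)
        set βW : MulAut ↥(P ⊔ Subgroup.zpowers c) := (β : MulAut ↥(P ⊔ Subgroup.zpowers c)) with hβW
        set cW : ↥(P ⊔ Subgroup.zpowers c) := ⟨c, Subgroup.mem_sup_right (Subgroup.mem_zpowers c)⟩
        have hcW : ((βW cW : _) : Ω) ∈ Q ⊔ Subgroup.zpowers c := by
          have h2 := mul_mem (Subgroup.mem_sup_right (S := Q) (Subgroup.mem_zpowers c))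
            (Subgroup.mem_sup_left (T := Subgroup.zpowers c) hdQ)
          rwa [coe_liftDisp, mul_inv_cancel_left] at h2
        have hv' : ∀ y : ↥(Q ⊔ Subgroup.zpowers c),
            ((βW (Subgroup.inclusion hWle y) : _) : Ω) ∈ Q ⊔ Subgroup.zpowers c := by
          refine hom_mem_of_sup (f := ((P ⊔ Subgroup.zpowers c).subtype.comp
            βW.toMonoidHom).comp (Subgroup.inclusion hWle))
            (fun y hy => Subgroup.mem_sup_left ?_) fun y hy => ?_
          · have h := (hB x x.2 ⟨(y : Ω), hQP hy⟩).1 hy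
            rwa [← hres, coe_liftRes] at h
          · obtain ⟨n, hn⟩ := hy
            show ((βW (Subgroup.inclusion hWle y) : _) : Ω) ∈ _
            rw [show Subgroup.inclusion hWle y = cW ^ n from
              Subtype.ext (by rw [Subgroup.coe_zpow]; exact hn.symm), map_zpow, Subgroup.coe_zpow]
            exact zpow_mem hcW n
        obtain ⟨γW, hγW, hγWe⟩ := exists_aut_restrict hWPS β.2.1.1 hWle hv'
        have hγQ : ∀ y : Q, ((γW (Subgroup.inclusion le_sup_left y) : _) : Ω) = ((aQ y : Q) : Ω) := fun y =>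
          (hγWe _).trans ((congrArg (fun e : MulAut P => ((e ⟨(y : Ω), hQP y.2⟩ : P) : Ω)) hres) :)
        have hstab : ∀ y : ↥(Q ⊔ Subgroup.zpowers c), (y : Ω) ∈ Q ↔ ((γW y : _) : Ω) ∈ Q := by
          intro y
          refine ⟨fun hy => ?_, fun hy => ?_⟩
          · rw [show y = Subgroup.inclusion le_sup_left ⟨(y : Ω), hy⟩ from rfl, hγQ]
            exact (aQ _).2
          · have h : γW (Subgroup.inclusion le_sup_left (aQ⁻¹ ⟨_, hy⟩)) = γW y :=
              Subtype.ext ((hγQ _).trans (by rw [MulAut.apply_inv_self]))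
            rw [← γW.injective h]
            exact (aQ⁻¹ ⟨_, hy⟩).2
        let γ : liftGroup F E hT Q hQT c hcS := ⟨γW, ⟨hγW, hstab⟩, ⟨aQ, pElemAut_le Q haQH, hγQ⟩,
          by rw [hγWe]; exact β.2.2.2⟩
        have hγres : liftRes γ = aQ := MulEquiv.ext fun y => Subtype.ext (hγQ y)
        have hγv : γ ^ v = 1 := Subtype.ext (aut_pow_eq_one hWle hγWe (congrArg Subtype.val hβv))
        have hθv : θ ^ v = 1 := by
          refine lift_ext hcC hZQ ?_ ?_
          · rw [map_pow, hθ, haQ, ← map_pow, hxv, map_one, map_one]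
          · rw [liftDisp_one]
            have hpow : ∀ n : ℕ, liftDisp hcC hZQ (θ ^ n) = 1 := by
              intro n
              induction n with
              | zero => rw [pow_zero, liftDisp_one]
              | succ n ih => rw [pow_succ', liftDisp_mul, ih, map_one, mul_one, hθd]
            exact hpow v
        have heq : γ = θ := lift_rigid hS hE hQc hcC (hγres.trans hθ.symm) (hγres ▸ haQH) hvp hγv hθv
        rw [← hres]
        refine liftRes_mem_centralizer hcC hZP hEi.1 hC β (Subtype.ext (Subtype.ext ?_))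
        have h1 : (((liftDisp hcC hZQ γ : Subgroup.center Q) : Q) : Ω) = 1 := by
          rw [heq, hθd]; rfl
        rw [coe_liftDisp] at h1 ⊢
        exact (congrArg (fun w => c⁻¹ * w) (hγWe _).symm).trans h1
      · show (x : MulAut P) ∈ D.autGroup P
        obtain ⟨g, ⟨hgT, hgN⟩, hgP⟩ := SetLike.exists_of_lt
          (lt_normalizerIn hTp (lt_of_le_of_ne hPT hPT'))
        refine extensibleAut_le_of_bigger hPT hbig
          (mem_extensibleAut_of_induced (isReceptive_of_fc hTp hEs hfcE) x.2 hgT hgN hgP ?_)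
        rw [hmap] at hxN
        have hg : (⟨conjAut P hgN, autInducedBy_le_autGroup hPT (conjAut_mem_autInducedBy hgN hgT)⟩ :
            E.autGroup P) ∈ (R : Subgroup (E.autGroup P)) := by
          rw [hR]
          exact conjAut_mem_autInducedBy hgN hgT
        have h := (Subgroup.mem_normalizer_iff.1 hxN _).1 hg
        rw [hR] at h
        exact h
    exact fun a ha => hall (Subgroup.mem_top (⟨a, ha⟩ : E.autGroup P))

/-- For `p` odd, `C_S(T) ≤ Z(T) C_S(E)`. -/
theorem centralizerIn_le_center_sup_systemCentralizer [Finite S] [Fact p.Prime] (hp : p ≠ 2)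
    (hS : IsPGroup p S) (hE : E.IsNormalIn F p) :
    centralizerIn S T ≤
      (T ⊓ Subgroup.centralizer (T : Set Ω)) ⊔ systemCentralizer F E p hE.1.2.2.2.1 := by
  intro c hc
  have hEi := hE.1.2.2
  have hT : F.StronglyClosed T := hEi.2.1
  set Q := elemJoin p T ⊔ centralizerIn T (elemJoin p T)
  obtain ⟨z, hz, hfix⟩ := exists_central_fix hS hE (sup_le elemJoin_le (centralizerIn_le _))
    (weaklyClosed_elemJoin_sup hT) (isCentric_elemJoin_sup hEi) hc
  have hc' : c * z ∈ centralizerIn S T := mul_mem hc (mem_centralizerIn.2 ⟨hT.1 hz.1, fun y hy =>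
    (Subgroup.mem_centralizer_iff.1 hz.2 y hy).symm⟩)
  have hX : Subgroup.zpowers (c * z) ≤ centralizerIn S T := Subgroup.zpowers_le.2 hc'
  obtain ⟨C, hC⟩ := exists_centralizerSystem F (Q := Subgroup.zpowers (c * z))
    (hX.trans (centralizerIn_le T))
  obtain ⟨h1, h2⟩ := hfix C hC
  have hall := mem_centralizer_of_adjusted hp hS hE hc' hC h1 h2
  have hsys : CentralizesSystem F E (Subgroup.zpowers (c * z)) :=
    ⟨hX, fun P φ hφ => hC P ▸ hall P φ hφ⟩
  have hY := le_systemCentralizer hS hE.1.2.1 hEi hsys (Subgroup.mem_zpowers (c * z))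
  rw [show c = c * z * z⁻¹ from (mul_inv_cancel_right c z).symm]
  exact mul_mem (Subgroup.mem_sup_right hY) (Subgroup.mem_sup_left (inv_mem hz))

end Cfsg.Lib.FusionSys
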