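import Cfsg.Agent.Lib.FusionSys.ControlledChain
import Cfsg.Agent.Lib.FusionSys.NormalSmallCentralizer

/-!
# The residual limit of a normal subsystem with `p`-solvable automizer quotient

If `E` is normal in `F` with its centralizer in `S` inside `T` and `Aut_F(T)/Aut_E(T)` is `p`-solvable, then `F` and
`E` have the same residual limit.
-/

set_option autoImplicit false
set_option linter.style.haveILetI false

namespace Cfsg.Lib.FusionSys

open Cfsg Cfsg.FusionSystem

variable {Ω : Type*} [Group Ω] {S T U : Subgroup Ω} {F : FusionSystem S} {E : FusionSystem T} {p : ℕ}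

/-- Inducing an element of `Aut_E(T)` means lying in `T C_S(T)`. -/
theorem inducingIn_base_eq [Finite S] [Fact p.Prime] (hS : IsPGroup p S) (hEi : E.IsInvariantIn F)
    (hEs : E.IsSaturated p) :
    inducingIn F hEi.2.1 (E.autGroup T) = T ⊔ centralizerIn S T := by
  have hT := hEi.2.1
  have hTS := hT.1
  haveI := finite_of_le hTS
  haveI := finite_mulAut_of_le (S := S) hTS
  refine le_antisymm (fun u hu => ?_) (sup_le (le_inducingIn hEi le_rfl) fun c hc => ⟨hc.1, fun hn => ?_⟩)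
  · have hun := stronglyClosed_le_normalizer hT hu.1
    obtain ⟨-, R, hR⟩ := (isFullyAutomized_and_fc_of_fn (hS.to_le hTS) hEs (isFullyNormalized_top E)).2
    let X : Subgroup (E.autGroup T) := (autInducedBy S T).subgroupOf (E.autGroup T)
    have hRX : (R : Subgroup (E.autGroup T)) ≤ X := by
      intro a ha
      rw [hR, Subgroup.mem_subgroupOf] at ha
      obtain ⟨t, ht, hte⟩ := mem_autInducedBy.1 ha
      exact mem_autInducedBy.2 ⟨t, hTS ht, hte⟩
    have hX : X = R := R.3 ((isPGroup_autInducedBy hS).comap_subtype) hRX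
    have h : (⟨conjAut T hun, hu.2 hun⟩ : E.autGroup T) ∈ (R : Subgroup (E.autGroup T)) :=
      hX ▸ (conjAut_mem_autInducedBy hun hu.1 : (⟨conjAut T hun, hu.2 hun⟩ : E.autGroup T) ∈ X)
    rw [hR, Subgroup.mem_subgroupOf] at h
    obtain ⟨t, ht, hte⟩ := mem_autInducedBy.1 h
    have hc : t⁻¹ * u ∈ centralizerIn S T := by
      refine mem_centralizerIn.2 ⟨S.mul_mem (S.inv_mem (hTS ht)) hu.1, fun y hy => commute_of_conj_eq ?_⟩
      have h1 := hte ⟨y, hy⟩
      rw [coe_conjAut] at h1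
      rw [show t⁻¹ * u * y * (t⁻¹ * u)⁻¹ = t⁻¹ * (u * y * u⁻¹) * t by group, h1]
      group
    have h2 := Subgroup.mul_mem (T ⊔ centralizerIn S T) (Subgroup.mem_sup_left ht) (Subgroup.mem_sup_right hc)
    rwa [mul_inv_cancel_left] at h2
  · rw [show conjAut T hn = 1 from MulEquiv.ext fun y => Subtype.ext
      (conj_eq_of_commute ((mem_centralizerIn.1 hc).2 y y.2))]
    exact one_mem _

/-- When the centralizer of `E` lies in `T`, the hyperfocal subgroup of the last stage lies in `T`. -/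
theorem hyperfocal_last_le [Finite S] [Fact p.Prime] (hS : IsPGroup p S) (hE : E.IsNormalIn F p)
    (hY : systemCentralizer F E p hE.1.2.2.2.1 ≤ T) {D : FusionSystem U}
    (hD : IsStage F E p hE.1.2.2.2.1 (E.autGroup T) D) : D.hyperfocalSubgroup p ≤ T := by
  obtain ⟨⟨hEs, hF, hEi⟩, hEx⟩ := hE
  have hT := hEi.2.1
  have hTS := hT.1
  have hUeq := hD.base_eq.trans (inducingIn_base_eq hS hEi hEs)
  have hUS : U ≤ S := hD.base_eq.le.trans (inducingIn_le _ _)
  haveI := finite_of_le hUS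
  refine hyperfocal_le_of_coprime fun P hP α hα _ x => ?_
  obtain ⟨a, ha, -, ψ, hψ, hψe, hψT, -⟩ := hD.joint P _ ((mem_autGroup hP).1 hα)
  replace hEx := hEx a ha
  set W := T ⊔ centralizerIn S T with hW
  obtain ⟨β, hβ, hβe, hβc⟩ := hEx
  obtain ⟨t, ht, c, hc, hx⟩ := exists_mul_of_sup hT le_rfl (hUeq.le (hP x.2))
  have hcP : c ∈ P ⊔ T := by
    have h := Subgroup.mul_mem (P ⊔ T) (Subgroup.mem_sup_right (T.inv_mem ht)) (Subgroup.mem_sup_left x.2)
    rwa [hx, inv_mul_cancel_left] at h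
  have hWS : W ≤ S := sup_le hTS (centralizerIn_le T)
  have hle : T ⊔ Subgroup.zpowers c ≤ P ⊔ T := sup_le le_sup_right (Subgroup.zpowers_le.2 hcP)
  have hψ' := restrict_mem hψ hle
  have hv : ∀ y, (ψ.comp (Subgroup.inclusion hle)) y ∈ W := by
    refine hom_mem_of_sup (fun y hy => ?_) fun y hy => ?_
    · exact Subgroup.mem_sup_left (stronglyClosed_apply_mem hT hψ' hy)
    · refine Subgroup.mem_sup_right (mem_centralizerIn.2 ⟨hom_mem hψ' _, fun s hs => ?_⟩)
      have h1 := hψT (a⁻¹ ⟨s, hs⟩)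
      rw [MulAut.apply_inv_self] at h1
      change _ = s at h1
      rw [← h1]
      show ψ _ * ψ _ = ψ _ * ψ _
      rw [← map_mul, ← map_mul]
      refine congrArg ψ (Subtype.ext ?_)
      obtain ⟨k, hk⟩ := hy
      show (y : Ω) * ((a⁻¹ ⟨s, hs⟩ : T) : Ω) = ((a⁻¹ ⟨s, hs⟩ : T) : Ω) * y
      rw [← hk]
      exact (Commute.zpow_left ((mem_centralizerIn.1 hc).2 _ (a⁻¹ ⟨s, hs⟩).2) k).eq
  have hβ' := (mem_autGroup hWS).1 (inv_mem hβ)
  have hξ := F.comp_mem hψ' hβ' hv
  have hfix : ∀ s : ↥(T ⊔ Subgroup.zpowers c), (s : Ω) ∈ T →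
      ((W.subtype.comp (β⁻¹ : MulAut W).toMonoidHom).comp
        ((ψ.comp (Subgroup.inclusion hle)).codRestrict W hv)) s = s := by
    intro s hs
    have h1 : ((ψ.comp (Subgroup.inclusion hle)).codRestrict W hv) s =
        β (Subgroup.inclusion le_sup_left ⟨(s : Ω), hs⟩) :=
      Subtype.ext ((hψT ⟨(s : Ω), hs⟩).trans (hβe _).symm)
    show (((β⁻¹ : MulAut W) (((ψ.comp (Subgroup.inclusion hle)).codRestrict W hv) s) : W) : Ω) = _
    rw [h1, MulAut.inv_apply_self]
    rfl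
  have hd := hY (inv_mul_map_mem_systemCentralizer (E := E) hS hF hT hc hξ hfix)
  set c₁ : ↥(T ⊔ Subgroup.zpowers c) := ⟨c, Subgroup.mem_sup_right (Subgroup.mem_zpowers c)⟩
  set d : W := (β⁻¹ : MulAut W) (((ψ.comp (Subgroup.inclusion hle)).codRestrict W hv) c₁) with hdd
  change c⁻¹ * (d : Ω) ∈ T at hd
  have hdC : (d : Ω) ∈ centralizerIn S T := by
    refine mem_centralizerIn.2 ⟨hWS d.2, fun s hs => ?_⟩
    have h1 := hfix ⟨s, Subgroup.mem_sup_left hs⟩ hs
    have hcomm : c₁ * ⟨s, Subgroup.mem_sup_left hs⟩ = ⟨s, Subgroup.mem_sup_left hs⟩ * c₁ :=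
      Subtype.ext ((mem_centralizerIn.1 hc).2 s hs)
    have h2 := congrArg ((W.subtype.comp (β⁻¹ : MulAut W).toMonoidHom).comp
      ((ψ.comp (Subgroup.inclusion hle)).codRestrict W hv)) hcomm
    rw [map_mul, map_mul, h1] at h2
    exact h2
  have hβd : ((β d : W) : Ω) = ψ ⟨c, hcP⟩ := by
    rw [hdd, MulAut.apply_inv_self]
    rfl
  have hψc : c⁻¹ * ψ ⟨c, hcP⟩ ∈ T := by
    have h := T.mul_mem hd (hβc d hdC).1
    rwa [hβd, mul_assoc, mul_inv_cancel_left] at h
  set w : Ω := ψ (Subgroup.inclusion le_sup_right ⟨t, ht⟩) with hw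
  have hwT : w ∈ T := by rw [hw, hψT]; exact (a _).2
  have hsplit : ψ (Subgroup.inclusion le_sup_left x) = w * ψ ⟨c, hcP⟩ := by
    rw [hw, ← map_mul]
    exact congrArg ψ (Subtype.ext hx)
  have hcS : c ∈ S := hc.1
  have hgoal : (x : Ω)⁻¹ * ψ (Subgroup.inclusion le_sup_left x) ∈ T := by
    rw [hsplit, hx, mul_inv_rev, show c⁻¹ * t⁻¹ * (w * ψ ⟨c, hcP⟩) =
      c⁻¹ * (t⁻¹ * w) * c⁻¹⁻¹ * (c⁻¹ * ψ ⟨c, hcP⟩) by group]
    exact T.mul_mem (stronglyClosed_conj_mem hT (S.inv_mem hcS) (T.mul_mem (T.inv_mem ht) hwT)) hψc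
  have h := T.mul_mem hgoal (T.inv_mem (hψe x))
  rw [mul_inv_rev, inv_inv, mul_assoc, mul_inv_cancel_left] at h
  exact h

/-- The residual limits agree. -/
theorem limit_eq_of_pSolvable [Finite S] [Fact p.Prime] (hS : IsPGroup p S) (hF : F.IsSaturated p)
    (hE : E.IsNormalIn F p)
    (hCE : ∀ Y : Subgroup Ω, Y ≤ centralizerIn S T →
      (∀ C : FusionSystem (centralizerIn S Y), F.IsCentralizerSystem Y C → E.IsSubsystemOf C) → Y ≤ T)
    [hn : ((E.autGroup T).subgroupOf (F.autGroup T)).Normal]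
    (hsolv : IsPSolvable p (↥(F.autGroup T) ⧸ (E.autGroup T).subgroupOf (F.autGroup T)))
    {U V : Subgroup Ω} (Finf : FusionSystem U) (hFinf : Finf.IsResidualLimitOf F p) (Einf : FusionSystem V)
    (hEinf : Einf.IsResidualLimitOf E p) (P : Subgroup Ω) : Finf.Hom P = Einf.Hom P := by
  have hEi := hE.1.2.2
  have hEs := hE.1.1
  have hT := hEi.2.1
  have hY : systemCentralizer F E p hT ≤ T := by
    refine hCE _ systemCentralizer_le fun C hC P φ hφ => ?_
    rw [hC P]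
    exact (centralizesSystem_systemCentralizer hS hE).2 P hφ
  have hlast := exists_last_stage hS hF hEi hEs hsolv
  set W := inducingIn F hT (E.autGroup T) with hW
  obtain ⟨D, hD, -, hlim⟩ := hlast
  have hhyp := hyperfocal_last_le hS hE hY hD
  have hWS : W ≤ S := inducingIn_le _ _
  haveI := finite_of_le hWS
  haveI := finite_of_le hT.1
  have hWp := hS.to_le hWS
  have hTW : T ≤ W := le_inducingIn hEi le_rfl
  obtain ⟨D₂, ⟨hD₂, hD₂i⟩, -⟩ := existsUnique_pPower hWp hD.sat T hTW hhyp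
  have hED : E.IsSubsystemOf D₂ := subsystem_le_of_pPower hWp hEs hD.contains le_rfl hD₂i
  have heq : D₂ = E := by
    refine fusionSystem_le_antisymm (fun Q φ hφ => ?_) hED
    obtain ⟨a, ha, hj⟩ := hD.joint Q φ (hD₂i.1 Q hφ)
    obtain ⟨-, -, -, -, -, φ₀, hφ₀, he⟩ := hj
    have hQT : Q ≤ Q ⊓ T := le_inf le_rfl (hom_le hφ)
    exact comp_mem' (restrict_mem hφ₀ hQT) ((mem_autGroup le_rfl).1 ha) (fun y => hom_mem hφ₀ _)
      fun y => (he (Subgroup.inclusion hQT y) (hom_mem hφ₀ _))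
  subst heq
  have hTn : (T.subgroupOf W).Normal :=
    Subgroup.normal_subgroupOf_of_le_normalizer (hWS.trans (stronglyClosed_le_normalizer hT))
  obtain ⟨X, M, hM⟩ := exists_residualLimit _ hWp le_rfl D hD.sat
  exact (hlim M Finf hM hFinf P).trans
    (limit_of_pPower hWp hD.sat (stronglyClosed_of_hyperfocal_le hWp hD.sat hTn hhyp hTW) hD₂ hD₂i hEinf hM P)

end Cfsg.Lib.FusionSys
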