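import Cfsg.Agent.Lib.FusionSys.CommonAxis
import Cfsg.Agent.Lib.FusionSys.RankTwoEssential
import Cfsg.Agent.Lib.PGroup.Basic
import Cfsg.Agent.Lib.Core.Basic
import Cfsg.Agent.Lib.Fusion.Alperin
import Cfsg.Agent.Lib.PGroup.AbelianIndexP

/-!
# Elementary abelian essential subgroups of order `p ^ 3`

The normalizer of such a subgroup that contains a central element has order at most `p ^ 4`: a
larger group of unitriangular matrices contains transvections with a common centre, or with a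
common axis, or is regular with a single group of transvections.
-/

set_option autoImplicit false
set_option linter.unusedSectionVars false

namespace Cfsg.Lib.FusionSys.CubePlane

open Cfsg Cfsg.FusionSystem

variable {p : ℕ} [hp : Fact p.Prime]

section Pure

variable {G : Type*} [Group G]

theorem mem_line {x y : G} (hx : x ^ p = 1) (hy : y ∈ Subgroup.zpowers x) (hy1 : y ≠ 1) :
    x ∈ Subgroup.zpowers y := by
  obtain ⟨i, rfl⟩ := hy
  have hx1 : x ≠ 1 := fun h => hy1 (by rw [h]; exact one_zpow i)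
  have hi : ¬ (p : ℤ) ∣ i := fun hd => hy1 (by
    rw [← orderOf_eq_prime hx hx1] at hd
    exact orderOf_dvd_iff_zpow_eq_one.1 hd)
  obtain ⟨a, b, hab⟩ := ((Nat.prime_iff_prime_int.1 hp.out).coprime_iff_not_dvd.2 hi)
  refine ⟨b, ?_⟩
  show (x ^ i) ^ b = x
  rw [← zpow_mul, show i * b = 1 + (p : ℤ) * (-a) by linarith, zpow_add, zpow_one, zpow_mul, zpow_natCast,
    hx, one_zpow, mul_one]

/-- A `p`-subgroup of automorphisms whose only transvections form one group of order `p` and
whose other elements fix only one line is no Sylow subgroup, unless those transvections are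
normal. -/
theorem regular_false [Finite G] (hab : ∀ a b : G, a * b = b * a) {A : Subgroup (MulAut G)}
    (R : Sylow p A) {z : G} (hz : z ^ p = 1) (hz1 : z ≠ 1) {W : Subgroup G} (hzW : z ∈ W)
    (hW : ∃ w ∈ W, w ∉ Subgroup.zpowers z) (hidx : ∀ v, v ∉ W → W ⊔ Subgroup.zpowers v = ⊤)
    {t : A} (htR : t ∈ (R : Subgroup A)) (ht1 : t ≠ 1) (htp : t ^ p = 1)
    (htW : ∀ w ∈ W, (t : MulAut G) w = w)
    (htd : ∀ v, ∃ i : ℤ, (t : MulAut G) v = v * z ^ i)
    (hstab : ∀ r : A, r ∈ (R : Subgroup A) → ∀ v, v⁻¹ * (r : MulAut G) v ∈ W)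
    (hreg : ∀ r : A, r ∈ (R : Subgroup A) → r ∉ Subgroup.zpowers t → ∀ v, (r : MulAut G) v = v →
      v ∈ Subgroup.zpowers z)
    (hR : ∃ r ∈ (R : Subgroup A), r ∉ Subgroup.zpowers t)
    (hnn : ∃ α : A, α * t * α⁻¹ ∉ Subgroup.zpowers t) : False := by
  classical
  haveI : Finite A := inferInstance
  have hinv : ∀ (α : A) (v : G), ((α⁻¹ : A) : MulAut G) ((α : MulAut G) v) = v := fun α v => by
    rw [← MulAut.mul_apply, ← Subgroup.coe_mul, inv_mul_cancel, Subgroup.coe_one, MulAut.one_apply]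
  have hinv' : ∀ (α : A) (v : G), (α : MulAut G) (((α⁻¹ : A) : MulAut G) v) = v := fun α v => by
    rw [← MulAut.mul_apply, ← Subgroup.coe_mul, mul_inv_cancel, Subgroup.coe_one, MulAut.one_apply]
  set c : A → A := fun α => α * t * α⁻¹ with hc
  have hcapp : ∀ α v, (c α : MulAut G) v = (α : MulAut G) ((t : MulAut G) (((α⁻¹ : A) : MulAut G) v)) :=
    fun α v => rfl
  have hcd : ∀ α v, ∃ i : ℤ, (c α : MulAut G) v = v * (α : MulAut G) z ^ i := by
    intro α v
    obtain ⟨i, hi⟩ := htd (((α⁻¹ : A) : MulAut G) v)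
    exact ⟨i, by rw [hcapp, hi, map_mul, map_zpow, hinv']⟩
  have hmul : ∀ (a b : A) (v : G), ((a * b : A) : MulAut G) v = (a : MulAut G) ((b : MulAut G) v) :=
    fun a b v => rfl
  have hcz : ∀ α, (c α : MulAut G) ((α : MulAut G) z) = (α : MulAut G) z := fun α => by
    rw [hcapp, hinv, htW z hzW]
  have htfix : ∀ v, (t : MulAut G) v = v → v ∈ W := by
    intro v hv
    by_contra hvW
    refine ht1 (Subtype.ext (MulEquiv.ext fun x => ?_))
    have hle : W ⊔ Subgroup.zpowers v ≤ (t : MulAut G).toMonoidHom.eqLocus (MonoidHom.id G) :=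
      sup_le (fun w hw => htW w hw) (Subgroup.zpowers_le.2 hv)
    exact hle ((hidx v hvW).symm ▸ Subgroup.mem_top x)
  -- commuting conjugates lie in one group
  have hsame : ∀ α β : A, c α * c β = c β * c α →
      c β ∈ Subgroup.zpowers (c α) := by
    intro α β hcomm
    have hcl : IsPGroup p (Subgroup.closure ({c α, c β} : Set A)) := by
      have hmem : ∀ a ∈ ({c α, c β} : Set A), ∀ b ∈ ({c α, c β} : Set A), a * b = b * a := by
        rintro _ (rfl | rfl) _ (rfl | rfl)
        exacts [rfl, hcomm, hcomm.symm, rfl]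
      haveI := Subgroup.isMulCommutative_closure hmem
      rintro ⟨x, hx⟩
      refine ⟨1, Subtype.ext ?_⟩
      rw [SubgroupClass.coe_pow, pow_one, Subgroup.coe_one]
      show x ^ p = 1
      refine Subgroup.closure_induction (p := fun x _ => x ^ p = 1) ?_ (one_pow p) ?_ ?_ hx
      · rintro _ (rfl | rfl) <;> simp [hc, conj_pow, htp]
      · intro a b ha hb h1 h2
        have hab' : Commute a b := congrArg Subtype.val (IsMulCommutative.is_comm.comm
          (⟨a, ha⟩ : Subgroup.closure ({c α, c β} : Set A)) ⟨b, hb⟩)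
        rw [hab'.mul_pow, h1, h2, mul_one]
      · intro a _ h1
        rw [inv_pow, h1, inv_one]
    obtain ⟨Q, hQ⟩ := hcl.exists_le_sylow
    obtain ⟨δ, hδ⟩ := MulAction.exists_smul_eq A Q R
    have hin : ∀ γ : A, c γ ∈ Subgroup.closure ({c α, c β} : Set A) → c (δ * γ) ∈ Subgroup.zpowers t := by
      intro γ hγ
      have hR' : c (δ * γ) ∈ (R : Subgroup A) := by
        have h1 : δ * c γ * δ⁻¹ ∈ ((δ • Q : Sylow p A) : Subgroup A) := by
          rw [Sylow.coe_subgroup_smul]
          exact Subgroup.smul_mem_pointwise_smul _ (MulAut.conj δ) _ (hQ hγ)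
        rw [hδ] at h1
        have h2 : c (δ * γ) = δ * c γ * δ⁻¹ := by simp only [hc]; group
        rwa [h2]
      by_contra hne
      obtain ⟨w, hwW, hwz⟩ := hW
      have hfix : ∀ v ∈ W, ((δ * γ : A) : MulAut G) v ∈ Subgroup.zpowers z := fun v hv =>
        hreg _ hR' hne _ (by rw [hcapp, hinv, htW v hv])
      set y := ((δ * γ : A) : MulAut G) z with hy
      have hy1 : y ≠ 1 := fun h => hz1 ((MulEquiv.map_eq_one_iff _).1 h)
      obtain ⟨i, hi⟩ := (Subgroup.zpowers_le.2 (mem_line hz (hfix z hzW) hy1) :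
        Subgroup.zpowers z ≤ Subgroup.zpowers y) (hfix w hwW)
      refine hwz ⟨i, ((δ * γ : A) : MulAut G).injective ?_⟩
      rw [map_zpow]
      exact hi
    have h1 := hin α (Subgroup.subset_closure (by simp))
    have h2 := hin β (Subgroup.subset_closure (by simp))
    have h3 : t ∈ Subgroup.zpowers (c (δ * α)) := by
      refine mem_line htp h1 fun h => ht1 ?_
      exact conj_eq_one_iff.1 h
    obtain ⟨i, hi⟩ := (Subgroup.zpowers_le.2 h3 : Subgroup.zpowers t ≤ _) h2
    refine ⟨i, ?_⟩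
    have e : ∀ γ, c γ = δ⁻¹ * c (δ * γ) * δ := fun γ => by simp only [hc]; group
    show c α ^ i = c β
    rw [e α, e β, ← show c (δ * α) ^ i = c (δ * β) from hi]
    simpa using (conj_zpow (a := δ⁻¹) (b := c (δ * α)) (i := i))
  have hline : ∀ α β : A, c β ∈ Subgroup.zpowers (c α) →
      (∀ v, (c α : MulAut G) v = v → (c β : MulAut G) v = v) ∧
      (β : MulAut G) z ∈ Subgroup.zpowers ((α : MulAut G) z) := by
    intro α β hmem
    have hfix : ∀ v, (c α : MulAut G) v = v → (c β : MulAut G) v = v := by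
      intro v hv
      have hle : Subgroup.zpowers (c α) ≤
          (MulAction.stabilizer (MulAut G) v).subgroupOf A := Subgroup.zpowers_le.2 hv
      exact hle hmem
    refine ⟨hfix, ?_⟩
    obtain ⟨v, hv⟩ : ∃ v, (c β : MulAut G) v ≠ v := by
      by_contra hall
      push Not at hall
      have h1 : c β = 1 := Subtype.ext (MulEquiv.ext hall)
      exact ht1 (conj_eq_one_iff.1 h1)
    obtain ⟨i, hi⟩ := hcd β v
    have hpw : ∀ x ∈ Subgroup.zpowers (c α), ∀ u, u⁻¹ * (x : MulAut G) u ∈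
        Subgroup.zpowers ((α : MulAut G) z) := by
      intro x hx u
      obtain ⟨k, rfl⟩ := (mem_powers_iff_mem_zpowers (x := c α)).2 hx
      clear hx
      induction k with
      | zero => simp
      | succ k ih =>
        obtain ⟨j, hj⟩ := ih
        have hj' : ((c α ^ k : A) : MulAut G) u = u * (α : MulAut G) z ^ j := by
          rw [show (α : MulAut G) z ^ j = _ from hj, mul_inv_cancel_left]
        obtain ⟨l, hl⟩ := hcd α u
        refine ⟨l + j, ?_⟩
        show (α : MulAut G) z ^ (l + j) = u⁻¹ * ((c α ^ (k + 1) : A) : MulAut G) u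
        rw [pow_succ', Subgroup.coe_mul, MulAut.mul_apply, hj', map_mul, map_zpow, hcz, hl, mul_assoc u,
          ← zpow_add, inv_mul_cancel_left]
    have h1 := hpw _ hmem v
    rw [hi, inv_mul_cancel_left] at h1
    have hne : (β : MulAut G) z ^ i ≠ 1 := fun h => hv (by rw [hi, h, mul_one])
    exact (Subgroup.zpowers_le.2 h1) (mem_line (by rw [← map_pow, hz, map_one]) ⟨i, rfl⟩ hne)
  have hcomm : ∀ α β : A, (c α : MulAut G) ((β : MulAut G) z) = (β : MulAut G) z →
      (c β : MulAut G) ((α : MulAut G) z) = (α : MulAut G) z → c α * c β = c β * c α := by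
    intro α β h1 h2
    refine Subtype.ext (MulEquiv.ext fun v => ?_)
    obtain ⟨i, hi⟩ := hcd α v
    obtain ⟨j, hj⟩ := hcd β v
    show (c α : MulAut G) ((c β : MulAut G) v) = (c β : MulAut G) ((c α : MulAut G) v)
    rw [hi, hj, map_mul, map_mul, map_zpow, map_zpow, h1, h2, hi, hj, mul_assoc, mul_assoc,
      hab ((α : MulAut G) z ^ i)]
  -- fixing the centre is symmetric
  have hsym₀ : ∀ α : A, (α : MulAut G) z ∈ W → (c α : MulAut G) z = z := by
    intro α hα
    have ht' : (t : MulAut G) ((α : MulAut G) z) = (α : MulAut G) z := htW _ hα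
    have h1 : c (t * α) * c α = c α * c (t * α) := by
      refine hcomm _ _ ?_ ?_
      · rw [hcapp]
        have e1 : (((t * α)⁻¹ : A) : MulAut G) ((α : MulAut G) z) = z := by
          conv_lhs => rw [← ht', ← MulAut.mul_apply, ← Subgroup.coe_mul]
          rw [mul_inv_rev, inv_mul_cancel_right, hinv]
        rw [e1, htW z hzW, hmul t α, ht']
      · rw [hmul t α, ht', hcz]
    by_contra hne
    obtain ⟨hfix, -⟩ := hline _ _ (hsame _ _ h1)
    have hWfix : ∀ v, (c α : MulAut G) v = v → (t : MulAut G) v = v := by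
      intro x hx
      obtain ⟨i, hi⟩ := htd x
      by_contra htx
      have htx1 : z ^ i ≠ 1 := fun h => htx (by rw [hi, h, mul_one])
      have h2 : (c α : MulAut G) ((t : MulAut G) x) = (t : MulAut G) x := by
        refine hfix _ ?_
        rw [hcapp]
        have e1 : (((t * α)⁻¹ : A) : MulAut G) ((t : MulAut G) x) = ((α⁻¹ : A) : MulAut G) x := by
          rw [mul_inv_rev, Subgroup.coe_mul, MulAut.mul_apply, hinv]
        rw [e1, Subgroup.coe_mul, MulAut.mul_apply]
        exact congrArg (t : MulAut G) hx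
      rw [hi, map_mul, hx, mul_right_inj] at h2
      obtain ⟨k, hk⟩ := mem_line hz (⟨i, rfl⟩ : z ^ i ∈ Subgroup.zpowers z) htx1
      refine hne ?_
      rw [← show (z ^ i) ^ k = z from hk, map_zpow, h2]
    -- the axis of `c α` is `W`
    refine hne ?_
    have hle : W.map ((α : MulAut G).toMonoidHom) ≤ W := by
      rintro _ ⟨w, hw, rfl⟩
      refine htfix _ (hWfix _ ?_)
      show (c α : MulAut G) ((α : MulAut G) w) = _
      rw [hcapp, hinv, htW w hw]
      rfl
    have heq : W.map ((α : MulAut G).toMonoidHom) = W :=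
      Subgroup.eq_of_le_of_card_ge hle (le_of_eq (Subgroup.card_map_of_injective (MulEquiv.injective _)).symm)
    obtain ⟨w, hw, hwz⟩ : z ∈ W.map ((α : MulAut G).toMonoidHom) := heq.symm ▸ hzW
    rw [show z = (α : MulAut G) w from hwz.symm, hcapp, hinv, htW w hw]
  have hsym : ∀ α β : A, (c α : MulAut G) ((β : MulAut G) z) = (β : MulAut G) z →
      (c β : MulAut G) ((α : MulAut G) z) = (α : MulAut G) z := by
    intro α β h
    rw [hcapp] at h
    have h1 : (t : MulAut G) (((α⁻¹ * β : A) : MulAut G) z) = ((α⁻¹ * β : A) : MulAut G) z := by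
      have := congrArg ((α⁻¹ : A) : MulAut G) h
      rwa [hinv] at this
    have h2 := hsym₀ _ (htfix _ h1)
    have e : c β = α * c (α⁻¹ * β) * α⁻¹ := by simp only [hc]; group
    rw [e, Subgroup.coe_mul, Subgroup.coe_mul, MulAut.mul_apply, MulAut.mul_apply, hinv, h2]
  obtain ⟨α, hα⟩ := hnn
  change c α ∉ _ at hα
  set c' := (α : MulAut G) z with hc'
  have hc1 : c (1 : A) = t := by simp [hc]
  have hc'W : c' ∉ W := by
    intro hcW
    have h1 : (c 1 : MulAut G) c' = c' := by rw [hc1]; exact htW _ hcW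
    have h2 := hsym₀ α hcW
    refine hα ?_
    have h3 := hsame 1 α (hcomm 1 α h1 (by rw [Subgroup.coe_one, MulAut.one_apply]; exact h2))
    rwa [hc1] at h3
  have hzmove : (c α : MulAut G) z ≠ z := by
    intro h
    have h1 := hsym α 1 (by rw [Subgroup.coe_one, MulAut.one_apply]; exact h)
    rw [hc1] at h1
    exact hc'W (htfix _ h1)
  obtain ⟨r, hrR, hrT⟩ := hR
  set w := c'⁻¹ * (r : MulAut G) c' with hw
  have hwW : w ∈ W := hstab r hrR c'
  have hrc : (r : MulAut G) c' = c' * w := (mul_inv_cancel_left _ _).symm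
  obtain ⟨i₀, hi₀⟩ := htd c'
  have hi₀1 : z ^ i₀ ≠ 1 := fun h => hc'W (htfix c' (by rw [hi₀, h, mul_one]))
  obtain ⟨j, hj⟩ := hcd α z
  obtain ⟨s, hs⟩ := hcd α w
  have hj1 : c' ^ j ≠ 1 := fun h => hzmove (by rw [hj, h, mul_one])
  have hc'p : c' ^ p = 1 := by rw [hc', ← map_pow, hz, map_one]
  obtain ⟨m, hm⟩ := (Subgroup.zpowers_le.2 (mem_line hc'p (⟨j, rfl⟩ : c' ^ j ∈ Subgroup.zpowers c') hj1))
    (⟨-s, rfl⟩ : c' ^ (-s) ∈ Subgroup.zpowers c')
  obtain ⟨k, hk⟩ := (Subgroup.zpowers_le.2 (mem_line hz (⟨i₀, rfl⟩ : z ^ i₀ ∈ Subgroup.zpowers z) hi₀1))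
    (⟨m, rfl⟩ : z ^ m ∈ Subgroup.zpowers z)
  set h' : A := t ^ k * r with hh'
  have htz : ∀ (x : A), x ∈ Subgroup.zpowers t → ∀ w ∈ W, (x : MulAut G) w = w := by
    intro x hx w hw
    have hle : Subgroup.zpowers t ≤ (MulAction.stabilizer (MulAut G) w).subgroupOf A :=
      Subgroup.zpowers_le.2 (htW w hw)
    exact hle hx
  have htk : ∀ k : ℤ, ((t ^ k : A) : MulAut G) c' = c' * (z ^ i₀) ^ k := by
    have hnat : ∀ n : ℕ, ((t ^ n : A) : MulAut G) c' = c' * (z ^ i₀) ^ n := by
      intro n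
      induction n with
      | zero => simp
      | succ n ih =>
        rw [pow_succ', Subgroup.coe_mul, MulAut.mul_apply, ih, map_mul, hi₀, map_pow, map_zpow, htW z hzW,
          pow_succ', mul_assoc]
    intro k
    obtain ⟨n, rfl | rfl⟩ := k.eq_nat_or_neg
    · rw [zpow_natCast, zpow_natCast, hnat]
    · rw [zpow_neg, zpow_natCast, zpow_neg, zpow_natCast]
      apply ((t ^ n : A) : MulAut G).injective
      rw [hinv', map_mul, map_inv, map_pow, map_zpow, htz _ (Subgroup.npow_mem_zpowers t n) z hzW, hnat,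
        mul_inv_cancel_right]
  have hh'c : (h' : MulAut G) c' = c' * (w * z ^ m) := by
    rw [hh', Subgroup.coe_mul, MulAut.mul_apply, hrc, map_mul, htk, htz _ ⟨k, rfl⟩ w hwW,
      show (z ^ i₀) ^ k = z ^ m from hk, mul_assoc, hab (z ^ m) w]
  have hfix : (c α : MulAut G) ((h' : MulAut G) c') = (h' : MulAut G) c' := by
    rw [hh'c, map_mul, map_mul, map_zpow, hcz, hs, hj]
    have hC : ∀ a b : G, Commute a b := hab
    rw [(hC z (c' ^ j)).mul_zpow, show (c' ^ j) ^ m = c' ^ (-s) from hm,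
      show w * c' ^ s * (z ^ m * c' ^ (-s)) = w * z ^ m by
        rw [hab (z ^ m), mul_assoc, ← mul_assoc (c' ^ s), ← zpow_add, add_neg_cancel, zpow_zero, one_mul]]
  have h1 := hsym α (h' * α) (by
    rw [hmul h' α, ← hc']
    exact hfix)
  have h2 := hsame α (h' * α) (hcomm α (h' * α)
    (by rw [hmul h' α, ← hc']; exact hfix) h1)
  obtain ⟨l, hl⟩ := (hline _ _ h2).2
  rw [hmul h' α, ← hc', hh'c] at hl
  have hl' : c' ^ (l - 1) = w * z ^ m := by
    rw [zpow_sub, zpow_one, show c' ^ l = c' * (w * z ^ m) from hl, hab, inv_mul_cancel_left]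
  have hwz : w * z ^ m = 1 := by
    by_contra hne
    exact hc'W ((Subgroup.zpowers_le.2 (mul_mem hwW (zpow_mem hzW m)))
      (mem_line hc'p ⟨l - 1, hl'⟩ hne))
  rw [hwz, mul_one] at hh'c
  have hh'R : h' ∈ (R : Subgroup A) := mul_mem (zpow_mem htR k) hrR
  have hh'T : h' ∉ Subgroup.zpowers t := fun h => hrT (by
    have := mul_mem (inv_mem (⟨k, rfl⟩ : t ^ k ∈ Subgroup.zpowers t)) h
    rwa [hh', inv_mul_cancel_left] at this)
  exact hc'W ((Subgroup.zpowers_le.2 hzW) (hreg h' hh'R hh'T c' hh'c))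

end Pure

variable {Ω : Type*} [Group Ω] {S : Subgroup Ω} [Finite S] {F : FusionSystem S} {P : Subgroup Ω}

/-- The normalizer of an elementary abelian essential subgroup of order `p ^ 3` with a central
element has order at most `p ^ 4`. -/
theorem card_normalizerIn_le (hS : IsPGroup p S) (hF : F.IsSaturated p) (hP : F.IsEssential p P)
    (hab : ∀ a b : P, a * b = b * a) (hexp : ∀ a : P, a ^ p = 1) (hcard : Nat.card P = p ^ 3)
    (z : P) (hz1 : z ≠ 1) (hzc : ∀ g ∈ S, g * (z : Ω) = z * g) :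
    Nat.card (normalizerIn S P) ≤ p ^ 4 := by
  classical
  have hPS := hP.1.1
  haveI := finite_of_le hPS
  haveI := finite_of_le (normalizerIn_le (S := S) P)
  by_contra hbig
  push Not at hbig
  set G := normalizerIn S P with hG
  have hPG : P ≤ G := le_normalizerIn hPS
  have hGp : IsPGroup p G := hS.to_le (normalizerIn_le P)
  set P' := P.subgroupOf G with hP'
  haveI hP'n : P'.Normal := ⟨fun x hx g => (Subgroup.mem_normalizer_iff.1 g.2.2 _).1 hx⟩
  set Z' := Subgroup.zpowers (⟨(z : Ω), hPG z.2⟩ : G) with hZ'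
  haveI hZ'n : Z'.Normal := ⟨fun x hx g => by
    obtain ⟨i, rfl⟩ := hx
    refine ⟨i, ?_⟩
    show (⟨(z : Ω), hPG z.2⟩ : G) ^ i = g * (⟨(z : Ω), hPG z.2⟩ : G) ^ i * g⁻¹
    rw [← conj_zpow]
    congr 1
    exact Subtype.ext (by
      show (z : Ω) = g * z * (g : Ω)⁻¹
      rw [hzc g g.2.1, mul_inv_cancel_right])⟩
  have hzp : z ^ p = 1 := hexp z
  have hzcard : Nat.card (Subgroup.zpowers z) = p := by
    rw [Nat.card_zpowers, orderOf_eq_prime hzp hz1]
  -- a second step of the flag
  obtain ⟨y, hyz, hyc⟩ : ∃ y : P, y ∉ Subgroup.zpowers z ∧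
      ∀ g : G, ∃ i : ℤ, (g : Ω) * y * (g : Ω)⁻¹ = y * (z : Ω) ^ i := by
    have hne : P'.map (QuotientGroup.mk' Z') ≠ ⊥ := by
      rw [Ne, Subgroup.map_eq_bot_iff, QuotientGroup.ker_mk']
      intro hle
      have h1 := Subgroup.card_le_of_le hle
      have hZ'card : Nat.card Z' = p := by
        rw [hZ', Nat.card_zpowers]
        refine orderOf_eq_prime (Subtype.ext ?_) fun h => hz1 (Subtype.ext ?_)
        · simpa using congrArg Subtype.val hzp
        · simpa using congrArg Subtype.val h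
      rw [Nat.card_congr (Subgroup.subgroupOfEquivOfLe hPG).toEquiv, hcard, hZ'card] at h1
      have := (Nat.pow_le_pow_iff_right hp.out.one_lt).1 (h1.trans (pow_one p).ge)
      omega
    haveI := hP'n.map (QuotientGroup.mk' Z') (QuotientGroup.mk'_surjective _)
    obtain ⟨q, hq, hq1⟩ := (Subgroup.bot_or_exists_ne_one _).resolve_left
      (Cfsg.Lib.PGroup.inf_center_ne_bot (hGp.to_quotient Z') hne)
    obtain ⟨⟨x, hx, rfl⟩, hqc⟩ := hq
    refine ⟨⟨(x : Ω), hx⟩, fun hxz => hq1 ((QuotientGroup.eq_one_iff _).2 ?_), fun g => ?_⟩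
    · obtain ⟨i, hi⟩ := hxz
      exact ⟨i, Subtype.ext (by simpa using congrArg Subtype.val hi)⟩
    · have h1 : x⁻¹ * (g * x * g⁻¹) ∈ Z' := by
        rw [← QuotientGroup.eq_one_iff]
        simp only [QuotientGroup.mk_mul, QuotientGroup.mk_inv]
        have := Subgroup.mem_center_iff.1 hqc (QuotientGroup.mk' Z' g)
        simp only [QuotientGroup.mk'_apply] at this
        rw [this, mul_inv_cancel_right, inv_mul_cancel]
      obtain ⟨i, hi⟩ := h1
      refine ⟨i, ?_⟩
      have h2 := congrArg Subtype.val hi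
      simp only [SubgroupClass.coe_zpow, Subgroup.coe_mul, Subgroup.coe_inv] at h2
      show (g : Ω) * (x : Ω) * (g : Ω)⁻¹ = (x : Ω) * (z : Ω) ^ i
      rw [h2, mul_inv_cancel_left]
  set W := Subgroup.zpowers z ⊔ Subgroup.zpowers y with hW
  have hzW : z ∈ W := Subgroup.mem_sup_left (Subgroup.mem_zpowers z)
  have hyW : y ∈ W := Subgroup.mem_sup_right (Subgroup.mem_zpowers y)
  have hWcard : Nat.card W = p ^ 2 := by
    refine le_antisymm ?_ ?_
    · have h1 := Cfsg.Lib.Core.card_mul_relIndex (le_sup_left : Subgroup.zpowers z ≤ W)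
      haveI : (Subgroup.zpowers z).Normal := ⟨fun a ha g => by rwa [hab g a, mul_inv_cancel_right]⟩
      change _ * (Subgroup.zpowers z).relIndex (Subgroup.zpowers z ⊔ Subgroup.zpowers y) = Nat.card W at h1
      rw [Subgroup.relIndex_sup_left, hzcard] at h1
      rw [← h1, sq]
      refine Nat.mul_le_mul le_rfl ?_
      calc (Subgroup.zpowers z).relIndex (Subgroup.zpowers y) ≤ Nat.card (Subgroup.zpowers y) :=
            Nat.le_of_dvd Nat.card_pos (Subgroup.relIndex_dvd_card _ _)
        _ = p := by rw [Nat.card_zpowers, orderOf_eq_prime (hexp y) fun h => hyz (h ▸ one_mem _)]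
    · obtain ⟨i, hi⟩ := IsPGroup.iff_card.1 ((hS.to_le hPS).to_subgroup W)
      have hlt := Cfsg.Lib.Fusion.card_lt_card_of_lt
        (lt_of_le_of_ne (le_sup_left : Subgroup.zpowers z ≤ W) fun e => hyz (e.symm ▸ hyW))
      rw [hzcard, hi] at hlt
      rw [hi]
      refine Nat.pow_le_pow_right hp.out.pos ?_
      by_contra hi2
      have := Nat.pow_le_pow_right hp.out.pos (show i ≤ 1 by omega)
      rw [pow_one] at this
      omega
  obtain ⟨e₀, he₀⟩ : ∃ e₀ : P, e₀ ∉ W := by
    by_contra hall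
    push Not at hall
    rw [show W = ⊤ from eq_top_iff.2 fun v _ => hall v, Subgroup.card_top, hcard] at hWcard
    have := Nat.pow_right_injective hp.out.two_le hWcard
    omega
  have hidx : W.index = p := by
    have h1 := W.card_mul_index
    rw [hWcard, hcard, pow_succ p 2] at h1
    exact Nat.eq_of_mul_eq_mul_left (pow_pos hp.out.pos 2) h1
  have hsupv : ∀ v, v ∉ W → W ⊔ Subgroup.zpowers v = ⊤ := fun v hv =>
    Cfsg.Lib.PGroup.sup_zpowers_eq_top_of_index (p := p) hidx hv
  -- the last step is central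
  have hstep : ∀ g : G, ∀ v : P, ∃ w ∈ W, (g : Ω) * v * (g : Ω)⁻¹ = v * (w : Ω) := by
    set W' := (W.map P.subtype).subgroupOf G with hW'
    have hWG : W.map P.subtype ≤ G := (Subgroup.map_subtype_le _).trans hPG
    have hWnorm : ∀ g : G, ∀ w ∈ W, ∃ w' ∈ W, (g : Ω) * (w : Ω) * (g : Ω)⁻¹ = (w' : Ω) := by
      intro g w hw
      have hgn : (g : Ω) ∈ Subgroup.normalizer (P : Set Ω) := g.2.2
      set γ := conjAut P hgn
      have hle : W ≤ W.comap γ.toMonoidHom := by
        refine sup_le (Subgroup.zpowers_le.2 ?_) (Subgroup.zpowers_le.2 ?_)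
        · have : γ z = z := Subtype.ext (by
            rw [coe_conjAut, hzc g g.2.1, mul_inv_cancel_right])
          rw [Subgroup.mem_comap]
          show γ z ∈ W
          rw [this]
          exact hzW
        · obtain ⟨i, hi⟩ := hyc g
          rw [Subgroup.mem_comap]
          show γ y ∈ W
          have : γ y = y * z ^ i := Subtype.ext (by
            rw [coe_conjAut, hi, Subgroup.coe_mul, SubgroupClass.coe_zpow])
          rw [this]
          exact mul_mem hyW (zpow_mem hzW i)
      exact ⟨γ w, hle hw, (coe_conjAut P hgn w).symm⟩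
    haveI hW'n : W'.Normal := by
      refine ⟨fun x hx g => ?_⟩
      obtain ⟨w, hw, hwx⟩ := hx
      obtain ⟨w', hw', he⟩ := hWnorm g w hw
      refine ⟨w', hw', ?_⟩
      show (w' : Ω) = (g : Ω) * (x : Ω) * (g : Ω)⁻¹
      rw [← he, ← show (w : Ω) = (x : Ω) from hwx]
    intro g v
    set π := QuotientGroup.mk' W'
    haveI := hP'n.map π (QuotientGroup.mk'_surjective _)
    have hle : P'.map π ≤ Subgroup.center (G ⧸ W') := by
      have hcardP : Nat.card (P'.map π) ≤ p := by
        have hsub : P'.map π ≤ Subgroup.zpowers (π ⟨(e₀ : Ω), hPG e₀.2⟩) := by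
          rintro _ ⟨x, hx, rfl⟩
          have hmem : (⟨(x : Ω), hx⟩ : P) ∈ W ⊔ Subgroup.zpowers e₀ := by
            rw [hsupv e₀ he₀]; exact Subgroup.mem_top _
          haveI : W.Normal := ⟨fun a ha g => by rwa [hab g a, mul_inv_cancel_right]⟩
          obtain ⟨w, hw, _, ⟨i, rfl⟩, hwe⟩ := Subgroup.mem_sup_of_normal_left.1 hmem
          refine ⟨i, ?_⟩
          show π ⟨(e₀ : Ω), hPG e₀.2⟩ ^ i = π x
          rw [← map_zpow]
          refine QuotientGroup.eq.2 ?_
          refine ⟨w, hw, ?_⟩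
          have h1 := congrArg Subtype.val hwe
          simp only [Subgroup.coe_mul, SubgroupClass.coe_zpow] at h1
          show (w : Ω) = ((e₀ : Ω) ^ i)⁻¹ * (x : Ω)
          rw [← h1, ← mul_assoc]
          have hc2 : ((e₀ : Ω) ^ i)⁻¹ * (w : Ω) = (w : Ω) * ((e₀ : Ω) ^ i)⁻¹ := by
            have := congrArg Subtype.val (hab (e₀ ^ i)⁻¹ w)
            simpa using this
          rw [hc2, inv_mul_cancel_right]
        refine (Subgroup.card_le_of_le hsub).trans ?_
        rw [Nat.card_zpowers]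
        refine Nat.le_of_dvd hp.out.pos (orderOf_dvd_of_pow_eq_one ?_)
        rw [← map_pow, show (⟨(e₀ : Ω), hPG e₀.2⟩ : G) ^ p = 1 from
          Subtype.ext (by simpa using congrArg Subtype.val (hexp e₀)), map_one]
      by_cases hb : P'.map π = ⊥
      · rw [hb]; exact bot_le
      have hne := Cfsg.Lib.PGroup.inf_center_ne_bot (hGp.to_quotient W') hb
      have heq : P'.map π ⊓ Subgroup.center (G ⧸ W') = P'.map π := by
        refine Subgroup.eq_of_le_of_card_ge inf_le_left (hcardP.trans ?_)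
        obtain ⟨i, hi⟩ := IsPGroup.iff_card.1
          ((hGp.to_quotient W').to_subgroup (P'.map π ⊓ Subgroup.center (G ⧸ W')))
        rw [hi]
        refine Nat.le_self_pow (fun h0 => hne ?_) p
        rw [h0, pow_zero] at hi
        exact Subgroup.card_eq_one.1 hi
      exact heq ▸ inf_le_right
    set x : G := ⟨(v : Ω), hPG v.2⟩
    have h1 : x⁻¹ * (g * x * g⁻¹) ∈ W' := by
      rw [← QuotientGroup.eq_one_iff, ← QuotientGroup.mk'_apply, map_mul, map_mul, map_mul, map_inv, map_inv]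
      show (π x)⁻¹ * (π g * π x * (π g)⁻¹) = 1
      rw [Subgroup.mem_center_iff.1 (hle ⟨x, v.2, rfl⟩) (π g), mul_inv_cancel_right, inv_mul_cancel]
    obtain ⟨w, hw, hwx⟩ := h1
    refine ⟨w, hw, ?_⟩
    show _ = (v : Ω) * P.subtype w
    rw [hwx]
    simp [x, mul_assoc]
  -- the induced automorphisms
  set A := F.autGroup P with hA
  obtain ⟨-, R, hR⟩ := (isFullyAutomized_and_fc_of_fn hS hF hP.2.1).2
  have hcS : centralizerIn S P ≤ P := hP.1.2 P (isConj_refl F hPS)
  set f := RankTwo.cA F hPS with hf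
  have hfR : ∀ g, f g ∈ (R : Subgroup A) := fun g => by
    rw [hR]; exact conjAut_mem_autInducedBy g.2.2 g.2.1
  have hRf : ∀ r ∈ (R : Subgroup A), ∃ g, f g = r := by
    intro r hr
    rw [hR, Subgroup.mem_subgroupOf] at hr
    obtain ⟨g, hg, hgr⟩ := mem_autInducedBy.1 hr
    refine ⟨⟨g, hg, mem_normalizer_of_aut hgr⟩, Subtype.ext (MulEquiv.ext fun x => Subtype.ext ?_)⟩
    rw [RankTwo.coe_cA, hgr]
  have hker : ∀ g, f g = 1 → (g : Ω) ∈ P := by
    intro g hg
    refine hcS (mem_centralizerIn.2 ⟨g.2.1, fun x hx => ?_⟩)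
    have := congrArg (fun a : A => (((a : MulAut P) ⟨x, hx⟩ : P) : Ω)) hg
    simp only [hf, RankTwo.coe_cA, Subgroup.coe_one, MulAut.one_apply] at this
    exact commute_of_conj_eq this
  have hRbig : p < Nat.card (R : Subgroup A) := by
    have h1 := f.ker.card_mul_index
    rw [Subgroup.index_ker] at h1
    have h2 : Nat.card f.ker ≤ p ^ 3 := by
      rw [← hcard]
      exact Nat.card_le_card_of_injective (fun g : f.ker => (⟨((g : G) : Ω), hker g g.2⟩ : P))
        fun a b hab => Subtype.ext (Subtype.ext (congrArg (fun v : P => (v : Ω)) hab))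
    have h3 : Nat.card f.range ≤ Nat.card (R : Subgroup A) :=
      Subgroup.card_le_of_le (by rintro _ ⟨g, rfl⟩; exact hfR g)
    by_contra hle
    push Not at hle
    have h4 : Nat.card f.ker * Nat.card f.range ≤ p ^ 3 * p := Nat.mul_le_mul h2 (h3.trans hle)
    rw [h1, ← pow_succ] at h4
    exact absurd h4 (not_le.2 hbig)
  have hRz : ∀ r ∈ (R : Subgroup A), (r : MulAut P) z = z := by
    intro r hr
    obtain ⟨g, rfl⟩ := hRf r hr
    exact Subtype.ext (by rw [RankTwo.coe_cA, hzc g g.2.1, mul_inv_cancel_right])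
  have hRW : ∀ r ∈ (R : Subgroup A), ∀ v, v⁻¹ * (r : MulAut P) v ∈ W := by
    intro r hr v
    obtain ⟨g, rfl⟩ := hRf r hr
    obtain ⟨w, hw, he⟩ := hstep g v
    have : (f g : MulAut P) v = v * w := Subtype.ext (by rw [RankTwo.coe_cA, he, Subgroup.coe_mul])
    rwa [this, inv_mul_cancel_left]
  have hRy : ∀ r ∈ (R : Subgroup A), y⁻¹ * (r : MulAut P) y ∈ Subgroup.zpowers z := by
    intro r hr
    obtain ⟨g, rfl⟩ := hRf r hr
    obtain ⟨i, he⟩ := hyc g
    have : (f g : MulAut P) y = y * z ^ i := Subtype.ext (by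
      rw [RankTwo.coe_cA, he, Subgroup.coe_mul, SubgroupClass.coe_zpow])
    rw [this, inv_mul_cancel_left]
    exact ⟨i, rfl⟩
  have hfixW : ∀ r ∈ (R : Subgroup A), (r : MulAut P) y = y → ∀ w ∈ W, (r : MulAut P) w = w := by
    intro r hr hry w hw
    have hle : W ≤ (r : MulAut P).toMonoidHom.eqLocus (MonoidHom.id P) :=
      sup_le (Subgroup.zpowers_le.2 (hRz r hr)) (Subgroup.zpowers_le.2 hry)
    exact hle hw
  have hfixz : ∀ r ∈ (R : Subgroup A), ∀ u ∈ Subgroup.zpowers z, (r : MulAut P) u = u := by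
    rintro r hr _ ⟨i, rfl⟩
    rw [map_zpow, hRz r hr]
  -- extending from two vectors to all of `P`
  have hext : ∀ (r : MulAut P) (D : Subgroup P), r z = z →
      (∀ u ∈ D, r u = u) → y⁻¹ * r y ∈ D → e₀⁻¹ * r e₀ ∈ D → ∀ v, v⁻¹ * r v ∈ D := by
    intro r D hrz _ hy he v
    let K : Subgroup P :=
      { carrier := {v | v⁻¹ * r v ∈ D}
        one_mem' := by simp
        mul_mem' := fun {a b} ha hb => by
          show (a * b)⁻¹ * r (a * b) ∈ D
          have : (a * b)⁻¹ * r (a * b) = (a⁻¹ * r a) * (b⁻¹ * r b) := by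
            rw [map_mul, mul_inv_rev]
            calc b⁻¹ * a⁻¹ * (r a * r b) = b⁻¹ * (a⁻¹ * r a) * r b := by group
              _ = (a⁻¹ * r a) * b⁻¹ * r b := by rw [hab b⁻¹]
              _ = _ := by group
          rw [this]
          exact mul_mem ha hb
        inv_mem' := fun {a} ha => by
          show a⁻¹⁻¹ * r a⁻¹ ∈ D
          have : a⁻¹⁻¹ * r a⁻¹ = (a⁻¹ * r a)⁻¹ := by rw [map_inv, inv_inv, mul_inv_rev, inv_inv, hab]
          rw [this]
          exact inv_mem ha }
    have hWK : W ≤ K := sup_le (Subgroup.zpowers_le.2 (show z⁻¹ * r z ∈ D by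
      rw [hrz, inv_mul_cancel]; exact one_mem _)) (Subgroup.zpowers_le.2 hy)
    have hle : W ⊔ Subgroup.zpowers e₀ ≤ K := sup_le hWK (Subgroup.zpowers_le.2 he)
    exact hle ((hsupv e₀ he₀).symm ▸ Subgroup.mem_top v)
  have hone : ∀ r ∈ (R : Subgroup A), (r : MulAut P) y = y → (r : MulAut P) e₀ = e₀ → r = 1 := by
    intro r hr h1 h2
    refine Subtype.ext (MulEquiv.ext fun v => ?_)
    have := hext r ⊥ (hRz r hr) (fun u hu => by rw [Subgroup.mem_bot.1 hu, map_one])
      (by rw [h1, inv_mul_cancel]; exact one_mem _) (by rw [h2, inv_mul_cancel]; exact one_mem _) v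
    exact (inv_mul_eq_one.1 (Subgroup.mem_bot.1 this)).symm
  have hαmul : ∀ r ∈ (R : Subgroup A), ∀ s ∈ (R : Subgroup A),
      y⁻¹ * ((r * s : A) : MulAut P) y = (y⁻¹ * (r : MulAut P) y) * (y⁻¹ * (s : MulAut P) y) := by
    intro r hr s hs
    have h1 := hfixz r hr _ (hRy s hs)
    rw [map_mul, map_inv] at h1
    rw [Subgroup.coe_mul, MulAut.mul_apply, ← h1]
    group
  have hβmul : ∀ r ∈ (R : Subgroup A), ∀ s ∈ (R : Subgroup A),
      e₀⁻¹ * ((r * s : A) : MulAut P) e₀ =
        (e₀⁻¹ * (r : MulAut P) e₀) * (r : MulAut P) (e₀⁻¹ * (s : MulAut P) e₀) := by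
    intro r _ s _
    rw [Subgroup.coe_mul, MulAut.mul_apply, map_mul, map_inv]
    group
  have hβz : ∀ r ∈ (R : Subgroup A), ∀ w ∈ W, w⁻¹ * (r : MulAut P) w ∈ Subgroup.zpowers z := by
    intro r hr w hw
    obtain ⟨_, ⟨i, rfl⟩, _, ⟨j, rfl⟩, rfl⟩ := (show ∃ a ∈ Subgroup.zpowers z, ∃ b ∈ Subgroup.zpowers y,
      a * b = w from by
        haveI : (Subgroup.zpowers z).Normal := ⟨fun a ha g => by rwa [hab g a, mul_inv_cancel_right]⟩
        exact Subgroup.mem_sup_of_normal_left.1 hw)
    rw [map_mul, map_zpow, map_zpow, hRz r hr, mul_inv_rev]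
    have : (y ^ j)⁻¹ * (z ^ i)⁻¹ * (z ^ i * (r : MulAut P) y ^ j) = (y⁻¹ * (r : MulAut P) y) ^ j := by
      rw [(show Commute y⁻¹ ((r : MulAut P) y) from hab _ _).mul_zpow, inv_zpow]
      group
    rw [this]
    exact zpow_mem (hRy r hr) j
  have hab' : ∀ a b : P, Commute a b := hab
  -- the transvection with the smallest centre and largest axis
  obtain ⟨t, htR, ht1, hty, hte⟩ : ∃ t ∈ (R : Subgroup A), t ≠ 1 ∧ (t : MulAut P) y = y ∧
      e₀⁻¹ * (t : MulAut P) e₀ ∈ Subgroup.zpowers z := by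
    by_contra hnone
    push Not at hnone
    have hT : ∀ r ∈ (R : Subgroup A), (r : MulAut P) y = y →
        e₀⁻¹ * (r : MulAut P) e₀ ∈ Subgroup.zpowers z → r = 1 := fun r hr h1 h2 => by
      by_contra hr1
      exact hnone r hr hr1 h1 h2
    have hcomm : ∀ r ∈ (R : Subgroup A), ∀ s ∈ (R : Subgroup A), r * s = s * r := by
      intro r hr s hs
      have hrs := mul_mem hr hs
      have hsr := mul_mem hs hr
      have hq := mul_mem (inv_mem hsr) hrs
      have h1 : (((s * r)⁻¹ * (r * s) : A) : MulAut P) y = y := by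
        have e : ((r * s : A) : MulAut P) y = ((s * r : A) : MulAut P) y := by
          refine mul_left_cancel (a := y⁻¹) ?_
          rw [hαmul r hr s hs, hαmul s hs r hr, hab]
        rw [Subgroup.coe_mul, MulAut.mul_apply, e, InvMemClass.coe_inv, MulAut.inv_apply_self]
      have h2 : e₀⁻¹ * (((s * r)⁻¹ * (r * s) : A) : MulAut P) e₀ ∈ Subgroup.zpowers z := by
        have key : ∀ a ∈ (R : Subgroup A), ∀ b ∈ (R : Subgroup A),
            ((e₀⁻¹ * (a : MulAut P) e₀) * (e₀⁻¹ * (b : MulAut P) e₀))⁻¹ *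
              (e₀⁻¹ * ((a * b : A) : MulAut P) e₀) ∈ Subgroup.zpowers z := by
          intro a ha b hb
          rw [hβmul a ha b hb, mul_inv_rev, mul_assoc, inv_mul_cancel_left]
          exact hβz a ha _ (hRW b hb e₀)
        have k1 := key r hr s hs
        have k2 := key s hs r hr
        rw [hab (e₀⁻¹ * (s : MulAut P) e₀)] at k2
        have k3 := mul_mem (inv_mem k2) k1
        rw [mul_inv_rev, inv_inv, mul_assoc, mul_inv_cancel_left] at k3
        have k4 := hfixz ((s * r)⁻¹) (inv_mem hsr) _ k3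
        have e : (((s * r)⁻¹ : A) : MulAut P) ((e₀⁻¹ * ((s * r : A) : MulAut P) e₀)⁻¹ *
            (e₀⁻¹ * ((r * s : A) : MulAut P) e₀)) = e₀⁻¹ * (((s * r)⁻¹ * (r * s) : A) : MulAut P) e₀ := by
          have i1 : (((s * r)⁻¹ : A) : MulAut P) (((s * r : A) : MulAut P) e₀) = e₀ := by
            rw [← MulAut.mul_apply, ← Subgroup.coe_mul, inv_mul_cancel, Subgroup.coe_one, MulAut.one_apply]
          rw [Subgroup.coe_mul _ ((s * r)⁻¹), MulAut.mul_apply, map_mul, map_inv, map_mul, map_mul, map_inv, i1]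
          group
        rw [← e, k4]
        exact k3
      exact (inv_mul_eq_one.1 (hT _ hq h1 h2)).symm
    -- two elements, moving `y` only and `e₀` only
    obtain ⟨r₁, hr₁, hr₁1, hr₁y⟩ : ∃ r ∈ (R : Subgroup A), r ≠ 1 ∧ (r : MulAut P) y = y := by
      by_contra hno
      push Not at hno
      refine absurd ?_ (not_le.2 hRbig)
      refine le_of_le_of_eq ?_ hzcard
      refine Nat.card_le_card_of_injective
        (fun r : (R : Subgroup A) => (⟨_, hRy r r.2⟩ : Subgroup.zpowers z)) fun r s hrs => ?_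
      have h1 : y⁻¹ * ((r : A) : MulAut P) y = y⁻¹ * ((s : A) : MulAut P) y := congrArg Subtype.val hrs
      by_contra hne
      refine hno ((s : A)⁻¹ * r) (mul_mem (inv_mem s.2) r.2)
        (fun h => hne (Subtype.ext (inv_mul_eq_one.1 h).symm)) ?_
      rw [Subgroup.coe_mul, MulAut.mul_apply, mul_left_cancel h1, InvMemClass.coe_inv,
        MulAut.inv_apply_self]
    obtain ⟨r₂, hr₂, hr₂1, hr₂e⟩ : ∃ r ∈ (R : Subgroup A), r ≠ 1 ∧
        e₀⁻¹ * (r : MulAut P) e₀ ∈ Subgroup.zpowers z := by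
      by_contra hno
      push Not at hno
      refine absurd ?_ (not_le.2 hRbig)
      haveI : (Subgroup.zpowers z).Normal := ⟨fun a ha g => by rwa [hab g a, mul_inv_cancel_right]⟩
      have hc2 : Nat.card (W.map (QuotientGroup.mk' (Subgroup.zpowers z))) ≤ p := by
        refine (Subgroup.card_le_of_le (show W.map (QuotientGroup.mk' (Subgroup.zpowers z)) ≤
          Subgroup.zpowers (QuotientGroup.mk' (Subgroup.zpowers z) y) from ?_)).trans ?_
        · rw [hW, Subgroup.map_sup, MonoidHom.map_zpowers, MonoidHom.map_zpowers]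
          refine sup_le ?_ le_rfl
          rw [Subgroup.zpowers_le]
          show (z : P ⧸ Subgroup.zpowers z) ∈ _
          rw [(QuotientGroup.eq_one_iff z).2 (Subgroup.mem_zpowers z)]
          exact one_mem _
        · rw [Nat.card_zpowers]
          refine Nat.le_of_dvd hp.out.pos (orderOf_dvd_of_pow_eq_one ?_)
          rw [← map_pow, hexp, map_one]
      refine le_trans (Nat.card_le_card_of_injective (fun r : (R : Subgroup A) =>
        (⟨_, Subgroup.mem_map_of_mem (QuotientGroup.mk' (Subgroup.zpowers z)) (hRW r r.2 e₀)⟩ :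
          W.map (QuotientGroup.mk' (Subgroup.zpowers z)))) fun r s hrs => ?_) hc2
      have h1 := QuotientGroup.eq.1 (congrArg Subtype.val hrs)
      by_contra hne
      refine hno ((r : A)⁻¹ * s) (mul_mem (inv_mem r.2) s.2)
        (fun h => hne (Subtype.ext (inv_mul_eq_one.1 h))) ?_
      have h2 := hfixz ((r : A)⁻¹) (inv_mem r.2) _ h1
      have e : (((r : A)⁻¹ : A) : MulAut P) ((e₀⁻¹ * ((r : A) : MulAut P) e₀)⁻¹ *
          (e₀⁻¹ * ((s : A) : MulAut P) e₀)) = e₀⁻¹ * ((((r : A)⁻¹ * s : A)) : MulAut P) e₀ := by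
        rw [Subgroup.coe_mul, MulAut.mul_apply]
        simp only [map_mul, map_inv, InvMemClass.coe_inv, MulAut.inv_apply_self, mul_inv_rev, inv_inv]
        group
      rw [← e, h2]
      exact h1
    have hr₂y : (r₂ : MulAut P) y ≠ y := fun h => hr₂1 (hT r₂ hr₂ h hr₂e)
    have hr₁e : e₀⁻¹ * (r₁ : MulAut P) e₀ ∉ Subgroup.zpowers z := fun h => hr₁1 (hT r₁ hr₁ hr₁y h)
    set b := e₀⁻¹ * (r₁ : MulAut P) e₀ with hb
    have h1 := congrArg (fun a : A => e₀⁻¹ * (a : MulAut P) e₀) (hcomm r₁ hr₁ r₂ hr₂)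
    rw [hβmul r₁ hr₁ r₂ hr₂, hβmul r₂ hr₂ r₁ hr₁,
      hfixz r₁ hr₁ _ hr₂e, ← hb, hab b, mul_right_inj] at h1
    -- `r₂` fixes all of `W`
    have hle : W ≤ (r₂ : MulAut P).toMonoidHom.eqLocus (MonoidHom.id P) := by
      have hsup : Subgroup.zpowers z ⊔ Subgroup.zpowers b = W := by
        refine Subgroup.eq_of_le_of_card_ge (sup_le (Subgroup.zpowers_le.2 hzW)
          (Subgroup.zpowers_le.2 (hRW r₁ hr₁ e₀))) ?_
        obtain ⟨i, hi⟩ := IsPGroup.iff_card.1
          ((hS.to_le hPS).to_subgroup (Subgroup.zpowers z ⊔ Subgroup.zpowers b))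
        have hlt := Cfsg.Lib.Fusion.card_lt_card_of_lt (lt_of_le_of_ne
          (le_sup_left : Subgroup.zpowers z ≤ Subgroup.zpowers z ⊔ Subgroup.zpowers b)
          fun e => hr₁e (e.symm ▸ Subgroup.mem_sup_right (Subgroup.mem_zpowers b)))
        rw [hzcard, hi] at hlt
        rw [hWcard, hi]
        refine Nat.pow_le_pow_right hp.out.pos ?_
        by_contra hi2
        have := Nat.pow_le_pow_right hp.out.pos (show i ≤ 1 by omega)
        rw [pow_one] at this
        omega
      rw [← hsup]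
      exact sup_le (Subgroup.zpowers_le.2 (hRz r₂ hr₂)) (Subgroup.zpowers_le.2 h1.symm)
    exact hr₂y (hle hyW)
  have htW := hfixW t htR hty
  have htd : ∀ v, ∃ i : ℤ, (t : MulAut P) v = v * z ^ i := by
    intro v
    obtain ⟨i, hi⟩ := hext t (Subgroup.zpowers z) (hRz t htR) (hfixz t htR)
      (by rw [hty, inv_mul_cancel]; exact one_mem _) hte v
    exact ⟨i, by rw [show z ^ i = _ from hi, mul_inv_cancel_left]⟩
  have hte1 : e₀⁻¹ * (t : MulAut P) e₀ ≠ 1 := fun h => ht1 (hone t htR hty (inv_mul_eq_one.1 h).symm)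
  have htpow : ∀ k : ℕ, ((t ^ k : A) : MulAut P) e₀ = e₀ * (e₀⁻¹ * (t : MulAut P) e₀) ^ k := by
    intro k
    induction k with
    | zero => simp
    | succ k ih =>
      rw [pow_succ', Subgroup.coe_mul, MulAut.mul_apply, ih, map_mul, map_pow, hfixz t htR _ hte, pow_succ',
        ← mul_assoc e₀, mul_inv_cancel_left]
  have htp : t ^ p = 1 := by
    refine hone _ (pow_mem htR p) ?_ (by rw [htpow, hexp, mul_one])
    have hle : Subgroup.zpowers t ≤ (MulAction.stabilizer (MulAut P) y).subgroupOf A :=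
      Subgroup.zpowers_le.2 hty
    exact hle (Subgroup.npow_mem_zpowers t p)
  have htzp : ∀ r ∈ (R : Subgroup A), (r : MulAut P) y = y →
      e₀⁻¹ * (r : MulAut P) e₀ ∈ Subgroup.zpowers z → r ∈ Subgroup.zpowers t := by
    intro r hr h1 h2
    obtain ⟨k, hk⟩ := mem_powers_iff_mem_zpowers.2
      ((Subgroup.zpowers_le.2 (mem_line hzp hte hte1)) h2)
    have he : (r : MulAut P) e₀ = ((t ^ k : A) : MulAut P) e₀ := by
      rw [htpow, show (e₀⁻¹ * (t : MulAut P) e₀) ^ k = _ from hk, mul_inv_cancel_left]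
    refine ⟨k, ?_⟩
    show t ^ (k : ℤ) = r
    rw [zpow_natCast, eq_comm, ← inv_mul_eq_one]
    refine hone _ (mul_mem (inv_mem hr) (pow_mem htR k)) ?_ ?_
    · have hle : Subgroup.zpowers t ≤ (MulAction.stabilizer (MulAut P) y).subgroupOf A :=
        Subgroup.zpowers_le.2 hty
      rw [Subgroup.coe_mul, MulAut.mul_apply, show ((t ^ k : A) : MulAut P) y = y from
        hle (Subgroup.npow_mem_zpowers t k)]
      conv_lhs => rw [← h1, InvMemClass.coe_inv, MulAut.inv_apply_self]
    · rw [Subgroup.coe_mul, MulAut.mul_apply, ← he, InvMemClass.coe_inv, MulAut.inv_apply_self]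
  by_cases hC : ∃ r ∈ (R : Subgroup A), (r : MulAut P) y ≠ y ∧
      e₀⁻¹ * (r : MulAut P) e₀ ∈ Subgroup.zpowers z
  · -- a common centre
    obtain ⟨r, hr, hry, hre⟩ := hC
    obtain ⟨g₁, hg₁⟩ := hRf r hr
    obtain ⟨g₂, hg₂⟩ := hRf t htR
    let Kc : Subgroup G :=
      { carrier := {g | ∀ v, v⁻¹ * (f g : MulAut P) v ∈ Subgroup.zpowers z}
        one_mem' := fun v => by simp
        mul_mem' := fun {a b} ha hb v => by
          rw [map_mul, Subgroup.coe_mul, MulAut.mul_apply]
          have h1 := hfixz (f a) (hfR a) _ (hb v)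
          rw [map_mul, map_inv] at h1
          have e : v⁻¹ * (f a : MulAut P) ((f b : MulAut P) v) =
              (v⁻¹ * (f a : MulAut P) v) * (v⁻¹ * (f b : MulAut P) v) := by
            rw [← h1]; group
          rw [e]
          exact mul_mem (ha v) (hb v)
        inv_mem' := fun {a} ha v => by
          set u := ((f a⁻¹ : A) : MulAut P) v
          have hu : (f a : MulAut P) u = v := by
            rw [← MulAut.mul_apply, ← Subgroup.coe_mul, ← map_mul, mul_inv_cancel, map_one, Subgroup.coe_one,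
              MulAut.one_apply]
          have h1 := inv_mem (ha u)
          rw [hu, mul_inv_rev, inv_inv] at h1
          exact h1 }
    have hin : ∀ (g : G) (r : A), r ∈ (R : Subgroup A) → f g = r →
        e₀⁻¹ * (r : MulAut P) e₀ ∈ Subgroup.zpowers z → g ∈ Kc := fun g r hr hg he v => by
      rw [hg]
      exact hext r _ (hRz r hr) (hfixz r hr) (hRy r hr) he v
    have hg₁K := hin g₁ r hr hg₁ hre
    have hg₂K := hin g₂ t htR hg₂ hte
    set K : Set Ω := Subtype.val '' {g : G | g ∈ Kc ∧ (g : Ω) ^ p ∈ P} with hK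
    have hpow : ∀ g : G, g ∈ Kc → (g : Ω) ^ p ∈ P := by
      intro g hg
      refine hker (g ^ p) (hone _ (hfR _) ?_ ?_) <;> rw [map_pow]
      all_goals
        have hiter : ∀ (v : P) (k : ℕ), ((f g ^ k : A) : MulAut P) v = v * (v⁻¹ * (f g : MulAut P) v) ^ k := by
          intro v k
          induction k with
          | zero => simp
          | succ k ih =>
            rw [pow_succ', Subgroup.coe_mul, MulAut.mul_apply, ih, map_mul, map_pow,
              hfixz _ (hfR g) _ (hg v), pow_succ', ← mul_assoc v, mul_inv_cancel_left]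
        rw [hiter, hexp, mul_one]
    refine not_essential_of_transvections hS hF hP hab z K ?_ ?_ ?_ ?_ ?_ ?_
    · rintro _ ⟨g, -, rfl⟩; exact g.2.1
    · rintro _ ⟨g, -, rfl⟩; exact g.2.2
    · rintro _ ⟨g, hg, rfl⟩; exact hg.2
    · rintro _ ⟨g, -, rfl⟩; exact hzc g g.2.1
    · rintro _ ⟨g, hg, rfl⟩ v
      obtain ⟨i, hi⟩ := hg.1 v
      refine ⟨i, ?_⟩
      rw [← RankTwo.coe_cA (F := F) hPS g v, ← hf, ← SubgroupClass.coe_zpow, ← Subgroup.coe_mul]
      rw [show z ^ i = _ from hi, mul_inv_cancel_left]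
    · intro v
      suffices hex : ∃ g : G, g ∈ Kc ∧ (g : Ω) ∉ P ∧ (f g : MulAut P) v = v by
        obtain ⟨g, hgK, hgP, hgv⟩ := hex
        refine ⟨g, ⟨g, ⟨hgK, hpow g hgK⟩, rfl⟩, hgP, commute_of_conj_eq ?_⟩
        rw [← RankTwo.coe_cA (F := F) hPS g v, ← hf, hgv]
      have hout : ∀ g : G, (g : Ω) ∈ P → f g = 1 := by
        intro g hg
        refine Subtype.ext (MulEquiv.ext fun x => Subtype.ext ?_)
        rw [RankTwo.coe_cA]
        have := congrArg Subtype.val (hab ⟨(g : Ω), hg⟩ x)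
        simp only [Subgroup.coe_mul] at this
        show (g : Ω) * (x : Ω) * (g : Ω)⁻¹ = x
        rw [this, mul_inv_cancel_right]
      by_cases htv : (t : MulAut P) v = v
      · exact ⟨g₂, hg₂K, fun h => ht1 (hg₂ ▸ hout _ h), hg₂ ▸ htv⟩
      by_cases hrv : (r : MulAut P) v = v
      · exact ⟨g₁, hg₁K, fun h => hry (by rw [← hg₁, hout _ h]; rfl), hg₁ ▸ hrv⟩
      have hrd' : ∀ u, u⁻¹ * (r : MulAut P) u ∈ Subgroup.zpowers z :=
        hext r _ (hRz r hr) (hfixz r hr) (hRy r hr) hre
      have hrd := hrd' v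
      have htd' : v⁻¹ * (t : MulAut P) v ∈ Subgroup.zpowers z := hg₂ ▸ hg₂K v
      obtain ⟨k, hk⟩ := mem_powers_iff_mem_zpowers.2 ((Subgroup.zpowers_le.2 (mem_line hzp hrd
        (fun h => hrv (inv_mul_eq_one.1 h).symm))) htd')
      refine ⟨(g₁ ^ k)⁻¹ * g₂, mul_mem (inv_mem (pow_mem hg₁K k)) hg₂K, fun h => htv ?_, ?_⟩
      · have h1 := hout _ h
        rw [map_mul, map_inv, map_pow, hg₁, hg₂, inv_mul_eq_one] at h1
        have hrk : (r : MulAut P) y ≠ y := hry
        -- `t = r ^ k` fixes `y`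
        have hiter : ∀ (u : P) (k : ℕ), ((r ^ k : A) : MulAut P) u = u * (u⁻¹ * (r : MulAut P) u) ^ k := by
          intro u k
          induction k with
          | zero => simp
          | succ k ih =>
            rw [pow_succ', Subgroup.coe_mul, MulAut.mul_apply, ih, map_mul, map_pow,
              hfixz r hr _ (hrd' u), pow_succ', ← mul_assoc u, mul_inv_cancel_left]
        have h2 := hty
        rw [← h1, hiter, mul_eq_left, ← orderOf_dvd_iff_pow_eq_one,
          orderOf_eq_prime (hexp _) fun h => hry (inv_mul_eq_one.1 h).symm] at h2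
        rw [← h1, hiter]
        obtain ⟨d, rfl⟩ := h2
        rw [pow_mul, hexp, one_pow, mul_one]
      · rw [map_mul, map_inv, map_pow, hg₁, hg₂, Subgroup.coe_mul, MulAut.mul_apply]
        have hiter : ∀ k : ℕ, ((r ^ k : A) : MulAut P) v = v * (v⁻¹ * (r : MulAut P) v) ^ k := by
          intro k
          induction k with
          | zero => simp
          | succ k ih =>
            rw [pow_succ', Subgroup.coe_mul, MulAut.mul_apply, ih, map_mul, map_pow,
              hfixz r hr _ hrd, pow_succ', ← mul_assoc v, mul_inv_cancel_left]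
        have h1 := hiter k
        rw [show (v⁻¹ * (r : MulAut P) v) ^ k = _ from hk, mul_inv_cancel_left] at h1
        rw [← h1, InvMemClass.coe_inv, MulAut.inv_apply_self]
  push Not at hC
  by_cases hAx : ∃ r ∈ (R : Subgroup A), (r : MulAut P) y = y ∧
      e₀⁻¹ * (r : MulAut P) e₀ ∉ Subgroup.zpowers z
  · -- a common axis
    obtain ⟨r, hr, hry, hre⟩ := hAx
    let Ka : Subgroup G :=
      { carrier := {g | (f g : MulAut P) y = y}
        one_mem' := by simp
        mul_mem' := fun {a b} ha hb => by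
          show (f (a * b) : MulAut P) y = y
          rw [map_mul, Subgroup.coe_mul, MulAut.mul_apply, hb, ha]
        inv_mem' := fun {a} ha => by
          show (f a⁻¹ : MulAut P) y = y
          rw [map_inv, InvMemClass.coe_inv]
          conv_lhs => rw [← show (f a : MulAut P) y = y from ha]
          rw [MulAut.inv_apply_self] }
    have hKfix : ∀ g ∈ Ka, ∀ w ∈ W, (f g : MulAut P) w = w := fun g hg => hfixW _ (hfR g) hg
    let φ : Ka →* P :=
      { toFun := fun g => e₀⁻¹ * (f g : MulAut P) e₀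
        map_one' := by simp
        map_mul' := fun a b => by
          show e₀⁻¹ * (f ((a * b : Ka) : G) : MulAut P) e₀ = _
          rw [Subgroup.coe_mul, map_mul, hβmul _ (hfR _) _ (hfR _), hKfix _ a.2 _ (hRW _ (hfR _) e₀)] }
    have hrange : W ≤ φ.range := by
      obtain ⟨g₁, hg₁⟩ := hRf r hr
      obtain ⟨g₂, hg₂⟩ := hRf t htR
      have hz' : z ∈ φ.range := by
        have h1 : e₀⁻¹ * (t : MulAut P) e₀ ∈ φ.range :=
          ⟨⟨g₂, show (f g₂ : MulAut P) y = y by rw [hg₂]; exact hty⟩, by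
            show e₀⁻¹ * (f g₂ : MulAut P) e₀ = _
            rw [hg₂]⟩
        exact (Subgroup.zpowers_le.2 h1) (mem_line hzp hte hte1)
      have hb : e₀⁻¹ * (r : MulAut P) e₀ ∈ φ.range :=
        ⟨⟨g₁, show (f g₁ : MulAut P) y = y by rw [hg₁]; exact hry⟩, by
          show e₀⁻¹ * (f g₁ : MulAut P) e₀ = _
          rw [hg₁]⟩
      have hsup : Subgroup.zpowers z ⊔ Subgroup.zpowers (e₀⁻¹ * (r : MulAut P) e₀) = W := by
        refine Subgroup.eq_of_le_of_card_ge (sup_le (Subgroup.zpowers_le.2 hzW)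
          (Subgroup.zpowers_le.2 (hRW r hr e₀))) ?_
        obtain ⟨i, hi⟩ := IsPGroup.iff_card.1
          ((hS.to_le hPS).to_subgroup (Subgroup.zpowers z ⊔ Subgroup.zpowers (e₀⁻¹ * (r : MulAut P) e₀)))
        have hlt := Cfsg.Lib.Fusion.card_lt_card_of_lt (lt_of_le_of_ne
          (le_sup_left : Subgroup.zpowers z ≤ Subgroup.zpowers z ⊔ Subgroup.zpowers (e₀⁻¹ * (r : MulAut P) e₀))
          fun e => hre (e.symm ▸ Subgroup.mem_sup_right (Subgroup.mem_zpowers _)))
        rw [hzcard, hi] at hlt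
        rw [hWcard, hi]
        refine Nat.pow_le_pow_right hp.out.pos ?_
        by_contra hi2
        have := Nat.pow_le_pow_right hp.out.pos (show i ≤ 1 by omega)
        rw [pow_one] at this
        omega
      rw [← hsup]
      exact sup_le (Subgroup.zpowers_le.2 hz') (Subgroup.zpowers_le.2 hb)
    set K : Set Ω := Subtype.val '' {g : G | g ∈ Ka} with hK
    refine not_essential_of_common_axis hS hF hP hab W K ?_ ?_ ?_ ?_ ?_
    · rintro _ ⟨g, -, rfl⟩; exact g.2.1
    · rintro _ ⟨g, -, rfl⟩; exact g.2.2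
    · rintro _ ⟨g, hg, rfl⟩
      refine hker (g ^ p) (hone _ (hfR _) (Ka.pow_mem hg p) ?_)
      have h1 : φ (⟨g, hg⟩ ^ p) = 1 := by rw [map_pow, hexp]
      exact (inv_mul_eq_one.1 h1).symm
    · rintro _ ⟨g, hg, rfl⟩ w hw
      refine commute_of_conj_eq ?_
      rw [← RankTwo.coe_cA (F := F) hPS g w, ← hf, hKfix g hg w hw]
    · intro α hα
      haveI : W.Normal := ⟨fun a ha g => by rwa [hab g a, mul_inv_cancel_right]⟩
      obtain ⟨c, ⟨hcW, hc'⟩, hc1⟩ : ∃ c : P, c ∈ W ⊓ W.map α.toMonoidHom ∧ c ≠ 1 := by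
        by_contra hall
        push Not at hall
        have h1 := Nat.card_le_card_of_injective
          (fun q : W × W.map α.toMonoidHom => ((q.1 : P) * (q.2 : P))) (by
            rintro ⟨a, b⟩ ⟨a', b'⟩ h
            have h' : (a' : P)⁻¹ * a = (b' : P) * (b : P)⁻¹ := by
              rw [eq_mul_inv_iff_mul_eq, mul_assoc, inv_mul_eq_iff_eq_mul]
              exact h
            have h0 := hall _ (Subgroup.mem_inf.2 ⟨mul_mem (inv_mem a'.2) a.2, h' ▸ mul_mem b'.2 (inv_mem b.2)⟩)
            rw [h0, eq_comm, mul_inv_eq_one] at h'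
            exact Prod.ext (Subtype.ext (inv_mul_eq_one.1 h0).symm) (Subtype.ext h'.symm))
        rw [Nat.card_prod, Subgroup.card_map_of_injective α.injective, hWcard, hcard, ← pow_add] at h1
        have := (Nat.pow_le_pow_iff_right hp.out.one_lt).1 h1
        omega
      obtain ⟨⟨g, hg⟩, hgc⟩ := hrange hcW
      have hgc' : e₀⁻¹ * (f g : MulAut P) e₀ = c := hgc
      refine ⟨g, ⟨g, hg, rfl⟩, fun hgP => hc1 ?_, c, hcW, ?_, ?_⟩
      · rw [← hgc']
        have : (f g : MulAut P) e₀ = e₀ := Subtype.ext (by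
          rw [RankTwo.coe_cA]
          have := congrArg Subtype.val (hab ⟨(g : Ω), hgP⟩ e₀)
          simp only [Subgroup.coe_mul] at this
          rw [this, mul_inv_cancel_right])
        rw [this, inv_mul_cancel]
      · obtain ⟨c', hc'W, hc'e⟩ := hc'
        exact ⟨c', hc'W, hc'e⟩
      · intro v
        have h1 := hext (f g : MulAut P) (Subgroup.zpowers c) (hRz _ (hfR g))
          (by rintro _ ⟨i, rfl⟩; rw [map_zpow, hKfix g hg c hcW])
          (by rw [show (f g : MulAut P) y = y from hg, inv_mul_cancel]; exact one_mem _)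
          (by rw [hgc']; exact Subgroup.mem_zpowers c) v
        obtain ⟨i, hi⟩ := h1
        refine ⟨i, ?_⟩
        rw [← RankTwo.coe_cA (F := F) hPS g v, ← hf, ← SubgroupClass.coe_zpow, ← Subgroup.coe_mul,
          show c ^ i = _ from hi, mul_inv_cancel_left]
  push Not at hAx
  -- regular
  obtain ⟨-, -, -, hO, -, -⟩ := RankTwo.basic hS hF hP
  refine regular_false hab R hzp hz1 hzW ⟨y, hyW, hyz⟩ hsupv htR ht1 htp htW htd hRW ?_ ?_ ?_
  · intro r hr hrt v hv
    by_contra hvz
    by_cases hvW : v ∈ W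
    · have hsup : Subgroup.zpowers z ⊔ Subgroup.zpowers v = W := by
        refine Subgroup.eq_of_le_of_card_ge (sup_le (Subgroup.zpowers_le.2 hzW)
          (Subgroup.zpowers_le.2 hvW)) ?_
        obtain ⟨i, hi⟩ := IsPGroup.iff_card.1
          ((hS.to_le hPS).to_subgroup (Subgroup.zpowers z ⊔ Subgroup.zpowers v))
        have hlt := Cfsg.Lib.Fusion.card_lt_card_of_lt (lt_of_le_of_ne
          (le_sup_left : Subgroup.zpowers z ≤ Subgroup.zpowers z ⊔ Subgroup.zpowers v)
          fun e => hvz (e.symm ▸ Subgroup.mem_sup_right (Subgroup.mem_zpowers v)))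
        rw [hzcard, hi] at hlt
        rw [hWcard, hi]
        refine Nat.pow_le_pow_right hp.out.pos ?_
        by_contra hi2
        have := Nat.pow_le_pow_right hp.out.pos (show i ≤ 1 by omega)
        rw [pow_one] at this
        omega
      have hle : Subgroup.zpowers z ⊔ Subgroup.zpowers v ≤
          (r : MulAut P).toMonoidHom.eqLocus (MonoidHom.id P) :=
        sup_le (Subgroup.zpowers_le.2 (hRz r hr)) (Subgroup.zpowers_le.2 hv)
      have hry : (r : MulAut P) y = y := hle (hsup.symm ▸ hyW)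
      exact hrt (htzp r hr hry (hAx r hr hry))
    · haveI : W.Normal := ⟨fun a ha g => by rwa [hab g a, mul_inv_cancel_right]⟩
      obtain ⟨w, hw, _, ⟨i, rfl⟩, hwv⟩ := Subgroup.mem_sup_of_normal_left.1
        ((hsupv v hvW).symm ▸ Subgroup.mem_top e₀)
      have h1 : e₀⁻¹ * (r : MulAut P) e₀ = w⁻¹ * (r : MulAut P) w := by
        rw [← hwv, map_mul, map_zpow, hv, mul_inv_rev]
        calc (v ^ i)⁻¹ * w⁻¹ * ((r : MulAut P) w * v ^ i) = (v ^ i)⁻¹ * (w⁻¹ * (r : MulAut P) w) * v ^ i := by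
              group
          _ = _ := by rw [hab (v ^ i)⁻¹, inv_mul_cancel_right]
      have h2 : e₀⁻¹ * (r : MulAut P) e₀ ∈ Subgroup.zpowers z := h1 ▸ hβz r hr w hw
      by_cases hry : (r : MulAut P) y = y
      · exact hrt (htzp r hr hry h2)
      · exact hC r hr hry h2
  · by_contra hall
    push Not at hall
    have h1 := Subgroup.card_le_of_le (show (R : Subgroup A) ≤ Subgroup.zpowers t from hall)
    rw [Nat.card_zpowers, orderOf_eq_prime htp ht1] at h1
    omega
  · by_contra hall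
    push Not at hall
    haveI hn : (Subgroup.zpowers t).Normal := ⟨fun a ha g => by
      obtain ⟨i, rfl⟩ := ha
      show g * t ^ i * g⁻¹ ∈ _
      rw [← conj_zpow]
      exact zpow_mem (hall g) i⟩
    have hle := hO _ hn (IsPGroup.of_card (n := 1) (by
      rw [pow_one, Nat.card_zpowers, orderOf_eq_prime htp ht1]))
    obtain ⟨u, hu⟩ := hle (Subgroup.mem_zpowers t)
    refine ht1 (Subtype.ext (MulEquiv.ext fun v => ?_))
    show (t : MulAut P) v = v
    rw [← show MulAut.conj u = (t : MulAut P) from hu]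
    show u * v * u⁻¹ = v
    rw [hab u v, mul_inv_cancel_right]

end Cfsg.Lib.FusionSys.CubePlane
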