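import Cfsg.Agent.Lib.FusionSys.SectionFree
import Cfsg.Agent.Lib.FusionSys.FactorSat
import Cfsg.Agent.Lib.Coprime.Conjugacy

/-!
Models of normalizer systems in a factor system by a normal subgroup.
-/

set_option autoImplicit false
set_option linter.style.haveILetI false

universe u v w

namespace Cfsg.Lib.FusionSys

open Cfsg Cfsg.FusionSystem

variable {Ω : Type u} [Group Ω] {S : Subgroup Ω} {F : FusionSystem S} {p : ℕ}
variable {G : Type v} [Group G]

theorem eq_one_of_coprime [Finite G] [Fact p.Prime] {A K : Subgroup G} (hA : IsPGroup p A)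
    (hK : (Nat.card K).Coprime p) {x : G} (h1 : x ∈ A) (h2 : x ∈ K) : x = 1 := by
  obtain ⟨n, hn⟩ := IsPGroup.iff_card.1 hA
  have hc : (Nat.card A).Coprime (Nat.card K) := by
    rw [hn]; exact hK.symm.pow_left n
  exact Subgroup.disjoint_def.1 (Subgroup.disjoint_of_coprime_natCard hc) h1 h2

/-- A normal subgroup of order prime to `p` does not affect the realized system. -/
theorem isRealizedBy_mod [Finite S] [Finite G] [Fact p.Prime] (hS : IsPGroup p S) {ι : S →* G}
    (hr : F.IsRealizedBy ι) (K : Subgroup G) [K.Normal] (hK : (Nat.card K).Coprime p) :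
    F.IsRealizedBy ((QuotientGroup.mk' K).comp ι) := by
  have hR : IsPGroup p ι.range := hS.of_surjective ι.rangeRestrict ι.rangeRestrict_surjective
  refine ⟨?_, fun P hP φ hv => ⟨fun hφ => ?_, ?_⟩⟩
  · rw [injective_iff_map_eq_one]
    intro x hx
    refine hr.1 ((eq_one_of_coprime hR hK ⟨x, rfl⟩ ?_).trans ι.map_one.symm)
    exact (QuotientGroup.eq_one_iff _).1 hx
  · obtain ⟨g, hg⟩ := exists_of_realized hr hφ
    refine ⟨QuotientGroup.mk' K g, fun x => ?_⟩
    simp only [MonoidHom.comp_apply]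
    rw [hg x, map_mul, map_mul, map_inv]
  · rintro ⟨c, hc⟩
    obtain ⟨g, rfl⟩ := QuotientGroup.mk'_surjective K c
    let iP : P →* G := ι.comp (Subgroup.inclusion hP)
    let jP : P →* G := ι.comp (φ.codRestrict S hv)
    let cP : P →* G := (MulAut.conj g).toMonoidHom.comp iP
    have hmod : ∀ x : P, (jP x)⁻¹ * cP x ∈ K := fun x => QuotientGroup.eq.1 (by
      refine (hc x).trans ?_
      simp [cP, iP, MulAut.conj_apply]
      rfl)
    have hjK : jP.range ≤ Subgroup.normalizer (K : Set G) := by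
      rw [Subgroup.normalizer_eq_top]; exact le_top
    have hle : cP.range ≤ K ⊔ jP.range := by
      rintro _ ⟨x, rfl⟩
      have h := Subgroup.mul_mem _
        (Subgroup.mem_sup_right (S := K) (MonoidHom.mem_range.2 ⟨x, rfl⟩ : jP x ∈ jP.range))
        (Subgroup.mem_sup_left (T := jP.range) (hmod x))
      rwa [mul_inv_cancel_left] at h
    have hjp : IsPGroup p jP.range := hR.to_le (by rintro _ ⟨x, rfl⟩; exact ⟨_, rfl⟩)
    have hcp : IsPGroup p cP.range :=
      (hS.to_le hP).of_surjective cP.rangeRestrict cP.rangeRestrict_surjective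
    have hci : Function.Injective cP := (MulAut.conj g).injective.comp
      (hr.1.comp (Subgroup.inclusion_injective hP))
    have hji : Function.Injective jP := by
      rw [injective_iff_map_eq_one]
      intro x hx
      have hxK := hmod x
      rw [hx, inv_one, one_mul] at hxK
      exact hci ((eq_one_of_coprime hcp hK ⟨x, rfl⟩ hxK).trans cP.map_one.symm)
    have hcard : Nat.card cP.range = Nat.card jP.range := by
      rw [← Nat.card_congr (MonoidHom.ofInjective hci).toEquiv,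
        ← Nat.card_congr (MonoidHom.ofInjective hji).toEquiv]
    have hcop : (Nat.card jP.range).Coprime (Nat.card K) := by
      obtain ⟨n, hn⟩ := IsPGroup.iff_card.1 hjp
      rw [hn]; exact hK.symm.pow_left n
    haveI := hjp.isNilpotent
    obtain ⟨k, hk, hke⟩ := Cfsg.Lib.Coprime.exists_conj_of_coprime K jP.range cP.range hjK hcop
      (Or.inl inferInstance) hle hcard
    refine (hr.2 P hP φ hv).2 ⟨k⁻¹ * g, fun x => ?_⟩
    obtain ⟨_, ⟨y, rfl⟩, hy⟩ := hke.le ⟨x, rfl⟩
    have hy' : k * jP y * k⁻¹ = cP x := hy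
    have hyx : (jP x)⁻¹ * jP y ∈ K := by
      have h1 : (jP y)⁻¹ * (k * jP y * k⁻¹) ∈ K := by
        have := K.mul_mem (Subgroup.Normal.conj_mem ‹K.Normal› k hk (jP y)⁻¹) (K.inv_mem hk)
        rw [inv_inv] at this
        simpa [mul_assoc] using this
      rw [hy'] at h1
      have := K.mul_mem (hmod x) (K.inv_mem h1)
      simpa [mul_assoc] using this
    have hd : (jP x)⁻¹ * jP y = 1 :=
      eq_one_of_coprime hjp hK (Subgroup.mul_mem _ (Subgroup.inv_mem _ ⟨x, rfl⟩) ⟨y, rfl⟩) hyx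
    show jP x = k⁻¹ * g * iP x * (k⁻¹ * g)⁻¹
    have he : k * jP x * k⁻¹ = g * iP x * g⁻¹ := by
      rw [inv_mul_eq_one.1 hd]
      exact hy'
    calc jP x = k⁻¹ * (k * jP x * k⁻¹) * k := by group
      _ = _ := by rw [he]; group

/-- A realized system with a normal `p`-subgroup containing its centralizer in `S` has a model. -/
theorem isModel_mod_pPrimeCore [Finite S] [Finite G] [Fact p.Prime] (hS : IsPGroup p S)
    {ι : S →* G} (hr : F.IsRealizedBy ι) (hT : ∃ T : Sylow p G, (T : Subgroup G) = ι.range)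
    {U : Subgroup Ω} (hUS : U ≤ S) (hn : (imageOf ι U).Normal) (hU : centralizerIn S U ≤ U) :
    F.IsModel p (G ⧸ pPrimeCore p G) ((QuotientGroup.mk' (pPrimeCore p G)).comp ι) := by
  have hKcop := Cfsg.Lib.Core.pPrimeCore_coprime p G
  obtain ⟨T, hT⟩ := hT
  have hmk : Function.Surjective (QuotientGroup.mk' (pPrimeCore p G)) :=
    QuotientGroup.mk'_surjective _
  refine ⟨inferInstance, isRealizedBy_mod hS hr _ hKcop, ⟨T.mapSurjective hmk, ?_⟩, ?_⟩
  · rw [Sylow.coe_mapSurjective, hT, MonoidHom.map_range]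
  set Us := imageOf ι U with hUs
  set D := Subgroup.centralizer (Us : Set G) with hD
  haveI := hn
  haveI hDn : D.Normal := Subgroup.normal_centralizer (H := Us)
  have hUp : IsPGroup p Us := (hS.to_subgroup _).map ι
  -- `p`-subgroups of `D` lie in `Us`
  have hpD : ∀ A : Subgroup G, A ≤ D → IsPGroup p A → A ≤ Us := by
    intro A hAD hA a ha
    obtain ⟨T₁, hT₁⟩ := hA.exists_le_sylow
    obtain ⟨g, hg⟩ := MulAction.exists_smul_eq G T₁ T
    have h1 : MulAut.conj g a ∈ ((g • T₁ : Sylow p G) : Subgroup G) := ⟨a, hT₁ ha, rfl⟩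
    rw [hg, hT] at h1
    obtain ⟨x, hx⟩ := h1
    have h2 : MulAut.conj g a ∈ D := hDn.conj_mem _ (hAD ha) g
    have hxU : (x : Ω) ∈ U := hU (mem_centralizerIn.2 ⟨x.2, fun y hy => by
      have h3 := Subgroup.mem_centralizer_iff.1 h2 (ι ⟨y, hUS hy⟩) ⟨⟨y, hUS hy⟩, hy, rfl⟩
      rw [← hx, ← map_mul, ← map_mul] at h3
      exact (congrArg Subtype.val (hr.1 h3)).symm⟩)
    have h4 : MulAut.conj g a ∈ Us := ⟨x, hxU, hx⟩
    simpa [MulAut.conj_apply, mul_assoc] using hn.conj_mem _ h4 g⁻¹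
  -- the centralizer is its central Sylow subgroup times a group of order prime to `p`
  have hDle : D ≤ Us ⊔ pPrimeCore p G := by
    obtain ⟨R⟩ : Nonempty (Sylow p D) := inferInstance
    set Z : Subgroup D := Us.subgroupOf D with hZ
    have hRZ : (R : Subgroup D) = Z := by
      refine le_antisymm (fun x hx => hpD _ (Subgroup.map_subtype_le _) (R.isPGroup'.map D.subtype)
        ⟨x, hx, rfl⟩) ?_
      have hZp : IsPGroup p Z := hUp.comap_of_injective D.subtype Subtype.val_injective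
      obtain ⟨R', hR'⟩ := hZp.exists_le_sylow
      have h1 : (R' : Subgroup D) ≤ Z := fun x hx =>
        hpD _ (Subgroup.map_subtype_le _) (R'.isPGroup'.map D.subtype) ⟨x, hx, rfl⟩
      have h2 : (R : Subgroup D) ≤ Z := fun x hx =>
        hpD _ (Subgroup.map_subtype_le _) (R.isPGroup'.map D.subtype) ⟨x, hx, rfl⟩
      refine (Subgroup.eq_of_le_of_card_ge h2 ?_).ge
      rw [← le_antisymm h1 hR', R'.card_eq_multiplicity, R.card_eq_multiplicity]
    haveI : Z.Normal := Subgroup.Normal.subgroupOf hn D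
    have hcop : Nat.Coprime (Nat.card Z) Z.index := by
      rw [← hRZ]; exact R.card_coprime_index
    obtain ⟨C, hC⟩ := Subgroup.exists_right_complement'_of_coprime hcop
    have hCn : C.Normal := by
      refine ⟨fun c hc d => ?_⟩
      obtain ⟨⟨⟨z, hz⟩, ⟨e, he⟩⟩, rfl⟩ := hC.2 d
      have hzc : ∀ y : D, z * y = y * z := fun y =>
        Subtype.ext (Subgroup.mem_centralizer_iff.1 y.2 _ hz)
      have h1 : z * (e * c * e⁻¹) * z⁻¹ = e * c * e⁻¹ := by
        rw [hzc, mul_inv_cancel_right]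
      have h2 : z * e * c * (z * e)⁻¹ = e * c * e⁻¹ := by
        rw [← h1]; group
      rw [h2]
      exact C.mul_mem (C.mul_mem he hc) (C.inv_mem he)
    have hCcop : (Nat.card C).Coprime p := by
      have h1 : Nat.card C = Z.index := (hC.symm.index_eq_card).symm
      rw [h1]
      exact ((Fact.out : p.Prime).coprime_iff_not_dvd.2 (hRZ ▸ R.not_dvd_index)).symm
    have hCle : C.map D.subtype ≤ pPrimeCore p G := by
      refine le_trans (Subgroup.map_mono (Cfsg.Lib.Core.le_pPrimeCore' hCn hCcop)) ?_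
      exact Cfsg.Lib.Core.pPrimeCore_map_le_of_isSubnormal (Subgroup.Normal.isSubnormal hDn)
    intro d hd
    obtain ⟨⟨⟨z, hz⟩, ⟨e, he⟩⟩, hze⟩ := hC.2 ⟨d, hd⟩
    have hd' : (z : G) * (e : G) = d := congrArg Subtype.val hze
    rw [← hd']
    exact Subgroup.mul_mem _ (Subgroup.mem_sup_left hz)
      (Subgroup.mem_sup_right (hCle ⟨e, he, rfl⟩))
  have hUcore : Us.map (QuotientGroup.mk' (pPrimeCore p G)) ≤ pCore p (G ⧸ pPrimeCore p G) :=
    Cfsg.Lib.Core.le_pCore' (Subgroup.Normal.map hn _ hmk) (hUp.map _)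
  refine le_trans (Subgroup.centralizer_le hUcore) (le_trans ?_ hUcore)
  intro c hc
  obtain ⟨c, rfl⟩ := hmk c
  have hcD : c ∈ D := by
    rw [hD, Subgroup.mem_centralizer_iff]
    intro y hy
    have h1 : y⁻¹ * (c * y * c⁻¹) ∈ pPrimeCore p G := QuotientGroup.eq.1 (by
      have := Subgroup.mem_centralizer_iff.1 hc _ ⟨y, hy, rfl⟩
      simp only [QuotientGroup.mk'_apply, QuotientGroup.mk_mul, QuotientGroup.mk_inv] at this ⊢
      rw [← this, mul_inv_cancel_right])
    have h2 := eq_one_of_coprime hUp hKcop (Us.mul_mem (Us.inv_mem hy) (hn.conj_mem _ hy c)) h1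
    have h3 := inv_mul_eq_one.1 h2
    calc y * c = c * y * c⁻¹ * c := by rw [← h3]
      _ = c * y := by group
  have := Subgroup.mem_map_of_mem (QuotientGroup.mk' (pPrimeCore p G)) (hDle hcD)
  rw [Subgroup.map_sup, QuotientGroup.map_mk'_self, sup_bot_eq] at this
  exact this

variable {Q : Subgroup Ω} {Ω' : Type w} [Group Ω'] {S' : Subgroup Ω'} {θ : S →* Ω'}
variable {E : FusionSystem S'} {U' : Subgroup Ω'}

theorem isCentric_preimage [Finite S] (hQ : F.StronglyClosed Q) (hE : F.IsFactorSystem Q θ E)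
    (hc : E.IsCentric U') : F.IsCentric (preimageAlong θ U') := by
  obtain ⟨-, hker, hrange, hiff⟩ := hE
  refine ⟨preimageAlong_le, ?_⟩
  rintro _ ⟨φ, hφ, rfl⟩ c hc'
  obtain ⟨hcS, hcc⟩ := mem_centralizerIn.1 hc'
  obtain ⟨φ', hφ'⟩ := exists_induced hQ hker hrange hc.1 hφ
  have hmem : φ' ∈ E.Hom U' := (hiff _ _).2 ⟨hc.1, φ, hφ, hφ'⟩
  obtain ⟨y, hy⟩ := hc.2 _ ⟨φ', hmem, rfl⟩ (mem_centralizerIn.2
    ⟨hrange.le ⟨⟨c, hcS⟩, rfl⟩, by
      rintro _ ⟨y, rfl⟩
      obtain ⟨x, hx⟩ := exists_lift_val hrange hc.1 y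
      rw [inducedAlong_apply hφ' hx.symm (hx' := hom_mem hφ x), ← map_mul, ← map_mul]
      exact congrArg θ (Subtype.ext (hcc _ ⟨x, rfl⟩))⟩)
  obtain ⟨x, hx⟩ := exists_lift_val hrange hc.1 y
  rw [inducedAlong_apply hφ' hx.symm (hx' := hom_mem hφ x)] at hy
  have hd : (φ x)⁻¹ * c ∈ Q := (hker (⟨φ x, hom_mem hφ x⟩⁻¹ * ⟨c, hcS⟩)).1 (by
    rw [map_mul, map_inv, hy, inv_mul_cancel])
  have hQP := kernel_le_preimageAlong (P' := U') hQ.1 hker
  obtain ⟨u, hu⟩ := (range_eq_of_card_le (restrict_mem hφ hQP) hQ.1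
    (fun y => stronglyClosed_apply_mem hQ hφ (x := Subgroup.inclusion hQP y) y.2) le_rfl).ge hd
  refine ⟨x * Subgroup.inclusion hQP u, ?_⟩
  rw [map_mul, ← mul_inv_cancel_left (φ x) c]
  exact congrArg (φ x * ·) hu

/-- A model of the normalizer of a centric subgroup of a factor system is a quotient of a model
upstairs. -/
theorem exists_factor_model [Finite S] [Fact p.Prime] (hS : IsPGroup p S) (hF : F.IsSaturated p)
    (hQ : F.IsNormal Q) (hE : F.IsFactorSystem Q θ E) (hn : E.IsFullyNormalized U')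
    (hc : E.IsCentric U') {M : FusionSystem (normalizerIn S' U')}
    (hM : E.IsNormalizerSystem U' M) :
    ∃ (N : FusionSystem (normalizerIn S (preimageAlong θ U')))
      (_ : F.IsNormalizerSystem (preimageAlong θ U') N) (L : Type u) (_ : Group L)
      (ι : normalizerIn S (preimageAlong θ U') →* L) (_ : N.IsModel p L ι) (L' : Type u)
      (_ : Group L') (f : L →* L'), Function.Surjective f ∧
      ∃ ι' : normalizerIn S' U' →* L', M.IsModel p L' ι' := by
  set U := preimageAlong θ U' with hUdef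
  have hQsc := isNormal_stronglyClosed hQ
  obtain ⟨N, hN, L, hLg, ι, hL⟩ := exists_normalizer_model hS hF
    (isFullyNormalized_preimage hQsc hE hn) (isCentric_preimage hQsc hE hc)
  obtain ⟨-, hker, hrange, hiff⟩ := hE
  haveI := hL.1
  obtain ⟨⟨hinj, hLiff⟩, ⟨T₀, hT₀⟩⟩ := And.intro hL.2.1 hL.2.2.1
  have hUS : U ≤ S := preimageAlong_le
  have hQU : Q ≤ U := kernel_le_preimageAlong hQ.1 hker
  have hUN : U ≤ normalizerIn S U := le_normalizerIn hUS
  have hU'N : U' ≤ normalizerIn S' U' := le_normalizerIn hn.1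
  have hNS := normalizerIn_le (S := S) U
  have hN'S := normalizerIn_le (S := S') U'
  have hUsc := isNormal_stronglyClosed (isNormal_normalizerSystem hUS hN)
  have hQN : N.IsNormal Q := by
    refine ⟨hQU.trans hUN, fun P φ hφ => ?_⟩
    obtain ⟨hφF, hP, hv, ψ, hψ, hψe, hψU⟩ := (mem_normalizerSystem hN).1 hφ
    have hψN := mem_normalizerSystem_of_le hN hψ le_sup_right (sup_le hP hUN) hψU
    refine ⟨_, restrict_mem hψN (sup_le_sup_left hQU P), fun x => hψe x, ?_⟩
    have hQle : Q ≤ P ⊔ Q := le_sup_right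
    haveI := finite_of_le hQ.1
    set r := ψ.comp (Subgroup.inclusion (sup_le_sup_left hQU P)) with hr
    have hrF : r ∈ F.Hom (P ⊔ Q) := restrict_mem hψ _
    refine (Eq.trans ?_ (range_eq_of_card_le (restrict_mem hrF hQle) hQ.1
      (fun y => stronglyClosed_apply_mem hQsc hrF (x := Subgroup.inclusion hQle y) y.2) le_rfl))
    ext y
    rw [mem_map_subgroupOf]
    exact ⟨fun ⟨x, _, hxQ, he⟩ => ⟨⟨x, hxQ⟩, he⟩, fun ⟨x, he⟩ => ⟨x, hQle x.2, x.2, he⟩⟩
  -- the quotient of the model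
  let QL := imageOf ι Q
  haveI hQLn : QL.Normal := imageOf_normal hL hQN
  let π := QuotientGroup.mk' QL
  let f₀ : normalizerIn S U →* normalizerIn S' U' :=
    (θ.comp (Subgroup.inclusion hNS)).codRestrict (normalizerIn S' U')
      fun x => ⟨hrange.le ⟨_, rfl⟩, (conj_induced hker hrange hn.1 ⟨x, x.2.1⟩).1 x.2.2⟩
  have hf₀ : Function.Surjective f₀ := by
    intro y
    obtain ⟨x, hx⟩ := hrange.ge y.2.1
    refine ⟨⟨x, x.2, (conj_induced hker hrange hn.1 x).2 ?_⟩, Subtype.ext hx⟩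
    rw [hx]; exact y.2.2
  have hf₀ker : ∀ x, f₀ x = 1 ↔ (x : Ω) ∈ Q := fun x => by
    rw [← hker ⟨x, x.2.1⟩]
    exact ⟨congrArg Subtype.val, fun h => Subtype.ext h⟩
  have hπker : ∀ x, π (ι x) = 1 ↔ (x : Ω) ∈ Q := by
    intro x
    rw [show π (ι x) = ((ι x : L) : L ⧸ QL) from rfl, QuotientGroup.eq_one_iff]
    constructor
    · rintro ⟨z, hz, he⟩
      rw [← hinj he]; exact hz
    · exact fun hx => ⟨x, hx, rfl⟩
  let ι' : normalizerIn S' U' →* L ⧸ QL :=
    f₀.liftOfSurjective hf₀ ⟨π.comp ι, fun x hx => (hπker x).2 ((hf₀ker x).1 hx)⟩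
  have hι' : ∀ x, ι' (f₀ x) = π (ι x) := fun x =>
    MonoidHom.liftOfRightInverse_comp_apply f₀ _ _ ⟨π.comp ι, _⟩ x
  have hι'inj : Function.Injective ι' := by
    rw [injective_iff_map_eq_one]
    intro y hy
    obtain ⟨x, rfl⟩ := hf₀ y
    rw [hι'] at hy
    exact (hf₀ker x).2 ((hπker x).1 hy)
  have hUL : (imageOf ι' U') = (imageOf ι U).map π := by
    ext y
    constructor
    · rintro ⟨z, hz, rfl⟩
      obtain ⟨x, rfl⟩ := hf₀ z
      exact ⟨ι x, ⟨x, mem_preimageAlong.2 ⟨x.2.1, hz⟩, rfl⟩, (hι' x).symm⟩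
    · rintro ⟨_, ⟨x, hx, rfl⟩, rfl⟩
      exact ⟨f₀ x, (mem_preimageAlong.1 hx).2, hι' x⟩
  have hULn : (imageOf ι U).Normal := imageOf_normal hL (isNormal_normalizerSystem hUS hN)
  have hULn' : (imageOf ι' U').Normal :=
    hUL ▸ Subgroup.Normal.map hULn π (QuotientGroup.mk'_surjective QL)
  have hQLle : QL ≤ ι.range := Subgroup.map_le_range _ _
  have hreal : M.IsRealizedBy ι' := by
    refine ⟨hι'inj, fun P' hP' φ' hv => ?_⟩
    set W := preimageAlong θ (P' ⊔ U') with hW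
    have hsupS : P' ⊔ U' ≤ S' := sup_le (hP'.trans hN'S) hn.1
    have hWN : W ≤ normalizerIn S U := fun x hx => by
      obtain ⟨hxS, hxW⟩ := mem_preimageAlong.1 hx
      exact ⟨hxS, (conj_induced hker hrange hn.1 ⟨x, hxS⟩).2 (sup_le hP' hU'N hxW).2⟩
    have hUW : U ≤ W := fun x hx => by
      obtain ⟨hxS, hxU⟩ := mem_preimageAlong.1 hx
      exact mem_preimageAlong.2 ⟨hxS, Subgroup.mem_sup_right hxU⟩
    have hliftP : ∀ y : P', ∃ x : W, θ ⟨x, preimageAlong_le x.2⟩ = y := fun y =>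
      exists_lift_val hrange hsupS ⟨y, Subgroup.mem_sup_left y.2⟩
    constructor
    · intro hφ'
      obtain ⟨-, -, -, ψ', hψ', hψ'e, hψ'U⟩ := (mem_normalizerSystem hM).1 hφ'
      obtain ⟨-, ψ, hψ, hind⟩ := (hiff _ _).1 hψ'
      have hψU : (U.subgroupOf W).map ψ = U := by
        haveI := finite_of_le hUS
        refine Eq.trans ?_ (range_eq_of_card_le (restrict_mem hψ hUW) hUS ?_ le_rfl)
        · ext y
          rw [mem_map_subgroupOf]
          exact ⟨fun ⟨x, _, hxU, he⟩ => ⟨⟨x, hxU⟩, he⟩, fun ⟨x, he⟩ => ⟨x, hUW x.2, x.2, he⟩⟩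
        · intro x
          refine mem_preimageAlong.2 ⟨hom_mem hψ _, ?_⟩
          have hxU := (mem_preimageAlong.1 x.2).2
          show θ ⟨ψ (Subgroup.inclusion hUW x), hom_mem hψ _⟩ ∈ U'
          rw [← inducedAlong_apply hind (x := Subgroup.inclusion hUW x)
            (y := ⟨_, Subgroup.mem_sup_right hxU⟩) rfl]
          exact hψ'U.le (mem_map_subgroupOf.2 ⟨_, Subgroup.mem_sup_right hxU, hxU, rfl⟩)
      have hψN := mem_normalizerSystem_of_le hN hψ hUW hWN hψU
      obtain ⟨g, hg⟩ := exists_of_realized hL.2.1 hψN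
      refine ⟨π g, fun y => ?_⟩
      obtain ⟨x, hx⟩ := hliftP y
      have h1 : f₀ ⟨x, hWN x.2⟩ = ⟨y, hP' y.2⟩ := Subtype.ext hx
      have h2 : f₀ ⟨ψ x, hom_mem hψN x⟩ = ⟨φ' y, hv y⟩ := Subtype.ext (by
        show θ ⟨ψ x, _⟩ = φ' y
        rw [← hψ'e y]
        exact (inducedAlong_apply hind (x := x)
          (y := Subgroup.inclusion le_sup_left y) hx.symm).symm)
      rw [← h1, ← h2, hι', hι', hg x, map_mul, map_mul, map_inv]
    · rintro ⟨c, hc'⟩
      obtain ⟨g, rfl⟩ := QuotientGroup.mk'_surjective QL c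
      have hgen : ((P' ⊔ U').subgroupOf (normalizerIn S' U')).map
          ((MulAut.conj (π g)).toMonoidHom.comp ι') ≤ ι'.range := by
        rw [Subgroup.subgroupOf_sup hP' hU'N, Subgroup.map_sup, sup_le_iff]
        refine ⟨?_, ?_⟩
        · rintro _ ⟨x, hx, rfl⟩
          exact ⟨_, hc' ⟨x, hx⟩⟩
        · rintro _ ⟨x, hx, rfl⟩
          obtain ⟨y, -, hy⟩ := hULn'.conj_mem _ ⟨x, hx, rfl⟩ (π g)
          exact ⟨y, hy⟩
      have hgW : ∀ x : W, g * ι ⟨x, hWN x.2⟩ * g⁻¹ ∈ ι.range := by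
        intro x
        obtain ⟨y, hy⟩ := hgen ⟨f₀ ⟨x, hWN x.2⟩, (mem_preimageAlong.1 x.2).2, rfl⟩
        obtain ⟨z, rfl⟩ := hf₀ y
        have h1 : π (g * ι ⟨x, hWN x.2⟩ * g⁻¹) = π (ι z) := by
          rw [← hι' z, hy, map_mul, map_mul, map_inv, ← hι']
          rfl
        have h2 := hQLle (QuotientGroup.eq.1 h1.symm)
        have h3 := Subgroup.mul_mem _ (MonoidHom.mem_range.2 ⟨z, rfl⟩ : ι z ∈ ι.range) h2
        rwa [mul_inv_cancel_left] at h3
      obtain ⟨ψ, hψN, hψe⟩ := exists_hom_of_realized hL.2.1 hWN g hgW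
      have hψ := subset_of_normalizerSystem hN hψN
      obtain ⟨ψ', hind⟩ := exists_induced hQsc hker hrange hsupS hψ
      have hψ'E : ψ' ∈ E.Hom (P' ⊔ U') := (hiff _ _).2 ⟨hsupS, ψ, hψ, hind⟩
      have hagree : ∀ y : P', ψ' (Subgroup.inclusion le_sup_left y) = φ' y := by
        intro y
        obtain ⟨x, hx⟩ := hliftP y
        rw [inducedAlong_apply hind (x := x) (y := Subgroup.inclusion le_sup_left y) hx.symm
          (hx' := hom_mem hψ x)]
        have h1 : f₀ ⟨x, hWN x.2⟩ = ⟨y, hP' y.2⟩ := Subtype.ext hx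
        have h2 : ι' (f₀ ⟨ψ x, hom_mem hψN x⟩) = ι' ⟨φ' y, hv y⟩ := by
          rw [hι', hψe x, map_mul, map_mul, map_inv, ← hι', h1, hc' y]
        exact congrArg Subtype.val (hι'inj h2)
      refine (mem_normalizerSystem hM).2 ⟨hom_congr (restrict_mem hψ'E le_sup_left)
        (fun y => (hagree y).symm), hP', hv, ψ', hψ'E, hagree, ?_⟩
      haveI : Finite S' := hrange ▸ Finite.of_surjective _ θ.rangeRestrict_surjective
      refine Eq.trans ?_ (range_eq_of_card_le (restrict_mem hψ'E le_sup_right) hn.1 ?_ le_rfl)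
      · ext y
        rw [mem_map_subgroupOf]
        exact ⟨fun ⟨x, _, hxU, he⟩ => ⟨⟨x, hxU⟩, he⟩,
          fun ⟨x, he⟩ => ⟨x, Subgroup.mem_sup_right x.2, x.2, he⟩⟩
      · intro y
        obtain ⟨x, hx⟩ := exists_lift_val hrange hn.1 y
        have h1 : ψ ⟨x, hUW x.2⟩ ∈ U :=
          stronglyClosed_apply_mem hUsc hψN (x := ⟨x, hUW x.2⟩) x.2
        show ψ' (Subgroup.inclusion le_sup_right y) ∈ U'
        rw [inducedAlong_apply hind (x := ⟨x, hUW x.2⟩) (y := Subgroup.inclusion le_sup_right y)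
          hx.symm (hx' := hom_mem hψ _)]
        exact (mem_preimageAlong.1 h1).2
  haveI : Finite S' := hrange ▸ Finite.of_surjective _ θ.rangeRestrict_surjective
  haveI := finite_of_le hN'S
  have hS' : IsPGroup p S' := hrange ▸ hS.of_surjective θ.rangeRestrict θ.rangeRestrict_surjective
  have hsyl : ∃ T : Sylow p (L ⧸ QL), (T : Subgroup (L ⧸ QL)) = ι'.range := by
    refine ⟨T₀.mapSurjective (QuotientGroup.mk'_surjective QL), ?_⟩
    rw [Sylow.coe_mapSurjective, hT₀, MonoidHom.map_range]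
    ext y
    exact ⟨fun ⟨x, hx⟩ => ⟨f₀ x, (hι' x).trans hx⟩, fun ⟨z, hz⟩ => by
      obtain ⟨x, rfl⟩ := hf₀ z
      exact ⟨x, (hι' x).symm.trans hz⟩⟩
  refine ⟨N, hN, L, hLg, ι, hL, _, inferInstance,
    (QuotientGroup.mk' (pPrimeCore p (L ⧸ QL))).comp π,
    (QuotientGroup.mk'_surjective _).comp (QuotientGroup.mk'_surjective QL), _,
    isModel_mod_pPrimeCore (hS'.to_le hN'S) hreal hsyl hU'N hULn' ?_⟩
  intro x hx
  obtain ⟨hx1, hx2⟩ := mem_centralizerIn.1 hx
  exact hc.2 U' (isConj_refl E hn.1) (mem_centralizerIn.2 ⟨hN'S hx1, hx2⟩)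

theorem isSectionFree_factor [Finite S] [Fact p.Prime] {H : Type*} [Group H] (hS : IsPGroup p S)
    (hF : F.IsSaturated p) (hQ : F.IsNormal Q) (hE : F.IsFactorSystem Q θ E)
    (hfree : F.IsSectionFree p H) : E.IsSectionFree p H := by
  intro U' hn hc M hM L₂ _ ι₂ hL₂ hinv
  obtain ⟨N, hN, L, hLg, ι, hL, L', hL'g, f, hf, ι', hL'⟩ :=
    exists_factor_model hS hF hQ hE hn hc hM
  have hrange := hE.2.2.1
  haveI : Finite S' := hrange ▸ Finite.of_surjective _ θ.rangeRestrict_surjective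
  haveI := finite_of_le (normalizerIn_le (S := S') U')
  have hS' : IsPGroup p S' := hrange ▸ hS.of_surjective θ.rangeRestrict θ.rangeRestrict_surjective
  obtain ⟨e, -⟩ := exists_model_equiv (hS'.to_le (normalizerIn_le U')) (isConstrained_of_isModel hL')
    hL₂ hL'
  have hQsc := isNormal_stronglyClosed hQ
  exact hfree _ (isFullyNormalized_preimage hQsc hE hn) (isCentric_preimage hQsc hE hc) N hN L ι hL
    (involves_of_surjective hf (involves_of_injective (f := e.toMonoidHom) e.injective hinv))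

end Cfsg.Lib.FusionSys
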