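import Cfsg.Agent.Lib.FusionSys.CentralPart
import Cfsg.Agent.Lib.FusionSys.FactorModel

/-!
Descent tools: a normal subgroup for a system from local data.
-/

set_option autoImplicit false
set_option linter.style.haveILetI false

universe u v w

namespace Cfsg.Lib.FusionSys

open Cfsg Cfsg.FusionSystem
open scoped commutatorElement

variable {Ω : Type u} [Group Ω] {S : Subgroup Ω} {F E : FusionSystem S} {p : ℕ}
  {Q T U : Subgroup Ω}

theorem le_normalizer_of_char {U T : Subgroup Ω} (hUT : U ≤ T)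
    (h : (U.subgroupOf T).Characteristic) :
    Subgroup.normalizer (T : Set Ω) ≤ Subgroup.normalizer (U : Set Ω) := by
  have hstep : ∀ g ∈ Subgroup.normalizer (T : Set Ω), ∀ x ∈ U, g * x * g⁻¹ ∈ U := by
    intro g hg x hx
    have h1 := (Subgroup.characteristic_iff_map_eq.1 h (conjAut T hg)).le ⟨⟨x, hUT hx⟩, hx, rfl⟩
    exact h1
  intro g hg
  rw [Subgroup.mem_normalizer_iff]
  refine fun x => ⟨hstep g hg x, fun hx => ?_⟩
  simpa [mul_assoc] using hstep g⁻¹ ((Subgroup.normalizer (T : Set Ω)).inv_mem hg) _ hx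

theorem isNormal_of_le_normalizerHom (hTS : T ≤ S) (h : ∀ P, F.Hom P ⊆ F.normalizerHom T P) :
    F.IsNormal T := ⟨hTS, fun P _ hφ => (h P hφ).2.2.2⟩

theorem normalizerHom_of_isNormal (hT : F.IsNormal T) {P : Subgroup Ω} {φ : P →* Ω}
    (hφ : φ ∈ F.Hom P) : φ ∈ F.normalizerHom T P := by
  have hN := normalizerIn_eq_self (stronglyClosed_le_normalizer (isNormal_stronglyClosed hT))
  refine ⟨hφ, ?_, fun x => ?_, hT.2 P φ hφ⟩
  · rw [hN]; exact hom_le hφ
  · rw [hN]; exact hom_mem hφ x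

/-- If the normalizers of nontrivial subgroups push up to subgroups with larger normalizers,
then a system is the normalizer of a subgroup normal in `S`. -/
theorem le_of_local [Finite S] [Fact p.Prime] (hS : IsPGroup p S) (hF : F.IsSaturated p)
    (D : FusionSystem S)
    (htop : ∀ U : Subgroup Ω, F.IsFullyNormalized U → U ≠ ⊥ → normalizerIn S U = S →
      ∀ R, F.normalizerHom U R ⊆ D.Hom R)
    (hloc : ∀ U : Subgroup Ω, F.IsFullyNormalized U → U ≠ ⊥ → normalizerIn S U ≠ S →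
      ∃ W : Subgroup Ω, W ≤ S ∧ W ≠ ⊥ ∧ normalizerIn S U < normalizerIn S W ∧
        ∀ R, F.normalizerHom U R ⊆ F.normalizerHom W R) : F ≤ D := by
  refine le_of_autGroup_le' hS hF D fun P hP hbig α hα => ?_
  have hPn : F.IsFullyNormalized P := by
    rcases hP with rfl | h
    exacts [isFullyNormalized_top F, h.2.1]
  have hPS := hPn.1
  refine (mem_autGroup hPS).2 ?_
  have hi : IsoIn F α := (mem_autGroup hPS).1 hα
  by_cases hbot : P = ⊥
  · refine hom_congr (subtype_mem D hPS) fun x => ?_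
    have hx : x = 1 := Subtype.ext (Subgroup.mem_bot.1 (hbot.le x.2))
    subst hx
    simp
  suffices key : ∀ (m : ℕ) (U : Subgroup Ω), F.IsFullyNormalized U → U ≠ ⊥ →
      Nat.card S < Nat.card (normalizerIn S U) + m → ∀ R : Subgroup Ω, Nat.card P ≤ Nat.card R →
        F.normalizerHom U R ⊆ D.Hom R by
    refine key (Nat.card S + 1) P hPn hbot (by omega) P le_rfl ?_
    refine ⟨hi, le_normalizerIn hPS, fun x => le_normalizerIn hPS (α x).2, _,
      restrict_mem hi (sup_le le_rfl le_rfl), fun x => rfl, ?_⟩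
    refine range_restrict_eq hPS (restrict_mem hi (sup_le le_rfl le_rfl)) le_sup_right ?_
    exact fun x hx => (α _).2
  intro m
  induction m with
  | zero =>
    intro U _ _ hlt
    exact absurd (card_le_of_le (normalizerIn_le (S := S) U)) (by omega)
  | succ m ih =>
    intro U hUn hU hlt R hR φ hφ
    by_cases hT : normalizerIn S U = S
    · exact htop U hUn hU hT R hφ
    obtain ⟨W, hWS, hW, hTW, hinc⟩ := hloc U hUn hU hT
    obtain ⟨W₂, hconj, hn₂⟩ := exists_isFullyNormalized F hWS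
    obtain ⟨χ, hχ, hχv, hχW⟩ := exists_map_to_fn hS hF hn₂ hconj
    haveI := finite_of_le (normalizerIn_le (S := S) W)
    have hcard : Nat.card (normalizerIn S U) < Nat.card (normalizerIn S W) := by
      refine lt_of_le_of_ne (card_le_of_le hTW.le) fun he => hTW.ne ?_
      exact Subgroup.eq_of_le_of_card_ge hTW.le he.ge
    haveI := finite_of_le (normalizerIn_le (S := S) U)
    have hRT : R ≤ normalizerIn S U := hφ.2.1
    have hRc : Nat.card R ≤ Nat.card (normalizerIn S U) := card_le_of_le hRT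
    have hχD : χ ∈ D.Hom (normalizerIn S W) := hbig _ (by omega) hχ
    obtain ⟨-, hRW, -, ψ, hψ, hψe, hψW⟩ := hinc R hφ
    have hX : (R ⊔ W : Subgroup Ω) ≤ normalizerIn S W := sup_le hRW (le_normalizerIn hWS)
    have hψv : ∀ x : (R ⊔ W : Subgroup Ω), ψ x ∈ normalizerIn S W := fun x => by
      refine ⟨hom_mem hψ x, ?_⟩
      show ψ x ∈ Subgroup.normalizer (W : Set Ω)
      have h1 := map_mem_normalizer (Q := W) ψ x (hX x.2).2
      rwa [hψW] at h1
    let cX : (R ⊔ W : Subgroup Ω) →* Ω := χ.comp (Subgroup.inclusion hX)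
    have hcX : cX ∈ F.Hom (R ⊔ W : Subgroup Ω) := restrict_mem hχ hX
    have hcXD : cX ∈ D.Hom (R ⊔ W : Subgroup Ω) := restrict_mem hχD hX
    obtain ⟨η, hη, hηr, hηe⟩ := exists_inv hcX (rfl : cX.range = cX.range)
    have hηv : ∀ y, η y ∈ (R ⊔ W : Subgroup Ω) := fun y => hηr.le ⟨y, rfl⟩
    have h1 := F.comp_mem hη hψ hηv
    set θ₁ := ψ.comp (η.codRestrict (R ⊔ W : Subgroup Ω) hηv)
    have hθ₁v : ∀ y, θ₁ y ∈ normalizerIn S W := fun y => hψv _
    have h2 := F.comp_mem h1 hχ hθ₁v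
    set θ := χ.comp (θ₁.codRestrict (normalizerIn S W) hθ₁v)
    have hθe : ∀ x : (R ⊔ W : Subgroup Ω), θ ⟨cX x, x, rfl⟩ = χ ⟨ψ x, hψv x⟩ := fun x => by
      show χ ⟨ψ ⟨η ⟨cX x, _⟩, _⟩, _⟩ = _
      congr 2
      exact congrArg (fun z : (R ⊔ W : Subgroup Ω) => ψ z) (Subtype.ext (hηe x ⟨x, rfl⟩))
    have hW₂le : W₂ ≤ cX.range := by
      intro z hz
      obtain ⟨x, hx, hxW, rfl⟩ := mem_map_subgroupOf.1 (hχW.ge hz)
      exact ⟨⟨x, Subgroup.mem_sup_right hxW⟩, rfl⟩
    have hθN : θ ∈ F.normalizerHom W₂ cX.range := by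
      refine ⟨h2, fun z hz => ?_, fun y => hχv _, _, restrict_mem h2 (sup_le le_rfl hW₂le),
        fun x => rfl, range_restrict_eq hn₂.1 (restrict_mem h2 (sup_le le_rfl hW₂le)) le_sup_right ?_⟩
      · obtain ⟨x, rfl⟩ := hz
        exact hχv _
      · intro z hz
        obtain ⟨x, hx, hxW, rfl⟩ := mem_map_subgroupOf.1 (hχW.ge hz)
        show θ ⟨cX ⟨x, Subgroup.mem_sup_right hxW⟩, _⟩ ∈ W₂
        rw [hθe]
        exact hχW.le (mem_map_subgroupOf.2 ⟨_, _,
          hψW.le (mem_map_subgroupOf.2 ⟨x, _, hxW, rfl⟩), rfl⟩)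
    have hrc : Nat.card R ≤ Nat.card cX.range := by
      rw [card_range hcX]
      haveI := finite_of_le (hX.trans (normalizerIn_le W))
      exact card_le_of_le le_sup_left
    have hW₂ : W₂ ≠ ⊥ := by
      intro h
      refine hW (Subgroup.eq_bot_of_card_eq _ ?_)
      rw [card_eq_of_isConj hconj, h, Subgroup.card_bot]
    have hbigN : Nat.card (normalizerIn S W) ≤ Nat.card (normalizerIn S W₂) := by
      haveI := finite_of_le (normalizerIn_le (S := S) W₂)
      exact Nat.card_le_card_of_injective (fun x => (⟨χ x, hχv x⟩ : normalizerIn S W₂))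
        fun a b h => F.injective_of_mem hχ (congrArg Subtype.val h)
    have hθD : θ ∈ D.Hom cX.range := ih W₂ hn₂ hW₂ (by omega) _ (hR.trans hrc) hθN
    obtain ⟨ζ, hζ, -, hζe⟩ := exists_inv hχD (rfl : χ.range = χ.range)
    have h3 := D.comp_mem hcXD hθD fun x => ⟨x, rfl⟩
    have hv3 : ∀ x : (R ⊔ W : Subgroup Ω), θ ⟨cX x, x, rfl⟩ ∈ χ.range := fun x => by rw [hθe]; exact ⟨_, rfl⟩
    have h4 := D.comp_mem h3 hζ hv3
    refine hom_congr (restrict_mem (Q := R) h4 le_sup_left) fun x => ?_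
    rw [← hψe x]
    set y := Subgroup.inclusion (le_sup_left : R ≤ (R ⊔ W : Subgroup Ω)) x
    symm
    show ζ ⟨θ ⟨cX y, y, rfl⟩, _⟩ = ψ y
    exact (congrArg ζ (Subtype.ext (hθe y))).trans (hζe ⟨ψ y, hψv y⟩ ⟨_, rfl⟩)

theorem isModel_congr {T₁ T₂ : Subgroup Ω} (h : T₁ = T₂) {E₁ : FusionSystem T₁}
    {E₂ : FusionSystem T₂} (hh : ∀ P, E₁.Hom P = E₂.Hom P) {L : Type v} [Group L] {ι : T₁ →* L}
    (hL : E₁.IsModel p L ι) : ∃ ι' : T₂ →* L, E₂.IsModel p L ι' := by
  subst h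
  rw [← fusionSystem_ext hh]
  exact ⟨ι, hL⟩

/-- A system with a normal subgroup containing its centralizer has a model, which is as free as
the system. -/
theorem exists_constrained_model [Finite S] [Fact p.Prime] (hS : IsPGroup p S)
    (hF : F.IsSaturated p) (hQ : F.IsNormal Q) (hc : centralizerIn S Q ≤ Q) :
    ∃ (L : Type u) (_ : Group L) (ι : S →* L) (_ : F.IsModel p L ι),
      ∀ (X : Type v) [Group X], F.IsSectionFree p X → ¬ Involves X L := by
  have hsc := isNormal_stronglyClosed hQ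
  have hcen : F.IsCentric Q := by
    refine ⟨hQ.1, ?_⟩
    rintro R ⟨φ, hφ, rfl⟩
    rw [range_eq_of_card_le hφ hQ.1 (fun y => stronglyClosed_apply_mem hsc hφ y.2) le_rfl]
    exact hc
  have hfn := isFullyNormalized_of_isNormal hQ
  obtain ⟨N, hN, L, hLg, ι, hL⟩ := exists_normalizer_model hS hF hfn hcen
  have heq : ∀ P, N.Hom P = F.Hom P := fun P =>
    Set.ext fun φ => ⟨fun h => subset_of_normalizerSystem hN h, fun h => by
      rw [hN P]; exact normalizerHom_of_isNormal hQ h⟩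
  obtain ⟨ι', hι'⟩ := isModel_congr (normalizerIn_eq_self (stronglyClosed_le_normalizer hsc)) heq hL
  exact ⟨L, hLg, ι', hι', fun X _ hfree => hfree Q hfn hcen N hN L ι hL⟩

theorem isNormal_of_imageOf_normal [Finite S] {L : Type v} [Group L] {ι : S →* L}
    (hr : F.IsRealizedBy ι) (hU : U ≤ S) (hn : (imageOf ι U).Normal) : F.IsNormal U := by
  refine ⟨hU, fun P φ hφ => ?_⟩
  have hP := hom_le hφ
  obtain ⟨g, hg⟩ := exists_of_realized hr hφ
  have hgen : ((P ⊔ U).subgroupOf S).map ((MulAut.conj g).toMonoidHom.comp ι) ≤ ι.range := by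
    rw [Subgroup.subgroupOf_sup hP hU, Subgroup.map_sup, sup_le_iff]
    refine ⟨?_, ?_⟩
    · rintro _ ⟨x, hx, rfl⟩
      exact ⟨_, hg ⟨x, hx⟩⟩
    · rintro _ ⟨x, hx, rfl⟩
      obtain ⟨y, -, hy⟩ := hn.conj_mem _ ⟨x, hx, rfl⟩ g
      exact ⟨y, hy⟩
  obtain ⟨ψ, hψ, hψe⟩ := exists_hom_of_realized hr (sup_le hP hU) g
    fun x => hgen ⟨⟨x, sup_le hP hU x.2⟩, x.2, rfl⟩
  refine ⟨ψ, hψ, fun x => ?_, range_restrict_eq hU hψ le_sup_right fun x hx => ?_⟩
  · exact congrArg Subtype.val (hr.1 ((hψe (Subgroup.inclusion le_sup_left x)).trans (hg x).symm))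
  · obtain ⟨y, hy, hye⟩ := hn.conj_mem _ ⟨⟨x, hU hx⟩, hx, rfl⟩ g
    have h1 : y = ⟨ψ ⟨x, Subgroup.mem_sup_right hx⟩, hom_mem hψ _⟩ :=
      hr.1 (hye.trans (hψe ⟨x, Subgroup.mem_sup_right hx⟩).symm)
    rwa [h1] at hy

variable {Ω' : Type w} [Group Ω'] {S' : Subgroup Ω'} {θ : S →* Ω'} {E' : FusionSystem S'}
  {V' : Subgroup Ω'}

theorem stronglyClosed_preimage [Finite S] (hQ : E.IsNormal Q) (hE' : E.IsFactorSystem Q θ E')
    (hV : E'.StronglyClosed V') : E.StronglyClosed (preimageAlong θ V') := by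
  obtain ⟨-, hker, hrange, hiff⟩ := hE'
  have hsc := isNormal_stronglyClosed hQ
  refine ⟨preimageAlong_le, fun R hR φ hφ x => ?_⟩
  obtain ⟨ψ, hψ, hψe, -⟩ := hQ.2 R φ hφ
  have hRS := hom_le hφ
  have hpre := preimageAlong_imageAlong hsc hker hRS
  have hRV : imageAlong θ R ≤ V' := by
    intro y hy
    obtain ⟨z, hzS, hzR, rfl⟩ := mem_imageAlong.1 hy
    exact (mem_preimageAlong.1 (hR hzR)).2
  have hS' : imageAlong θ R ≤ S' := hRV.trans hV.1
  set χ := ψ.comp (Subgroup.inclusion hpre.le)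
  have hχ : χ ∈ E.Hom (preimageAlong θ (imageAlong θ R)) := restrict_mem hψ hpre.le
  obtain ⟨φ', hind⟩ := exists_induced hsc hker hrange hS' hχ
  have hmem : φ' ∈ E'.Hom (imageAlong θ R) := (hiff _ _).2 ⟨hS', χ, hχ, hind⟩
  have hxpre : (x : Ω) ∈ preimageAlong θ (imageAlong θ R) := hpre.ge (Subgroup.mem_sup_left x.2)
  obtain ⟨hxS, hxim⟩ := mem_preimageAlong.1 hxpre
  have h1 := hV.2 _ hRV φ' hmem ⟨_, hxim⟩
  rw [inducedAlong_apply hind (x := ⟨x, hxpre⟩) (y := ⟨_, hxim⟩) (hxS := hxS) rfl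
    (hx' := hom_mem hχ _)] at h1
  rw [← hψe x]
  exact mem_preimageAlong.2 ⟨hom_mem hψ _, h1⟩

/-- In the central part, preimages of normal subgroups of the factor system are normal. -/
theorem isNormal_preimage_centralPart [Finite S] [Fact p.Prime] (hS : IsPGroup p S)
    (hEsat : E.IsSaturated p) (hQ : E.IsNormal Q)
    (hUs : ∀ U, U ≤ Q → S ≤ Subgroup.normalizer (U : Set Ω) → E.StronglyClosed U)
    (hE' : E.IsFactorSystem Q θ E') (hV : E'.IsNormal V') : E.IsNormal (preimageAlong θ V') := by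
  obtain ⟨-, hker, hrange, -⟩ := id hE'
  have hQn := stronglyClosed_le_normalizer (isNormal_stronglyClosed hQ)
  haveI : Finite S' := hrange ▸ Finite.of_surjective _ θ.rangeRestrict_surjective
  have hS' : IsPGroup p S' := hrange ▸ hS.of_surjective θ.rangeRestrict θ.rangeRestrict_surjective
  obtain ⟨A, k, hA0, hAk, -, hAchar, hAcomm⟩ := exists_series_of_nilpotent hS (le_refl S)
  obtain ⟨B, l, hB0, hBl, -, hBchar, hBcomm⟩ := exists_series_of_nilpotent hS' hV.1
  have hpre0 : preimageAlong θ (B 0) = Q := by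
    ext x
    rw [mem_preimageAlong, hB0]
    constructor
    · rintro ⟨hx, h⟩
      exact (hker ⟨x, hx⟩).1 (Subgroup.mem_bot.1 h)
    · exact fun hx => ⟨hQ.1 hx, Subgroup.mem_bot.2 ((hker ⟨x, hQ.1 hx⟩).2 hx)⟩
  let Z : ℕ → Subgroup Ω := fun i => if i ≤ k then A i ⊓ Q else preimageAlong θ (B (i - k))
  have hAn : ∀ i, S ≤ Subgroup.normalizer ((A i ⊓ Q : Subgroup Ω) : Set Ω) := by
    intro i g hg
    have h1 : g ∈ Subgroup.normalizer (A i : Set Ω) :=
      le_normalizer_of_char (hAchar i).1 (hAchar i).2 (Subgroup.le_normalizer hg)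
    rw [Subgroup.mem_normalizer_iff]
    intro x
    rw [Subgroup.mem_inf, Subgroup.mem_inf, ← Subgroup.mem_normalizer_iff.1 h1 x,
      ← Subgroup.mem_normalizer_iff.1 (hQn hg) x]
  have hk : ∀ i, i ≤ k → Z i = A i ⊓ Q := fun i hi => if_pos hi
  have hk' : ∀ i, k ≤ i → Z i = preimageAlong θ (B (i - k)) := by
    intro i hi
    rcases eq_or_lt_of_le hi with rfl | h
    · rw [hk k le_rfl, hAk, Nat.sub_self, hpre0]
      exact inf_eq_right.2 hQ.1
    · exact if_neg (by omega)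
  refine isNormal_of_series hS hEsat Z (k + l) ?_ ?_ ?_ ?_
  · rw [hk 0 (Nat.zero_le _), hA0, bot_inf_eq]
  · rw [hk' _ (Nat.le_add_right _ _), Nat.add_sub_cancel_left, hBl]
  · intro i _
    rcases le_total i k with h | h
    · rw [hk i h]
      exact hUs _ inf_le_right (hAn i)
    · rw [hk' i h]
      exact stronglyClosed_preimage hQ hE'
        (isNormal_stronglyClosed (isNormal_of_characteristic hV (hBchar _).1 (hBchar _).2))
  · intro i _ g hg y hy
    obtain ⟨hgS, hgV⟩ := mem_preimageAlong.1 hg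
    rcases Nat.lt_or_ge i k with h | h
    · rw [hk (i + 1) h, Subgroup.mem_inf] at hy
      rw [hk i h.le, Subgroup.mem_inf]
      refine ⟨hAcomm i g hgS y hy.1, ?_⟩
      rw [commutatorElement_def]
      exact Q.mul_mem ((Subgroup.mem_normalizer_iff.1 (hQn hgS) y).1 hy.2) (Q.inv_mem hy.2)
    · rw [hk' (i + 1) (by omega), Nat.sub_add_comm h] at hy
      rw [hk' i h]
      obtain ⟨hyS, hyB⟩ := mem_preimageAlong.1 hy
      refine mem_preimageAlong.2 ⟨(⁅(⟨g, hgS⟩ : S), (⟨y, hyS⟩ : S)⁆).2, ?_⟩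
      have h1 := hBcomm (i - k) _ hgV _ hyB
      rw [commutatorElement_def, ← map_inv, ← map_inv, ← map_mul, ← map_mul, ← map_mul] at h1
      exact h1

end Cfsg.Lib.FusionSys
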