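import Cfsg.Agent.Lib.FusionSys.KNormalizer
import Cfsg.Agent.Lib.FusionSys.Local
import Cfsg.Prelude.Def_TwoFusion

/-!
Two strongly closed direct factors: the two subsystems on one factor.
-/

set_option autoImplicit false

namespace Cfsg.Lib.FusionSys

open Cfsg Cfsg.FusionSystem
open scoped Pointwise

variable {Ω : Type*} [Group Ω] {S : Subgroup Ω} {F : FusionSystem S} {p : ℕ}
variable {P : Subgroup Ω}

/-- A system on a strongly closed subgroup with the same maps and automizers is saturated. -/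
theorem isSaturated_sub_of_eq {D S₁ : Subgroup Ω} {E : FusionSystem D}
    {R : FusionSystem S₁} (hE : E.IsSaturated p) (hsc : E.StronglyClosed S₁)
    (hhom : ∀ P, P ≤ S₁ → R.Hom P = E.Hom P)
    (haut : ∀ Q, Q ≤ S₁ → autInducedBy D Q ≤ autInducedBy S₁ Q) : R.IsSaturated p := by
  have hD : S₁ ≤ D := hsc.1
  intro P hP
  obtain ⟨Q, ⟨φ, hφ, hr⟩, hfa, hrec⟩ := hE P (hP.trans hD)
  have hQ : Q ≤ S₁ := by
    rw [← hr]
    rintro _ ⟨x, rfl⟩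
    exact hsc.2 P hP φ hφ x
  refine ⟨Q, ⟨φ, by rw [hhom P hP]; exact hφ, hr⟩, ?_, hQ, ?_⟩
  · have hag : R.autGroup Q = E.autGroup Q := by
      show Subgroup.closure _ = Subgroup.closure _
      rw [hhom Q hQ]
    obtain ⟨-, W, hW⟩ := hfa
    have hau : autInducedBy D Q = autInducedBy S₁ Q :=
      le_antisymm (haut Q hQ) (autInducedBy_mono hD)
    refine ⟨hQ, ?_⟩
    rw [hag, ← hau]
    exact ⟨W, hW⟩
  · intro A χ hχ hr'
    have hA : A ≤ S₁ := hom_le hχ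
    rw [hhom A hA] at hχ
    obtain ⟨ψ, hψ, hψe⟩ := hrec.2 A χ hχ hr'
    have hle : extender S₁ A χ ≤ extender D A χ := fun g hg => by
      obtain ⟨h1, h2, h, h3, h4⟩ := mem_extender.1 hg
      exact mem_extender_of (hD h1) h2 (hD h3) h4
    have hN : extender S₁ A χ ≤ S₁ := (extender_le χ).trans (normalizerIn_le A)
    refine ⟨ψ.comp (Subgroup.inclusion hle), ?_, fun x hx hx' => hψe x hx (hle hx')⟩
    rw [hhom _ hN]
    exact restrict_mem hψ hle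

variable {S₁ S₂ : Subgroup Ω}

theorem exists_mul_of_directProduct (hprod : IsInternalDirectProduct S₁ S₂ S) {g : Ω}
    (hg : g ∈ S) : ∃ a ∈ S₁, ∃ b ∈ S₂, g = a * b := by
  obtain ⟨h1, h2, hcomm, -, hsup⟩ := hprod
  have hn : S₁ ≤ Subgroup.normalizer (S₂ : Set Ω) := by
    intro a ha
    rw [Subgroup.mem_normalizer_iff]
    intro x
    constructor
    · intro hx
      rwa [hcomm a ha x hx, mul_inv_cancel_right]
    · intro hx
      have := hcomm a⁻¹ (S₁.inv_mem ha) _ hx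
      have h3 : x = a⁻¹ * (a * x * a⁻¹) * a := by group
      rw [h3, this, inv_mul_cancel_right]
      exact hx
  have h4 : g ∈ (S₁ : Set Ω) * (S₂ : Set Ω) := by
    rw [← Subgroup.coe_mul_of_left_le_normalizer_right S₁ S₂ hn, hsup]
    exact hg
  obtain ⟨a, ha, b, hb, rfl⟩ := Set.mem_mul.1 h4
  exact ⟨a, ha, b, hb, rfl⟩

theorem autInducedBy_le_factor (hprod : IsInternalDirectProduct S₁ S₂ S) {D Q : Subgroup Ω}
    (hDS : D ≤ S) (hS₁D : S₁ ≤ D) (hQ : Q ≤ S₁) : autInducedBy D Q ≤ autInducedBy S₁ Q := by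
  intro α hα
  obtain ⟨g, hg, hgα⟩ := mem_autInducedBy.1 hα
  obtain ⟨a, ha, b, hb, rfl⟩ := exists_mul_of_directProduct hprod (hDS hg)
  refine mem_autInducedBy.2 ⟨a, ha, fun x => ?_⟩
  have h1 : (x : Ω) * b = b * x := hprod.2.2.1 x (hQ x.2) b hb
  rw [hgα, mul_assoc a b, ← h1]
  group

/-- Maps between subgroups of one factor extend over the other. -/
theorem exists_extend_factor [Finite S] [Fact p.Prime] (hF : F.IsSaturated p)
    (hprod : IsInternalDirectProduct S₁ S₂ S) (h₁ : F.StronglyClosed S₁)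
    (h₂ : F.StronglyClosed S₂) (hP : P ≤ S₁) {φ : P →* Ω} (hφ : φ ∈ F.Hom P) :
    ∃ ψ ∈ F.Hom (P ⊔ S₂), (∀ x : P, ψ (Subgroup.inclusion le_sup_left x) = φ x) ∧
      (S₂.subgroupOf (P ⊔ S₂)).map ψ = S₂ := by
  have step : ∀ {A : Subgroup Ω} (χ : A →* Ω), χ ∈ F.Hom A → A ≤ S₁ → F.IsReceptive χ.range →
      ∃ ψ ∈ F.Hom (A ⊔ S₂), (∀ x : A, ψ (Subgroup.inclusion le_sup_left x) = χ x) ∧
        (S₂.subgroupOf (A ⊔ S₂)).map ψ = S₂ := by
    intro A χ hχ hA hrec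
    obtain ⟨ψ, hψ, hψe⟩ := hrec.2 A χ hχ rfl
    have hc : S₂ ≤ centralizerIn S A := fun b hb =>
      mem_centralizerIn.2 ⟨h₂.1 hb, fun x hx => (hprod.2.2.1 x (hA hx) b hb).symm⟩
    have hle : A ⊔ S₂ ≤ extender S A χ :=
      sup_le (le_extender (hA.trans h₁.1) (hom_mem hχ)) (hc.trans (centralizerIn_le_extender χ))
    have hψ' := restrict_mem hψ hle
    refine ⟨_, hψ', fun x => hψe x x.2 _, ?_⟩
    have hv : ∀ x : S₂, ψ.comp (Subgroup.inclusion hle) (Subgroup.inclusion le_sup_right x) ∈ S₂ :=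
      fun x => h₂.2 S₂ le_rfl _ (restrict_mem hψ' le_sup_right) x
    haveI := finite_of_le h₂.1
    have hr := range_eq_of_card_le (restrict_mem hψ' (le_sup_right : S₂ ≤ A ⊔ S₂)) h₂.1 hv le_rfl
    conv_rhs => rw [← hr]
    ext y
    rw [mem_map_subgroupOf]
    exact ⟨fun ⟨x, hx, hx2, he⟩ => ⟨⟨x, hx2⟩, he⟩,
      fun ⟨x, he⟩ => ⟨x, Subgroup.mem_sup_right x.2, x.2, he⟩⟩
  have hPS : P ≤ S := hP.trans h₁.1
  obtain ⟨Q, hQ, hfa, hrec⟩ := hF φ.range (range_le hφ)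
  obtain ⟨χ, hχ, hχr⟩ := hQ
  have hrng : φ.range ≤ S₁ := by
    rintro _ ⟨x, rfl⟩
    exact h₁.2 P hP φ hφ x
  -- the composite
  let φ' : P →* Ω := χ.comp φ.rangeRestrict
  have hφ' : φ' ∈ F.Hom P := comp_mem' hφ hχ (fun x => ⟨x, rfl⟩) fun x => rfl
  have hr' : φ'.range = Q := by
    rw [← hχr]
    ext y
    constructor
    · rintro ⟨x, rfl⟩
      exact ⟨_, rfl⟩
    · rintro ⟨⟨_, x, rfl⟩, rfl⟩
      exact ⟨x, rfl⟩
  obtain ⟨ψ₁, hψ₁, e₁, m₁⟩ := step φ' hφ' hP (by rw [hr']; exact hrec)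
  obtain ⟨ψ₂, hψ₂, e₂, m₂⟩ := step χ hχ hrng (by rw [hχr]; exact hrec)
  obtain ⟨χi, hχi, hχie⟩ := F.inv_mem hχ
  obtain ⟨θ, hθ, eθ, mθ, -⟩ := ext_inv hψ₂ e₂ m₂ (φi := χi) fun x hx => hχie x
  have hv : ∀ x : P, φ' x ∈ χ.range := fun x => ⟨_, rfl⟩
  obtain ⟨ψ, hψ, he, hmap⟩ := ext_comp hψ₁ hθ e₁ eθ m₁ hv
  refine ⟨ψ, hψ, fun x => ?_, ext_comp_map m₁ mθ hmap⟩
  rw [he x]
  exact hχie ⟨φ x, x, rfl⟩

theorem centralizer_factor_eq [Finite S] (h₂ : F.StronglyClosed S₂) : F.IsFullyCentralized S₂ := by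
  refine ⟨h₂.1, fun Q hQ => ?_⟩
  obtain ⟨φ, hφ, rfl⟩ := hQ
  rw [range_eq_of_card_le hφ h₂.1 (fun x => h₂.2 S₂ le_rfl φ hφ x) le_rfl]

/-- Conjugating a map by an automorphism of an overgroup. -/
theorem exists_conj_map {A P' : Subgroup Ω} (hA : A ≤ S) {β : MulAut A} (hβ : β ∈ F.autGroup A)
    (hP : P ≤ A) (hP' : P' ≤ A) (hmem : ∀ y : P', ((β⁻¹ ⟨y, hP' y.2⟩ : A) : Ω) ∈ P) {φ : P →* Ω}
    (hφ : φ ∈ F.Hom P) (hv : ∀ x, φ x ∈ A) :
    ∃ χ ∈ F.Hom P', ∀ y : P',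
      χ y = ((β ⟨φ ⟨((β⁻¹ ⟨y, hP' y.2⟩ : A) : Ω), hmem y⟩, hv _⟩ : A) : Ω) := by
  have hi := restrict_mem ((mem_autGroup hA).1 (Subgroup.inv_mem _ hβ)) hP'
  exact ⟨_, F.comp_mem (F.comp_mem hi hφ hmem) ((mem_autGroup hA).1 hβ) fun y => hv _,
    fun y => rfl⟩

theorem autGroup_congr {T : Subgroup Ω} {E : FusionSystem T} {Q : Subgroup Ω}
    (h : E.Hom Q = F.Hom Q) : E.autGroup Q = F.autGroup Q := by
  show Subgroup.closure _ = Subgroup.closure _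
  rw [h]

/-- An automorphism of the second factor extends to `S`, preserving both factors. -/
theorem exists_extend_aut_factor [Finite S] [Fact p.Prime] (hS : IsPGroup p S) (hF : F.IsSaturated p)
    (hprod : IsInternalDirectProduct S₁ S₂ S) (h₁ : F.StronglyClosed S₁)
    (h₂ : F.StronglyClosed S₂) {b : MulAut S₂} (hb : IsoIn F (b : S₂ ≃* S₂)) :
    ∃ β ∈ F.autGroup S, ∃ α ∈ F.autGroup S₁,
      (∀ a : S₁, ((β ⟨a, h₁.1 a.2⟩ : S) : Ω) = (α a : Ω)) ∧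
      ∀ c : S₂, ((β ⟨c, h₂.1 c.2⟩ : S) : Ω) = (b c : Ω) := by
  obtain ⟨γ, hγ, hγe⟩ := IsReceptive_ext (isReceptive_of_fc hS hF (centralizer_factor_eq h₂)) hb
    (N := S) (by
      intro g hg
      obtain ⟨a, ha, c, hc, rfl⟩ := exists_mul_of_directProduct hprod hg
      have hn : a * c ∈ Subgroup.normalizer (S₂ : Set Ω) := by
        refine Subgroup.mul_mem _ ?_ (Subgroup.le_normalizer hc)
        exact Subgroup.centralizer_le_normalizer _ (Subgroup.mem_centralizer_iff.2 fun x hx =>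
          (hprod.2.2.1 a ha x hx).symm)
      refine ⟨hg, hn, b ⟨c, hc⟩, h₂.1 (b ⟨c, hc⟩).2, fun x y hxy => ?_⟩
      have hy : y = ⟨c, hc⟩ * x * (⟨c, hc⟩ : S₂)⁻¹ := by
        refine Subtype.ext ?_
        have hcx : c * (x : Ω) * c⁻¹ ∈ S₂ := S₂.mul_mem (S₂.mul_mem hc x.2) (S₂.inv_mem hc)
        show (y : Ω) = c * (x : Ω) * c⁻¹
        rw [hxy]
        calc a * c * (x : Ω) * (a * c)⁻¹ = a * (c * (x : Ω) * c⁻¹) * a⁻¹ := by group
          _ = c * (x : Ω) * c⁻¹ := by rw [hprod.2.2.1 a ha _ hcx, mul_inv_cancel_right]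
      rw [hy, map_mul, map_mul, map_inv]
      rfl)
  have hr := range_eq_of_card_le hγ le_rfl (hom_mem hγ) le_rfl
  have hv : ∀ x : S₁, γ.comp (Subgroup.inclusion h₁.1) x ∈ S₁ :=
    fun x => h₁.2 S₁ le_rfl _ (restrict_mem hγ h₁.1) x
  haveI := finite_of_le h₁.1
  have hr₁ := range_eq_of_card_le (restrict_mem hγ h₁.1) h₁.1 hv le_rfl
  exact ⟨homIso hγ hr, (mem_autGroup le_rfl).2 (isoIn_homIso hγ hr),
    homIso (restrict_mem hγ h₁.1) hr₁, (mem_autGroup h₁.1).2 (isoIn_homIso _ hr₁),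
    fun a => rfl, fun c => hγe c c.2 (h₂.1 c.2)⟩

theorem exists_extend_aut_first [Finite S] [Fact p.Prime] (hF : F.IsSaturated p)
    (hprod : IsInternalDirectProduct S₁ S₂ S) (h₁ : F.StronglyClosed S₁)
    (h₂ : F.StronglyClosed S₂) {α : MulAut S₁} (hα : α ∈ F.autGroup S₁) :
    ∃ β ∈ F.autGroup S, (∀ a : S₁, ((β ⟨a, h₁.1 a.2⟩ : S) : Ω) = (α a : Ω)) ∧
      ∀ c : S₂, ((β ⟨c, h₂.1 c.2⟩ : S) : Ω) ∈ S₂ := by
  obtain ⟨ψ, hψ, eψ, -⟩ :=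
    exists_extend_factor hF hprod h₁ h₂ le_rfl ((mem_autGroup h₁.1).1 hα)
  have hle : S ≤ S₁ ⊔ S₂ := hprod.2.2.2.2.ge
  have hγ := restrict_mem hψ hle
  have hr := range_eq_of_card_le hγ le_rfl (hom_mem hγ) le_rfl
  refine ⟨homIso hγ hr, (mem_autGroup le_rfl).2 (isoIn_homIso hγ hr), fun a => eψ a, fun c => ?_⟩
  exact h₂.2 S₂ le_rfl _ (restrict_mem hγ h₂.1) c

theorem direct_factor_systems [Finite S] [Fact p.Prime] (hS : IsPGroup p S) (hF : F.IsSaturated p)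
    (hprod : IsInternalDirectProduct S₁ S₂ S) (h₁ : F.StronglyClosed S₁)
    (h₂ : F.StronglyClosed S₂) (R R' : FusionSystem S₁)
    (hR : ∀ P : Subgroup Ω, P ≤ S₁ → R.Hom P = F.Hom P)
    (hR' : ∀ P : Subgroup Ω, P ≤ S₁ → R'.Hom P = F.centralizerHom S₂ P) :
    R.IsSaturated p ∧ R'.IsSaturated p ∧ R'.IsNormalIn F p ∧ R'.IsNormalIn R p ∧
      R.IsWeaklyNormalIn F p := by
  have hRsat : R.IsSaturated p :=
    isSaturated_sub_of_eq hF h₁ hR fun Q hQ => autInducedBy_le_factor hprod le_rfl h₁.1 hQ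
  have hS₁C : S₁ ≤ centralizerIn S S₂ := fun a ha =>
    mem_centralizerIn.2 ⟨h₁.1 ha, fun b hb => hprod.2.2.1 a ha b hb⟩
  obtain ⟨E, hE⟩ := exists_centralizerSystem F h₂.1
  have hEsat : E.IsSaturated p :=
    isSaturated_centralizerSystem hS hF (centralizer_factor_eq (F := F) h₂) hE
  haveI : Finite (centralizerIn S S₂) := finite_of_le (centralizerIn_le S₂)
  have hR'sat : R'.IsSaturated p := isSaturated_sub_of_eq hEsat
    ⟨hS₁C, fun P hP φ hφ x => h₁.2 P hP φ ((hE P ▸ hφ : φ ∈ F.centralizerHom S₂ P)).1 x⟩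
    (fun P hP => by rw [hR' P hP, hE P]) fun Q hQ =>
      autInducedBy_le_factor hprod (centralizerIn_le S₂) hS₁C hQ
  have hRF : R.IsSubsystemOf F := fun P φ hφ => by
    rw [hR P (hom_le hφ)] at hφ
    exact hφ
  have hR'F : R'.IsSubsystemOf F := fun P φ hφ => by
    rw [hR' P (hom_le hφ)] at hφ
    exact hφ.1
  have hSC : ∀ x : S₁, (x : Ω) ∈ centralizerIn S S₂ := fun x => hS₁C x.2
  -- conjugation by automorphisms of the factor
  have hinvR : ∀ (P : Subgroup Ω) (hP : P ≤ S₁) (φ : P →* Ω), φ ∈ F.Hom P → ∀ α ∈ F.autGroup S₁,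
      ∃ χ ∈ F.Hom ((P.subgroupOf S₁).map (S₁.subtype.comp α.toMonoidHom)),
        (∀ (x : P) (hφx : φ x ∈ S₁)
          (hαx : ((α ⟨x, hP x.2⟩ : S₁) : Ω) ∈ (P.subgroupOf S₁).map (S₁.subtype.comp α.toMonoidHom)),
          χ ⟨(α ⟨x, hP x.2⟩ : S₁), hαx⟩ = ((α ⟨φ x, hφx⟩ : S₁) : Ω)) ∧
        (φ ∈ F.centralizerHom S₂ P →
          χ ∈ F.centralizerHom S₂ ((P.subgroupOf S₁).map (S₁.subtype.comp α.toMonoidHom))) := by
    intro P hP φ hφ α hα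
    set P' := (P.subgroupOf S₁).map (S₁.subtype.comp α.toMonoidHom) with hP'def
    have hP' : P' ≤ S₁ := by
      rintro _ ⟨x, -, rfl⟩
      exact (α x).2
    have hmem : ∀ y : P', ((α⁻¹ ⟨y, hP' y.2⟩ : S₁) : Ω) ∈ P := by
      rintro ⟨_, x, hx, rfl⟩
      show ((α⁻¹ (α x) : S₁) : Ω) ∈ P
      rw [MulAut.inv_apply_self]
      exact hx
    obtain ⟨χ, hχ, hχe⟩ :=
      exists_conj_map h₁.1 hα hP hP' hmem hφ (fun x => h₁.2 P hP φ hφ x)
    refine ⟨χ, hχ, fun x hφx hαx => ?_, ?_⟩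
    · rw [hχe]
      refine congrArg (fun z : S₁ => ((α z : S₁) : Ω)) (Subtype.ext (congrArg φ (Subtype.ext ?_)))
      exact (congrArg Subtype.val (MulAut.inv_apply_self _ α (⟨x, hP x.2⟩ : S₁)) :)
    · rintro ⟨-, -, -, ψ, hψ, eψ, fψ⟩
      refine ⟨hχ, hP'.trans hS₁C, fun y => hS₁C (h₁.2 P' hP' χ hχ y), ?_⟩
      obtain ⟨β, hβ, hβ₁, hβ₂⟩ := exists_extend_aut_first hF hprod h₁ h₂ hα
      have hPS : P ⊔ S₂ ≤ S := sup_le (hP.trans h₁.1) h₂.1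
      have hP'S : P' ⊔ S₂ ≤ S := sup_le (hP'.trans h₁.1) h₂.1
      have hsurj : ∀ c : S₂, ∃ d : S₂, ((β ⟨d, h₂.1 d.2⟩ : S) : Ω) = c := by
        haveI := finite_of_le h₂.1
        let f : S₂ → S₂ := fun d => ⟨_, hβ₂ d⟩
        have hf : Function.Injective f := fun a b h => by
          have h1 := β.injective (Subtype.ext (congrArg Subtype.val h :) :
            β ⟨a, h₂.1 a.2⟩ = β ⟨b, h₂.1 b.2⟩)
          exact Subtype.ext (congrArg (fun z : S => (z : Ω)) h1)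
        intro c
        obtain ⟨d, hd⟩ := Finite.surjective_of_injective hf c
        exact ⟨d, congrArg Subtype.val hd⟩
      have hU : P' ⊔ S₂ ≤ ((P ⊔ S₂).subgroupOf S).map (S.subtype.comp β.toMonoidHom) := by
        refine sup_le ?_ fun c hc => ?_
        · rintro _ ⟨x, hx, rfl⟩
          exact ⟨⟨x, h₁.1 x.2⟩, Subgroup.mem_sup_left (show (x : Ω) ∈ P from hx), hβ₁ x⟩
        · obtain ⟨d, hd⟩ := hsurj ⟨c, hc⟩
          exact ⟨⟨d, h₂.1 d.2⟩, Subgroup.mem_sup_right (show (d : Ω) ∈ S₂ from d.2), hd⟩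
      have hmemS : ∀ y : (P' ⊔ S₂ : Subgroup Ω), ((β⁻¹ ⟨y, hP'S y.2⟩ : S) : Ω) ∈ P ⊔ S₂ := by
        intro y
        obtain ⟨z, hz, hze⟩ := hU y.2
        rw [show (⟨(y : Ω), hP'S y.2⟩ : S) = β z from Subtype.ext hze.symm, MulAut.inv_apply_self]
        exact hz
      obtain ⟨χ', hχ', hχ'e⟩ := exists_conj_map le_rfl hβ hPS hP'S hmemS hψ (hom_mem hψ)
      refine ⟨χ', hχ', fun y => ?_, fun c => ?_⟩
      · rw [hχ'e, hχe]
        have e1 : ((β⁻¹ ⟨(y : Ω), hP'S (Subgroup.mem_sup_left y.2)⟩ : S) : Ω) =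
            ((α⁻¹ ⟨(y : Ω), hP' y.2⟩ : S₁) : Ω) := by
          have h3 : β ⟨((α⁻¹ ⟨(y : Ω), hP' y.2⟩ : S₁) : Ω), h₁.1 (α⁻¹ ⟨(y : Ω), hP' y.2⟩).2⟩ =
              ⟨(y : Ω), hP'S (Subgroup.mem_sup_left y.2)⟩ :=
            Subtype.ext (by rw [hβ₁, MulAut.apply_inv_self])
          rw [← h3, MulAut.inv_apply_self]
        refine Eq.trans ?_ (hβ₁ ⟨φ ⟨_, hmem y⟩, h₁.2 P hP φ hφ _⟩)
        refine congrArg (fun z : S => ((β z : S) : Ω)) (Subtype.ext ?_)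
        exact (congrArg ψ (Subtype.ext e1)).trans (eψ ⟨_, hmem y⟩)
      · rw [hχ'e]
        obtain ⟨d, hd⟩ := hsurj c
        have e1 : β⁻¹ ⟨(c : Ω), h₂.1 c.2⟩ = ⟨d, h₂.1 d.2⟩ := by
          rw [← MulAut.inv_apply_self _ β (⟨(d : Ω), h₂.1 d.2⟩ : S)]
          exact congrArg _ (Subtype.ext hd.symm)
        refine Eq.trans (congrArg (fun z : S => ((β z : S) : Ω)) (Subtype.ext ?_)) hd
        exact (congrArg ψ (Subtype.ext (congrArg Subtype.val e1 :))).trans (fψ d)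
  -- decomposition
  have hfrat : ∀ (P : Subgroup Ω) (hP : P ≤ S₁) (φ : P →* Ω), φ ∈ F.Hom P →
      ∃ α ∈ F.autGroup S₁, ∃ φ₀ ∈ R'.Hom P, ∀ (x : P) (hx : φ₀ x ∈ S₁),
        φ x = ((α ⟨φ₀ x, hx⟩ : S₁) : Ω) := by
    intro P hP φ hφ
    obtain ⟨ψ, hψ, eψ, mψ⟩ := exists_extend_factor hF hprod h₁ h₂ hP hφ
    haveI := finite_of_le h₂.1
    have hr₂ : (ψ.comp (Subgroup.inclusion le_sup_right)).range = S₂ := by
      conv_rhs => rw [← mψ]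
      ext y
      rw [mem_map_subgroupOf]
      exact ⟨fun ⟨x, he⟩ => ⟨x, Subgroup.mem_sup_right x.2, x.2, he⟩,
        fun ⟨x, hx, hx2, he⟩ => ⟨⟨x, hx2⟩, he⟩⟩
    obtain ⟨β, hβ, α, hα, hβ₁, hβ₂⟩ := exists_extend_aut_factor hS hF hprod h₁ h₂
      (b := homIso (restrict_mem hψ le_sup_right) hr₂) (isoIn_homIso _ hr₂)
    have hv : ∀ x, φ x ∈ S₁ := fun x => h₁.2 P hP φ hφ x
    let φ₀ : P →* Ω := (S₁.subtype.comp (α⁻¹ : MulAut S₁).toMonoidHom).comp (φ.codRestrict S₁ hv)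
    have hφ₀ : φ₀ ∈ F.Hom P :=
      F.comp_mem hφ ((mem_autGroup h₁.1).1 (Subgroup.inv_mem _ hα)) hv
    have hψ₀ := F.comp_mem hψ ((mem_autGroup (F := F) le_rfl).1 (Subgroup.inv_mem _ hβ))
      (hom_mem hψ)
    refine ⟨α, hα, φ₀, ?_, fun x hx => ?_⟩
    · rw [hR' P hP]
      refine ⟨hφ₀, hP.trans hS₁C, fun x => hS₁C (h₁.2 P hP φ₀ hφ₀ x), _, hψ₀, fun x => ?_,
        fun c => ?_⟩
      · show ((β⁻¹ ⟨ψ (Subgroup.inclusion le_sup_left x), _⟩ : S) : Ω) = ((α⁻¹ ⟨φ x, _⟩ : S₁) : Ω)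
        have h3 : β ⟨((α⁻¹ ⟨φ x, hv x⟩ : S₁) : Ω), h₁.1 (α⁻¹ ⟨φ x, hv x⟩).2⟩ =
            ⟨ψ (Subgroup.inclusion le_sup_left x), hom_mem hψ _⟩ :=
          Subtype.ext ((hβ₁ _).trans
            ((congrArg Subtype.val (MulAut.apply_inv_self _ α (⟨φ x, hv x⟩ : S₁)) :).trans
              (eψ x).symm))
        rw [← h3, MulAut.inv_apply_self]
      · show ((β⁻¹ ⟨ψ (Subgroup.inclusion le_sup_right c), _⟩ : S) : Ω) = c
        have h3 : β ⟨(c : Ω), h₂.1 c.2⟩ =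
            ⟨ψ (Subgroup.inclusion le_sup_right c), hom_mem hψ _⟩ := Subtype.ext (hβ₂ c)
        rw [← h3, MulAut.inv_apply_self]
    · show φ x = ((α (α⁻¹ ⟨φ x, hv x⟩) : S₁) : Ω)
      rw [MulAut.apply_inv_self]
  have hR'inv : R'.IsInvariantIn F := by
    refine ⟨hR'F, h₁, fun P hP φ hφ α hα => ?_, hfrat⟩
    rw [hR' P hP] at hφ
    obtain ⟨χ, -, hχ, hχc⟩ := hinvR P hP φ hφ.1 α hα
    refine ⟨χ, ?_, hχ⟩
    rw [hR' _ (Subgroup.map_le_range _ _ |>.trans (by rintro _ ⟨x, rfl⟩; exact (α x).2))]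
    exact hχc hφ
  -- the extension condition
  have hlast : ∀ α ∈ R'.autGroup S₁, ∃ ψ ∈ F.Hom (S₁ ⊔ S₂),
      (∀ x : S₁, ψ (Subgroup.inclusion le_sup_left x) = (α x : Ω)) ∧
        ∀ c ∈ centralizerIn S S₁, ∀ hc : c ∈ S₁ ⊔ S₂,
          c⁻¹ * ψ ⟨c, hc⟩ ∈ S₁ ⊓ Subgroup.centralizer (S₁ : Set Ω) := by
    intro α hα
    have h := (mem_autGroup le_rfl).1 hα
    rw [IsoIn, hR' S₁ le_rfl] at h
    obtain ⟨-, -, -, ψ, hψ, eψ, fψ⟩ := h
    refine ⟨ψ, hψ, eψ, fun c hc hcs => ?_⟩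
    obtain ⟨hcS, hcc⟩ := mem_centralizerIn.1 hc
    obtain ⟨a, ha, b, hb, rfl⟩ := exists_mul_of_directProduct hprod hcS
    have hac : ∀ x ∈ S₁, a * x = x * a := fun x hx => by
      have h1 := hcc x hx
      have h2 := hprod.2.2.1 x hx b hb
      refine mul_right_cancel (b := b) ?_
      rw [mul_assoc a x b, h2, ← mul_assoc, h1, mul_assoc]
    have hd : (⟨a * b, hcs⟩ : (S₁ ⊔ S₂ : Subgroup Ω)) = Subgroup.inclusion le_sup_left ⟨a, ha⟩ *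
        Subgroup.inclusion le_sup_right ⟨b, hb⟩ := rfl
    rw [hd, map_mul, eψ ⟨a, ha⟩, fψ ⟨b, hb⟩]
    have haz : a⁻¹ * (α ⟨a, ha⟩ : Ω) ∈ S₁ ⊓ Subgroup.centralizer (S₁ : Set Ω) := by
      refine ⟨S₁.mul_mem (S₁.inv_mem ha) (α ⟨a, ha⟩).2, ?_⟩
      refine Subgroup.mul_mem _ (Subgroup.inv_mem _ ?_) ?_
      · exact Subgroup.mem_centralizer_iff.2 fun x hx => (hac x hx).symm
      · refine Subgroup.mem_centralizer_iff.2 fun x hx => ?_
        obtain ⟨y, hy⟩ := (α : S₁ ≃* S₁).surjective ⟨x, hx⟩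
        have h4 : α y * α ⟨a, ha⟩ = α ⟨a, ha⟩ * α y := by
          rw [← map_mul, ← map_mul]
          exact congrArg _ (Subtype.ext (hac y y.2).symm)
        rw [hy] at h4
        exact congrArg Subtype.val h4
    show (a * b)⁻¹ * ((α ⟨a, ha⟩ : Ω) * b) ∈ _
    rw [show (a * b)⁻¹ * ((α ⟨a, ha⟩ : Ω) * b) = a⁻¹ * (α ⟨a, ha⟩ : Ω) by
      rw [mul_inv_rev, mul_assoc, ← mul_assoc a⁻¹, hprod.2.2.1 _ haz.1 b hb, inv_mul_cancel_left]]
    exact haz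
  refine ⟨hRsat, hR'sat, ⟨⟨hR'sat, hF, hR'inv⟩, fun α hα => ?_⟩, ⟨⟨hR'sat, hRsat, ?_⟩, fun α hα => ?_⟩,
    hRsat, hF, hRF, h₁, fun P hP φ hφ α hα => ?_, fun P hP φ hφ => ?_⟩
  · -- over `F`
    obtain ⟨ψ, hψ, eψ, hc⟩ := hlast α hα
    have hUS : S₁ ⊔ centralizerIn S S₁ ≤ S := sup_le h₁.1 (centralizerIn_le S₁)
    have hle : S₁ ⊔ centralizerIn S S₁ ≤ S₁ ⊔ S₂ := hprod.2.2.2.2.symm ▸ hUS
    have hge : S₁ ⊔ S₂ ≤ S₁ ⊔ centralizerIn S S₁ := sup_le_sup_left (fun b hb => mem_centralizerIn.2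
      ⟨h₂.1 hb, fun x hx => (hprod.2.2.1 x hx b hb).symm⟩) S₁
    have hψU := restrict_mem hψ hle
    haveI := finite_of_le hUS
    have hr := range_eq_of_card_le hψU hUS
      (fun x => hge (hprod.2.2.2.2.symm.le (hom_mem hψU x))) le_rfl
    exact ⟨homIso hψU hr, (mem_autGroup hUS).2 (isoIn_homIso hψU hr),
      fun x => eψ x, fun c hcc => hc c hcc _⟩
  · -- invariance in `R`
    refine ⟨fun P φ hφ => ?_, ⟨le_rfl, fun P hP φ hφ x => (R.le_of_mem hφ).2 x⟩,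
      fun P hP φ hφ β hβ => ?_, fun P hP φ hφ => ?_⟩
    · rw [hR P (hom_le hφ)]
      exact hR'F P hφ
    · rw [autGroup_congr (hR S₁ le_rfl)] at hβ
      exact hR'inv.2.2.1 P hP φ hφ β hβ
    · rw [hR P hP] at hφ
      rw [autGroup_congr (hR S₁ le_rfl)]
      exact hfrat P hP φ hφ
  · -- extension in `R`
    obtain ⟨ψ, hψ, eψ, hc⟩ := hlast α hα
    have hU : S₁ ⊔ centralizerIn S₁ S₁ ≤ S₁ := sup_le le_rfl (centralizerIn_le S₁)
    haveI := finite_of_le (hU.trans h₁.1)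
    have hψU := restrict_mem hψ (hU.trans le_sup_left)
    have hr := range_eq_of_card_le hψU (hU.trans h₁.1)
      (fun x => le_sup_left (a := S₁) (by
        show ψ (Subgroup.inclusion le_sup_left (⟨x, hU x.2⟩ : S₁)) ∈ S₁
        rw [eψ]
        exact (α _).2)) le_rfl
    refine ⟨homIso hψU hr, ?_, fun x => eψ x, fun c hcc => hc c ?_ _⟩
    · rw [autGroup_congr (hR _ hU)]
      exact (mem_autGroup (hU.trans h₁.1)).2 (isoIn_homIso hψU hr)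
    · exact ⟨h₁.1 hcc.1, hcc.2⟩
  · rw [hR P hP] at hφ
    obtain ⟨χ, hχ, he, -⟩ := hinvR P hP φ hφ α hα
    refine ⟨χ, ?_, he⟩
    rw [hR _ (Subgroup.map_le_range _ _ |>.trans (by rintro _ ⟨x, rfl⟩; exact (α x).2))]
    exact hχ
  · refine ⟨1, Subgroup.one_mem _, φ, ?_, fun x hx => rfl⟩
    rw [hR P hP]
    exact hφ

end Cfsg.Lib.FusionSys
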