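import Cfsg.Agent.Lib.FusionSys.Alperin
import Cfsg.Agent.Lib.FusionSys.Saturation

/-!
# Bounding the focal subgroup by the displacements of automorphisms
-/

set_option autoImplicit false

namespace Cfsg.Lib.FusionSys

open Cfsg Cfsg.FusionSystem

variable {Ω : Type*} [Group Ω] {S : Subgroup Ω} {F : FusionSystem S}

/-- The focal subgroup lies in every subgroup containing the displacements of the automorphism groups of
`S` and of the essential subgroups. -/
theorem focal_le_of_displacement [Finite S] {p : ℕ} [Fact p.Prime] (hS : IsPGroup p S)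
    (hF : F.IsSaturated p) (T : Subgroup Ω)
    (hconjT : ∀ g ∈ S, ∀ x ∈ S, x⁻¹ * (g * x * g⁻¹) ∈ T)
    (h : ∀ P : Subgroup Ω, (P = S ∨ F.IsEssential p P) → ∀ α ∈ F.autGroup P, ∀ x : P,
      (x : Ω)⁻¹ * (α x : Ω) ∈ T) :
    F.focalSubgroup ≤ T := by
  let E : FusionSystem S :=
    { Hom := fun P => {φ | φ ∈ F.Hom P ∧ ∀ x : P, (x : Ω)⁻¹ * φ x ∈ T}
      le_of_mem := fun h => F.le_of_mem h.1
      injective_of_mem := fun h => F.injective_of_mem h.1
      conj_mem := fun {P g} hP hg => ⟨F.conj_mem hP hg, fun x => hconjT g hg x (hP x.2)⟩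
      comp_mem := by
        rintro P Q φ ψ ⟨hφ, hφT⟩ ⟨hψ, hψT⟩ h
        refine ⟨F.comp_mem hφ hψ h, fun x => ?_⟩
        have h1 := T.mul_mem (hφT x) (hψT ⟨φ x, h x⟩)
        rw [mul_assoc, mul_inv_cancel_left] at h1
        exact h1
      inv_mem := by
        rintro P φ ⟨hφ, hφT⟩
        obtain ⟨ψ, hψ, hψe⟩ := F.inv_mem hφ
        refine ⟨ψ, ⟨hψ, ?_⟩, hψe⟩
        rintro ⟨_, x, rfl⟩
        rw [hψe]
        simpa using T.inv_mem (hφT x) }
  have hle : F ≤ E := by
    refine le_of_autGroup_le hS hF E fun P hP α hα => ?_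
    have hPS : P ≤ S := by
      rcases hP with rfl | hP
      exacts [le_rfl, hP.1.1]
    exact (mem_autGroup hPS).2 ⟨(mem_autGroup hPS).1 hα, fun x => h P hP α hα x⟩
  refine (Subgroup.closure_le _).2 ?_
  rintro _ ⟨P, φ, x, hφ, rfl⟩
  exact (hle P hφ).2 x

/-- The hyperfocal subgroup lies in the focal subgroup. -/
theorem hyperfocal_le_focal_displacement (p : ℕ) : F.hyperfocalSubgroup p ≤ F.focalSubgroup := by
  refine (Subgroup.closure_le _).2 ?_
  rintro _ ⟨P, α, x, hP, -, rfl⟩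
  exact Subgroup.subset_closure ⟨P, _, x, (mem_autGroup hP).1 α.2, rfl⟩

end Cfsg.Lib.FusionSys
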