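import Cfsg.Agent.Lib.FusionSys.RankTwoEssential
import Cfsg.Agent.Lib.FusionSys.Nilpotent
import Cfsg.Agent.Lib.FusionSys.Tate
import Cfsg.Agent.Lib.Local.RankTwoAut

/-!
Control of a fusion system by the elements of order `p` (or `4`) of its hyperfocal subgroup.
-/

set_option autoImplicit false
set_option linter.style.haveILetI false

universe u

namespace Cfsg.Lib.FusionSys

open Cfsg Cfsg.FusionSystem
open Cfsg.Lib.Local.RankTwoAut (restrictHom apply_mem_of_char)
open scoped commutatorElement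

variable {p : ℕ} [Fact p.Prime]

/-- An element of order dividing `p`, or dividing `4` if `p = 2`. -/
def IsSmall {G : Type*} [Monoid G] (p : ℕ) (x : G) : Prop := x ^ p = 1 ∨ (p = 2 ∧ x ^ 4 = 1)

theorem eq_one_of_coprime_fix {R : Type*} [Group R] (hR : IsPGroup p R) {γ : MulAut R}
    (hγ : (orderOf γ).Coprime p) {x : R} (h : γ (x⁻¹ * γ x) = x⁻¹ * γ x) : γ x = x := by
  set d := x⁻¹ * γ x
  have hpow : ∀ n : ℕ, (γ ^ n) x = x * d ^ n := by
    intro n
    induction n with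
    | zero => simp
    | succ n ih =>
      rw [pow_succ', MulAut.mul_apply, ih, map_mul, map_pow, h, show γ x = x * d from (mul_inv_cancel_left _ _).symm,
        mul_assoc, ← pow_succ']
  have h1 : d ^ orderOf γ = 1 := by
    have := hpow (orderOf γ)
    rw [pow_orderOf_eq_one, MulAut.one_apply] at this
    exact mul_eq_left.mp this.symm
  obtain ⟨k, hk⟩ := hR d
  have hd : d = 1 := orderOf_eq_one_iff.mp (Nat.eq_one_of_dvd_coprimes
    ((hγ.pow_right k)) (orderOf_dvd_of_pow_eq_one h1) (orderOf_dvd_of_pow_eq_one hk))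
  exact (inv_mul_eq_one.mp hd).symm

/-- In a `2`-group with central squares a `2'`-automorphism fixing the elements of order dividing `4` is trivial. -/
theorem fix_of_fix_four {R : Type*} [Group R] (hR : IsPGroup 2 R) (hsq : ∀ x y : R, y * x ^ 2 = x ^ 2 * y)
    (hcomm : ∀ x y z : R, z * ⁅x, y⁆ = ⁅x, y⁆ * z)
    {γ : MulAut R} (hγ : (orderOf γ).Coprime 2) (hfix : ∀ x : R, x ^ 4 = 1 → γ x = x) : ∀ x, γ x = x := by
  suffices ∀ (k : ℕ) (x : R), x ^ 2 ^ k = 1 → γ x = x by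
    intro x
    obtain ⟨k, hk⟩ := hR x
    exact this k x hk
  intro k
  induction k with
  | zero => intro x hx; rw [pow_zero, pow_one] at hx; rw [hx, map_one]
  | succ k ih =>
    intro x hx
    set d := x⁻¹ * γ x with hd
    have h2 : γ (x ^ 2) = x ^ 2 := ih _ (by rw [← pow_mul, ← pow_succ']; exact hx)
    refine eq_one_of_coprime_fix (p := 2) hR hγ (hfix d ?_)
    -- `x⁻¹ d x = d⁻¹`
    have h3 : x⁻¹ * d * x = d⁻¹ := by
      have h4 : x * d * (x * d) = x * x := by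
        rw [show x * d = γ x from mul_inv_cancel_left _ _, ← map_mul, ← pow_two, h2, pow_two]
      calc x⁻¹ * d * x = x⁻¹ * x⁻¹ * (x * d * (x * d)) * d⁻¹ := by group
        _ = d⁻¹ := by rw [h4]; group
    set z := d⁻¹ * d⁻¹ with hz
    have hzc : ∀ y, y * z = z * y := fun y => by
      have : z = ⁅d⁻¹, x⁻¹⁆ := by
        rw [commutatorElement_def, inv_inv, inv_inv]
        calc z = d⁻¹ * (x⁻¹ * d * x) := by rw [h3]
          _ = d⁻¹ * x⁻¹ * d * x := by group
      rw [this]; exact hcomm _ _ _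
    have h5 : x⁻¹ * x⁻¹ * d * (x * x) = d := by
      rw [← pow_two x, mul_assoc, hsq, pow_two]; group
    have h6 : d = d * z * z := by
      have hxz : x⁻¹ * z * x = z := by rw [hzc x⁻¹, inv_mul_cancel_right]
      conv_lhs => rw [← h5]
      calc x⁻¹ * x⁻¹ * d * (x * x) = x⁻¹ * (x⁻¹ * d * x) * x := by group
        _ = x⁻¹ * (d * z) * x := by rw [h3, hz]; group
        _ = (x⁻¹ * d * x) * (x⁻¹ * z * x) := by group
        _ = d * z * z := by rw [hxz, h3, hz]; group
    have h7 : z * z = 1 := by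
      rw [mul_assoc] at h6
      exact mul_eq_left.mp h6.symm
    calc d ^ 4 = (z * z)⁻¹ := by simp only [hz, mul_inv_rev, inv_inv, pow_succ, pow_zero, one_mul, mul_assoc]
      _ = 1 := by rw [h7, inv_one]

/-- A characteristic subgroup of small exponent on which the automorphisms act with `p`-group kernel. -/
theorem exists_char_small {R : Type u} [Group R] [Finite R] (hR : IsPGroup p R) :
    ∃ (Q : Subgroup R) (hQ : ∀ g : MulAut R, ∀ x ∈ Q, g x ∈ Q),
      (∀ x ∈ Q, IsSmall p x) ∧ IsPGroup p (restrictHom Q hQ).ker := by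
  by_cases hp : p = 2
  swap
  · obtain ⟨Q, hQ, h1, h2⟩ := Cfsg.Lib.Local.RankTwoAut.exists_char_exponent hp hR
    exact ⟨Q, hQ, fun x hx => Or.inl (h1 x hx), h2⟩
  subst hp
  haveI : Finite (MulAut R) := Finite.of_injective (fun f => (f : R → R)) DFunLike.coe_injective
  obtain ⟨K, hKc, hK1, hK2, hK3⟩ := Cfsg.Agent.S0093.result hR
  have hKp : IsPGroup 2 K := hR.to_subgroup K
  have hfr : ∀ c ∈ frattini K, ∀ y : K, y * c = c * y := fun c hc y => by
    have h := hK1 ⟨c, hc, rfl⟩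
    exact Subtype.ext (h y y.2)
  have hcomm : ∀ x y z : K, z * ⁅x, y⁆ = ⁅x, y⁆ * z := fun x y z =>
    hfr _ (Cfsg.Lib.PGroup.commutator_le_frattini hKp
      (Subgroup.commutator_mem_commutator (Subgroup.mem_top x) (Subgroup.mem_top y))) z
  have hsqf : ∀ x : K, x ^ 2 ∈ frattini K := fun x => Cfsg.Lib.PGroup.pow_mem_frattini hKp x
  have hsq : ∀ x y : K, y * x ^ 2 = x ^ 2 * y := fun x y => hfr _ (hsqf x) y
  have hmul4 : ∀ x y : K, x ^ 4 = 1 → y ^ 4 = 1 → (x * y) ^ 4 = 1 := by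
    intro x y hx hy
    set c := ⁅y, x⁆ with hc
    have hcc : ∀ z, z * c = c * z := hcomm y x
    have hc2 : c ^ 2 = 1 := by
      have h1 : ⁅y ^ 2, x⁆ = 1 := by
        rw [commutatorElement_eq_one_iff_mul_comm]; exact (hsq y x).symm
      have h2 : ⁅y ^ 2, x⁆ = c ^ 2 := by
        rw [pow_two, pow_two, hc]
        calc ⁅y * y, x⁆ = y * ⁅y, x⁆ * y⁻¹ * ⁅y, x⁆ := by simp only [commutatorElement_def]; group
          _ = ⁅y, x⁆ * ⁅y, x⁆ := by rw [hcc y, mul_inv_cancel_right]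
      rw [← h2, h1]
    have hyx : y * x = c * x * y := by rw [hc, commutatorElement_def]; group
    have h2 : (x * y) ^ 2 = c * x ^ 2 * y ^ 2 := by
      calc (x * y) ^ 2 = x * (y * x) * y := by rw [pow_two]; group
        _ = (x * c) * x * y * y := by rw [hyx]; group
        _ = c * x ^ 2 * y ^ 2 := by rw [hcc x, pow_two, pow_two]; group
    have hC1 : Commute (c * x ^ 2) (y ^ 2) := (hsq y _ : _)
    have hC2 : Commute c (x ^ 2) := (hsq x c : _)
    rw [show 4 = 2 * 2 by norm_num, pow_mul, h2, hC1.mul_pow, hC2.mul_pow, hc2, one_mul, ← pow_mul, ← pow_mul,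
      hx, hy, one_mul]
  let Q : Subgroup R :=
    { carrier := {x | x ∈ K ∧ x ^ 4 = 1}
      one_mem' := ⟨one_mem _, one_pow _⟩
      mul_mem' := fun {x y} hx hy => ⟨mul_mem hx.1 hy.1, congrArg Subtype.val
        (hmul4 ⟨x, hx.1⟩ ⟨y, hy.1⟩ (Subtype.ext hx.2) (Subtype.ext hy.2))⟩
      inv_mem' := fun {x} hx => ⟨inv_mem hx.1, by rw [inv_pow, hx.2, inv_one]⟩ }
  have hQ : ∀ g : MulAut R, ∀ x ∈ Q, g x ∈ Q := fun g x hx =>
    ⟨apply_mem_of_char hKc g x hx.1, by rw [← map_pow, hx.2, map_one]⟩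
  refine ⟨Q, hQ, fun x hx => Or.inr ⟨rfl, hx.2⟩, ?_⟩
  refine Cfsg.Lib.Local.isPGroup_of_forall_coprime fun a ha hcop => ?_
  refine Cfsg.Agent.S0121.result hR K hKc hK1 hK2 hK3 a hcop fun x hx => ?_
  have h1 := fix_of_fix_four hKp hsq hcomm (γ := restrictHom K (apply_mem_of_char hKc) a)
    (hcop.coprime_dvd_left (orderOf_map_dvd _ a)) (fun z hz => Subtype.ext (congrArg Subtype.val
      (DFunLike.congr_fun (MonoidHom.mem_ker.mp ha) (⟨z, z.2, congrArg Subtype.val hz⟩ : Q)) :)) ⟨x, hx⟩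
  exact congrArg Subtype.val h1

variable {Ω : Type u} [Group Ω] {S : Subgroup Ω} {F : FusionSystem S}

/-- An essential subgroup carries a subgroup of small exponent of the hyperfocal subgroup on which some filtration is
preserved by the automizer and stabilized by the normalizer in `S` only trivially. -/
theorem false_of_series [Finite S] (hS : IsPGroup p S) (hF : F.IsSaturated p) {Q : Subgroup Ω}
    (hQ : F.IsEssential p Q) (W : ℕ → Subgroup Ω) (h0 : W 0 = ⊥)
    (hall : ∃ N, ∀ x ∈ F.hyperfocalSubgroup p, x ∈ Q → IsSmall p x → x ∈ W N)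
    (hinv : ∀ α ∈ F.autGroup Q, ∀ (i : ℕ) (x : Q), (x : Ω) ∈ F.hyperfocalSubgroup p → IsSmall p (x : Ω) →
      ((α x : Q) : Ω) ∈ F.hyperfocalSubgroup p → (x : Ω) ∈ W i → ((α x : Q) : Ω) ∈ W i)
    (hstep : ∀ s ∈ normalizerIn S Q, ∀ (i : ℕ) (x : Ω), x ∈ F.hyperfocalSubgroup p → x ∈ Q → IsSmall p x →
      x ∈ W (i + 1) → x⁻¹ * (s * x * s⁻¹) ∈ W i) : False := by
  obtain ⟨-, -, -, hmax, -, hRI⟩ := RankTwo.basic hS hF hQ
  have hQS := hQ.1.1
  haveI := finite_of_le hQS
  haveI : Finite (MulAut Q) := Finite.of_injective (fun f => (f : Q → Q)) DFunLike.coe_injective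
  set K := F.autGroup Q
  set N : Subgroup Q := Subgroup.closure {y : Q | ∃ α ∈ K, (orderOf α).Coprime p ∧ ∃ x : Q, y = x⁻¹ * α x}
  have hNinv : ∀ β ∈ K, ∀ y ∈ N, β y ∈ N := by
    intro β hβ y hy
    have h1 := Subgroup.mem_map_of_mem β.toMonoidHom hy
    rw [MonoidHom.map_closure] at h1
    refine Subgroup.closure_mono ?_ h1
    rintro _ ⟨_, ⟨α, hα, hcop, x, rfl⟩, rfl⟩
    refine ⟨β * α * β⁻¹, K.mul_mem (K.mul_mem hβ hα) (K.inv_mem hβ), ?_, β x, ?_⟩
    · rwa [show β * α * β⁻¹ = MulAut.conj β α from rfl, MulEquiv.orderOf_eq]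
    · simp
  have hNhyp : ∀ y ∈ N, (y : Ω) ∈ F.hyperfocalSubgroup p := by
    intro y hy
    refine Subgroup.closure_induction (fun z hz => ?_) (one_mem _)
      (fun a b _ _ ha hb => Subgroup.mul_mem _ ha hb) (fun a _ ha => Subgroup.inv_mem _ ha) hy
    obtain ⟨α, hα, hcop, x, rfl⟩ := hz
    exact mem_hyperfocal_of_coprime hQS hα hcop x
  obtain ⟨D, hD, hDs, hDker⟩ := exists_char_small (p := p) (((hS.to_le hQS)).to_subgroup N)
  let res : K →* MulAut N :=
    { toFun := fun β =>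
        { toFun := fun y => ⟨(β : MulAut Q) (y : Q), hNinv _ β.2 _ y.2⟩
          invFun := fun y => ⟨(β : MulAut Q)⁻¹ (y : Q), hNinv _ (K.inv_mem β.2) _ y.2⟩
          left_inv := fun y => Subtype.ext ((β : MulAut Q).symm_apply_apply y)
          right_inv := fun y => Subtype.ext ((β : MulAut Q).apply_symm_apply y)
          map_mul' := fun a b => Subtype.ext (map_mul (β : MulAut Q) (a : Q) (b : Q)) }
      map_one' := rfl
      map_mul' := fun _ _ => rfl }
  let pt : D → Ω := fun x => (((x : N) : Q) : Ω)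
  have hpt : ∀ x : D, pt x ∈ F.hyperfocalSubgroup p ∧ pt x ∈ Q ∧ IsSmall p (pt x) := fun x => by
    refine ⟨hNhyp _ (x : N).2, ((x : N) : Q).2, ?_⟩
    rcases hDs _ x.2 with h | ⟨h2, h⟩
    · exact Or.inl (congrArg (fun z : N => ((z : Q) : Ω)) h)
    · exact Or.inr ⟨h2, congrArg (fun z : N => ((z : Q) : Ω)) h⟩
  let act : K →* MulAut D := (restrictHom D hD).comp res
  have hactpt : ∀ (β : K) (x : D), pt (act β x) = (((β : MulAut Q) ((x : N) : Q) : Q) : Ω) := fun _ _ => rfl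
  have hWinv : ∀ (β : K) (i : ℕ) (x : D), pt x ∈ W i → pt (act β x) ∈ W i := fun β i x hx =>
    hinv _ β.2 i _ (hpt x).1 (hpt x).2.2 (hpt (act β x)).1 hx
  let C : Subgroup K :=
    { carrier := {β | ∀ (i : ℕ) (x : D), pt x ∈ W (i + 1) → pt (x⁻¹ * act β x) ∈ W i}
      one_mem' := fun i x _ => by simp [pt, one_mem]
      mul_mem' := fun {a b} ha hb i x hx => by
        have h1 := hb i x hx
        have h2 := ha i (act b x) (hWinv b _ x hx)
        rw [map_mul, MulAut.mul_apply,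
          show x⁻¹ * act a (act b x) = (x⁻¹ * act b x) * ((act b x)⁻¹ * act a (act b x)) by group]
        exact (W i).mul_mem h1 h2
      inv_mem' := fun {a} ha i x hx => by
        have h1 := ha i (act a⁻¹ x) (hWinv a⁻¹ _ x hx)
        rw [← MulAut.mul_apply, ← map_mul, mul_inv_cancel, map_one, MulAut.one_apply] at h1
        have h2 := (W i).inv_mem h1
        have he : x⁻¹ * act a⁻¹ x = ((act a⁻¹ x)⁻¹ * x)⁻¹ := by group
        rw [he]
        exact h2 }
  haveI hCn : C.Normal := ⟨fun a ha b i x hx => by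
    have h1 := hWinv b i _ (ha i (act b⁻¹ x) (hWinv b⁻¹ _ x hx))
    rw [map_mul, map_inv] at h1
    rw [← MulAut.mul_apply, ← map_mul, ← MulAut.mul_apply, ← map_mul, mul_inv_cancel, map_one,
      MulAut.one_apply] at h1
    rwa [mul_assoc b a]⟩
  have hCp : IsPGroup p C := by
    refine Cfsg.Lib.Local.isPGroup_of_forall_coprime fun a ha hcop => ?_
    obtain ⟨n, hn⟩ := hall
    have hfix : ∀ (i : ℕ) (x : D), pt x ∈ W i → act a x = x := by
      intro i
      induction i with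
      | zero =>
        intro x hx
        rw [h0, Subgroup.mem_bot] at hx
        have : x = 1 := Subtype.ext (Subtype.ext (Subtype.ext hx))
        rw [this, map_one]
      | succ i ih =>
        intro x hx
        exact eq_one_of_coprime_fix ((((hS.to_le hQS)).to_subgroup N).to_subgroup D)
          (hcop.coprime_dvd_left (orderOf_map_dvd _ a)) (ih _ (ha i x hx))
    have hker : res a ∈ (restrictHom D hD).ker := MulEquiv.ext fun x => hfix n x (hn _ (hpt x).1 (hpt x).2.1 (hpt x).2.2)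
    obtain ⟨k, hk⟩ := hDker ⟨res a, hker⟩
    have hres : res a = 1 := orderOf_eq_one_iff.mp (Nat.eq_one_of_dvd_coprimes
      ((hcop.coprime_dvd_left (orderOf_map_dvd res a)).pow_right k) dvd_rfl
      (orderOf_dvd_of_pow_eq_one (congrArg Subtype.val hk)))
    refine Subtype.ext (MulEquiv.ext fun x => ?_)
    have hcop' : (orderOf (a : MulAut Q)).Coprime p := by rwa [Subgroup.orderOf_coe]
    refine eq_one_of_coprime_fix (hS.to_le hQS) hcop' ?_
    have hxN : x⁻¹ * (a : MulAut Q) x ∈ N := Subgroup.subset_closure ⟨_, a.2, hcop', x, rfl⟩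
    exact congrArg Subtype.val (DFunLike.congr_fun hres ⟨_, hxN⟩)
  refine hRI fun a ha => hmax C hCn hCp ?_
  intro i x hx
  obtain ⟨g, hgS, hg⟩ := mem_autInducedBy.1 (Subgroup.mem_subgroupOf.1 ha)
  have hgN : g ∈ normalizerIn S Q := ⟨hgS, mem_normalizer_of_aut hg⟩
  have h1 := hstep g hgN i (pt x) (hpt x).1 (hpt x).2.1 (hpt x).2.2 hx
  rw [← hg] at h1
  exact h1

/-- Without essential subgroups the whole group is normal in the system. -/
theorem isNormal_self_of_no_essential [Finite S] (hS : IsPGroup p S) (hF : F.IsSaturated p)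
    (h : ∀ Q, ¬ F.IsEssential p Q) : F.IsNormal S := by
  refine isNormal_of_forall_essential hS hF fun P hP => ?_
  obtain rfl := hP.resolve_right (h P)
  refine ⟨le_rfl, fun α _ => ?_⟩
  rw [Subgroup.subgroupOf_self, ← MonoidHom.range_eq_map]
  exact MonoidHom.range_eq_top.2 α.surjective

theorem no_essential_of_extends [Finite S] (hS : IsPGroup p S) (hF : F.IsSaturated p)
    (h : ∀ A B : Subgroup Ω, A ≤ F.hyperfocalSubgroup p → B ≤ F.hyperfocalSubgroup p → IsCyclic ↥A →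
      (Nat.card ↥A = p ∨ Nat.card ↥A = 4) → IsCyclic ↥B → (Nat.card ↥B = p ∨ Nat.card ↥B = 4) →
      F.homSet A B ⊆ F.normalizerHom S A) : ∀ Q, ¬ F.IsEssential p Q := by
  intro Q hQ
  have hQS := hQ.1.1
  haveI := finite_of_le hQS
  haveI : Group.IsNilpotent S := hS.isNilpotent
  let W : ℕ → Subgroup Ω := fun i => (Subgroup.upperCentralSeries S i).map S.subtype
  obtain ⟨n, hn⟩ := (inferInstance : Group.IsNilpotent S).nilpotent'
  refine false_of_series hS hF hQ W ?_ ⟨n, fun x hx hxQ _ => ⟨⟨x, hQS hxQ⟩, hn.ge trivial, rfl⟩⟩ ?_ ?_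
  · simp [W]
  · intro α hα i x hxh hxs hyh hxW
    by_cases hx1 : (x : Ω) = 1
    · have : x = 1 := Subtype.ext hx1
      rw [this, map_one]; exact one_mem _
    set y : Q := α x
    have hord : orderOf y = orderOf x := MulEquiv.orderOf_eq α x
    have hc : Nat.card (Subgroup.zpowers (x : Ω)) = p ∨ Nat.card (Subgroup.zpowers (x : Ω)) = 4 := by
      rw [Nat.card_zpowers]
      rcases hxs with hx | ⟨rfl, hx⟩
      · exact Or.inl (orderOf_eq_prime hx hx1)
      · have h4 : orderOf (x : Ω) ∣ 2 ^ 2 := orderOf_dvd_of_pow_eq_one hx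
        obtain ⟨j, hj, he⟩ := (Nat.dvd_prime_pow Nat.prime_two).1 h4
        interval_cases j
        · exact absurd (orderOf_eq_one_iff.1 (by simpa using he)) hx1
        · exact Or.inl (by simpa using he)
        · exact Or.inr (by simpa using he)
    have hxQ : Subgroup.zpowers (x : Ω) ≤ Q := Subgroup.zpowers_le.2 x.2
    have hφ := restrict_mem ((mem_autGroup hQS).1 hα) hxQ
    have hv : ∀ z : Subgroup.zpowers (x : Ω),
        ((Q.subtype.comp α.toMonoidHom).comp (Subgroup.inclusion hxQ)) z ∈ Subgroup.zpowers (y : Ω) := by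
      rintro ⟨_, k, rfl⟩
      refine ⟨k, ?_⟩
      show (y : Ω) ^ k = ((α ⟨(x : Ω) ^ k, _⟩ : Q) : Ω)
      rw [show (⟨(x : Ω) ^ k, _⟩ : Q) = x ^ k from rfl, map_zpow, Subgroup.coe_zpow]
    obtain ⟨-, -, -, ψ, hψ, hψe, -⟩ := h _ _ (Subgroup.zpowers_le.2 hxh) (Subgroup.zpowers_le.2 hyh)
      inferInstance hc inferInstance
      (by rwa [Nat.card_zpowers (y : Ω), Subgroup.orderOf_coe, hord, ← Subgroup.orderOf_coe, ← Nat.card_zpowers])
      ⟨hφ, hv⟩
    have hψS := restrict_mem hψ (le_sup_right : S ≤ Subgroup.zpowers (x : Ω) ⊔ S)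
    have hr := eq_top_of_isConj (⟨_, hψS, rfl⟩ : F.IsConj S _)
    obtain ⟨x', hx', hxe⟩ := hxW
    refine ⟨homIso hψS hr x', ?_, ?_⟩
    · haveI : (Subgroup.upperCentralSeries S i).Characteristic := inferInstance
      exact apply_mem_of_char inferInstance (homIso hψS hr) x' hx'
    · show ψ _ = _
      have he := hψe ⟨(x : Ω), Subgroup.mem_zpowers _⟩
      rw [show (Subgroup.inclusion le_sup_right x' : ↥(Subgroup.zpowers (x : Ω) ⊔ S)) =
        Subgroup.inclusion le_sup_left ⟨(x : Ω), Subgroup.mem_zpowers _⟩ from Subtype.ext hxe, he]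
      rfl
  · intro s hs i x hxh hxQ _ hxW
    obtain ⟨x', hx', rfl⟩ := hxW
    refine ⟨x'⁻¹ * (⟨s, hs.1⟩ * x' * ⟨s, hs.1⟩⁻¹), ?_, rfl⟩
    have h1 := Subgroup.mem_upperCentralSeries_succ_iff.1 (Subgroup.inv_mem _ hx') ⟨s, hs.1⟩
    rwa [show x'⁻¹ * (⟨s, hs.1⟩ * x' * ⟨s, hs.1⟩⁻¹) = ⁅x'⁻¹, (⟨s, hs.1⟩ : S)⁆ by
      rw [commutatorElement_def]; group]

/-- S normal from maps of small cyclic subgroups extending to it. -/
theorem isNormal_of_extends [Finite S] (hS : IsPGroup p S) (hF : F.IsSaturated p)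
    (h : ∀ A B : Subgroup Ω, A ≤ F.hyperfocalSubgroup p → B ≤ F.hyperfocalSubgroup p → IsCyclic ↥A →
      (Nat.card ↥A = p ∨ Nat.card ↥A = 4) → IsCyclic ↥B → (Nat.card ↥B = p ∨ Nat.card ↥B = 4) →
      F.homSet A B ⊆ F.normalizerHom S A) : F.IsNormal S :=
  isNormal_self_of_no_essential hS hF (no_essential_of_extends hS hF h)

theorem eq_one_of_series [Finite S] (hS : IsPGroup p S) {Q : Subgroup Ω} (hQS : Q ≤ S) {α : MulAut Q}
    (hα : α ∈ F.autGroup Q) (hcop : (orderOf α).Coprime p) (W : ℕ → Subgroup Ω) (h0 : W 0 = ⊥)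
    (hall : ∃ n, ∀ x ∈ F.hyperfocalSubgroup p, x ∈ Q → IsSmall p x → x ∈ W n)
    (hstep : ∀ (i : ℕ) (x : Q), (x : Ω) ∈ F.hyperfocalSubgroup p → IsSmall p (x : Ω) →
      ((α x : Q) : Ω) ∈ F.hyperfocalSubgroup p →
      (x : Ω) ∈ W (i + 1) → (x : Ω)⁻¹ * ((α x : Q) : Ω) ∈ W i) : α = 1 := by
  haveI := finite_of_le hQS
  set N : Subgroup Q := Subgroup.closure {y : Q | ∃ x : Q, y = x⁻¹ * α x}
  have hNinv : ∀ β ∈ Subgroup.zpowers α, ∀ y ∈ N, β y ∈ N := by
    intro β hβ y hy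
    have h1 := Subgroup.mem_map_of_mem β.toMonoidHom hy
    rw [MonoidHom.map_closure] at h1
    refine Subgroup.closure_mono ?_ h1
    rintro _ ⟨_, ⟨x, rfl⟩, rfl⟩
    obtain ⟨k, rfl⟩ := hβ
    refine ⟨(α ^ k) x, ?_⟩
    show (α ^ k) (x⁻¹ * α x) = _
    rw [map_mul, map_inv, ← MulAut.mul_apply, ← MulAut.mul_apply, (Commute.self_zpow α k).eq]
  have hNhyp : ∀ y ∈ N, (y : Ω) ∈ F.hyperfocalSubgroup p := by
    intro y hy
    refine Subgroup.closure_induction (fun z hz => ?_) (one_mem _)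
      (fun a b _ _ ha hb => Subgroup.mul_mem _ ha hb) (fun a _ ha => Subgroup.inv_mem _ ha) hy
    obtain ⟨x, rfl⟩ := hz
    exact mem_hyperfocal_of_coprime hQS hα hcop x
  obtain ⟨D, hD, hDs, hDker⟩ := exists_char_small (p := p) (((hS.to_le hQS)).to_subgroup N)
  let res : Subgroup.zpowers α →* MulAut N :=
    { toFun := fun β =>
        { toFun := fun y => ⟨(β : MulAut Q) (y : Q), hNinv _ β.2 _ y.2⟩
          invFun := fun y => ⟨(β : MulAut Q)⁻¹ (y : Q), hNinv _ (inv_mem β.2) _ y.2⟩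
          left_inv := fun y => Subtype.ext ((β : MulAut Q).symm_apply_apply y)
          right_inv := fun y => Subtype.ext ((β : MulAut Q).apply_symm_apply y)
          map_mul' := fun a b => Subtype.ext (map_mul (β : MulAut Q) (a : Q) (b : Q)) }
      map_one' := rfl
      map_mul' := fun _ _ => rfl }
  set a : Subgroup.zpowers α := ⟨α, Subgroup.mem_zpowers α⟩
  set γ : MulAut D := restrictHom D hD (res a)
  have hca : (orderOf a).Coprime p := by rwa [← Subgroup.orderOf_coe]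
  have hsm : ∀ x : D, IsSmall p (((x : N) : Q) : Ω) := fun x => by
    rcases hDs _ x.2 with h | ⟨h2, h⟩
    · exact Or.inl (congrArg (fun z : N => ((z : Q) : Ω)) h)
    · exact Or.inr ⟨h2, congrArg (fun z : N => ((z : Q) : Ω)) h⟩
  have hfix : ∀ (i : ℕ) (x : D), (((x : N) : Q) : Ω) ∈ W i → γ x = x := by
    intro i
    induction i with
    | zero =>
      intro x hx
      rw [h0, Subgroup.mem_bot] at hx
      have : x = 1 := Subtype.ext (Subtype.ext (Subtype.ext hx))
      rw [this, map_one]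
    | succ i ih =>
      intro x hx
      exact eq_one_of_coprime_fix ((((hS.to_le hQS)).to_subgroup N).to_subgroup D)
        (hca.coprime_dvd_left ((orderOf_map_dvd _ _).trans (orderOf_map_dvd res a)))
        (ih _ (hstep i ((x : N) : Q) (hNhyp _ (x : N).2) (hsm x) (hNhyp _ (γ x : N).2) hx))
  obtain ⟨n, hn⟩ := hall
  have hker : res a ∈ (restrictHom D hD).ker :=
    MulEquiv.ext fun x => hfix n x (hn _ (hNhyp _ (x : N).2) ((x : N) : Q).2 (hsm x))
  obtain ⟨k, hk⟩ := hDker ⟨res a, hker⟩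
  have hres : res a = 1 := orderOf_eq_one_iff.mp (Nat.eq_one_of_dvd_coprimes
    ((hca.coprime_dvd_left (orderOf_map_dvd res a)).pow_right k) dvd_rfl
    (orderOf_dvd_of_pow_eq_one (congrArg Subtype.val hk)))
  refine MulEquiv.ext fun x => eq_one_of_coprime_fix (hS.to_le hQS) hcop ?_
  have hxN : x⁻¹ * α x ∈ N := Subgroup.subset_closure ⟨x, rfl⟩
  exact congrArg Subtype.val (DFunLike.congr_fun hres ⟨_, hxN⟩)

theorem eq_inner_of_small [Finite S] (hS : IsPGroup p S) (hF : F.IsSaturated p)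
    (h : ∀ A B : Subgroup Ω, A ≤ F.hyperfocalSubgroup p → B ≤ F.hyperfocalSubgroup p → IsCyclic ↥A →
      (Nat.card ↥A = p ∨ Nat.card ↥A = 4) → IsCyclic ↥B → (Nat.card ↥B = p ∨ Nat.card ↥B = 4) →
      F.homSet A B ⊆ (innerFusionSystem S).Hom A) :
    ∀ P : Subgroup Ω, F.Hom P = (innerFusionSystem S).Hom P := by
  have hext : ∀ A B : Subgroup Ω, A ≤ F.hyperfocalSubgroup p → B ≤ F.hyperfocalSubgroup p → IsCyclic ↥A →
      (Nat.card ↥A = p ∨ Nat.card ↥A = 4) → IsCyclic ↥B → (Nat.card ↥B = p ∨ Nat.card ↥B = 4) →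
      F.homSet A B ⊆ F.normalizerHom S A := by
    intro A B h1 h2 h3 h4 h5 h6 φ hφ
    obtain ⟨hA, g, hg, he⟩ := h A B h1 h2 h3 h4 h5 h6 hφ
    have hself : S ≤ normalizerIn S S := le_inf le_rfl Subgroup.le_normalizer
    refine ⟨hφ.1, hA.trans hself, fun x => hself (hom_mem hφ.1 x), conjHom (A ⊔ S) g,
      F.conj_mem (sup_le hA le_rfl) hg, fun x => (he x).symm, le_antisymm ?_ fun y hy => ?_⟩
    · rintro _ ⟨x, hx, rfl⟩
      exact S.mul_mem (S.mul_mem hg hx) (S.inv_mem hg)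
    · exact ⟨⟨g⁻¹ * y * g, Subgroup.mem_sup_right (S.mul_mem (S.mul_mem (S.inv_mem hg) hy) hg)⟩,
        S.mul_mem (S.mul_mem (S.inv_mem hg) hy) hg, by simp [conjHom, mul_assoc]⟩
  intro P
  refine Set.Subset.antisymm (le_inner_of_autGroup hS hF (fun R hR => ?_) P) (innerFusionSystem_le F P)
  obtain rfl := hR.resolve_right (no_essential_of_extends hS hF hext R)
  haveI : Finite (MulAut R) := Finite.of_injective (fun f => (f : R → R)) DFunLike.coe_injective
  haveI : Group.IsNilpotent R := hS.isNilpotent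
  obtain ⟨n, hn⟩ := (inferInstance : Group.IsNilpotent R).nilpotent'
  refine Cfsg.Lib.Local.isPGroup_of_forall_coprime fun a ha hcop => ?_
  refine eq_one_of_series (F := F) hS le_rfl ha hcop
    (fun i => (Subgroup.upperCentralSeries R i).map R.subtype) (by simp)
    ⟨n, fun x hx hxQ _ => ⟨⟨x, hxQ⟩, hn.ge trivial, rfl⟩⟩ fun i x hxh hxs hyh hxW => ?_
  obtain ⟨x', hx', hxe⟩ := hxW
  obtain rfl : x' = x := Subtype.ext hxe
  by_cases hx1 : (x' : Ω) = 1
  · rw [show x' = 1 from Subtype.ext hx1, map_one, OneMemClass.coe_one, inv_one, one_mul]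
    exact one_mem _
  have hc : Nat.card (Subgroup.zpowers (x' : Ω)) = p ∨ Nat.card (Subgroup.zpowers (x' : Ω)) = 4 := by
    rw [Nat.card_zpowers]
    rcases hxs with hx | ⟨rfl, hx⟩
    · exact Or.inl (orderOf_eq_prime hx hx1)
    · obtain ⟨j, hj, he⟩ := (Nat.dvd_prime_pow Nat.prime_two).1
        (orderOf_dvd_of_pow_eq_one hx : orderOf (x' : Ω) ∣ 2 ^ 2)
      interval_cases j
      · exact absurd (orderOf_eq_one_iff.1 (by simpa using he)) hx1
      · exact Or.inl (by simpa using he)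
      · exact Or.inr (by simpa using he)
  have hxQ : Subgroup.zpowers (x' : Ω) ≤ R := Subgroup.zpowers_le.2 x'.2
  have hv : ∀ z : Subgroup.zpowers (x' : Ω),
      ((R.subtype.comp a.toMonoidHom).comp (Subgroup.inclusion hxQ)) z ∈ Subgroup.zpowers ((a x' : R) : Ω) := by
    rintro ⟨_, k, rfl⟩
    refine ⟨k, ?_⟩
    show ((a x' : R) : Ω) ^ k = ((a ⟨(x' : Ω) ^ k, _⟩ : R) : Ω)
    rw [show (⟨(x' : Ω) ^ k, _⟩ : R) = x' ^ k from rfl, map_zpow, Subgroup.coe_zpow]
  obtain ⟨-, g, hg, he⟩ := h _ _ (Subgroup.zpowers_le.2 hxh) (Subgroup.zpowers_le.2 hyh) inferInstance hc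
    inferInstance (by rwa [Nat.card_zpowers ((a x' : R) : Ω), Subgroup.orderOf_coe, MulEquiv.orderOf_eq,
      ← Subgroup.orderOf_coe, ← Nat.card_zpowers]) ⟨restrict_mem ((mem_autGroup le_rfl).1 ha) hxQ, hv⟩
  refine ⟨x'⁻¹ * (⟨g, hg⟩ * x' * ⟨g, hg⟩⁻¹), ?_, ?_⟩
  · have h1 := Subgroup.mem_upperCentralSeries_succ_iff.1 (Subgroup.inv_mem _ hx') ⟨g, hg⟩
    rwa [show x'⁻¹ * (⟨g, hg⟩ * x' * ⟨g, hg⟩⁻¹) = ⁅x'⁻¹, (⟨g, hg⟩ : R)⁆ by
      rw [commutatorElement_def]; group]
  · have h2 : ((a x' : R) : Ω) = g * (x' : Ω) * g⁻¹ := he ⟨(x' : Ω), Subgroup.mem_zpowers _⟩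
    rw [h2]
    rfl

theorem conj_eq_of_prime {x g : Ω} (hx : x ^ p = 1) {n : ℕ} (hg : g ^ p ^ n = 1) {k : ℤ}
    (hk : g * x * g⁻¹ = x ^ k) : g * x * g⁻¹ = x := by
  by_cases hx1 : x = 1
  · rw [hx1]; group
  have hiter : ∀ m : ℕ, g ^ m * x * (g ^ m)⁻¹ = x ^ (k ^ m) := by
    intro m
    induction m with
    | zero => simp
    | succ m ih =>
      calc g ^ (m + 1) * x * (g ^ (m + 1))⁻¹ = g * (g ^ m * x * (g ^ m)⁻¹) * g⁻¹ := by
            rw [pow_succ']; group
        _ = (g * x * g⁻¹) ^ (k ^ m) := by rw [ih, conj_zpow]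
        _ = x ^ (k ^ (m + 1)) := by rw [hk, ← zpow_mul, pow_succ']
  have h1 := hiter (p ^ n)
  rw [hg, one_mul, inv_one, mul_one] at h1
  have ho := orderOf_eq_prime hx hx1
  have h2 : ((k ^ (p ^ n) : ℤ) : ZMod p) = ((1 : ℤ) : ZMod p) := by
    refine (ZMod.intCast_eq_intCast_iff_dvd_sub _ _ p).2 ?_
    rw [show (p : ℤ) = ((orderOf x : ℕ) : ℤ) by rw [ho], orderOf_dvd_iff_zpow_eq_one, zpow_sub, zpow_one,
      mul_inv_eq_one]
    exact h1
  have h3 : ∀ (z : ZMod p) (m : ℕ), z ^ p ^ m = z := fun z m => by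
    induction m with
    | zero => rw [pow_zero, pow_one]
    | succ m ih => rw [pow_succ, pow_mul, ih, ZMod.pow_card]
  rw [Int.cast_pow, h3, Int.cast_one, ← Int.cast_one (R := ZMod p)] at h2
  rw [hk]
  rw [ZMod.intCast_eq_intCast_iff_dvd_sub, ← ho, orderOf_dvd_iff_zpow_eq_one, zpow_sub, zpow_one,
    mul_inv_eq_one] at h2
  exact h2.symm

theorem isNormal_of_small_normal [Finite S] (hS : IsPGroup p S) (hF : F.IsSaturated p)
    (hnorm : ∀ x ∈ F.focalSubgroup, (x ^ p = 1 ∨ (p = 2 ∧ x ^ 4 = 1)) → ∀ s ∈ S,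
      s * x * s⁻¹ ∈ Subgroup.zpowers x) : F.IsNormal S := by
  refine isNormal_self_of_no_essential hS hF fun Q hQ => ?_
  have hQS := hQ.1.1
  set V := Subgroup.closure {x : Ω | x ∈ F.focalSubgroup ∧ x ∈ Q ∧ x ^ p = 1}
  let W : ℕ → Subgroup Ω := fun i => if i = 0 then ⊥ else if i = 1 then V else ⊤
  refine false_of_series hS hF hQ W rfl ⟨2, fun _ _ _ _ => trivial⟩ ?_ ?_
  · intro α hα i x _ _ _ hxW
    rcases i with _ | _ | i
    · have h : (x : Ω) ∈ (⊥ : Subgroup Ω) := hxW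
      have : x = 1 := Subtype.ext (Subgroup.mem_bot.1 h)
      rw [this, map_one]; exact one_mem _
    · have h : (x : Ω) ∈ V := hxW
      have key : ∀ z ∈ V, ∀ hz : z ∈ Q, ((α ⟨z, hz⟩ : Q) : Ω) ∈ V := by
        intro z hzV
        refine Subgroup.closure_induction (p := fun z _ => ∀ hz : z ∈ Q, ((α ⟨z, hz⟩ : Q) : Ω) ∈ V) ?_ ?_ ?_ ?_ hzV
        · rintro z ⟨hzf, -, hzp⟩ hz
          refine Subgroup.subset_closure ⟨?_, (α _).2, ?_⟩
          · have h1 : z⁻¹ * ((α ⟨z, hz⟩ : Q) : Ω) ∈ F.focalSubgroup :=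
              Subgroup.subset_closure ⟨Q, _, ⟨z, hz⟩, (mem_autGroup hQS).1 hα, rfl⟩
            simpa using Subgroup.mul_mem _ hzf h1
          · rw [← Subgroup.coe_pow, ← map_pow, show (⟨z, hz⟩ : Q) ^ p = 1 from Subtype.ext hzp, map_one]
            rfl
        · intro hz
          rw [show (⟨1, hz⟩ : Q) = 1 from rfl, map_one]
          exact one_mem _
        · intro u v hu hv ihu ihv hz
          have hsub : V ≤ Q := (Subgroup.closure_le _).2 fun w hw => hw.2.1
          rw [show (⟨u * v, hz⟩ : Q) = ⟨u, hsub hu⟩ * ⟨v, hsub hv⟩ from rfl, map_mul]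
          exact mul_mem (ihu _) (ihv _)
        · intro u hu ihu hz
          have hsub : V ≤ Q := (Subgroup.closure_le _).2 fun w hw => hw.2.1
          rw [show (⟨u⁻¹, hz⟩ : Q) = ⟨u, hsub hu⟩⁻¹ from rfl, map_inv]
          exact inv_mem (ihu _)
      exact key _ h x.2
    · exact trivial
  · intro s hs i x hxh hxQ hxs hxW
    have hxf := hyperfocal_le_focal F hxh
    obtain ⟨n, hn⟩ := hS ⟨s, hs.1⟩
    have hn' : s ^ p ^ n = 1 := congrArg Subtype.val hn
    rcases i with _ | _ | i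
    · have h : x ∈ V := hxW
      have key : ∀ z ∈ V, s * z * s⁻¹ = z := by
        intro z hz
        refine Subgroup.closure_induction (p := fun z _ => s * z * s⁻¹ = z) ?_ (by group) ?_ ?_ hz
        · rintro z ⟨hzf, -, hzp⟩
          obtain ⟨k, hk⟩ := hnorm z hzf (Or.inl hzp) s hs.1
          exact conj_eq_of_prime hzp hn' hk.symm
        · intro u v _ _ hu hv
          calc s * (u * v) * s⁻¹ = (s * u * s⁻¹) * (s * v * s⁻¹) := by group
            _ = u * v := by rw [hu, hv]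
        · intro u _ hu
          calc s * u⁻¹ * s⁻¹ = (s * u * s⁻¹)⁻¹ := by group
            _ = u⁻¹ := by rw [hu]
      show _ ∈ (⊥ : Subgroup Ω)
      rw [key x h, inv_mul_cancel]
      exact one_mem _
    · refine Subgroup.subset_closure ⟨?_, Q.mul_mem (Q.inv_mem hxQ)
        ((Subgroup.mem_normalizer_iff.1 hs.2 x).1 hxQ), ?_⟩
      · obtain ⟨k, hk⟩ := hnorm x hxf hxs s hs.1
        rw [← hk]
        exact Subgroup.mul_mem _ (Subgroup.inv_mem _ hxf) (Subgroup.zpow_mem _ hxf k)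
      · obtain ⟨k, hk⟩ := hnorm x hxf hxs s hs.1
        have hk' : s * x * s⁻¹ = x ^ k := hk.symm
        by_cases hxp : x ^ p = 1
        · rw [conj_eq_of_prime hxp hn' hk', inv_mul_cancel, one_pow]
        obtain ⟨rfl, h4⟩ := hxs.resolve_left hxp
        rw [hk', ← zpow_neg_one x, ← zpow_add, ← zpow_natCast, ← zpow_mul]
        obtain ⟨j, rfl | rfl⟩ := Int.even_or_odd' k
        · exfalso
          refine hxp ?_
          have h5 : s * x ^ 2 * s⁻¹ = 1 := by
            rw [← conj_pow, hk', ← zpow_natCast, ← zpow_mul,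
              show (2 * j) * ((2 : ℕ) : ℤ) = ((4 : ℕ) : ℤ) * j by push_cast; ring, zpow_mul, zpow_natCast, h4,
              one_zpow]
          rwa [conj_eq_one_iff] at h5
        · rw [show (-1 + (2 * j + 1)) * ((2 : ℕ) : ℤ) = ((4 : ℕ) : ℤ) * j by push_cast; ring, zpow_mul, zpow_natCast,
            h4, one_zpow]
    · exact trivial

end Cfsg.Lib.FusionSys
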