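import Cfsg.Agent.Lib.FusionSys.Constrained
import Cfsg.Agent.Lib.FusionSys.Model
import Cfsg.Agent.Lib.FusionSys.NormalSubgroup
import Mathlib.GroupTheory.Transfer

/-!
# Normal subsystems of the fusion system of a group of characteristic `p`

For `C_G(O_p(G)) ≤ O_p(G)` each normal subsystem of `F_S(G)` over `T` is the fusion system on `T` of exactly
one normal subgroup of `G` with Sylow subgroup `T`.
-/

set_option autoImplicit false

namespace Cfsg.Lib.FusionSys

open Cfsg Cfsg.FusionSystem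

variable {G : Type*} [Group G] [Finite G] {p : ℕ} [Fact p.Prime]

theorem isModel_group (S : Sylow p G)
    (hG : Subgroup.centralizer ((pCore p G : Subgroup G) : Set G) ≤ pCore p G) :
    (groupFusionSystem (S : Subgroup G)).IsModel p G (S : Subgroup G).subtype := by
  refine ⟨inferInstance, ⟨(S : Subgroup G).subtype_injective, fun P hP φ hφ => ?_⟩,
    ⟨S, (Subgroup.range_subtype _).symm⟩, hG⟩
  exact ⟨fun h => ⟨h.2.2.choose, h.2.2.choose_spec⟩, fun ⟨g, hg⟩ => ⟨hP, hφ, g, hg⟩⟩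

theorem core_le_pCore (S : Sylow p G)
    (hG : Subgroup.centralizer ((pCore p G : Subgroup G) : Set G) ≤ pCore p G) :
    (groupFusionSystem (S : Subgroup G)).core ≤ pCore p G := by
  haveI : Finite (S : Subgroup G) := inferInstance
  have hn := isNormal_core (groupFusionSystem (S : Subgroup G))
  haveI := imageOf_normal (isModel_group S hG) hn
  have he : imageOf (S : Subgroup G).subtype (groupFusionSystem (S : Subgroup G)).core =
      (groupFusionSystem (S : Subgroup G)).core := by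
    ext y
    rw [mem_imageOf]
    exact ⟨fun ⟨x, hx, he⟩ => he ▸ hx, fun hy => ⟨⟨y, hn.1 hy⟩, hy, rfl⟩⟩
  have h := Cfsg.Lib.Core.le_pCore (p := p) (N := imageOf (S : Subgroup G).subtype
    (groupFusionSystem (S : Subgroup G)).core) (by rw [he]; exact S.isPGroup'.to_le hn.1)
  exact he ▸ h

/-- The trace of a Sylow subgroup on a normal subgroup is a Sylow subgroup. -/
theorem exists_sylow_inf (S : Sylow p G) (H : Subgroup G) [H.Normal] :
    ∃ R : Sylow p H, (R : Subgroup H) = (S : Subgroup G).subgroupOf H := by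
  obtain ⟨R, hR⟩ := (S.isPGroup'.comap_of_injective H.subtype H.subtype_injective).exists_le_sylow
  refine ⟨R, le_antisymm (fun x hx => ?_) hR⟩
  have hU := sylow_inf_maximal S H (U := (R : Subgroup H).map H.subtype) (Subgroup.map_subtype_le _)
    (R.isPGroup'.map _) (fun y hy => ⟨⟨y, hy.2⟩, hR hy.1, rfl⟩)
  exact (hU.le ⟨x, hx, rfl⟩ : (x : G) ∈ _).1

variable (S : Sylow p G) {T : Subgroup G} {E : FusionSystem T}

section

variable (hE : E.IsNormalIn (groupFusionSystem (S : Subgroup G)) p)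
include hE

omit [Finite G] in
theorem aut_conj_mem {a : G} (ha : a ∈ Subgroup.normalizer (T : Set G)) {β : MulAut T}
    (hβ : β ∈ E.autGroup T) :
    conjAut T ha * β * (conjAut T ha)⁻¹ ∈ E.autGroup T := by
  obtain ⟨⟨-, -, hsub, hT, hinv, -⟩, -⟩ := hE
  have hα : conjAut T ha ∈ (groupFusionSystem (S : Subgroup G)).autGroup T :=
    (mem_autGroup hT.1).2 ⟨hT.1, fun x => hT.1 (conjAut T ha x).2, a, fun x => rfl⟩
  obtain ⟨χ, hχ, hχe⟩ := hinv T le_rfl _ ((mem_autGroup le_rfl).1 hβ) _ hα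
  have he : (T.subgroupOf T).map (T.subtype.comp (conjAut T ha).toMonoidHom) = T := by
    ext y
    constructor
    · rintro ⟨x, -, rfl⟩; exact (conjAut T ha x).2
    · intro hy
      exact ⟨(conjAut T ha)⁻¹ ⟨y, hy⟩, ((conjAut T ha)⁻¹ ⟨y, hy⟩).2, by
        show ((conjAut T ha) ((conjAut T ha)⁻¹ ⟨y, hy⟩) : G) = y
        simp [MulAut.inv_apply]⟩
  refine (mem_autGroup le_rfl).2 ?_
  refine hom_congr (restrict_mem hχ he.ge) fun x => ?_
  have h := hχe ((conjAut T ha)⁻¹ x) (β _).2 (he.ge (conjAut T ha _).2)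
  show ((conjAut T ha * β * (conjAut T ha)⁻¹) x : G) = χ _
  refine (Eq.trans ?_ h.symm).trans (congrArg χ (Subtype.ext ?_))
  · rfl
  · show ((conjAut T ha) ((conjAut T ha)⁻¹ x) : G) = x
    simp [MulAut.inv_apply]

omit [Finite G] in
theorem normal_autGroup_comap (U : Subgroup G) [U.Normal] (hUT : U ≤ T) :
    ((E.autGroup U).comap (MulAut.conjNormal : G →* MulAut U)).Normal := by
  obtain ⟨⟨-, -, hsub, hT, hinv, hfrat⟩, -⟩ := id hE
  refine ⟨fun h hh g => ?_⟩
  rw [Subgroup.mem_comap] at hh ⊢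
  obtain ⟨α, hα, φ₀, hφ₀, hφ⟩ := hfrat U hUT (conjHom U g)
    ⟨hUT.trans hT.1, fun x => hT.1 (hUT (Subgroup.Normal.conj_mem inferInstance _ x.2 g)), g,
      fun _ => rfl⟩
  obtain ⟨-, -, a, ha⟩ := (mem_autGroup hT.1).1 hα
  have hae : ∀ t : T, (α t : G) = a * (t : G) * a⁻¹ := ha
  have hφ₀e : ∀ x : U, φ₀ x = (a⁻¹ * g) * (x : G) * (a⁻¹ * g)⁻¹ := fun x => by
    have h1 : g * (x : G) * g⁻¹ = a * φ₀ x * a⁻¹ :=
      (hφ x (hom_mem hφ₀ x)).trans (hae ⟨φ₀ x, hom_mem hφ₀ x⟩)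
    calc φ₀ x = a⁻¹ * (a * φ₀ x * a⁻¹) * a := by group
      _ = a⁻¹ * (g * (x : G) * g⁻¹) * a := by rw [h1]
      _ = _ := by group
  have hk : (MulAut.conjNormal (a⁻¹ * g) : MulAut U) ∈ E.autGroup U := by
    refine (mem_autGroup hUT).2 (hom_congr hφ₀ fun x => ?_)
    show ((MulAut.conjNormal (a⁻¹ * g) : MulAut U) x : G) = _
    rw [MulAut.conjNormal_apply, hφ₀e]
  obtain ⟨γ, hγdef⟩ : ∃ γ : MulAut U, γ = MulAut.conjNormal (a⁻¹ * g) * MulAut.conjNormal h *
      (MulAut.conjNormal (a⁻¹ * g))⁻¹ := ⟨_, rfl⟩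
  have hγ : γ ∈ E.autGroup U :=
    hγdef ▸ Subgroup.mul_mem _ (Subgroup.mul_mem _ hk hh) (Subgroup.inv_mem _ hk)
  obtain ⟨χ, hχ, hχe⟩ := hinv U hUT _ ((mem_autGroup hUT).1 hγ) α hα
  have hsplit : MulAut.conjNormal (g * h * g⁻¹) =
      (MulAut.conjNormal a : MulAut U) * γ * (MulAut.conjNormal a)⁻¹ := by
    rw [hγdef, ← map_inv, ← map_inv, ← map_mul, ← map_mul, ← map_mul, ← map_mul]
    congr 1
    group
  have he : U ≤ (U.subgroupOf T).map (T.subtype.comp α.toMonoidHom) := by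
    intro y hy
    have hy' : a⁻¹ * y * a ∈ U := by simpa using Subgroup.Normal.conj_mem inferInstance y hy a⁻¹
    refine ⟨⟨_, hUT hy'⟩, hy', ?_⟩
    show (α ⟨_, hUT hy'⟩ : G) = y
    rw [hae]; group
  refine (mem_autGroup hUT).2 (hom_congr (restrict_mem hχ he) fun x => ?_)
  have h1 := hχe ((MulAut.conjNormal a : MulAut U)⁻¹ x) (hUT (γ _).2) (he (by
    show (α _ : G) ∈ U
    rw [hae]
    exact Subgroup.Normal.conj_mem inferInstance _ ((MulAut.conjNormal a : MulAut U)⁻¹ x).2 a))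
  show ((MulAut.conjNormal (g * h * g⁻¹) : MulAut U) x : G) = χ _
  refine (Eq.trans ?_ h1.symm).trans (congrArg χ (Subtype.ext ?_))
  · rw [hsplit, MulAut.mul_apply, MulAut.mul_apply, MulAut.conjNormal_apply]
    exact (hae ⟨_, hUT (γ _).2⟩).symm
  · show (α _ : G) = x
    rw [hae, MulAut.conjNormal_inv_apply]
    group

end

/-- Normal subsystems of the fusion system of a group of characteristic `p` come from exactly one
normal subgroup. -/
theorem exists_unique_normal_subgroup (S : Sylow p G)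
    (hG : Subgroup.centralizer ((pCore p G : Subgroup G) : Set G) ≤ pCore p G) (hTS : T ≤ (S : Subgroup G))
    (hE : E.IsNormalIn (groupFusionSystem (S : Subgroup G)) p) :
    ∃ H : Subgroup G, (∃ hTH : T ≤ H, H.Normal ∧ (∃ R : Sylow p H, (R : Subgroup H) = T.subgroupOf H) ∧
      ∀ P : Subgroup G, E.Hom P = (fusionSystemOfSubgroup H T hTH).Hom P) ∧
      ∀ H' : Subgroup G, (∃ hTH' : T ≤ H', H'.Normal ∧
        (∃ R : Sylow p H', (R : Subgroup H') = T.subgroupOf H') ∧
        ∀ P : Subgroup G, E.Hom P = (fusionSystemOfSubgroup H' T hTH').Hom P) → H' = H := by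
  classical
  have hp := (Fact.out : p.Prime)
  obtain ⟨⟨hEsat, hFsat, hsub, hT, hinv, hfrat⟩, hext⟩ := id hE
  have hFc := isConstrained_of_isModel (isModel_group S hG)
  have hSp : IsPGroup p (S : Subgroup G) := S.isPGroup'
  have hTp : IsPGroup p T := hSp.to_le hTS
  obtain ⟨hUE, hUc⟩ := core_inf_normal_centric hSp hFc hE
  have hST : ∀ x ∈ T, ∀ g : G, g * x * g⁻¹ ∈ (S : Subgroup G) → g * x * g⁻¹ ∈ T := by
    intro x hx g hg
    refine hT.2 (Subgroup.zpowers x) (Subgroup.zpowers_le.2 hx) (conjHom _ g) ?_ ⟨x, Subgroup.mem_zpowers x⟩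
    refine ⟨(Subgroup.zpowers_le.2 hx).trans hTS, fun y => ?_, g, fun _ => rfl⟩
    obtain ⟨i, hi⟩ := Subgroup.mem_zpowers_iff.1 y.2
    show g * (y : G) * g⁻¹ ∈ (S : Subgroup G)
    rw [← hi, ← conj_zpow]
    exact Subgroup.zpow_mem _ hg i
  have hTn := stronglyClosed_le_normalizer hT
  -- `Q` and `Q₀`
  obtain ⟨Q, hQdef⟩ : ∃ Q : Subgroup G, Q = pCore p G := ⟨_, rfl⟩
  haveI : Q.Normal := by rw [hQdef]; infer_instance
  have hQS : Q ≤ (S : Subgroup G) := hQdef ▸ Cfsg.Lib.Core.pCore_le_sylow S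
  have hQp : IsPGroup p Q := hSp.to_le hQS
  have hQC : Subgroup.centralizer (Q : Set G) ≤ Q := by rw [hQdef]; exact hG
  have hcore : (groupFusionSystem (S : Subgroup G)).core = Q := by
    refine le_antisymm (hQdef ▸ core_le_pCore S hG) ?_
    exact le_sSup (isNormal_groupFusionSystem S Q hQS)
  rw [hcore] at hUE hUc
  obtain ⟨Q₀, hQ₀def⟩ : ∃ U : Subgroup G, U = Q ⊓ T := ⟨_, rfl⟩
  rw [← hQ₀def] at hUE hUc
  have hQ₀T : Q₀ ≤ T := hQ₀def ▸ inf_le_right
  have hQ₀Q : Q₀ ≤ Q := hQ₀def ▸ inf_le_left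
  haveI hQ₀n : Q₀.Normal := by
    rw [hQ₀def]
    exact ⟨fun x hx g => ⟨Subgroup.Normal.conj_mem inferInstance x hx.1 g,
      hST x hx.2 g (hQS (Subgroup.Normal.conj_mem inferInstance x hx.1 g))⟩⟩
  -- the kernel of the action on `Q/Q₀`
  let H₀ : Subgroup G :=
    { carrier := {g | ∀ q ∈ Q, q⁻¹ * (g * q * g⁻¹) ∈ Q₀}
      one_mem' := fun q _ => by simp
      mul_mem' := fun {a b} ha hb q hq => by
        have h1 := Subgroup.Normal.conj_mem hQ₀n _ (hb q hq) a
        have h2 := Q₀.mul_mem (ha q hq) h1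
        have e : q⁻¹ * (a * b * q * (a * b)⁻¹) =
            q⁻¹ * (a * q * a⁻¹) * (a * (q⁻¹ * (b * q * b⁻¹)) * a⁻¹) := by group
        rwa [e]
      inv_mem' := fun {a} ha q hq => by
        have hq' : a⁻¹ * q * a ∈ Q := by simpa using Subgroup.Normal.conj_mem inferInstance q hq a⁻¹
        have h1 := Q₀.inv_mem (ha _ hq')
        simpa [mul_assoc] using h1 }
  haveI hH₀n : H₀.Normal := ⟨fun h hh g q hq => by
    have hq' : g⁻¹ * q * g ∈ Q := by simpa using Subgroup.Normal.conj_mem inferInstance q hq g⁻¹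
    have h1 := Subgroup.Normal.conj_mem hQ₀n _ (hh _ hq') g
    simpa [mul_assoc] using h1⟩
  have hTH₀ : T ≤ H₀ := fun t ht q hq => by
    rw [hQ₀def]
    refine ⟨Q.mul_mem (Q.inv_mem hq) (Subgroup.Normal.conj_mem inferInstance q hq t), ?_⟩
    have h1 := T.mul_mem ((Subgroup.mem_normalizer_iff''.1 (hTn (hQS hq)) t).1 ht) (T.inv_mem ht)
    simpa [mul_assoc] using h1
  -- the normal subgroup of elements inducing automorphisms of `E` on `Q₀`
  obtain ⟨H₁, hH₁def⟩ : ∃ H : Subgroup G,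
      H = H₀ ⊓ (E.autGroup Q₀).comap (MulAut.conjNormal : G →* MulAut Q₀) := ⟨_, rfl⟩
  haveI hH₁n : H₁.Normal := by
    rw [hH₁def]
    haveI := normal_autGroup_comap S hE Q₀ hQ₀T
    exact Subgroup.normal_inf_normal _ _
  have hres : ∀ {g : G} (hg : g ∈ Subgroup.normalizer (T : Set G)), conjAut T hg ∈ E.autGroup T →
      (MulAut.conjNormal g : MulAut Q₀) ∈ E.autGroup Q₀ := fun {g} hg h =>
    (mem_autGroup hQ₀T).2 (hom_congr (restrict_mem ((mem_autGroup le_rfl).1 h) hQ₀T) fun x => rfl)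
  have hTH₁ : T ≤ H₁ := by
    rw [hH₁def]
    refine le_inf hTH₀ fun t ht => hres (Subgroup.le_normalizer ht) ?_
    exact autInducedBy_le_autGroup le_rfl (conjAut_mem_autInducedBy (Subgroup.le_normalizer ht) ht)
  -- centralizing part
  obtain ⟨K, hKdef⟩ : ∃ K : Subgroup G, K = H₀ ⊓ Subgroup.centralizer (Q₀ : Set G) := ⟨_, rfl⟩
  haveI hKn : K.Normal := by
    rw [hKdef]
    haveI : (Subgroup.centralizer (Q₀ : Set G)).Normal := Subgroup.normal_centralizer
    exact Subgroup.normal_inf_normal _ _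
  have hKQ : K ≤ Q := by
    have hKp : IsPGroup p K := by
      intro x
      obtain ⟨k, n, hn, hkn⟩ := Nat.exists_eq_pow_mul_and_not_dvd (orderOf_pos x).ne' p hp.ne_one
      refine ⟨k, ?_⟩
      obtain ⟨c, hcdef⟩ : ∃ c : K, c = x ^ p ^ k := ⟨_, rfl⟩
      rw [← hcdef]
      have hcn : (c : G) ^ n = 1 := by
        rw [hcdef, ← SubmonoidClass.coe_pow, ← pow_mul, ← hkn, pow_orderOf_eq_one]; rfl
      obtain ⟨hc0, hcC⟩ := (hKdef ▸ c.2 : (c : G) ∈ H₀ ⊓ Subgroup.centralizer (Q₀ : Set G))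
      have hcomm : ∀ q ∈ Q, (c : G) * q * (c : G)⁻¹ = q := by
        intro q hq
        obtain ⟨z, hz⟩ : ∃ z, z = q⁻¹ * ((c : G) * q * (c : G)⁻¹) := ⟨_, rfl⟩
        have hzQ : z ∈ Q₀ := hz ▸ hc0 q hq
        have hcz : (c : G) * z = z * c := (Subgroup.mem_centralizer_iff.1 hcC z hzQ).symm
        have hpow : ∀ j : ℕ, (c : G) ^ j * q * ((c : G) ^ j)⁻¹ = q * z ^ j := by
          intro j
          induction j with
          | zero => simp
          | succ j ih =>
            calc (c : G) ^ (j + 1) * q * ((c : G) ^ (j + 1))⁻¹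
                = (c : G) * ((c : G) ^ j * q * ((c : G) ^ j)⁻¹) * (c : G)⁻¹ := by rw [pow_succ']; group
              _ = (c : G) * (q * z ^ j) * (c : G)⁻¹ := by rw [ih]
              _ = ((c : G) * q * (c : G)⁻¹) * (((c : G) * z ^ j) * (c : G)⁻¹) := by group
              _ = (q * z) * ((z ^ j * (c : G)) * (c : G)⁻¹) := by
                rw [((show Commute (c : G) z from hcz).pow_right j).eq, hz]; group
              _ = q * z ^ (j + 1) := by rw [pow_succ']; group
        have h1 := hpow n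
        rw [hcn] at h1
        simp only [one_mul, inv_one, mul_one] at h1
        have hzn : z ^ n = 1 := by
          have := h1.symm
          rwa [mul_eq_left] at this
        obtain ⟨e, he⟩ := hQp ⟨z, hQ₀Q hzQ⟩
        have hze : z ^ p ^ e = 1 := by simpa using congrArg Subtype.val he
        have hz1 : z = 1 := by
          have := pow_gcd_eq_one.2 ⟨hzn, hze⟩
          rwa [((hp.coprime_iff_not_dvd.2 hn).symm.pow_right e).gcd_eq_one, pow_one] at this
        calc (c : G) * q * (c : G)⁻¹ = q * z := by rw [hz]; group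
          _ = q := by rw [hz1, mul_one]
      have hcQ : (c : G) ∈ Q := hQC (Subgroup.mem_centralizer_iff.2 fun q hq =>
        (mul_inv_eq_iff_eq_mul.1 (hcomm q hq)).symm)
      obtain ⟨e, he⟩ := hQp ⟨c, hcQ⟩
      have hce : (c : G) ^ p ^ e = 1 := by simpa using congrArg Subtype.val he
      have := pow_gcd_eq_one.2 ⟨hcn, hce⟩
      rw [((hp.coprime_iff_not_dvd.2 hn).symm.pow_right e).gcd_eq_one, pow_one] at this
      exact Subtype.ext this
    rw [hQdef]
    exact Cfsg.Lib.Core.le_pCore hKp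
  have hKT : ∀ k ∈ K, ∀ h ∈ H₀, k⁻¹ * (h * k * h⁻¹) ∈ T := fun k hk h hh => hQ₀T (hh k (hKQ hk))
  -- Sylow automizer of `Q₀`
  have hQ₀fn : E.IsFullyNormalized Q₀ := by
    refine ⟨hQ₀T, fun R hR => ?_⟩
    obtain ⟨φ, hφ, rfl⟩ := hR
    obtain ⟨-, -, g, hg⟩ := hsub _ hφ
    have : φ.range ≤ Q₀ := by
      rintro _ ⟨x, rfl⟩
      rw [hg x]; exact Subgroup.Normal.conj_mem hQ₀n _ x.2 g
    rw [range_eq_of_card_le hφ hQ₀T (fun x => this ⟨x, rfl⟩) le_rfl]
  obtain ⟨hQ₀fc, -, R₀, hR₀⟩ := isFullyAutomized_and_fc_of_fn hTp hEsat hQ₀fn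
  have hautT : ∀ {P : Subgroup G} (R : Sylow p (E.autGroup P)),
      (R : Subgroup (E.autGroup P)) = (autInducedBy T P).subgroupOf (E.autGroup P) →
      ∀ {x : G} (hxN : x ∈ Subgroup.normalizer (P : Set G)), x ∈ (S : Subgroup G) →
      conjAut P hxN ∈ E.autGroup P → ∃ t ∈ T, ∀ y : P, x * (y : G) * x⁻¹ = t * (y : G) * t⁻¹ := by
    intro P R hR x hxN hxS hx
    obtain ⟨A, hA⟩ : ∃ A : Subgroup (MulAut P),
        A = autInducedBy ((S : Subgroup G)) P ⊓ E.autGroup P := ⟨_, rfl⟩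
    have hAp : IsPGroup p (A.subgroupOf (E.autGroup P)) :=
      ((isPGroup_autInducedBy (P := P) hSp).to_le (hA ▸ inf_le_left)).comap_of_injective
        (E.autGroup P).subtype (E.autGroup P).subtype_injective
    have hRA : (R : Subgroup (E.autGroup P)) ≤ A.subgroupOf (E.autGroup P) := by
      intro β hβ
      rw [Subgroup.mem_subgroupOf, hA]
      refine ⟨autInducedBy_mono hTS ?_, β.2⟩
      rw [hR] at hβ; exact hβ
    have heq := R.3 hAp hRA
    have hxA : (⟨_, hx⟩ : E.autGroup P) ∈ A.subgroupOf (E.autGroup P) := by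
      rw [Subgroup.mem_subgroupOf, hA]; exact ⟨conjAut_mem_autInducedBy hxN hxS, hx⟩
    rw [heq, hR] at hxA
    obtain ⟨t, ht, h⟩ := mem_autInducedBy.1 (hxA : conjAut P hxN ∈ autInducedBy T P)
    exact ⟨t, ht, fun y => h y⟩
  have hdec : ∀ x ∈ (S : Subgroup G), x ∈ H₁ → ∃ t ∈ T, ∃ k ∈ K, k ∈ (S : Subgroup G) ∧ x = t * k := by
    intro x hxS hx
    rw [hH₁def] at hx
    have hxN : x ∈ Subgroup.normalizer (Q₀ : Set G) := by
      rw [Subgroup.normalizer_eq_top]; exact Subgroup.mem_top x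
    have hxE : conjAut Q₀ hxN ∈ E.autGroup Q₀ := by
      have : conjAut Q₀ hxN = MulAut.conjNormal x := MulEquiv.ext fun y => Subtype.ext rfl
      rw [this]; exact hx.2
    obtain ⟨t, ht, h⟩ := hautT R₀ hR₀ hxN hxS hxE
    refine ⟨t, ht, t⁻¹ * x, ?_, (S : Subgroup G).mul_mem ((S : Subgroup G).inv_mem (hTS ht)) hxS, by group⟩
    rw [hKdef]
    refine ⟨H₀.mul_mem (H₀.inv_mem (hTH₀ ht)) hx.1, Subgroup.mem_centralizer_iff.2 fun y hy => ?_⟩
    calc y * (t⁻¹ * x) = t⁻¹ * (t * y * t⁻¹) * x := by group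
      _ = t⁻¹ * (x * y * x⁻¹) * x := by rw [h ⟨y, hy⟩]
      _ = t⁻¹ * x * y := by group
  -- the transfer of `H₁` to `(S ∩ H₁)/T`
  let PH : Subgroup H₁ := (S : Subgroup G).subgroupOf H₁
  let TP : Subgroup PH := (T.subgroupOf H₁).subgroupOf PH
  haveI hTPn : TP.Normal := ⟨fun t ht x => by
    show ((x : H₁) : G) * ((t : H₁) : G) * ((x : H₁) : G)⁻¹ ∈ T
    exact (Subgroup.mem_normalizer_iff.1 (hTn x.2) _).1 ht⟩
  have hcommP : ∀ x ∈ (S : Subgroup G), x ∈ H₁ → ∀ y ∈ (S : Subgroup G), y ∈ H₁ →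
      (x * y)⁻¹ * (y * x) ∈ T := by
    intro x hxS hx y hyS hy
    obtain ⟨t, ht, k, hk, hkS, rfl⟩ := hdec x hxS hx
    obtain ⟨u, hu, l, hl, hlS, rfl⟩ := hdec y hyS hy
    have hlH : l ∈ H₀ := (hKdef ▸ hl : l ∈ H₀ ⊓ _).1
    have hconjS : ∀ a ∈ (S : Subgroup G), ∀ z ∈ T, a * z * a⁻¹ ∈ T := fun a ha z hz =>
      (Subgroup.mem_normalizer_iff.1 (hTn ha) z).1 hz
    have h1 : k⁻¹ * (l * k * l⁻¹) ∈ T := hKT k hk l hlH
    have h2 : l⁻¹ * (k⁻¹ * (l * k * l⁻¹)) * l ∈ T := by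
      simpa using hconjS l⁻¹ ((S : Subgroup G).inv_mem hlS) _ h1
    have hu' : u⁻¹ ∈ T := T.inv_mem hu
    have e2 : (t * k * (u * l))⁻¹ * (u * l * (t * k)) =
        (l⁻¹ * u⁻¹ * l) * ((k * l)⁻¹ * (t⁻¹ * u) * (k * l)) * (k * l)⁻¹ * (l * t * l⁻¹) * (k * l) *
          ((k * l)⁻¹ * (l * k)) := by group
    have h3 : (k * l)⁻¹ * (l * k) ∈ T := by
      have e3 : (k * l)⁻¹ * (l * k) = l⁻¹ * (k⁻¹ * (l * k * l⁻¹)) * l := by group
      rw [e3]; exact h2
    have hklS := (S : Subgroup G).mul_mem hkS hlS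
    have hc : ∀ z ∈ T, (k * l)⁻¹ * z * (k * l) ∈ T := fun z hz => by
      simpa using hconjS _ ((S : Subgroup G).inv_mem hklS) z hz
    rw [e2]
    refine T.mul_mem ?_ h3
    have e4 : (l⁻¹ * u⁻¹ * l) * ((k * l)⁻¹ * (t⁻¹ * u) * (k * l)) * (k * l)⁻¹ * (l * t * l⁻¹) * (k * l) =
        (l⁻¹ * u⁻¹ * l) * ((k * l)⁻¹ * (t⁻¹ * u) * (k * l)) * ((k * l)⁻¹ * (l * t * l⁻¹) * (k * l)) := by
      group
    rw [e4]
    refine T.mul_mem (T.mul_mem ?_ (hc _ (T.mul_mem (T.inv_mem ht) hu))) (hc _ (hconjS l hlS t ht))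
    simpa using hconjS l⁻¹ ((S : Subgroup G).inv_mem hlS) _ hu'
  letI : CommGroup (PH ⧸ TP) :=
    { (inferInstance : Group (PH ⧸ TP)) with
      mul_comm := fun a b => by
        induction a using QuotientGroup.induction_on with
        | H a =>
        induction b using QuotientGroup.induction_on with
        | H b =>
        rw [← QuotientGroup.mk_mul, ← QuotientGroup.mk_mul, QuotientGroup.eq]
        exact hcommP _ a.2 (a : H₁).2 _ b.2 (b : H₁).2 }
  let π : PH →* PH ⧸ TP := QuotientGroup.mk' TP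
  let τ : H₁ →* PH ⧸ TP := π.transfer
  have hπ : ∀ x : PH, π x = 1 ↔ ((x : H₁) : G) ∈ T := fun x => QuotientGroup.eq_one_iff x
  have hPHp : IsPGroup p PH := by
    intro x
    obtain ⟨k, hk⟩ := hSp ⟨((x : H₁) : G), x.2⟩
    exact ⟨k, Subtype.ext (Subtype.ext (by simpa using congrArg Subtype.val hk))⟩
  have hτT : ∀ x : H₁, (∃ g : G, ∃ t ∈ T, (x : G) = g * t * g⁻¹) → τ x = 1 := by
    rintro x ⟨g, t, ht, hx⟩
    letI := Fintype.ofFinite (Quotient (MulAction.orbitRel (Subgroup.zpowers x) (H₁ ⧸ PH)))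
    rw [MonoidHom.transfer_eq_prod_quotient_orbitRel_zpowers_quot]
    refine Finset.prod_eq_one fun q _ => (hπ _).2 ?_
    obtain ⟨y, hy⟩ : ∃ y : H₁, y = q.out.out := ⟨_, rfl⟩
    obtain ⟨j, hj⟩ : ∃ j : ℕ, j = Function.minimalPeriod (x • ·) q.out := ⟨_, rfl⟩
    have hS' := QuotientGroup.out_conj_pow_minimalPeriod_mem PH x q.out
    rw [← hy, ← hj, Subgroup.mem_subgroupOf] at hS'
    have e : ((y⁻¹ * x ^ j * y : H₁) : G) = ((y : G)⁻¹ * g) * t ^ j * ((y : G)⁻¹ * g)⁻¹ := by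
      rw [Subgroup.coe_mul, Subgroup.coe_mul, Subgroup.coe_inv, SubmonoidClass.coe_pow, hx, conj_pow]
      group
    show ((q.out.out⁻¹ * x ^ Function.minimalPeriod (x • ·) q.out * q.out.out : H₁) : G) ∈ T
    rw [← hy, ← hj, e]
    exact hST _ (T.pow_mem ht j) _ (e ▸ hS')
  have hτK : ∀ x : H₁, ∀ hxS : x ∈ PH, (x : G) ∈ K → τ x = π ⟨x, hxS⟩ ^ PH.index := by
    intro x hxS hxK
    letI := Fintype.ofFinite (Quotient (MulAction.orbitRel (Subgroup.zpowers x) (H₁ ⧸ PH)))
    letI := PH.fintypeQuotientOfFiniteIndex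
    rw [MonoidHom.transfer_eq_prod_quotient_orbitRel_zpowers_quot, Subgroup.index_eq_sum_minimalPeriod PH x,
      ← Finset.prod_pow_eq_pow_sum]
    refine Finset.prod_congr rfl fun q _ => ?_
    rw [← map_pow]
    refine QuotientGroup.eq.2 ?_
    obtain ⟨y, hy⟩ : ∃ y : H₁, y = q.out.out := ⟨_, rfl⟩
    obtain ⟨j, hj⟩ : ∃ j : ℕ, j = Function.minimalPeriod (x • ·) q.out := ⟨_, rfl⟩
    show ((q.out.out⁻¹ * x ^ Function.minimalPeriod (x • ·) q.out * q.out.out : H₁) : G)⁻¹ *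
      ((x ^ Function.minimalPeriod (x • ·) q.out : H₁) : G) ∈ T
    rw [← hy, ← hj, Subgroup.coe_mul, Subgroup.coe_mul, Subgroup.coe_inv, SubmonoidClass.coe_pow]
    have hyH : (y : G) ∈ H₀ := (hH₁def.le y.2).1
    have h1 := T.inv_mem (hKT _ (K.pow_mem hxK j) (y : G)⁻¹ (H₀.inv_mem hyH))
    simpa [mul_assoc] using h1
  have hτp' : ∀ x : H₁, (orderOf x).Coprime p → τ x = 1 := by
    intro x hx
    obtain ⟨k, hk⟩ := (hPHp.to_quotient TP) (τ x)
    refine orderOf_eq_one_iff.mp (Nat.eq_one_of_dvd_coprimes (hx.pow_right k) (orderOf_map_dvd τ x)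
      (orderOf_dvd_of_pow_eq_one hk))
  -- the candidate
  obtain ⟨L, hLdef⟩ : ∃ L : Set G, L = {g | (orderOf g).Coprime p ∧ g ∈ H₀ ∧
      ∃ hg : g ∈ Subgroup.normalizer (T : Set G), conjAut T hg ∈ E.autGroup T} := ⟨_, rfl⟩
  obtain ⟨N₀, hN₀def⟩ : ∃ N : Subgroup G, N = Subgroup.normalClosure (T : Set G) := ⟨_, rfl⟩
  haveI hN₀n : N₀.Normal := hN₀def ▸ inferInstance
  obtain ⟨M, hMdef⟩ : ∃ M : Subgroup G, M = N₀ ⊔ Subgroup.closure L := ⟨_, rfl⟩
  have hTN₀ : T ≤ N₀ := hN₀def ▸ Subgroup.le_normalClosure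
  have hN₀M : N₀ ≤ M := hMdef ▸ le_sup_left
  have hLM : ∀ g ∈ L, g ∈ M := fun g hg => hMdef ▸ Subgroup.mem_sup_right (Subgroup.subset_closure hg)
  have hTM : T ≤ M := hTN₀.trans hN₀M
  have hMker : M ≤ τ.ker.map H₁.subtype := by
    rw [hMdef]
    refine sup_le ?_ ((Subgroup.closure_le _).2 fun g hg => ?_)
    · rw [hN₀def, Subgroup.normalClosure, Subgroup.closure_le]
      intro y hy
      obtain ⟨t, ht, g, hg⟩ := Group.mem_conjugatesOfSet_iff.1 hy |>.imp fun t ⟨a, b⟩ =>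
        And.intro a (_root_.isConj_iff.1 b)
      have hyH : y ∈ H₁ := hg ▸ Subgroup.Normal.conj_mem hH₁n _ (hTH₁ ht) g
      exact ⟨⟨y, hyH⟩, hτT _ ⟨g, t, ht, hg.symm⟩, rfl⟩
    · rw [hLdef] at hg
      obtain ⟨hco, hg0, hgN, hgE⟩ := hg
      have hgH : g ∈ H₁ := hH₁def ▸ ⟨hg0, hres hgN hgE⟩
      exact ⟨⟨g, hgH⟩, hτp' _ (by rwa [← orderOf_injective H₁.subtype H₁.subtype_injective]), rfl⟩
  have hMH₁ : M ≤ H₁ := hMker.trans (Subgroup.map_subtype_le _)
  have hSM : (S : Subgroup G) ⊓ M ≤ T := by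
    rintro x ⟨hxS, hxM⟩
    obtain ⟨x', hx', hxe⟩ := hMker hxM
    obtain ⟨t, ht, k, hk, hkS, hxtk⟩ := hdec x hxS (hMH₁ hxM)
    have hkH : k ∈ H₁ := by
      have : k = t⁻¹ * x := by rw [hxtk]; group
      rw [this]
      exact H₁.mul_mem (H₁.inv_mem (hTH₁ ht)) (hMH₁ hxM)
    have hτk : τ ⟨k, hkH⟩ = 1 := by
      have h1 : τ ⟨t, hTH₁ ht⟩ = 1 := hτT _ ⟨1, t, ht, by simp⟩
      have h2 : x' = ⟨t, hTH₁ ht⟩ * ⟨k, hkH⟩ := Subtype.ext (by simpa using hxe.trans hxtk)
      have h3 : τ x' = 1 := hx'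
      rwa [h2, map_mul, h1, one_mul] at h3
    rw [hτK ⟨k, hkH⟩ hkS hk] at hτk
    have hidx : ¬ p ∣ PH.index := fun hd => by
      obtain ⟨R, hR⟩ := exists_sylow_inf S H₁
      exact R.not_dvd_index (hR ▸ hd)
    obtain ⟨e, he⟩ := (hPHp.to_quotient TP) (π ⟨⟨k, hkH⟩, hkS⟩)
    have h4 : π ⟨⟨k, hkH⟩, hkS⟩ = 1 := by
      have := pow_gcd_eq_one.2 ⟨hτk, he⟩
      rwa [((hp.coprime_iff_not_dvd.2 hidx).symm.pow_right e).gcd_eq_one, pow_one] at this
    exact hxtk ▸ T.mul_mem ht ((hπ _).1 h4)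
  -- Sylow subgroups and normality
  have hSN₀ : (S : Subgroup G) ⊓ N₀ = T :=
    le_antisymm ((inf_le_inf_left _ hN₀M).trans hSM) (le_inf hTS hTN₀)
  haveI hMn : M.Normal := by
    refine ⟨fun m hm g => ?_⟩
    have hle : M ≤ M.comap (MulAut.conj g).toMonoidHom := by
      obtain ⟨a, ha, h, hh, rfl⟩ := exists_normalizer_factor S N₀ g
      rw [hSN₀] at ha
      intro y hy
      rw [Subgroup.mem_comap]
      show a * h * y * (a * h)⁻¹ ∈ M
      have ha' : ∀ z ∈ M, a * z * a⁻¹ ∈ M := by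
        have : M ≤ M.comap (MulAut.conj a).toMonoidHom := by
          conv_lhs => rw [hMdef]
          refine sup_le (fun z hz => ?_) ((Subgroup.closure_le _).2 fun z hz => ?_)
          · exact hN₀M (Subgroup.Normal.conj_mem hN₀n z hz a)
          · refine hLM _ ?_
            rw [hLdef] at hz ⊢
            obtain ⟨hco, hz0, hzN, hzE⟩ := hz
            refine ⟨?_, Subgroup.Normal.conj_mem hH₀n z hz0 a,
              Subgroup.mul_mem _ (Subgroup.mul_mem _ ha hzN) (Subgroup.inv_mem _ ha), ?_⟩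
            · have : orderOf (a * z * a⁻¹) = orderOf z :=
                orderOf_injective (MulAut.conj a).toMonoidHom (MulAut.conj a).injective z
              show (orderOf (a * z * a⁻¹)).Coprime p
              rw [this]; exact hco
            · have h1 := aut_conj_mem S hE ha hzE
              convert h1 using 1
              refine MulEquiv.ext fun w => Subtype.ext ?_
              show a * z * a⁻¹ * (w : G) * (a * z * a⁻¹)⁻¹ = a * (z * ((conjAut T ha)⁻¹ w : G) * z⁻¹) * a⁻¹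
              have h2 : ((conjAut T ha)⁻¹ w : G) = a⁻¹ * (w : G) * a := by
                have h3 : a * ((conjAut T ha)⁻¹ w : G) * a⁻¹ = w := by
                  have := congrArg Subtype.val ((conjAut T ha).apply_symm_apply w)
                  exact this
                calc ((conjAut T ha)⁻¹ w : G) = a⁻¹ * (a * ((conjAut T ha)⁻¹ w : G) * a⁻¹) * a := by group
                  _ = _ := by rw [h3]
              rw [h2]; group
        exact fun z hz => this hz
      have e : a * h * y * (a * h)⁻¹ = a * (h * y * h⁻¹) * a⁻¹ := by group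
      rw [e]
      exact ha' _ (M.mul_mem (M.mul_mem (hN₀M hh) hy) (M.inv_mem (hN₀M hh)))
    exact hle hm
  have hSMe : (S : Subgroup G) ⊓ M = T := le_antisymm hSM (le_inf hTS hTM)
  obtain ⟨R, hR⟩ : ∃ R : Sylow p M, (R : Subgroup M) = T.subgroupOf M := by
    obtain ⟨R, hR⟩ := exists_sylow_inf S M
    refine ⟨R, hR.trans ?_⟩
    rw [← hSMe, Subgroup.inf_subgroupOf_right]
  have hD : (fusionSystemOfSubgroup M T hTM).IsSaturated p :=
    isSaturated_ofSubgroup hTp (hSMe ▸ exists_conj_in_normal S M)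
  -- `E` is contained in the system of `M`
  have hED : E ≤ fusionSystemOfSubgroup M T hTM := by
    refine le_of_autGroup_le' hTp hEsat _ fun P hP ih => ?_
    have hPT : P ≤ T := by rcases hP with rfl | hP; exacts [le_rfl, hP.1.1]
    haveI := finite_of_le hPT
    haveI : Finite (MulAut P) := Finite.of_injective (fun a : MulAut P => (a : P → P)) DFunLike.coe_injective
    obtain ⟨A', hA'⟩ : ∃ A : Subgroup (E.autGroup P), A = (autInducedBy M P).subgroupOf (E.autGroup P) :=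
      ⟨_, rfl⟩
    suffices htop : A' = ⊤ by
      intro β hβ
      have : (⟨β, hβ⟩ : E.autGroup P) ∈ A' := htop ▸ Subgroup.mem_top _
      rw [hA', Subgroup.mem_subgroupOf] at this
      rw [autGroup_ofSubgroup hPT]
      exact this
    rcases eq_or_ne P T with rfl | hPne
    · -- the top
      obtain ⟨-, -, RT, hRT⟩ := isFullyAutomized_and_fc_of_fn hTp hEsat (isFullyNormalized_top E)
      refine eq_top_iff.2 fun β _ => ?_
      obtain ⟨k, n, hn, hkn⟩ := Nat.exists_eq_pow_mul_and_not_dvd (orderOf_pos β).ne' p hp.ne_one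
      -- the `p`-part is induced by `T`
      haveI : (RT : Subgroup (E.autGroup P)).Normal := by
        refine ⟨fun r hr a => ?_⟩
        have h1 : ((r : E.autGroup P) : MulAut P) ∈ autInducedBy P P := by rw [hRT] at hr; exact hr
        obtain ⟨t, ht, h⟩ := mem_autInducedBy.1 h1
        have h2 : ((a * r * a⁻¹ : E.autGroup P) : MulAut P) ∈ autInducedBy P P := by
          refine mem_autInducedBy.2 ⟨((a : MulAut P) ⟨t, ht⟩ : P), Subtype.prop _, fun y => ?_⟩
          have h3 : (r : MulAut P) (((a⁻¹ : E.autGroup P) : MulAut P) y) =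
              ⟨t, ht⟩ * ((a⁻¹ : E.autGroup P) : MulAut P) y * (⟨t, ht⟩ : P)⁻¹ := Subtype.ext (h _)
          show ((a : MulAut P) ((r : MulAut P) (((a⁻¹ : E.autGroup P) : MulAut P) y)) : G) = _
          rw [h3, map_mul, map_mul, map_inv]
          simp [MulAut.inv_apply]
        rw [hRT]
        exact h2
      have hpp : β ^ n ∈ A' := by
        have h1 : β ^ n ∈ (RT : Subgroup (E.autGroup P)) := by
          have hz : IsPGroup p (Subgroup.zpowers (β ^ n)) := IsPGroup.of_card (n := k) (by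
            rw [Nat.card_zpowers, orderOf_pow, hkn, Nat.gcd_mul_left_left,
              Nat.mul_div_cancel _ (Nat.pos_of_ne_zero (by rintro rfl; exact hn (dvd_zero p)))])
          have := RT.3 (IsPGroup.to_sup_of_normal_right hz RT.isPGroup') le_sup_right
          exact this ▸ Subgroup.mem_sup_left (Subgroup.mem_zpowers _)
        rw [hA', Subgroup.mem_subgroupOf]
        rw [hRT] at h1
        exact autInducedBy_mono hTM h1
      -- the `p'`-part lifts into `L`
      have hp' : β ^ p ^ k ∈ A' := by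
        obtain ⟨α, hαdef⟩ : ∃ α, α = β ^ p ^ k := ⟨_, rfl⟩
        rw [← hαdef]
        have hαn : α ^ n = 1 := by rw [hαdef, ← pow_mul, ← hkn, pow_orderOf_eq_one]
        obtain ⟨γ, hγ, hγe, hγc⟩ := hext _ α.2
        have hTC : P ⊔ centralizerIn (S : Subgroup G) P ≤ (S : Subgroup G) := sup_le hTS inf_le_left
        obtain ⟨-, -, g₀, hg₀⟩ := (mem_autGroup hTC).1 hγ
        have hg₀T : ∀ x : P, g₀ * (x : G) * g₀⁻¹ = ((α : MulAut P) x : G) := fun x =>
          (hg₀ (Subgroup.inclusion le_sup_left x)).symm.trans (hγe x)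
        obtain ⟨a, b, hb, hab⟩ := Nat.exists_eq_pow_mul_and_not_dvd (orderOf_pos g₀).ne' p hp.ne_one
        -- the subgroup of elements acting trivially on `T C_S(T)` modulo `T`
        let B : Subgroup G :=
          { carrier := {g | g ∈ Subgroup.normalizer (P : Set G) ∧
              ∀ c ∈ centralizerIn (S : Subgroup G) P, c⁻¹ * (g * c * g⁻¹) ∈ P}
            one_mem' := ⟨Subgroup.one_mem _, fun c _ => by simp⟩
            mul_mem' := fun {u v} hu hv => ⟨Subgroup.mul_mem _ hu.1 hv.1, fun c hc => by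
              have h1 := (Subgroup.mem_normalizer_iff.1 hu.1 _).1 (hv.2 c hc)
              have e : c⁻¹ * (u * v * c * (u * v)⁻¹) =
                  c⁻¹ * (u * c * u⁻¹) * (u * (c⁻¹ * (v * c * v⁻¹)) * u⁻¹) := by group
              rw [e]; exact P.mul_mem (hu.2 c hc) h1⟩
            inv_mem' := fun {u} hu => ⟨Subgroup.inv_mem _ hu.1, fun c hc => by
              have h1 := hu.2 c hc
              have e : c⁻¹ * (u⁻¹ * c * u⁻¹⁻¹) = (u⁻¹ * (c⁻¹ * (u * c * u⁻¹))⁻¹ * u⁻¹⁻¹) *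
                  ((u⁻¹ * c⁻¹ * u) * c * ((u⁻¹ * c⁻¹ * u) * c)⁻¹) := by group
              rw [e, mul_inv_cancel, mul_one]
              exact (Subgroup.mem_normalizer_iff.1 (Subgroup.inv_mem _ hu.1) _).1 (P.inv_mem h1)⟩ }
        have hg₀B : g₀ ∈ B := by
          refine ⟨Subgroup.mem_normalizer_fintype fun x hx => ?_, fun c hc => ?_⟩
          · show g₀ * x * g₀⁻¹ ∈ P
            rw [hg₀T ⟨x, hx⟩]; exact ((α : MulAut P) ⟨x, hx⟩).2
          · have h1 := (hγc ⟨c, Subgroup.mem_sup_right hc⟩ hc).1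
            rwa [show ((γ ⟨c, Subgroup.mem_sup_right hc⟩ : ↥(P ⊔ centralizerIn (S : Subgroup G) P)) : G) =
              g₀ * c * g₀⁻¹ from hg₀ _] at h1
        -- exponent
        obtain ⟨N, hN1, hN2⟩ : ∃ N : ℕ, N % n = 1 % n ∧ p ^ a ∣ N := by
          have hcop : n.Coprime (p ^ a) := ((hp.coprime_iff_not_dvd.2 hn).symm).pow_right a
          obtain ⟨N, h1, h2⟩ := Nat.chineseRemainder hcop 1 0
          exact ⟨N, h1, Nat.modEq_zero_iff_dvd.1 h2⟩
        obtain ⟨g, hgdef⟩ : ∃ g, g = g₀ ^ N := ⟨_, rfl⟩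
        have hgB : g ∈ B := hgdef ▸ B.pow_mem hg₀B N
        have hgα : ∀ x : P, g * (x : G) * g⁻¹ = ((α : MulAut P) x : G) := fun x => by
          rw [hgdef, ← aut_pow_apply (fun y => (hg₀T y).symm) N x, ← SubmonoidClass.coe_pow,
            show α ^ N = α by
              conv_rhs => rw [← pow_one α]
              rw [pow_eq_pow_mod N hαn, pow_eq_pow_mod 1 hαn, hN1]]
        have hgco : (orderOf g).Coprime p := by
          refine Nat.Coprime.coprime_dvd_left (orderOf_dvd_of_pow_eq_one (n := b) ?_)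
            ((hp.coprime_iff_not_dvd.2 hb).symm)
          obtain ⟨N', rfl⟩ := hN2
          rw [hgdef, ← pow_mul, show p ^ a * N' * b = p ^ a * b * N' by ring, ← hab, pow_mul,
            pow_orderOf_eq_one, one_pow]
        have hgE : conjAut P hgB.1 ∈ E.autGroup P := by
          have : conjAut P hgB.1 = (α : MulAut P) := MulEquiv.ext fun x => Subtype.ext (hgα x)
          rw [this]; exact α.2
        have hgH₀ : g ∈ H₀ := by
          intro q hq
          obtain ⟨z, hz⟩ : ∃ z, z = q⁻¹ * (g * q * g⁻¹) := ⟨_, rfl⟩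
          rw [← hz]
          have hzQ : z ∈ Q := hz ▸ Q.mul_mem (Q.inv_mem hq) (Subgroup.Normal.conj_mem inferInstance q hq g)
          have hqN : q⁻¹ ∈ Subgroup.normalizer (P : Set G) := Subgroup.inv_mem _ (hTn (hQS hq))
          have hzN : z ∈ Subgroup.normalizer (P : Set G) := hTn (hQS hzQ)
          have hzE : conjAut P hzN ∈ E.autGroup P := by
            have h1 := Subgroup.mul_mem _ (aut_conj_mem S hE hqN hgE) (Subgroup.inv_mem _ hgE)
            convert h1 using 1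
            refine MulEquiv.ext fun w => Subtype.ext ?_
            show z * (w : G) * z⁻¹ =
              q⁻¹ * (g * ((conjAut P hqN)⁻¹ ((conjAut P hgB.1)⁻¹ w) : G) * g⁻¹) * q⁻¹⁻¹
            have hinv' : ∀ {u : G} (hu : u ∈ Subgroup.normalizer (P : Set G)) (y : P),
                ((conjAut P hu)⁻¹ y : G) = u⁻¹ * (y : G) * u := by
              intro u hu y
              have h3 : u * ((conjAut P hu)⁻¹ y : G) * u⁻¹ = y :=
                congrArg Subtype.val ((conjAut P hu).apply_symm_apply y)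
              calc ((conjAut P hu)⁻¹ y : G) = u⁻¹ * (u * ((conjAut P hu)⁻¹ y : G) * u⁻¹) * u := by group
                _ = _ := by rw [h3]
            rw [hinv', hinv', hz]; group
          obtain ⟨t, ht, h⟩ := hautT RT hRT hzN (hQS hzQ) hzE
          have hc : t⁻¹ * z ∈ centralizerIn (S : Subgroup G) P := by
            refine mem_centralizerIn.2 ⟨(S : Subgroup G).mul_mem ((S : Subgroup G).inv_mem (hTS ht)) (hQS hzQ),
              fun y hy => ?_⟩
            calc t⁻¹ * z * y = t⁻¹ * (z * y * z⁻¹) * z := by group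
              _ = t⁻¹ * (t * y * t⁻¹) * z := by rw [h ⟨y, hy⟩]
              _ = y * (t⁻¹ * z) := by group
          have hgz : z⁻¹ * (g * z * g⁻¹) ∈ Q₀ := by
            rw [hQ₀def]
            refine ⟨Q.mul_mem (Q.inv_mem hzQ) (Subgroup.Normal.conj_mem inferInstance z hzQ g), ?_⟩
            have h1 := hgB.2 _ hc
            have h2 : g * t * g⁻¹ ∈ P := (Subgroup.mem_normalizer_iff.1 hgB.1 t).1 ht
            obtain ⟨c, hcdef⟩ : ∃ c, c = t⁻¹ * z := ⟨_, rfl⟩
            rw [← hcdef] at h1 hc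
            have e : z⁻¹ * (g * z * g⁻¹) =
                (c⁻¹ * (t⁻¹ * (g * t * g⁻¹)) * c) * (c⁻¹ * (g * c * g⁻¹)) := by
              have : z = t * c := by rw [hcdef]; group
              rw [this]; group
            rw [e]
            refine P.mul_mem ?_ h1
            simpa using (Subgroup.mem_normalizer_iff.1
              (Subgroup.inv_mem _ (hTn (mem_centralizerIn.1 hc).1)) _).1 (P.mul_mem (P.inv_mem ht) h2)
          obtain ⟨m, hm, hgm⟩ : ∃ m : ℕ, m.Coprime p ∧ g ^ m = 1 :=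
            ⟨orderOf g, hgco, pow_orderOf_eq_one g⟩
          have hpow : ∀ j : ℕ, (z ^ j)⁻¹ * (q⁻¹ * (g ^ j * q * (g ^ j)⁻¹)) ∈ Q₀ := by
            intro j
            induction j with
            | zero => simp
            | succ j ihj =>
              have hzj : (z ^ j)⁻¹ * (g * z ^ j * g⁻¹) ∈ Q₀ := by
                have : ∀ i : ℕ, (z ^ i)⁻¹ * (g * z ^ i * g⁻¹) ∈ Q₀ := by
                  intro i
                  induction i with
                  | zero => simp
                  | succ i ihi =>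
                    have e : (z ^ (i + 1))⁻¹ * (g * z ^ (i + 1) * g⁻¹) =
                        (z⁻¹ * ((z ^ i)⁻¹ * (g * z ^ i * g⁻¹)) * z⁻¹⁻¹) * (z⁻¹ * (g * z * g⁻¹)) := by
                      rw [pow_succ]; group
                    rw [e]
                    exact Q₀.mul_mem (Subgroup.Normal.conj_mem hQ₀n _ ihi z⁻¹) hgz
                exact this j
              have e : (z ^ (j + 1))⁻¹ * (q⁻¹ * (g ^ (j + 1) * q * (g ^ (j + 1))⁻¹)) =
                  ((z ^ j)⁻¹ * (g * z ^ j * g⁻¹)) *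
                    (g * ((z ^ j)⁻¹ * (q⁻¹ * (g ^ j * q * (g ^ j)⁻¹))) * g⁻¹) := by
                rw [pow_succ' g, pow_succ' z]
                generalize z ^ j = w
                rw [hz]; group
              rw [e]
              exact Q₀.mul_mem hzj (Subgroup.Normal.conj_mem hQ₀n _ ihj g)
          have h1 := hpow m
          rw [hgm] at h1
          simp only [one_mul, inv_one, mul_one, inv_mul_cancel, inv_mem_iff] at h1
          obtain ⟨e, he⟩ := hQp ⟨z, hzQ⟩
          have hze : z ^ p ^ e = 1 := by simpa using congrArg Subtype.val he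
          have hg' := Nat.gcd_eq_gcd_ab m (p ^ e)
          rw [(hm.pow_right e).gcd_eq_one, Nat.cast_one] at hg'
          have h2 : z = (z ^ m) ^ Nat.gcdA m (p ^ e) * (z ^ (p ^ e)) ^ Nat.gcdB m (p ^ e) := by
            rw [← zpow_natCast, ← zpow_natCast, ← zpow_mul, ← zpow_mul, ← zpow_add, ← hg', zpow_one]
          rw [h2, hze, one_zpow, mul_one]
          exact Q₀.zpow_mem h1 _
        have hgL : g ∈ L := by rw [hLdef]; exact ⟨hgco, hgH₀, hgB.1, hgE⟩
        rw [hA', Subgroup.mem_subgroupOf]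
        exact mem_autInducedBy.2 ⟨g, hLM g hgL, fun x => (hgα x).symm⟩
      have hcop : n.Coprime (p ^ k) := ((hp.coprime_iff_not_dvd.2 hn).symm).pow_right k
      have hg' := Nat.gcd_eq_gcd_ab n (p ^ k)
      rw [hcop.gcd_eq_one, Nat.cast_one] at hg'
      have h2 : β = (β ^ n) ^ Nat.gcdA n (p ^ k) * (β ^ p ^ k) ^ Nat.gcdB n (p ^ k) := by
        rw [← zpow_natCast, ← zpow_natCast, ← zpow_mul, ← zpow_mul, ← zpow_add, ← hg', zpow_one]
      rw [h2]
      exact A'.mul_mem (A'.zpow_mem hpp _) (A'.zpow_mem hp' _)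
    · -- an essential subgroup
      have hess := hP.resolve_left hPne
      obtain ⟨hPc, hPfn, -⟩ := id hess
      obtain ⟨hPfc, -, RP, hRP⟩ := isFullyAutomized_and_fc_of_fn hTp hEsat hPfn
      obtain ⟨N₁, hN₁⟩ : ∃ N : Subgroup (E.autGroup P),
          N = Subgroup.normalClosure ((RP : Subgroup (E.autGroup P)) : Set (E.autGroup P)) := ⟨_, rfl⟩
      haveI : N₁.Normal := hN₁ ▸ inferInstance
      have hN₁A : N₁ ≤ A' := by
        rw [hN₁, Subgroup.normalClosure, Subgroup.closure_le]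
        intro β hβ
        obtain ⟨r, hr, γ, hγ⟩ := Group.mem_conjugatesOfSet_iff.1 hβ |>.imp fun t ⟨a, b⟩ =>
          And.intro a (_root_.isConj_iff.1 b)
        obtain ⟨t, ht, h⟩ := mem_autInducedBy.1
          (show (r : MulAut P) ∈ autInducedBy T P from (hRP.le hr))
        obtain ⟨-, -, x, hx⟩ := hsub _ ((mem_autGroup hPT).1 γ.2)
        show β ∈ A'
        rw [hA', Subgroup.mem_subgroupOf]
        refine mem_autInducedBy.2 ⟨x * t * x⁻¹, hN₀M (Subgroup.Normal.conj_mem hN₀n t (hTN₀ ht) x), fun y => ?_⟩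
        rw [← hγ]
        show ((γ : MulAut P) ((r : MulAut P) (((γ⁻¹ : E.autGroup P) : MulAut P) y)) : G) = _
        obtain ⟨w, hw⟩ : ∃ w, w = ((γ⁻¹ : E.autGroup P) : MulAut P) y := ⟨_, rfl⟩
        rw [← hw]
        have hwy : x * (w : G) * x⁻¹ = y := by
          refine (hx w).symm.trans ?_
          show ((γ : MulAut P) w : G) = y
          rw [hw]; simp [MulAut.inv_apply]
        refine (hx ((r : MulAut P) w)).trans ?_
        rw [h w, ← hwy]
        group
      -- Frattini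
      have hsylN : (RP : Subgroup (E.autGroup P)) ≤ N₁ := hN₁ ▸ Subgroup.le_normalClosure
      have htop := Sylow.normalizer_sup_eq_top (RP.subtype hsylN)
      have hmap : ((RP.subtype hsylN : Subgroup N₁)).map N₁.subtype = (RP : Subgroup (E.autGroup P)) :=
        Subgroup.map_subgroupOf_eq_of_le hsylN
      rw [hmap] at htop
      rw [eq_top_iff, ← htop]
      refine sup_le (fun β hβ => ?_) hN₁A
      -- normalizing part extends
      have hPlt : P < T := lt_of_le_of_ne hPT hPne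
      have hlt := lt_normalizerIn hTp hPlt
      haveI := finite_of_le (normalizerIn_le (S := T) P)
      have hβe : ∀ u ∈ normalizerIn T P, u ∈ extender T P (P.subtype.comp ((β : MulAut P)).toMonoidHom) := by
        intro u hu
        obtain ⟨huT, huN⟩ := mem_normalizerIn.1 hu
        have hr : (⟨conjAut P huN, autInducedBy_le_autGroup hPT (conjAut_mem_autInducedBy huN huT)⟩ :
            E.autGroup P) ∈ (RP : Subgroup (E.autGroup P)) := by
          rw [hRP]; exact conjAut_mem_autInducedBy huN huT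
        obtain ⟨v, hv, hve⟩ := mem_autInducedBy.1
          (show ((β * ⟨conjAut P huN, _⟩ * β⁻¹ : E.autGroup P) : MulAut P) ∈ autInducedBy T P from
            hRP.le ((Subgroup.mem_normalizer_iff.1 hβ _).1 hr))
        refine mem_extender_of huT huN hv fun x hx => ?_
        have h1 := hve ((β : MulAut P) x)
        show ((β : MulAut P) ⟨u * x * u⁻¹, hx⟩ : G) = v * ((β : MulAut P) x : G) * v⁻¹
        rw [← h1]
        show _ = ((β : MulAut P) (conjAut P huN (((β⁻¹ : E.autGroup P) : MulAut P) ((β : MulAut P) x))) : G)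
        congr 2
        apply Subtype.ext
        simp [MulAut.inv_apply]
      have hβr : (P.subtype.comp ((β : MulAut P)).toMonoidHom).range = P := by
        ext y
        exact ⟨fun ⟨x, hx⟩ => hx ▸ ((β : MulAut P) x).2, fun hy => ⟨((β : MulAut P)).symm ⟨y, hy⟩, by simp⟩⟩
      obtain ⟨ψ, hψ, hψe⟩ := (isReceptive_of_fc hTp hEsat hPfc).2 P _
        ((mem_autGroup hPT).1 β.2) hβr
      rw [hA', Subgroup.mem_subgroupOf]
      have hcard : Nat.card P < Nat.card (normalizerIn T P) :=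
        lt_of_not_ge fun hcc => hlt.ne (Subgroup.eq_of_le_of_card_ge hlt.le hcc)
      obtain ⟨-, -, x, hxM, hx⟩ := ih _ hcard (restrict_mem hψ hβe)
      refine mem_autInducedBy.2 ⟨x, hxM, fun y => ?_⟩
      have h1 := hx (Subgroup.inclusion hlt.le y)
      refine Eq.trans ?_ h1
      exact (hψe y y.2 (hβe _ (hlt.le y.2))).symm
  have hDE : ∀ P : Subgroup G, (fusionSystemOfSubgroup M T hTM).Hom P ⊆ E.Hom P := by
    rintro P φ ⟨hPT, hφT, g, hgM, hg⟩
    have hQD : (fusionSystemOfSubgroup M T hTM).IsCentric Q₀ := by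
      refine ⟨hQ₀T, ?_⟩
      rintro _ ⟨ψ, hψ, rfl⟩
      have : ψ.range ≤ Q₀ := by
        obtain ⟨-, -, a, -, ha⟩ := hψ
        rintro _ ⟨x, rfl⟩
        rw [ha x]; exact Subgroup.Normal.conj_mem hQ₀n _ x.2 a
      rw [range_eq_of_card_le hψ hQ₀T (fun x => this ⟨x, rfl⟩) le_rfl]
      exact hUc
    obtain ⟨P', hP'⟩ : ∃ P' : Subgroup G, P' = P ⊔ Q₀ := ⟨_, rfl⟩
    have hP'T : P' ≤ T := hP' ▸ sup_le hPT hQ₀T
    have hP'g : ∀ x ∈ P', g * x * g⁻¹ ∈ T := by
      have : P' ≤ T.comap (MulAut.conj g).toMonoidHom := hP' ▸ sup_le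
        (fun x hx => by
          show g * x * g⁻¹ ∈ T
          rw [← hg ⟨x, hx⟩]; exact hφT _)
        fun x hx => hQ₀T (Subgroup.Normal.conj_mem hQ₀n x hx g)
      exact fun x hx => this hx
    have hφ' : conjHom P' g ∈ (fusionSystemOfSubgroup M T hTM).Hom P' :=
      ⟨hP'T, fun x => hP'g x x.2, g, hgM, fun _ => rfl⟩
    have hgQ : (MulAut.conjNormal g : MulAut Q₀) ∈ E.autGroup Q₀ := by
      have := hMH₁ hgM
      rw [hH₁def] at this
      exact this.2
    have hr : (Q₀.subtype.comp (MulAut.conjNormal g : MulAut Q₀).toMonoidHom).range = Q₀ := by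
      ext y
      exact ⟨fun ⟨x, hx⟩ => hx ▸ ((MulAut.conjNormal g : MulAut Q₀) x).2,
        fun hy => ⟨(MulAut.conjNormal g : MulAut Q₀).symm ⟨y, hy⟩, by
          show ((MulAut.conjNormal g : MulAut Q₀) _ : G) = y
          simp⟩⟩
    obtain ⟨ψ, hψ, hψe⟩ := (isReceptive_of_fc hTp hEsat hQ₀fc).2 Q₀ _ ((mem_autGroup hQ₀T).1 hgQ) hr
    have hle : P' ≤ extender T Q₀ (Q₀.subtype.comp (MulAut.conjNormal g : MulAut Q₀).toMonoidHom) := by
      intro u hu
      refine mem_extender_of (hP'T hu) (by rw [Subgroup.normalizer_eq_top]; exact Subgroup.mem_top u)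
        (hP'g u hu) fun x hx => ?_
      show g * (u * x * u⁻¹) * g⁻¹ = (g * u * g⁻¹) * (g * x * g⁻¹) * (g * u * g⁻¹)⁻¹
      group
    have hψ' := restrict_mem hψ hle
    obtain ⟨z, hz, -, hzy⟩ := centric_ext_unique hTp hD hQD (hP' ▸ le_sup_right) (hED _ hψ') hφ'
      (fun x hx => (hψe x hx (hle x.2)).trans (by rfl))
    have hχ : conjHom P' g ∈ E.Hom P' := by
      refine comp_mem' (E.conj_mem hP'T (hP'T z.2)) hψ' (fun y => ?_) fun y => hzy y
      exact P'.mul_mem (P'.mul_mem z.2 y.2) (P'.inv_mem z.2)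
    exact hom_congr (restrict_mem hχ (hP' ▸ le_sup_left)) hg
  refine ⟨M, ⟨hTM, hMn, ⟨R, hR⟩, fun P => Set.Subset.antisymm (hED P) (hDE P)⟩, ?_⟩
  -- uniqueness
  rintro H' ⟨hTH', hH'n, ⟨R', hR'⟩, hhom⟩
  haveI := hH'n
  have hSH' : (S : Subgroup G) ⊓ H' = T := by
    refine le_antisymm ?_ (le_inf hTS hTH')
    have h1 : IsPGroup p (((S : Subgroup G) ⊓ H').subgroupOf H') :=
      (hSp.to_le inf_le_left).comap_of_injective H'.subtype H'.subtype_injective
    have h2 := R'.3 h1 (by rw [hR']; exact Subgroup.comap_mono (le_inf hTS hTH'))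
    intro x hx
    have h3 : (⟨x, hx.2⟩ : H') ∈ (((S : Subgroup G) ⊓ H').subgroupOf H') := hx
    rw [h2, hR'] at h3
    exact h3
  have hN₀H' : N₀ ≤ H' := hN₀def ▸ Subgroup.normalClosure_le_normal hTH'
  have hautH' : E.autGroup T = autInducedBy H' T := by
    rw [← autGroup_ofSubgroup (hTH := hTH') le_rfl]
    ext β
    exact ⟨fun h => (mem_autGroup le_rfl).2 (show _ ∈ _ from hhom T ▸ (mem_autGroup le_rfl).1 h),
      fun h => (mem_autGroup le_rfl).2 (show _ ∈ E.Hom T from hhom T ▸ (mem_autGroup le_rfl).1 h)⟩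
  have hH'0 : H' ≤ H₀ := fun h hh q hq => by
    rw [hQ₀def]
    have h1 : q⁻¹ * (h * q * h⁻¹) ∈ Q :=
      Q.mul_mem (Q.inv_mem hq) (Subgroup.Normal.conj_mem inferInstance q hq h)
    refine ⟨h1, hSH' ▸ ⟨hQS h1, ?_⟩⟩
    have h2 := H'.mul_mem (Subgroup.Normal.conj_mem hH'n h hh q⁻¹) (H'.inv_mem hh)
    simpa [mul_assoc] using h2
  apply le_antisymm
  · intro h hh
    obtain ⟨a, ha, n₁, hn₁, rfl⟩ := exists_normalizer_factor S N₀ h
    rw [hSN₀] at ha
    refine M.mul_mem ?_ (hN₀M hn₁)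
    have haH : a ∈ H' := by simpa using H'.mul_mem hh (H'.inv_mem (hN₀H' hn₁))
    obtain ⟨k, n, hn, hkn⟩ := Nat.exists_eq_pow_mul_and_not_dvd (orderOf_pos a).ne' p hp.ne_one
    have hppart : a ^ n ∈ M := by
      refine hTM ?_
      have hz : IsPGroup p (Subgroup.zpowers (a ^ n)) := IsPGroup.of_card (n := k) (by
        rw [Nat.card_zpowers, orderOf_pow, hkn, Nat.gcd_mul_left_left,
          Nat.mul_div_cancel _ (Nat.pos_of_ne_zero (by rintro rfl; exact hn (dvd_zero p)))])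
      have hpw := IsPGroup.to_sup_of_normal_right' hz hTp (Subgroup.zpowers_le.2 (Subgroup.pow_mem _ ha n))
      have hU := sylow_inf_maximal S H' (U := Subgroup.zpowers (a ^ n) ⊔ T)
        (sup_le (Subgroup.zpowers_le.2 (H'.pow_mem haH n)) hTH') hpw (hSH' ▸ le_sup_right)
      rw [← hSH', ← hU]
      exact Subgroup.mem_sup_left (Subgroup.mem_zpowers _)
    have hp'part : a ^ p ^ k ∈ M := by
      refine hLM _ ?_
      rw [hLdef]
      refine ⟨?_, hH'0 (H'.pow_mem haH _), Subgroup.pow_mem _ ha _, ?_⟩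
      · refine Nat.Coprime.coprime_dvd_left (orderOf_dvd_of_pow_eq_one (n := n) ?_)
          ((hp.coprime_iff_not_dvd.2 hn).symm)
        rw [← pow_mul, ← hkn, pow_orderOf_eq_one]
      · rw [hautH']
        exact conjAut_mem_autInducedBy _ (H'.pow_mem haH _)
    have hcop : n.Coprime (p ^ k) := ((hp.coprime_iff_not_dvd.2 hn).symm).pow_right k
    have hg' := Nat.gcd_eq_gcd_ab n (p ^ k)
    rw [hcop.gcd_eq_one, Nat.cast_one] at hg'
    have h2 : a = (a ^ n) ^ Nat.gcdA n (p ^ k) * (a ^ p ^ k) ^ Nat.gcdB n (p ^ k) := by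
      rw [← zpow_natCast, ← zpow_natCast, ← zpow_mul, ← zpow_mul, ← zpow_add, ← hg', zpow_one]
    rw [h2]
    exact M.mul_mem (M.zpow_mem hppart _) (M.zpow_mem hp'part _)
  · rw [hMdef]
    refine sup_le hN₀H' ((Subgroup.closure_le _).2 fun g hg => ?_)
    rw [hLdef] at hg
    obtain ⟨hco, hg0, hgN, hgE⟩ := hg
    rw [hautH'] at hgE
    obtain ⟨h, hh, he⟩ := mem_autInducedBy.1 hgE
    have hK : h⁻¹ * g ∈ K := by
      rw [hKdef]
      refine ⟨H₀.mul_mem (H₀.inv_mem (hH'0 hh)) hg0, Subgroup.mem_centralizer_iff.2 fun y hy => ?_⟩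
      have h1 : g * y * g⁻¹ = h * y * h⁻¹ := he ⟨y, hQ₀T hy⟩
      calc y * (h⁻¹ * g) = h⁻¹ * (h * y * h⁻¹) * g := by group
        _ = h⁻¹ * (g * y * g⁻¹) * g := by rw [h1]
        _ = h⁻¹ * g * y := by group
    obtain ⟨e, hke⟩ := hQp ⟨_, hKQ hK⟩
    have hke' : (h⁻¹ * g) ^ p ^ e = 1 := by simpa using congrArg Subtype.val hke
    have himg : ((g : G) : G ⧸ H') = ((h⁻¹ * g : G) : G ⧸ H') := by
      rw [QuotientGroup.mk_mul, QuotientGroup.mk_inv, (QuotientGroup.eq_one_iff h).2 hh, inv_one, one_mul]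
    show g ∈ H'
    rw [← QuotientGroup.eq_one_iff]
    refine orderOf_eq_one_iff.mp (Nat.eq_one_of_dvd_coprimes (hco.pow_right e)
      (orderOf_map_dvd (QuotientGroup.mk' H') g) (orderOf_dvd_of_pow_eq_one ?_))
    rw [himg, ← QuotientGroup.mk_pow, hke', QuotientGroup.mk_one]

end Cfsg.Lib.FusionSys
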