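import Cfsg.Agent.Lib.FusionSys.FactorSat
import Cfsg.Agent.Lib.FusionSys.Normal
import Cfsg.Agent.Lib.FusionSys.Local
import Cfsg.Prelude.Def_FusionComponents

/-!
Transport of fusion systems along an isomorphism between the underlying subgroups.
An isomorphism is recorded by a pair of functions on the ambient groups, so that it restricts to every
subgroup without changing the functions.
-/

set_option autoImplicit false

namespace Cfsg.Lib.FusionSys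

open Cfsg Cfsg.FusionSystem

variable {Ω Ω' : Type*} [Group Ω] [Group Ω']

/-- An isomorphism between two subgroups, given by functions on the ambient groups. -/
structure SIso (S : Subgroup Ω) (S' : Subgroup Ω') where
  toFun : Ω → Ω'
  invFun : Ω' → Ω
  map_mem : ∀ x ∈ S, toFun x ∈ S'
  inv_map_mem : ∀ y ∈ S', invFun y ∈ S
  left_inv : ∀ x ∈ S, invFun (toFun x) = x
  right_inv : ∀ y ∈ S', toFun (invFun y) = y
  map_mul : ∀ x ∈ S, ∀ y ∈ S, toFun (x * y) = toFun x * toFun y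

namespace SIso

variable {S : Subgroup Ω} {S' : Subgroup Ω'} (i : SIso S S')

/-- The inverse isomorphism. -/
def symm : SIso S' S where
  toFun := i.invFun
  invFun := i.toFun
  map_mem := i.inv_map_mem
  inv_map_mem := i.map_mem
  left_inv := i.right_inv
  right_inv := i.left_inv
  map_mul a ha b hb := by
    conv_lhs => rw [← i.right_inv a ha, ← i.right_inv b hb,
      ← i.map_mul _ (i.inv_map_mem a ha) _ (i.inv_map_mem b hb),
      i.left_inv _ (S.mul_mem (i.inv_map_mem a ha) (i.inv_map_mem b hb))]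

theorem symm_symm : i.symm.symm = i := rfl

theorem symm_apply {x : Ω} (hx : x ∈ S) : i.symm.toFun (i.toFun x) = x := i.left_inv x hx

theorem apply_symm {y : Ω'} (hy : y ∈ S') : i.toFun (i.symm.toFun y) = y := i.right_inv y hy

/-- The homomorphism underlying the isomorphism. -/
def hom : S →* Ω' := MonoidHom.mk' (fun x => i.toFun x) fun a b => i.map_mul a a.2 b b.2

theorem map_one : i.toFun 1 = 1 := i.hom.map_one

theorem map_inv {x : Ω} (hx : x ∈ S) : i.toFun x⁻¹ = (i.toFun x)⁻¹ := i.hom.map_inv ⟨x, hx⟩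

theorem inj {x y : Ω} (hx : x ∈ S) (hy : y ∈ S) (h : i.toFun x = i.toFun y) : x = y := by
  rw [← i.left_inv x hx, h, i.left_inv y hy]

/-- The isomorphism given by a `MulEquiv` of subgroups. -/
noncomputable def ofEquiv (e : S ≃* S') : SIso S S' where
  toFun x := open Classical in if h : x ∈ S then (e ⟨x, h⟩ : Ω') else 1
  invFun y := open Classical in if h : y ∈ S' then (e.symm ⟨y, h⟩ : Ω) else 1
  map_mem x hx := by simp [hx]
  inv_map_mem y hy := by simp [hy]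
  left_inv x hx := by simp [hx]
  right_inv y hy := by simp [hy]
  map_mul x hx y hy := by
    have h := congrArg Subtype.val (e.map_mul ⟨x, hx⟩ ⟨y, hy⟩)
    simpa [hx, hy, S.mul_mem hx hy] using h

theorem ofEquiv_apply (e : S ≃* S') (x : S) : (ofEquiv e).toFun x = (e x : Ω') := by
  simp [ofEquiv]

theorem ofEquiv_symm_apply (e : S ≃* S') (y : S') : (ofEquiv e).symm.toFun y = (e.symm y : Ω) := by
  simp [ofEquiv, symm]

/-- The image of a subgroup. -/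
def img (P : Subgroup Ω) : Subgroup Ω' := imageAlong i.hom P

theorem mem_img {P : Subgroup Ω} {y : Ω'} : y ∈ i.img P ↔ ∃ x, x ∈ P ∧ x ∈ S ∧ i.toFun x = y := by
  rw [img, mem_imageAlong]
  constructor
  · rintro ⟨x, hx, hxP, h⟩
    exact ⟨x, hxP, hx, h⟩
  · rintro ⟨x, hxP, hx, h⟩
    exact ⟨x, hx, hxP, h⟩

theorem apply_mem_img {P : Subgroup Ω} {x : Ω} (hP : P ≤ S) (hx : x ∈ P) : i.toFun x ∈ i.img P :=
  i.mem_img.2 ⟨x, hx, hP hx, rfl⟩

theorem apply_mem_img_iff {P : Subgroup Ω} {x : Ω} (hx : x ∈ S) :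
    i.toFun x ∈ i.img P ↔ x ∈ P := by
  refine ⟨fun h => ?_, fun h => i.mem_img.2 ⟨x, h, hx, rfl⟩⟩
  obtain ⟨y, hy, hyS, he⟩ := i.mem_img.1 h
  exact i.inj hyS hx he ▸ hy

theorem img_le (P : Subgroup Ω) : i.img P ≤ S' := by
  intro y hy
  obtain ⟨x, -, hx, rfl⟩ := i.mem_img.1 hy
  exact i.map_mem x hx

theorem img_mono {P Q : Subgroup Ω} (h : P ≤ Q) : i.img P ≤ i.img Q := by
  intro y hy
  obtain ⟨x, hxP, hx, rfl⟩ := i.mem_img.1 hy
  exact i.mem_img.2 ⟨x, h hxP, hx, rfl⟩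

theorem img_top : i.img S = S' :=
  le_antisymm (i.img_le S) fun y hy =>
    i.mem_img.2 ⟨i.invFun y, i.inv_map_mem y hy, i.inv_map_mem y hy, i.right_inv y hy⟩

theorem img_bot : i.img ⊥ = ⊥ := by
  simp [img, imageAlong]

theorem symm_img_img {P : Subgroup Ω} (hP : P ≤ S) : i.symm.img (i.img P) = P := by
  ext x
  constructor
  · intro h
    obtain ⟨y, hy, -, rfl⟩ := i.symm.mem_img.1 h
    obtain ⟨z, hz, hzS, rfl⟩ := i.mem_img.1 hy
    rwa [i.symm_apply hzS]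
  · intro hx
    exact i.symm.mem_img.2 ⟨i.toFun x, i.apply_mem_img hP hx, i.map_mem x (hP hx), i.left_inv x (hP hx)⟩

theorem img_symm_img {P' : Subgroup Ω'} (hP' : P' ≤ S') : i.img (i.symm.img P') = P' :=
  i.symm.symm_img_img hP'

theorem exists_img {T : Subgroup Ω} (hT : T ≤ S) {P' : Subgroup Ω'} (hP' : P' ≤ i.img T) :
    ∃ P : Subgroup Ω, P ≤ T ∧ P' = i.img P :=
  ⟨i.symm.img P', (i.symm.img_mono hP').trans (i.symm_img_img hT).le,
    (i.img_symm_img (hP'.trans (i.img_le T))).symm⟩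

theorem img_sup {P Q : Subgroup Ω} (hP : P ≤ S) (hQ : Q ≤ S) :
    i.img (P ⊔ Q) = i.img P ⊔ i.img Q := by
  refine le_antisymm ?_ (sup_le (i.img_mono le_sup_left) (i.img_mono le_sup_right))
  have h : P ⊔ Q ≤ i.symm.img (i.img P ⊔ i.img Q) := by
    refine sup_le ?_ ?_
    · exact (i.symm_img_img hP).ge.trans (i.symm.img_mono le_sup_left)
    · exact (i.symm_img_img hQ).ge.trans (i.symm.img_mono le_sup_right)
  refine (i.img_mono h).trans ?_
  rw [i.img_symm_img (sup_le (i.img_le P) (i.img_le Q))]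

theorem card_img {P : Subgroup Ω} (hP : P ≤ S) : Nat.card (i.img P) = Nat.card P := by
  refine (Nat.card_congr (Equiv.ofBijective
    (fun x : P => (⟨i.toFun x, i.apply_mem_img hP x.2⟩ : i.img P)) ⟨fun a b h => ?_, fun y => ?_⟩)).symm
  · exact Subtype.ext (i.inj (hP a.2) (hP b.2) (congrArg Subtype.val h))
  · obtain ⟨x, hx, -, he⟩ := i.mem_img.1 y.2
    exact ⟨⟨x, hx⟩, Subtype.ext he⟩

/-- The isomorphism of a subgroup with its image. -/
def imgEquiv {P : Subgroup Ω} (hP : P ≤ S) : P ≃* i.img P where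
  toFun x := ⟨i.toFun x, i.apply_mem_img hP x.2⟩
  invFun y := ⟨i.invFun y, by
    obtain ⟨x, hx, hxS, he⟩ := i.mem_img.1 y.2
    rw [← he, i.left_inv x hxS]
    exact hx⟩
  left_inv x := Subtype.ext (i.left_inv x (hP x.2))
  right_inv y := Subtype.ext (i.right_inv y (i.img_le P y.2))
  map_mul' a b := Subtype.ext (i.map_mul a (hP a.2) b (hP b.2))

theorem coe_imgEquiv {P : Subgroup Ω} (hP : P ≤ S) (x : P) :
    ((i.imgEquiv hP x : i.img P) : Ω') = i.toFun x := rfl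

theorem img_centralizerIn {U T : Subgroup Ω} (hU : U ≤ S) (hT : T ≤ S) :
    i.img (centralizerIn U T) = centralizerIn (i.img U) (i.img T) := by
  ext y
  rw [i.mem_img, mem_centralizerIn]
  constructor
  · rintro ⟨x, hx, hxS, rfl⟩
    obtain ⟨hxU, hc⟩ := mem_centralizerIn.1 hx
    refine ⟨i.apply_mem_img hU hxU, fun z hz => ?_⟩
    obtain ⟨t, ht, htS, rfl⟩ := i.mem_img.1 hz
    rw [← i.map_mul x hxS t htS, ← i.map_mul t htS x hxS, hc t ht]
  · rintro ⟨hy, hc⟩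
    obtain ⟨x, hxU, hxS, rfl⟩ := i.mem_img.1 hy
    refine ⟨x, mem_centralizerIn.2 ⟨hxU, fun t ht => ?_⟩, hxS, rfl⟩
    refine i.inj (S.mul_mem hxS (hT ht)) (S.mul_mem (hT ht) hxS) ?_
    rw [i.map_mul x hxS t (hT ht), i.map_mul t (hT ht) x hxS]
    exact hc _ (i.apply_mem_img hT ht)

/-- The map `φ'` is the transport of `φ`. -/
def Rel {P : Subgroup Ω} {P' : Subgroup Ω'} (φ : P →* Ω) (φ' : P' →* Ω') : Prop :=
  ∀ (x : Ω) (hx : x ∈ P) (hx' : i.toFun x ∈ P'), φ' ⟨i.toFun x, hx'⟩ = i.toFun (φ ⟨x, hx⟩)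

theorem Rel.unique {P : Subgroup Ω} {φ : P →* Ω} {φ' ψ' : i.img P →* Ω'}
    (h : i.Rel φ φ') (h' : i.Rel φ ψ') : φ' = ψ' := by
  refine MonoidHom.ext fun y => ?_
  obtain ⟨y, hy⟩ := y
  obtain ⟨x, hx, -, rfl⟩ := i.mem_img.1 hy
  rw [h x hx hy, h' x hx hy]

theorem Rel.symm {P : Subgroup Ω} {P' : Subgroup Ω'} {φ : P →* Ω} {φ' : P' →* Ω'} (h : i.Rel φ φ')
    (hP : ∀ y ∈ P', i.invFun y ∈ P) (hP' : P' ≤ S') (hφ : ∀ x, φ x ∈ S) : i.symm.Rel φ' φ := by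
  intro y hy hx
  have h2 := h _ (hP y hy) (by rw [i.right_inv y (hP' hy)]; exact hy)
  have h3 : φ' ⟨i.toFun (i.invFun y), by rw [i.right_inv y (hP' hy)]; exact hy⟩ = φ' ⟨y, hy⟩ :=
    congrArg φ' (Subtype.ext (i.right_inv y (hP' hy)))
  rw [h3] at h2
  rw [h2]
  exact (i.left_inv _ (hφ _)).symm

theorem exists_rel {P : Subgroup Ω} (hP : P ≤ S) (φ : P →* Ω) (hφ : ∀ x, φ x ∈ S) :
    ∃ φ' : i.img P →* Ω', i.Rel φ φ' := by
  refine ⟨i.hom.comp ((φ.codRestrict S hφ).comp (i.imgEquiv hP).symm.toMonoidHom), fun x hx hx' => ?_⟩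
  have h : (i.imgEquiv hP).symm ⟨i.toFun x, hx'⟩ = ⟨x, hx⟩ := by
    rw [MulEquiv.symm_apply_eq]
    rfl
  show i.toFun (φ ((i.imgEquiv hP).symm ⟨i.toFun x, hx'⟩)) = _
  rw [h]

theorem Rel.range {P : Subgroup Ω} (hP : P ≤ S) {φ : P →* Ω} (hφ : ∀ x, φ x ∈ S)
    {φ' : i.img P →* Ω'} (h : i.Rel φ φ') : φ'.range = i.img φ.range := by
  ext z
  rw [i.mem_img]
  constructor
  · rintro ⟨⟨y, hy⟩, rfl⟩
    obtain ⟨x, hx, -, rfl⟩ := i.mem_img.1 hy
    exact ⟨φ ⟨x, hx⟩, ⟨_, rfl⟩, hφ _, (h x hx hy).symm⟩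
  · rintro ⟨x, ⟨⟨a, ha⟩, rfl⟩, -, rfl⟩
    exact ⟨⟨i.toFun a, i.apply_mem_img hP ha⟩, h a ha _⟩

/-- `E'` is the transport of `E`. -/
structure MapsTo {T : Subgroup Ω} {T' : Subgroup Ω'} (E : FusionSystem T) (E' : FusionSystem T') :
    Prop where
  le : T ≤ S
  eq : T' = i.img T
  fwd : ∀ {P : Subgroup Ω} {φ : P →* Ω}, φ ∈ E.Hom P → ∃ φ' ∈ E'.Hom (i.img P), i.Rel φ φ'
  bwd : ∀ {P' : Subgroup Ω'} {φ' : P' →* Ω'}, φ' ∈ E'.Hom P' →
    ∃ φ ∈ E.Hom (i.symm.img P'), i.symm.Rel φ' φ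

variable {i} {T : Subgroup Ω} {T' : Subgroup Ω'} {E : FusionSystem T} {E' : FusionSystem T'}

theorem MapsTo.symm (h : i.MapsTo E E') : i.symm.MapsTo E' E :=
  ⟨h.eq ▸ i.img_le T, by rw [h.eq, i.symm_img_img h.le], h.bwd, h.fwd⟩

theorem MapsTo.mem_fwd (h : i.MapsTo E E') {P : Subgroup Ω} {φ : P →* Ω} (hφ : φ ∈ E.Hom P)
    {φ' : i.img P →* Ω'} (hr : i.Rel φ φ') : φ' ∈ E'.Hom (i.img P) := by
  obtain ⟨ψ, hψ, hr'⟩ := h.fwd hφ
  rwa [Rel.unique i hr hr']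

theorem MapsTo.fwd_eq (h : i.MapsTo E E') {P : Subgroup Ω} {φ : P →* Ω} (hφ : φ ∈ E.Hom P)
    {P' : Subgroup Ω'} (hP : i.img P = P') : ∃ φ' ∈ E'.Hom P', i.Rel φ φ' := by
  subst hP
  exact h.fwd hφ

theorem MapsTo.bwd_img (h : i.MapsTo E E') {P : Subgroup Ω} (hP : P ≤ S) {φ' : i.img P →* Ω'}
    (hφ' : φ' ∈ E'.Hom (i.img P)) : ∃ φ ∈ E.Hom P, i.Rel φ φ' := by
  obtain ⟨φ, hφ, hr⟩ := h.symm.fwd_eq hφ' (i.symm_img_img hP)
  refine ⟨φ, hφ, Rel.symm i.symm hr (fun x hx => i.apply_mem_img hP hx) hP fun y => ?_⟩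
  exact h.symm.le (hom_mem hφ' y)

theorem MapsTo.mem_bwd (h : i.MapsTo E E') {P : Subgroup Ω} (hP : P ≤ S) {φ : P →* Ω}
    (hφS : ∀ x, φ x ∈ S) {φ' : i.img P →* Ω'} (hφ' : φ' ∈ E'.Hom (i.img P)) (hr : i.Rel φ φ') :
    φ ∈ E.Hom P := by
  obtain ⟨ψ, hψ, hr'⟩ := h.bwd_img hP hφ'
  refine hom_congr hψ fun x => i.inj (hφS x) (h.le (hom_mem hψ x)) ?_
  rw [← hr x x.2 (i.apply_mem_img hP x.2), ← hr' x x.2 (i.apply_mem_img hP x.2)]

theorem MapsTo.mapsTo_ext {E'' : FusionSystem T'} (h : i.MapsTo E E') (h' : i.MapsTo E E'') :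
    E' = E'' := by
  have hh : E'.Hom = E''.Hom := by
    funext P'
    ext φ'
    constructor
    · intro hφ'
      obtain ⟨P, hP, rfl⟩ := i.exists_img h.le ((hom_le hφ').trans h.eq.le)
      obtain ⟨φ, hφ, hr⟩ := h.bwd_img (hP.trans h.le) hφ'
      exact h'.mem_fwd hφ hr
    · intro hφ'
      obtain ⟨P, hP, rfl⟩ := i.exists_img h.le ((hom_le hφ').trans h.eq.le)
      obtain ⟨φ, hφ, hr⟩ := h'.bwd_img (hP.trans h.le) hφ'
      exact h.mem_fwd hφ hr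
  cases E'
  cases E''
  congr

/-- The homomorphism on a subgroup. -/
def restrictHom (i : SIso S S') {T : Subgroup Ω} (hT : T ≤ S) : T →* Ω' :=
  i.hom.comp (Subgroup.inclusion hT)

theorem restrictHom_range (hT : T ≤ S) : (i.restrictHom hT).range = i.img T := by
  ext y
  rw [i.mem_img]
  constructor
  · rintro ⟨x, rfl⟩
    exact ⟨x, x.2, hT x.2, rfl⟩
  · rintro ⟨x, hx, -, rfl⟩
    exact ⟨⟨x, hx⟩, rfl⟩

theorem restrictHom_eq_one (hT : T ≤ S) (x : T) :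
    i.restrictHom hT x = 1 ↔ (x : Ω) ∈ (⊥ : Subgroup Ω) := by
  rw [Subgroup.mem_bot]
  refine ⟨fun h => i.inj (hT x.2) S.one_mem ?_, fun h => ?_⟩
  · rw [i.map_one]; exact h
  · show i.toFun (x : Ω) = 1
    rw [h, i.map_one]

theorem preimageAlong_restrictHom (hT : T ≤ S) {P : Subgroup Ω} (hP : P ≤ T) :
    preimageAlong (i.restrictHom hT) (i.img P) = P := by
  ext x
  rw [mem_preimageAlong]
  constructor
  · rintro ⟨hx, h⟩
    exact (i.apply_mem_img_iff (hT hx)).1 h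
  · intro hx
    exact ⟨hP hx, i.apply_mem_img (hP.trans hT) hx⟩

theorem inducedAlong_restrictHom (hT : T ≤ S) {P : Subgroup Ω} (hP : P ≤ T) {φ : P →* Ω}
    (hφ : ∀ x, φ x ∈ T) {φ' : i.img P →* Ω'} :
    InducedAlong (i.restrictHom hT) φ φ' ↔ i.Rel φ φ' := by
  constructor
  · rintro ⟨_, _, _, h⟩ x hx hx'
    exact h ⟨x, hx⟩
  · intro h
    exact ⟨hP, hφ, fun x => i.apply_mem_img (hP.trans hT) x.2, fun x => h x x.2 _⟩

theorem MapsTo.isFactorSystem (h : i.MapsTo E E') : E.IsFactorSystem ⊥ (i.restrictHom h.le) E' := by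
  refine ⟨bot_le, restrictHom_eq_one h.le, by rw [restrictHom_range, h.eq], fun P' φ' => ⟨fun hφ' => ?_, ?_⟩⟩
  · refine ⟨hom_le hφ', ?_⟩
    obtain ⟨P, hP, rfl⟩ := i.exists_img h.le ((hom_le hφ').trans h.eq.le)
    obtain ⟨φ, hφ, hr⟩ := h.bwd_img (hP.trans h.le) hφ'
    rw [preimageAlong_restrictHom h.le hP]
    exact ⟨φ, hφ, (inducedAlong_restrictHom h.le hP (hom_mem hφ)).2 hr⟩
  · rintro ⟨hP', hex⟩
    obtain ⟨P, hP, rfl⟩ := i.exists_img h.le (hP'.trans h.eq.le)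
    rw [preimageAlong_restrictHom h.le hP] at hex
    obtain ⟨φ, hφ, hind⟩ := hex
    exact h.mem_fwd hφ ((inducedAlong_restrictHom h.le hP (hom_mem hφ)).1 hind)

theorem exists_mapsTo [Finite S] (i : SIso S S') {T : Subgroup Ω} (hT : T ≤ S) (E : FusionSystem T) :
    ∃ E' : FusionSystem (i.img T), i.MapsTo E E' := by
  haveI := finite_of_le hT
  obtain ⟨E', -, -, -, hiff⟩ := exists_factorSystem (F := E) (stronglyClosed_bot E)
    (restrictHom_eq_one (i := i) hT) (restrictHom_range hT)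
  refine ⟨E', hT, rfl, fun {P} {φ} hφ => ?_, fun {P'} {φ'} hφ' => ?_⟩
  · have hP := hom_le hφ
    obtain ⟨φ', hr⟩ := i.exists_rel (hP.trans hT) φ fun x => hT (hom_mem hφ x)
    refine ⟨φ', (hiff _ _).2 ⟨i.img_mono hP, ?_⟩, hr⟩
    rw [preimageAlong_restrictHom hT hP]
    exact ⟨φ, hφ, (inducedAlong_restrictHom hT hP (hom_mem hφ)).2 hr⟩
  · obtain ⟨P, hP, rfl⟩ := i.exists_img hT (hom_le hφ')
    have hex := ((hiff _ _).1 hφ').2
    rw [preimageAlong_restrictHom hT hP] at hex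
    obtain ⟨φ, hφ, hind⟩ := hex
    have hr := (inducedAlong_restrictHom hT hP (hom_mem hφ)).1 hind
    rw [i.symm_img_img (hP.trans hT)]
    refine ⟨φ, hφ, Rel.symm i hr (fun y hy => ?_) (i.img_le P) fun x => hT (hom_mem hφ x)⟩
    obtain ⟨x, hx, hxS, rfl⟩ := i.mem_img.1 hy
    rwa [i.left_inv x hxS]

theorem MapsTo.isSaturated [Finite S] {p : ℕ} [Fact p.Prime] (hS : IsPGroup p S) (h : i.MapsTo E E')
    (hE : E.IsSaturated p) : E'.IsSaturated p := by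
  haveI := finite_of_le h.le
  exact isSaturated_factor (hS.to_le h.le) hE (stronglyClosed_bot E) h.isFactorSystem

theorem MapsTo.stronglyClosed (h : i.MapsTo E E') {R : Subgroup Ω} (hR : E.StronglyClosed R) :
    E'.StronglyClosed (i.img R) := by
  refine ⟨h.eq ▸ i.img_mono hR.1, fun P' hP' φ' hφ' y => ?_⟩
  obtain ⟨P, hP, rfl⟩ := i.exists_img (hR.1.trans h.le) hP'
  obtain ⟨φ, hφ, hr⟩ := h.bwd_img (hP.trans (hR.1.trans h.le)) hφ'
  obtain ⟨y, hy⟩ := y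
  obtain ⟨x, hx, -, rfl⟩ := i.mem_img.1 hy
  rw [hr x hx hy]
  exact i.apply_mem_img (hR.1.trans h.le) (hR.2 P hP φ hφ _)

theorem MapsTo.isConj (h : i.MapsTo E E') {P Q : Subgroup Ω} (hc : E.IsConj P Q) :
    E'.IsConj (i.img P) (i.img Q) := by
  obtain ⟨φ, hφ, rfl⟩ := hc
  obtain ⟨φ', hφ', hr⟩ := h.fwd hφ
  exact ⟨φ', hφ', Rel.range i ((hom_le hφ).trans h.le) (fun x => h.le (hom_mem hφ x)) hr⟩

theorem congr_apply {P : Subgroup Ω} (hP : P ≤ S) (α : MulAut P) (x : P)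
    (hx : i.toFun x ∈ i.img P) :
    (((MulAut.congr (i.imgEquiv hP) α) ⟨i.toFun x, hx⟩ : i.img P) : Ω') = i.toFun (α x : P) := by
  have : (i.imgEquiv hP).symm ⟨i.toFun x, hx⟩ = x := by
    rw [MulEquiv.symm_apply_eq]; rfl
  show i.toFun (α ((i.imgEquiv hP).symm ⟨i.toFun x, hx⟩) : P) = _
  rw [this]

theorem MapsTo.mem_autGroup_iff (h : i.MapsTo E E') {P : Subgroup Ω} (hP : P ≤ T) (α : MulAut P) :
    MulAut.congr (i.imgEquiv (hP.trans h.le)) α ∈ E'.autGroup (i.img P) ↔ α ∈ E.autGroup P := by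
  have hPS := hP.trans h.le
  rw [Cfsg.Lib.FusionSys.mem_autGroup (h.eq ▸ i.img_mono hP), Cfsg.Lib.FusionSys.mem_autGroup hP]
  have hr : i.Rel (P.subtype.comp α.toMonoidHom)
      ((i.img P).subtype.comp (MulAut.congr (i.imgEquiv hPS) α).toMonoidHom) :=
    fun x hx hx' => congr_apply hPS α ⟨x, hx⟩ hx'
  exact ⟨fun hm => h.mem_bwd hPS (fun x => hPS (α x).2) hm hr, fun hm => h.mem_fwd hm hr⟩

theorem congr_symm_surj {P : Subgroup Ω} (hP : P ≤ S) (α' : MulAut (i.img P)) :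
    ∃ α : MulAut P, MulAut.congr (i.imgEquiv hP) α = α' :=
  ⟨(MulAut.congr (i.imgEquiv hP)).symm α', MulEquiv.apply_symm_apply _ _⟩

theorem MapsTo.isSubsystemOf (h : i.MapsTo E E') {U : Subgroup Ω} {U' : Subgroup Ω'}
    {F : FusionSystem U} {F' : FusionSystem U'} (hF : i.MapsTo F F') (hs : E.IsSubsystemOf F) :
    E'.IsSubsystemOf F' := by
  intro P' φ' hφ'
  obtain ⟨P, hP, rfl⟩ := i.exists_img h.le ((hom_le hφ').trans h.eq.le)
  obtain ⟨φ, hφ, hr⟩ := h.bwd_img (hP.trans h.le) hφ'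
  exact hF.mem_fwd (hs P hφ) hr

theorem MapsTo.isNormalIn [Finite S] {p : ℕ} [Fact p.Prime] (hS : IsPGroup p S)
    (h : i.MapsTo E E') {U : Subgroup Ω} {U' : Subgroup Ω'} {F : FusionSystem U}
    {F' : FusionSystem U'} (hF : i.MapsTo F F') (hn : E.IsNormalIn F p) : E'.IsNormalIn F' p := by
  obtain ⟨rfl, rfl⟩ := And.intro h.eq hF.eq
  obtain ⟨⟨hEs, hFs, hsub, hsc, hinv, hfrat⟩, hext⟩ := hn
  have hTU : T ≤ U := hsc.1
  refine ⟨⟨h.isSaturated hS hEs, hF.isSaturated hS hFs, h.isSubsystemOf hF hsub,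
    hF.stronglyClosed hsc, ?_, ?_⟩, ?_⟩
  · intro P' hP' φ' hφ' α' hα'
    obtain ⟨P, hP, rfl⟩ := i.exists_img h.le hP'
    obtain ⟨φ, hφ, hr⟩ := h.bwd_img (hP.trans h.le) hφ'
    obtain ⟨α, rfl⟩ := congr_symm_surj h.le α'
    obtain ⟨χ, hχ, hχe⟩ := hinv P hP φ hφ α ((hF.mem_autGroup_iff hTU α).1 hα')
    have hset : i.img ((P.subgroupOf T).map (T.subtype.comp α.toMonoidHom)) =
        ((i.img P).subgroupOf (i.img T)).map
          ((i.img T).subtype.comp (MulAut.congr (i.imgEquiv h.le) α).toMonoidHom) := by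
      ext z
      rw [i.mem_img]
      constructor
      · rintro ⟨-, ⟨⟨x, hxT⟩, hxP, rfl⟩, -, rfl⟩
        exact ⟨⟨i.toFun x, i.apply_mem_img h.le hxT⟩, i.apply_mem_img (hP.trans h.le) hxP,
          congr_apply h.le α ⟨x, hxT⟩ _⟩
      · rintro ⟨⟨y, hy⟩, hyP, rfl⟩
        obtain ⟨x, hxT, hxS, rfl⟩ := i.mem_img.1 hy
        exact ⟨_, ⟨⟨x, hxT⟩, (i.apply_mem_img_iff hxS).1 hyP, rfl⟩, h.le (α ⟨x, hxT⟩).2,
          (congr_apply h.le α ⟨x, hxT⟩ _).symm⟩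
    obtain ⟨χ', hχ', hχr⟩ := h.fwd_eq hχ hset
    refine ⟨χ', hχ', ?_⟩
    rintro ⟨y, hy⟩ hφy hαy
    obtain ⟨x, hx, hxS, rfl⟩ := i.mem_img.1 hy
    have h1 : (α ⟨x, hP hx⟩ : Ω) ∈ (P.subgroupOf T).map (T.subtype.comp α.toMonoidHom) :=
      ⟨⟨x, hP hx⟩, hx, rfl⟩
    have e1 := congr_apply (i := i) h.le α ⟨x, hP hx⟩ (i.apply_mem_img h.le (hP hx))
    have h2 := hχr _ h1 (by rw [← e1]; exact hαy)
    rw [hχe ⟨x, hx⟩ (hom_mem hφ _) h1] at h2
    refine Eq.trans (congrArg χ' (Subtype.ext e1)) (h2.trans ?_)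
    rw [← congr_apply h.le α ⟨φ ⟨x, hx⟩, hom_mem hφ _⟩ (i.apply_mem_img h.le (hom_mem hφ _))]
    congr 2
    exact Subtype.ext (hr x hx hy).symm
  · intro P' hP' φ' hφ'
    obtain ⟨P, hP, rfl⟩ := i.exists_img h.le hP'
    obtain ⟨φ, hφ, hr⟩ := hF.bwd_img (hP.trans h.le) hφ'
    obtain ⟨α, hα, φ₀, hφ₀, he⟩ := hfrat P hP φ hφ
    obtain ⟨φ₀', hφ₀', hr₀⟩ := h.fwd hφ₀
    refine ⟨_, (hF.mem_autGroup_iff hTU α).2 hα, φ₀', hφ₀', ?_⟩
    rintro ⟨y, hy⟩ hy₀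
    obtain ⟨x, hx, hxS, rfl⟩ := i.mem_img.1 hy
    rw [hr x hx hy, he ⟨x, hx⟩ (hom_mem hφ₀ _),
      ← congr_apply h.le α ⟨φ₀ ⟨x, hx⟩, hom_mem hφ₀ _⟩ (i.apply_mem_img h.le (hom_mem hφ₀ _))]
    congr 2
    exact Subtype.ext (hr₀ x hx hy).symm
  · intro α' hα'
    obtain ⟨α, rfl⟩ := congr_symm_surj h.le α'
    obtain ⟨β, hβ, hβT, hβC⟩ := hext α ((h.mem_autGroup_iff le_rfl α).1 hα')
    have hle : T ⊔ centralizerIn U T ≤ U := sup_le hTU (centralizerIn_le T)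
    have hsup : i.img (T ⊔ centralizerIn U T) = i.img T ⊔ centralizerIn (i.img U) (i.img T) := by
      rw [i.img_sup h.le ((centralizerIn_le T).trans hF.le), i.img_centralizerIn hF.le h.le]
    have hm := (hF.mem_autGroup_iff hle β).2 hβ
    revert hm
    have key : ∀ (R : Subgroup Ω') (hR : i.img (T ⊔ centralizerIn U T) = R),
        MulAut.congr (i.imgEquiv (hle.trans hF.le)) β ∈ F'.autGroup _ →
        ∃ β' ∈ F'.autGroup R, ∀ (x : Ω) (hx : x ∈ T ⊔ centralizerIn U T) (hx' : i.toFun x ∈ R),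
          ((β' ⟨i.toFun x, hx'⟩ : R) : Ω') = i.toFun (β ⟨x, hx⟩ : Ω) := by
      intro R hR hm
      subst hR
      exact ⟨_, hm, fun x hx hx' => congr_apply _ β ⟨x, hx⟩ hx'⟩
    intro hm
    obtain ⟨β', hβ', hb⟩ := key _ hsup hm
    refine ⟨β', hβ', ?_, ?_⟩
    · rintro ⟨y, hy⟩
      obtain ⟨x, hx, hxS, rfl⟩ := i.mem_img.1 hy
      exact (hb x (Subgroup.mem_sup_left hx) _).trans ((congrArg i.toFun (hβT ⟨x, hx⟩)).trans
        (congr_apply h.le α ⟨x, hx⟩ hy).symm)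
    · rintro ⟨c, hc⟩ (hcC : c ∈ centralizerIn (i.img U) (i.img T))
      rw [← i.img_centralizerIn hF.le h.le] at hcC
      obtain ⟨x, hx, hxS, rfl⟩ := i.mem_img.1 hcC
      have hxTC : x ∈ T ⊔ centralizerIn U T := Subgroup.mem_sup_right hx
      have hz := hβC ⟨x, hxTC⟩ hx
      have hbS : (β ⟨x, hxTC⟩ : Ω) ∈ S := hF.le (hle (β ⟨x, hxTC⟩).2)
      rw [hb x hxTC]
      show (i.toFun x)⁻¹ * i.toFun (β ⟨x, hxTC⟩ : Ω) ∈ _
      rw [← i.map_inv hxS, ← i.map_mul _ (S.inv_mem hxS) _ hbS]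
      refine ⟨i.apply_mem_img h.le hz.1, ?_⟩
      intro z hzT
      obtain ⟨t, ht, htS, rfl⟩ := i.mem_img.1 hzT
      have hzS : x⁻¹ * (β ⟨x, hxTC⟩ : Ω) ∈ S := h.le hz.1
      rw [← i.map_mul t htS _ hzS, ← i.map_mul _ hzS t htS]
      exact congrArg i.toFun (hz.2 t ht)

theorem subnormal_le {U T : Subgroup Ω} {E : FusionSystem T} {F : FusionSystem U} {p : ℕ}
    (hn : E.IsSubnormalIn F p) : T ≤ U := by
  induction hn with
  | refl => exact le_rfl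
  | step _ h2 ih => exact ih.trans h2.1.2.2.2.1.1

theorem MapsTo.isSubnormalIn [Finite S] {p : ℕ} [Fact p.Prime] (hS : IsPGroup p S)
    {U : Subgroup Ω} {U' : Subgroup Ω'} {F : FusionSystem U} {F' : FusionSystem U'}
    (hn : E.IsSubnormalIn F p) (h : i.MapsTo E E') (hF : i.MapsTo F F') :
    E'.IsSubnormalIn F' p := by
  have hfin : Finite S := inferInstance
  have hp : p.Prime := Fact.out
  induction hn generalizing U' with
  | refl F p =>
    obtain ⟨rfl, rfl⟩ := And.intro h.eq hF.eq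
    rw [h.mapsTo_ext hF]
    exact IsSubnormalIn.refl _ _
  | @step U W E D F p h1 h2 ih =>
    haveI := Fact.mk hp
    obtain ⟨D', hD⟩ := exists_mapsTo i (h2.1.2.2.2.1.1.trans hF.le) D
    exact IsSubnormalIn.step (ih hS h hD hp) (hD.isNormalIn hS hF h2)

end SIso

end Cfsg.Lib.FusionSys
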