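import Cfsg.Agent.Lib.FusionSys.SmallEssential
import Cfsg.Agent.Lib.PGroup.AbelianIndexP
import Mathlib.GroupTheory.NoncommCoprod
import Mathlib.GroupTheory.SpecificGroups.Quaternion

/-!
# Essential subgroups of order `p ^ 4`
-/

set_option autoImplicit false

namespace Cfsg.Lib.FusionSys.OrderFour

open Cfsg Cfsg.FusionSystem
open Cfsg.Lib.PGroup Cfsg.Lib.FusionSys.RankTwo
open scoped commutatorElement

universe u

section Groups

variable {p : ℕ} [hp : Fact p.Prime] {G : Type u} [Group G] [Finite G]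

omit hp [Finite G] in
theorem aut_fix_pow {α : MulAut G} {x : G} (h : α x = x) : ∀ n : ℕ, (α ^ n) x = x := by
  intro n
  induction n with
  | zero => simp
  | succ n ih => rw [pow_succ', MulAut.mul_apply, ih, h]

/-- A `p'`-automorphism acting trivially on the factors of a series is trivial. -/
theorem aut_eq_one_of_series (hG : IsPGroup p G) {k : ℕ} (W : ℕ → Subgroup G) (h0 : W 0 = ⊥)
    (hk : W k = ⊤) {α : MulAut G} {m : ℕ} (hm : m.Coprime p) (hα : α ^ m = 1)
    (h : ∀ i < k, ∀ x ∈ W (i + 1), x⁻¹ * α x ∈ W i) : α = 1 := by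
  suffices hs : ∀ i, i ≤ k → ∀ x ∈ W i, α x = x from
    MulEquiv.ext fun x => hs k le_rfl x (hk ▸ Subgroup.mem_top x)
  intro i
  induction i with
  | zero => intro _ x hx; rw [h0, Subgroup.mem_bot] at hx; rw [hx, map_one]
  | succ i ih =>
    intro hi x hx
    set c := x⁻¹ * α x with hc
    have hcW := h i (by omega) x hx
    have hfix : α c = c := ih (by omega) c hcW
    have hiter : ∀ n : ℕ, (α ^ n) x = x * c ^ n := by
      intro n
      induction n with
      | zero => simp
      | succ n ihn =>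
        rw [pow_succ', MulAut.mul_apply, ihn, map_mul, map_pow, hfix, hc, pow_succ', ← mul_assoc x,
          mul_inv_cancel_left]
    have h2 : c ^ m = 1 := by
      have := hiter m
      rw [hα, MulAut.one_apply] at this
      exact mul_eq_left.mp this.symm
    obtain ⟨j, hj⟩ := hG c
    have h3 : c = 1 := by
      have := pow_gcd_eq_one.mpr ⟨h2, hj⟩
      rwa [(hm.pow_right j).gcd_eq_one, pow_one] at this
    exact (inv_mul_eq_one.mp h3).symm

/-- Automorphisms of `p`-power order act trivially on invariant factors of order `p`. -/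
theorem aut_trivial_factor (hG : IsPGroup p G) {A B : Subgroup G} (hAB : A ≤ B)
    (hc : A.relIndex B = p) {α : MulAut G} (hA : ∀ x ∈ A, α x ∈ A) (hB : ∀ x ∈ B, α x ∈ B)
    {q : ℕ} (hq : α ^ p ^ q = 1) : ∀ x ∈ B, x⁻¹ * α x ∈ A := by
  intro x hx
  haveI : (A.subgroupOf B).Normal := normal_of_index_eq (hG.to_subgroup B) hc
  set π := QuotientGroup.mk' (A.subgroupOf B)
  have hcard : Nat.card (↥B ⧸ A.subgroupOf B) = p := hc
  have hπ : ∀ u v : B, π u = π v ↔ (u : G)⁻¹ * v ∈ A := fun u v => QuotientGroup.eq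
  by_cases hx1 : π ⟨x, hx⟩ = 1
  · have hxA : x ∈ A := (QuotientGroup.eq_one_iff (⟨x, hx⟩ : B)).1 hx1
    exact A.mul_mem (A.inv_mem hxA) (hA x hxA)
  obtain ⟨j, hj⟩ := mem_powers_iff_mem_zpowers.2
    (mem_zpowers_of_prime_card (p := p) hcard hx1 (g' := π ⟨α x, hB x hx⟩))
  have hj' : (x ^ j)⁻¹ * α x ∈ A := (hπ (⟨x, hx⟩ ^ j) ⟨α x, hB x hx⟩).1 (by rw [map_pow]; exact hj)
  have hmem : ∀ n : ℕ, (α ^ n) x ∈ B := by
    intro n
    induction n with
    | zero => simpa using hx
    | succ n ih => rw [pow_succ', MulAut.mul_apply]; exact hB _ ih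
  have hiter : ∀ n : ℕ, π ⟨(α ^ n) x, hmem n⟩ = π ⟨x, hx⟩ ^ j ^ n := by
    intro n
    induction n with
    | zero => simp
    | succ n ih =>
      rw [← map_pow] at ih
      have h1 : (α ((x ^ j ^ n)⁻¹ * (α ^ n) x)) ∈ A := hA _ (A.inv_mem_iff.1 (by
        have := (hπ _ _).1 ih
        simpa using this))
      rw [pow_succ j n, mul_comm, pow_mul,
        show π ⟨x, hx⟩ ^ j = π ⟨α x, hB x hx⟩ from hj, ← map_pow, eq_comm, hπ]
      simpa [pow_succ', MulAut.mul_apply, map_mul, map_pow] using h1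
  have h1 := hiter (p ^ q)
  simp only [hq, MulAut.one_apply] at h1
  have hmod : j ^ (p ^ q) % p = j % p := by
    have h3 : ((j ^ (p ^ q) : ℕ) : ZMod p) = (j : ZMod p) := by push_cast; exact ZMod.pow_card_pow _
    exact (ZMod.natCast_eq_natCast_iff' _ _ _).1 h3
  have hord : orderOf (π ⟨x, hx⟩) = p :=
    ((Nat.dvd_prime hp.out).1 (hcard ▸ orderOf_dvd_natCard _)).resolve_left
      (fun h => hx1 (orderOf_eq_one_iff.1 h))
  have h4 : π ⟨x, hx⟩ ^ (j ^ p ^ q) = π ⟨x, hx⟩ ^ j := by
    rw [pow_eq_pow_iff_modEq, hord]; exact hmod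
  rw [h4, show π ⟨x, hx⟩ ^ j = π ⟨α x, hB x hx⟩ from hj] at h1
  exact (hπ _ _).1 h1

/-- Splitting off a central cyclic factor. -/
theorem prod_iso (E : Subgroup G) {c : G} (hc : c ∈ Subgroup.center G) (hgen : E ⊔ Subgroup.zpowers c = ⊤)
    (hcard : Nat.card E * Nat.card (Subgroup.zpowers c) ≤ Nat.card G) :
    Nonempty (G ≃* ↥E × ↥(Subgroup.zpowers c)) := by
  let f : E × ↥(Subgroup.zpowers c) →* G := MonoidHom.noncommCoprod E.subtype (Subgroup.zpowers c).subtype
    fun e a => Subgroup.mem_center_iff.1 ((Subgroup.zpowers_le.2 hc) a.2) e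
  have hsurj : Function.Surjective f := by
    rw [← MonoidHom.range_eq_top, eq_top_iff, ← hgen]
    exact sup_le (fun e he => ⟨(⟨e, he⟩, 1), show (e : G) * 1 = e from mul_one e⟩)
      fun a ha => ⟨(1, ⟨a, ha⟩), show 1 * (a : G) = a from one_mul a⟩
  exact ⟨(MulEquiv.ofBijective f (hsurj.bijective_of_nat_card_le (by rwa [Nat.card_prod]))).symm⟩

omit [Finite G] in
/-- A nonabelian group of order `p ^ 3` and exponent `p` is extraspecial. -/
theorem isExtraspecial_cube [Finite G] (hc : Nat.card G = p ^ 3) (hna : ¬ IsMulCommutative G)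
    (hexp : ∀ x : G, x ^ p = 1) : Cfsg.IsExtraspecial p G := by
  obtain ⟨hZc, -, hcomm⟩ := Plane.cube_center hc hna
  have hG : IsPGroup p G := IsPGroup.of_card hc
  obtain ⟨a, b, hab⟩ : ∃ a b : G, a * b ≠ b * a := by
    by_contra h
    push Not at h
    exact hna ⟨⟨h⟩⟩
  set z := ⁅a, b⁆ with hz
  have hz1 : z ≠ 1 := fun h => hab (commutatorElement_eq_one_iff_mul_comm.mp h)
  have hzZ : Subgroup.zpowers z = Subgroup.center G :=
    Subgroup.eq_of_le_of_card_ge (Subgroup.zpowers_le.mpr (hcomm a b))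
      (by rw [hZc, Nat.card_zpowers, orderOf_eq_prime (hexp z) hz1])
  have hcm : commutator G = Subgroup.center G := by
    refine le_antisymm ?_ ?_
    · rw [commutator_def, Subgroup.commutator_le]
      exact fun u _ v _ => hcomm u v
    · rw [← hzZ, Subgroup.zpowers_le]
      exact Subgroup.commutator_mem_commutator (Subgroup.mem_top a) (Subgroup.mem_top b)
  refine ⟨⟨hG, ?_, hcm⟩, hZc⟩
  rw [frattini_eq_sup hG, ← hcm, sup_eq_left, Subgroup.closure_le]
  rintro _ ⟨g, rfl⟩
  show g ^ p ∈ commutator G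
  rw [hexp]
  exact one_mem _

end Groups

section Fusion

variable {Ω : Type u} [Group Ω] {S : Subgroup Ω} [Finite S] {p : ℕ} [hp : Fact p.Prime]
variable {F : FusionSystem S} {P : Subgroup Ω}

/-- An essential subgroup has no invariant series with all factors of order `p`. -/
theorem not_chain (hS : IsPGroup p S) (hF : F.IsSaturated p) (hP : F.IsEssential p P) {k : ℕ}
    (W : ℕ → Subgroup P) (h0 : W 0 = ⊥) (hk : W k = ⊤)
    (hle : ∀ i < k, W i ≤ W (i + 1)) (hidx : ∀ i < k, (W i).relIndex (W (i + 1)) = p)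
    (hinv : ∀ (α : MulAut P) (i : ℕ), i ≤ k → ∀ x ∈ W i, α x ∈ W i) : False := by
  obtain ⟨-, -, -, hO, hRp, hRI⟩ := basic hS hF hP
  haveI := finite_of_le hP.1.1
  haveI : Finite (MulAut P) := Finite.of_injective (fun a : MulAut P => (a : P → P))
    DFunLike.coe_injective
  have hPG : IsPGroup p P := hS.to_le hP.1.1
  let K : Subgroup (F.autGroup P) :=
    { carrier := {a | ∀ i < k, ∀ x ∈ W (i + 1), x⁻¹ * (a : MulAut P) x ∈ W i}
      one_mem' := fun i _ x _ => by simp
      mul_mem' := fun {a b} ha hb i hi x hx => by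
        have h1 := hb i hi x hx
        have h2 := ha i hi _ (hinv (b : MulAut P) (i + 1) hi x hx)
        have h3 := (W i).mul_mem h1 h2
        simpa [mul_assoc, MulAut.mul_apply] using h3
      inv_mem' := fun {a} ha i hi x hx => by
        have h1 := (W i).inv_mem (ha i hi _ (hinv (a : MulAut P)⁻¹ (i + 1) hi x hx))
        simpa [mul_assoc] using h1 }
  refine hRI (le_trans ?_ (hO K ⟨fun n hn a i hi x hx => ?_⟩ ?_))
  · intro a ha i hi
    obtain ⟨q, hq⟩ := hRp ⟨a, ha⟩
    exact aut_trivial_factor hPG (hle i hi) (hidx i hi) (hinv _ i (by omega)) (hinv _ (i + 1) hi)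
      (q := q) (by simpa [Subtype.ext_iff] using hq)
  · have h1 := hn i hi _ (hinv (a : MulAut P)⁻¹ (i + 1) hi x hx)
    have h2 := hinv (a : MulAut P) i (by omega) _ h1
    simpa [MulAut.mul_apply] using h2
  · rintro ⟨a, ha⟩
    obtain ⟨e, m, hm, hme⟩ :=
      Nat.exists_eq_pow_mul_and_not_dvd (orderOf_pos (a : MulAut P)).ne' p hp.out.ne_one
    refine ⟨e, Subtype.ext (Subtype.ext ?_)⟩
    have := aut_eq_one_of_series hPG W h0 hk (α := (a : MulAut P) ^ p ^ e)
      ((hp.out.coprime_iff_not_dvd.mpr hm).symm) (by rw [← pow_mul, ← hme, pow_orderOf_eq_one])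
      (fun i hi x hx => by simpa using (K.pow_mem ha (p ^ e)) i hi x hx)
    simpa using this

omit [Finite S] in
/-- A four-step series given by cardinalities. -/
theorem not_chain_four (hS : IsPGroup p S) [Finite S] (hF : F.IsSaturated p) (hP : F.IsEssential p P)
    (hcard : Nat.card P = p ^ 4) (A B C : Subgroup P) (hA : Nat.card A = p) (hB : Nat.card B = p ^ 2)
    (hC : Nat.card C = p ^ 3) (hAB : A ≤ B) (hBC : B ≤ C)
    (iA : ∀ (α : MulAut P), ∀ x ∈ A, α x ∈ A) (iB : ∀ (α : MulAut P), ∀ x ∈ B, α x ∈ B)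
    (iC : ∀ (α : MulAut P), ∀ x ∈ C, α x ∈ C) : False := by
  haveI := finite_of_le hP.1.1
  let W : ℕ → Subgroup P := fun i =>
    match i with
    | 0 => ⊥
    | 1 => A
    | 2 => B
    | 3 => C
    | _ => ⊤
  have hrel : ∀ (X Y : Subgroup P) (i : ℕ), X ≤ Y → Nat.card X = p ^ i → Nat.card Y = p ^ (i + 1) →
      X.relIndex Y = p := by
    intro X Y i hXY hX hY
    have h1 := (X.subgroupOf Y).card_mul_index
    rw [Nat.card_congr (Subgroup.subgroupOfEquivOfLe hXY).toEquiv, hX, hY, pow_succ] at h1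
    exact Nat.eq_of_mul_eq_mul_left (pow_pos hp.out.pos i) h1
  refine not_chain hS hF hP (k := 4) W rfl rfl ?_ ?_ ?_
  · intro i hi
    interval_cases i
    exacts [bot_le, hAB, hBC, le_top]
  · intro i hi
    interval_cases i
    exacts [hrel ⊥ A 0 bot_le (by simp) (by simpa using hA), hrel A B 1 hAB (by simpa using hA) hB,
      hrel B C 2 hBC hB hC, hrel C ⊤ 3 le_top hC (by simpa using hcard)]
  · intro α i hi x hx
    interval_cases i
    · have hx' : x = 1 := hx
      subst hx'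
      exact (map_one α).symm ▸ (⊥ : Subgroup P).one_mem
    exacts [iA α x hx, iB α x hx, iC α x hx, trivial]

end Fusion

end Cfsg.Lib.FusionSys.OrderFour
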