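import Cfsg.Agent.Lib.FusionSys.Saturation
import Cfsg.Agent.Lib.FusionSys.KNormalizer
import Cfsg.Agent.Lib.Core.Cores

/-!
Isomorphisms of a fusion system that extend to given subgroups, and moves to conjugates where the
stabilizer of a subgroup in an automizer has a Sylow subgroup induced by `S`.
-/

set_option autoImplicit false

namespace Cfsg.Lib.FusionSys

open Cfsg Cfsg.FusionSystem

variable {Ω : Type*} [Group Ω] {S : Subgroup Ω} {F : FusionSystem S}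

/-- `e` extends to a map on `T` with values in `U`. -/
def ExtIso (F : FusionSystem S) (T U : Subgroup Ω) {A B : Subgroup Ω} (e : A ≃* B) : Prop :=
  A ≤ T ∧ ∃ ψ ∈ F.Hom T, (∀ x, ψ x ∈ U) ∧
    ∀ (x : Ω) (hA : x ∈ A) (hT : x ∈ T), ψ ⟨x, hT⟩ = (e ⟨x, hA⟩ : Ω)

variable {A B C T U V : Subgroup Ω}

theorem ExtIso.le_S {e : A ≃* B} (h : ExtIso F T U e) : T ≤ S := by
  obtain ⟨-, ψ, hψ, -⟩ := h
  exact hom_le hψ

theorem ExtIso.isoIn {e : A ≃* B} (h : ExtIso F T U e) : IsoIn F e := by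
  obtain ⟨hA, ψ, hψ, -, he⟩ := h
  exact hom_congr (restrict_mem hψ hA) fun x => (he x x.2 (hA x.2)).symm

theorem ExtIso.right_le {e : A ≃* B} (h : ExtIso F T U e) : B ≤ U := by
  obtain ⟨hA, ψ, -, hv, he⟩ := h
  intro y hy
  have h1 := hv ⟨_, hA (e.symm ⟨y, hy⟩).2⟩
  rw [he _ (e.symm ⟨y, hy⟩).2] at h1
  simpa using h1

theorem ExtIso.mono {e : A ≃* B} (h : ExtIso F T U e) {T' U' : Subgroup Ω} (hA : A ≤ T') (hT : T' ≤ T)
    (hU : U ≤ U') : ExtIso F T' U' e := by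
  obtain ⟨-, ψ, hψ, hv, he⟩ := h
  exact ⟨hA, ψ.comp (Subgroup.inclusion hT), restrict_mem hψ hT, fun x => hU (hv _),
    fun x hx hT' => he x hx (hT hT')⟩

theorem ExtIso.trans {e : A ≃* B} {f : B ≃* C} (h : ExtIso F T U e) (h' : ExtIso F U V f) :
    ExtIso F T V (e.trans f) := by
  obtain ⟨hA, ψ, hψ, hv, he⟩ := h
  obtain ⟨-, χ, hχ, hv', hf⟩ := h'
  refine ⟨hA, χ.comp (ψ.codRestrict U hv), F.comp_mem hψ hχ hv, fun x => hv' _, fun x hx hT => ?_⟩
  show χ (⟨ψ ⟨x, hT⟩, hv _⟩ : U) = _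
  have hx' : ψ ⟨x, hT⟩ ∈ B := by rw [he x hx hT]; exact (e ⟨x, hx⟩).2
  rw [hf _ hx' (hv _)]
  exact congrArg (fun z : B => ((f z : C) : Ω)) (Subtype.ext (he x hx hT))

theorem ExtIso.congr {e e' : A ≃* B} (h : ExtIso F T U e) (he : ∀ x, e' x = e x) :
    ExtIso F T U e' := by
  obtain ⟨hA, ψ, hψ, hv, h1⟩ := h
  exact ⟨hA, ψ, hψ, hv, fun x hx hT => by rw [h1 x hx hT, he]⟩

/-- Values land in the normalizer of the image. -/
theorem ExtIso.normalizes {e : A ≃* B} (h : ExtIso F T U e)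
    (hT : T ≤ Subgroup.normalizer (A : Set Ω)) : ExtIso F T (U ⊓ normalizerIn S B) e := by
  obtain ⟨hA, ψ, hψ, hv, he⟩ := h
  refine ⟨hA, ψ, hψ, fun x => ⟨hv x, hom_mem hψ x, ?_⟩, he⟩
  have := map_mem_normalizer (Q := A) ψ x (hT x.2)
  rwa [map_subgroupOf_eq hA he] at this

theorem ExtIso.symm [Finite S] {e : A ≃* B} (h : ExtIso F T U e) :
    ∃ T', T' ≤ U ∧ Nat.card T' = Nat.card T ∧ ExtIso F T' T e.symm := by
  obtain ⟨hA, ψ, hψ, hv, he⟩ := h
  obtain ⟨χ, hχ, hχe⟩ := F.inv_mem hψ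
  refine ⟨ψ.range, ?_, card_range hψ, ?_, χ, hχ, ?_, ?_⟩
  · rintro _ ⟨x, rfl⟩
    exact hv x
  · intro y hy
    refine ⟨⟨_, hA (e.symm ⟨y, hy⟩).2⟩, ?_⟩
    rw [he _ (e.symm ⟨y, hy⟩).2]
    simp
  · rintro ⟨_, x, rfl⟩
    rw [hχe x]
    exact x.2
  · intro y hy hT
    have h1 : ψ ⟨_, hA (e.symm ⟨y, hy⟩).2⟩ = y := by
      rw [he _ (e.symm ⟨y, hy⟩).2]
      simp
    have h2 : (⟨y, hT⟩ : ψ.range) = ⟨ψ ⟨_, hA (e.symm ⟨y, hy⟩).2⟩, ⟨_, rfl⟩⟩ := Subtype.ext h1.symm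
    rw [h2, hχe]

theorem extIso_refl (F : FusionSystem S) (hT : T ≤ S) (hA : A ≤ T) :
    ExtIso F T T (MulEquiv.refl A) :=
  ⟨hA, T.subtype, subtype_mem F hT, fun x => x.2, fun _ _ _ => rfl⟩

theorem ExtIso.card_le [Finite S] {e : A ≃* B} (h : ExtIso F T U e) (hU : U ≤ S) :
    Nat.card T ≤ Nat.card U := by
  obtain ⟨-, ψ, hψ, hv, -⟩ := h
  haveI := finite_of_le hU
  exact Nat.card_le_card_of_injective (fun x => (⟨ψ x, hv x⟩ : U)) fun a b hab =>
    F.injective_of_mem hψ (congrArg Subtype.val hab)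

/-- An injection of `T` into `U` of at most the same order is invertible. -/
theorem ExtIso.symm_of_card [Finite S] {e : A ≃* B} (h : ExtIso F T U e) (hU : U ≤ S)
    (hc : Nat.card U ≤ Nat.card T) : ExtIso F U T e.symm := by
  obtain ⟨T', hT', hc', h'⟩ := h.symm
  obtain rfl : T' = U := eq_of_le_of_card_le hU hT' (hc'.symm ▸ hc)
  exact h'

/-- The image of the subgroup `A` under an automorphism of `R`. -/
def moveSub {R : Subgroup Ω} (α : MulAut R) (A : Subgroup Ω) : Subgroup Ω :=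
  (A.subgroupOf R).map (R.subtype.comp α.toMonoidHom)

/-- The automorphisms of `R` in the system that stabilize `A`. -/
def stabAut (F : FusionSystem S) (R A : Subgroup Ω) : Subgroup (MulAut R) where
  carrier := {α | α ∈ F.autGroup R ∧ ∀ x : R, ((x : Ω) ∈ A ↔ ((α x : R) : Ω) ∈ A)}
  one_mem' := ⟨Subgroup.one_mem _, fun _ => Iff.rfl⟩
  mul_mem' := fun {a b} ha hb =>
    ⟨Subgroup.mul_mem _ ha.1 hb.1, fun x => (hb.2 x).trans (ha.2 (b x))⟩
  inv_mem' := fun {a} ha => ⟨Subgroup.inv_mem _ ha.1, fun x => by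
    rw [ha.2 (a⁻¹ x), MulAut.apply_inv_self]⟩

/-- The stabilizer of `A` in the automizer of `R` has a Sylow subgroup induced by `S`. -/
def SylowStab (F : FusionSystem S) (p : ℕ) (R A : Subgroup Ω) : Prop :=
  ∃ W : Sylow p (stabAut F R A), (W : Subgroup (stabAut F R A)) =
    (autInducedBy S R).subgroupOf (stabAut F R A)

/-- Extension into a receptive target. -/
theorem exists_extIso_of_receptive {R R' : Subgroup Ω} (hR : F.IsReceptive R) {e : R' ≃* R}
    (he : IsoIn F e) {T : Subgroup Ω} (hRT : R' ≤ T) (hT : T ≤ normalizerIn S R')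
    (h : ∀ g (hg : g ∈ T), MulAut.congr e (conjAut R' (hT hg).2) ∈ autInducedBy S R) :
    ExtIso F T (normalizerIn S R) e := by
  obtain ⟨ψ, hψ, hψe⟩ := IsReceptive_ext hR he (N := T) (by
    intro g hg
    obtain ⟨k, hk, hke⟩ := mem_autInducedBy.1 (h g hg)
    refine ⟨(hT hg).1, (hT hg).2, k, hk, fun x y hxy => ?_⟩
    have h1 := hke (e x)
    have hy : y = conjAut R' (hT hg).2 x := Subtype.ext (by simpa using hxy)
    rw [hy, ← h1]
    simp [MulAut.congr])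
  have h0 : ExtIso F T S e := ⟨hRT, ψ, hψ, hom_mem hψ, hψe⟩
  exact (h0.normalizes fun g hg => (hT hg).2).mono hRT le_rfl inf_le_right

theorem mem_moveSub {R : Subgroup Ω} {α : MulAut R} {y : Ω} :
    y ∈ moveSub α A ↔ ∃ x : R, (x : Ω) ∈ A ∧ ((α x : R) : Ω) = y :=
  ⟨fun ⟨x, hx, he⟩ => ⟨x, hx, he⟩, fun ⟨x, hx, he⟩ => ⟨x, hx, he⟩⟩

theorem mem_moveSub_apply {R : Subgroup Ω} {α : MulAut R} (x : R) :
    ((α x : R) : Ω) ∈ moveSub α A ↔ (x : Ω) ∈ A := by
  rw [mem_moveSub]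
  refine ⟨fun ⟨z, hz, he⟩ => ?_, fun hx => ⟨x, hx, rfl⟩⟩
  obtain rfl : z = x := α.injective (Subtype.ext he)
  exact hz

theorem conj_mem_stabAut {R : Subgroup Ω} {γ α : MulAut R} (hγ : γ ∈ F.autGroup R)
    (hα : α ∈ stabAut F R A) : γ * α * γ⁻¹ ∈ stabAut F R (moveSub γ A) := by
  refine ⟨Subgroup.mul_mem _ (Subgroup.mul_mem _ hγ hα.1) (Subgroup.inv_mem _ hγ), fun x => ?_⟩
  have hx : (γ (γ⁻¹ x) : R) = x := MulAut.apply_inv_self _ _ _
  rw [MulAut.mul_apply, MulAut.mul_apply, mem_moveSub_apply, ← hα.2]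
  conv_lhs => rw [← hx, mem_moveSub_apply]

theorem conjAut_mem_stabAut {R : Subgroup Ω} (hR : R ≤ S) {g : Ω} (hg : g ∈ S)
    (hgR : g ∈ Subgroup.normalizer (R : Set Ω)) (hgA : g ∈ Subgroup.normalizer (A : Set Ω)) :
    conjAut R hgR ∈ stabAut F R A :=
  ⟨autInducedBy_le_autGroup hR (conjAut_mem_autInducedBy hgR hg),
    fun x => by rw [coe_conjAut]; exact Subgroup.mem_normalizer_iff.1 hgA x⟩

/-- A move inside a fully automized receptive subgroup to a position with a Sylow stabilizer. -/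
theorem exists_sylow_move [Finite S] {p : ℕ} [Fact p.Prime] (hS : IsPGroup p S) {R : Subgroup Ω}
    (hfa : F.IsFullyAutomized p R) (hrec : F.IsReceptive R) (hAR : A ≤ R) {T : Subgroup Ω}
    (hT : T ≤ normalizerIn S R) (hTA : T ≤ Subgroup.normalizer (A : Set Ω)) (hRT : R ≤ T) :
    ∃ (A' : Subgroup Ω) (e : A ≃* A'), A' ≤ R ∧ SylowStab F p R A' ∧
      ExtIso F T (normalizerIn S R ⊓ normalizerIn S A') e ∧
      ∃ γ : R ≃* R, ExtIso F T (normalizerIn S R) γ ∧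
        ∀ (x : Ω) (hR : x ∈ R) (hA : x ∈ A), ((γ ⟨x, hR⟩ : R) : Ω) = (e ⟨x, hA⟩ : Ω) := by
  obtain ⟨hRS, R₀, hR₀⟩ := hfa
  haveI := finite_of_le hRS
  haveI : Finite (MulAut R) := Finite.of_injective MulEquiv.toEquiv MulEquiv.toEquiv_injective
  set K := stabAut F R A with hK
  have hKle : K ≤ F.autGroup R := fun α hα => hα.1
  let X : Subgroup (MulAut R) := (autInducedBy S R ⊓ K)
  have hXp : IsPGroup p (X.subgroupOf K) := ((isPGroup_autInducedBy hS).to_le inf_le_left).comap_subtype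
  obtain ⟨W, hW⟩ := hXp.exists_le_sylow
  let W' : Subgroup (F.autGroup R) := ((W : Subgroup K).map K.subtype).subgroupOf (F.autGroup R)
  have hW'p : IsPGroup p W' := (W.isPGroup'.map K.subtype).comap_subtype
  obtain ⟨R₁, hR₁⟩ := hW'p.exists_le_sylow
  obtain ⟨b, hb⟩ := MulAction.exists_smul_eq (F.autGroup R) R₁ R₀
  set γ : MulAut R := (b : MulAut R) with hγdef
  have hγ : γ ∈ F.autGroup R := b.2
  have hconj : ∀ w ∈ (W : Subgroup K), γ * (w : MulAut R) * γ⁻¹ ∈ autInducedBy S R := by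
    intro w hw
    let w' : F.autGroup R := ⟨w, hKle w.2⟩
    have hw' : w' ∈ W' := ⟨w, hw, rfl⟩
    have h1 : b * w' * b⁻¹ ∈ (R₀ : Subgroup (F.autGroup R)) := by
      rw [← hb, Sylow.coe_subgroup_smul]
      exact Subgroup.smul_mem_pointwise_smul w' (MulAut.conj b) _ (hR₁ hw')
    rw [hR₀, Subgroup.mem_subgroupOf] at h1
    exact h1
  have hTX : ∀ g (hg : g ∈ T), γ * conjAut R (hT hg).2 * γ⁻¹ ∈ autInducedBy S R := by
    intro g hg
    have hc : conjAut R (hT hg).2 ∈ K := conjAut_mem_stabAut hRS (hT hg).1 (hT hg).2 (hTA hg)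
    exact hconj ⟨_, hc⟩ (hW ⟨conjAut_mem_autInducedBy (hT hg).2 (hT hg).1, hc⟩)
  have hext : ExtIso F T (normalizerIn S R) (γ : R ≃* R) := by
    refine exists_extIso_of_receptive hrec ((mem_autGroup hRS).1 hγ) hRT hT fun g hg => ?_
    have e1 : MulAut.congr (γ : R ≃* R) (conjAut R (hT hg).2) = γ * conjAut R (hT hg).2 * γ⁻¹ :=
      MulEquiv.ext fun x => rfl
    rw [e1]
    exact hTX g hg
  have hA'R : moveSub γ A ≤ R := by
    rintro _ ⟨x, -, rfl⟩
    exact (γ x).2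
  let e : A ≃* moveSub γ A :=
    { toFun := fun a => ⟨γ ⟨a, hAR a.2⟩, (mem_moveSub_apply _).2 a.2⟩
      invFun := fun a => ⟨γ.symm ⟨a, hA'R a.2⟩, (mem_moveSub_apply (α := γ) _).1 (by
        rw [MulEquiv.apply_symm_apply]; exact a.2)⟩
      left_inv := fun a => Subtype.ext (by simp)
      right_inv := fun a => Subtype.ext (by simp)
      map_mul' := fun a c => Subtype.ext (by
        show ((γ ⟨((a * c : A) : Ω), _⟩ : R) : Ω) = _
        rw [show (⟨((a * c : A) : Ω), hAR (a * c).2⟩ : R) = ⟨a, hAR a.2⟩ * ⟨c, hAR c.2⟩ from rfl,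
          map_mul]
        rfl) }
  refine ⟨moveSub γ A, e, hA'R, ?_, ?_, γ, hext, fun x hR hA => rfl⟩
  · -- the stabilizer
    let c : K ≃* stabAut F R (moveSub γ A) :=
      { toFun := fun w => ⟨γ * w * γ⁻¹, conj_mem_stabAut hγ w.2⟩
        invFun := fun w => ⟨γ⁻¹ * w * γ, by
          refine ⟨Subgroup.mul_mem _ (Subgroup.mul_mem _ (Subgroup.inv_mem _ hγ) w.2.1) hγ,
            fun x => ?_⟩
          rw [MulAut.mul_apply, MulAut.mul_apply, ← mem_moveSub_apply (α := γ) x,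
            ← mem_moveSub_apply (α := γ) (γ⁻¹ _), MulAut.apply_inv_self]
          exact w.2.2 _⟩
        left_inv := fun w => Subtype.ext (by simp [mul_assoc])
        right_inv := fun w => Subtype.ext (by simp [mul_assoc])
        map_mul' := fun w v => Subtype.ext (by simp [mul_assoc]) }
    refine ⟨W.mapSurjective (f := c.toMonoidHom) c.surjective, ?_⟩
    show (W : Subgroup K).map c.toMonoidHom = _
    symm
    refine le_antisymm ?_ ?_
    · have hp2 : IsPGroup p ((autInducedBy S R).subgroupOf (stabAut F R (moveSub γ A))) :=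
        (isPGroup_autInducedBy hS).comap_subtype
      have hle : (W : Subgroup K).map c.toMonoidHom ≤
          (autInducedBy S R).subgroupOf (stabAut F R (moveSub γ A)) := by
        rintro _ ⟨w, hw, rfl⟩
        exact hconj w hw
      have heq := (W.mapSurjective (f := c.toMonoidHom) c.surjective).3 hp2 hle
      exact heq.le
    · rintro _ ⟨w, hw, rfl⟩
      exact hconj w hw
  · have h1 : ExtIso F T (normalizerIn S R) e := by
      obtain ⟨-, ψ, hψ, hv, he⟩ := hext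
      exact ⟨hAR.trans hRT, ψ, hψ, hv, fun x hx hxT => he x (hAR hx) hxT⟩
    exact h1.normalizes hTA

/-- The conjugate of a `p`-group of automorphisms into a Sylow subgroup by an element of the kernel. -/
theorem exists_ker_conj {G H : Type*} [Group G] [Finite G] [Group H] {p : ℕ} [Fact p.Prime]
    (ρ : G →* H) (W : Sylow p G) (X : Subgroup G) (hX : IsPGroup p X)
    (h : X.map ρ ≤ (W : Subgroup G).map ρ) :
    ∃ c ∈ ρ.ker, ∀ x ∈ X, c * x * c⁻¹ ∈ (W : Subgroup G) := by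
  set M := ((W : Subgroup G).map ρ).comap ρ with hM
  have hWM : (W : Subgroup G) ≤ M := Subgroup.le_comap_map ρ W
  have hXM : X ≤ M := fun x hx => h ⟨x, hx, rfl⟩
  obtain ⟨W', hW'⟩ := (hX.comap_subtype (K := M)).exists_le_sylow
  obtain ⟨m, hm⟩ := MulAction.exists_smul_eq M W' (W.subtype hWM)
  obtain ⟨w, hw, hwe⟩ := m.2
  refine ⟨w⁻¹ * m, by rw [MonoidHom.mem_ker, map_mul, map_inv, hwe, inv_mul_cancel], fun x hx => ?_⟩
  have h1 : m * ⟨x, hXM hx⟩ * m⁻¹ ∈ (W.subtype hWM : Subgroup M) := by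
    rw [← hm, Sylow.coe_subgroup_smul]
    exact Subgroup.smul_mem_pointwise_smul _ (MulAut.conj m) _ (hW' hx)
  rw [Sylow.coe_subtype, Subgroup.mem_subgroupOf] at h1
  have e : w⁻¹ * (m : G) * x * (w⁻¹ * (m : G))⁻¹ =
      w⁻¹ * ((m * ⟨x, hXM hx⟩ * m⁻¹ : M) : G) * w := by
    push_cast
    group
  rw [e]
  exact Subgroup.mul_mem _ (Subgroup.mul_mem _ (Subgroup.inv_mem _ hw) h1) hw

end Cfsg.Lib.FusionSys
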