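import Cfsg.Agent.Lib.FusionSys.Simple

/-!
Saturated subsystems over the same `S`: membership is decided on centric subgroups.
-/

set_option autoImplicit false

namespace Cfsg.Lib.FusionSys

open Cfsg Cfsg.FusionSystem
open scoped Pointwise

variable {Ω : Type*} [Group Ω] {S : Subgroup Ω} {F : FusionSystem S} {P Q : Subgroup Ω}

/-- A map agreeing on a centric subgroup with a map of a saturated subsystem over `S` lies in that subsystem. -/
theorem mem_of_centric_restrict [Finite S] {p : ℕ} [Fact p.Prime] (hS : IsPGroup p S)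
    (hF : F.IsSaturated p) {E : FusionSystem S} (hE : E.IsSaturated p) (hEF : E.IsSubsystemOf F)
    {φ : P →* Ω} (hφ : φ ∈ F.Hom P) (hQP : Q ≤ P) (hQ : F.IsCentric Q)
    (hφQ : φ.comp (Subgroup.inclusion hQP) ∈ E.Hom Q) : φ ∈ E.Hom P := by
  have hPS := hom_le hφ
  haveI := finite_of_le hPS
  suffices ∀ (n : ℕ) (U : Subgroup Ω) (hUP : U ≤ P), F.IsCentric U →
      Nat.card P ≤ Nat.card U + n → φ.comp (Subgroup.inclusion hUP) ∈ E.Hom U → φ ∈ E.Hom P from
    this _ Q hQP hQ (Nat.le_add_left _ _) hφQ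
  intro n
  induction n with
  | zero =>
    intro U hUP _ hc hU
    have hU' : U = P := Subgroup.eq_of_le_of_card_ge hUP (by simpa using hc)
    subst hU'
    exact hom_congr hU fun _ => rfl
  | succ n ih =>
    intro U hUP hU hc hφU
    rcases eq_or_lt_of_le hUP with h | hlt
    · subst h
      exact hom_congr hφU fun _ => rfl
    have hlt' := lt_normalizerIn (hS.to_le hPS) hlt
    set V := normalizerIn P U
    have hVP : V ≤ P := normalizerIn_le U
    haveI := finite_of_le (hVP.trans hPS)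
    have hcard : Nat.card U < Nat.card V := by
      by_contra hcc
      exact hlt'.ne (Subgroup.eq_of_le_of_card_ge hlt'.le (not_lt.1 hcc))
    refine ih V hVP (isCentric_mono hU hlt'.le (hVP.trans hPS)) (by omega) ?_
    have hU'c : E.IsCentric (φ.comp (Subgroup.inclusion hUP)).range := by
      refine ⟨range_le hφU, fun R hR => hU.2 R ?_⟩
      refine isConj_trans ⟨_, hEF U hφU, rfl⟩ ?_
      obtain ⟨ψ, hψ, hψr⟩ := hR
      exact ⟨ψ, hEF _ hψ, hψr⟩
    have hrec := isReceptive_of_fc hS hE (isFullyCentralized_of_isCentric hU'c)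
    obtain ⟨ψ, hψ, hψe⟩ := IsReceptive_ext hrec (isoIn_homIso hφU rfl) (N := V) (by
      intro g hg
      refine ⟨hPS hg.1, hg.2, φ ⟨g, hg.1⟩, hom_mem hφ _, fun x y hxy => ?_⟩
      show φ (Subgroup.inclusion hUP y) = _
      have h1 : Subgroup.inclusion hUP y =
          ⟨g, hg.1⟩ * Subgroup.inclusion hUP x * ⟨g, hg.1⟩⁻¹ := Subtype.ext hxy
      rw [h1, map_mul, map_mul, map_inv]
      rfl)
    obtain ⟨z, -, -, hz⟩ := centric_ext_unique hS hF hU hlt'.le (hEF _ hψ)
      (restrict_mem hφ hVP) (fun x hx => hψe x hx x.2)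
    exact comp_mem' (E.conj_mem (hVP.trans hPS) (hPS (hVP z.2))) hψ
      (fun y => V.mul_mem (V.mul_mem z.2 y.2) (V.inv_mem z.2)) fun y => hz y

theorem eq_of_centric_minimal [Finite S] {p : ℕ} [Fact p.Prime] (hS : IsPGroup p S)
    (hF : F.IsSaturated p) {E : FusionSystem S} (hE : E.IsSaturated p) (hEF : E ≤ F)
    (hmin : ∀ Q : Subgroup Ω, F.IsCentric Q → (∀ R : Subgroup Ω, R < Q → ¬ F.IsCentric R) →
      F.Hom Q = E.Hom Q) : F ≤ E := by
  refine le_of_autGroup_le hS hF E fun P hP α hα => ?_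
  have hPS : P ≤ S := by rcases hP with rfl | hP; exacts [le_rfl, hP.1.1]
  have hc : F.IsCentric P := by
    rcases hP with rfl | hP
    · exact ⟨le_rfl, fun Q hQ => by rw [eq_top_of_isConj hQ]; exact inf_le_left⟩
    · exact hP.1
  obtain ⟨Q, hQP, hQc, hQmin⟩ : ∃ Q : Subgroup Ω, Q ≤ P ∧ F.IsCentric Q ∧
      ∀ R : Subgroup Ω, R < Q → ¬ F.IsCentric R := by
    haveI := finite_of_le hPS
    suffices ∀ (n : ℕ) (T : Subgroup Ω), T ≤ P → Nat.card T ≤ n → F.IsCentric T →
        ∃ Q : Subgroup Ω, Q ≤ P ∧ F.IsCentric Q ∧ ∀ R : Subgroup Ω, R < Q → ¬ F.IsCentric R from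
      this _ P le_rfl le_rfl hc
    intro n
    induction n with
    | zero =>
      intro T hT h0 _
      haveI := finite_of_le (hT.trans hPS)
      exact absurd h0 (Nat.not_le.2 Nat.card_pos)
    | succ n ih =>
      intro T hT hcard hTc
      by_cases h : ∀ R : Subgroup Ω, R < T → ¬ F.IsCentric R
      · exact ⟨T, hT, hTc, h⟩
      · push Not at h
        obtain ⟨R, hR, hRc⟩ := h
        haveI := finite_of_le (hT.trans hPS)
        refine ih R (hR.le.trans hT) ?_ hRc
        have h1 := Subgroup.card_le_of_le hR.le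
        have h2 : Nat.card R ≠ Nat.card T := fun he =>
          hR.ne (Subgroup.eq_of_le_of_card_ge hR.le he.ge)
        omega
  have hi := (mem_autGroup hPS).1 hα
  exact (mem_autGroup hPS).2 (mem_of_centric_restrict hS hF hE hEF hi hQP hQc
    (hmin Q hQc hQmin ▸ restrict_mem hi hQP))

theorem le_of_normal_autGroup [Finite S] {p : ℕ} [Fact p.Prime] (hS : IsPGroup p S)
    (hF : F.IsSaturated p) {E : FusionSystem S}
    (hnorm : ∀ P : Subgroup Ω, P ≤ S → ∀ β ∈ F.autGroup P, ∀ ε ∈ E.autGroup P,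
      β * ε * β⁻¹ ∈ E.autGroup P)
    (htop : F.autGroup S ≤ E.autGroup S) : F ≤ E := by
  refine le_of_autGroup_le' hS hF E fun P hP hbig => ?_
  rcases hP with hP | hP
  · subst hP
    exact htop
  obtain ⟨hfc, -, R, hR⟩ := isFullyAutomized_and_fc_of_fn hS hF hP.2.1
  have hrec := isReceptive_of_fc hS hF hfc
  have hPS := hP.1.1
  haveI := finite_of_le hPS
  have hPlt : P < S := by
    refine lt_of_le_of_ne hPS fun h => ?_
    subst h
    have hne := extensibleAut_ne_of_isEssential hS hF hP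
    obtain ⟨-, -, hN, E', hdvd, -, -⟩ := hP
    have hR' : (R : Subgroup (F.autGroup P)) ≤ (Inn P).subgroupOf (F.autGroup P) := by
      intro a ha
      rw [hR, Subgroup.mem_subgroupOf, mem_autInducedBy] at ha
      obtain ⟨g, hg, hga⟩ := ha
      exact ⟨⟨g, hg⟩, MulEquiv.ext fun x => Subtype.ext (hga x).symm⟩
    exact R.not_dvd_index (hdvd.trans (Subgroup.index_dvd_of_le hR'))
  intro a ha
  let A := F.autGroup P
  let N : Subgroup A := (E.autGroup P).subgroupOf A
  have hN : ∀ b : A, ∀ n ∈ N, b * n * b⁻¹ ∈ N := fun b n hn => hnorm P hPS b b.2 n hn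
  have hRN : (R : Subgroup A) ≤ N := by
    rw [hR]
    exact Subgroup.comap_mono (autInducedBy_le_autGroup hPS)
  have hR'N : (((⟨a, ha⟩ : A) • R : Sylow p A) : Subgroup A) ≤ N := by
    intro y hy
    rw [Sylow.coe_subgroup_smul, Subgroup.mem_pointwise_smul_iff_inv_smul_mem] at hy
    have h1 := hN ⟨a, ha⟩ _ (hRN hy)
    simpa [mul_assoc] using h1
  obtain ⟨n, hn⟩ := MulAction.exists_smul_eq N (R.subtype hRN) (((⟨a, ha⟩ : A) • R).subtype hR'N)
  set m : A := (n : A)⁻¹ * ⟨a, ha⟩ with hm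
  have hmR : ∀ r ∈ (R : Subgroup A), m * r * m⁻¹ ∈ (R : Subgroup A) := by
    intro r hr
    have h2 : (⟨a, ha⟩ : A) * r * (⟨a, ha⟩ : A)⁻¹ ∈
        (((⟨a, ha⟩ : A) • R : Sylow p A) : Subgroup A) := by
      rw [Sylow.coe_subgroup_smul]
      exact Subgroup.smul_mem_pointwise_smul r (MulAut.conj (⟨a, ha⟩ : A)) _ hr
    have h3 : (⟨_, hR'N h2⟩ : N) ∈
        ((((⟨a, ha⟩ : A) • R).subtype hR'N : Sylow p N) : Subgroup N) := h2
    rw [← hn, Sylow.coe_subgroup_smul, Subgroup.mem_pointwise_smul_iff_inv_smul_mem] at h3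
    have h4 : ((MulAut.conj n)⁻¹ • (⟨_, hR'N h2⟩ : N) : N).1 ∈ (R : Subgroup A) := h3
    simpa [hm, mul_assoc] using h4
  obtain ⟨ψ, hψ, hψe⟩ := IsReceptive_ext hrec
    ((mem_autGroup hPS).1 m.2 : IsoIn F (m : MulAut P))
    (N := normalizerIn S P) (by
      intro g hg
      refine ⟨hg.1, hg.2, ?_⟩
      have hx : conjAut P hg.2 ∈ autInducedBy S P := conjAut_mem_autInducedBy hg.2 hg.1
      have h2 := hmR ⟨_, autInducedBy_le_autGroup hPS hx⟩ (by rw [hR]; exact hx)
      rw [hR, Subgroup.mem_subgroupOf] at h2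
      obtain ⟨h, hh, hhy⟩ := mem_autInducedBy.1 h2
      refine ⟨h, hh, fun x y hxy => ?_⟩
      have h3 := hhy ((m : MulAut P) x)
      have hy : y = conjAut P hg.2 x := Subtype.ext (by simpa using hxy)
      show ((m : MulAut P) y : Ω) = h * ((m : MulAut P) x : Ω) * h⁻¹
      rw [hy, ← h3]
      simp [MulAut.mul_apply, MulAut.inv_apply])
  have hlt := lt_normalizerIn hS hPlt
  have hcard : Nat.card P < Nat.card (normalizerIn S P) := by
    haveI := finite_of_le (normalizerIn_le (S := S) P)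
    by_contra hcc
    exact hlt.ne (Subgroup.eq_of_le_of_card_ge hlt.le (not_lt.1 hcc))
  have hmE : (m : MulAut P) ∈ E.autGroup P :=
    (mem_autGroup hPS).2 (hom_congr (restrict_mem (hbig _ hcard hψ) hlt.le)
      fun x => (hψe x x.2 (hlt.le x.2)).symm)
  have h5 := (E.autGroup P).mul_mem n.2 hmE
  simpa [hm] using h5

end Cfsg.Lib.FusionSys
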