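import Cfsg.Agent.Lib.FusionSys.Model
import Cfsg.Agent.Lib.FusionSys.Nilpotent
import Cfsg.Agent.Lib.FusionSys.KNormalizer
import Cfsg.Agent.Lib.FusionSys.Constrained
import Cfsg.Agent.Lib.FusionSys.Local

/-!
Extremely sparse saturated systems are split by an automorphism of prime order.
-/

set_option autoImplicit false

namespace Cfsg.Lib.FusionSys

open Cfsg Cfsg.FusionSystem
open scoped Pointwise

universe u v

variable {Ω : Type u} [Group Ω] {S : Subgroup Ω} {F : FusionSystem S} {p : ℕ}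

/-- The system on `T` induced through `ι` by the subgroup `H`. -/
noncomputable def pullSystem {G : Type v} [Group G] (ι : S →* G) (hι : Function.Injective ι) (H : Subgroup G)
    {T : Subgroup Ω} (hT : T ≤ S) (hH : ∀ t : T, ι (Subgroup.inclusion hT t) ∈ H) :
    FusionSystem T where
  Hom P := {φ | P ≤ T ∧ (∀ x, φ x ∈ T) ∧ ∃ g ∈ H, ∀ (x : P) (hx : (x : Ω) ∈ S) (hv : φ x ∈ S),
    ι ⟨φ x, hv⟩ = g * ι ⟨x, hx⟩ * g⁻¹}
  le_of_mem h := ⟨h.1, h.2.1⟩
  injective_of_mem := by
    rintro P φ ⟨hP, hv, g, -, hg⟩ a b hab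
    have h1 := hg a (hT (hP a.2)) (hT (hv a))
    have h2 := hg b (hT (hP b.2)) (hT (hv b))
    simp only [hab] at h1
    exact Subtype.ext (congrArg Subtype.val (hι (mul_left_cancel (mul_right_cancel (h1.symm.trans h2)))) :)
  conj_mem := by
    intro P g hP hg
    refine ⟨hP, fun x => T.mul_mem (T.mul_mem hg (hP x.2)) (T.inv_mem hg), _, hH ⟨g, hg⟩,
      fun x hx hv => ?_⟩
    have e : (⟨conjHom P g x, hv⟩ : S) = Subgroup.inclusion hT ⟨g, hg⟩ * ⟨x, hx⟩ *
        (Subgroup.inclusion hT ⟨g, hg⟩)⁻¹ := Subtype.ext rfl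
    rw [e, map_mul, map_mul, map_inv]
  comp_mem := by
    rintro P Q φ ψ ⟨hP, hv, g, hgH, hg⟩ ⟨-, hw, k, hkH, hk⟩ h
    refine ⟨hP, fun x => hw _, k * g, H.mul_mem hkH hgH, fun x hx hu => ?_⟩
    rw [show (⟨_, hu⟩ : S) = ⟨ψ (φ.codRestrict Q h x), hu⟩ from rfl, hk _ (hT (hv x)) hu]
    show k * ι ⟨φ x, _⟩ * k⁻¹ = _
    rw [hg x hx (hT (hv x))]
    group
  inv_mem := by
    rintro P φ ⟨hP, hv, g, hgH, hg⟩
    have hinj : Function.Injective φ := fun a b hab => by
      have h1 := hg a (hT (hP a.2)) (hT (hv a))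
      have h2 := hg b (hT (hP b.2)) (hT (hv b))
      simp only [hab] at h1
      exact Subtype.ext (congrArg Subtype.val
        (hι (mul_left_cancel (mul_right_cancel (h1.symm.trans h2)))) :)
    let e := MonoidHom.ofInjective hinj
    refine ⟨P.subtype.comp e.symm.toMonoidHom, ⟨?_, fun y => hP (e.symm y).2, g⁻¹, H.inv_mem hgH,
      fun y hy hu => ?_⟩, fun x => congrArg Subtype.val (e.symm_apply_apply x)⟩
    · rintro _ ⟨x, rfl⟩
      exact hv x
    · obtain ⟨_, x, rfl⟩ := y
      have hex : P.subtype.comp e.symm.toMonoidHom ⟨φ x, ⟨x, rfl⟩⟩ = (x : Ω) :=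
        congrArg Subtype.val (e.symm_apply_apply x)
      rw [show (⟨_, hu⟩ : S) = ⟨(x : Ω), hT (hP x.2)⟩ from Subtype.ext hex,
        show (⟨_, hy⟩ : S) = ⟨φ x, hT (hv x)⟩ from rfl, hg x (hT (hP x.2)) (hT (hv x))]
      group

variable {G : Type v} [Group G] {ι : S →* G}

theorem pullSystem_le (hr : F.IsRealizedBy ι) (H : Subgroup G) {T : Subgroup Ω} (hT : T ≤ S)
    (hH : ∀ t : T, ι (Subgroup.inclusion hT t) ∈ H) :
    (pullSystem ι hr.1 H hT hH).IsSubsystemOf F := by
  rintro P φ ⟨hP, hv, g, -, hg⟩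
  exact (hr.2 P (hP.trans hT) φ fun x => hT (hv x)).2
    ⟨g, fun x => hg x (hT (hP x.2)) (hT (hv x))⟩

theorem pullSystem_isSaturated [Finite S] [Fact p.Prime] [Finite G] (hr : F.IsRealizedBy ι)
    (H : Subgroup G) {T : Subgroup Ω} (hT : T ≤ S) (hH : ∀ t : T, ι (Subgroup.inclusion hT t) ∈ H)
    (hp : IsPGroup p T) (hidx : ¬ p ∣ (imageOf ι T).relIndex H) :
    (pullSystem ι hr.1 H hT hH).IsSaturated p := by
  haveI := finite_of_le hT
  let j : T →* H := (ι.comp (Subgroup.inclusion hT)).codRestrict H hH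
  refine isSaturated_of_realized (ι := j) ⟨fun a b hab => Subgroup.inclusion_injective hT
    (hr.1 (congrArg Subtype.val hab :)), fun P hP φ hv => ?_⟩ ?_
  · constructor
    · rintro ⟨-, -, g, hgH, hg⟩
      exact ⟨⟨g, hgH⟩, fun x => Subtype.ext (hg x (hT (hP x.2)) (hT (hv x)))⟩
    · rintro ⟨g, hg⟩
      exact ⟨hP, hv, g, g.2, fun x _ _ => congrArg Subtype.val (hg x)⟩
  · have hrange : (imageOf ι T).subgroupOf H = j.range := by
      ext y
      rw [Subgroup.mem_subgroupOf, mem_imageOf]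
      constructor
      · rintro ⟨s, hs, he⟩
        exact ⟨⟨s, hs⟩, Subtype.ext he⟩
      · rintro ⟨t, rfl⟩
        exact ⟨Subgroup.inclusion hT t, t.2, rfl⟩
    have hpj : IsPGroup p j.range := hp.of_surjective j.rangeRestrict j.rangeRestrict_surjective
    refine exists_sylow_eq hpj ?_
    rw [Subgroup.relIndex, hrange] at hidx
    have hd : p ^ (Nat.card H).factorization p ∣ Nat.card j.range := by
      have h1 := Nat.ordProj_dvd (Nat.card H) p
      rw [← Subgroup.card_mul_index j.range] at h1 ⊢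
      exact ((Nat.Prime.coprime_iff_not_dvd Fact.out).2 hidx).pow_left _ |>.dvd_of_dvd_mul_right h1
    exact Nat.le_of_dvd Nat.card_pos hd

/-- An element of prime order coprime to `p` acting as an inner map on a `p`-group acts trivially. -/
theorem apply_eq_of_pow_conj {q : ℕ} [Fact p.Prime] [Fact q.Prime] (hqp : q ≠ p) {T : Subgroup Ω}
    (hT : IsPGroup p T) {α : MulAut T} (hα : α ^ q = 1)
    (hi : ∃ g ∈ T, ∀ t : T, (α t : Ω) = g * t * g⁻¹) (t : T) : α t = t := by
  obtain ⟨k, hk⟩ := isPGroup_autInducedBy (P := T) hT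
    ⟨α, mem_autInducedBy.2 hi⟩
  have hk' : α ^ p ^ k = 1 := congrArg Subtype.val hk
  have h1 : orderOf α ∣ Nat.gcd q (p ^ k) :=
    Nat.dvd_gcd (orderOf_dvd_of_pow_eq_one hα) (orderOf_dvd_of_pow_eq_one hk')
  rw [Nat.Coprime.gcd_eq_one (((Nat.coprime_primes Fact.out Fact.out).2 hqp).pow_right k),
    Nat.dvd_one, orderOf_eq_one_iff] at h1
  rw [h1]
  rfl

theorem closure_commutator_conj {S : Subgroup Ω} (β : MulAut S) {T : Subgroup Ω}
    (hT : T = Subgroup.closure {y | ∃ s : S, y = ((s⁻¹ * β s : S) : Ω)}) {g : Ω} (hg : g ∈ S)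
    {y : Ω} (hy : y ∈ T) : g * y * g⁻¹ ∈ T := by
  have h : T ≤ T.comap (MulAut.conj g).toMonoidHom := by
    conv_lhs => rw [hT]
    rw [Subgroup.closure_le]
    rintro _ ⟨s, rfl⟩
    show g * ((s⁻¹ * β s : S) : Ω) * g⁻¹ ∈ T
    have hm : ∀ u : S, ((u⁻¹ * β u : S) : Ω) ∈ T := fun u => by
      rw [hT]
      exact Subgroup.subset_closure ⟨u, rfl⟩
    let t : S := ⟨g, hg⟩
    have e : t * (s⁻¹ * β s) * t⁻¹ = (s * t⁻¹)⁻¹ * β (s * t⁻¹) * (t⁻¹⁻¹ * β t⁻¹)⁻¹ := by
      simp [mul_assoc]
    rw [show g * ((s⁻¹ * β s : S) : Ω) * g⁻¹ = ((t * (s⁻¹ * β s) * t⁻¹ : S) : Ω) from rfl, e,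
      Subgroup.coe_mul, Subgroup.coe_inv]
    exact T.mul_mem (hm _) (T.inv_mem (hm _))
  exact h hy

/-- Saturated, not inner, and with no other saturated non-inner subsystem. -/
def IsExtremelySparse (F : FusionSystem S) (p : ℕ) : Prop :=
  ¬ (∀ P : Subgroup Ω, F.Hom P = (Cfsg.innerFusionSystem S).Hom P) ∧
    ∀ (T : Subgroup Ω) (E : FusionSystem T), E.IsSaturated p → E.IsSubsystemOf F →
      (T = S ∧ ∀ P : Subgroup Ω, E.Hom P = F.Hom P) ∨
        (∀ P : Subgroup Ω, E.Hom P = (Cfsg.innerFusionSystem T).Hom P)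

theorem exists_centric_normal_of_sparse [Finite S] [Fact p.Prime] (hS : IsPGroup p S)
    (hF : F.IsSaturated p) (hxs : IsExtremelySparse F p) :
    ∃ R : Subgroup Ω, F.IsNormal R ∧ centralizerIn S R ≤ R ∧
      ¬ IsPGroup p (F.autGroup R) := by
  obtain ⟨hne, hsub⟩ := hxs
  obtain ⟨P, hP, hPA⟩ : ∃ P : Subgroup Ω, F.IsFullyNormalized P ∧ ¬ IsPGroup p (F.autGroup P) := by
    by_contra hc
    push Not at hc
    have hle := le_inner_of_autGroup hS hF fun P hP => hc P (by
      rcases hP with rfl | hP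
      exacts [isFullyNormalized_top F, hP.2.1])
    exact hne fun P => Set.Subset.antisymm (hle P) (innerFusionSystem_le F P)
  have hnormal : ∀ Q : Subgroup Ω, F.IsFullyNormalized Q → ¬ IsPGroup p (F.autGroup Q) →
      F.IsNormal Q := by
    intro Q hQ hQA
    obtain ⟨E, hE⟩ := exists_normalizerSystem F hQ.1
    have hEs := isSaturated_normalizerSystem hS hF hQ hE
    rcases hsub _ E hEs (fun R φ hφ => by rw [hE R] at hφ; exact hφ.1) with ⟨-, heq⟩ | hin
    · refine ⟨hQ.1, fun R φ hφ => ?_⟩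
      rw [← heq R, hE R] at hφ
      exact hφ.2.2.2
    · refine absurd (fun ⟨α, hα⟩ => ?_) hQA
      have hφ : Q.subtype.comp α.toMonoidHom ∈ F.Hom Q := (mem_autGroup hQ.1).1 hα
      have hN : Q.subtype.comp α.toMonoidHom ∈ E.Hom Q := by
        rw [hE Q]
        refine ⟨hφ, le_normalizerIn hQ.1, fun x => le_normalizerIn hQ.1 (α x).2, ?_⟩
        have hle : Q ⊔ Q ≤ Q := by simp
        refine ⟨_, restrict_mem hφ hle, fun x => rfl, ?_⟩
        ext y
        rw [mem_map_subgroupOf]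
        exact ⟨fun ⟨x, _, _, he⟩ => he ▸ (α ⟨x, _⟩).2, fun hy =>
          ⟨(α.symm ⟨y, hy⟩ : Q), Subgroup.mem_sup_left (α.symm ⟨y, hy⟩).2, (α.symm ⟨y, hy⟩).2,
            congrArg Subtype.val (α.apply_symm_apply ⟨y, hy⟩)⟩⟩
      rw [hin Q] at hN
      obtain ⟨-, g, hg, hge⟩ := hN
      obtain ⟨k, hk⟩ := isPGroup_autInducedBy (P := Q) hS
        ⟨α, mem_autInducedBy.2 ⟨g, hg.1, hge⟩⟩
      exact ⟨k, Subtype.ext (congrArg Subtype.val hk :)⟩
  have hPn := hnormal P hP hPA
  have hPS := hP.1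
  have hPnorm : ∀ g ∈ S, g ∈ Subgroup.normalizer (P : Set Ω) := fun g hg =>
    stronglyClosed_le_normalizer (isNormal_stronglyClosed hPn) hg
  set R := P ⊔ centralizerIn S P with hR
  have hRS : R ≤ S := sup_le hPS (centralizerIn_le P)
  have hRfn : F.IsFullyNormalized R := by
    refine ⟨hRS, fun Q _ => ?_⟩
    have hN : S ≤ normalizerIn S R := by
      intro g hg
      refine mem_normalizerIn.2 ⟨hg, ?_⟩
      have hcc : ∀ g ∈ S, ∀ x ∈ centralizerIn S P, g * x * g⁻¹ ∈ centralizerIn S P := by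
        intro g hg x hx
        obtain ⟨hxS, hxc⟩ := mem_centralizerIn.1 hx
        refine mem_centralizerIn.2 ⟨S.mul_mem (S.mul_mem hg hxS) (S.inv_mem hg), fun y hy => ?_⟩
        have h1 : g⁻¹ * y * g ∈ P :=
          (Subgroup.mem_normalizer_iff''.1 (hPnorm g hg) y).1 hy
        have h2 : x * (g⁻¹ * y * g) = (g⁻¹ * y * g) * x := hxc _ h1
        calc g * x * g⁻¹ * y = g * (x * (g⁻¹ * y * g)) * g⁻¹ := by group
          _ = g * ((g⁻¹ * y * g) * x) * g⁻¹ := by rw [h2]
          _ = y * (g * x * g⁻¹) := by group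
      have hmap : ∀ g ∈ S, ∀ x ∈ R, g * x * g⁻¹ ∈ R := by
        intro g hg
        have hle : R ≤ R.comap (MulAut.conj g).toMonoidHom := sup_le
          (fun x hx => Subgroup.mem_sup_left ((Subgroup.mem_normalizer_iff.1 (hPnorm g hg) x).1 hx))
          (fun x hx => Subgroup.mem_sup_right (hcc g hg x hx))
        exact fun x hx => hle hx
      intro x
      refine ⟨hmap g hg x, fun hx => ?_⟩
      have := hmap g⁻¹ (S.inv_mem hg) _ hx
      simpa [mul_assoc] using this
    exact (card_le_of_le (normalizerIn_le Q)).trans (le_of_eq (by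
      rw [le_antisymm (normalizerIn_le R) hN]))
  have hRA : ¬ IsPGroup p (F.autGroup R) := by
    intro hRp
    obtain ⟨α, hα⟩ : ∃ α : F.autGroup P, ∀ k : ℕ, α ^ p ^ k ≠ 1 := by
      simpa [IsPGroup, not_forall] using hPA
    have hrec := isReceptive_of_fc hS hF (isFullyAutomized_and_fc_of_fn hS hF hP).1
    have hφ : P.subtype.comp (α : MulAut P).toMonoidHom ∈ F.Hom P := (mem_autGroup hPS).1 α.2
    have hαr : (P.subtype.comp (α : MulAut P).toMonoidHom).range = P :=
      range_eq_of_card_le hφ hPS (fun x => ((α : MulAut P) x).2) le_rfl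
    obtain ⟨ψ, hψ, hψe⟩ := hrec.2 P _ hφ hαr
    have hRle : R ≤ extender S P (P.subtype.comp (α : MulAut P).toMonoidHom) :=
      sup_le (le_extender hPS (hom_mem hφ)) (centralizerIn_le_extender _)
    have hψR := restrict_mem hψ hRle
    have hPe : ∀ (x : Ω) (hx : x ∈ P) (hx' : x ∈ R),
        ψ (Subgroup.inclusion hRle ⟨x, hx'⟩) = ((α : MulAut P) ⟨x, hx⟩ : Ω) :=
      fun x hx hx' => hψe x hx (hRle hx')
    have hv : ∀ x : R, ψ (Subgroup.inclusion hRle x) ∈ R := by
      have hle : R ≤ (R.comap (ψ.comp (Subgroup.inclusion hRle))).map R.subtype := by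
        refine sup_le (fun x hx => ⟨⟨x, Subgroup.mem_sup_left hx⟩, ?_, rfl⟩)
          (fun x hx => ⟨⟨x, Subgroup.mem_sup_right hx⟩, ?_, rfl⟩)
        · show ψ _ ∈ R
          rw [hPe x hx (Subgroup.mem_sup_left hx)]
          exact Subgroup.mem_sup_left ((α : MulAut P) _).2
        · show ψ _ ∈ R
          refine Subgroup.mem_sup_right (mem_centralizerIn.2 ⟨hom_mem hψR _, fun y hy => ?_⟩)
          have h1 := congrArg Subtype.val ((α : MulAut P).apply_symm_apply ⟨y, hy⟩)
          rw [← hPe _ ((α : MulAut P).symm ⟨y, hy⟩).2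
            (Subgroup.mem_sup_left ((α : MulAut P).symm ⟨y, hy⟩).2)] at h1
          rw [show y = _ from h1.symm]
          simp only [← map_mul]
          refine congrArg ψ (Subtype.ext ?_)
          exact (mem_centralizerIn.1 hx).2 _ ((α : MulAut P).symm ⟨y, hy⟩).2
      intro x
      obtain ⟨x', hx', he⟩ := hle x.2
      obtain rfl : x' = x := Subtype.ext he
      exact hx'
    have hr := range_eq_of_card_le hψR hRS hv le_rfl
    have hβ : homIso hψR hr ∈ F.autGroup R := (mem_autGroup hRS).2 (isoIn_homIso hψR hr)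
    obtain ⟨k, hk⟩ := hRp ⟨_, hβ⟩
    refine hα k (Subtype.ext ?_)
    have hk' : homIso hψR hr ^ p ^ k = 1 := congrArg Subtype.val hk
    have hpow : ∀ (n : ℕ) (x : P), (((homIso hψR hr) ^ n) (Subgroup.inclusion le_sup_left x) : Ω)
        = ((((α : MulAut P)) ^ n) x : Ω) := by
      intro n
      induction n with
      | zero => intro x; rfl
      | succ n ih =>
        intro x
        rw [pow_succ', pow_succ', MulAut.mul_apply, MulAut.mul_apply, coe_homIso]
        have h2 : ((homIso hψR hr ^ n) (Subgroup.inclusion le_sup_left x) : R) =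
            ⟨((((α : MulAut P)) ^ n) x : Ω), Subgroup.mem_sup_left ((((α : MulAut P)) ^ n) x).2⟩ :=
          Subtype.ext (ih x)
        rw [h2]
        exact hPe _ _ _
    refine MulEquiv.ext fun x => Subtype.ext ?_
    rw [Subgroup.coe_pow, ← hpow, hk']
    rfl
  exact ⟨R, hnormal R hRfn hRA, fun x hx => Subgroup.mem_sup_right
    (mem_centralizerIn.2 ⟨(mem_centralizerIn.1 hx).1,
      fun y hy => (mem_centralizerIn.1 hx).2 y (Subgroup.mem_sup_left hy)⟩), hRA⟩

/-- An extremely sparse system is split by one automorphism of prime order. -/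
theorem extremelySparse_split [Finite S] [Fact p.Prime] (hS : IsPGroup p S)
    (hF : F.IsSaturated p) (hxs : IsExtremelySparse F p) :
    F.IsNormal S ∧ F.focalSubgroup = S ∧ F.hyperfocalSubgroup p = S ∧
      ∃ (q : ℕ) (β : MulAut ↥S), q.Prime ∧ q ≠ p ∧ β ∈ F.autGroup S ∧ orderOf β = q ∧
        (F.autGroup S : Subgroup (MulAut ↥S)) = Cfsg.Inn ↥S ⊔ Subgroup.zpowers β := by
  obtain ⟨R, hRn, hRc, hRA⟩ := exists_centric_normal_of_sparse hS hF hxs
  obtain ⟨G, _, ι, hM⟩ := exists_model hS ⟨hF, R, hRn, isCentric_of_isNormal hRn hRc⟩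
  have hM' := hM
  obtain ⟨hfin, hr, ⟨U, hU⟩, -⟩ := hM'
  haveI := hfin
  have hRS := hRn.1
  haveI hXn := imageOf_normal hM hRn
  have hXc := centralizer_imageOf_le hM hRn hRc
  set X := imageOf ι R with hX
  have hXp : IsPGroup p X := by
    refine U.isPGroup'.to_le ?_
    rw [hU]
    intro y hy
    obtain ⟨s, -, rfl⟩ := mem_imageOf.1 hy
    exact ⟨s, rfl⟩
  obtain ⟨q, hq, hqp, hqd⟩ : ∃ q : ℕ, q.Prime ∧ q ≠ p ∧ q ∣ Nat.card G := by
    by_contra hc
    push Not at hc
    refine hRA fun ⟨α, hα⟩ => ?_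
    obtain ⟨g, hg⟩ := exists_of_realized hr ((mem_autGroup hRS).1 hα)
    have hG : IsPGroup p G := by
      refine IsPGroup.of_card (n := (Nat.card G).primeFactorsList.length) ?_
      exact Nat.eq_prime_pow_of_unique_prime_dvd Nat.card_pos.ne' fun {d} hd hdd => by
        by_contra hne
        exact hc d hd hne hdd
    obtain ⟨k, hk⟩ := hG g
    refine ⟨k, Subtype.ext (MulEquiv.ext fun x => ?_)⟩
    have hpow : ∀ (n : ℕ) (x : R), ι ⟨(α ^ n) x, hRS ((α ^ n) x).2⟩
        = g ^ n * ι ⟨x, hRS x.2⟩ * (g ^ n)⁻¹ := by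
      intro n
      induction n with
      | zero => intro x; simp
      | succ n ih =>
        intro x
        have h1 : ι ⟨(α ((α ^ n) x) : R), hRS (α ((α ^ n) x)).2⟩ =
            g * ι ⟨((α ^ n) x : R), hRS ((α ^ n) x).2⟩ * g⁻¹ := hg ((α ^ n) x)
        rw [ih x] at h1
        simp only [pow_succ' α, MulAut.mul_apply]
        rw [h1, pow_succ']
        simp only [mul_inv_rev, mul_assoc]
    have h2 := hpow (p ^ k) x
    rw [hk] at h2
    simp only [one_mul, inv_one, mul_one] at h2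
    exact Subtype.ext (congrArg Subtype.val (hr.1 h2) :)
  haveI := Fact.mk hq
  obtain ⟨x, hx⟩ := exists_prime_orderOf_dvd_card' q hqd
  have hxX : x ∉ X := fun h => by
    obtain ⟨k, hk⟩ := hXp ⟨x, h⟩
    have hd : q ∣ p ^ k := hx ▸ orderOf_dvd_of_pow_eq_one (congrArg Subtype.val hk :)
    exact hqp ((Nat.prime_dvd_prime_iff_eq hq Fact.out).1 (hq.dvd_of_dvd_pow hd))
  set H := X ⊔ Subgroup.zpowers x with hH
  have hHel : ∀ g ∈ H, ∃ t ∈ X, ∃ m : ℕ, g = t * x ^ m := by
    intro g hg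
    have h2 : g ∈ (X : Set G) * (Subgroup.zpowers x : Set G) := by
      rw [← Subgroup.normal_mul]
      exact hg
    obtain ⟨t, ht, y, hy, rfl⟩ := h2
    obtain ⟨m, rfl⟩ := (isOfFinOrder_of_finite x).mem_powers_iff_mem_zpowers.2 hy
    exact ⟨t, ht, m, rfl⟩
  have hidx : ∀ (A : Subgroup G) (K : Subgroup G), A ≤ K →
      (∀ g ∈ K, ∃ t ∈ A, ∃ m : ℕ, g = t * x ^ m) → ¬ p ∣ A.relIndex K := by
    intro A K hAK hel hdvd
    haveI : Finite (K ⧸ A.subgroupOf K) := inferInstance
    have hle : Nat.card (K ⧸ A.subgroupOf K) ∣ q := by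
      by_cases hxK : x ∈ K
      · by_cases hxA : x ∈ A
        · have h1 : A = K := le_antisymm hAK fun g hg => by
            obtain ⟨t, ht, m, rfl⟩ := hel g hg
            exact A.mul_mem ht (A.pow_mem hxA m)
          subst h1
          rw [← Subgroup.index_eq_card, ← Subgroup.relIndex, Subgroup.relIndex_self]
          exact one_dvd q
        · have hmul : Nat.card K ∣ Nat.card A * q := by
            have hKle : K = A ⊔ Subgroup.zpowers x := le_antisymm (fun g hg => by
              obtain ⟨t, ht, m, rfl⟩ := hel g hg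
              exact Subgroup.mul_mem _ (Subgroup.mem_sup_left ht)
                (Subgroup.mem_sup_right (Subgroup.npow_mem_zpowers x m)))
              (sup_le hAK (Subgroup.zpowers_le.2 hxK))
            let f : A × Subgroup.zpowers x → K := fun z =>
              ⟨z.1 * z.2, K.mul_mem (hAK z.1.2) ((Subgroup.zpowers_le.2 hxK) z.2.2)⟩
            have hsurj : Function.Surjective f := fun g => by
              obtain ⟨t, ht, m, he⟩ := hel g g.2
              exact ⟨(⟨t, ht⟩, ⟨x ^ m, Subgroup.npow_mem_zpowers x m⟩), Subtype.ext he.symm⟩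
            have hinj : Function.Injective f := by
              rintro ⟨a, b⟩ ⟨c, d⟩ he
              have h2 : (c : G)⁻¹ * a = d * (b : G)⁻¹ := by
                have := congrArg Subtype.val he
                simp only [f] at this
                rw [eq_mul_inv_iff_mul_eq, mul_assoc, this, inv_mul_cancel_left]
              have h3 : (c : G)⁻¹ * a ∈ A ⊓ Subgroup.zpowers x :=
                ⟨A.mul_mem (A.inv_mem c.2) a.2, h2 ▸ (Subgroup.zpowers x).mul_mem d.2
                  ((Subgroup.zpowers x).inv_mem b.2)⟩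
              have h4 : A ⊓ Subgroup.zpowers x = ⊥ := by
                rw [eq_bot_iff]
                intro z hz
                by_contra hne
                refine hxA ?_
                have hz2 := hz.2
                have hgen : Subgroup.zpowers (⟨z, hz2⟩ : Subgroup.zpowers x) = ⊤ :=
                  zpowers_eq_top_of_prime_card (p := q) (by rw [Nat.card_zpowers, hx])
                    (fun h => hne (congrArg Subtype.val h :))
                obtain ⟨i, hi⟩ := hgen.ge (Subgroup.mem_top (⟨x, Subgroup.mem_zpowers x⟩ :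
                  Subgroup.zpowers x))
                rw [show x = z ^ i from (congrArg Subtype.val hi).symm]
                exact A.zpow_mem hz.1 i
              rw [h4, Subgroup.mem_bot] at h3
              rw [h3] at h2
              exact Prod.ext (Subtype.ext (inv_mul_eq_one.1 h3).symm)
                (Subtype.ext (mul_inv_eq_one.1 h2.symm).symm)
            rw [← Nat.card_eq_of_bijective f ⟨hinj, hsurj⟩, Nat.card_prod, Nat.card_zpowers, hx]
          rw [← Subgroup.index_mul_card (A.subgroupOf K),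
            Nat.card_congr (Subgroup.subgroupOfEquivOfLe hAK).toEquiv, mul_comm (Nat.card A) q] at hmul
          rw [← Subgroup.index_eq_card]
          exact Nat.dvd_of_mul_dvd_mul_right Nat.card_pos hmul
      · have h1 : A = K := le_antisymm hAK fun g hg => by
          obtain ⟨t, ht, m, rfl⟩ := hel g hg
          by_cases hm : x ^ m = 1
          · rw [hm, mul_one]; exact ht
          · exfalso
            apply hxK
            have hmK : x ^ m ∈ K := by
              have := K.mul_mem (K.inv_mem (hAK ht)) hg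
              rwa [inv_mul_cancel_left] at this
            have hgen : Subgroup.zpowers (⟨x ^ m, Subgroup.npow_mem_zpowers x m⟩ :
                Subgroup.zpowers x) = ⊤ :=
              zpowers_eq_top_of_prime_card (p := q) (by rw [Nat.card_zpowers, hx])
                (fun h => hm (congrArg Subtype.val h :))
            obtain ⟨i, hi⟩ := hgen.ge (Subgroup.mem_top (⟨x, Subgroup.mem_zpowers x⟩ :
              Subgroup.zpowers x))
            rw [show x = (x ^ m) ^ i from (congrArg Subtype.val hi).symm]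
            exact K.zpow_mem hmK i
        subst h1
        rw [← Subgroup.index_eq_card, ← Subgroup.relIndex, Subgroup.relIndex_self]
        exact one_dvd q
    rw [← Subgroup.index_eq_card] at hle
    exact hqp ((Nat.prime_dvd_prime_iff_eq Fact.out hq).1 (hdvd.trans hle)).symm
  -- a subgroup normalized by `x` on which it acts nontrivially is everything
  have key : ∀ (T : Subgroup Ω) (hT : T ≤ S),
      (∀ t ∈ imageOf ι T, x * t * x⁻¹ ∈ imageOf ι T) →
      (∃ t ∈ imageOf ι T, x * t * x⁻¹ ≠ t) →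
      T = S ∧ ∀ (P : Subgroup Ω) (φ : P →* Ω), φ ∈ F.Hom P →
        ∃ g ∈ imageOf ι T ⊔ Subgroup.zpowers x, ∀ (u : P) (hu : (u : Ω) ∈ S) (hv : φ u ∈ S),
          ι ⟨φ u, hv⟩ = g * ι ⟨u, hu⟩ * g⁻¹ := by
    intro T hT hnorm ⟨t₀, ht₀, hne⟩
    have hTp : IsPGroup p T := hS.to_le hT
    set A := imageOf ι T with hA
    set K := A ⊔ Subgroup.zpowers x with hK
    have hHT : ∀ t : T, ι (Subgroup.inclusion hT t) ∈ K := fun t =>
      Subgroup.mem_sup_left (mem_imageOf.2 ⟨_, t.2, rfl⟩)
    have hxN : x ∈ Subgroup.normalizer (A : Set G) :=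
      Subgroup.mem_normalizer_fintype (S := (A : Set G)) fun t ht => hnorm t ht
    have hel : ∀ g ∈ K, ∃ t ∈ A, ∃ m : ℕ, g = t * x ^ m := by
      intro g hg
      have h2 : g ∈ (A : Set G) * (Subgroup.zpowers x : Set G) := by
        rw [← Subgroup.coe_mul_of_right_le_normalizer_left A (Subgroup.zpowers x) (Subgroup.zpowers_le.2 hxN)]
        exact hg
      obtain ⟨t, ht, y, hy, rfl⟩ := h2
      obtain ⟨m, rfl⟩ := (isOfFinOrder_of_finite x).mem_powers_iff_mem_zpowers.2 hy
      exact ⟨t, ht, m, rfl⟩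
    have hEs := pullSystem_isSaturated hr K hT hHT hTp (hidx A K le_sup_left hel)
    rcases hxs.2 T _ hEs (pullSystem_le hr K hT hHT) with ⟨hTS, heq⟩ | hin
    · refine ⟨hTS, fun P φ hφ => ?_⟩
      rw [← heq P] at hφ
      exact hφ.2.2
    · exfalso
      have hv : ∀ t : T, x * ι ⟨t, hT t.2⟩ * x⁻¹ ∈ ι.range := fun t => by
        obtain ⟨s, -, hs⟩ := mem_imageOf.1 (hnorm _ (mem_imageOf.2 ⟨⟨(t : Ω), hT t.2⟩, t.2, rfl⟩))
        exact ⟨s, hs⟩
      obtain ⟨φ, hφ, he⟩ := exists_hom_of_realized hr hT x hv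
      have hφT : ∀ t : T, φ t ∈ T := fun t => by
        obtain ⟨s, hs, hse⟩ := mem_imageOf.1 (hnorm _ (mem_imageOf.2 ⟨⟨(t : Ω), hT t.2⟩, t.2, rfl⟩))
        have : s = ⟨φ t, hom_mem hφ t⟩ := hr.1 (hse.trans (he t).symm)
        rw [this] at hs
        exact hs
      have hE : φ ∈ (pullSystem ι hr.1 K hT hHT).Hom T :=
        ⟨le_rfl, hφT, x, Subgroup.mem_sup_right (Subgroup.mem_zpowers x),
          fun t _ _ => he t⟩
      rw [hin T] at hE
      obtain ⟨-, g, hg, hge⟩ := hE
      have hrT := range_eq_of_card_le hφ hT hφT le_rfl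
      have hpow : ∀ (n : ℕ) (t : T), ι ⟨((homIso hφ hrT) ^ n) t, hT (((homIso hφ hrT) ^ n) t).2⟩
          = x ^ n * ι ⟨t, hT t.2⟩ * (x ^ n)⁻¹ := by
        intro n
        induction n with
        | zero => intro t; simp
        | succ n ih =>
          intro t
          have h1 := he ((homIso hφ hrT ^ n) t)
          rw [ih t] at h1
          simp only [pow_succ' (homIso hφ hrT), MulAut.mul_apply]
          refine (congrArg ι (Subtype.ext (coe_homIso hφ hrT _))).trans (h1.trans ?_)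
          rw [pow_succ']
          simp only [mul_inv_rev, mul_assoc]
      have hone : homIso hφ hrT ^ q = 1 := MulEquiv.ext fun t => by
        have h1 := hpow q t
        rw [← hx, pow_orderOf_eq_one, one_mul, inv_one, mul_one, hx] at h1
        exact Subtype.ext (congrArg Subtype.val (hr.1 h1) :)
      obtain ⟨s, hs, rfl⟩ := mem_imageOf.1 ht₀
      apply hne
      have h2 := apply_eq_of_pow_conj hqp hTp hone ⟨g, hg, fun t => hge t⟩ ⟨s, hs⟩
      refine (he ⟨s, hs⟩).symm.trans (congrArg ι (Subtype.ext ?_))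
      exact congrArg (fun z : T => (z : Ω)) h2
  have hXR : ∀ t ∈ X, x * t * x⁻¹ ∈ X := fun t ht => hXn.conj_mem t ht x
  have hXne : ∃ t ∈ X, x * t * x⁻¹ ≠ t := by
    by_contra hc
    push Not at hc
    exact hxX (hXc (Subgroup.mem_centralizer_iff.2 fun t ht =>
      (mul_inv_eq_iff_eq_mul.1 (hc t ht)).symm))
  obtain ⟨hRS', hHom⟩ := key R hRS hXR hXne
  subst R
  have hXι : ∀ s : S, ι s ∈ X := fun s => mem_imageOf.2 ⟨s, s.2, rfl⟩
  obtain ⟨φ, hφ, he⟩ := exists_hom_of_realized hr le_rfl x fun s => by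
    obtain ⟨u, -, hu⟩ := mem_imageOf.1 (hXR _ (hXι ⟨s, s.2⟩))
    exact ⟨u, hu⟩
  have hφS := range_eq_of_card_le hφ le_rfl (hom_mem hφ) le_rfl
  set β := homIso hφ hφS with hβ
  have hβe : ∀ s : S, ι (β s) = x * ι s * x⁻¹ := fun s =>
    (congrArg ι (Subtype.ext (coe_homIso hφ hφS s))).trans (he s)
  have hβpow : ∀ (n : ℕ) (s : S), ι ((β ^ n) s) = x ^ n * ι s * (x ^ n)⁻¹ := by
    intro n
    induction n with
    | zero => intro s; simp
    | succ n ih =>
      intro s
      rw [pow_succ', MulAut.mul_apply, hβe, ih, pow_succ']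
      simp only [mul_inv_rev, mul_assoc]
  have hβmem : β ∈ F.autGroup S := (mem_autGroup le_rfl).2 (isoIn_homIso hφ hφS)
  have hβq : β ^ q = 1 := MulEquiv.ext fun s => hr.1 (by
    rw [hβpow, ← hx, pow_orderOf_eq_one]
    simp)
  have hβne : β ≠ 1 := by
    intro h
    obtain ⟨t, ht, hne⟩ := hXne
    obtain ⟨s, -, rfl⟩ := mem_imageOf.1 ht
    exact hne (by rw [← hβe, h]; rfl)
  have hord : orderOf β = q := orderOf_eq_prime hβq hβne
  refine ⟨hRn, ?_⟩
  have hgen : (F.autGroup S : Subgroup (MulAut ↥S)) = Cfsg.Inn ↥S ⊔ Subgroup.zpowers β := by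
    refine le_antisymm (fun α hα => ?_) (sup_le ?_ (Subgroup.zpowers_le.2 hβmem))
    · obtain ⟨g, hg, hge⟩ := hHom S _ ((mem_autGroup le_rfl).1 hα)
      obtain ⟨t, ht, m, rfl⟩ := hHel g hg
      obtain ⟨s, -, rfl⟩ := mem_imageOf.1 ht
      have e : α = MulAut.conj s * β ^ m := MulEquiv.ext fun u => hr.1 (by
        have h1 : ι (α u) = ι s * x ^ m * ι u * (ι s * x ^ m)⁻¹ := hge u u.2 (α u).2
        rw [h1, MulAut.mul_apply, MulAut.conj_apply, map_mul, map_mul, map_inv, hβpow]
        group)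
      rw [e]
      exact Subgroup.mul_mem _ (Subgroup.mem_sup_left ⟨s, rfl⟩)
        (Subgroup.mem_sup_right (Subgroup.npow_mem_zpowers β m))
    · rintro _ ⟨s, rfl⟩
      exact autInducedBy_le_autGroup le_rfl (mem_autInducedBy.2 ⟨s, s.2, fun u => rfl⟩)
  set T := Subgroup.closure {y | ∃ s : S, y = ((s⁻¹ * β s : S) : Ω)} with hT
  have hTS : T ≤ S := by
    rw [hT, Subgroup.closure_le]
    rintro _ ⟨s, rfl⟩
    exact (s⁻¹ * β s).2
  have hTm : ∀ s : S, ((s⁻¹ * β s : S) : Ω) ∈ T := fun s => Subgroup.subset_closure ⟨s, rfl⟩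
  have hTβ : ∀ s : S, (s : Ω) ∈ T → ((β s : S) : Ω) ∈ T := fun s hs => by
    have := T.mul_mem hs (hTm s)
    simpa using this
  obtain ⟨hTS', -⟩ := key T hTS (fun t ht => by
      obtain ⟨s, hs, rfl⟩ := mem_imageOf.1 ht
      exact mem_imageOf.2 ⟨β s, hTβ s hs, hβe s⟩) (by
      by_contra hc
      push Not at hc
      refine hβne (MulEquiv.ext fun s => ?_)
      set c := s⁻¹ * β s with hcdef
      have hfix : β c = c := hr.1 (by
        rw [hβe]
        exact hc _ (mem_imageOf.2 ⟨c, hTm s, rfl⟩))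
      have hstep : ∀ n : ℕ, (β ^ n) s = s * c ^ n := by
        intro n
        induction n with
        | zero => simp
        | succ n ih =>
          rw [pow_succ', MulAut.mul_apply, ih, map_mul, map_pow, hfix, pow_succ' c, ← mul_assoc,
            hcdef, mul_inv_cancel_left]
      have hcq : c ^ q = 1 := by
        have h1 := hstep q
        rw [hβq, MulAut.one_apply] at h1
        exact mul_eq_left.1 h1.symm
      obtain ⟨k, hk⟩ := hS c
      have h1 : orderOf c ∣ Nat.gcd q (p ^ k) :=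
        Nat.dvd_gcd (orderOf_dvd_of_pow_eq_one hcq) (orderOf_dvd_of_pow_eq_one hk)
      rw [Nat.Coprime.gcd_eq_one (((Nat.coprime_primes hq Fact.out).2 hqp).pow_right k),
        Nat.dvd_one, orderOf_eq_one_iff, hcdef, inv_mul_eq_one] at h1
      exact h1.symm)
  have hle : F.hyperfocalSubgroup p ≤ F.focalSubgroup := by
    unfold FusionSystem.hyperfocalSubgroup FusionSystem.focalSubgroup
    rw [Subgroup.closure_le]
    rintro _ ⟨P, α, u, hP, -, rfl⟩
    exact Subgroup.subset_closure ⟨P, _, u, (mem_autGroup hP).1 α.2, rfl⟩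
  have hfS : F.focalSubgroup ≤ S := by
    unfold FusionSystem.focalSubgroup
    rw [Subgroup.closure_le]
    rintro _ ⟨P, φ, u, hφ', rfl⟩
    exact S.mul_mem (S.inv_mem (hom_le hφ' u.2)) (hom_mem hφ' u)
  have hSh : S ≤ F.hyperfocalSubgroup p := by
    refine hTS'.ge.trans ?_
    rw [hT]
    unfold FusionSystem.hyperfocalSubgroup
    rw [Subgroup.closure_le]
    rintro _ ⟨s, rfl⟩
    refine Subgroup.subset_closure ⟨S, ⟨β, hβmem⟩, s, le_rfl, Subgroup.subset_closure ?_, rfl⟩
    show Nat.Coprime (orderOf (⟨β, hβmem⟩ : F.autGroup S)) p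
    rw [Subgroup.orderOf_mk, hord]
    exact (Nat.coprime_primes hq Fact.out).2 hqp
  exact ⟨le_antisymm hfS (hSh.trans hle), le_antisymm (hle.trans hfS) hSh, q, β, hq, hqp, hβmem,
    hord, hgen⟩

end Cfsg.Lib.FusionSys
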