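import Cfsg.Agent.Lib.Coprime.Generation
import Cfsg.Agent.Lib.Coprime.Conjugacy
import Cfsg.Agent.Lib.FusionSys.NormalizerModel

/-!
Failure of factorization for `p = 2` over a group of odd order: a section isomorphic to the symmetric
group on four letters.
-/

set_option autoImplicit false
set_option linter.style.haveILetI false

universe u

namespace Cfsg.Lib.FusionSys

open Cfsg

section Module

variable {V : Type u} [Group V]

/-- The fixed points of a set of automorphisms. -/
def fixedOf (B : Set (MulAut V)) : Subgroup V where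
  carrier := {v | ∀ b ∈ B, b v = v}
  one_mem' := fun b _ => map_one b
  mul_mem' := fun {x y} hx hy b hb => by rw [map_mul, hx b hb, hy b hb]
  inv_mem' := fun {x} hx b hb => by rw [map_inv, hx b hb]

theorem eq_one_of_fix_fixed [Finite V] (hc : ∀ a b : V, a * b = b * a) (h2 : ∀ v : V, v * v = 1)
    {y : MulAut V} {m : ℕ} (hm : Odd m) (hy : y ^ m = 1) :
    ∀ B : Finset (MulAut V), (∀ b ∈ B, b * b = 1 ∧ y * b = b * y) →
      (∀ b ∈ B, ∀ b' ∈ B, b * b' = b' * b) →
      (∀ v ∈ fixedOf (B : Set (MulAut V)), y v = v) → y = 1 := by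
  classical
  intro B
  induction B using Finset.induction_on with
  | empty =>
    intro _ _ hfix
    exact MulEquiv.ext fun v => hfix v fun b hb => absurd hb (by simp)
  | @insert b B _ ih =>
    intro hB hcom hfix
    refine ih (fun b' hb' => hB b' (Finset.mem_insert_of_mem hb'))
      (fun a ha a' ha' => hcom a (Finset.mem_insert_of_mem ha) a' (Finset.mem_insert_of_mem ha'))
      fun v hv => ?_
    have hbb := (hB b (Finset.mem_insert_self b B)).1
    have hyb := (hB b (Finset.mem_insert_self b B)).2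
    have hinB : ∀ b' ∈ B, b' v = v := hv
    have hbbv : ∀ x, b (b x) = x := fun x => by rw [← MulAut.mul_apply, hbb, MulAut.one_apply]
    have hw : y (v * b v) = v * b v := hfix _ (by
      intro a ha
      rcases Finset.mem_insert.1 (Finset.mem_coe.1 ha) with rfl | ha
      · rw [map_mul, hbbv, hc]
      · rw [map_mul, hinB a ha, ← MulAut.mul_apply,
          hcom a (Finset.mem_insert_of_mem ha) b (Finset.mem_insert_self b B), MulAut.mul_apply,
          hinB a ha])
    set d := v * y v with hd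
    have hybv : y (b v) = b (y v) := by rw [← MulAut.mul_apply, hyb, MulAut.mul_apply]
    have hdb : b d = d := by
      have h1 : y v * b (y v) = v * b v := by rw [← hybv, ← map_mul, hw]
      rw [hd, map_mul]
      calc b v * b (y v) = v * v * b v * b (y v) := by rw [h2, one_mul]
        _ = v * (v * b v) * b (y v) := by rw [mul_assoc v v]
        _ = v * (y v * b (y v)) * b (y v) := by rw [h1]
        _ = v * y v := by simp only [mul_assoc, h2, mul_one]
    have hdy : y d = d := hfix _ (by
      intro a ha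
      rcases Finset.mem_insert.1 (Finset.mem_coe.1 ha) with rfl | ha
      · exact hdb
      · rw [hd, map_mul, hinB a ha, ← MulAut.mul_apply,
          ← (hB a (Finset.mem_insert_of_mem ha)).2, MulAut.mul_apply, hinB a ha])
    have hyv : y v = v * d := by rw [hd, ← mul_assoc, h2, one_mul]
    have hpow : ∀ n : ℕ, (y ^ n) v = v * d ^ n := by
      intro n
      induction n with
      | zero => simp
      | succ n ihn =>
        rw [pow_succ', MulAut.mul_apply, ihn, map_mul, map_pow, hdy, hyv, pow_succ', mul_assoc]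
    have hdm : d ^ m = 1 := by
      have h3 := hpow m
      rw [hy, MulAut.one_apply] at h3
      exact mul_eq_left.1 h3.symm
    obtain ⟨j, rfl⟩ := hm
    rw [pow_succ, pow_mul, pow_two, h2, one_pow, one_mul] at hdm
    rw [hyv, hdm, mul_one]

theorem exists_pow_odd (A : Subgroup (MulAut V)) (hA : ¬ 2 ∣ Nat.card A) {y : MulAut V}
    (hy : y ∈ A) : Odd (Nat.card A) ∧ y ^ Nat.card A = 1 :=
  ⟨Nat.odd_iff.2 (Nat.two_dvd_ne_zero.1 hA),
    congrArg Subtype.val (pow_card_eq_one' (x := (⟨y, hy⟩ : A)))⟩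

/-- An offender on an elementary abelian `2`-group acting faithfully on a group of odd order
contains an involution generating with one of its conjugates a dihedral group of order six. -/
theorem exists_order_three [Finite V] (hc : ∀ a b : V, a * b = b * a) (h2 : ∀ v : V, v * v = 1)
    (A K : Subgroup (MulAut V)) (hAc : ∀ a ∈ A, ∀ a' ∈ A, a * a' = a' * a)
    (hA2 : ∀ a ∈ A, a * a = 1) (hne : A ≠ ⊥)
    (hKA : A ≤ Subgroup.normalizer (K : Set (MulAut V))) (hK : ¬ 2 ∣ Nat.card K)
    (hfaith : ∀ a ∈ A, (∀ k ∈ K, a * k = k * a) → a = 1)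
    (hoff : Nat.card V ≤ Nat.card A * Nat.card (fixedOf (A : Set (MulAut V)))) :
    ∃ b ∈ A, ∃ k ∈ K, b * (k * b * k⁻¹) ≠ 1 ∧ (b * (k * b * k⁻¹)) ^ 3 = 1 := by
  classical
  haveI : Finite (MulAut V) := Finite.of_injective (fun f : MulAut V => (f : V → V))
    DFunLike.coe_injective
  let m : Subgroup (MulAut V) → ℕ := fun B => Nat.card B * Nat.card (fixedOf (B : Set (MulAut V)))
  obtain ⟨B, ⟨hBA, hBne⟩, hmax⟩ := (Set.toFinite {B : Subgroup (MulAut V) | B ≤ A ∧ B ≠ ⊥}).exists_maximalFor
    (fun B => m B * (Nat.card (MulAut V) + 1) + (Nat.card (MulAut V) - Nat.card B)) _ ⟨A, le_rfl, hne⟩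
  have hcardB : ∀ C : Subgroup (MulAut V), Nat.card C ≤ Nat.card (MulAut V) := fun C =>
    Nat.card_le_card_of_injective _ C.subtype_injective
  have hkey : ∀ C, C ≤ A → C ≠ ⊥ → m C ≤ m B ∧ (Nat.card C < Nat.card B → m C < m B) := by
    intro C h1 h2'
    have hC := hcardB C
    have hB' := hcardB B
    have h := le_or_gt (m B * (Nat.card (MulAut V) + 1) + (Nat.card (MulAut V) - Nat.card B))
      (m C * (Nat.card (MulAut V) + 1) + (Nat.card (MulAut V) - Nat.card C))
    have h' : m C * (Nat.card (MulAut V) + 1) + (Nat.card (MulAut V) - Nat.card C) ≤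
        m B * (Nat.card (MulAut V) + 1) + (Nat.card (MulAut V) - Nat.card B) :=
      h.elim (fun h => hmax ⟨h1, h2'⟩ h) le_of_lt
    refine ⟨?_, fun hlt => ?_⟩
    · by_contra hgt
      push Not at hgt
      have := Nat.mul_le_mul_right (Nat.card (MulAut V) + 1) hgt
      rw [Nat.succ_mul] at this
      omega
    · by_contra hge
      push Not at hge
      have := Nat.mul_le_mul_right (Nat.card (MulAut V) + 1) hge
      omega
  have hmB : Nat.card V ≤ m B := hoff.trans (hkey A le_rfl hne).1
  by_cases hone : ∃ b : MulAut V, b ∈ B ∧ B ≤ Subgroup.zpowers b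
  · obtain ⟨b, hbB, hBle⟩ := hone
    have hB2 : Nat.card B ≤ 2 := by
      refine (Subgroup.card_le_of_le hBle).trans ?_
      rw [Nat.card_zpowers]
      exact Nat.le_of_dvd two_pos (orderOf_dvd_of_pow_eq_one (by rw [pow_two]; exact hA2 b (hBA hbB)))
    have hb2 := hA2 b (hBA hbB)
    have hb1 : b ≠ 1 := fun h => hBne (le_bot_iff.1 (hBle.trans (by simp [h])))
    obtain ⟨k, hkK, hk⟩ : ∃ k ∈ K, b * k ≠ k * b := by
      by_contra hh
      push Not at hh
      exact hb1 (hfaith b (hBA hbB) hh)
    set Cb := fixedOf (B : Set (MulAut V)) with hCb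
    have hCbc : Nat.card V ≤ 2 * Nat.card Cb := hmB.trans (Nat.mul_le_mul_right _ hB2)
    have hCb_fix : ∀ v ∈ Cb, b v = v := fun v hv => hv b hbB
    refine ⟨b, hBA hbB, k, hkK, fun h => hk ?_, ?_⟩
    · have h3 : k * b * k⁻¹ = b := by rw [← inv_eq_of_mul_eq_one_right h, inv_eq_of_mul_eq_one_right hb2]
      calc b * k = k * b * k⁻¹ * k := by rw [h3]
        _ = k * b := by group
    set y := b * (k * b * k⁻¹) with hy
    have hyK : y ∈ K := by
      have h1 : b * k * b⁻¹ ∈ K := (Subgroup.mem_normalizer_iff.1 (hKA (hBA hbB)) k).1 hkK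
      have h3 : y = (b * k * b⁻¹) * k⁻¹ := by
        rw [hy, inv_eq_of_mul_eq_one_right hb2]
        group
      rw [h3]
      exact K.mul_mem h1 (K.inv_mem hkK)
    obtain ⟨hodd, hyord⟩ := exists_pow_odd K hK hyK
    set C' := Cb.map k.toMonoidHom with hC'
    set E := Cb ⊓ C' with hE
    have hEfix : ∀ v ∈ E, y v = v := by
      rintro v ⟨hv, w, hw, rfl⟩
      show b (k (b (k⁻¹ (k w)))) = k w
      rw [MulAut.inv_apply_self, hCb_fix w hw]
      exact hCb_fix _ hv
    have hidx : E.index ≤ 4 := by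
      have hi : Cb.index ≤ 2 := by
        have h1 := Cb.card_mul_index
        have h3 : 0 < Nat.card Cb := Nat.card_pos
        by_contra hlt
        push Not at hlt
        nlinarith
      have hi' : C'.index ≤ 2 := by
        rw [hC', show Cb.map k.toMonoidHom = Cb.comap k.symm.toMonoidHom from
          Subgroup.map_equiv_eq_comap_symm k Cb, Subgroup.index_comap_of_surjective _ k.symm.surjective]
        exact hi
      exact (Subgroup.index_inf_le).trans (Nat.mul_le_mul hi hi')
    haveI hEn : E.Normal := ⟨fun x hx g => by rw [hc g x, mul_inv_cancel_right]; exact hx⟩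
    have hmap : E ≤ E.comap y.toMonoidHom := fun v hv => by
      show y v ∈ E
      rw [hEfix v hv]; exact hv
    let yb : V ⧸ E →* V ⧸ E := QuotientGroup.map E E y.toMonoidHom hmap
    have hyb : ∀ (n : ℕ) (v : V), yb^[n] (QuotientGroup.mk v) = QuotientGroup.mk ((y ^ n) v) := by
      intro n
      induction n with
      | zero => intro v; rfl
      | succ n ihn =>
        intro v
        rw [Function.iterate_succ_apply', ihn, pow_succ', MulAut.mul_apply]
        rfl
    have hqb : Function.Injective yb := by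
      have hbij : Function.Injective (yb^[Nat.card K]) := by
        intro a a' h
        obtain ⟨v, rfl⟩ := QuotientGroup.mk_surjective a
        obtain ⟨v', rfl⟩ := QuotientGroup.mk_surjective a'
        rwa [hyb, hyb, hyord, MulAut.one_apply, MulAut.one_apply] at h
      intro a a' h
      apply hbij
      obtain ⟨n, hn⟩ := Nat.exists_eq_succ_of_ne_zero (Nat.card_pos (α := K)).ne'
      rw [hn, Function.iterate_succ_apply, Function.iterate_succ_apply, h]
    let σ : Equiv.Perm (V ⧸ E) := Equiv.ofBijective yb (Finite.injective_iff_bijective.1 hqb)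
    have hσn : ∀ (n : ℕ) (a : V ⧸ E), (σ ^ n) a = yb^[n] a := by
      intro n a
      rw [← Equiv.Perm.iterate_eq_pow]
      rfl
    have hσodd : σ ^ Nat.card K = 1 := Equiv.ext fun a => by
      obtain ⟨v, rfl⟩ := QuotientGroup.mk_surjective a
      rw [hσn, hyb, hyord]
      rfl
    have hσfix : σ 1 = 1 := map_one yb
    have hcard : Nat.card (V ⧸ E) ≤ 4 := hidx
    have hσ3 : σ ^ 3 = 1 := by
      have hdvd : orderOf σ ∣ Nat.card K := orderOf_dvd_of_pow_eq_one hσodd
      let s : Equiv.Perm {a : V ⧸ E // a ≠ 1} := σ.subtypePerm fun a => by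
        constructor
        · intro h h'
          exact h (by rw [h', hσfix])
        · intro h h'
          exact h (σ.injective (h'.trans hσfix.symm))
      have hos : orderOf s = orderOf σ := by
        refine orderOf_eq_orderOf_iff.2 fun n => ?_
        constructor
        · intro h
          refine Equiv.ext fun a => ?_
          by_cases ha : a = 1
          · subst ha
            exact Equiv.Perm.pow_apply_eq_self_of_apply_eq_self hσfix n
          · have h4 := congrArg (fun t : Equiv.Perm _ => ((t ⟨a, ha⟩ : {a : V ⧸ E // a ≠ 1}) : V ⧸ E)) h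
            simp only [s, Equiv.Perm.subtypePerm_pow, Equiv.Perm.subtypePerm_apply,
              Equiv.Perm.coe_one, id_eq] at h4
            exact h4
        · intro h
          refine Equiv.ext fun a => Subtype.ext ?_
          simp [s, Equiv.Perm.subtypePerm_pow, h]
      have h6 : orderOf s ∣ 6 := by
        haveI := Fintype.ofFinite (V ⧸ E)
        have h7 : orderOf s ∣ Nat.card (Equiv.Perm {a : V ⧸ E // a ≠ 1}) := orderOf_dvd_natCard s
        rw [Nat.card_perm] at h7
        refine h7.trans (Nat.factorial_dvd_factorial (n := 3) ?_)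
        rw [Nat.card_eq_fintype_card, Fintype.card_subtype_compl, Fintype.card_subtype_eq,
          ← Nat.card_eq_fintype_card]
        omega
      rw [hos] at h6
      refine orderOf_dvd_iff_pow_eq_one.1 ?_
      have hcop : (orderOf σ).Coprime 2 :=
        Nat.Coprime.coprime_dvd_left hdvd (Nat.coprime_two_right.2 hodd)
      exact hcop.dvd_of_dvd_mul_left h6
    set z := y ^ 3 with hz
    have hzord : z ^ Nat.card K = 1 := by rw [hz, ← pow_mul, mul_comm, pow_mul, hyord, one_pow]
    refine MulEquiv.ext fun v => ?_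
    have hzE : ∀ e ∈ E, z e = e := fun e he => by
      simp only [hz, pow_succ, pow_zero, one_mul, MulAut.mul_apply, hEfix e he]
    set d := v⁻¹ * z v with hd
    have hdE : d ∈ E := by
      rw [hd, ← QuotientGroup.eq, hz, ← hyb 3 v, ← hσn, hσ3]
      rfl
    have hzd : z d = d := hzE d hdE
    have hzv : z v = v * d := (mul_inv_cancel_left v (z v)).symm
    have hpow : ∀ n : ℕ, (z ^ n) v = v * d ^ n := by
      intro n
      induction n with
      | zero => simp
      | succ n ihn =>
        rw [pow_succ', MulAut.mul_apply, ihn, map_mul, map_pow, hzd, hzv, pow_succ', mul_assoc]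
    have h5 := hpow (Nat.card K)
    rw [hzord, MulAut.one_apply] at h5
    obtain ⟨j, hj⟩ := hodd
    rw [hj, pow_succ, pow_mul, pow_two, h2, one_pow, one_mul] at h5
    show z v = v
    rw [hzv]
    exact h5.symm
  · exfalso
    push Not at hone
    haveI : IsMulCommutative B := ⟨⟨fun a a' => Subtype.ext (hAc _ (hBA a.2) _ (hBA a'.2))⟩⟩
    have hKB : B ≤ Subgroup.normalizer (K : Set (MulAut V)) := hBA.trans hKA
    have hBp : IsPGroup 2 B := fun a => ⟨1, Subtype.ext (by
      show (a : MulAut V) ^ 2 ^ 1 = 1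
      rw [pow_one, pow_two]; exact hA2 _ (hBA a.2))⟩
    have hcop : (Nat.card B).Coprime (Nat.card K) := by
      obtain ⟨j, hj⟩ := IsPGroup.iff_card.1 hBp
      rw [hj]
      exact ((Nat.prime_two.coprime_iff_not_dvd).2 hK).pow_left j
    have hKcent : K ≤ Subgroup.centralizer (B : Set (MulAut V)) := by
      refine (Cfsg.Lib.Coprime.le_iSup_centralizer_cocyclic K hKB hcop).trans (iSup₂_le ?_)
      rintro B₀ ⟨hB₀B, a, haB, hB₀a⟩
      rintro u ⟨huK, huB₀⟩
      by_cases hB₀eq : B₀ = B
      · rw [← hB₀eq]; exact huB₀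
      have hB₀ne : B₀ ≠ ⊥ := fun h => hone a haB (by rw [← hB₀a, h, bot_sup_eq])
      have hlt : Nat.card B₀ < Nat.card B :=
        lt_of_le_of_ne (Subgroup.card_le_of_le hB₀B) fun he =>
          hB₀eq (Subgroup.eq_of_le_of_card_ge hB₀B he.ge)
      have hmlt := (hkey B₀ (hB₀B.trans hBA) hB₀ne).2 hlt
      have hfixeq : fixedOf (B₀ : Set (MulAut V)) = fixedOf (B : Set (MulAut V)) := by
        have hle : fixedOf (B : Set (MulAut V)) ≤ fixedOf (B₀ : Set (MulAut V)) :=
          fun v hv b hb => hv b (hB₀B hb)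
        have hdvd := Subgroup.card_dvd_of_le hle
        obtain ⟨c, hc'⟩ := hdvd
        have hB2 : Nat.card B ≤ 2 * Nat.card B₀ := by
          haveI hn : (Subgroup.zpowers a).Normal → True := fun _ => trivial
          have ha2 : Nat.card (Subgroup.zpowers a) ≤ 2 := by
            rw [Nat.card_zpowers]
            exact Nat.le_of_dvd two_pos
              (orderOf_dvd_of_pow_eq_one (by rw [pow_two]; exact hA2 a (hBA haB)))
          have hnorm : B₀ ≤ Subgroup.normalizer (Subgroup.zpowers a : Set (MulAut V)) := by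
            intro x hx
            rw [Subgroup.mem_normalizer_iff_map_conj_eq, MonoidHom.map_zpowers]
            congr 1
            show x * a * x⁻¹ = a
            rw [hAc x (hBA (hB₀B hx)) a (hBA haB), mul_inv_cancel_right]
          calc Nat.card B = Nat.card ↥(Subgroup.zpowers a ⊔ B₀) := by rw [sup_comm, hB₀a]
            _ ≤ Nat.card (Subgroup.zpowers a) * Nat.card B₀ := by
                rw [← Nat.card_prod]
                refine Nat.card_le_card_of_surjective
                  (fun z => (⟨(z.1 : MulAut V) * z.2, Subgroup.mul_mem _ (Subgroup.mem_sup_left z.1.2)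
                    (Subgroup.mem_sup_right z.2.2)⟩ : ↥(Subgroup.zpowers a ⊔ B₀))) ?_
                rintro ⟨x, hx⟩
                obtain ⟨n, hn, q, hq, rfl⟩ := Cfsg.Lib.Coprime.exists_mul_of_mem_sup hnorm hx
                exact ⟨(⟨n, hn⟩, ⟨q, hq⟩), rfl⟩
            _ ≤ 2 * Nat.card B₀ := Nat.mul_le_mul_right _ ha2
        refine (Subgroup.eq_of_le_of_card_ge hle ?_).symm
        by_contra hgt
        push Not at hgt
        rw [hc'] at hgt
        have hc2 : 2 ≤ c := by
          by_contra hc1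
          interval_cases c <;> omega
        have : m B ≤ m B₀ := by
          show Nat.card B * _ ≤ Nat.card B₀ * _
          rw [hc']
          calc Nat.card B * Nat.card (fixedOf (B : Set (MulAut V)))
              ≤ 2 * Nat.card B₀ * Nat.card (fixedOf (B : Set (MulAut V))) :=
                Nat.mul_le_mul_right _ hB2
            _ ≤ c * Nat.card B₀ * Nat.card (fixedOf (B : Set (MulAut V))) := by gcongr
            _ = _ := by ring
        omega
      rw [Subgroup.mem_centralizer_iff]
      intro b hb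
      -- the commutator of `u` and `b` fixes the fixed points of `B₀`
      set w := b * u * b⁻¹ * u⁻¹ with hw
      have hwK : w ∈ K := K.mul_mem ((Subgroup.mem_normalizer_iff.1 (hKB hb) u).1 huK) (K.inv_mem huK)
      have hcomm : ∀ x ∈ B₀, Commute u x := fun x hx =>
        (Subgroup.mem_centralizer_iff.1 huB₀ x hx).symm
      have hbx : ∀ x ∈ B₀, Commute b x := fun x hx => hAc b (hBA hb) x (hBA (hB₀B hx))
      have hwc : ∀ x ∈ B₀, Commute w x := fun x hx =>
        (((hbx x hx).mul_left (hcomm x hx)).mul_left (hbx x hx).inv_left).mul_left (hcomm x hx).inv_left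
      have hwfix : ∀ v ∈ fixedOf (B₀ : Set (MulAut V)), w v = v := by
        intro v hv
        have hbv : ∀ z ∈ fixedOf (B₀ : Set (MulAut V)), b z = z := fun z hz => (hfixeq ▸ hz) b hb
        have hu : ∀ z ∈ fixedOf (B₀ : Set (MulAut V)), u⁻¹ z ∈ fixedOf (B₀ : Set (MulAut V)) := by
          intro z hz x hx
          rw [← MulAut.mul_apply, (hcomm x hx).inv_left.symm.eq, MulAut.mul_apply, hz x hx]
        show b (u (b⁻¹ (u⁻¹ v))) = v
        have h1 : b⁻¹ (u⁻¹ v) = u⁻¹ v := by
          conv_lhs => rw [← hbv _ (hu v hv)]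
          exact MulAut.inv_apply_self _ b _
        rw [h1, MulAut.apply_inv_self]
        exact hbv v hv
      obtain ⟨hodd, hwm⟩ := exists_pow_odd K hK hwK
      haveI := Fintype.ofFinite (MulAut V)
      have hw1 : w = 1 := eq_one_of_fix_fixed hc h2 hodd hwm ((B₀ : Set (MulAut V)).toFinset)
        (fun x hx => ⟨hA2 x (hBA (hB₀B (Set.mem_toFinset.1 hx))), (hwc x (Set.mem_toFinset.1 hx)).eq⟩)
        (fun x hx x' hx' => hAc x (hBA (hB₀B (Set.mem_toFinset.1 hx))) x'
          (hBA (hB₀B (Set.mem_toFinset.1 hx'))))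
        (fun v hv => hwfix v fun x hx => hv x (Finset.mem_coe.2 (Set.mem_toFinset.2 hx)))
      calc b * u = w * (u * b) := by rw [hw]; group
        _ = u * b := by rw [hw1, one_mul]
    refine hBne ((Subgroup.eq_bot_iff_forall _).2 fun b hb => hfaith b (hBA hb) fun k hk => ?_)
    exact Subgroup.mem_centralizer_iff.1 (hKcent hk) b hb

end Module

theorem exists_pow_of_mem_zpowers {G : Type*} [Group G] [Finite G] {a x : G}
    (hx : x ∈ Subgroup.zpowers a) : ∃ i < orderOf a, a ^ i = x := by
  obtain ⟨n, rfl⟩ := Subgroup.mem_zpowers_iff.1 hx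
  have hpos : (0 : ℤ) < orderOf a := by exact_mod_cast orderOf_pos a
  refine ⟨(n % orderOf a).toNat, ?_, ?_⟩
  · have := Int.emod_lt_of_pos n hpos
    have := Int.emod_nonneg n hpos.ne'
    omega
  · rw [← zpow_natCast, Int.toNat_of_nonneg (Int.emod_nonneg n hpos.ne'), zpow_mod_orderOf]

theorem nat_card_perm_four : Nat.card (Equiv.Perm (Fin 4)) = 24 := by
  rw [Nat.card_perm, Nat.card_fin]
  rfl

/-- An involution and a conjugate whose product acts with order three on an elementary abelian
normal `2`-subgroup give a section isomorphic to the symmetric group on four letters. -/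
theorem involves_perm_four {L : Type u} [Group L] [Finite L] (V : Subgroup L) (hVn : V.Normal)
    (hVc : ∀ a ∈ V, ∀ b ∈ V, a * b = b * a) (hV2 : ∀ v ∈ V, v * v = 1)
    (hC : IsPGroup 2 (Subgroup.centralizer (V : Set L))) (b k : L) (hb : b * b = 1)
    (hy1 : b * (k * b * k⁻¹) ∉ Subgroup.centralizer (V : Set L))
    (hy3 : (b * (k * b * k⁻¹)) ^ 3 ∈ Subgroup.centralizer (V : Set L)) :
    Involves (Equiv.Perm (Fin 4)) L := by
  classical
  set y₀ := b * (k * b * k⁻¹) with hy₀
  obtain ⟨i, m, hm, hord⟩ := Nat.exists_eq_pow_mul_and_not_dvd (orderOf_pos y₀).ne' 2 (by norm_num)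
  set y := y₀ ^ 2 ^ i with hy
  have hym : y ^ m = 1 := by rw [hy, ← pow_mul, ← hord, pow_orderOf_eq_one]
  have hy3' : y ^ 3 = 1 := by
    have hmem : y ^ 3 ∈ Subgroup.centralizer (V : Set L) := by
      rw [hy, ← pow_mul, mul_comm, pow_mul]
      exact Subgroup.pow_mem _ hy3 _
    obtain ⟨j, hj⟩ := hC ⟨_, hmem⟩
    have hj' : (y ^ 3) ^ 2 ^ j = 1 := congrArg Subtype.val hj
    have hm' : (y ^ 3) ^ m = 1 := by rw [← pow_mul, mul_comm, pow_mul, hym, one_pow]
    have hcop : Nat.Coprime (2 ^ j) m := ((Nat.prime_two.coprime_iff_not_dvd).2 hm).pow_left j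
    exact orderOf_eq_one_iff.1 (Nat.eq_one_of_dvd_coprimes hcop (orderOf_dvd_of_pow_eq_one hj')
      (orderOf_dvd_of_pow_eq_one hm'))
  have hyC : y ∉ Subgroup.centralizer (V : Set L) := by
    intro h
    refine hy1 ?_
    have hcop : Nat.Coprime (2 ^ i) 3 := (by norm_num : Nat.Coprime 2 3).pow_left i
    obtain ⟨u, hu⟩ : ∃ u : ℤ, ∃ v : ℤ, ((2 ^ i : ℕ) : ℤ) * u + 3 * v = 1 :=
      ⟨_, Nat.gcdB (2 ^ i) 3 |>.cast, by
        have := Nat.gcd_eq_gcd_ab (2 ^ i) 3
        rw [hcop.gcd_eq_one] at this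
        exact this.symm⟩
    obtain ⟨v, hv⟩ := hu
    have : y₀ = y ^ u * (y₀ ^ 3) ^ v := by
      conv_lhs => rw [← zpow_one y₀, ← hv]
      rw [zpow_add, zpow_mul, zpow_mul, zpow_natCast, zpow_ofNat]
    rw [this]
    exact Subgroup.mul_mem _ (Subgroup.zpow_mem _ h _) (Subgroup.zpow_mem _ hy3 _)
  have hy1' : y ≠ 1 := fun h => hyC (h ▸ Subgroup.one_mem _)
  have hbi : b⁻¹ = b := inv_eq_of_mul_eq_one_right hb
  have hby₀ : b * y₀ * b⁻¹ = y₀⁻¹ := by
    rw [hy₀, mul_inv_rev, mul_inv_rev, mul_inv_rev, inv_inv, hbi, ← mul_assoc b b, hb, one_mul]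
    simp [mul_assoc]
  have hby : b * y * b⁻¹ = y⁻¹ := by rw [hy, ← conj_pow, hby₀, inv_pow]
  have hyy : y⁻¹ = y ^ 2 := by
    rw [inv_eq_of_mul_eq_one_right]
    rw [← pow_succ', hy3']
  -- the sum of an orbit is fixed, so a vector with trivial orbit product
  obtain ⟨c, hcdef⟩ : ∃ c : L → L → L, ∀ g v, c g v = g * v * g⁻¹ := ⟨_, fun _ _ => rfl⟩
  have hconjV : ∀ (g : L) v, v ∈ V → c g v ∈ V := fun g v hv => by
    rw [hcdef]; exact hVn.conj_mem v hv g
  have hcmul : ∀ g g' v, c (g * g') v = c g (c g' v) := fun g g' v => by simp [hcdef, mul_assoc]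
  have hcv : ∀ g a a', c g (a * a') = c g a * c g a' := fun g a a' => by simp [hcdef, mul_assoc]
  have hc1 : ∀ v, c 1 v = v := fun v => by simp [hcdef]
  let T : L → Prop := fun v => v ∈ V ∧ v * c y v * c (y ^ 2) v = 1
  obtain ⟨w₀, hw₀, hw₀1⟩ : ∃ w, T w ∧ w ≠ 1 := by
    obtain ⟨v, hv, hvne⟩ : ∃ v ∈ V, c y v ≠ v := by
      by_contra hh
      push Not at hh
      refine hyC (Subgroup.mem_centralizer_iff.2 fun v hv => ?_)
      exact (eq_mul_inv_iff_mul_eq.1 ((hcdef y v).symm.trans (hh v hv)).symm)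
    refine ⟨v * c y v, ⟨V.mul_mem hv (hconjV y v hv), ?_⟩, fun h => hvne ?_⟩
    · have hy3v : c (y ^ 2) (c y v) = v := by
        rw [← hcmul, ← pow_succ, hy3', hc1]
      rw [hcv, hcv, ← hcmul y y, ← pow_two, hy3v]
      have h1 := hconjV y v hv
      have h2' := hconjV (y ^ 2) v hv
      calc v * c y v * (c y v * c (y ^ 2) v) * (c (y ^ 2) v * v)
          = v * (c y v * c y v) * (c (y ^ 2) v * c (y ^ 2) v) * v := by simp only [mul_assoc]
        _ = 1 := by rw [hV2 _ h1, hV2 _ h2', mul_one, mul_one, hV2 v hv]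
    · calc c y v = v * v * c y v := by rw [hV2 v hv, one_mul]
        _ = v := by rw [mul_assoc, h, mul_one]
  have hTb : ∀ v, T v → T (c b v) := by
    rintro v ⟨hv, he⟩
    refine ⟨hconjV b v hv, ?_⟩
    have h1 : y * b = b * y ^ 2 := by
      have h3 : b * y ^ 2 * b⁻¹ = y := by
        have h4 : b * y⁻¹ * b⁻¹ = (b * y * b⁻¹)⁻¹ := by group
        rw [← hyy, h4, hby, inv_inv]
      calc y * b = b * y ^ 2 * b⁻¹ * b := by rw [h3]
        _ = b * y ^ 2 := by group
    have h2' : y ^ 2 * b = b * y := by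
      have h3 : b * y * b⁻¹ = y ^ 2 := by rw [hby, hyy]
      calc y ^ 2 * b = b * y * b⁻¹ * b := by rw [h3]
        _ = b * y := by group
    rw [← hcmul, ← hcmul, h1, h2', hcmul, hcmul, ← hcv, ← hcv]
    have : v * c (y ^ 2) v * c y v = 1 := by
      rw [mul_assoc, hVc _ (hconjV _ v hv) _ (hconjV _ v hv), ← mul_assoc]
      exact he
    rw [this, hcdef]
    simp
  obtain ⟨w, hw, hw1, hbw⟩ : ∃ w, T w ∧ w ≠ 1 ∧ c b w = w := by
    by_cases hfix : c b w₀ = w₀
    · exact ⟨w₀, hw₀, hw₀1, hfix⟩
    have hb2 : c b (c b w₀) = w₀ := by rw [← hcmul, hb, hc1]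
    have hbw₀ := hTb w₀ hw₀
    refine ⟨w₀ * c b w₀, ⟨V.mul_mem hw₀.1 hbw₀.1, ?_⟩, fun h => hfix ?_, ?_⟩
    · rw [hcv, hcv]
      have e1 := hconjV y _ hw₀.1
      have e2 := hconjV y _ hbw₀.1
      have e3 := hconjV (y ^ 2) _ hw₀.1
      calc w₀ * c b w₀ * (c y w₀ * c y (c b w₀)) * (c (y ^ 2) w₀ * c (y ^ 2) (c b w₀))
          = w₀ * (c b w₀ * c y w₀) * (c y (c b w₀) * c (y ^ 2) w₀) * c (y ^ 2) (c b w₀) := by
            simp only [mul_assoc]
        _ = w₀ * (c y w₀ * c b w₀) * (c (y ^ 2) w₀ * c y (c b w₀)) * c (y ^ 2) (c b w₀) := by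
            rw [hVc _ hbw₀.1 _ e1, hVc _ e2 _ e3]
        _ = w₀ * c y w₀ * (c b w₀ * c (y ^ 2) w₀) * (c y (c b w₀) * c (y ^ 2) (c b w₀)) := by
            simp only [mul_assoc]
        _ = (w₀ * c y w₀ * c (y ^ 2) w₀) * (c b w₀ * c y (c b w₀) * c (y ^ 2) (c b w₀)) := by
            rw [hVc _ hbw₀.1 _ e3]
            simp only [mul_assoc]
        _ = 1 := by rw [hw₀.2, hbw₀.2, one_mul]
    · calc c b w₀ = w₀ * w₀ * c b w₀ := by rw [hV2 w₀ hw₀.1, one_mul]
        _ = w₀ := by rw [mul_assoc, h, mul_one]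
    · rw [hcv, hb2]
      exact hVc _ hbw₀.1 _ hw₀.1
  obtain ⟨hwV, hwsum⟩ := hw
  set w' := c y w with hw'
  have hw'V : w' ∈ V := hconjV y w hwV
  have hyw' : c y w' = w * w' := by
    rw [hw', ← hcmul, ← pow_two]
    calc c (y ^ 2) w = (w * c y w) * (w * c y w) * c (y ^ 2) w := by
          rw [hV2 _ (V.mul_mem hwV hw'V), one_mul]
      _ = (w * c y w) * ((w * c y w) * c (y ^ 2) w) := mul_assoc _ _ _
      _ = w * c y w := by rw [hwsum, mul_one]
  have hne : w' ≠ w := by
    intro h
    rw [h, hV2 w hwV] at hyw'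
    rw [hcdef] at hyw'
    exact hw1 (by simpa using hyw')
  have hbw' : c b w' = w * w' := by
    have h3 : b * y = y ^ 2 * b := by
      calc b * y = b * y * b⁻¹ * b := by group
        _ = y ^ 2 * b := by rw [hby, hyy]
    rw [hw', ← hcmul, h3, hcmul, hbw, pow_two, hcmul]
    exact hyw'
  set W := Subgroup.closure ({w, w'} : Set L) with hW
  have hWle : W ≤ V := (Subgroup.closure_le _).2 (by
    rintro x (rfl | rfl)
    exacts [hwV, hw'V])
  have hWw : w ∈ W := Subgroup.subset_closure (Or.inl rfl)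
  have hWw' : w' ∈ W := Subgroup.subset_closure (Or.inr rfl)
  have hgen : ∀ g : L, c g w ∈ W → c g w' ∈ W → g ∈ Subgroup.normalizer (W : Set L) := by
    intro g h1 h1'
    rw [hcdef] at h1 h1'
    refine Subgroup.mem_normalizer_fintype fun x hx => ?_
    induction hx using Subgroup.closure_induction with
    | mem x hx =>
      rcases hx with rfl | rfl
      exacts [h1, h1']
    | one => simpa using W.one_mem
    | mul x x' _ _ hx hx' =>
      have := W.mul_mem hx hx'
      simpa [mul_assoc] using this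
    | inv x _ hx =>
      have := W.inv_mem hx
      simpa [mul_assoc] using this
  set H := Subgroup.zpowers y ⊔ Subgroup.zpowers b with hH
  have hHW : H ≤ Subgroup.normalizer (W : Set L) := by
    rw [hH, sup_le_iff, Subgroup.zpowers_le, Subgroup.zpowers_le]
    exact ⟨hgen y hWw' (by rw [hyw']; exact W.mul_mem hWw hWw'),
      hgen b (by rw [hbw]; exact hWw) (by rw [hbw']; exact W.mul_mem hWw hWw')⟩
  have hbY : Subgroup.zpowers b ≤ Subgroup.normalizer (Subgroup.zpowers y : Set L) := by
    rw [Subgroup.zpowers_le, Subgroup.mem_normalizer_iff_map_conj_eq, MonoidHom.map_zpowers]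
    show Subgroup.zpowers (b * y * b⁻¹) = _
    rw [hby, Subgroup.zpowers_inv]
  have hyord : orderOf y = 3 := orderOf_eq_prime hy3' hy1'
  have hb1 : b ≠ 1 := by
    intro h
    refine hy1 ?_
    rw [hy₀, h]
    simp
  have hbord : orderOf b = 2 := orderOf_eq_prime (by rw [pow_two, hb]) hb1
  have hdisj : Disjoint (Subgroup.zpowers y) (Subgroup.zpowers b) :=
    Subgroup.disjoint_of_coprime_natCard (by
      rw [Nat.card_zpowers, Nat.card_zpowers, hyord, hbord]; norm_num)
  have hHcard : Nat.card H = 6 := by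
    rw [hH, Cfsg.Lib.Coprime.card_sup_of_disjoint hbY hdisj, Nat.card_zpowers, Nat.card_zpowers,
      hyord, hbord]
  have hHel : ∀ h ∈ H, ∃ i : ℕ, i < 3 ∧ (h = y ^ i ∨ h = y ^ i * b) := by
    intro h hh
    obtain ⟨n, hn, a, ha, rfl⟩ := Cfsg.Lib.Coprime.exists_mul_of_mem_sup hbY hh
    obtain ⟨i, hi, rfl⟩ := exists_pow_of_mem_zpowers hn
    rw [hyord] at hi
    obtain ⟨j, hj, rfl⟩ := exists_pow_of_mem_zpowers ha
    rw [hbord] at hj
    refine ⟨i, hi, ?_⟩
    interval_cases j
    · exact Or.inl (by rw [pow_zero, mul_one])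
    · exact Or.inr (by rw [pow_one])
  have hfixed : ∀ h ∈ H, c h w = w → c h w' = w' → h = 1 := by
    intro h hh h1 h1'
    obtain ⟨i, hi, rfl | rfl⟩ := hHel h hh
    · interval_cases i
      · rw [pow_zero]
      · rw [pow_one] at h1
        exact absurd h1 hne
      · rw [pow_two, hcmul, ← hw', hyw'] at h1
        exact absurd (mul_eq_left.1 h1) fun h => hw1 (by
          rw [h] at hyw'
          simpa [hcdef] using hyw'.symm)
    · rw [hcmul, hbw] at h1
      interval_cases i
      · rw [pow_zero, hcmul, hc1, hbw'] at h1'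
        exact absurd (mul_eq_right.1 h1') hw1
      · rw [pow_one] at h1
        exact absurd h1 hne
      · rw [pow_two, hcmul, ← hw', hyw'] at h1
        exact absurd (mul_eq_left.1 h1) fun h => hw1 (by
          rw [h] at hyw'
          simpa [hcdef] using hyw'.symm)
  have hWabel : ∀ a ∈ W, ∀ x ∈ W, a * x = x * a := fun a ha x hx => hVc a (hWle ha) x (hWle hx)
  have hWH : Disjoint W H := by
    rw [Subgroup.disjoint_def]
    intro x hxW hxH
    refine hfixed x hxH ?_ ?_
    · rw [hcdef]
      rw [hWabel x hxW w hWw, mul_inv_cancel_right]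
    · rw [hcdef]
      rw [hWabel x hxW w' hWw', mul_inv_cancel_right]
  have hWcard : Nat.card W = 4 := by
    have hdisj' : Disjoint (Subgroup.zpowers w) (Subgroup.zpowers w') := by
      rw [Subgroup.disjoint_def]
      intro x hx hx'
      obtain ⟨i, hi, rfl⟩ := exists_pow_of_mem_zpowers hx
      rw [orderOf_eq_prime (by rw [pow_two, hV2 w hwV] : w ^ 2 = 1) hw1] at hi
      interval_cases i
      · simp
      · rw [pow_one] at hx' ⊢
        obtain ⟨j, hj, hje⟩ := exists_pow_of_mem_zpowers hx'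
        have hw'1 : w' ≠ 1 := fun h => hw1 (by
          have : w = y⁻¹ * w' * y := by simp [hw', hcdef, mul_assoc]
          rw [this, h]; simp)
        rw [orderOf_eq_prime (by rw [pow_two, hV2 w' hw'V] : w' ^ 2 = 1) hw'1] at hj
        interval_cases j
        · rw [pow_zero] at hje
          exact hje.symm
        · rw [pow_one] at hje
          exact absurd hje hne
    have hnorm : Subgroup.zpowers w' ≤ Subgroup.normalizer (Subgroup.zpowers w : Set L) := by
      rw [Subgroup.zpowers_le, Subgroup.mem_normalizer_iff_map_conj_eq, MonoidHom.map_zpowers]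
      show Subgroup.zpowers (w' * w * w'⁻¹) = _
      rw [hVc w' hw'V w hwV, mul_inv_cancel_right]
    have hWeq : W = Subgroup.zpowers w ⊔ Subgroup.zpowers w' := by
      rw [hW, Subgroup.zpowers_eq_closure, Subgroup.zpowers_eq_closure, ← Subgroup.closure_union]
      rfl
    rw [hWeq, Cfsg.Lib.Coprime.card_sup_of_disjoint hnorm hdisj', Nat.card_zpowers,
      Nat.card_zpowers, orderOf_eq_prime (by rw [pow_two, hV2 w hwV] : w ^ 2 = 1) hw1,
      orderOf_eq_prime (by rw [pow_two, hV2 w' hw'V] : w' ^ 2 = 1) fun h => hw1 (by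
        have : w = y⁻¹ * w' * y := by simp [hw', hcdef, mul_assoc]
        rw [this, h]; simp)]
  set M := W ⊔ H with hM
  have hMcard : Nat.card M = 24 := by
    rw [hM, Cfsg.Lib.Coprime.card_sup_of_disjoint hHW hWH, hWcard, hHcard]
  set H' := H.subgroupOf M with hH'
  have hidx : Nat.card (M ⧸ H') = 4 := by
    have h1 := Subgroup.card_eq_card_quotient_mul_card_subgroup H'
    rw [hMcard, Nat.card_congr (Subgroup.subgroupOfEquivOfLe (le_sup_right : H ≤ M)).toEquiv,
      hHcard] at h1
    omega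
  let e : (M ⧸ H') ≃ Fin 4 := (Finite.equivFin _).trans (finCongr hidx)
  let f : M →* Equiv.Perm (Fin 4) := e.permCongrHom.toMonoidHom.comp (MulAction.toPermHom M (M ⧸ H'))
  have hinj : Function.Injective f := by
    refine e.permCongrHom.injective.comp ?_
    rw [← MonoidHom.ker_eq_bot_iff, eq_bot_iff, ← Subgroup.normalCore_eq_ker]
    intro x hx
    have hxH : (x : L) ∈ H := Subgroup.normalCore_le H' hx
    have hcomm : ∀ a (ha : a ∈ W), c x a = a := by
      intro a ha
      have haM : a ∈ M := Subgroup.mem_sup_left ha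
      have h1 : (⟨a, haM⟩ : M) * x⁻¹ * (⟨a, haM⟩ : M)⁻¹ ∈ H'.normalCore :=
        (Subgroup.normalCore_normal H').conj_mem _ (Subgroup.inv_mem _ hx) _
      have h3 : (x : L) * a * (x : L)⁻¹ * a⁻¹ ∈ H := by
        have h4 : (x : L) * (a * (x : L)⁻¹ * a⁻¹) ∈ H := H.mul_mem hxH (Subgroup.normalCore_le H' h1)
        simpa [mul_assoc] using h4
      have h5 : (x : L) * a * (x : L)⁻¹ * a⁻¹ ∈ W :=
        W.mul_mem ((Subgroup.mem_normalizer_iff.1 (hHW hxH) a).1 ha) (W.inv_mem ha)
      rw [hcdef]
      exact mul_inv_eq_one.1 (Subgroup.disjoint_def.1 hWH h5 h3)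
    exact Subgroup.mem_bot.2 (Subtype.ext (hfixed x hxH (hcomm w hWw) (hcomm w' hWw')))
  have hbij : Function.Bijective f :=
    hinj.bijective_of_nat_card_le (by rw [nat_card_perm_four, hMcard])
  exact involves_iff_exists_hom.2 ⟨M, f, hbij.surjective⟩

end Cfsg.Lib.FusionSys
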