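import Cfsg.Agent.Lib.FusionSys.ComponentExists
import Cfsg.Agent.Lib.FusionSys.ComponentCore
import Cfsg.Agent.Lib.FusionSys.Product
import Cfsg.Agent.Lib.FusionSys.CentralizerSubsystem
import Cfsg.Prelude.Def_FusionFitting

/-!
# The centre of the generalized Fitting subsystem

Centralizing a central product of `O_p(F)` and the layer means centralizing both; the centralizer of the layer
is constrained, so such a subgroup lies in `O_p(F)`.
-/

set_option autoImplicit false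
set_option linter.style.haveILetI false

namespace Cfsg.Lib.FusionSys

open Cfsg Cfsg.FusionSystem

variable {Ω : Type*} [Group Ω] {S : Subgroup Ω} {F : FusionSystem S} {p : ℕ}

/-- A component whose maps fix its base is impossible. -/
theorem not_quasisimple_of_fix {U : Subgroup Ω} [Finite U] {C : FusionSystem U}
    (hq : C.Quasisimple p)
    (hfix : ∀ (P : Subgroup Ω), P ≤ U → ∀ α ∈ C.autGroup P, ∀ x : P, ((α x : P) : Ω) = x) : False := by
  have hbot : U = ⊥ := by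
    rw [← hq.2.1, eq_bot_iff]
    refine hyperfocal_le_of_coprime fun P hP α hα _ x => ?_
    rw [hfix P hP α hα x, inv_mul_cancel]
    exact Subgroup.one_mem _
  obtain ⟨E', hE'⟩ := exists_factorSystem (F := C) (T := C.center)
    (S' := (⊤ : Subgroup (↥U ⧸ (C.center).subgroupOf U)))
    (isNormal_stronglyClosed (isNormal_of_isCentral (isCentral_center C)))
    (θ := QuotientGroup.mk' _) (fun s => QuotientGroup.eq_one_iff s)
    (MonoidHom.range_eq_top.2 (QuotientGroup.mk'_surjective _))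
  refine (hq.2.2 E' hE').2.1 (eq_bot_iff.2 fun y _ => ?_)
  obtain ⟨x, rfl⟩ := QuotientGroup.mk'_surjective _ y
  rw [show x = 1 from Subtype.ext (Subgroup.mem_bot.1 (hbot.le x.2)), map_one]
  exact Subgroup.one_mem _

/-- What centralizes the layer and the core lies in the core. -/
theorem mem_core_of_centralizes [Finite S] [Fact p.Prime] (hS : IsPGroup p S) {T : Subgroup Ω}
    {E : FusionSystem T} (hE : E.IsLayerOf F p) {Y : Subgroup Ω}
    (hY : CentralizesSystem F E Y) (hYQ : ∀ y ∈ Y, ∀ q ∈ F.core, y * q = q * y) : Y ≤ F.core := by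
  obtain ⟨hEn, hcomp, -⟩ := hE
  have hF := hEn.1.2.1
  have hT := hEn.1.2.2.2.1
  set Y₁ := systemCentralizer F E p hT with hY₁
  obtain ⟨C, hC, hCT⟩ := exists_centralizer_subsystem hS hEn (Y := Y₁) rfl
  have hY₁S : Y₁ ≤ S := systemCentralizer_le.trans (centralizerIn_le T)
  haveI := finite_of_le hY₁S
  have hno : ¬ ∃ (U : Subgroup Ω) (K : FusionSystem U), K.IsComponentIn C p := by
    rintro ⟨U, K, hK⟩
    have hKF : K.IsComponentIn F p :=
      ⟨isSubnormalIn_trans' (IsSubnormalIn.step (IsSubnormalIn.refl C p) hC) hK.1, hK.2⟩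
    have hKC : K.IsSubsystemOf C := isSubsystemOf_of_isSubnormalIn hK.1
    have hKE := hcomp U K hKF
    have hUY : U ≤ Y₁ := hom_le (hKC U (subtype_mem K le_rfl))
    have hUT : U ≤ T := hom_le (hKE U (subtype_mem K le_rfl))
    haveI := finite_of_le (hUY.trans hY₁S)
    refine not_quasisimple_of_fix hK.2 fun P hP α hα x => ?_
    obtain ⟨-, -, -, ψ, -, hψe, hψT⟩ := hCT P (hKC P ((mem_autGroup hP).1 hα))
    exact (hψe x).symm.trans (hψT ⟨(x : Ω), hUT (hP x.2)⟩)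
  obtain ⟨-, R, hRn, hRc⟩ := (constrained_iff_no_component (hS.to_le hY₁S) C hC.1.1).2 hno
  have hRQ : R ≤ F.core := (le_sSup hRn : R ≤ C.core).trans (core_le_core_of_normal hS hF hC)
  intro y hy
  exact hRQ (hRc.2 R (isConj_refl C hRn.1) (mem_centralizerIn.2
    ⟨le_systemCentralizer hS hF hEn.1.2.2 hY hy, fun r hr => hYQ y hy r (hRQ hr)⟩))

variable {U : Subgroup Ω} {D : FusionSystem U}

/-- The main statement. -/
theorem fittingCenter_spec [Finite S] [Fact p.Prime] (hS : IsPGroup p S) (hF : F.IsSaturated p)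
    (hD : D.IsGeneralizedFittingOf F p) :
    (D.center ≤ centralizerIn S U ∧ ∀ P : Subgroup Ω, D.Hom P ⊆ F.centralizerHom D.center P) ∧
      ∀ Y : Subgroup Ω, Y ≤ centralizerIn S U →
        (∀ P : Subgroup Ω, D.Hom P ⊆ F.centralizerHom Y P) → Y ≤ D.center := by
  obtain ⟨T, E, hE, D₀, hD₀, Z, θ, hZc, -, -, hθ₁, hθ₂, hfac⟩ := hD
  obtain ⟨hZ₀, hker, hrange, hiff⟩ := hfac
  have hQn : F.IsNormal F.core := isNormal_core F
  have hQS : F.core ≤ S := hQn.1
  have hTS : T ≤ S := hE.1.1.2.2.2.1.1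
  have hθ : ∀ z : ↥(F.core.prod T), θ z = (z : Ω × Ω).1 * (z : Ω × Ω).2 := by
    rintro ⟨⟨a, b⟩, h⟩
    have ha : (a, (1 : Ω)) ∈ F.core.prod T := ⟨h.1, T.one_mem⟩
    have hb : ((1 : Ω), b) ∈ F.core.prod T := ⟨F.core.one_mem, h.2⟩
    show θ ⟨(a, b), h⟩ = a * b
    rw [show (⟨(a, b), h⟩ : ↥(F.core.prod T)) = ⟨(a, 1), ha⟩ * ⟨(1, b), hb⟩ from Subtype.ext (by simp),
      map_mul, hθ₁, hθ₂]
  have hQU : F.core ≤ U := fun a ha => by
    rw [← hrange]; exact ⟨⟨(a, 1), ha, T.one_mem⟩, hθ₁ a _⟩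
  have hTU : T ≤ U := fun b hb => by
    rw [← hrange]; exact ⟨⟨(1, b), F.core.one_mem, hb⟩, hθ₂ b _⟩
  have hcomm : ∀ a ∈ F.core, ∀ b ∈ T, a * b = b * a := by
    intro a ha b hb
    have ha' : (a, (1 : Ω)) ∈ F.core.prod T := ⟨ha, T.one_mem⟩
    have hb' : ((1 : Ω), b) ∈ F.core.prod T := ⟨F.core.one_mem, hb⟩
    have h : (⟨(a, 1), ha'⟩ : ↥(F.core.prod T)) * ⟨(1, b), hb'⟩ = ⟨(1, b), hb'⟩ * ⟨(a, 1), ha'⟩ :=
      Subtype.ext (by simp)
    have h2 := congrArg θ h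
    rwa [map_mul, map_mul, hθ₁, hθ₂] at h2
  have hUS : U ≤ S := by
    rw [← hrange]
    rintro _ ⟨z, rfl⟩
    rw [hθ]
    exact S.mul_mem (hQS z.2.1) (hTS z.2.2)
  haveI := finite_of_le hUS
  haveI : Finite ↥(F.core.prod T) :=
    Finite.of_injective (fun z => ((⟨z.1.1, hQS z.2.1⟩ : S), (⟨z.1.2, hTS z.2.2⟩ : S))) fun a b hab =>
      Subtype.ext (Prod.ext (congrArg (fun w : S × S => (w.1 : Ω)) hab) (congrArg (fun w : S × S => (w.2 : Ω)) hab))
  -- the system lies in `F`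
  have hcoreE : ∀ P : Subgroup Ω, E.Hom P ⊆ F.centralizerHom F.core P := by
    obtain ⟨X, hX, hXC, hcomp⟩ := exists_normal_above_components hS hF
    exact fun P φ hφ => hXC P (hE.2.2 _ X hX hcomp P hφ)
  have hDF : D.IsSubsystemOf F := by
    intro P φ hφ
    obtain ⟨hP, χ, hχ, hind⟩ := (hiff P φ).1 hφ
    obtain ⟨-, χ₁, ⟨-, g, hg, hge⟩, χ₂, hχ₂, hχe⟩ := (hD₀ _ _).1 hχ
    obtain ⟨-, -, -, ψ, hψ, hψe, hψQ⟩ := hcoreE _ hχ₂
    have hle : P ≤ proj₂ (preimageAlong θ P) ⊔ F.core := by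
      intro y hy
      obtain ⟨x, hx⟩ := exists_lift_val hrange hP ⟨y, hy⟩
      rw [hθ] at hx
      rw [show y = _ from hx.symm]
      exact Subgroup.mul_mem _ (Subgroup.mem_sup_right (preimageAlong_le x.2).1)
        (Subgroup.mem_sup_left (snd_mem_proj x))
    have hψ' := restrict_mem hψ hle
    have hψS : ∀ y, (ψ.comp (Subgroup.inclusion hle)) y ∈ S := hom_mem hψ'
    refine comp_mem' hψ' (F.conj_mem (P := S) le_rfl (hQS hg)) hψS fun y => ?_
    obtain ⟨x, hx⟩ := exists_lift_val hrange hP y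
    rw [inducedAlong_apply hind (x := x) (y := y) hx.symm (hx' := hom_mem hχ x), hθ]
    rw [hθ] at hx
    show (χ x).1 * (χ x).2 = g * ψ (Subgroup.inclusion hle y) * g⁻¹
    have hχx := hχe x (fst_mem_proj x) (snd_mem_proj x)
    rw [hχx]
    set a : F.core := ⟨((x : Ω × Ω)).1, (preimageAlong_le x.2).1⟩
    set b : proj₂ (preimageAlong θ P) := ⟨((x : Ω × Ω)).2, snd_mem_proj x⟩
    rw [show Subgroup.inclusion hle y = Subgroup.inclusion le_sup_right a * Subgroup.inclusion le_sup_left b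
      from Subtype.ext hx.symm, map_mul, hψQ, hψe]
    show χ₁ ⟨_, _⟩ * χ₂ b = _
    rw [hge]
    show g * (a : Ω) * g⁻¹ * χ₂ b = g * ((a : Ω) * χ₂ b) * g⁻¹
    have hgb : g⁻¹ * χ₂ b = χ₂ b * g⁻¹ := hcomm _ (inv_mem hg) _ (hom_mem hχ₂ b)
    rw [mul_assoc, hgb]
    group
  -- the centre
  have hZU : D.center ≤ centralizerIn S U := fun z hz => mem_centralizerIn.2
    ⟨hUS ((isCentral_center D).1 hz), fun u hu => (Subgroup.mem_centralizer_iff.1
      (D.center_le_centralizer hz) u hu).symm⟩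
  refine ⟨⟨hZU, fun P φ hφ => ?_⟩, fun Y hY hYD => ?_⟩
  · obtain ⟨ψ, hψ, hψe, hψZ⟩ := (isCentral_center D).2 P φ hφ
    have hUC : ∀ u ∈ U, u ∈ centralizerIn S D.center := fun u hu =>
      mem_centralizerIn.2 ⟨hUS hu, fun z hz => ((mem_centralizerIn.1 (hZU hz)).2 u hu).symm⟩
    exact ⟨hDF P hφ, fun u hu => hUC u (hom_le hφ hu), fun u => hUC _ (hom_mem hφ u),
      ψ, hDF _ hψ, hψe, hψZ⟩
  · have hYc := fun y hy => (mem_centralizerIn.1 (hY hy) : y ∈ S ∧ ∀ u ∈ U, y * u = u * y)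
    -- `Y` centralizes the layer
    have hYE : CentralizesSystem F E Y := by
      refine ⟨fun y hy => mem_centralizerIn.2 ⟨(hYc y hy).1, fun t ht => (hYc y hy).2 t (hTU ht)⟩,
        fun P φ hφ => ?_⟩
      set P₂ : Subgroup (Ω × Ω) := (⊥ : Subgroup Ω).prod P with hP₂
      have h1 : proj₁ P₂ ≤ F.core := by
        rintro _ ⟨z, hz, rfl⟩
        rw [show (MonoidHom.fst Ω Ω) z = 1 from Subgroup.mem_bot.1 hz.1]
        exact F.core.one_mem
      have h2 : proj₂ P₂ ≤ P := by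
        rintro _ ⟨z, hz, rfl⟩
        exact hz.2
      have hφ₀ : prodHom P₂ (proj₁ P₂).subtype (φ.comp (Subgroup.inclusion h2)) ∈ D₀.Hom P₂ := by
        refine (hD₀ _ _).2 ⟨?_, _, subtype_mem _ h1, _, restrict_mem hφ h2, isProdHom_prodHom _ _ _⟩
        rintro ⟨a, b⟩ ⟨ha, hb⟩
        exact ⟨h1 ⟨(a, b), ⟨ha, hb⟩, rfl⟩, hom_le hφ hb⟩
      obtain ⟨ψ, hψ, hψe, hψZ⟩ := (isCentral_center D₀).2 P₂ _ hφ₀
      have hPU : P ≤ U := (hom_le hφ).trans hTU
      have hpre : preimageAlong θ P ≤ P₂ ⊔ D₀.center := by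
        intro z hz
        obtain ⟨hzS, hzP⟩ := mem_preimageAlong.1 hz
        have hw : ((1, θ ⟨z, hzS⟩) : Ω × Ω) ∈ F.core.prod T := ⟨F.core.one_mem, hom_le hφ hzP⟩
        have hk : θ (⟨_, hw⟩⁻¹ * ⟨z, hzS⟩) = 1 := by
          rw [map_mul, map_inv, hθ₂, inv_mul_cancel]
        have hz' := hZc ((hker _).1 hk)
        have := Subgroup.mul_mem (P₂ ⊔ D₀.center)
          (Subgroup.mem_sup_left (show ((1, θ ⟨z, hzS⟩) : Ω × Ω) ∈ P₂ from ⟨Subgroup.one_mem _, hzP⟩))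
          (Subgroup.mem_sup_right hz')
        have he : ((1, θ ⟨z, hzS⟩) : Ω × Ω) * ((1, (θ ⟨z, hzS⟩)⁻¹) * z) = z := by
          simp [← mul_assoc]
        have h' : ((1, θ ⟨z, hzS⟩) : Ω × Ω) * ((1, (θ ⟨z, hzS⟩)⁻¹) * z) ∈ P₂ ⊔ D₀.center := by
          simpa using this
        rwa [he] at h'
      have hlift := restrict_mem hψ hpre
      have hφD : φ ∈ D.Hom P := by
        refine (hiff P φ).2 ⟨hPU, _, hlift, preimageAlong_le, hom_mem hlift,
          fun z => (mem_preimageAlong.1 z.2).2, fun z => ?_⟩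
        set y : Ω := θ ⟨(z : Ω × Ω), preimageAlong_le z.2⟩ with hy
        have hyP : y ∈ P := (mem_preimageAlong.1 z.2).2
        have hyT : y ∈ T := hom_le hφ hyP
        have hw : ((1, y) : Ω × Ω) ∈ F.core.prod T := ⟨F.core.one_mem, hyT⟩
        have hk : θ (⟨_, hw⟩⁻¹ * ⟨(z : Ω × Ω), preimageAlong_le z.2⟩) = 1 := by
          rw [map_mul, map_inv, hθ₂, ← hy, inv_mul_cancel]
        have hz' := hZc ((hker _).1 hk)
        set w₂ : P₂ := ⟨(1, y), Subgroup.one_mem _, hyP⟩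
        set zc : D₀.center := ⟨_, hz'⟩
        have hsplit : Subgroup.inclusion hpre z =
            Subgroup.inclusion le_sup_left w₂ * Subgroup.inclusion le_sup_right zc :=
          Subtype.ext (by simp [w₂, zc, ← mul_assoc])
        have hval : ψ (Subgroup.inclusion hpre z) = ((1, φ ⟨y, hyP⟩) : Ω × Ω) * (zc : Ω × Ω) := by
          rw [hsplit, map_mul, hψe, hψZ, isProdHom_prodHom P₂ _ _ w₂ (fst_mem_proj w₂) (snd_mem_proj w₂)]
          rfl
        have hw' : ((1, φ ⟨y, hyP⟩) : Ω × Ω) ∈ F.core.prod T := ⟨F.core.one_mem, hom_mem hφ _⟩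
        have hzS : (zc : Ω × Ω) ∈ F.core.prod T := (isCentral_center D₀).1 zc.2
        rw [show (⟨(ψ.comp (Subgroup.inclusion hpre)) z, hom_mem hlift z⟩ : ↥(F.core.prod T)) =
          ⟨_, hw'⟩ * ⟨(zc : Ω × Ω), hzS⟩ from Subtype.ext hval, map_mul, hθ₂]
        have hzone : θ ⟨(zc : Ω × Ω), hzS⟩ = 1 := by
          rw [← hk]
        rw [hzone, mul_one]
      exact hYD P hφD
    have hYQ : Y ≤ F.core := mem_core_of_centralizes hS hE hYE fun y hy q hq => (hYc y hy).2 q (hQU hq)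
    refine le_sSup ⟨hYQ.trans hQU, fun P φ hφ => ?_⟩
    obtain ⟨hP, χ, hχ, hind⟩ := (hiff P φ).1 hφ
    obtain ⟨-, χ₁, ⟨-, g, hg, hge⟩, χ₂, hχ₂, hχe⟩ := (hD₀ _ _).1 hχ
    set P' := P ⊔ Y with hP'
    have hP'U : P' ≤ U := sup_le hP (hYQ.trans hQU)
    have hadj : ∀ z : preimageAlong θ P', ∃ y ∈ Y, ∃ x : preimageAlong θ P,
        (z : Ω × Ω) = ((x : Ω × Ω).1 * y, (x : Ω × Ω).2) := by
      intro z
      obtain ⟨hzS, hzP⟩ := mem_preimageAlong.1 z.2
      have hn : Y ≤ Subgroup.normalizer (P : Set Ω) := fun y hy =>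
        Subgroup.centralizer_le_normalizer _ (Subgroup.mem_centralizer_iff.2 fun u hu =>
          ((hYc y hy).2 u (hP hu)).symm)
      have hmul : θ ⟨(z : Ω × Ω), hzS⟩ ∈ ((P ⊔ Y : Subgroup Ω) : Set Ω) := hzP
      rw [Subgroup.coe_mul_of_right_le_normalizer_left P Y hn] at hmul
      obtain ⟨u, hu, y, hy, he⟩ := Set.mem_mul.1 hmul
      have hy1 : ((y⁻¹, 1) : Ω × Ω) ∈ F.core.prod T := ⟨F.core.inv_mem (hYQ hy), T.one_mem⟩
      have hx : (z : Ω × Ω) * (y⁻¹, 1) ∈ preimageAlong θ P := by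
        refine mem_preimageAlong.2 ⟨mul_mem hzS hy1, ?_⟩
        rw [show (⟨(z : Ω × Ω) * (y⁻¹, 1), mul_mem hzS hy1⟩ : ↥(F.core.prod T)) =
          ⟨(z : Ω × Ω), hzS⟩ * ⟨_, hy1⟩ from rfl, map_mul, hθ₁, ← he, mul_inv_cancel_right]
        exact hu
      exact ⟨y, hy, ⟨_, hx⟩, Prod.ext (by simp) (by simp)⟩
    have h1 : proj₁ (preimageAlong θ P') ≤ F.core := by
      rintro _ ⟨z, hz, rfl⟩
      exact (preimageAlong_le hz).1
    have h2 : proj₂ (preimageAlong θ P') ≤ proj₂ (preimageAlong θ P) := by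
      rintro _ ⟨z, hz, rfl⟩
      obtain ⟨y, -, x, hx⟩ := hadj ⟨z, hz⟩
      exact ⟨_, x.2, (congrArg Prod.snd hx).symm⟩
    have hξ : prodHom (preimageAlong θ P') (conjHom (proj₁ (preimageAlong θ P')) g)
        (χ₂.comp (Subgroup.inclusion h2)) ∈ D₀.Hom (preimageAlong θ P') :=
      (hD₀ _ _).2 ⟨preimageAlong_le, _, (innerFusionSystem F.core).conj_mem h1 hg, _,
        restrict_mem hχ₂ h2, isProdHom_prodHom _ _ _⟩
    obtain ⟨φ', hφ'⟩ := exists_induced (F := D₀)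
      (T := Z) ⟨hZ₀, fun R hR ψ hψ x => by
        obtain ⟨ψ', hψ', hψ'e, hψ'Z⟩ := (isCentral_center D₀).2 R ψ hψ
        have h := hψ'e x
        rw [show (Subgroup.inclusion le_sup_left x : ↥(R ⊔ D₀.center)) =
          Subgroup.inclusion le_sup_right ⟨(x : Ω × Ω), hZc (hR x.2)⟩ from rfl, hψ'Z] at h
        rw [← h]
        exact hR x.2⟩ hker hrange hP'U hξ
    have hφ'D : φ' ∈ D.Hom P' := (hiff _ _).2 ⟨hP'U, _, hξ, hφ'⟩
    refine ⟨φ', hφ'D, fun u => ?_, fun y => ?_⟩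
    · obtain ⟨x, hx⟩ := exists_lift_val hrange hP u
      have hxP' : (x : Ω × Ω) ∈ preimageAlong θ P' := mem_preimageAlong.2
        ⟨preimageAlong_le x.2, Subgroup.mem_sup_left (mem_preimageAlong.1 x.2).2⟩
      rw [inducedAlong_apply hφ' (x := ⟨_, hxP'⟩) (hxS := preimageAlong_le x.2)
        (hx' := hom_mem hξ _) hx.symm, inducedAlong_apply hind (x := x) (hx' := hom_mem hχ _) hx.symm]
      refine congrArg θ (Subtype.ext ?_)
      show _ = χ x
      rw [hχe x (fst_mem_proj x) (snd_mem_proj x), hge]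
      rfl
    · have hy1 : ((y : Ω), (1 : Ω)) ∈ F.core.prod T := ⟨hYQ y.2, T.one_mem⟩
      have hyP' : ((y : Ω), (1 : Ω)) ∈ preimageAlong θ P' := mem_preimageAlong.2
        ⟨hy1, by rw [hθ₁ _ hy1]; exact Subgroup.mem_sup_right y.2⟩
      rw [inducedAlong_apply hφ' (x := ⟨_, hyP'⟩) (hxS := ⟨hYQ y.2, T.one_mem⟩)
        (hx' := hom_mem hξ _) (hθ₁ _ _).symm, hθ]
      show g * (y : Ω) * g⁻¹ * χ₂ ⟨1, _⟩ = y
      rw [show (⟨1, _⟩ : proj₂ (preimageAlong θ P)) = 1 from rfl, map_one, mul_one]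
      exact conj_eq_of_commute ((hYc y y.2).2 g (hQU hg)).symm

end Cfsg.Lib.FusionSys
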