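import Cfsg.Agent.Lib.FusionSys.TransferControl
import Cfsg.Agent.Lib.FusionSys.Focal
import Cfsg.Agent.Lib.Sig.TransferApps

/-!
# The focal subgroup is proper when the automizer of `S` is a `p`-group, `p ≥ 5`
-/

set_option autoImplicit false
set_option linter.style.haveILetI false

universe u

namespace Cfsg.Lib.FusionSys

open Cfsg Cfsg.FusionSystem
open scoped commutatorElement

variable {p : ℕ} [Fact p.Prime]

theorem transferLocal_kInf (hp : 5 ≤ p) : TransferLocal.{u} p Cfsg.kInfLower := by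
  intro G _ _ P _
  have h := (Cfsg.Lib.Sig.controlsTransferIn_of_step (Cfsg.Lib.Sig.isCharPFunctor_kInfLower p) (X := G)
    (fun _ _ _ _ _ _ _ => (Cfsg.Lib.Sig.transferStep_kInf hp).1)).2 P
  have hle : pCore p G ≤ (P : Subgroup G) := Cfsg.Lib.Core.pCore_le_sylow P
  rw [map_commutator_self, ← inf_eq_left.2 hle, inf_assoc, inf_assoc]
  exact congrArg (pCore p G ⊓ ·) h

variable {Ω : Type u} [Group Ω] {S : Subgroup Ω} [Finite S]

theorem commutator_self_lt (hS : IsPGroup p S) (hS1 : S ≠ ⊥) : ⁅S, S⁆ < S := by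
  haveI : Nontrivial S := (Subgroup.nontrivial_iff_ne_bot S).2 hS1
  haveI := hS.isNilpotent
  have h := Group.IsSolvable.commutator_lt_top_of_nontrivial S
  have h' := (Subgroup.map_subtype_lt_map_subtype (G' := S)).2 h
  rwa [map_commutator_self, ← MonoidHom.range_eq_map, Subgroup.range_subtype] at h'

/-- A system with `S` normal and `Aut(S)` a `p`-group moves elements only inside `[S, S]`. -/
theorem focal_le_commutator_of_normal (hS : IsPGroup p S) {F : FusionSystem S}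
    (hF : F.IsSaturated p) (hn : F.IsNormal S) (haut : IsPGroup p ↥(F.autGroup S)) :
    F.focalSubgroup ≤ ⁅S, S⁆ := by
  refine (Subgroup.closure_le _).2 ?_
  rintro _ ⟨P, φ, x, hφ, rfl⟩
  obtain ⟨ψ, hψ, hψe, hψS⟩ := hn.2 P φ hφ
  have hi := restrict_mem hψ (le_sup_right : S ≤ P ⊔ S)
  have hr : (ψ.comp (Subgroup.inclusion (le_sup_right : S ≤ P ⊔ S))).range = S := by
    rw [← MonoidHom.map_range, Subgroup.inclusion_range]
    exact hψS
  set α : MulAut S := homIso hi hr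
  have hα : α ∈ F.autGroup S := (mem_autGroup le_rfl).2 (isoIn_homIso hi hr)
  obtain ⟨-, -, R, hR⟩ := isFullyAutomized_and_fc_of_fn hS hF (isFullyNormalized_top F)
  have htop : (R : Subgroup (F.autGroup S)) = ⊤ :=
    R.is_maximal' (Q := ⊤) (haut.to_subgroup ⊤) le_top ▸ rfl
  have hmem : (⟨α, hα⟩ : F.autGroup S) ∈ (autInducedBy S S).subgroupOf (F.autGroup S) := by
    rw [← hR, htop]; exact Subgroup.mem_top _
  obtain ⟨g, hg, hge⟩ := mem_autInducedBy.1 hmem
  have hxS := hom_le hφ x.2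
  have h1 : φ x = g * (x : Ω) * g⁻¹ := by
    rw [← hψe x, ← hge ⟨x, hxS⟩]
    exact congrArg ψ (Subtype.ext rfl)
  rw [h1]
  have h := Subgroup.commutator_mem_commutator (S.inv_mem hxS) hg
  have heq : (x : Ω)⁻¹ * (g * x * g⁻¹) = ⁅(x : Ω)⁻¹, g⁆ := by
    rw [commutatorElement_def]
    simp [mul_assoc]
  show (x : Ω)⁻¹ * (g * x * g⁻¹) ∈ _
  rwa [heq]

/-- The automizer of the top of a factor system is a `p`-group when that of `S` is. -/
theorem isPGroup_autGroup_factor_focalProper {Ω' : Type u} [Group Ω'] {θ : S →* Ω'} {S' : Subgroup Ω'}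
    {F : FusionSystem S} {Q : Subgroup Ω} {E : FusionSystem S'}
    (hE : F.IsFactorSystem Q θ E) (haut : IsPGroup p ↥(F.autGroup S)) :
    IsPGroup p ↥(E.autGroup S') := by
  rintro ⟨β, hβ⟩
  obtain ⟨-, φ, hφ, hind⟩ := (hE.2.2.2 _ _).1 ((mem_autGroup le_rfl).1 hβ)
  have hpre : preimageAlong θ S' = S := le_antisymm preimageAlong_le fun x hx =>
    mem_preimageAlong.2 ⟨hx, hE.2.2.1.le ⟨⟨x, hx⟩, rfl⟩⟩
  set ψ := φ.comp (Subgroup.inclusion hpre.ge)
  have hψ : ψ ∈ F.Hom S := restrict_mem hφ hpre.ge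
  set α : MulAut S := homIso hψ (range_eq_of_card_le hψ le_rfl (hom_mem hψ) le_rfl) with hαdef
  obtain ⟨k, hk⟩ := haut ⟨α, (mem_autGroup le_rfl).2 (isoIn_homIso _ _)⟩
  have hS' : ∀ s : S, θ s ∈ S' := fun s => hE.2.2.1.le ⟨s, rfl⟩
  have hstep : ∀ s : S, β ⟨θ s, hS' s⟩ = ⟨θ (α s), hS' _⟩ := fun s => Subtype.ext (by
    have h := inducedAlong_apply hind (x := ⟨s, hpre.ge s.2⟩) (hxS := s.2) (y := ⟨θ s, hS' s⟩) rfl
      (hx' := hom_mem hφ _)
    exact h)
  have hit : ∀ (i : ℕ) (s : S), (β ^ i) ⟨θ s, hS' s⟩ = ⟨θ ((α ^ i) s), hS' _⟩ := by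
    intro i
    induction i with
    | zero => intro s; rfl
    | succ i ih =>
      intro s
      rw [pow_succ, MulAut.mul_apply, hstep, ih, pow_succ]
      rfl
  refine ⟨k, Subtype.ext (MulEquiv.ext fun y => ?_)⟩
  obtain ⟨s, hs⟩ := hE.2.2.1.ge y.2
  rw [show y = ⟨θ s, hS' s⟩ from Subtype.ext hs.symm]
  show (β ^ p ^ k) ⟨θ s, hS' s⟩ = _
  rw [hit, show α ^ p ^ k = 1 from congrArg Subtype.val hk]
  rfl

/-- The focal subgroup is proper. -/
theorem focal_lt (hp : 5 ≤ p) : ∀ (m : ℕ) (Ω : Type u) [Group Ω] (S : Subgroup Ω) [Finite S],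
    IsPGroup p S → Nat.card S ≤ m → S ≠ ⊥ → ∀ F : FusionSystem S, F.IsSaturated p →
      IsPGroup p ↥(F.autGroup S) → F.focalSubgroup < S := by
  intro m
  induction m with
  | zero =>
    intro Ω _ S _ _ hm
    exact absurd (Nat.card_pos (α := S)) (by omega)
  | succ m ih =>
    intro Ω _ S _ hS hm hS1 F hF haut
    obtain ⟨hW1, hW2⟩ := Cfsg.Lib.Sig.isCharPFunctor_kInfLower.{u} p
    obtain ⟨hJS, hchar⟩ := functorOf_char Cfsg.kInfLower hW2 S hS
    have hJne := functorOf_ne_bot Cfsg.kInfLower hW1 S hS hS1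
    set J := functorOf Cfsg.kInfLower S with hJdef
    have hJn : S ≤ Subgroup.normalizer (J : Set Ω) :=
      Subgroup.le_normalizer.trans (le_normalizer_of_char hJS hchar)
    obtain ⟨G, hG, hGs, hGle, hGn, -⟩ := exists_normalizerPart.{u, 0} (F := F) hS hF hJS hJn
    have haG : IsPGroup p ↥(G.autGroup S) := haut.to_le fun α hα =>
      (mem_autGroup le_rfl).2 (hGle S ((mem_autGroup le_rfl).1 hα))
    have hle : F.focalSubgroup ≤ G.focalSubgroup := by
      refine (Subgroup.closure_le _).2 ?_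
      rintro _ ⟨P, φ, x, hφ, rfl⟩
      refine (Subgroup.closure_le _).2 ?_
        (focalBound Cfsg.kInfLower hW1 hW2 (transferLocal_kInf hp) _ Ω S hS le_rfl F hF P φ hφ x)
      rintro _ ⟨R, ψ, y, hψ, rfl⟩
      exact Subgroup.subset_closure ⟨R, ψ, y, (hG R).ge hψ, rfl⟩
    refine lt_of_le_of_lt hle ?_
    by_cases hJtop : J = S
    · have hGS : G.IsNormal S := by rwa [← congrArg G.IsNormal hJtop]
      exact lt_of_le_of_lt (focal_le_commutator_of_normal hS hGs hGS haG)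
        (commutator_self_lt hS hS1)
    refine lt_of_le_of_ne (focal_le G) fun heq => ?_
    have hsc := isNormal_stronglyClosed hGn
    haveI : (J.subgroupOf S).Normal := ⟨fun x hx g =>
      (Subgroup.mem_normalizer_iff.1 (hJn g.2) (x : Ω)).1 hx⟩
    set θ := QuotientGroup.mk' (J.subgroupOf S) with hθdef
    have hker : ∀ s : S, θ s = 1 ↔ (s : Ω) ∈ J := fun s => QuotientGroup.eq_one_iff s
    set S' : Subgroup (S ⧸ J.subgroupOf S) := ⊤ with hS'def
    have hrange : θ.range = S' := MonoidHom.range_eq_top.2 (QuotientGroup.mk'_surjective _)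
    obtain ⟨E, hE⟩ := exists_factorSystem hsc hker hrange
    have hS' : IsPGroup p S' := (hS.to_quotient _).to_subgroup _
    have hcard : Nat.card S' ≤ m := by
      rw [hS'def, Subgroup.card_top]
      have h1 := Subgroup.card_eq_card_quotient_mul_card_subgroup (J.subgroupOf S)
      haveI := finite_of_le hJS
      have h2 : 1 < Nat.card (J.subgroupOf S) := by
        rw [Nat.card_congr (Subgroup.subgroupOfEquivOfLe hJS).toEquiv]
        exact (Subgroup.one_lt_card_iff_ne_bot J).2 hJne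
      nlinarith [Nat.card_pos (α := S ⧸ J.subgroupOf S)]
    have hne : S' ≠ ⊥ := fun hbot => hJtop (le_antisymm hJS fun s hs => (hker ⟨s, hs⟩).1
      (Subgroup.mem_bot.1 (hbot.le (Subgroup.mem_top _))))
    have hlt := ih _ S' hS' hcard hne E (isSaturated_factor hS hGs hsc hE)
      (isPGroup_autGroup_factor_focalProper hE haG)
    refine hlt.not_ge fun y _ => ?_
    obtain ⟨s, rfl⟩ := QuotientGroup.mk'_surjective (J.subgroupOf S) y
    have himg : G.focalSubgroup ≤ ((E.focalSubgroup).comap θ).map S.subtype := by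
      refine (Subgroup.closure_le _).2 ?_
      rintro _ ⟨P, φ, x, hφ, rfl⟩
      obtain ⟨ψ, hψ, hψe, -⟩ := hGn.2 P φ hφ
      have hpre := preimageAlong_imageAlong hsc hker (hom_le hφ)
      set χ := ψ.comp (Subgroup.inclusion hpre.le)
      have hχ : χ ∈ G.Hom (preimageAlong θ (imageAlong θ P)) := restrict_mem hψ hpre.le
      obtain ⟨φ', hind⟩ := exists_induced hsc hker hrange (P' := imageAlong θ P) le_top hχ
      have hxpre : (x : Ω) ∈ preimageAlong θ (imageAlong θ P) := hpre.ge (Subgroup.mem_sup_left x.2)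
      obtain ⟨hxS, hxim⟩ := mem_preimageAlong.1 hxpre
      refine ⟨⟨x, hxS⟩⁻¹ * ⟨χ ⟨x, hxpre⟩, hom_mem hχ _⟩, ?_, ?_⟩
      · refine Subgroup.subset_closure ⟨_, φ', ⟨_, hxim⟩, (hE.2.2.2 _ _).2 ⟨le_top, χ, hχ, hind⟩, ?_⟩
        rw [inducedAlong_apply hind (x := ⟨x, hxpre⟩) (hxS := hxS) (y := ⟨_, hxim⟩) rfl
          (hx' := hom_mem hχ _), map_mul, map_inv]
      · show (x : Ω)⁻¹ * ψ _ = _
        rw [← hψe x]
        rfl
    obtain ⟨t, ht, hte⟩ := himg (heq.ge s.2)
    rw [show t = s from Subtype.ext hte] at ht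
    exact ht

end Cfsg.Lib.FusionSys
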