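import Cfsg.Agent.Lib.FusionSys.FreeRealizeGraph
import Cfsg.Agent.Lib.FusionSys.Basic
import Mathlib.GroupTheory.Complement
import Mathlib.GroupTheory.Perm.Finite
import Mathlib.SetTheory.Cardinal.Finite

/-!
Every fusion system over a finite group is realized by a virtually free group.
-/

set_option autoImplicit false
set_option linter.unusedSectionVars false

namespace Cfsg.Lib.FusionSys.FreeRealize

open Cfsg Cfsg.FusionSystem Cfsg.Lib.FusionSys

universe u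

variable {Ω : Type u} [Group Ω] {S : Subgroup Ω} [Finite S] (F : FusionSystem S)

/-- The regular representation. -/
def reg (S : Subgroup Ω) : ↥S →* Equiv.Perm ↥S := MulAction.toPermHom ↥S ↥S

theorem reg_apply (s x : ↥S) : reg S s x = s * x := rfl

theorem reg_injective (S : Subgroup Ω) : Function.Injective (reg S) := fun a b h => by
  have := congrArg (fun e : Equiv.Perm ↥S => e 1) h
  simpa using (show a * 1 = b * 1 from this)

/-- A map of the system, with its source. -/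
def Mor := Σ P : Subgroup Ω, {φ : P →* Ω // φ ∈ F.Hom P}

variable {F}

/-- The value of a map in `S`. -/
def val (m : Mor F) (x : ↥S) (hx : (x : Ω) ∈ m.1) : ↥S := ⟨m.2.1 ⟨x, hx⟩, hom_mem m.2.2 _⟩

theorem exists_perm (m : Mor F) : ∃ g : Equiv.Perm ↥S, ∀ (x : ↥S) (hx : (x : Ω) ∈ m.1),
    g * reg S x * g⁻¹ = reg S (val m x hx) := by
  obtain ⟨P, φ, hφ⟩ := m
  set A : Subgroup ↥S := P.subgroupOf S
  let ψ : A →* ↥S :=
    { toFun := fun x => val ⟨P, φ, hφ⟩ x.1 x.2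
      map_one' := Subtype.ext (map_one φ)
      map_mul' := fun a b => Subtype.ext (show φ (⟨_, (a * b).2⟩ : P) = _ from
        map_mul φ (⟨(a.1 : Ω), a.2⟩ : P) (⟨(b.1 : Ω), b.2⟩ : P)) }
  have hψ : Function.Injective ψ := fun a b h =>
    Subtype.ext (Subtype.ext (congrArg (fun z : P => (z : Ω))
      (F.injective_of_mem hφ (a₁ := ⟨(a.1 : Ω), a.2⟩) (a₂ := ⟨(b.1 : Ω), b.2⟩) (congrArg Subtype.val h))))
  obtain ⟨T, hT, -⟩ := A.exists_isComplement_right 1
  obtain ⟨T', hT', -⟩ := ψ.range.exists_isComplement_right 1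
  have hcard : Nat.card T = Nat.card T' := by
    rw [hT.card_right, hT'.card_right]
    refine Nat.eq_of_mul_eq_mul_left (Nat.card_pos (α := A)) ?_
    conv_rhs => rw [Nat.card_congr (MonoidHom.ofInjective hψ).toEquiv]
    rw [Subgroup.card_mul_index, Subgroup.card_mul_index]
  obtain ⟨e⟩ : Nonempty (T ≃ T') := ⟨(Finite.equivFinOfCardEq hcard).trans (Finite.equivFin T').symm⟩
  refine ⟨(hT.equiv.trans ((MonoidHom.ofInjective hψ).toEquiv.prodCongr e)).trans hT'.equiv.symm,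
    fun x hx => ?_⟩
  rw [mul_inv_eq_iff_eq_mul]
  refine Equiv.ext fun y => ?_
  obtain ⟨⟨a, t⟩, rfl⟩ := hT.equiv.symm.surjective y
  have hxy : x * hT.equiv.symm (a, t) = hT.equiv.symm (⟨x, hx⟩ * a, t) := by
    rw [Subgroup.IsComplement.equiv_symm_apply, Subgroup.IsComplement.equiv_symm_apply]
    exact (mul_assoc _ _ _).symm
  simp only [Equiv.Perm.mul_apply, reg_apply, hxy, Equiv.trans_apply, Equiv.apply_symm_apply]
  simp only [Subgroup.IsComplement.equiv_symm_apply, Equiv.prodCongr_apply, Prod.map_apply]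
  show (ψ (⟨x, hx⟩ * a) : ↥S) * _ = _ * ((ψ a : ↥S) * _)
  rw [map_mul, mul_assoc]
  rfl

/-- A permutation inducing a map. -/
noncomputable def perm (m : Mor F) : Equiv.Perm ↥S := (exists_perm m).choose

theorem perm_spec (m : Mor F) (x : ↥S) (hx : (x : Ω) ∈ m.1) :
    perm m * reg S x * (perm m)⁻¹ = reg S (val m x hx) := (exists_perm m).choose_spec x hx

/-- The stabilizer of an edge. -/
def edgeStab (m : Mor F) : Subgroup (Equiv.Perm ↥S) := (m.1.subgroupOf S).map (reg S)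

theorem edgeStab_le (m : Mor F) : edgeStab m ≤ (reg S).range := Subgroup.map_le_range _ _

variable (F)

/-- The edges. -/
abbrev Edge := Σ m : Mor F, Equiv.Perm ↥S ⧸ edgeStab m

/-- The vertices. -/
abbrev Vert (S : Subgroup Ω) := Equiv.Perm ↥S ⧸ (reg S).range

variable {F}

/-- The source. -/
def srcF (e : Edge F) : Vert S :=
  Quotient.liftOn' e.2 (fun σ => (σ : Vert S)) fun a b h => by
    rw [QuotientGroup.leftRel_apply] at h
    exact QuotientGroup.eq.2 (edgeStab_le e.1 h)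

/-- The target. -/
noncomputable def tgtF (e : Edge F) : Vert S :=
  Quotient.liftOn' e.2 (fun σ => ((σ * (perm e.1)⁻¹ : Equiv.Perm ↥S) : Vert S)) fun a b h => by
    rw [QuotientGroup.leftRel_apply] at h
    obtain ⟨x, hx, hxe⟩ := h
    refine QuotientGroup.eq.2 ⟨val e.1 x hx, ?_⟩
    rw [← perm_spec e.1 x hx, hxe]
    group

theorem srcF_smul (σ : Equiv.Perm ↥S) (e : Edge F) : srcF (σ • e) = σ • srcF e := by
  obtain ⟨m, c⟩ := e
  induction c using QuotientGroup.induction_on with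
  | H a => rfl

theorem tgtF_smul (σ : Equiv.Perm ↥S) (e : Edge F) : tgtF (σ • e) = σ • tgtF e := by
  obtain ⟨m, c⟩ := e
  induction c using QuotientGroup.induction_on with
  | H a => exact congrArg (fun z : Equiv.Perm ↥S => (z : Vert S)) (mul_assoc σ a _)

variable (F)

/-- The group. -/
noncomputable abbrev realizer [DecidableEq (Edge F)] :=
  lifts (Γ := Equiv.Perm ↥S) (srcF (F := F)) tgtF srcF_smul tgtF_smul ((1 : Equiv.Perm ↥S) : Vert S)

theorem reg_smul_base (s : ↥S) : reg S s • ((1 : Equiv.Perm ↥S) : Vert S) = ((1 : Equiv.Perm ↥S) : Vert S) := by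
  rw [MulAction.Quotient.smul_coe, QuotientGroup.eq, smul_eq_mul, mul_one, mul_one]
  exact Subgroup.inv_mem _ ⟨s, rfl⟩

/-- The embedding. -/
noncomputable def emb [DecidableEq (Edge F)] : ↥S →* ↥(realizer F) :=
  (SemidirectProduct.inr.comp (reg S)).codRestrict _ fun s => by
    refine (mem_lifts _ _ srcF_smul tgtF_smul).2 ?_
    show Path (srcF (F := F)) tgtF _ 1 (reg S s • _)
    rw [reg_smul_base]
    exact path_one _ _ _

variable {F}

/-- Conjugations induced along paths are maps of the system. -/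
theorem hom_of_path [DecidableEq (Edge F)] {P : Subgroup Ω} (a : P → Equiv.Perm ↥S) (σ : Equiv.Perm ↥S)
    (ψ₀ : P →* Ω) (hψ₀ : ψ₀ ∈ F.Hom P)
    (ha : ∀ x : P, σ⁻¹ * a x * σ = reg S ⟨ψ₀ x, hom_mem hψ₀ x⟩) :
    ∀ (L : List (Edge F × Bool)) (u : Vert S), IsPath srcF tgtF u L (σ : Vert S) →
      (∀ l ∈ L, ∀ x : P, a x • l.1 = l.1) → ∀ τ : Equiv.Perm ↥S, (τ : Vert S) = u →
      ∃ (ψ : P →* Ω) (hψ : ψ ∈ F.Hom P), ∀ x : P, τ⁻¹ * a x * τ = reg S ⟨ψ x, hom_mem hψ x⟩ := by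
  intro L
  have hshift : ∀ {χ : P →* Ω} (hχ : χ ∈ F.Hom P) (ρ τ : Equiv.Perm ↥S), (τ : Vert S) = (ρ : Vert S) →
      (∀ x : P, ρ⁻¹ * a x * ρ = reg S ⟨χ x, hom_mem hχ x⟩) →
      ∃ (ψ : P →* Ω) (hψ : ψ ∈ F.Hom P), ∀ x : P, τ⁻¹ * a x * τ = reg S ⟨ψ x, hom_mem hψ x⟩ := by
    intro χ hχ ρ τ h hρ
    obtain ⟨s, hs⟩ := QuotientGroup.eq.1 h
    refine ⟨(MulAut.conj (s : Ω)).toMonoidHom.comp χ, ?_, fun x => ?_⟩
    · exact comp_mem' hχ (F.conj_mem (le_refl S) s.2) (fun x => hom_mem hχ x) fun x => rfl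
    · show _ = reg S ⟨(s : Ω) * χ x * (s : Ω)⁻¹, _⟩
      rw [show τ⁻¹ * a x * τ = reg S s * (ρ⁻¹ * a x * ρ) * (reg S s)⁻¹ by rw [hs]; group, hρ, ← map_inv,
        ← map_mul, ← map_mul]
      rfl
  induction L with
  | nil => intro u hu _ τ hτ; exact hshift hψ₀ σ τ (hτ.trans hu) ha
  | cons l L ih =>
    intro u hu hfix τ hτ
    obtain ⟨⟨⟨m, c⟩, dir⟩, hl⟩ : ∃ l', l' = l := ⟨_, rfl⟩
    obtain ⟨c, rfl⟩ := QuotientGroup.mk_surjective c
    subst hl
    obtain ⟨hu1, hu2⟩ := hu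
    have hfix' := fun l hl => hfix l (List.mem_cons_of_mem _ hl)
    have hq : ∀ x : P, ∃ q : ↥S, (q : Ω) ∈ m.1 ∧ c⁻¹ * a x * c = reg S q := fun x => by
      have h := hfix _ List.mem_cons_self x
      simp only [Sigma.smul_mk, MulAction.Quotient.smul_coe, smul_eq_mul] at h
      have h' := QuotientGroup.eq.1 (eq_of_heq (Sigma.mk.inj_iff.1 h).2).symm
      rw [← mul_assoc] at h'
      obtain ⟨q, hq, he⟩ := h'
      exact ⟨q, hq, he.symm⟩
    cases dir with
    | true =>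
      obtain ⟨ψ, hψ, hψe⟩ := ih _ hu2 hfix' (c * (perm m)⁻¹) rfl
      have key : ∀ x : P, ∃ hq : (ψ x) ∈ m.2.1.range, ∀ q : ↥S, (q : Ω) ∈ m.1 → c⁻¹ * a x * c = reg S q →
          ∀ hqm : (q : Ω) ∈ m.1, ψ x = m.2.1 ⟨q, hqm⟩ := fun x => by
        obtain ⟨q, hqm, hqe⟩ := hq x
        have e : ∀ q : ↥S, c⁻¹ * a x * c = reg S q → ∀ hqm : (q : Ω) ∈ m.1, ψ x = m.2.1 ⟨q, hqm⟩ := by
          intro q hqe hqm
          refine congrArg Subtype.val (reg_injective S (a₁ := ⟨ψ x, hom_mem hψ x⟩) (a₂ := val m q hqm) ?_)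
          rw [← hψe, ← perm_spec m q hqm, ← hqe]
          group
        exact ⟨⟨⟨q, hqm⟩, (e q hqe hqm).symm⟩, fun q _ => e q⟩
      obtain ⟨χ, hχ, hχe⟩ := F.inv_mem m.2.2
      have hr : ∀ x : P, ψ x ∈ m.2.1.range := fun x => (key x).fst
      refine hshift (F.comp_mem hψ hχ hr) c τ (hτ.trans hu1.symm) fun x => ?_
      obtain ⟨q, hqm, hqe⟩ := hq x
      rw [hqe]
      refine congrArg (reg S) (Subtype.ext ?_)
      show (q : Ω) = χ ⟨ψ x, hr x⟩
      have e : (⟨ψ x, hr x⟩ : m.2.1.range) = ⟨m.2.1 ⟨q, hqm⟩, ⟨_, rfl⟩⟩ :=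
        Subtype.ext ((key x).snd q hqm hqe hqm)
      rw [e, hχe]
    | false =>
      obtain ⟨ψ, hψ, hψe⟩ := ih _ hu2 hfix' c rfl
      have hr : ∀ x : P, ψ x ∈ m.1 := fun x => by
        obtain ⟨q, hqm, hqe⟩ := hq x
        have : (⟨ψ x, hom_mem hψ x⟩ : ↥S) = q := reg_injective S ((hψe x).symm.trans hqe)
        rw [← this] at hqm
        exact hqm
      refine hshift (F.comp_mem hψ m.2.2 hr) (c * (perm m)⁻¹) τ (hτ.trans hu1.symm) fun x => ?_
      rw [show reg S ⟨(m.2.1.comp (ψ.codRestrict m.1 hr)) x, _⟩ =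
        reg S (val m ⟨ψ x, hom_mem hψ x⟩ (hr x)) from rfl, ← perm_spec, ← hψe]
      group

/-- The main theorem. -/
theorem exists_virtually_free (F : FusionSystem S) :
    ∃ (G : Type u) (_ : Group G) (ι : ↥S →* G), F.IsRealizedBy ι ∧
      (∀ H : Subgroup G, Finite ↥H → ∃ g : G, ∀ h ∈ H, g * h * g⁻¹ ∈ ι.range) ∧
      ∃ N : Subgroup G, N.Normal ∧ IsFreeGroup ↥N ∧ N.index ∣ (Nat.card ↥S).factorial := by
  classical
  refine ⟨realizer F, inferInstance, emb F, ⟨?_, fun P hP φ hφS => ⟨fun hφ => ?_, ?_⟩⟩, fun H hfin => ?_, ?_⟩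
  · exact fun a b h => reg_injective S (SemidirectProduct.inr_injective (congrArg Subtype.val h))
  · let m : Mor F := ⟨P, φ, hφ⟩
    let e₀ : Edge F := ⟨m, ((1 : Equiv.Perm ↥S) : Equiv.Perm ↥S ⧸ edgeStab m)⟩
    have hmem : (⟨letter (e₀, true), (perm m)⁻¹⟩ :
        FreeGroup (Edge F) ⋊[act (Equiv.Perm ↥S) (Edge F)] Equiv.Perm ↥S) ∈ realizer F := by
      refine (mem_lifts _ _ srcF_smul tgtF_smul).2 ?_
      have := path_letter (srcF (F := F)) tgtF (e₀, true)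
      convert this using 1
      · rfl
      show (((perm m)⁻¹ * 1 : Equiv.Perm ↥S) : Vert S) = ((1 * (perm m)⁻¹ : Equiv.Perm ↥S) : Vert S)
      rw [mul_one, one_mul]
    refine ⟨⟨_, hmem⟩⁻¹, fun x => ?_⟩
    rw [inv_inv, mul_assoc, eq_inv_mul_iff_mul_eq]
    refine Subtype.ext (SemidirectProduct.ext ?_ ?_)
    · show letter (e₀, true) * act (Equiv.Perm ↥S) (Edge F) (perm m)⁻¹ 1 =
        1 * act (Equiv.Perm ↥S) (Edge F) (reg S ⟨x, hP x.2⟩) (letter (e₀, true))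
      rw [map_one, mul_one, one_mul, act_letter]
      refine congrArg (fun e => letter (e, true)) ?_
      refine Sigma.ext rfl (heq_of_eq (QuotientGroup.eq.2 ?_))
      show (1 : Equiv.Perm ↥S)⁻¹ * (reg S ⟨x, hP x.2⟩ * 1) ∈ edgeStab m
      rw [inv_one, one_mul, mul_one]
      exact Subgroup.mem_map_of_mem _ x.2
    · show (perm m)⁻¹ * reg S ⟨φ x, hφS x⟩ = reg S ⟨x, hP x.2⟩ * (perm m)⁻¹
      rw [show reg S ⟨φ x, hφS x⟩ = reg S (val m ⟨x, hP x.2⟩ x.2) from rfl, ← perm_spec]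
      group
  · rintro ⟨g, hg⟩
    have he : ∀ x : P, (g : FreeGroup (Edge F) ⋊[act _ (Edge F)] Equiv.Perm ↥S).right * reg S ⟨x, hP x.2⟩ =
        reg S ⟨φ x, hφS x⟩ * (g : FreeGroup (Edge F) ⋊[act _ (Edge F)] Equiv.Perm ↥S).right ∧
        act _ (Edge F) (reg S ⟨φ x, hφS x⟩) (g : FreeGroup (Edge F) ⋊[act _ (Edge F)] Equiv.Perm ↥S).left =
          (g : FreeGroup (Edge F) ⋊[act _ (Edge F)] Equiv.Perm ↥S).left := fun x => by
      have h := congrArg Subtype.val (eq_mul_inv_iff_mul_eq.1 (hg x)).symm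
      refine ⟨congrArg SemidirectProduct.right h, ?_⟩
      have h' : (g : FreeGroup (Edge F) ⋊[act _ (Edge F)] Equiv.Perm ↥S).left * act _ (Edge F)
          (g : FreeGroup (Edge F) ⋊[act _ (Edge F)] Equiv.Perm ↥S).right 1 =
          1 * act _ (Edge F) (reg S ⟨φ x, hφS x⟩) (g : FreeGroup (Edge F) ⋊[act _ (Edge F)] Equiv.Perm ↥S).left :=
        congrArg SemidirectProduct.left h
      rw [map_one, mul_one, one_mul] at h'
      exact h'.symm
    obtain ⟨w, hw⟩ : ∃ w, w = (g : FreeGroup (Edge F) ⋊[act _ (Edge F)] Equiv.Perm ↥S).left := ⟨_, rfl⟩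
    obtain ⟨σ, hσ⟩ : ∃ σ, σ = (g : FreeGroup (Edge F) ⋊[act _ (Edge F)] Equiv.Perm ↥S).right := ⟨_, rfl⟩
    simp only [← hw, ← hσ] at he
    have hpath : IsPath srcF tgtF ((1 : Equiv.Perm ↥S) : Vert S) w.toWord (σ : Vert S) := by
      have := (mem_lifts _ _ srcF_smul tgtF_smul).1 g.2
      rw [← hw, ← hσ, MulAction.Quotient.smul_coe, smul_eq_mul, mul_one] at this
      exact this
    have hfix : ∀ l ∈ w.toWord, ∀ x : P, reg S ⟨φ x, hφS x⟩ • l.1 = l.1 := fun l hl x => by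
      have h := congrArg FreeGroup.toWord (he x).2
      rw [toWord_act] at h
      exact congrArg Prod.fst (List.map_eq_map_iff.1 (h.trans (List.map_id _).symm) l hl)
    obtain ⟨ψ, hψ, hψe⟩ := hom_of_path (fun x : P => reg S ⟨φ x, hφS x⟩) σ P.subtype (subtype_mem F hP)
      (fun x => by rw [mul_assoc, ← (he x).1, inv_mul_cancel_left]; rfl) w.toWord _ hpath hfix 1 rfl
    refine hom_congr hψ fun x => ?_
    have := hψe x
    rw [inv_one, one_mul, mul_one] at this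
    exact congrArg Subtype.val (reg_injective S this)
  · haveI := hfin
    obtain ⟨x, v, hx, hH⟩ := exists_fixed (Γ := Equiv.Perm ↥S) (srcF (F := F)) tgtF srcF_smul tgtF_smul _ H
    obtain ⟨τ, rfl⟩ := QuotientGroup.mk_surjective v
    have hmem : (⟨x, τ⟩ : FreeGroup (Edge F) ⋊[act (Equiv.Perm ↥S) (Edge F)] Equiv.Perm ↥S) ∈ realizer F := by
      refine (mem_lifts _ _ srcF_smul tgtF_smul).2 ?_
      rw [MulAction.Quotient.smul_coe, smul_eq_mul, mul_one]
      exact hx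
    refine ⟨⟨_, hmem⟩⁻¹, fun h hh => ?_⟩
    obtain ⟨h1, h2⟩ := hH h hh
    obtain ⟨s, hs⟩ := QuotientGroup.eq.1 h2.symm
    refine ⟨s, ?_⟩
    rw [inv_inv, mul_assoc, eq_inv_mul_iff_mul_eq]
    refine Subtype.ext (SemidirectProduct.ext ?_ ?_)
    · show x * act (Equiv.Perm ↥S) (Edge F) τ 1 = (h.1.left * act (Equiv.Perm ↥S) (Edge F) h.1.right x)
      rw [map_one, mul_one, h1]
    · show τ * reg S s = h.1.right * τ
      rw [hs]
      simp only [smul_eq_mul]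
      group
  · obtain ⟨N, hN, hfree, hidx⟩ :=
      exists_free_normal (Γ := Equiv.Perm ↥S) (srcF (F := F)) tgtF srcF_smul tgtF_smul
        ((1 : Equiv.Perm ↥S) : Vert S)
    exact ⟨N, hN, hfree, by rwa [Nat.card_perm] at hidx⟩

end Cfsg.Lib.FusionSys.FreeRealize
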