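import Mathlib.GroupTheory.FreeGroup.Reduce
import Mathlib.GroupTheory.FreeGroup.NielsenSchreier
import Mathlib.GroupTheory.SemidirectProduct
import Mathlib.GroupTheory.GroupAction.Basic
import Mathlib.Data.Fintype.Perm
import Mathlib.Tactic.Group

/-!
The group of lifts of an action on a graph to the covering tree: pairs of a path from a base vertex and a group
element carrying the base vertex to the end of the path.
-/

set_option autoImplicit false
set_option linter.unusedSectionVars false

namespace Cfsg.Lib.FusionSys.FreeRealize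

universe u v

variable {E : Type u}

/-- The reduced word of a product whose factors start differently. -/
theorem toWord_inv_mul [DecidableEq E] {a b : FreeGroup E}
    (h : ∀ x ∈ a.toWord.head?, ∀ y ∈ b.toWord.head?, x ≠ y) :
    (a⁻¹ * b).toWord = FreeGroup.invRev a.toWord ++ b.toWord := by
  rw [FreeGroup.toWord_mul, FreeGroup.toWord_inv]
  refine FreeGroup.IsReduced.reduce_eq (List.isChain_append.2 ⟨?_, FreeGroup.isReduced_toWord, ?_⟩)
  · have h1 := FreeGroup.isReduced_toWord (x := a⁻¹)
    rwa [FreeGroup.toWord_inv] at h1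
  · intro x hx y hy h1
    rw [FreeGroup.invRev, List.getLast?_reverse, List.head?_map] at hx
    obtain ⟨x', hx', rfl⟩ := Option.map_eq_some_iff.1 hx
    have h3 := h x' hx' y hy
    obtain ⟨e, c⟩ := x'
    obtain ⟨e', c'⟩ := y
    cases c <;> cases c' <;> simp_all

/-- A letter as an element. -/
def letter (l : E × Bool) : FreeGroup E := FreeGroup.mk [l]

theorem toWord_letter [DecidableEq E] (l : E × Bool) : (letter l).toWord = [l] := by
  rw [letter, FreeGroup.toWord_mk]
  rfl

theorem norm_letter_inv_mul [DecidableEq E] (l : E × Bool) (A : FreeGroup E) :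
    (∃ A' : FreeGroup E, A.toWord = l :: A'.toWord ∧ (letter l)⁻¹ * A = A') ∨
      ((∀ y ∈ A.toWord.head?, l ≠ y) ∧ ((letter l)⁻¹ * A).norm = A.norm + 1) := by
  by_cases h : ∀ y ∈ A.toWord.head?, l ≠ y
  · refine Or.inr ⟨h, ?_⟩
    rw [FreeGroup.norm, FreeGroup.norm, toWord_inv_mul (by rw [toWord_letter]; simpa using h), toWord_letter]
    simp [FreeGroup.invRev, Nat.add_comm]
  · left
    push Not at h
    obtain ⟨y, hy, rfl⟩ := h
    cases hA : A.toWord with
    | nil => rw [hA] at hy; simp at hy
    | cons z t =>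
      rw [hA] at hy
      obtain rfl : z = l := by simpa using hy
      have hred : FreeGroup.IsReduced t := (hA ▸ FreeGroup.isReduced_toWord (x := A) :
        FreeGroup.IsReduced (z :: t)).tail
      refine ⟨FreeGroup.mk t, by rw [FreeGroup.toWord_mk, hred.reduce_eq], ?_⟩
      rw [inv_mul_eq_iff_eq_mul, letter, FreeGroup.mul_mk, List.singleton_append, ← hA, FreeGroup.mk_toWord]

section Graph

variable {V : Type v} (src tgt : E → V)

/-- The start of a letter. -/
def start (l : E × Bool) : V := if l.2 then src l.1 else tgt l.1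

/-- The end of a letter. -/
def stop (l : E × Bool) : V := if l.2 then tgt l.1 else src l.1

/-- A word is a path from one vertex to another. -/
def IsPath : V → List (E × Bool) → V → Prop
  | u, [], w => u = w
  | u, l :: L, w => start src tgt l = u ∧ IsPath (stop src tgt l) L w

theorem isPath_append {u w : V} {L₁ L₂ : List (E × Bool)} :
    IsPath src tgt u (L₁ ++ L₂) w ↔ ∃ m, IsPath src tgt u L₁ m ∧ IsPath src tgt m L₂ w := by
  induction L₁ generalizing u with
  | nil => exact ⟨fun h => ⟨u, rfl, h⟩, fun ⟨m, h1, h2⟩ => by cases h1; exact h2⟩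
  | cons l L ih =>
    simp only [List.cons_append, IsPath, ih]
    exact ⟨fun ⟨a, m, b, c⟩ => ⟨m, ⟨a, b⟩, c⟩, fun ⟨m, ⟨a, b⟩, c⟩ => ⟨a, m, b, c⟩⟩

theorem isPath_invRev {u w : V} {L : List (E × Bool)} (h : IsPath src tgt u L w) :
    IsPath src tgt w (FreeGroup.invRev L) u := by
  induction L generalizing u with
  | nil => exact (show u = w from h).symm
  | cons l L ih =>
    have e : FreeGroup.invRev (l :: L) = FreeGroup.invRev L ++ [(l.1, !l.2)] := by simp [FreeGroup.invRev]
    rw [e, isPath_append]
    refine ⟨_, ih h.2, ?_, ?_⟩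
    · obtain ⟨e, c⟩ := l
      cases c <;> rfl
    · obtain ⟨e, c⟩ := l
      cases c <;> exact h.1

theorem isPath_of_red {L L' : List (E × Bool)} (hr : FreeGroup.Red L L') {u w : V}
    (h : IsPath src tgt u L w) : IsPath src tgt u L' w := by
  induction hr with
  | refl => exact h
  | tail _ hstep ih =>
    cases hstep with
    | @not L₁ L₂ x b =>
      obtain ⟨m, h1, ha, hb, h2⟩ := (isPath_append src tgt).1 ih
      refine (isPath_append src tgt).2 ⟨m, h1, ?_⟩
      have : stop src tgt (x, !b) = m := by rw [← ha]; cases b <;> rfl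
      rwa [this] at h2

variable [DecidableEq E]

/-- An element is a path from one vertex to another. -/
def Path (u : V) (x : FreeGroup E) (w : V) : Prop := IsPath src tgt u x.toWord w

theorem path_one (u : V) : Path src tgt u 1 u := by
  unfold Path
  rw [FreeGroup.toWord_one]
  rfl

theorem path_mul {u m w : V} {x y : FreeGroup E} (hx : Path src tgt u x m) (hy : Path src tgt m y w) :
    Path src tgt u (x * y) w := by
  unfold Path
  rw [FreeGroup.toWord_mul]
  exact isPath_of_red src tgt FreeGroup.reduce.red ((isPath_append src tgt).2 ⟨m, hx, hy⟩)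

theorem path_inv {u w : V} {x : FreeGroup E} (hx : Path src tgt u x w) : Path src tgt w x⁻¹ u := by
  unfold Path
  rw [FreeGroup.toWord_inv]
  exact isPath_invRev src tgt hx

theorem path_letter (l : E × Bool) : Path src tgt (start src tgt l) (letter l) (stop src tgt l) := by
  unfold Path
  rw [toWord_letter]
  exact ⟨rfl, rfl⟩

end Graph

/-- The permutations of the letters as automorphisms of the free group. -/
def act (Γ : Type v) (E : Type u) [Group Γ] [MulAction Γ E] : Γ →* MulAut (FreeGroup E) where
  toFun σ := FreeGroup.freeGroupCongr (MulAction.toPerm σ)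
  map_one' := MulEquiv.ext fun x => by
    show FreeGroup.map _ x = x
    rw [show ((MulAction.toPerm (1 : Γ) : Equiv.Perm E) : E → E) = id from funext fun e => one_smul Γ e,
      FreeGroup.map.id]
  map_mul' σ τ := MulEquiv.ext fun x => by
    show FreeGroup.map _ x = FreeGroup.map _ (FreeGroup.map _ x)
    rw [FreeGroup.map.comp]
    congr 2
    funext e
    exact mul_smul σ τ e

variable {Γ : Type v} [Group Γ] [MulAction Γ E] [DecidableEq E]

theorem toWord_act (σ : Γ) (x : FreeGroup E) :
    (act Γ E σ x).toWord = x.toWord.map fun l => (σ • l.1, l.2) := by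
  have h : FreeGroup.IsReduced (x.toWord.map fun l => (σ • l.1, l.2)) := by
    refine (List.isChain_map _).2 (List.IsChain.imp (fun a b h h' => h ?_) (FreeGroup.isReduced_toWord (x := x)))
    exact MulAction.injective σ h'
  rw [← h.reduce_eq, ← FreeGroup.toWord_mk, ← FreeGroup.map.mk, FreeGroup.mk_toWord]
  rfl

theorem act_letter (σ : Γ) (l : E × Bool) : act Γ E σ (letter l) = letter (σ • l.1, l.2) := rfl

theorem norm_act (σ : Γ) (x : FreeGroup E) : (act Γ E σ x).norm = x.norm := by
  rw [FreeGroup.norm, FreeGroup.norm, toWord_act, List.length_map]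

section Lifts

variable {V : Type v} [MulAction Γ V] (src tgt : E → V)
  (hs : ∀ (σ : Γ) e, src (σ • e) = σ • src e) (ht : ∀ (σ : Γ) e, tgt (σ • e) = σ • tgt e)

include hs ht

theorem path_act (σ : Γ) {u w : V} {x : FreeGroup E} (h : Path src tgt u x w) :
    Path src tgt (σ • u) (act Γ E σ x) (σ • w) := by
  unfold Path at h ⊢
  rw [toWord_act]
  generalize x.toWord = L at h
  induction L generalizing u with
  | nil => exact congrArg (σ • ·) (show u = w from h)
  | cons l L ih =>
    obtain ⟨h1, h2⟩ := h
    refine ⟨?_, ?_⟩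
    · rw [← h1]
      obtain ⟨e, c⟩ := l
      cases c <;> simp [start, hs, ht]
    · have := ih h2
      rwa [show stop src tgt (σ • l.1, l.2) = σ • stop src tgt l by
        obtain ⟨e, c⟩ := l
        cases c <;> simp [stop, hs, ht]]

/-- The lifts. -/
def lifts (v₀ : V) : Subgroup (FreeGroup E ⋊[act Γ E] Γ) where
  carrier := {x | Path src tgt v₀ x.left (x.right • v₀)}
  one_mem' := by simpa using path_one src tgt v₀
  mul_mem' {a b} ha hb := by
    show Path src tgt v₀ (a * b).left ((a * b).right • v₀)
    rw [SemidirectProduct.mul_left, SemidirectProduct.mul_right, mul_smul]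
    exact path_mul src tgt ha (path_act src tgt hs ht a.right hb)
  inv_mem' {a} ha := by
    show Path src tgt v₀ a⁻¹.left (a⁻¹.right • v₀)
    rw [SemidirectProduct.inv_left, SemidirectProduct.inv_right]
    have := path_act src tgt hs ht a.right⁻¹ (path_inv src tgt ha)
    rwa [inv_smul_smul] at this

theorem mem_lifts {v₀ : V} {x : FreeGroup E ⋊[act Γ E] Γ} :
    x ∈ lifts src tgt hs ht v₀ ↔ Path src tgt v₀ x.left (x.right • v₀) := Iff.rfl

/-- The kernel of the map to the acting group is free and of index dividing its order. -/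
theorem exists_free_normal (v₀ : V) : ∃ N : Subgroup (lifts src tgt hs ht v₀),
    N.Normal ∧ IsFreeGroup N ∧ N.index ∣ Nat.card Γ := by
  set f : lifts src tgt hs ht v₀ →* Γ := SemidirectProduct.rightHom.comp (Subgroup.subtype _) with hf
  have hright : ∀ x : f.ker, (x.1 : FreeGroup E ⋊[act Γ E] Γ).right = 1 := fun x => x.2
  let g : f.ker →* FreeGroup E :=
    { toFun := fun x => (x.1 : FreeGroup E ⋊[act Γ E] Γ).left
      map_one' := rfl
      map_mul' := fun a b => by
        show ((a.1 : FreeGroup E ⋊[act Γ E] Γ) * b.1).left = _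
        rw [SemidirectProduct.mul_left, hright a, map_one]
        rfl }
  have hg : Function.Injective g := fun a b h =>
    Subtype.ext (Subtype.ext (SemidirectProduct.ext h ((hright a).trans (hright b).symm)))
  refine ⟨f.ker, inferInstance, IsFreeGroup.ofMulEquiv (MonoidHom.ofInjective hg).symm, ?_⟩
  rw [Subgroup.index_ker]
  exact Subgroup.card_subgroup_dvd_card _

/-- A finite group of lifts fixes a vertex of the covering tree. -/
theorem exists_fixed (v₀ : V) (H : Subgroup (lifts src tgt hs ht v₀)) [Finite H] :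
    ∃ (x : FreeGroup E) (u : V), Path src tgt v₀ x u ∧ ∀ h ∈ H,
      (h : FreeGroup E ⋊[act Γ E] Γ).left * act Γ E (h : FreeGroup E ⋊[act Γ E] Γ).right x = x ∧
      (h : FreeGroup E ⋊[act Γ E] Γ).right • u = u := by
  classical
  letI : Fintype H := Fintype.ofFinite _
  let X : Type _ := {p : FreeGroup E × V // Path src tgt v₀ p.1 p.2}
  let O : Finset (FreeGroup E) :=
    Finset.univ.image fun h : H => ((h.1 : FreeGroup E ⋊[act Γ E] Γ)).left
  have hO : O.Nonempty := ⟨_, Finset.mem_image_of_mem _ (Finset.mem_univ (1 : H))⟩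
  let f : FreeGroup E → ℕ := fun x => O.sup' hO fun o => (x⁻¹ * o).norm
  have hle : ∀ x, ∀ o ∈ O, (x⁻¹ * o).norm ≤ f x := fun x o ho => Finset.le_sup' (fun o => (x⁻¹ * o).norm) ho
  have hex : ∃ r, ∃ p : X, f p.1.1 = r := ⟨_, ⟨(1, v₀), path_one src tgt v₀⟩, rfl⟩
  obtain ⟨⟨⟨x, u⟩, hp⟩, hxR⟩ := Nat.find_spec hex
  have hmin : ∀ p : X, f x ≤ f p.1.1 := fun p => hxR.le.trans (Nat.find_min' hex ⟨p, rfl⟩)
  refine ⟨x, u, hp, fun h hh => ?_⟩
  obtain ⟨ω, hω⟩ : ∃ ω, ω = ((h : FreeGroup E ⋊[act Γ E] Γ)).left := ⟨_, rfl⟩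
  obtain ⟨σ, hσ⟩ : ∃ σ, σ = ((h : FreeGroup E ⋊[act Γ E] Γ)).right := ⟨_, rfl⟩
  rw [← hω, ← hσ]
  have himg : ∀ {z : FreeGroup E} {w : V}, Path src tgt v₀ z w →
      Path src tgt v₀ (ω * act Γ E σ z) (σ • w) := fun hz =>
    path_mul src tgt (hω ▸ hσ ▸ (mem_lifts src tgt hs ht).1 h.2) (path_act src tgt hs ht σ hz)
  have hiso : ∀ z z' : FreeGroup E,
      ((ω * act Γ E σ z)⁻¹ * (ω * act Γ E σ z')).norm = (z⁻¹ * z').norm := fun z z' => by
    rw [show (ω * act Γ E σ z)⁻¹ * (ω * act Γ E σ z') = (act Γ E σ z)⁻¹ * act Γ E σ z' by group, ← map_inv,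
      ← map_mul, norm_act]
  have hfle : ∀ z : FreeGroup E, f (ω * act Γ E σ z) ≤ f z := fun z => by
    refine Finset.sup'_le _ _ fun o ho => ?_
    obtain ⟨k, -, rfl⟩ := Finset.mem_image.1 ho
    have e : ((k.1 : FreeGroup E ⋊[act Γ E] Γ)).left =
        ω * act Γ E σ ((((⟨h, hh⟩ : H)⁻¹ * k : H).1 : FreeGroup E ⋊[act Γ E] Γ)).left := by
      have e1 : (k.1 : FreeGroup E ⋊[act Γ E] Γ) =
          (h : FreeGroup E ⋊[act Γ E] Γ) * (((⟨h, hh⟩ : H)⁻¹ * k : H).1 : FreeGroup E ⋊[act Γ E] Γ) := by simp
      rw [hω, hσ, ← SemidirectProduct.mul_left, ← e1]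
    rw [e, hiso]
    exact hle z _ (Finset.mem_image_of_mem _ (Finset.mem_univ _))
  -- two minimal points are adjacent
  have hadj : ∀ (y : FreeGroup E) (w : V), Path src tgt v₀ y w → f y ≤ f x → (x⁻¹ * y).norm ≤ 1 := by
    intro y w hy hfy
    by_contra hlt
    push Not at hlt
    cases hA : (x⁻¹ * y).toWord with
    | nil => rw [FreeGroup.norm, hA] at hlt; simp at hlt
    | cons l t =>
      have hlen : 1 ≤ t.length := by rw [FreeGroup.norm, hA] at hlt; simp only [List.length_cons] at hlt; omega
      have hpath := path_mul src tgt (path_inv src tgt hp) hy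
      unfold Path at hpath
      rw [hA] at hpath
      have hm : Path src tgt v₀ (x * letter l) (stop src tgt l) := path_mul src tgt hp (by
        rw [← hpath.1]; exact path_letter src tgt l)
      have hlt2 : f (x * letter l) < f x := by
        refine (Finset.sup'_lt_iff _).2 fun o ho => ?_
        rw [_root_.mul_inv_rev, mul_assoc]
        rcases norm_letter_inv_mul l (x⁻¹ * o) with ⟨A', hA', he⟩ | ⟨hne, he⟩
        · rw [he]
          have := hle x o ho
          rw [FreeGroup.norm, hA', List.length_cons] at this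
          show A'.toWord.length < _
          omega
        · rw [he]
          have h1 : (y⁻¹ * o).norm = (x⁻¹ * y).norm + (x⁻¹ * o).norm := by
            rw [show y⁻¹ * o = (x⁻¹ * y)⁻¹ * (x⁻¹ * o) by group, FreeGroup.norm, toWord_inv_mul (by
              rw [hA]; simpa using hne), List.length_append, FreeGroup.invRev_length]
            rfl
          have := hle y o ho
          omega
      exact absurd hlt2 (not_lt.2 (hmin ⟨(x * letter l, stop src tgt l), hm⟩))
  set y := ω * act Γ E σ x with hy
  have hyp : Path src tgt v₀ y (σ • u) := himg hp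
  have hzp := himg hyp
  have h1 := hadj y _ hyp (hfle x)
  have h2 := hadj _ _ hzp ((hfle y).trans (hfle x))
  set d := x⁻¹ * y with hd
  have hp1 : Path src tgt u d (σ • u) := path_mul src tgt (path_inv src tgt hp) hyp
  cases hA : d.toWord with
  | nil =>
    have hd1 : d = 1 := FreeGroup.toWord_eq_nil_iff.1 hA
    refine ⟨(inv_mul_eq_one.1 (hd ▸ hd1)).symm, ?_⟩
    unfold Path at hp1
    rw [hA] at hp1
    exact hp1.symm
  | cons l t =>
    exfalso
    have ht : t = [] := by
      rw [FreeGroup.norm, hA] at h1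
      exact List.length_eq_zero_iff.1 (by simpa using h1)
    subst ht
    have hd' : d = letter l := FreeGroup.toWord_injective (by rw [hA, toWord_letter])
    have e : x⁻¹ * (ω * act Γ E σ y) = d * act Γ E σ d := by
      rw [show y = x * d by rw [hd]; group, map_mul, ← mul_assoc ω, ← hy]
      simp only [hd]
      group
    rw [e, hd', act_letter, letter, letter, FreeGroup.mul_mk, FreeGroup.norm, FreeGroup.toWord_mk,
      List.singleton_append] at h2
    have hred : FreeGroup.IsReduced [l, (σ • l.1, l.2)] := by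
      refine List.isChain_pair.2 fun _ => rfl
    rw [hred.reduce_eq] at h2
    simp at h2

end Lifts

end Cfsg.Lib.FusionSys.FreeRealize
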