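import Cfsg.Agent.Lib.FusionSys.CenterFactor

/-!
# Systems generated by a centralizer and the normalizer of a functor

A system containing `C_F(V)` for `V ≤ Z(S)` and `N_F(W S)` contains `F`, provided that in every model
of the normalizer of a centric subgroup the conjugations are composed of such local ones.
-/

set_option autoImplicit false
set_option linter.style.haveILetI false

universe u

namespace Cfsg.Lib.FusionSys

open Cfsg Cfsg.FusionSystem

variable {p : ℕ} {Ω : Type u} [Group Ω] {S : Subgroup Ω}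

theorem map_functorOf [Fact p.Prime] (W : ∀ (Q : Type u) [Group Q], Subgroup Q)
    (hW2 : ∀ (Q R : Type u) [Group Q] [Group R] [Finite Q], IsPGroup p Q →
      ∀ φ : Q ≃* R, (W Q).map φ.toMonoidHom = W R)
    {H : Type u} [Group H] (f : Ω →* H) (T : Subgroup Ω) [Finite T] (hT : IsPGroup p T)
    (hf : Set.InjOn f T) : (functorOf W T).map f = functorOf W (T.map f) := by
  have hinj : Function.Injective (f.subgroupMap T) := fun x y h =>
    Subtype.ext (hf x.2 y.2 (congrArg Subtype.val h))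
  let e : T ≃* T.map f :=
    MulEquiv.ofBijective (f.subgroupMap T) ⟨hinj, f.subgroupMap_surjective T⟩
  rw [functorOf, functorOf, ← hW2 T (T.map f) hT e, Subgroup.map_map, Subgroup.map_map]
  rfl

/-- Every map of `F` induced by `g` on a source inside `X` is a map of `E`. -/
def Induces (F E : FusionSystem S) {T : Subgroup Ω} {L : Type u} [Group L] (ι : T →* L)
    (X : Subgroup L) (g : L) : Prop :=
  ∀ (R : Subgroup Ω) (hR : R ≤ T), imageOf ι R ≤ X → ∀ φ ∈ F.Hom R, ∀ (hv : ∀ x, φ x ∈ T),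
    (∀ x : R, ι ⟨φ x, hv x⟩ = g * ι ⟨x, hR x.2⟩ * g⁻¹) → φ ∈ E.Hom R

/-- The condition on the model of a normalizer, for the target `E`. -/
def LocalGenerated (p : ℕ) (F E : FusionSystem S) (W : ∀ (Q : Type u) [Group Q], Subgroup Q)
    (V : Subgroup Ω) : Prop :=
  ∀ U : Subgroup Ω, F.IsFullyNormalized U → F.IsCentric U →
    ∀ N : FusionSystem (normalizerIn S U), F.IsNormalizerSystem U N →
      ∀ (L : Type u) [Group L] [Finite L] (ι : normalizerIn S U →* L), N.IsModel p L ι →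
        ∀ Ts : Sylow p L, (Ts : Subgroup L) = ι.range →
          ∀ P : Subgroup L → L → Prop,
            (∀ g, P (imageOf ι U) g → ∃ φ ∈ E.Hom U, ∃ hv : ∀ x : U, φ x ∈ normalizerIn S U,
              ∀ (x : U) (hx : (x : Ω) ∈ normalizerIn S U), ι ⟨φ x, hv x⟩ = g * ι ⟨x, hx⟩ * g⁻¹) →
            (∀ X a b, X ≤ (Ts : Subgroup L) → X.map (MulAut.conj a).toMonoidHom ≤ Ts →
              X.map (MulAut.conj (b * a)).toMonoidHom ≤ Ts → P X a →
              P (X.map (MulAut.conj a).toMonoidHom) b → P X (b * a)) →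
            (∀ X a, X ≤ (Ts : Subgroup L) → X.map (MulAut.conj a).toMonoidHom ≤ Ts →
              a ∈ Subgroup.centralizer (imageOf ι V : Set L) → P X a) →
            (∀ X a, X ≤ (Ts : Subgroup L) → X.map (MulAut.conj a).toMonoidHom ≤ Ts →
              a ∈ Subgroup.normalizer (functorOf W (Ts : Subgroup L) : Set L) → P X a) →
            ∀ X a, X ≤ (Ts : Subgroup L) → X.map (MulAut.conj a).toMonoidHom ≤ Ts → P X a

variable [Finite S] [Fact p.Prime]

/-- A map of `F` fixing `V` pointwise lies in a system containing `C_F(V)`. -/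
theorem mem_of_fix {F E : FusionSystem S} {V R : Subgroup Ω}
    (hV : V ≤ S ⊓ Subgroup.centralizer (S : Set Ω))
    (hC : ∀ R, F.centralizerHom V R ⊆ E.Hom R) {φ : R →* Ω} (hφ : φ ∈ F.Hom R) (hVR : V ≤ R)
    (hfix : ∀ (v : Ω) (hv : v ∈ V), φ ⟨v, hVR hv⟩ = v) : φ ∈ E.Hom R := by
  have hcen : ∀ y ∈ S, y ∈ centralizerIn S V := fun y hy => mem_centralizerIn.2 ⟨hy, fun v hv =>
    Subgroup.mem_centralizer_iff.1 (hV hv).2 y hy⟩
  exact hC R ⟨hφ, fun y hy => hcen y (hom_le hφ hy), fun y => hcen _ (hom_mem hφ y), _,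
    restrict_mem hφ (sup_le le_rfl hVR), fun _ => rfl, fun v => hfix v v.2⟩

/-- A system containing `C_F(V)` and `N_F(W S)` contains `F`. -/
theorem le_of_functor (hS : IsPGroup p S) {F : FusionSystem S} (hF : F.IsSaturated p)
    (W : ∀ (Q : Type u) [Group Q], Subgroup Q)
    (hW2 : ∀ (Q R : Type u) [Group Q] [Group R] [Finite Q], IsPGroup p Q →
      ∀ φ : Q ≃* R, (W Q).map φ.toMonoidHom = W R)
    (hWZ : ∀ (Q : Type u) [Group Q] [Finite Q], IsPGroup p Q → Subgroup.center Q ≤ W Q)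
    {V : Subgroup Ω} (hV : V ≤ S ⊓ Subgroup.centralizer (S : Set Ω)) (E : FusionSystem S)
    (hC : ∀ R, F.centralizerHom V R ⊆ E.Hom R)
    (hN : ∀ R, F.normalizerHom (functorOf W S) R ⊆ E.Hom R)
    (hgrp : LocalGenerated p F E W V) : F ≤ E := by
  refine le_of_autGroup_le' hS hF E fun P hP hbig α hα => ?_
  have hPS : P ≤ S := by rcases hP with rfl | hP; exacts [le_rfl, hP.1.1]
  refine (mem_autGroup hPS).2 ?_
  have hi : IsoIn F α := (mem_autGroup hPS).1 hα
  show P.subtype.comp α.toMonoidHom ∈ E.Hom P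
  by_cases hPtop : P = S
  · subst hPtop
    obtain ⟨hWS, hchar⟩ := functorOf_char W hW2 P hS
    refine hN P ⟨hi, ?_, ?_, _, restrict_mem hi (sup_le le_rfl hWS), fun _ => rfl, ?_⟩
    · rw [normalizerIn_eq_self (Subgroup.le_normalizer.trans (le_normalizer_of_char hWS hchar))]
    · intro x
      rw [normalizerIn_eq_self (Subgroup.le_normalizer.trans (le_normalizer_of_char hWS hchar))]
      exact (α x).2
    · refine range_restrict_eq (F := F) hWS (restrict_mem hi (sup_le le_rfl hWS)) le_sup_right ?_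
      intro x hx
      exact (Subgroup.characteristic_iff_map_eq.1 hchar α).le ⟨⟨x, hWS hx⟩, hx, rfl⟩
  have hPe : F.IsEssential p P := hP.resolve_left hPtop
  haveI := finite_of_le hPS
  have hPN : Nat.card P < Nat.card (normalizerIn S P) := by
    haveI := finite_of_le (normalizerIn_le (S := S) P)
    refine lt_of_not_ge fun h => (lt_normalizerIn hS (lt_of_le_of_ne hPS hPtop)).ne ?_
    exact Subgroup.eq_of_le_of_card_ge (le_normalizerIn hPS) h
  suffices key : ∀ (m : ℕ) (U : Subgroup Ω), F.IsFullyNormalized U → F.IsCentric U →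
      Nat.card P < Nat.card (normalizerIn S U) → Nat.card S < Nat.card (normalizerIn S U) + m →
      ∀ R, F.normalizerHom U R ⊆ E.Hom R by
    refine key (Nat.card S + 1) P hPe.2.1 hPe.1 hPN (by omega) P ⟨hi, le_normalizerIn hPS,
      fun x => le_normalizerIn hPS (α x).2, _, restrict_mem hi (sup_le le_rfl le_rfl),
      fun _ => rfl, ?_⟩
    exact range_restrict_eq (F := F) hPS (restrict_mem hi (sup_le le_rfl le_rfl)) le_sup_right
      fun x hx => (α _).2
  intro m
  induction m with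
  | zero =>
    intro U _ _ _ hlt
    exact absurd (card_le_of_le (normalizerIn_le (S := S) U)) (by omega)
  | succ m ih =>
    intro U hUn hUc hUP hlt R φ hφ
    obtain ⟨N, hN', L, hLg, ι, hL⟩ := exists_normalizer_model.{u} hS hF hUn hUc
    haveI := hL.1
    obtain ⟨Ts, hTs⟩ := id hL.2.2.1
    let T := normalizerIn S U
    have hTc : Nat.card T = Nat.card (normalizerIn S U) := rfl
    have hTS : T ≤ S := normalizerIn_le U
    haveI := finite_of_le hTS
    have hUT : U ≤ T := le_normalizerIn hUn.1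
    have hTp : IsPGroup p T := hS.to_le hTS
    have hinj := hL.2.1.1
    have hVU : V ≤ U := fun v hv => hUc.2 U (isConj_refl F hUn.1)
      (mem_centralizerIn.2 ⟨(hV hv).1, fun y hy =>
        (Subgroup.mem_centralizer_iff.1 (hV hv).2 y (hUn.1 hy)).symm⟩)
    haveI hUimg : (imageOf ι U).Normal := imageOf_normal hL (isNormal_normalizerSystem hUn.1 hN')
    obtain ⟨hJT, hJchar⟩ := functorOf_char W hW2 T hTp
    set J := functorOf W T with hJdef
    have hJimg : functorOf W (Ts : Subgroup L) = imageOf ι J := by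
      rw [hTs, MonoidHom.range_eq_map,
        ← map_functorOf W hW2 ι ⊤ (hTp.to_subgroup _) hinj.injOn, imageOf]
      congr 1
      refine Subgroup.map_injective T.subtype_injective ?_
      rw [Subgroup.map_subgroupOf_eq_of_le hJT,
        map_functorOf W hW2 T.subtype ⊤ (hTp.to_subgroup _) T.subtype_injective.injOn,
        ← MonoidHom.range_eq_map, Subgroup.range_subtype]
    -- maps of `N_F(J)` on `T`
    have hstep : ∀ (X : Subgroup Ω) (ψ : X →* Ω), ψ ∈ F.Hom X → X ≤ T → (∀ x, ψ x ∈ T) →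
        U ≤ X → J ≤ X → (∀ x : X, (x : Ω) ∈ J → ψ x ∈ J) → ψ ∈ E.Hom X := by
      intro X ψ hψ hXT hψT hUX hJX hψJ
      have hψN : ψ ∈ F.normalizerHom J X := by
        have hTN : T ≤ normalizerIn S J := fun t ht =>
          ⟨hTS ht, le_normalizer_of_char hJT hJchar (Subgroup.le_normalizer ht)⟩
        refine ⟨hψ, hXT.trans hTN, fun x => hTN (hψT x), _, restrict_mem hψ (sup_le le_rfl hJX),
          fun _ => rfl, ?_⟩
        exact range_restrict_eq (F := F) (hJT.trans hTS) (restrict_mem hψ (sup_le le_rfl hJX)) le_sup_right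
          fun x hx => hψJ ⟨x, hJX hx⟩ hx
      by_cases hTtop : T = S
      · refine hN X ?_
        have he : functorOf W S = J := congrArg (fun Q : Subgroup Ω => functorOf W Q) hTtop.symm
        rw [he]
        exact hψN
      -- push `J` to a fully normalized conjugate
      have hJS : J ≤ S := hJT.trans hTS
      have hlt' : Nat.card T < Nat.card (normalizerIn S J) := by
        have h1 : normalizerIn S T ≤ normalizerIn S J := fun g hg =>
          ⟨hg.1, le_normalizer_of_char hJT hJchar hg.2⟩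
        haveI := finite_of_le (normalizerIn_le (S := S) T)
        haveI := finite_of_le (normalizerIn_le (S := S) J)
        refine lt_of_lt_of_le ?_ (Subgroup.card_le_of_le h1)
        refine lt_of_not_ge fun h => (lt_normalizerIn hS (lt_of_le_of_ne hTS hTtop)).ne ?_
        exact Subgroup.eq_of_le_of_card_ge (le_normalizerIn hTS) h
      obtain ⟨W₂, hconj, hn₂⟩ := exists_isFullyNormalized F hJS
      obtain ⟨χ, hχ, hχv, hχW⟩ := exists_map_to_fn hS hF hn₂ hconj
      have hTNJ : T ≤ normalizerIn S J := fun t ht =>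
        ⟨hTS ht, le_normalizer_of_char hJT hJchar (Subgroup.le_normalizer ht)⟩
      have hχE : χ ∈ E.Hom (normalizerIn S J) := hbig _ (by omega) hχ
      -- `V ≤ W₂`
      set χT := χ.comp (Subgroup.inclusion hTNJ) with hχTdef
      have hχTm : χT ∈ F.Hom T := restrict_mem hχ hTNJ
      have hVW₂ : V ≤ W₂ := by
        set χU := χT.comp (Subgroup.inclusion hUT) with hχU
        have hχUm : χU ∈ F.Hom U := restrict_mem hχTm hUT
        have hconjU : F.IsConj U χU.range := ⟨χU, hχUm, rfl⟩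
        have hrange : χT.range = normalizerIn S χU.range := by
          have hle : χT.range ≤ normalizerIn S χU.range := by
            rintro _ ⟨t, rfl⟩
            refine ⟨hom_mem hχTm t, ?_⟩
            have h1 := map_mem_normalizer (Q := U) χT t t.2.2
            rw [show (U.subgroupOf T).map χT = χU.range by
              rw [hχU, ← MonoidHom.map_range, Subgroup.inclusion_range]] at h1
            exact h1
          haveI := finite_of_le (normalizerIn_le (S := S) χU.range)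
          refine Subgroup.eq_of_le_of_card_ge hle ?_
          rw [card_range hχTm]
          exact hUn.2 _ hconjU
        intro v hv
        have hvR : v ∈ χT.range := by
          rw [hrange]
          refine centralizerIn_le_normalizerIn _ (mem_centralizerIn.2 ⟨(hV hv).1, ?_⟩)
          rintro _ ⟨y, rfl⟩
          exact (Subgroup.mem_centralizer_iff.1 (hV hv).2 _ (hom_mem hχUm y)).symm
        obtain ⟨t, ht⟩ := hvR
        have htc : t ∈ Subgroup.center T := Subgroup.mem_center_iff.2 fun s => by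
          apply F.injective_of_mem hχTm
          rw [map_mul, map_mul, ht]
          exact Subgroup.mem_centralizer_iff.1 (hV hv).2 _ (hom_mem hχTm s)
        have htJ : (t : Ω) ∈ J := ⟨t, hWZ T hTp htc, rfl⟩
        rw [← ht]
        exact hχW.le (mem_map_subgroupOf.2 ⟨t, hTNJ t.2, htJ, rfl⟩)
      -- conjugate `ψ`
      have hX : X ≤ normalizerIn S J := hXT.trans hTNJ
      let cX : X →* Ω := χ.comp (Subgroup.inclusion hX)
      have hcX : cX ∈ F.Hom X := restrict_mem hχ hX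
      set X₂ := cX.range with hX₂def
      obtain ⟨η, hη, hηr, hηe⟩ := exists_inv hcX (rfl : cX.range = cX.range)
      have hηv : ∀ y, η y ∈ X := fun y => hηr.le ⟨y, rfl⟩
      have hψv : ∀ x, ψ x ∈ normalizerIn S J := fun x => hTNJ (hψT x)
      have h1 := F.comp_mem hη hψ hηv
      set θ₁ := ψ.comp (η.codRestrict X hηv)
      have hθ₁v : ∀ y, θ₁ y ∈ normalizerIn S J := fun y => hψv _
      have h2 := F.comp_mem h1 hχ hθ₁v
      set θ := χ.comp (θ₁.codRestrict (normalizerIn S J) hθ₁v)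
      have hθe : ∀ x : X, θ ⟨cX x, x, rfl⟩ = χ ⟨ψ x, hψv x⟩ := fun x => by
        show χ ⟨ψ ⟨η ⟨cX x, _⟩, _⟩, _⟩ = _
        congr 2
        exact congrArg (fun z : X => ψ z) (Subtype.ext (hηe x ⟨x, rfl⟩))
      have hW₂X : W₂ ≤ X₂ := by
        intro z hz
        obtain ⟨x, hx, hxJ, rfl⟩ := mem_map_subgroupOf.1 (hχW.ge hz)
        exact ⟨⟨x, hJX hxJ⟩, rfl⟩
      have hX₂n : X₂ ≤ normalizerIn S W₂ := by rintro _ ⟨x, rfl⟩; exact hχv _
      -- extend the action on `W₂`
      have hfc := (isFullyAutomized_and_fc_of_fn hS hF hn₂).1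
      have hrec := isReceptive_of_fc hS hF hfc
      set θW := θ.comp (Subgroup.inclusion hW₂X) with hθWdef
      have hθWm : θW ∈ F.Hom W₂ := restrict_mem h2 hW₂X
      have hθWr : θW.range = W₂ := range_eq_of_card_le hθWm hn₂.1 (fun z => by
        obtain ⟨x, hx, hxJ, hxe⟩ := mem_map_subgroupOf.1 (hχW.ge z.2)
        have he : Subgroup.inclusion hW₂X z = ⟨cX ⟨x, hJX hxJ⟩, ⟨x, hJX hxJ⟩, rfl⟩ :=
          Subtype.ext hxe.symm
        show θ (Subgroup.inclusion hW₂X z) ∈ W₂
        rw [he, hθe]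
        exact hχW.le (mem_map_subgroupOf.2 ⟨_, _, hψJ ⟨x, hJX hxJ⟩ hxJ, rfl⟩)) le_rfl
      obtain ⟨β₀, hβ₀, hβ₀e⟩ := hrec.2 W₂ θW hθWm hθWr
      set U' := W₂ ⊔ centralizerIn S W₂ with hU'def
      have hWU : W₂ ≤ U' := le_sup_left
      have hCU : centralizerIn S W₂ ≤ U' := le_sup_right
      have hU'S : U' ≤ S := sup_le hn₂.1 (centralizerIn_le _)
      have hYe : X₂ ⊔ U' ≤ extender S W₂ θW := by
        refine sup_le (fun y hy => ?_) (sup_le (le_extender hn₂.1 (hom_mem hθWm))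
          (centralizerIn_le_extender _))
        refine mem_extender_of (hX₂n hy).1 (hX₂n hy).2 (hom_mem h2 ⟨y, hy⟩) fun x hx => ?_
        show θ _ = _ * θ _ * _
        rw [← map_inv, ← map_mul, ← map_mul]
        rfl
      have hX₂Y : X₂ ≤ X₂ ⊔ U' := le_sup_left
      have hU'Y : U' ≤ X₂ ⊔ U' := le_sup_right
      set β := β₀.comp (Subgroup.inclusion hYe) with hβdef
      have hβ : β ∈ F.Hom (X₂ ⊔ U' : Subgroup Ω) := restrict_mem hβ₀ hYe
      have hβW : ∀ (y : Ω) (hy : y ∈ W₂),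
          β ⟨y, hU'Y (hWU hy)⟩ = θ ⟨y, hW₂X hy⟩ := fun y hy => hβ₀e y hy _
      have hWmap : (W₂.subgroupOf (X₂ ⊔ U')).map β = W₂ :=
        range_restrict_eq hn₂.1 hβ (hWU.trans hU'Y) fun y hy => by
          rw [hβW y hy]
          exact hθWr.le ⟨⟨y, hy⟩, rfl⟩
      have hU'map : (U'.subgroupOf (X₂ ⊔ U')).map β = U' := by
        refine range_restrict_eq hU'S hβ hU'Y fun y hy => ?_
        have hle : U' ≤ (U'.comap β).map (X₂ ⊔ U').subtype := by
          refine sup_le (fun y hy => ⟨⟨y, hU'Y (hWU hy)⟩, ?_, rfl⟩)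
            (fun c hc => ⟨⟨c, hU'Y (hCU hc)⟩, ?_, rfl⟩)
          · exact hWU (hWmap.le (mem_map_subgroupOf.2 ⟨y, _, hy, rfl⟩))
          · refine hCU ⟨hom_mem hβ _, ?_⟩
            have h1 := map_mem_centralizer (Q := W₂) β ⟨c, hU'Y (hCU hc)⟩ (mem_centralizerIn.1 hc).2
            rwa [hWmap] at h1
        obtain ⟨y', hy', he'⟩ := hle hy
        rwa [show y' = ⟨y, hU'Y hy⟩ from Subtype.ext he'] at hy'
      have hsub : normalizerIn S W₂ ≤ normalizerIn S U' := by
        intro g hg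
        have h0 := le_normalizer_sup_centralizerIn (S := normalizerIn S W₂) (Q := W₂) (fun a ha => ha.2)
        have hC' : centralizerIn (normalizerIn S W₂) W₂ = centralizerIn S W₂ :=
          le_antisymm (fun c hc => ⟨hc.1.1, hc.2⟩)
            (fun c hc => ⟨centralizerIn_le_normalizerIn _ hc, hc.2⟩)
        rw [hC'] at h0
        exact ⟨hg.1, h0 hg⟩
      have hYn : X₂ ⊔ U' ≤ normalizerIn S U' := sup_le (hX₂n.trans hsub) (le_normalizerIn hU'S)
      have hβn : ∀ y, β y ∈ normalizerIn S U' := fun y => ⟨hom_mem hβ y, by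
        have h1 := map_mem_normalizer (Q := U') β y (hYn y.2).2
        rwa [hU'map] at h1⟩
      -- `U'` is centric
      have hcU : F.IsCentric U' := by
        refine ⟨hU'S, ?_⟩
        rintro R ⟨φ, hφ, rfl⟩ c hc
        set φW := φ.comp (Subgroup.inclusion hWU) with hφW
        have hφWm : φW ∈ F.Hom W₂ := restrict_mem hφ hWU
        haveI := finite_of_le (centralizerIn_le (S := S) φW.range)
        have hmem : ∀ a : centralizerIn S W₂,
            φ (Subgroup.inclusion hCU a) ∈ centralizerIn S φW.range := by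
          intro a
          refine mem_centralizerIn.2 ⟨hom_mem hφ _, ?_⟩
          rintro _ ⟨y, rfl⟩
          show φ _ * φ _ = φ _ * φ _
          rw [← map_mul, ← map_mul]
          exact congrArg φ (Subtype.ext ((mem_centralizerIn.1 a.2).2 y y.2))
        have hinj' : Function.Injective fun a => (⟨_, hmem a⟩ : centralizerIn S φW.range) :=
          fun a b h => Subgroup.inclusion_injective _ (F.injective_of_mem hφ (congrArg Subtype.val h))
        have hbij := hinj'.bijective_of_nat_card_le (hfc.2 _ ⟨φW, hφWm, rfl⟩)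
        obtain ⟨a, ha⟩ := hbij.2 ⟨c, hc.1, Subgroup.centralizer_le (by
          rintro _ ⟨y, rfl⟩; exact ⟨_, rfl⟩) hc.2⟩
        exact ⟨_, congrArg Subtype.val ha⟩
      have hβE : β ∈ E.Hom (X₂ ⊔ U' : Subgroup Ω) := by
        obtain ⟨U'', hconjU, hnU⟩ := exists_isFullyNormalized F hU'S
        obtain ⟨ξ, hξ, hξv, hξU⟩ := exists_map_to_fn hS hF hnU hconjU
        have hcU'' : F.IsCentric U'' := ⟨hnU.1, fun Q hQ => hcU.2 Q (isConj_trans hconjU hQ)⟩
        have hcW : Nat.card (normalizerIn S J) ≤ Nat.card (normalizerIn S W₂) := by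
          haveI := finite_of_le (normalizerIn_le (S := S) W₂)
          exact Nat.card_le_card_of_injective (fun a => (⟨χ a, hχv a⟩ : normalizerIn S W₂))
            fun a b h => F.injective_of_mem hχ (congrArg Subtype.val h)
        have hcU' : Nat.card (normalizerIn S W₂) ≤ Nat.card (normalizerIn S U') := by
          haveI := finite_of_le (normalizerIn_le (S := S) U')
          exact Subgroup.card_le_of_le hsub
        have hcU2 : Nat.card (normalizerIn S U') ≤ Nat.card (normalizerIn S U'') := by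
          haveI := finite_of_le (normalizerIn_le (S := S) U'')
          exact Nat.card_le_card_of_injective (fun a => (⟨ξ a, hξv a⟩ : normalizerIn S U''))
            fun a b h => F.injective_of_mem hξ (congrArg Subtype.val h)
        have hξE : ξ ∈ E.Hom (normalizerIn S U') := hbig _ (by omega) hξ
        let cY : (X₂ ⊔ U' : Subgroup Ω) →* Ω := ξ.comp (Subgroup.inclusion hYn)
        have hcY : cY ∈ F.Hom (X₂ ⊔ U' : Subgroup Ω) := restrict_mem hξ hYn
        have hcYE : cY ∈ E.Hom (X₂ ⊔ U' : Subgroup Ω) := restrict_mem hξE hYn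
        obtain ⟨ν, hν, hνr, hνe⟩ := exists_inv hcY (rfl : cY.range = cY.range)
        have hνv : ∀ y, ν y ∈ (X₂ ⊔ U' : Subgroup Ω) := fun y => hνr.le ⟨y, rfl⟩
        have k1 := F.comp_mem hν hβ hνv
        set ω₁ := β.comp (ν.codRestrict (X₂ ⊔ U' : Subgroup Ω) hνv)
        have hω₁v : ∀ y, ω₁ y ∈ normalizerIn S U' := fun y => hβn _
        have k2 := F.comp_mem k1 hξ hω₁v
        set ω := ξ.comp (ω₁.codRestrict (normalizerIn S U') hω₁v)
        have hωe : ∀ y : (X₂ ⊔ U' : Subgroup Ω), ω ⟨cY y, y, rfl⟩ = ξ ⟨β y, hβn y⟩ := fun y => by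
          show ξ ⟨β ⟨ν ⟨cY y, _⟩, _⟩, _⟩ = _
          congr 2
          exact congrArg (fun z : (X₂ ⊔ U' : Subgroup Ω) => β z) (Subtype.ext (hνe y ⟨y, rfl⟩))
        have hU''Y : U'' ≤ cY.range := by
          intro z hz
          obtain ⟨x, hx, hxU, rfl⟩ := mem_map_subgroupOf.1 (hξU.ge hz)
          exact ⟨⟨x, hU'Y hxU⟩, rfl⟩
        have hωN : ω ∈ F.normalizerHom U'' cY.range := by
          refine ⟨k2, fun z hz => ?_, fun y => hξv _, _, restrict_mem k2 (sup_le le_rfl hU''Y),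
            fun _ => rfl, range_restrict_eq (F := F) hnU.1 (restrict_mem k2 (sup_le le_rfl hU''Y)) le_sup_right ?_⟩
          · obtain ⟨y, rfl⟩ := hz
            exact hξv _
          · intro z hz
            obtain ⟨x, hx, hxU, rfl⟩ := mem_map_subgroupOf.1 (hξU.ge hz)
            show ω ⟨cY ⟨x, hU'Y hxU⟩, _⟩ ∈ U''
            rw [hωe]
            exact hξU.le (mem_map_subgroupOf.2 ⟨_, _,
              hU'map.le (mem_map_subgroupOf.2 ⟨x, _, hxU, rfl⟩), rfl⟩)
        have hωE : ω ∈ E.Hom cY.range := ih U'' hnU hcU'' (by omega) (by omega) _ hωN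
        obtain ⟨ζ, hζ, -, hζe⟩ := exists_inv hξE (rfl : ξ.range = ξ.range)
        have k3 := E.comp_mem hcYE hωE fun y => ⟨y, rfl⟩
        have hv3 : ∀ y : (X₂ ⊔ U' : Subgroup Ω), ω ⟨cY y, y, rfl⟩ ∈ ξ.range := fun y => by
          rw [hωe]; exact ⟨_, rfl⟩
        have k4 := E.comp_mem k3 hζ hv3
        refine hom_congr k4 fun y => ?_
        symm
        show ζ ⟨ω ⟨cY y, y, rfl⟩, _⟩ = β y
        exact (congrArg ζ (Subtype.ext (hωe y))).trans (hζe ⟨β y, hβn y⟩ ⟨_, rfl⟩)
      -- `θ = γ ∘ β` with `γ` fixing `W₂`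
      set β₂ := β.comp (Subgroup.inclusion hX₂Y) with hβ₂def
      have hβ₂ : β₂ ∈ F.Hom X₂ := restrict_mem hβ hX₂Y
      have hβ₂E : β₂ ∈ E.Hom X₂ := restrict_mem hβE hX₂Y
      obtain ⟨δ, hδ, hδr, hδe⟩ := exists_inv hβ₂ (rfl : β₂.range = β₂.range)
      have hδv : ∀ y, δ y ∈ X₂ := fun y => hδr.le ⟨y, rfl⟩
      have hγ := F.comp_mem hδ h2 hδv
      set γ := θ.comp (δ.codRestrict X₂ hδv)
      have hWβ : W₂ ≤ β₂.range := by
        intro z hz
        obtain ⟨x, hx, hxW, rfl⟩ := mem_map_subgroupOf.1 (hWmap.ge hz)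
        exact ⟨⟨x, hW₂X hxW⟩, rfl⟩
      have hγfix : ∀ (v : Ω) (hv : v ∈ V), γ ⟨v, hWβ (hVW₂ hv)⟩ = v := by
        intro v hv
        obtain ⟨x, hx, hxW, hxe⟩ := mem_map_subgroupOf.1 (hWmap.ge (hVW₂ hv))
        have h0 : β₂ ⟨x, hW₂X hxW⟩ = v := hxe
        show θ ⟨δ ⟨v, _⟩, _⟩ = v
        have h3 : (⟨δ ⟨v, hWβ (hVW₂ hv)⟩, hδv _⟩ : X₂) = ⟨x, hW₂X hxW⟩ := Subtype.ext
          ((congrArg δ (Subtype.ext h0.symm)).trans (hδe ⟨x, hW₂X hxW⟩ ⟨_, rfl⟩))
        rw [h3, ← hβW x hxW]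
        exact hxe
      have hγE : γ ∈ E.Hom β₂.range := mem_of_fix hV hC hγ (hWβ.trans' hVW₂) hγfix
      have hθE : θ ∈ E.Hom X₂ := by
        refine hom_congr (E.comp_mem hβ₂E hγE fun y => ⟨y, rfl⟩) fun y => ?_
        show θ y = θ ⟨δ ⟨β₂ y, _⟩, _⟩
        exact congrArg (fun z : X₂ => θ z) (Subtype.ext (hδe y ⟨y, rfl⟩).symm)
      obtain ⟨ζ, hζ, -, hζe⟩ := exists_inv hχE (rfl : χ.range = χ.range)
      have hcXE : cX ∈ E.Hom X := restrict_mem hχE hX
      have h3 := E.comp_mem hcXE hθE fun x => ⟨x, rfl⟩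
      have hv3 : ∀ x : X, θ ⟨cX x, x, rfl⟩ ∈ χ.range := fun x => by rw [hθe]; exact ⟨_, rfl⟩
      refine hom_congr (E.comp_mem h3 hζ hv3) fun x => ?_
      symm
      show ζ ⟨θ ⟨cX x, x, rfl⟩, _⟩ = ψ x
      exact (congrArg ζ (Subtype.ext (hθe x))).trans (hζe ⟨ψ x, hψv x⟩ ⟨_, rfl⟩)
    -- the model
    have hmapR : ∀ {R : Subgroup Ω}, R ≤ T → imageOf ι R ≤ (Ts : Subgroup L) := fun _ => by
      rw [hTs]
      rintro _ ⟨x, -, rfl⟩
      exact ⟨x, rfl⟩
    have hall : ∀ X a, X ≤ (Ts : Subgroup L) → X.map (MulAut.conj a).toMonoidHom ≤ Ts →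
        Induces F E ι X a := by
      refine hgrp U hUn hUc N hN' L ι hL Ts hTs (Induces F E ι) ?_ ?_ ?_ ?_
      · intro g hg
        obtain ⟨φ, hφ, hφe⟩ := exists_hom_of_realized hL.2.1 hUT g fun x => by
          obtain ⟨b, -, hb⟩ := mem_imageOf.1 (hUimg.conj_mem _ (mem_imageOf.2 ⟨⟨x, hUT x.2⟩, x.2, rfl⟩) g)
          exact ⟨b, hb⟩
        have hv := fun x => hom_mem hφ x
        exact ⟨φ, hg U hUT le_rfl φ (subset_of_normalizerSystem hN' hφ) hv hφe, hv, fun x hx => hφe x⟩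
      · intro X a b hX haX _ ha hb R hR hRX ψ hψ hv he
        obtain ⟨φ₁, hφ₁, hφ₁e⟩ := exists_hom_of_realized hL.2.1 hR a fun x => by
          rw [← hTs]
          exact haX ⟨_, hRX (mem_imageOf.2 ⟨⟨x, hR x.2⟩, x.2, rfl⟩), rfl⟩
        have hv₁ := fun x => hom_mem hφ₁ x
        have hφ₁F := subset_of_normalizerSystem hN' hφ₁
        have hφ₁E : φ₁ ∈ E.Hom R := ha R hR hRX φ₁ hφ₁F hv₁ hφ₁e
        obtain ⟨η, hη, hηr, hηe⟩ := exists_inv hφ₁F (rfl : φ₁.range = φ₁.range)
        have hηv : ∀ y, η y ∈ R := fun y => hηr.le ⟨y, rfl⟩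
        have hψ₂ := F.comp_mem hη hψ hηv
        set ψ₂ := ψ.comp (η.codRestrict R hηv)
        have hR₂ : φ₁.range ≤ T := by rintro _ ⟨x, rfl⟩; exact hv₁ x
        have hψ₂E : ψ₂ ∈ E.Hom φ₁.range := by
          refine hb φ₁.range hR₂ ?_ ψ₂ hψ₂ (fun y => hv _) ?_
          · rintro _ ⟨z, hz, rfl⟩
            obtain ⟨x, hx⟩ : (z : Ω) ∈ φ₁.range := hz
            refine ⟨_, hRX (mem_imageOf.2 ⟨⟨x, hR x.2⟩, x.2, rfl⟩), ?_⟩
            rw [show z = ⟨φ₁ x, hv₁ x⟩ from Subtype.ext hx.symm, hφ₁e]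
            rfl
          · rintro ⟨_, x, rfl⟩
            show ι ⟨ψ ⟨η ⟨φ₁ x, _⟩, _⟩, _⟩ = b * ι ⟨φ₁ x, _⟩ * b⁻¹
            have h1 : (⟨η ⟨φ₁ x, ⟨x, rfl⟩⟩, hηv _⟩ : R) = x := Subtype.ext (hηe x ⟨x, rfl⟩)
            calc ι ⟨ψ ⟨η ⟨φ₁ x, ⟨x, rfl⟩⟩, hηv _⟩, hv _⟩ = ι ⟨ψ x, hv x⟩ :=
                  congrArg ι (Subtype.ext (congrArg ψ h1))
              _ = b * (a * ι ⟨x, hR x.2⟩ * a⁻¹) * b⁻¹ := by rw [he]; group
              _ = _ := by rw [← hφ₁e]
        refine hom_congr (E.comp_mem hφ₁E hψ₂E fun x => ⟨x, rfl⟩) fun x => ?_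
        show ψ x = ψ ⟨η ⟨φ₁ x, _⟩, _⟩
        exact congrArg ψ (Subtype.ext (hηe x ⟨x, rfl⟩).symm)
      · intro X a hX haX ha R hR hRX ψ hψ hv he
        have hRU : R ⊔ U ≤ T := sup_le hR hUT
        obtain ⟨Ψ, hΨ, hΨe⟩ := exists_hom_of_realized hL.2.1 hRU a fun x => by
          rw [← hTs]
          have hle : (imageOf ι (R ⊔ U)).map (MulAut.conj a).toMonoidHom ≤ (Ts : Subgroup L) := by
            rw [imageOf, Subgroup.subgroupOf_sup hR hUT, Subgroup.map_sup, Subgroup.map_sup]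
            exact sup_le ((Subgroup.map_mono hRX).trans haX)
              (by rintro _ ⟨y, hy, rfl⟩; exact hmapR hUT (hUimg.conj_mem y hy a))
          exact hle ⟨_, mem_imageOf.2 ⟨⟨x, hRU x.2⟩, x.2, rfl⟩, rfl⟩
        have hΨE : Ψ ∈ E.Hom (R ⊔ U) :=
          mem_of_fix hV hC (subset_of_normalizerSystem hN' hΨ) (hVU.trans le_sup_right) fun v hv' => by
            have hc := Subgroup.mem_centralizer_iff.1 ha (ι ⟨v, hUT (hVU hv')⟩)
              (mem_imageOf.2 ⟨⟨v, hUT (hVU hv')⟩, hv', rfl⟩)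
            have h1 : ι ⟨Ψ ⟨v, Subgroup.mem_sup_right (hVU hv')⟩, hom_mem hΨ _⟩ =
                ι ⟨v, hUT (hVU hv')⟩ :=
              (hΨe ⟨v, Subgroup.mem_sup_right (hVU hv')⟩).trans (mul_inv_eq_iff_eq_mul.2 hc.symm)
            exact congrArg Subtype.val (hinj h1)
        refine hom_congr (restrict_mem hΨE (le_sup_left : R ≤ R ⊔ U)) fun x => ?_
        exact congrArg Subtype.val (hinj ((he x).trans (hΨe (Subgroup.inclusion le_sup_left x)).symm))
      · intro X a hX haX ha R hR hRX ψ hψ hv he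
        rw [hJimg] at ha
        set Y := R ⊔ U ⊔ J with hYdef
        have hYT : Y ≤ T := sup_le (sup_le hR hUT) hJT
        have hUY : U ≤ Y := le_sup_right.trans le_sup_left
        have hJY : J ≤ Y := le_sup_right
        have hRY : R ≤ Y := le_sup_left.trans le_sup_left
        obtain ⟨Ψ, hΨ, hΨe⟩ := exists_hom_of_realized hL.2.1 hYT a fun x => by
          rw [← hTs]
          have hle : (imageOf ι Y).map (MulAut.conj a).toMonoidHom ≤ (Ts : Subgroup L) := by
            rw [imageOf, Subgroup.subgroupOf_sup (sup_le hR hUT) hJT,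
              Subgroup.subgroupOf_sup hR hUT, Subgroup.map_sup, Subgroup.map_sup, Subgroup.map_sup,
              Subgroup.map_sup]
            refine sup_le (sup_le ((Subgroup.map_mono hRX).trans haX) ?_) ?_
            · rintro _ ⟨y, hy, rfl⟩; exact hmapR hUT (hUimg.conj_mem y hy a)
            · rintro _ ⟨y, hy, rfl⟩
              exact hmapR hJT ((Subgroup.mem_normalizer_iff.1 ha y).1 hy)
          exact hle ⟨_, mem_imageOf.2 ⟨⟨x, hYT x.2⟩, x.2, rfl⟩, rfl⟩
        have hΨE : Ψ ∈ E.Hom Y := by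
          refine hstep Y Ψ (subset_of_normalizerSystem hN' hΨ) hYT (fun x => hom_mem hΨ x) hUY hJY ?_
          intro x hx
          obtain ⟨b, hb, hbe⟩ := mem_imageOf.1
            ((Subgroup.mem_normalizer_iff.1 ha _).1 (mem_imageOf.2 ⟨⟨x, hYT x.2⟩, hx, rfl⟩))
          have h1 : b = ⟨Ψ x, hom_mem hΨ x⟩ := hinj (hbe.trans (hΨe x).symm)
          rwa [h1] at hb
        refine hom_congr (restrict_mem hΨE hRY) fun x => ?_
        exact congrArg Subtype.val (hinj ((he x).trans (hΨe (Subgroup.inclusion hRY x)).symm))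
    obtain ⟨hφF, hRT, hφv, ψ, hψ, hψe, hψU⟩ := hφ
    have hφN : φ ∈ N.Hom R := by
      rw [hN']
      exact ⟨hφF, hRT, hφv, ψ, hψ, hψe, hψU⟩
    obtain ⟨a, ha⟩ := exists_of_realized hL.2.1 hφN
    refine hall (imageOf ι R) a (hmapR hRT) ?_ R hRT le_rfl φ hφF hφv ha
    rw [hTs]
    rintro _ ⟨y, hy, rfl⟩
    obtain ⟨x, hx, rfl⟩ := mem_imageOf.1 hy
    exact ⟨⟨φ ⟨x, hx⟩, hφv _⟩, ha ⟨x, hx⟩⟩

end Cfsg.Lib.FusionSys
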