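import Cfsg.Agent.Lib.FusionSys.NilpotentZJ
import Cfsg.Agent.Lib.Local.GlaubermanStronglyClosed

/-!
Nilpotency criteria through a constrained model, `p` odd.
-/

set_option autoImplicit false
set_option linter.style.haveILetI false

universe u

namespace Cfsg.Lib.FusionSys

open Cfsg Cfsg.FusionSystem Cfsg.Lib.Local

variable {Ω : Type u} [Group Ω] {S : Subgroup Ω} {F : FusionSystem S} {p : ℕ} {Q W : Subgroup Ω}

/-- In a constrained model, the normalizer of a subgroup at which the system has no automorphism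
of order not a power of `p` is a `p`-group. -/
theorem isPGroup_normalizer_of_not_nonNilAt [Finite S] [Fact p.Prime] (hS : IsPGroup p S)
    {E : FusionSystem S} (hEF : ∀ P, E.Hom P ⊆ F.Hom P) (hEQ : E.IsNormal Q)
    (hc : centralizerIn S Q ≤ Q) {L : Type u} [Group L] {ι : S →* L}
    (hL : E.IsModel p L ι) (hW : W ≤ S) (hWn : S ≤ Subgroup.normalizer (W : Set Ω))
    (hno : ¬ NonNilAt F p W) :
    IsPGroup p ↥(Subgroup.normalizer (imageOf ι W : Set L)) := by
  haveI := hL.1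
  have hQS := hEQ.1
  have hQs := imageOf_normal hL hEQ
  have hinj := hL.2.1.1
  rintro ⟨h, hh⟩
  have hgen : ((Q ⊔ W).subgroupOf S).map ((MulAut.conj h).toMonoidHom.comp ι) ≤ ι.range := by
    rw [Subgroup.subgroupOf_sup hQS hW, Subgroup.map_sup, sup_le_iff]
    refine ⟨?_, ?_⟩
    · rintro _ ⟨x, hx, rfl⟩
      obtain ⟨y, -, hy⟩ := hQs.conj_mem _ ⟨x, hx, rfl⟩ h
      exact ⟨y, hy⟩
    · rintro _ ⟨x, hx, rfl⟩
      obtain ⟨y, -, hy⟩ := (Subgroup.mem_normalizer_iff.1 hh _).1 ⟨x, hx, rfl⟩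
      exact ⟨y, hy⟩
  obtain ⟨ψ, hψ, hψe⟩ := exists_hom_of_realized hL.2.1 (sup_le hQS hW) h
    fun x => hgen ⟨⟨x, sup_le hQS hW x.2⟩, x.2, rfl⟩
  have hpres : ∀ (A : Subgroup Ω) (hA : A ≤ Q ⊔ W),
      h ∈ Subgroup.normalizer (imageOf ι A : Set L) →
        ∀ (x : Ω) (hx : x ∈ A), ψ ⟨x, hA hx⟩ ∈ A := by
    intro A hA hhA x hx
    obtain ⟨y, hy, hye⟩ :=
      (Subgroup.mem_normalizer_iff.1 hhA (ι ⟨x, (hA.trans (sup_le hQS hW)) hx⟩)).1 ⟨_, hx, rfl⟩
    have h1 : y = ⟨ψ ⟨x, hA hx⟩, hom_mem hψ _⟩ := hinj (hye.trans (hψe ⟨x, hA hx⟩).symm)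
    rwa [h1] at hy
  have hhQ : h ∈ Subgroup.normalizer (imageOf ι Q : Set L) := by
    haveI := hQs
    rw [Subgroup.normalizer_eq_top]; trivial
  obtain ⟨α, hα, hαe⟩ := exists_aut_normalizerHom (F := F) (P := Q) (V := W) (hEF _ hψ)
    le_sup_left le_sup_right (hpres Q le_sup_left hhQ) (hpres W le_sup_right hh)
    (by rw [normalizerIn_eq_self hWn]; exact hQS)
  obtain ⟨k, hk⟩ : ∃ k, α ^ p ^ k = 1 := by
    by_contra hk
    push Not at hk
    exact hno ⟨Q, α, hα, hk⟩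
  have hmod : modelAut ι hinj hQS hQs h = α := modelAut_eq ι hinj hQS hQs fun q => by
    refine Eq.trans ?_ (hψe (Subgroup.inclusion le_sup_left q))
    exact congrArg ι (Subtype.ext (hαe q))
  have hcent : h ^ p ^ k ∈ Subgroup.centralizer (imageOf ι Q : Set L) := by
    rw [← modelAut_eq_one_iff ι hinj hQS hQs, map_pow, hmod, hk]
  obtain ⟨z, -, hz⟩ := centralizer_imageOf_le hL hEQ hc hcent
  obtain ⟨j, hj⟩ := hS z
  refine ⟨k + j, Subtype.ext ?_⟩
  show h ^ p ^ (k + j) = 1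
  rw [pow_add, pow_mul, ← hz, ← map_pow, hj, map_one]

/-- A non-inner system (`p` odd) has a constrained subsystem whose model is not a `p`-group. -/
theorem exists_nonNil_model [Fact p.Prime] [Finite S] (hp : p ≠ 2) (hS : IsPGroup p S)
    (hF : F.IsSaturated p) (hni : ¬ F ≤ innerFusionSystem S) :
    ∃ (Q : Subgroup Ω) (E : FusionSystem S) (L : Type u) (_ : Group L) (ι : S →* L),
      (∀ P, E.Hom P ⊆ F.Hom P) ∧ E.IsNormal Q ∧ centralizerIn S Q ≤ Q ∧ E.IsModel p L ι ∧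
        ¬ IsPGroup p L := by
  obtain ⟨Q, hQS, hQn, -, hQnil, hc⟩ := exists_constrained_nonNil (thompsonFamily p)
    (nilLift_odd hp (Nat.card S)) thompsonFamily_ne_bot
    (fun b Q R _ _ _ _ φ => thompsonFamily_map b Q R φ) hS (Nat.le_succ _) hF (isSectionFree_int F)
    hni
  obtain ⟨E, hE, hEs, hEF, hEQ, -⟩ := exists_normalizerPart.{u, 0} (F := F) hS hF hQS hQn
  obtain ⟨L, hLg, ι, hL, -⟩ := exists_constrained_model.{u, 0} hS hEs hEQ hc
  refine ⟨Q, E, L, hLg, ι, fun P => hEF P, hEQ, hc, hL, fun hLp => ?_⟩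
  haveI := hL.1
  obtain ⟨T, hT⟩ := id hL.2.2.1
  have hinj := hL.2.1.1
  refine not_le_inner_of_nonNilAt hS hE hQnil fun P φ hφ => ?_
  obtain ⟨g, hg⟩ := exists_of_realized hL.2.1 hφ
  have htop : (T : Subgroup L) = ⊤ := (T.3 (hLp.to_subgroup ⊤) le_top).symm
  obtain ⟨s, rfl⟩ : g ∈ ι.range := hT ▸ htop ▸ trivial
  refine ⟨hom_le hφ, (s : Ω), s.2, fun x => ?_⟩
  have h1 := hinj ((hg x).trans (by rw [← map_inv, ← map_mul, ← map_mul] :
    ι s * ι ⟨x, hom_le hφ x.2⟩ * (ι s)⁻¹ = ι (s * ⟨x, hom_le hφ x.2⟩ * s⁻¹)))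
  exact congrArg Subtype.val h1

theorem le_normalizer_centerThompsonAOf_of_stronglyClosed [Finite S] [Fact p.Prime]
    (hS : IsPGroup p S) {D : Subgroup Ω} (hD : F.StronglyClosed D) :
    S ≤ Subgroup.normalizer (centerThompsonAOf D : Set Ω) := by
  haveI := finite_of_le hD.1
  have h := functorOf_char (zjFamily ()) (zjFamily_map (p := p) ()) D (hS.to_le hD.1)
  rw [functorOf_zjFamily] at h
  exact (stronglyClosed_le_normalizer hD).trans (le_normalizer_of_char h.1 h.2)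

theorem imageOf_centerThompsonAOf [Finite S] {D : Subgroup Ω} (hD : D ≤ S) {L : Type u} [Group L]
    {ι : S →* L} (hι : Function.Injective ι) :
    imageOf ι (centerThompsonAOf D) = centerThompsonAOf (imageOf ι D) := by
  have h1 : centerThompsonAOf D = (centerThompsonAOf (D.subgroupOf S)).map S.subtype := by
    rw [GlaubermanZJ.map_centerThompsonAOf' S.subtype _ S.subtype_injective.injOn,
      Subgroup.map_subgroupOf_eq_of_le hD]
  rw [imageOf, imageOf, h1]
  show (((centerThompsonAOf (D.subgroupOf S)).map S.subtype).comap S.subtype).map ι = _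
  rw [Subgroup.comap_map_eq_self_of_injective S.subtype_injective,
    GlaubermanZJ.map_centerThompsonAOf' ι _ hι.injOn]

theorem isStronglyClosed_imageOf [Finite S] {E : FusionSystem S} (hEF : ∀ P, E.Hom P ⊆ F.Hom P)
    {D : Subgroup Ω} (hD : F.StronglyClosed D) {L : Type u} [Group L] {ι : S →* L}
    (hL : E.IsRealizedBy ι) {T : Subgroup L} (hT : T = ι.range) :
    IsStronglyClosed (imageOf ι D) T := by
  subst hT
  refine ⟨fun _ ⟨x, _, hx⟩ => ⟨x, hx⟩, ?_⟩
  rintro _ ⟨d, hd, rfl⟩ g hg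
  have hP : Subgroup.zpowers (d : Ω) ≤ S := Subgroup.zpowers_le.2 d.2
  obtain ⟨φ, hφ, hφe⟩ := exists_hom_of_realized hL hP g (fun x => by
    obtain ⟨m, hm⟩ := Subgroup.mem_zpowers_iff.1 x.2
    have h1 : (⟨x, hP x.2⟩ : S) = d ^ m := Subtype.ext (by rw [SubgroupClass.coe_zpow, hm])
    rw [h1, map_zpow, ← conj_zpow]
    exact zpow_mem hg m)
  refine ⟨⟨_, hom_mem hφ ⟨d, Subgroup.mem_zpowers _⟩⟩, ?_, hφe ⟨d, Subgroup.mem_zpowers _⟩⟩
  exact hD.2 _ (Subgroup.zpowers_le.2 hd) φ (hEF _ hφ) _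

/-- The normal `p`-complement criterion at a strongly closed subgroup. -/
theorem le_inner_of_zj_stronglyClosed [Fact p.Prime] [Finite S] (hp : p ≠ 2) (hS : IsPGroup p S)
    (hF : F.IsSaturated p) {D : Subgroup Ω} (hD : F.StronglyClosed D)
    (h : ∀ N : FusionSystem (normalizerIn S (centerThompsonAOf D)),
      F.IsNormalizerSystem (centerThompsonAOf D) N →
        ∀ P : Subgroup Ω, N.Hom P = (innerFusionSystem (normalizerIn S (centerThompsonAOf D))).Hom P) :
    F ≤ innerFusionSystem S := by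
  by_contra hni
  obtain ⟨Q, E, L, _, ι, hEF, hEQ, hc, hL, hnp⟩ := exists_nonNil_model hp hS hF hni
  haveI := hL.1
  obtain ⟨T, hT⟩ := id hL.2.2.1
  have hWS : centerThompsonAOf D ≤ S := inf_le_left.trans ((Subgroup.map_subtype_le _).trans hD.1)
  obtain ⟨N, hN⟩ := exists_normalizerSystem F hWS
  have hp' := isPGroup_normalizer_of_not_nonNilAt hS hEF hEQ hc hL hWS
    (le_normalizer_centerThompsonAOf_of_stronglyClosed hS hD)
    (not_nonNilAt_of_system hS hN (h N hN))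
  rw [imageOf_centerThompsonAOf hD.1 hL.2.1.1] at hp'
  exact hnp (isPGroup_of_complement hL.2.2.2
    (GlaubermanZJ.complement_of_centerThompsonA_stronglyClosed hp T
      (isStronglyClosed_imageOf hEF hD hL.2.1 hT) (Cfsg.Lib.Fusion.hasNormalPComplement_of_isPGroup hp')))

end Cfsg.Lib.FusionSys
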