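import Cfsg.Agent.Lib.FusionSys.Functor
import Cfsg.Agent.Lib.FusionSys.NilpotentStronglyClosed
import Cfsg.Agent.Lib.PGroup.Basic

/-!
# The functor theorem at a strongly closed subgroup

If `W` is normal on strongly closed subgroups of constrained models, then for a section-free
saturated system `F` and every strongly closed `D` the subgroup `W(D)` is normal in `F`.
-/

set_option autoImplicit false
set_option linter.style.haveILetI false

universe u v

namespace Cfsg.Lib.FusionSys

open Cfsg Cfsg.FusionSystem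

variable {p : ℕ} (W : ∀ (Q : Type u) [Group Q], Subgroup Q)
variable {Ω : Type u} [Group Ω] {S : Subgroup Ω} {F : FusionSystem S}

theorem stronglyClosed_mono {E : FusionSystem S} (hEF : ∀ P, E.Hom P ⊆ F.Hom P) {D : Subgroup Ω}
    (hD : F.StronglyClosed D) : E.StronglyClosed D :=
  ⟨hD.1, fun R hR φ hφ x => hD.2 R hR φ (hEF R hφ) x⟩

/-- A strongly closed subgroup inside a normal subgroup is normal. -/
theorem isNormal_of_stronglyClosed_le [Finite S] {Q D : Subgroup Ω} (hQ : F.IsNormal Q)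
    (hD : F.StronglyClosed D) (hDQ : D ≤ Q) : F.IsNormal D := by
  refine ⟨hD.1, fun P φ hφ => ?_⟩
  obtain ⟨ψ, hψ, hψe, -⟩ := hQ.2 P φ hφ
  have hle : P ⊔ D ≤ P ⊔ Q := sup_le_sup_left hDQ P
  refine ⟨ψ.comp (Subgroup.inclusion hle), restrict_mem hψ hle,
    fun x => hψe x, range_restrict_eq hD.1 (restrict_mem hψ hle) le_sup_right fun x hx => ?_⟩
  exact stronglyClosed_apply_mem hD (restrict_mem hψ hle) (x := ⟨x, Subgroup.mem_sup_right hx⟩) hx

/-- The image of a strongly closed subgroup in a factor by a normal subgroup. -/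
theorem stronglyClosed_imageAlong_of_normal [Finite S] {Ω' : Type*} [Group Ω'] {S' : Subgroup Ω'}
    {θ : S →* Ω'} {E : FusionSystem S'} {Q D : Subgroup Ω} (hQ : F.IsNormal Q)
    (hE : F.IsFactorSystem Q θ E) (hD : F.StronglyClosed D) :
    E.StronglyClosed (imageAlong θ D) := by
  obtain ⟨-, hker, hrange, hiff⟩ := hE
  refine ⟨fun y hy => ?_, fun R hR φ' hφ' y => ?_⟩
  · obtain ⟨z, hz, -, rfl⟩ := mem_imageAlong.1 hy
    exact hrange.le ⟨_, rfl⟩
  obtain ⟨hRS, φ, hφ, hind⟩ := (hiff _ _).1 hφ'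
  obtain ⟨z, hzS, hzD, hze⟩ := mem_imageAlong.1 (hR y.2)
  have hzP : z ∈ preimageAlong θ R := mem_preimageAlong.2 ⟨hzS, by rw [hze]; exact y.2⟩
  rw [inducedAlong_apply hind (x := ⟨z, hzP⟩) (y := y) (hxS := hzS) hze.symm (hx' := hom_mem hφ _)]
  exact mem_imageAlong.2 ⟨_, _, stronglyClosed_apply_mem hD hφ (x := ⟨z, hzP⟩) hzD, rfl⟩

/-- A nontrivial strongly closed subgroup meets every normalizer `N_S(U)`. -/
theorem inf_normalizerIn_ne_bot [Finite S] [Fact p.Prime] (hS : IsPGroup p S) {D : Subgroup Ω}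
    (hD : F.StronglyClosed D) (hne : D ≠ ⊥) {U : Subgroup Ω} (hU : U ≤ S) :
    D ⊓ normalizerIn S U ≠ ⊥ := by
  haveI : (D.subgroupOf S).Normal := ⟨fun x hx g =>
    (Subgroup.mem_normalizer_iff.1 (stronglyClosed_le_normalizer hD g.2) (x : Ω)).1 hx⟩
  have hne' : D.subgroupOf S ≠ ⊥ := fun h => hne (by
    rw [← Subgroup.map_subgroupOf_eq_of_le hD.1, h, Subgroup.map_bot])
  obtain ⟨z, hz, hz1⟩ := ((D.subgroupOf S) ⊓ Subgroup.center S).bot_or_exists_ne_one.resolve_left
    (Cfsg.Lib.PGroup.inf_center_ne_bot hS hne')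
  refine fun h => hz1 (Subtype.ext ?_)
  refine Subgroup.mem_bot.1 (h.le ⟨hz.1, z.2, ?_⟩)
  refine Subgroup.centralizer_le_normalizer _ (Subgroup.mem_centralizer_iff.2 fun y hy => ?_)
  exact congrArg Subtype.val (Subgroup.mem_center_iff.1 hz.2 ⟨y, hU hy⟩)

variable {X : Type v} [Group X]

/-- One step of the descent. -/
theorem isNormal_functorOf_stronglyClosed_of_normal [Fact p.Prime] (n : ℕ)
    (hW1 : ∀ (Q : Type u) [Group Q] [Finite Q], IsPGroup p Q → Nontrivial Q → W Q ≠ ⊥)
    (hW2 : ∀ (Q R : Type u) [Group Q] [Group R] [Finite Q], IsPGroup p Q →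
      ∀ φ : Q ≃* R, (W Q).map φ.toMonoidHom = W R)
    (hW3 : ∀ (L : Type u) [Group L] [Finite L] (P : Sylow p L) (Dl : Subgroup L),
      IsStronglyClosed Dl (P : Subgroup L) →
      Subgroup.centralizer ((pCore p L : Subgroup L) : Set L) ≤ pCore p L →
        ¬ Involves X L → (functorOf W Dl).Normal)
    (ihn : ∀ (Ω : Type u) [Group Ω] (S : Subgroup Ω) [Finite S], IsPGroup p S → Nat.card S ≤ n →
      ∀ F : FusionSystem S, F.IsSaturated p → F.IsSectionFree p X →
        ∀ D : Subgroup Ω, F.StronglyClosed D → F.IsNormal (functorOf W D))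
    {Ω : Type u} [Group Ω] {S : Subgroup Ω} [Finite S] (hS : IsPGroup p S)
    (hn : Nat.card S ≤ n + 1) (D : Subgroup Ω) :
    ∀ (k : ℕ) (Q : Subgroup Ω), Q ≠ ⊥ → Nat.card S < Nat.card Q + k →
      ∀ F : FusionSystem S, F.IsSaturated p → F.IsSectionFree p X → F.IsNormal Q →
        F.StronglyClosed D → F.IsNormal (functorOf W D) := by
  intro k
  induction k with
  | zero =>
    intro Q _ hlt F _ _ hQ
    exact absurd (card_le_of_le hQ.1) (by omega)
  | succ k ih =>
    intro Q hQne hlt F hF hfree hQ hD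
    haveI := finite_of_le hD.1
    have hWch := functorOf_char W hW2 D (hS.to_le hD.1)
    by_cases hDQ : D ≤ Q
    · exact isNormal_of_characteristic (isNormal_of_stronglyClosed_le hQ hD hDQ) hWch.1 hWch.2
    have hgrow : ∀ V : Subgroup Ω, V ≤ S → Q ≤ V → V ≠ Q → V ≠ ⊥ ∧ Nat.card S < Nat.card V + k := by
      intro V hV hQV hne
      haveI := finite_of_le hV
      have h1 : Nat.card Q < Nat.card V :=
        lt_of_le_of_ne (card_le_of_le hQV) fun he => hne (Subgroup.eq_of_le_of_card_ge hQV he.ge).symm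
      exact ⟨fun h => hQne (le_bot_iff.1 (h ▸ hQV)), by omega⟩
    have hsc := isNormal_stronglyClosed hQ
    have hQn := stronglyClosed_le_normalizer hsc
    have hWD : functorOf W D ≤ S := hWch.1.trans hD.1
    by_cases hc : centralizerIn S Q ≤ Q
    · obtain ⟨L, hLg, ι, hL, hfreeL⟩ := exists_constrained_model hS hF hQ hc
      haveI := hL.1
      obtain ⟨T, hT⟩ := id hL.2.2.1
      have hcl := isStronglyClosed_imageOf (fun P => subset_rfl) hD hL.2.1 hT
      have hnorm := hW3 L T _ hcl hL.2.2.2 (hfreeL X hfree)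
      refine isNormal_of_imageOf_normal hL.2.1 hWD ?_
      let f : D →* L := ι.comp (Subgroup.inclusion hD.1)
      have hfr : f.range = imageOf ι D := by
        ext y
        constructor
        · rintro ⟨x, rfl⟩
          exact ⟨_, x.2, rfl⟩
        · rintro ⟨x, hx, rfl⟩
          exact ⟨⟨x, hx⟩, rfl⟩
      let e : D ≃* (imageOf ι D : Subgroup L) :=
        (MonoidHom.ofInjective (f := f) (hL.2.1.1.comp (Subgroup.inclusion_injective hD.1))).trans
          (MulEquiv.subgroupCongr hfr)
      have h1 : imageOf ι (functorOf W D) = functorOf W (imageOf ι D : Subgroup L) := by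
        rw [functorOf, functorOf, ← hW2 D (imageOf ι D : Subgroup L) (hS.to_le hD.1) e,
          Subgroup.map_map]
        ext y
        constructor
        · rintro ⟨x, ⟨w, hw, hwe⟩, rfl⟩
          refine ⟨w, hw, ?_⟩
          show ι _ = ι x
          exact congrArg ι (Subtype.ext hwe)
        · rintro ⟨w, hw, rfl⟩
          exact ⟨⟨w, hD.1 w.2⟩, ⟨w, hw, rfl⟩, rfl⟩
      rw [h1]
      exact hnorm
    have hTS : Q ⊔ centralizerIn S Q ≤ S := sup_le hQ.1 (centralizerIn_le Q)
    obtain ⟨F₂, hF₂, hF₂s, hF₂le, hF₂n, hF₂free⟩ := exists_normalizerPart.{u, v} (F := F) hS hF hTS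
      (le_normalizer_sup_centralizerIn hQn)
    have h2 : F₂.IsNormal (functorOf W D) := by
      obtain ⟨h, h'⟩ := hgrow _ hTS le_sup_left fun h =>
        hc ((le_sup_right : centralizerIn S Q ≤ Q ⊔ centralizerIn S Q).trans h.le)
      exact ih _ h h' F₂ hF₂s (hF₂free X hfree) hF₂n (stronglyClosed_mono (fun P => hF₂le P) hD)
    obtain ⟨F₁, hF₁⟩ := exists_centralPart F hQ.1 hQn
    have hF₁s := isSaturated_centralPart hS hF hQ hF₁
    have hF₁n := isNormal_centralPart hQ.1 hQn hF₁
    have hF₁free := isSectionFree_centralPart hS hF hQ hF₁ hfree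
    have hD₁ : F₁.StronglyClosed D := stronglyClosed_mono (fun P => centralPart_le hF₁ P) hD
    have h1 : F₁.IsNormal (functorOf W D) := by
      haveI : (Q.subgroupOf S).Normal := ⟨fun x hx g =>
        (Subgroup.mem_normalizer_iff.1 (hQn g.2) (x : Ω)).1 hx⟩
      set θ := QuotientGroup.mk' (Q.subgroupOf S)
      have hker : ∀ s : S, θ s = 1 ↔ (s : Ω) ∈ Q := fun s => QuotientGroup.eq_one_iff s
      have hrange : θ.range = ⊤ := MonoidHom.range_eq_top.2 (QuotientGroup.mk'_surjective _)
      obtain ⟨E, hE⟩ := exists_factorSystem (isNormal_stronglyClosed hF₁n) hker hrange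
      have hS' : IsPGroup p (⊤ : Subgroup (S ⧸ Q.subgroupOf S)) := (hS.to_quotient _).to_subgroup _
      have hcard : Nat.card (⊤ : Subgroup (S ⧸ Q.subgroupOf S)) ≤ n := by
        rw [Subgroup.card_top]
        have h1 := Subgroup.card_eq_card_quotient_mul_card_subgroup (Q.subgroupOf S)
        haveI := finite_of_le hQ.1
        have h2 : 1 < Nat.card (Q.subgroupOf S) := by
          rw [Nat.card_congr (Subgroup.subgroupOfEquivOfLe hQ.1).toEquiv]
          exact (Subgroup.one_lt_card_iff_ne_bot Q).2 hQne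
        nlinarith [Nat.card_pos (α := S ⧸ Q.subgroupOf S)]
      have hcl := stronglyClosed_imageAlong_of_normal hF₁n hE hD₁
      have hV := ihn _ ⊤ hS' hcard E (isSaturated_factor hS hF₁s (isNormal_stronglyClosed hF₁n) hE)
        (isSectionFree_factor hS hF₁s hF₁n hE hF₁free) _ hcl
      have hVn : F₁.IsNormal (preimageAlong θ (functorOf W (imageAlong θ D))) :=
        isNormal_preimage_centralPart hS hF₁s hF₁n
          (fun U hU hUn => stronglyClosed_centralPart hF₁ hU hQ.1 hUn) hE hV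
      obtain ⟨h, h'⟩ := hgrow _ preimageAlong_le (kernel_le_preimageAlong hQ.1 hker) (by
        intro he
        have hne : functorOf W (imageAlong θ D) ≠ ⊥ := by
          refine functorOf_ne_bot W hW1 _ (hS'.to_le hcl.1) fun hbot => hDQ fun x hx => ?_
          exact (hker ⟨x, hD.1 hx⟩).1
            (Subgroup.mem_bot.1 (hbot.le (mem_imageAlong.2 ⟨x, hD.1 hx, hx, rfl⟩)))
        refine hne (le_bot_iff.1 fun y hy => ?_)
        obtain ⟨x, rfl⟩ := QuotientGroup.mk'_surjective (Q.subgroupOf S) y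
        exact Subgroup.mem_bot.2 ((hker x).2 (he.le (mem_preimageAlong.2 ⟨x.2, hy⟩))))
      exact ih _ h h' F₁ hF₁s hF₁free hVn hD₁
    have hWn : S ≤ Subgroup.normalizer (functorOf W D : Set Ω) :=
      (stronglyClosed_le_normalizer hD).trans (le_normalizer_of_char hWch.1 hWch.2)
    obtain ⟨N, hN, -⟩ := exists_normalizerPart.{u, v} (F := F) hS hF hWD hWn
    refine isNormal_of_le_normalizerHom hWD fun P φ hφ => ?_
    rw [← hN]
    refine le_of_centralPart hS hF hQ N (fun R ψ hψ => ?_) (fun R ψ hψ => ?_) P hφ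
    · rw [← hF₁] at hψ
      obtain ⟨-, hP, hv, χ, hχ, hχe⟩ := normalizerHom_of_isNormal h1 hψ
      rw [hN]
      exact ⟨centralPart_le hF₁ R hψ, hP, hv, χ, centralPart_le hF₁ _ hχ, hχe⟩
    · rw [← hF₂] at hψ
      obtain ⟨-, hP, hv, χ, hχ, hχe⟩ := normalizerHom_of_isNormal h2 hψ
      rw [hF₂] at hψ hχ
      rw [hN]
      exact ⟨hψ.1, hP, hv, χ, hχ.1, hχe⟩

/-- The functor theorem at a strongly closed subgroup. -/
theorem isNormal_functorOf_stronglyClosed [Fact p.Prime]
    (hW1 : ∀ (Q : Type u) [Group Q] [Finite Q], IsPGroup p Q → Nontrivial Q → W Q ≠ ⊥)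
    (hW2 : ∀ (Q R : Type u) [Group Q] [Group R] [Finite Q], IsPGroup p Q →
      ∀ φ : Q ≃* R, (W Q).map φ.toMonoidHom = W R)
    (hW3 : ∀ (L : Type u) [Group L] [Finite L] (P : Sylow p L) (Dl : Subgroup L),
      IsStronglyClosed Dl (P : Subgroup L) →
      Subgroup.centralizer ((pCore p L : Subgroup L) : Set L) ≤ pCore p L →
        ¬ Involves X L → (functorOf W Dl).Normal) :
    ∀ (n : ℕ) (Ω : Type u) [Group Ω] (S : Subgroup Ω) [Finite S], IsPGroup p S → Nat.card S ≤ n →
      ∀ F : FusionSystem S, F.IsSaturated p → F.IsSectionFree p X →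
        ∀ D : Subgroup Ω, F.StronglyClosed D → F.IsNormal (functorOf W D) := by
  intro n
  induction n with
  | zero =>
    intro Ω _ S _ _ hn
    exact absurd (Nat.card_pos (α := S)) (by omega)
  | succ n ih =>
    intro Ω _ S _ hS hn F hF hfree D hD
    haveI := finite_of_le hD.1
    have hWch := functorOf_char W hW2 D (hS.to_le hD.1)
    have hWD : functorOf W D ≤ S := hWch.1.trans hD.1
    by_cases hD0 : D = ⊥
    · rw [show functorOf W D = ⊥ from le_bot_iff.1 (hWch.1.trans hD0.le)]
      exact isNormal_bot F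
    have hWn : S ≤ Subgroup.normalizer (functorOf W D : Set Ω) :=
      (stronglyClosed_le_normalizer hD).trans (le_normalizer_of_char hWch.1 hWch.2)
    have hchar : ∀ U : Subgroup Ω, functorOf W (D ⊓ normalizerIn S U : Subgroup Ω) ≤ D ⊓ normalizerIn S U ∧
        S ⊓ Subgroup.normalizer (normalizerIn S U : Set Ω) ≤
          Subgroup.normalizer (functorOf W (D ⊓ normalizerIn S U : Subgroup Ω) : Set Ω) := by
      intro U
      haveI := finite_of_le ((inf_le_right : D ⊓ normalizerIn S U ≤ normalizerIn S U).trans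
        (normalizerIn_le U))
      have h := functorOf_char W hW2 (D ⊓ normalizerIn S U : Subgroup Ω) (hS.to_le (inf_le_left.trans hD.1))
      refine ⟨h.1, fun g hg => le_normalizer_of_char h.1 h.2 ?_⟩
      rw [Subgroup.mem_normalizer_iff]
      intro x
      rw [Subgroup.mem_inf, Subgroup.mem_inf,
        ← Subgroup.mem_normalizer_iff.1 (stronglyClosed_le_normalizer hD hg.1) x,
        ← Subgroup.mem_normalizer_iff.1 hg.2 x]
    have hnorm : ∀ U : Subgroup Ω, F.IsFullyNormalized U → U ≠ ⊥ → ∀ R,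
        F.normalizerHom U R ⊆ F.normalizerHom (functorOf W (D ⊓ normalizerIn S U : Subgroup Ω)) R := by
      intro U hUn hU R φ hφ
      obtain ⟨N, hN⟩ := exists_normalizerSystem F hUn.1
      haveI := finite_of_le (normalizerIn_le (S := S) U)
      have hTS := normalizerIn_le (S := S) U
      have hTp := hS.to_le hTS
      have hDN : N.StronglyClosed (D ⊓ normalizerIn S U : Subgroup Ω) :=
        ⟨inf_le_right, fun R' hR' ψ hψ x =>
          ⟨hD.2 R' (hR'.trans inf_le_left) ψ (subset_of_normalizerSystem hN hψ) x, hom_mem hψ x⟩⟩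
      have hNW : N.IsNormal (functorOf W (D ⊓ normalizerIn S U : Subgroup Ω)) := by
        refine isNormal_functorOf_stronglyClosed_of_normal W n hW1 hW2 hW3 (fun Ω _ S _ => ih Ω S) hTp
          ((card_le_of_le hTS).trans hn) _ (Nat.card (normalizerIn S U)) U hU ?_ N
          (isSaturated_normalizerSystem hS hF hUn hN) (isSectionFree_normalizerSystem hS hF hfree hUn hN)
          (isNormal_normalizerSystem hUn.1 hN) hDN
        haveI := finite_of_le hUn.1
        exact Nat.lt_add_of_pos_left Nat.card_pos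
      rw [← hN R] at hφ
      obtain ⟨ψ, hψ, hψe, hψW⟩ := hNW.2 R φ hφ
      obtain ⟨hφF, hR, hv, -⟩ := (mem_normalizerSystem hN).1 hφ
      have hle : normalizerIn S U ≤
          Subgroup.normalizer (functorOf W (D ⊓ normalizerIn S U : Subgroup Ω) : Set Ω) := fun g hg =>
        (hchar U).2 ⟨hTS hg, Subgroup.le_normalizer hg⟩
      exact ⟨hφF, fun x hx => ⟨hTS (hR hx), hle (hR hx)⟩,
        fun x => ⟨hTS (hv x), hle (hv x)⟩, ψ, subset_of_normalizerSystem hN hψ, hψe, hψW⟩
    obtain ⟨N, hN, -⟩ := exists_normalizerPart.{u, v} (F := F) hS hF hWD hWn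
    refine isNormal_of_le_normalizerHom hWD fun P φ hφ => ?_
    rw [← hN]
    refine le_of_local hS hF N (fun U hUn hU hT R ψ hψ => ?_) (fun U hUn hU hT => ?_) P hφ
    · have h0 : functorOf W (D ⊓ normalizerIn S U : Subgroup Ω) = functorOf W D :=
        congrArg (fun T : Subgroup Ω => functorOf W T) (by rw [hT]; exact inf_eq_left.2 hD.1)
      have h1 := hnorm U hUn hU R hψ
      rw [h0] at h1
      rw [hN]
      exact h1
    · have hTS := normalizerIn_le (S := S) U
      refine ⟨_, (hchar U).1.trans (inf_le_left.trans hD.1), ?_, ?_, hnorm U hUn hU⟩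
      · haveI := finite_of_le ((inf_le_right : D ⊓ normalizerIn S U ≤ normalizerIn S U).trans hTS)
        exact functorOf_ne_bot W hW1 _ (hS.to_le (inf_le_left.trans hD.1))
          (inf_normalizerIn_ne_bot hS hD hD0 hUn.1)
      · exact lt_of_lt_of_le (lt_normalizerIn hS (lt_of_le_of_ne hTS hT)) fun g hg =>
          ⟨hg.1, (hchar U).2 hg⟩

end Cfsg.Lib.FusionSys
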