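import Cfsg.Agent.Lib.FusionSys.Normal
import Cfsg.Agent.Lib.FusionSys.Saturation
import Cfsg.Agent.Lib.PGroup.SplitExtraspecial
import Cfsg.Agent.Lib.Invol.BaerSuzuki

/-!
# Strongly closed generalized extraspecial subgroups
-/

set_option autoImplicit false

namespace Cfsg.Lib.FusionSys

open Cfsg Cfsg.FusionSystem
open scoped commutatorElement

/-- The automorphisms stabilizing a chain of three terms form a `p`-group. -/
theorem exists_stabilizer_chain {Ω : Type*} [Group Ω] {C : Subgroup Ω} [Finite C] {p : ℕ}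
    [Fact p.Prime] (hC : IsPGroup p C) (A B : Subgroup Ω) (hAB : A ≤ B) (hBC : B ≤ C) :
    ∃ K : Subgroup (MulAut C), IsPGroup p K ∧ ∀ f : MulAut C, f ∈ K ↔
      (∀ x : C, (x : Ω) ∈ A → f x = x) ∧ (∀ x : C, (x : Ω) ∈ B → (x : Ω)⁻¹ * (f x : Ω) ∈ A) ∧
        ∀ x : C, (x : Ω)⁻¹ * (f x : Ω) ∈ B := by
  have hinv : ∀ (T U : Subgroup Ω), T ≤ U → ∀ (f : MulAut C),
      (∀ x : C, (x : Ω) ∈ U → (x : Ω)⁻¹ * (f x : Ω) ∈ T) → ∀ x : C, (x : Ω) ∈ U → (f x : Ω) ∈ U := by
    intro T U hTU f h x hx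
    have := U.mul_mem hx (hTU (h x hx))
    rwa [mul_inv_cancel_left] at this
  have hA : ∀ f : MulAut C, (∀ x : C, (x : Ω) ∈ A → f x = x) → ∀ x : C, (x : Ω) ∈ A → (f x : Ω) ∈ A :=
    fun f h x hx => by rwa [h x hx]
  let K : Subgroup (MulAut C) :=
    { carrier := {f | (∀ x : C, (x : Ω) ∈ A → f x = x) ∧
        (∀ x : C, (x : Ω) ∈ B → (x : Ω)⁻¹ * (f x : Ω) ∈ A) ∧ ∀ x : C, (x : Ω)⁻¹ * (f x : Ω) ∈ B}
      one_mem' := ⟨fun x _ => rfl, fun x _ => by simp, fun x => by simp⟩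
      mul_mem' := fun {a b} ha hb => by
        have hmul : ∀ x : C, (x : Ω)⁻¹ * ((a * b) x : Ω) =
            ((x : Ω)⁻¹ * (a x : Ω)) * (a (x⁻¹ * b x) : Ω) := fun x => by
          rw [MulAut.mul_apply, mul_assoc, ← Subgroup.coe_mul, ← map_mul, mul_inv_cancel_left]
        refine ⟨fun x hx => ?_, fun x hx => ?_, fun x => ?_⟩
        · rw [MulAut.mul_apply, hb.1 x hx, ha.1 x hx]
        · rw [hmul]
          exact A.mul_mem (ha.2.1 x hx) (hA a ha.1 _ (hb.2.1 x hx))
        · rw [hmul]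
          exact B.mul_mem (ha.2.2 x) (hinv A B hAB a ha.2.1 _ (hb.2.2 x))
      inv_mem' := fun {a} ha => by
        have hai : ∀ x : C, a (a⁻¹ x) = x := fun x => MulEquiv.apply_symm_apply a x
        refine ⟨fun x hx => ?_, fun x hx => ?_, fun x => ?_⟩
        · apply a.injective; rw [hai, ha.1 x hx]
        · have hB : (a⁻¹ x : Ω) ∈ B := by
            have h1 := B.inv_mem (ha.2.2 (a⁻¹ x))
            rw [hai] at h1
            have h2 := B.mul_mem hx h1
            simpa using h2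
          have h1 := ha.2.1 _ hB
          rw [hai] at h1
          simpa using A.inv_mem h1
        · have h1 := ha.2.2 (a⁻¹ x)
          rw [hai] at h1
          simpa using B.inv_mem h1 }
  refine ⟨K, ?_, fun f => Iff.rfl⟩
  obtain ⟨e, he⟩ := IsPGroup.iff_card.mp hC
  rintro ⟨f, hf⟩
  refine ⟨e * 3, Subtype.ext ?_⟩
  let D : ℕ → Subgroup Ω := fun i => if i = 0 then ⊥ else if i = 1 then A else if i = 2 then B else C
  have h3 := pow_eq_one_of_stabilizes (P := C) (D := D) (n := 3) rfl rfl (α := f) ?_ ?_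
  · rw [he, ← pow_mul] at h3
    simpa using h3
  · intro i _ x hx
    match i with
    | 0 =>
      have : x = 1 := Subtype.ext (Subgroup.mem_bot.1 hx)
      simp [this]
    | 1 => exact hA f hf.1 x hx
    | 2 => exact hinv A B hAB f hf.2.1 x hx
    | j + 3 => exact (f x).2
  · intro i hi x hx
    match i with
    | 0 =>
      show _ ∈ (⊥ : Subgroup Ω)
      rw [hf.1 x hx]; simp
    | 1 => exact hf.2.1 x hx
    | 2 => exact hf.2.2 x
    | j + 3 => omega

variable {Ω : Type*} [Group Ω] {S : Subgroup Ω} {F : FusionSystem S}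

theorem isNormal_generalizedExtraspecial [Finite S] {p : ℕ} [Fact p.Prime] (hS : IsPGroup p S)
    (hF : F.IsSaturated p) {P : Subgroup Ω} (hP : F.StronglyClosed P)
    (hge : frattini P = commutator P ∧ Nat.card (commutator P) = p)
    (h2 : p = 2 → ¬ ∃ (A : Type) (_ : CommGroup A), (∀ a : A, a ^ 2 = 1) ∧
      Nonempty (P ≃* DihedralGroup 4 × A))
    (hodd : p ≠ 2 → ¬ ∃ (E : Type) (_ : Group E) (A : Type) (_ : CommGroup A),
      Cfsg.IsExtraspecial p E ∧ Nat.card E = p ^ 3 ∧ Monoid.exponent E = p ∧ (∀ a : A, a ^ p = 1) ∧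
        Nonempty (P ≃* E × A)) :
    F.IsNormal P := by
  have hp := (Fact.out : p.Prime)
  have hPS := hP.1
  haveI := finite_of_le hPS
  have hPp : IsPGroup p P := hS.to_le hPS
  have hc2 : commutator P ≤ Subgroup.center P :=
    Cfsg.Lib.PGroup.le_center_of_card_eq_prime hPp hge.2
  have hpow : ∀ g : P, g ^ p ∈ commutator P := fun g =>
    hge.1 ▸ Cfsg.Lib.PGroup.pow_mem_frattini hPp g
  set D₀ : Subgroup Ω := (commutator P).map P.subtype with hD₀
  have hD₀P : D₀ ≤ P := Subgroup.map_subtype_le _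
  have hcomD : ∀ a ∈ P, ∀ b ∈ P, ⁅a, b⁆ ∈ D₀ := fun a ha b hb =>
    ⟨⁅(⟨a, ha⟩ : P), ⟨b, hb⟩⁆, Subgroup.commutator_mem_commutator (Subgroup.mem_top _)
      (Subgroup.mem_top _), rfl⟩
  have hDc : ∀ d ∈ D₀, ∀ g ∈ P, g * d = d * g := by
    rintro _ ⟨d, hd, rfl⟩ g hg
    exact congrArg Subtype.val (Subgroup.mem_center_iff.1 (hc2 hd) ⟨g, hg⟩)
  by_cases hDs : F.StronglyClosed D₀
  · refine isNormal_of_series hS hF (fun i => if i = 0 then ⊥ else if i = 1 then D₀ else P) 2
      (by simp) (by simp) ?_ ?_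
    · intro i _
      show F.StronglyClosed (if i = 0 then ⊥ else if i = 1 then D₀ else P)
      split_ifs
      exacts [stronglyClosed_bot F, hDs, hP]
    · intro i hi g hg y hy
      match i with
      | 0 => simp [commutatorElement_def, hDc y (by simpa using hy) g hg]
      | 1 => simpa using hcomD g hg y (by simpa using hy)
      | j + 2 => omega
  exfalso
  obtain ⟨R, φ, x₀, hR, hφ, hx₀⟩ : ∃ (R : Subgroup Ω) (φ : R →* Ω) (x₀ : R),
      R ≤ D₀ ∧ φ ∈ F.Hom R ∧ φ x₀ ∉ D₀ := by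
    by_contra h
    push_neg at h
    exact hDs ⟨hD₀P.trans hPS, fun R hR φ hφ x => h R φ x hR hφ⟩
  set z : Ω := (x₀ : Ω) with hzdef
  set y : Ω := φ x₀ with hydef
  have hzD : z ∈ D₀ := hR x₀.2
  have hyP : y ∈ P := hP.2 R (hR.trans hD₀P) φ hφ x₀
  haveI := finite_of_le (hD₀P.trans hPS)
  have hcD : Nat.card D₀ = p := by
    rw [hD₀, ← Nat.card_congr
      ((commutator P).equivMapOfInjective _ P.subtype_injective).toEquiv, hge.2]
  have hpowD : ∀ d ∈ D₀, d ^ p = 1 := fun d hd => by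
    have := pow_card_eq_one' (x := (⟨d, hd⟩ : D₀))
    rw [hcD] at this
    exact congrArg Subtype.val this
  have hz1 : z ≠ 1 := fun h => hx₀ (by
    show φ x₀ ∈ D₀
    rw [show x₀ = 1 from Subtype.ext h, map_one]; exact one_mem _)
  have hzz : ∀ d ∈ D₀, d ∈ Subgroup.zpowers z := fun d hd =>
    (Subgroup.eq_of_le_of_card_ge (Subgroup.zpowers_le.2 hzD)
      (by rw [hcD, Nat.card_zpowers, orderOf_eq_prime (hpowD z hzD) hz1])).ge hd
  have hyp : y ^ p = 1 := by
    rw [hydef, ← map_pow, show x₀ ^ p = 1 from Subtype.ext (hpowD z hzD), map_one]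
  -- `S` centralizes `z`
  have hDn : ∀ s ∈ S, ∀ d ∈ D₀, s * d * s⁻¹ ∈ D₀ := by
    intro s hs d hd
    have hsn : s ∈ Subgroup.normalizer (P : Set Ω) := stronglyClosed_le_normalizer hP hs
    obtain ⟨d', hd', rfl⟩ := hd
    refine ⟨conjAut P hsn d', ?_, coe_conjAut P hsn d'⟩
    exact (Subgroup.Characteristic.fixed (H := commutator P) inferInstance
      (conjAut P hsn)).symm.le hd'
  have hSz : ∀ s ∈ S, s * z = z * s := by
    haveI : (D₀.subgroupOf S).Normal := ⟨fun w hw g => hDn g g.2 (w : Ω) hw⟩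
    have h7 := Cfsg.Lib.PGroup.le_center_of_card_eq_prime hS (N := D₀.subgroupOf S)
      (by rw [Nat.card_congr (Subgroup.subgroupOfEquivOfLe (hD₀P.trans hPS)).toEquiv, hcD])
    intro s hs
    exact congrArg Subtype.val (Subgroup.mem_center_iff.1
      (h7 (show (⟨z, hPS (hD₀P hzD)⟩ : S) ∈ D₀.subgroupOf S from hzD)) ⟨s, hs⟩)
  -- a map on `C_S(y)` sending `y` to `z`
  have hzS : Subgroup.zpowers z ≤ S := Subgroup.zpowers_le.2 (hPS (hD₀P hzD))
  have hφz := restrict_mem hφ (Subgroup.zpowers_le.2 x₀.2)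
  have hr : (φ.comp (Subgroup.inclusion (Subgroup.zpowers_le.2 x₀.2))).range = Subgroup.zpowers y := by
    ext w
    constructor
    · rintro ⟨⟨v, hv⟩, rfl⟩
      obtain ⟨i, rfl⟩ := Subgroup.mem_zpowers_iff.1 hv
      exact Subgroup.mem_zpowers_iff.2 ⟨i, (map_zpow φ x₀ i).symm⟩
    · intro hw
      obtain ⟨i, rfl⟩ := Subgroup.mem_zpowers_iff.1 hw
      exact ⟨⟨z ^ i, zpow_mem (Subgroup.mem_zpowers z) i⟩, map_zpow φ x₀ i⟩
  obtain ⟨χ, hχ, hχr, hχi⟩ := exists_inv hφz hr
  haveI := finite_of_le (centralizerIn_le (S := S) (Subgroup.zpowers z))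
  have hfc : F.IsFullyCentralized (Subgroup.zpowers z) := by
    refine ⟨hzS, fun Q _ => Subgroup.card_le_of_le ?_⟩
    refine (centralizerIn_le Q).trans fun s hs => mem_centralizerIn.2 ⟨hs, ?_⟩
    intro w hw
    obtain ⟨i, rfl⟩ := Subgroup.mem_zpowers_iff.1 hw
    exact ((show Commute s z from hSz s hs).zpow_right i).eq
  obtain ⟨Ψ, hΨ, hΨe⟩ := (isReceptive_of_fc hS hF hfc).2 _ χ hχ hχr
  set C : Subgroup Ω := P ⊓ Subgroup.centralizer {y} with hCdef
  have hmemC : ∀ g, g ∈ C ↔ g ∈ P ∧ g * y = y * g := fun g => by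
    rw [hCdef, Subgroup.mem_inf, Subgroup.mem_centralizer_singleton_iff]
  have hCS : C ≤ S := inf_le_left.trans hPS
  have hNle : C ≤ extender S (Subgroup.zpowers y) χ := by
    intro g hg
    obtain ⟨hgP, hgy⟩ := (hmemC g).1 hg
    have hcom : ∀ w ∈ Subgroup.zpowers y, g * w = w * g := fun w hw => by
      obtain ⟨i, rfl⟩ := Subgroup.mem_zpowers_iff.1 hw
      exact ((show Commute g y from hgy).zpow_right i).eq
    refine mem_extender_of (h := 1) (hPS hgP) ?_ S.one_mem fun w hw => ?_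
    · haveI : Finite (Subgroup.zpowers y) :=
        finite_of_le (S := S) (Subgroup.zpowers_le.2 (hPS hyP))
      refine Subgroup.mem_normalizer_fintype fun w hw => ?_
      show g * w * g⁻¹ ∈ Subgroup.zpowers y
      rw [conj_eq_of_commute (hcom w hw)]
      exact hw
    · rw [one_mul, inv_one, mul_one]
      exact congrArg χ (Subtype.ext (conj_eq_of_commute (hcom w w.2)))
  have hyC : y ∈ C := (hmemC y).2 ⟨hyP, rfl⟩
  have hψ := restrict_mem hΨ hNle
  obtain ⟨ψ, hψ, hψy⟩ : ∃ ψ : C →* Ω, ψ ∈ F.Hom C ∧ ψ ⟨y, hyC⟩ = z := by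
    refine ⟨_, hψ, ?_⟩
    show Ψ ⟨y, hNle hyC⟩ = z
    rw [hΨe y (Subgroup.mem_zpowers y) (hNle hyC)]
    exact hχi ⟨z, Subgroup.mem_zpowers z⟩ (hr ▸ ⟨_, rfl⟩)
  have hψP : ∀ c : C, ψ c ∈ P := fun c => hP.2 C inf_le_left ψ hψ c
  -- elements of `D₀` that `ψ` keeps in `D₀` are trivial
  have hkill : ∀ c : C, (c : Ω) ∈ D₀ → ψ c ∈ D₀ → c = 1 := by
    intro c hc hψc
    obtain ⟨i, hi⟩ := Subgroup.mem_zpowers_iff.1 (hzz _ hψc)
    have h1 : c = (⟨y, hyC⟩ : C) ^ i := F.injective_of_mem hψ (by rw [map_zpow, hψy, hi])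
    by_contra hc1
    apply hx₀
    haveI : Finite (Subgroup.zpowers y) :=
      finite_of_le (S := S) (Subgroup.zpowers_le.2 (hPS hyP))
    have h2 : Subgroup.zpowers (c : Ω) = Subgroup.zpowers y := by
      refine Subgroup.eq_of_le_of_card_ge (Subgroup.zpowers_le.2 ?_) ?_
      · rw [h1]; exact Subgroup.mem_zpowers_iff.2 ⟨i, by simp⟩
      · rw [Nat.card_zpowers, Nat.card_zpowers, orderOf_eq_prime (hpowD _ hc)
          (fun h => hc1 (Subtype.ext h))]
        exact Nat.le_of_dvd hp.pos (orderOf_dvd_of_pow_eq_one hyp)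
    exact Subgroup.zpowers_le.2 hc (h2.ge (Subgroup.mem_zpowers y))
  have hCab : ∀ a b : P, a * (⟨y, hyP⟩ : P) = ⟨y, hyP⟩ * a → b * ⟨y, hyP⟩ = ⟨y, hyP⟩ * b →
      a * b = b * a := by
    intro a b ha hb
    let a' : C := ⟨a, (hmemC _).2 ⟨a.2, congrArg Subtype.val ha⟩⟩
    let b' : C := ⟨b, (hmemC _).2 ⟨b.2, congrArg Subtype.val hb⟩⟩
    have h1 := hkill ⁅a', b'⁆ (hcomD a a.2 b b.2) (by
      rw [map_commutatorElement]
      exact hcomD _ (hψP a') _ (hψP b'))
    exact Subtype.ext (congrArg (fun c : C => (c : Ω)) (commutatorElement_eq_one_iff_mul_comm.1 h1))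
  have hCp : ∀ a : P, a * (⟨y, hyP⟩ : P) = ⟨y, hyP⟩ * a → a ^ p = 1 := by
    intro a ha
    let a' : C := ⟨a, (hmemC _).2 ⟨a.2, congrArg Subtype.val ha⟩⟩
    have h1 := hkill (a' ^ p) ⟨a ^ p, hpow a, by simp [a']⟩ (by
      rw [map_pow]
      exact ⟨(⟨ψ a', hψP a'⟩ : P) ^ p, hpow _, by simp⟩)
    exact Subtype.ext (congrArg (fun c : C => (c : Ω)) h1)
  -- `y` is not central in `P`
  obtain ⟨x, hxy⟩ : ∃ x : P, x * (⟨y, hyP⟩ : P) ≠ ⟨y, hyP⟩ * x := by
    by_contra h
    push_neg at h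
    have hab : ∀ a b : P, a * b = b * a := fun a b => hCab a b (h a) (h b)
    have : commutator P = ⊥ := by
      rw [_root_.commutator_def, Subgroup.commutator_eq_bot_iff_le_centralizer]
      exact fun a _ => Subgroup.mem_centralizer_iff.2 fun b _ => hab b a
    rw [this, Subgroup.card_bot] at hge
    exact hp.one_lt.ne hge.2
  obtain ⟨-, hcardP, hdec, hdecC⟩ :=
    Cfsg.Lib.PGroup.centralizer_data hPp hge.2 hxy hCab
  by_cases hp2 : p = 2
  · -- replace `x` by an element of order two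
    obtain ⟨x', hx'y, hx'p⟩ : ∃ x' : P, x' * (⟨y, hyP⟩ : P) ≠ ⟨y, hyP⟩ * x' ∧ x' ^ p = 1 := by
      by_cases h : x ^ p = 1
      · exact ⟨x, hxy, h⟩
      refine ⟨x * ⟨y, hyP⟩, fun h' => hxy (mul_right_cancel (by
        rw [h', mul_assoc]) ), ?_⟩
      rw [Cfsg.Lib.PGroup.mul_pow_of_class_two hc2]
      have h1 : (⟨y, hyP⟩ : P) ^ p = 1 := Subtype.ext hyp
      rw [h1, mul_one, hp2, show Nat.choose 2 2 = 1 from rfl, pow_one]
      subst hp2
      have hd : ⁅(⟨y, hyP⟩ : P), x⁆ ≠ 1 := fun h3 =>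
        hxy (commutatorElement_eq_one_iff_mul_comm.1 h3).symm
      have hcd : ⁅(⟨y, hyP⟩ : P), x⁆ ∈ commutator P :=
        Subgroup.commutator_mem_commutator (Subgroup.mem_top _) (Subgroup.mem_top _)
      obtain ⟨u, -, hu⟩ := (Nat.card_eq_two_iff' (1 : commutator P)).1 hge.2
      have e1 := hu ⟨_, hpow x⟩ (fun h4 => h (congrArg Subtype.val h4))
      have e2 := hu ⟨_, hcd⟩ (fun h4 => hd (congrArg Subtype.val h4))
      have e3 : x ^ 2 = ⁅(⟨y, hyP⟩ : P), x⁆ := congrArg Subtype.val (e1.trans e2.symm)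
      rw [e3, ← sq]
      have := pow_card_eq_one' (x := (⟨_, hcd⟩ : commutator P))
      rw [hge.2] at this
      exact congrArg Subtype.val this
    obtain ⟨A, iA, hA, hiso⟩ :=
      Cfsg.Lib.PGroup.exists_iso_dihedral hp2 hPp hge.2 hx'y hCab hCp hx'p
    exact h2 hp2 ⟨A, iA, hA, hiso⟩
  by_cases hxp : x ^ p = 1
  · have hall : ∀ a : P, a ^ p = 1 := by
      intro a
      obtain ⟨i, c, hc, rfl⟩ := hdec a
      obtain ⟨k, hk⟩ : p ∣ p.choose 2 :=
        hp.dvd_choose_self (by norm_num) (by have := hp.two_le; omega)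
      have hd : ⁅c, x ^ i⁆ ^ p = 1 := by
        have hcd : ⁅c, x ^ i⁆ ∈ commutator P :=
          Subgroup.commutator_mem_commutator (Subgroup.mem_top _) (Subgroup.mem_top _)
        have := pow_card_eq_one' (x := (⟨_, hcd⟩ : commutator P))
        rw [hge.2] at this
        exact congrArg Subtype.val this
      rw [Cfsg.Lib.PGroup.mul_pow_of_class_two hc2, hk, pow_mul ⁅c, x ^ i⁆, hd, one_pow, mul_one,
        hCp c hc, mul_one, ← pow_mul, mul_comm, pow_mul, hxp, one_pow]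
    exact hodd hp2 (Cfsg.Lib.PGroup.exists_iso_extraspecial hp2 hPp hge.2 hxy hCab hall)
  -- now `C` is the set of elements of order `p` of `P`
  have hCchar : ∀ g, g ∈ C ↔ g ∈ P ∧ g ^ p = 1 := by
    intro g
    constructor
    · intro hg
      obtain ⟨hgP, hgy⟩ := (hmemC g).1 hg
      exact ⟨hgP, congrArg Subtype.val (hCp ⟨g, hgP⟩ (Subtype.ext hgy))⟩
    · rintro ⟨hgP, hgp⟩
      obtain ⟨i, c, hc, hic⟩ := hdec ⟨g, hgP⟩
      obtain ⟨k, hk⟩ : p ∣ p.choose 2 :=
        hp.dvd_choose_self (by norm_num) (by have := hp.two_le; omega)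
      have hd : ⁅c, x ^ i⁆ ^ p = 1 := by
        have hcd : ⁅c, x ^ i⁆ ∈ commutator P :=
          Subgroup.commutator_mem_commutator (Subgroup.mem_top _) (Subgroup.mem_top _)
        have := pow_card_eq_one' (x := (⟨_, hcd⟩ : commutator P))
        rw [hge.2] at this
        exact congrArg Subtype.val this
      have h1 : (⟨g, hgP⟩ : P) ^ p = 1 := Subtype.ext hgp
      rw [hic, Cfsg.Lib.PGroup.mul_pow_of_class_two hc2, hk, pow_mul ⁅c, x ^ i⁆, hd, one_pow,
        mul_one, hCp c hc, mul_one, ← pow_mul, mul_comm, pow_mul] at h1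
      have h2 : (⟨x ^ p, hpow x⟩ : commutator P) ^ i = 1 := Subtype.ext h1
      have h3 : p ∣ i := by
        have h4 := orderOf_dvd_of_pow_eq_one h2
        rwa [orderOf_eq_prime (p := p) (by
          have := pow_card_eq_one' (x := (⟨x ^ p, hpow x⟩ : commutator P))
          rwa [hge.2] at this) (fun h5 => hxp (congrArg Subtype.val h5))] at h4
      obtain ⟨k, rfl⟩ := h3
      have h6 : x ^ (p * k) * (⟨y, hyP⟩ : P) = ⟨y, hyP⟩ * x ^ (p * k) :=
        (Subgroup.mem_center_iff.1 (hc2 (by rw [pow_mul]; exact pow_mem (hpow x) k)) _).symm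
      have h7 : (⟨g, hgP⟩ : P) * ⟨y, hyP⟩ = ⟨y, hyP⟩ * ⟨g, hgP⟩ := by
        rw [hic]; exact ((show Commute _ _ from h6).mul_left hc).eq
      exact (hmemC g).2 ⟨hgP, congrArg Subtype.val h7⟩
  have hCs : F.StronglyClosed C := by
    refine ⟨hCS, fun T hT θ hθ w => (hCchar _).2 ⟨hP.2 T (hT.trans inf_le_left) θ hθ w, ?_⟩⟩
    rw [← map_pow, show w ^ p = 1 from Subtype.ext ((hCchar _).1 (hT w.2)).2, map_one]
  haveI := finite_of_le hCS
  haveI : Finite (MulAut C) := Finite.of_injective (fun a : MulAut C => (a : C → C))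
    DFunLike.coe_injective
  have hCr : ψ.range = C := range_eq_of_card_le hψ hCS (fun c => hCs.2 C le_rfl ψ hψ c) le_rfl
  let α : MulAut C := homIso hψ hCr
  have hα : α ∈ F.autGroup C := (mem_autGroup hCS).2 (isoIn_homIso hψ hCr)
  have hzC : z ∈ C := (hCchar z).2 ⟨hD₀P hzD, hpowD z hzD⟩
  let zC : C := ⟨z, hzC⟩
  let yC : C := ⟨y, hyC⟩
  have hαy : α yC = zC := Subtype.ext hψy
  have hxn : (x : Ω) ∈ Subgroup.normalizer (C : Set Ω) :=
    stronglyClosed_le_normalizer hCs (hPS x.2)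
  let t : MulAut C := conjAut C hxn
  have ht : t ∈ F.autGroup C :=
    autInducedBy_le_autGroup hCS (conjAut_mem_autInducedBy hxn (hPS x.2))
  have htv : ∀ c : C, (t c : Ω) = (x : Ω) * c * (x : Ω)⁻¹ := fun c => coe_conjAut C hxn c
  have hCcomm : ∀ a b : C, a * b = b * a := fun a b => Subtype.ext
    (congrArg (fun w : P => (w : Ω)) (hCab ⟨a, a.2.1⟩ ⟨b, b.2.1⟩
      (Subtype.ext ((hmemC _).1 a.2).2) (Subtype.ext ((hmemC _).1 b.2).2)))
  have hCpow : ∀ c : C, c ^ p = 1 := fun c => Subtype.ext ((hCchar _).1 c.2).2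
  have htd : ∀ c : C, ∃ i : ℕ, t c = c * zC ^ i := by
    intro c
    have h1 : (c : Ω)⁻¹ * (t c : Ω) ∈ D₀ := by
      rw [htv]
      have h2 := hcomD _ (P.inv_mem ((hmemC _).1 c.2).1) _ x.2
      simpa [commutatorElement_def, mul_assoc] using h2
    obtain ⟨i, hi⟩ := (isOfFinOrder_of_finite zC).mem_powers_iff_mem_zpowers.2
      (show c⁻¹ * t c ∈ Subgroup.zpowers zC by
        obtain ⟨j, hj⟩ := Subgroup.mem_zpowers_iff.1 (hzz _ h1)
        exact Subgroup.mem_zpowers_iff.2 ⟨j, Subtype.ext (by simpa using hj)⟩)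
    exact ⟨i, by rw [show zC ^ i = c⁻¹ * t c from hi, mul_inv_cancel_left]⟩
  have htz : t zC = zC := Subtype.ext ((htv zC).trans (conj_eq_of_commute (hSz x (hPS x.2))))
  have hty : t yC ≠ yC := fun h => hxy (Subtype.ext (commute_of_conj_eq
    ((htv yC).symm.trans (congrArg Subtype.val h))))
  have htcoe : ∀ c : C, (c : Ω)⁻¹ * (t c : Ω) ∈ Subgroup.zpowers z := fun c => by
    obtain ⟨i, hi⟩ := htd c
    rw [hi]
    exact Subgroup.mem_zpowers_iff.2 ⟨i, by simp [zC]⟩
  -- the Baer-Suzuki dichotomy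
  let tG : F.autGroup C := ⟨t, ht⟩
  have htp : IsPGroup p (Subgroup.zpowers tG) := by
    have h1 : t ^ p = 1 := MulEquiv.ext fun c => by
      have h2 : ∀ k, (t ^ k) c = c * (c⁻¹ * t c) ^ k := by
        intro k
        induction k with
        | zero => simp
        | succ k ih =>
          rw [pow_succ', MulAut.mul_apply, ih, map_mul, map_pow, pow_succ' (c⁻¹ * t c), ← mul_assoc,
            mul_inv_cancel_left]
          congr 2
          obtain ⟨i, hi⟩ := htd c
          rw [hi, inv_mul_cancel_left, map_pow, htz]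
      rw [h2, hCpow, mul_one]; rfl
    rw [IsPGroup.iff_card]
    obtain ⟨k, -, hk⟩ := (Nat.dvd_prime_pow hp).1 (orderOf_dvd_of_pow_eq_one
      (show tG ^ (p ^ 1) = 1 from Subtype.ext (by rw [pow_one]; simpa [tG] using h1)))
    exact ⟨k, by rw [Nat.card_zpowers, hk]⟩
  have hTS : ∀ (γ : F.autGroup C), ∀ c : C, ∃ i : ℕ,
      ((γ * tG * γ⁻¹ : F.autGroup C) : MulAut C) c = c * ((γ : MulAut C) zC) ^ i := by
    intro γ c
    obtain ⟨i, hi⟩ := htd ((γ : MulAut C)⁻¹ c)
    refine ⟨i, ?_⟩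
    show (γ : MulAut C) (t ((γ : MulAut C)⁻¹ c)) = _
    rw [hi, map_mul, map_pow, MulAut.apply_inv_self]
  by_cases hBS : ∀ γ : F.autGroup C, IsPGroup p
      ↥(Subgroup.zpowers tG ⊔ (Subgroup.zpowers tG).map (MulAut.conj γ).toMonoidHom)
  · obtain ⟨N, hN, hNp, htN⟩ := Cfsg.Lib.Invol.baerSuzuki _ htp hBS
    obtain ⟨-, -, R₀, hR₀⟩ := isFullyAutomized_and_fc_of_fn hS hF
      (show F.IsFullyNormalized C from ⟨hCS, fun Q hQ => by
        obtain ⟨f, hf, rfl⟩ := hQ
        rw [range_eq_of_card_le hf hCS (fun a => hCs.2 C le_rfl f hf a) le_rfl]⟩)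
    have hNR : N ≤ R₀ := (Cfsg.Lib.Core.le_pCore' hN hNp).trans (Cfsg.Lib.Core.pCore_le_sylow R₀)
    let γ : F.autGroup C := ⟨α, hα⟩
    let u : F.autGroup C := γ⁻¹ * tG * γ
    have huR : u ∈ R₀ := hNR (by
      have := hN.conj_mem tG (htN (Subgroup.mem_zpowers tG)) γ⁻¹
      rwa [inv_inv] at this)
    -- `R₀` centralizes `t`
    have hcomm : (u : MulAut C) * t = t * (u : MulAut C) := by
      have h1 : (u : MulAut C) ∈ autInducedBy S C := by
        exact (congrArg (fun H : Subgroup (F.autGroup C) => u ∈ H) hR₀).mp huR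
      obtain ⟨s, hs, hsv⟩ := mem_autInducedBy.1 h1
      have hsn : s ∈ Subgroup.normalizer (P : Set Ω) := stronglyClosed_le_normalizer hP hs
      let σ : MulAut P := conjAut P hsn
      obtain ⟨i, c₀, hc₀, hxi⟩ := hdec (σ x)
      have hσ : ∀ a : P, ((σ a : P) : Ω) = s * a * s⁻¹ := fun a => coe_conjAut P hsn a
      -- conjugation by `s x s⁻¹` is a power of `t`
      have hpowt : (u : MulAut C) * t * (u : MulAut C)⁻¹ = t ^ i := by
        refine MulEquiv.ext fun c => ?_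
        obtain ⟨d, rfl⟩ := (u : MulAut C).surjective c
        rw [MulAut.mul_apply, MulAut.mul_apply, MulAut.inv_apply, MulEquiv.symm_apply_apply]
        apply Subtype.ext
        rw [aut_pow_apply htv, hsv (t d), htv, hsv d]
        have h2 : (σ x : Ω) = (x : Ω) ^ i * (c₀ : Ω) := by rw [hxi]; simp
        rw [hσ] at h2
        have h3 : (c₀ : Ω) * (s * d * s⁻¹) = s * d * s⁻¹ * (c₀ : Ω) := by
          have h4 : (s * d * s⁻¹) ∈ C := stronglyClosed_conj_mem hCs hs d.2
          have h5 : (c₀ : Ω) ∈ C := (hmemC _).2 ⟨c₀.2, congrArg Subtype.val hc₀⟩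
          exact congrArg Subtype.val (hCcomm ⟨_, h5⟩ ⟨_, h4⟩)
        calc s * ((x : Ω) * d * (x : Ω)⁻¹) * s⁻¹
            = (s * x * s⁻¹) * (s * d * s⁻¹) * (s * x * s⁻¹)⁻¹ := by group
          _ = (x : Ω) ^ i * ((c₀ : Ω) * (s * d * s⁻¹) * (c₀ : Ω)⁻¹) * ((x : Ω) ^ i)⁻¹ := by
            rw [h2]; group
          _ = _ := by rw [h3, mul_inv_cancel_right]
      -- a normal subgroup of order `p` of a `p`-group is central
      have htR : tG ∈ R₀ :=
        (congrArg (fun H : Subgroup (F.autGroup C) => tG ∈ H) hR₀).mpr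
          (conjAut_mem_autInducedBy hxn (hPS x.2))
      have h6 : u * tG * u⁻¹ = tG ^ i := Subtype.ext hpowt
      let L : Subgroup R₀ := Subgroup.zpowers ⟨tG, htR⟩
      have hord : orderOf tG = p := orderOf_eq_prime (Subtype.ext (MulEquiv.ext fun c => by
        obtain ⟨k, hk⟩ := htp ⟨tG, Subgroup.mem_zpowers tG⟩
        have h7 : ∀ n, (t ^ n) c = c * (c⁻¹ * t c) ^ n := by
          intro n
          induction n with
          | zero => simp
          | succ n ih =>
            rw [pow_succ', MulAut.mul_apply, ih, map_mul, map_pow, pow_succ' (c⁻¹ * t c), ← mul_assoc,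
              mul_inv_cancel_left]
            congr 2
            obtain ⟨j, hj⟩ := htd c
            rw [hj, inv_mul_cancel_left, map_pow, htz]
        show (t ^ p) c = c
        rw [h7, hCpow, mul_one])) fun h => hty (by
          have := congrArg Subtype.val h
          show t yC = yC
          rw [show t = 1 from this]; rfl)
      haveI := R₀.isPGroup'.isNilpotent
      -- the images of `t` under `R₀`
      have hR₀p : IsPGroup p R₀ := R₀.isPGroup'
      obtain ⟨k, hk⟩ := hR₀p ⟨u, huR⟩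
      have huk : u ^ p ^ k = 1 := congrArg Subtype.val hk
      have hiter : ∀ n : ℕ, u ^ n * tG * (u ^ n)⁻¹ = tG ^ (i ^ n) := by
        intro n
        induction n with
        | zero => simp
        | succ n ih =>
          rw [pow_succ', mul_inv_rev, show u * u ^ n * tG * ((u ^ n)⁻¹ * u⁻¹) =
            u * (u ^ n * tG * (u ^ n)⁻¹) * u⁻¹ by group, ih, ← conj_pow, h6, ← pow_mul,
            ← pow_succ']
      have h8 := hiter (p ^ k)
      rw [huk, one_mul, inv_one, mul_one] at h8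
      have h9 : i ^ p ^ k ≡ 1 [MOD p] := by
        have h := pow_eq_pow_iff_modEq.1 (h8.symm.trans (pow_one tG).symm)
        rwa [hord] at h
      have h10 : i ≡ 1 [MOD p] := by
        rw [← ZMod.natCast_eq_natCast_iff] at h9 ⊢
        rwa [Nat.cast_pow, ZMod.pow_card_pow] at h9
      have h11 : tG ^ i = tG := by
        conv_rhs => rw [← pow_one tG]
        exact pow_eq_pow_iff_modEq.2 (hord.symm ▸ h10)
      rw [h11] at h6
      exact congrArg Subtype.val (mul_inv_eq_iff_eq_mul.1 h6)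
    have hu : ∀ c : C, ∃ k : ℕ, (u : MulAut C) c = c * yC ^ k := by
      intro c
      obtain ⟨k, hk⟩ := htd (α c)
      refine ⟨k, ?_⟩
      show α⁻¹ (t (α c)) = _
      rw [hk, ← hαy, ← map_pow, ← map_mul]
      exact MulEquiv.symm_apply_apply α _
    have huy : (u : MulAut C) yC = yC := by
      show α⁻¹ (t (α yC)) = yC
      rw [hαy, htz, ← hαy]
      exact MulEquiv.symm_apply_apply α yC
    have hyfix : ∀ k : ℕ, t (yC ^ k) = yC ^ k → yC ^ k = 1 := by
      intro k hk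
      by_contra hk1
      apply hty
      obtain ⟨m, hm⟩ : ∃ m, (yC ^ k) ^ m = yC := by
        have h1 : Subgroup.zpowers (yC ^ k) = Subgroup.zpowers yC :=
          Subgroup.eq_of_le_of_card_ge (Subgroup.zpowers_le.2 (pow_mem (Subgroup.mem_zpowers _) k))
            (by rw [Nat.card_zpowers, Nat.card_zpowers, orderOf_eq_prime (hCpow _) hk1]
                exact Nat.le_of_dvd hp.pos (orderOf_dvd_of_pow_eq_one (hCpow yC)))
        exact (isOfFinOrder_of_finite _).mem_powers_iff_mem_zpowers.2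
          (h1.ge (Subgroup.mem_zpowers yC))
      rw [← hm, map_pow, hk]
    have huz : (u : MulAut C) zC = zC := by
      obtain ⟨k, hk⟩ := hu zC
      have h1 : t ((u : MulAut C) zC) = (u : MulAut C) zC := by
        rw [← MulAut.mul_apply, ← hcomm, MulAut.mul_apply, htz]
      rw [hk, map_mul, htz, mul_left_cancel_iff] at h1
      rw [hk, hyfix k h1, mul_one]
    apply hty
    have hu1 : (u : MulAut C) = 1 := MulEquiv.ext fun c => by
      obtain ⟨k, hk⟩ := hu c
      obtain ⟨l, hl⟩ := htd c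
      have h1 : t ((u : MulAut C) c) = (u : MulAut C) (t c) :=
        (DFunLike.congr_fun hcomm c).symm
      rw [hk, hl, map_mul, map_mul, hl, hk, map_pow (u : MulAut C), huz, mul_assoc, mul_assoc,
        mul_left_cancel_iff, hCcomm (yC ^ k) (zC ^ l), mul_left_cancel_iff] at h1
      rw [hk, hyfix k h1, mul_one]; rfl
    have : tG = 1 := by
      have h1 : u = 1 := Subtype.ext hu1
      have h2 : tG = γ * u * γ⁻¹ := by simp [u, mul_assoc]
      rw [h2, h1]; simp
    rw [show t = 1 from congrArg Subtype.val this]; rfl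
  push_neg at hBS
  obtain ⟨γ, hγ⟩ := hBS
  let y' : C := (γ : MulAut C) zC
  let uG : F.autGroup C := γ * tG * γ⁻¹
  let u : MulAut C := (uG : MulAut C)
  have hu : ∀ c : C, ∃ i : ℕ, u c = c * y' ^ i := hTS γ
  have huy : u y' = y' := by
    show (γ : MulAut C) (t ((γ : MulAut C)⁻¹ ((γ : MulAut C) zC))) = (γ : MulAut C) zC
    rw [MulAut.inv_apply_self, htz]
  have hcoe : ∀ (a b : C) (i : ℕ), b = a ^ i → (b : Ω) ∈ Subgroup.zpowers (a : Ω) := fun a b i h =>
    Subgroup.mem_zpowers_iff.2 ⟨i, by rw [h]; simp⟩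
  -- if one of the incidences holds, the two conjugates generate a `p`-group
  have hpair : ∀ (K : Subgroup (MulAut C)), IsPGroup p K → t ∈ K → u ∈ K → False := by
    intro K hK h1 h2
    apply hγ
    refine (hK.comap_of_injective (F.autGroup C).subtype (Subgroup.subtype_injective _)).to_le ?_
    refine sup_le (Subgroup.zpowers_le.2 h1) ?_
    rw [MonoidHom.map_zpowers, Subgroup.zpowers_le]
    exact h2
  have hBC : Subgroup.zpowers z ⊔ Subgroup.zpowers (y' : Ω) ≤ C :=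
    sup_le (Subgroup.zpowers_le.2 hzC) (Subgroup.zpowers_le.2 y'.2)
  have hcC : IsPGroup p C := hS.to_le hCS
  by_cases hty' : t y' = y'
  · obtain ⟨K, hK, hKm⟩ := exists_stabilizer_chain hcC (Subgroup.zpowers (y' : Ω))
      (Subgroup.zpowers z ⊔ Subgroup.zpowers (y' : Ω)) le_sup_right hBC
    refine hpair K hK ((hKm t).2 ⟨?_, ?_, fun c => Subgroup.mem_sup_left (htcoe c)⟩)
      ((hKm u).2 ⟨?_, ?_, ?_⟩)
    · intro c hc
      obtain ⟨j, hj⟩ := Subgroup.mem_zpowers_iff.1 hc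
      rw [show c = y' ^ j from Subtype.ext (by simpa using hj.symm), map_zpow, hty']
    · intro c hc
      have hfix : t c = c := by
        refine (Subgroup.closure_le (k := ({zC, y'} : Set C))
          (K := (MonoidHom.eqLocus t.toMonoidHom (MonoidHom.id C)))).2 ?_ ?_
        · rintro _ (rfl | rfl); exacts [htz, hty']
        · have h1 : (Subgroup.closure {zC, y'}).map C.subtype =
              Subgroup.zpowers z ⊔ Subgroup.zpowers (y' : Ω) := by
            rw [MonoidHom.map_closure, Set.image_pair, Subgroup.zpowers_eq_closure,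
              Subgroup.zpowers_eq_closure, ← Subgroup.closure_union, Set.singleton_union]
            rfl
          obtain ⟨c', hc', hcc⟩ := h1.ge hc
          rwa [show c = c' from Subtype.ext hcc.symm]
      rw [hfix]; simp
    · intro c hc
      obtain ⟨j, hj⟩ := Subgroup.mem_zpowers_iff.1 hc
      rw [show c = y' ^ j from Subtype.ext (by simpa using hj.symm), map_zpow, huy]
    · intro c _
      obtain ⟨i, hi⟩ := hu c
      exact hcoe y' _ i (show c⁻¹ * u c = y' ^ i by rw [hi, inv_mul_cancel_left])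
    · intro c
      obtain ⟨i, hi⟩ := hu c
      exact Subgroup.mem_sup_right (hcoe y' _ i
        (show c⁻¹ * u c = y' ^ i by rw [hi, inv_mul_cancel_left]))
  by_cases huz : u zC = zC
  · obtain ⟨K, hK, hKm⟩ := exists_stabilizer_chain hcC (Subgroup.zpowers z)
      (Subgroup.zpowers z ⊔ Subgroup.zpowers (y' : Ω)) le_sup_left hBC
    refine hpair K hK ((hKm t).2 ⟨?_, fun c _ => htcoe c, fun c => Subgroup.mem_sup_left (htcoe c)⟩)
      ((hKm u).2 ⟨?_, ?_, ?_⟩)
    · intro c hc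
      obtain ⟨j, hj⟩ := Subgroup.mem_zpowers_iff.1 hc
      rw [show c = zC ^ j from Subtype.ext (by simpa using hj.symm), map_zpow, htz]
    · intro c hc
      obtain ⟨j, hj⟩ := Subgroup.mem_zpowers_iff.1 hc
      rw [show c = zC ^ j from Subtype.ext (by simpa using hj.symm), map_zpow, huz]
    · intro c hc
      have hfix : u c = c := by
        refine (Subgroup.closure_le (k := ({zC, y'} : Set C))
          (K := (MonoidHom.eqLocus u.toMonoidHom (MonoidHom.id C)))).2 ?_ ?_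
        · rintro _ (rfl | rfl); exacts [huz, huy]
        · have h1 : (Subgroup.closure {zC, y'}).map C.subtype =
              Subgroup.zpowers z ⊔ Subgroup.zpowers (y' : Ω) := by
            rw [MonoidHom.map_closure, Set.image_pair, Subgroup.zpowers_eq_closure,
              Subgroup.zpowers_eq_closure, ← Subgroup.closure_union, Set.singleton_union]
            rfl
          obtain ⟨c', hc', hcc⟩ := h1.ge hc
          rwa [show c = c' from Subtype.ext hcc.symm]
      rw [hfix]; simp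
    · intro c
      obtain ⟨i, hi⟩ := hu c
      exact Subgroup.mem_sup_right (hcoe y' _ i
        (show c⁻¹ * u c = y' ^ i by rw [hi, inv_mul_cancel_left]))
  -- an element inverting `⟨z, y'⟩` and fixing a complement
  obtain ⟨l, hl⟩ := htd y'
  set z₀ : C := zC ^ l with hz₀
  have hz₀1 : z₀ ≠ 1 := fun h => hty' (by rw [hl, h, mul_one])
  have hgenp : ∀ a : C, a ≠ 1 → ∀ b ∈ Subgroup.zpowers a, b ≠ 1 → ∃ d : ℕ, b ^ d = a := by
    intro a ha b hb hb1
    have h1 : Subgroup.zpowers b = Subgroup.zpowers a :=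
      Subgroup.eq_of_le_of_card_ge (Subgroup.zpowers_le.2 hb) (by
        rw [Nat.card_zpowers, Nat.card_zpowers, orderOf_eq_prime (hCpow b) hb1,
          orderOf_eq_prime (hCpow a) ha])
    exact (isOfFinOrder_of_finite _).mem_powers_iff_mem_zpowers.2 (h1.ge (Subgroup.mem_zpowers a))
  obtain ⟨d₀, hd₀⟩ := hgenp zC (fun h => hz1 (congrArg Subtype.val h)) z₀
    (pow_mem (Subgroup.mem_zpowers _) l) hz₀1
  have htz₀ : t z₀ = z₀ := by rw [hz₀, map_pow, htz]
  obtain ⟨k, hk⟩ := hu z₀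
  have hk1 : y' ^ k ≠ 1 := fun h => huz (by
    rw [h, mul_one] at hk
    rw [← hd₀, map_pow, hk])
  have hy'1 : y' ≠ 1 := fun h => hty' (by rw [h, map_one])
  obtain ⟨d, hd⟩ := hgenp y' hy'1 (y' ^ k) (pow_mem (Subgroup.mem_zpowers _) k) hk1
  have hun : ∀ (n : ℕ) (c : C) (i : ℕ), u c = c * y' ^ i → (u ^ n) c = c * (y' ^ i) ^ n := by
    intro n c i hi
    induction n with
    | zero => simp
    | succ n ih =>
      rw [pow_succ', MulAut.mul_apply, ih, map_mul, map_pow, map_pow, huy, hi, mul_assoc, ← pow_succ']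
  let v : MulAut C := u ^ d
  have hvz : v z₀ = z₀ * y' := by show (u ^ d) z₀ = _; rw [hun d _ k hk, hd]
  have hvy : v y' = y' := by
    show (u ^ d) y' = y'
    rw [hun d y' 0 (by rw [pow_zero, mul_one]; exact huy), pow_zero, one_pow, mul_one]
  have hvc : ∀ c : C, ∃ i : ℕ, v c = c * y' ^ i := by
    intro c
    obtain ⟨i, hi⟩ := hu c
    exact ⟨i * d, by show (u ^ d) c = _; rw [hun d c i hi, pow_mul]⟩
  let w : MulAut C := t * v⁻¹ * t
  have hvi : ∀ a b : C, v a = b → v⁻¹ b = a := fun a b h => by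
    rw [← h]; exact MulEquiv.symm_apply_apply v a
  have hwz : w z₀ = y'⁻¹ := by
    show t (v⁻¹ (t z₀)) = _
    rw [htz₀, hvi (z₀ * y'⁻¹) z₀ (by rw [map_mul, map_inv, hvz, hvy, mul_inv_cancel_right]),
      map_mul, map_inv, htz₀, hl, mul_inv_rev, mul_inv_cancel_left]
  have hwy : w y' = z₀ := by
    show t (v⁻¹ (t y')) = _
    rw [hl, hvi z₀ (y' * z₀) (by rw [hvz, hCcomm]), htz₀]
  let n : MulAut C := w * w
  have hn : n ∈ F.autGroup C := by
    have hvm : v ∈ F.autGroup C := Subgroup.pow_mem _ uG.2 d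
    have hw' : w ∈ F.autGroup C :=
      Subgroup.mul_mem _ (Subgroup.mul_mem _ ht (Subgroup.inv_mem _ hvm)) ht
    exact Subgroup.mul_mem _ hw' hw'
  have hnz : n z₀ = z₀⁻¹ := by show w (w z₀) = _; rw [hwz, map_inv, hwy]
  have hny : n y' = y'⁻¹ := by show w (w y') = _; rw [hwy, hwz]
  have hnt : ∀ c : C, n (t c) = t (n c) := by
    intro c
    obtain ⟨i, hi⟩ := htd c
    obtain ⟨j, hj⟩ := (isOfFinOrder_of_finite z₀).mem_powers_iff_mem_zpowers.2
      (show zC ^ i ∈ Subgroup.zpowers z₀ from by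
        rw [← hd₀, ← pow_mul]; exact pow_mem (Subgroup.mem_zpowers _) _)
    have hi' : t c = c * z₀ ^ j := by rw [hi, show z₀ ^ j = zC ^ i from hj]
    -- split off the common fixed part
    set c₁ : C := c * (y' ^ j)⁻¹ with hc₁
    have htc₁ : t c₁ = c₁ := by
      rw [hc₁, map_mul, map_inv, map_pow, hl, hi', (show Commute y' z₀ from hCcomm _ _).mul_pow,
        mul_inv_rev, ← mul_assoc, mul_inv_cancel_right]
    obtain ⟨m, hm⟩ := hvc c₁
    set c₂ : C := c₁ * (z₀ ^ m)⁻¹ with hc₂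
    have htc₂ : t c₂ = c₂ := by rw [hc₂, map_mul, map_inv, map_pow, htc₁, htz₀]
    have hvc₂ : v c₂ = c₂ := by
      rw [hc₂, map_mul, map_inv, map_pow, hm, hvz, (show Commute z₀ y' from hCcomm _ _).mul_pow,
        mul_inv_rev, ← mul_assoc, mul_inv_cancel_right]
    have hnc₂ : n c₂ = c₂ := by
      have hw₂ : w c₂ = c₂ := by
        show t (v⁻¹ (t c₂)) = c₂
        rw [htc₂, hvi c₂ c₂ hvc₂, htc₂]
      show w (w c₂) = c₂
      rw [hw₂, hw₂]
    have hc : c = c₂ * z₀ ^ m * y' ^ j := by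
      rw [hc₂, inv_mul_cancel_right, hc₁, inv_mul_cancel_right]
    have e1 : n (y' * z₀) = t (y'⁻¹) := by
      rw [map_mul, hny, hnz, map_inv, hl, mul_inv_rev, hCcomm]
    rw [hc]
    simp only [map_mul, map_pow, htc₂, hnc₂, htz₀, hnz, hny, map_inv]
    rw [← map_inv t y', ← e1, hl]
  -- extend to `P`
  have hCfc : F.IsFullyCentralized C := by
    refine ⟨hCS, fun Q hQ => ?_⟩
    obtain ⟨f, hf, rfl⟩ := hQ
    rw [range_eq_of_card_le hf hCS (fun a => hCs.2 C le_rfl f hf a) le_rfl]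
  have hnh : IsoIn F n := (mem_autGroup hCS).1 hn
  obtain ⟨Φ, hΦ, hΦe⟩ := (isReceptive_of_fc hS hF hCfc).2 C _ hnh (by
    rw [MonoidHom.range_comp, MonoidHom.range_eq_top.2 n.surjective,
      ← MonoidHom.range_eq_map, Subgroup.range_subtype])
  have hxN : (x : Ω) ∈ extender S C (C.subtype.comp n.toMonoidHom) := by
    refine mem_extender_of (hPS x.2) hxn (hPS x.2) fun a ha => ?_
    show ((n _ : C) : Ω) = (x : Ω) * ((n a : C) : Ω) * (x : Ω)⁻¹
    rw [← htv (n a), ← hnt]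
    exact congrArg (fun b : C => ((n b : C) : Ω)) (Subtype.ext (htv a).symm)
  have hCN : C ≤ extender S C (C.subtype.comp n.toMonoidHom) :=
    le_extender hCS fun a => hCS (n a).2
  have hPN : P ≤ extender S C (C.subtype.comp n.toMonoidHom) := by
    intro g hg
    obtain ⟨i, c, hc, hic⟩ := hdec ⟨g, hg⟩
    rw [show g = (x : Ω) ^ i * (c : Ω) by rw [show g = ((⟨g, hg⟩ : P) : Ω) from rfl, hic]; simp]
    exact mul_mem (pow_mem hxN i) (hCN ((hmemC _).2 ⟨c.2, congrArg Subtype.val hc⟩))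
  have hθh := restrict_mem hΦ hPN
  let θ : P →* P := (Φ.comp (Subgroup.inclusion hPN)).codRestrict P fun a => hP.2 P le_rfl _ hθh a
  have hθC : ∀ c : C, θ ⟨c, ((hmemC _).1 c.2).1⟩ = ⟨n c, ((hmemC _).1 (n c).2).1⟩ := fun c =>
    Subtype.ext (hΦe c c.2 _)
  -- the displacement of `x`
  set q : P := x⁻¹ * θ x with hq
  have hqy : q * (⟨y, hyP⟩ : P) = ⟨y, hyP⟩ * q := by
    let c : C := n⁻¹ yC
    have hnc : n c = yC := MulEquiv.apply_symm_apply n yC
    have hcP := ((hmemC _).1 c.2).1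
    have h0 : θ ⟨c, hcP⟩ = ⟨y, hyP⟩ := by
      rw [hθC]; exact Subtype.ext (congrArg (fun b : C => (b : Ω)) hnc)
    have h1 : θ x * (⟨y, hyP⟩ : P) * (θ x)⁻¹ = x * ⟨y, hyP⟩ * x⁻¹ := by
      rw [← h0, ← map_inv θ, ← map_mul, ← map_mul, h0]
      have h2 : (x * ⟨c, hcP⟩ * x⁻¹ : P) = ⟨(t c : C), ((hmemC _).1 (t c).2).1⟩ :=
        Subtype.ext (by rw [htv]; simp)
      rw [h2, hθC, Subtype.ext_iff]
      show ((n (t c) : C) : Ω) = _
      rw [hnt, hnc, htv]
      simp [yC]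
    rw [hq]
    calc x⁻¹ * θ x * ⟨y, hyP⟩ = x⁻¹ * (θ x * ⟨y, hyP⟩ * (θ x)⁻¹) * θ x := by group
      _ = _ := by rw [h1]; group
  have hxq : (θ x) ^ p = x ^ p := by
    obtain ⟨k', hk'⟩ : p ∣ p.choose 2 :=
      hp.dvd_choose_self (by norm_num) (by have := hp.two_le; omega)
    have hd' : ⁅q, x⁆ ^ p = 1 := by
      have hcd : ⁅q, x⁆ ∈ commutator P :=
        Subgroup.commutator_mem_commutator (Subgroup.mem_top _) (Subgroup.mem_top _)
      have := pow_card_eq_one' (x := (⟨_, hcd⟩ : commutator P))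
      rw [hge.2] at this
      exact congrArg Subtype.val this
    rw [show θ x = x * q by rw [hq, mul_inv_cancel_left], Cfsg.Lib.PGroup.mul_pow_of_class_two hc2,
      hk', pow_mul ⁅q, x⁆, hd', one_pow, mul_one, hCp q hqy, mul_one]
  obtain ⟨j, hj⟩ := Subgroup.mem_zpowers_iff.1 (hzz ((x ^ p : P) : Ω) ⟨_, hpow x, rfl⟩)
  let e : C := zC ^ j
  have he : ((x ^ p : P) : Ω) = (e : Ω) := by rw [← hj]; simp [e, zC]
  have hne : n e = e⁻¹ := by
    have hnzC : n zC = zC⁻¹ := by rw [← hd₀, map_pow, hnz, inv_pow]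
    show n (zC ^ j) = (zC ^ j)⁻¹
    rw [map_zpow, hnzC, inv_zpow]
  have h1 : θ (x ^ p) = (⟨(e : Ω), ((hmemC _).1 e.2).1⟩ : P)⁻¹ := by
    rw [show x ^ p = (⟨(e : Ω), ((hmemC _).1 e.2).1⟩ : P) from Subtype.ext he, hθC]
    apply Subtype.ext
    show ((n e : C) : Ω) = _
    rw [hne]; rfl
  rw [map_pow, hxq, ← show x ^ p = (⟨(e : Ω), ((hmemC _).1 e.2).1⟩ : P) from Subtype.ext he] at h1
  have h2 : (x ^ p) ^ 2 = 1 := by rw [sq]; exact eq_inv_iff_mul_eq_one.1 h1
  have h3 : orderOf (x ^ p) ∣ p := orderOf_dvd_of_pow_eq_one (by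
    have := pow_card_eq_one' (x := (⟨x ^ p, hpow x⟩ : commutator P))
    rw [hge.2] at this
    exact congrArg Subtype.val this)
  exact hxp (orderOf_eq_one_iff.1 (Nat.eq_one_of_dvd_coprimes
    ((Nat.coprime_primes hp Nat.prime_two).mpr hp2) h3 (orderOf_dvd_of_pow_eq_one h2)))

end Cfsg.Lib.FusionSys
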