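import Cfsg.Agent.Lib.FusionSys.Nilpotent
import Cfsg.Agent.Lib.Thompson.NormalComplement

/-!
Thompson's normal `p`-complement theorem for fusion systems, `p` odd.
-/

set_option autoImplicit false
set_option linter.style.haveILetI false

universe u v

namespace Cfsg.Lib.FusionSys

open Cfsg Cfsg.FusionSystem

variable {p : ℕ}

theorem isPGroup_of_complement [Fact p.Prime] {L : Type u} [Group L] [Finite L]
    (hc : Subgroup.centralizer ((pCore p L : Subgroup L) : Set L) ≤ pCore p L)
    (h : HasNormalPComplement p L) : IsPGroup p L := by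
  obtain ⟨P, N, hN, hNP⟩ := h
  have hcop := Cfsg.Lib.Fusion.coprime_card_of_complement (P := P) hNP
  haveI := hN
  have hbot : N = ⊥ := by
    rw [eq_bot_iff]
    intro x hx
    have hO : IsPGroup p (pCore p L) := Cfsg.Lib.Core.pCore_isPGroup p L
    have hd : Disjoint N (pCore p L) := by
      obtain ⟨k, hk⟩ := IsPGroup.iff_card.1 hO
      refine Subgroup.disjoint_of_coprime_natCard ?_
      rw [hk]
      exact hcop.pow_right k
    have hxc : x ∈ Subgroup.centralizer ((pCore p L : Subgroup L) : Set L) := by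
      rw [Subgroup.mem_centralizer_iff]
      intro y hy
      exact (Subgroup.commute_of_normal_of_disjoint N (pCore p L) inferInstance inferInstance hd
        x y hx hy).eq.symm
    exact hd.le_bot ⟨hx, hc hxc⟩
  have htop : (P : Subgroup L) = ⊤ := by
    have h1 := hNP.sup_eq_top
    rwa [hbot, bot_sup_eq] at h1
  have hP : IsPGroup p (P : Subgroup L) := P.isPGroup'
  rw [htop] at hP
  exact hP.of_equiv Subgroup.topEquiv

/-- The two functors of Thompson's theorem. -/
def thompsonFamily (p : ℕ) (b : Bool) (Q : Type u) [Group Q] : Subgroup Q :=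
  bif b then thompsonSubgroup p Q else Subgroup.center Q

theorem not_involves_int {L : Type u} [Group L] [Finite L] :
    ¬ Involves (Multiplicative ℤ) L := by
  intro h
  obtain ⟨K, f, hf⟩ := involves_iff_exists_hom.1 h
  exact not_finite_iff_infinite.2 inferInstance (Finite.of_surjective f hf)

theorem isSectionFree_int {Ω : Type u} [Group Ω] {S : Subgroup Ω} (F : FusionSystem S) :
    F.IsSectionFree p (Multiplicative ℤ) := by
  intro Q _ _ N _ L _ ι hL
  haveI := hL.1
  exact not_involves_int

theorem thompsonFamily_ne_bot [Fact p.Prime] (b : Bool) (Q : Type u) [Group Q] [Finite Q]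
    (hQ : IsPGroup p Q) (hnt : Nontrivial Q) : thompsonFamily p b Q ≠ ⊥ := by
  cases b
  · exact (Subgroup.nontrivial_iff_ne_bot _).1 hQ.center_nontrivial
  · obtain ⟨n, hn, hcard⟩ := hQ.nontrivial_iff_card.1 hnt
    exact Cfsg.Lib.Thompson.thompson_ne_bot (hcard ▸ dvd_pow_self p hn.ne')

theorem thompsonFamily_map (b : Bool) (Q R : Type u) [Group Q] [Group R] (φ : Q ≃* R) :
    (thompsonFamily p b Q).map φ.toMonoidHom = thompsonFamily p b R := by
  cases b
  · show (Subgroup.center Q).map φ.toMonoidHom = Subgroup.center R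
    ext y
    simp only [Subgroup.mem_map, Subgroup.mem_center_iff]
    constructor
    · rintro ⟨x, hx, rfl⟩ g
      obtain ⟨g, rfl⟩ := φ.surjective g
      exact (map_mul φ g x).symm.trans ((congrArg φ (hx g)).trans (map_mul φ x g))
    · intro hy
      refine ⟨φ.symm y, fun g => φ.injective ?_, φ.apply_symm_apply y⟩
      simp [hy (φ g)]
  · exact Cfsg.Lib.Thompson.map_thompson_eq φ

theorem nilLift_odd [Fact p.Prime] (hp : p ≠ 2) :
    ∀ n, NilLift.{u} p (Multiplicative ℤ) (thompsonFamily p) n := by
  refine nilLift (thompsonFamily p) thompsonFamily_ne_bot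
    (fun b Q R _ _ _ _ φ => thompsonFamily_map b Q R φ) fun L _ _ P hC _ hN => ?_
  refine isPGroup_of_complement hC (Cfsg.Lib.Thompson.thompson_normal_p_complement hp P ⟨?_, ?_⟩)
  · exact Cfsg.Lib.Fusion.hasNormalPComplement_of_isPGroup (hN true)
  · refine Cfsg.Lib.Fusion.hasNormalPComplement_of_isPGroup ((hN false).to_le ?_)
    have h1 : functorOf (thompsonFamily p false) (P : Subgroup L) =
        Cfsg.Lib.Thompson.zenter (P : Subgroup L) :=
      Cfsg.Lib.Core.center_map_eq_inf_centralizer _
    rw [h1]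
    exact Subgroup.centralizer_le_normalizer _

/-- A non-inner system (`p` odd) has a constrained non-inner subsystem. -/
theorem exists_constrained_subsystem [Fact p.Prime] (hp : p ≠ 2) {Ω : Type u} [Group Ω]
    {S : Subgroup Ω} [Finite S] (hS : IsPGroup p S) {F : FusionSystem S} (hF : F.IsSaturated p)
    (hne : ¬ F ≤ innerFusionSystem S) :
    ∃ E : FusionSystem S, E ≤ F ∧ E.IsConstrained p ∧ ¬ E ≤ innerFusionSystem S := by
  obtain ⟨Q, hQS, hQn, -, hnil, hc⟩ := exists_constrained_nonNil (thompsonFamily p)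
    (nilLift_odd hp (Nat.card S)) thompsonFamily_ne_bot
    (fun b Q R _ _ _ _ φ => thompsonFamily_map b Q R φ) hS (Nat.le_succ _) hF (isSectionFree_int F)
    hne
  obtain ⟨E, hE, hEs, hEF, hEQ, -⟩ := exists_normalizerPart.{u, 0} (F := F) hS hF hQS hQn
  refine ⟨E, hEF, ⟨hEs, Q, hEQ, hQS, ?_⟩, not_le_inner_of_nonNilAt hS hE hnil⟩
  rintro R ⟨φ, hφ, rfl⟩
  rw [range_eq_of_card_le hφ hQS
    (fun y => stronglyClosed_apply_mem (isNormal_stronglyClosed hEQ) hφ y.2) le_rfl]
  exact hc

end Cfsg.Lib.FusionSys
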