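import Cfsg.Agent.Lib.FusionSys.FunctorGenerated
import Cfsg.Agent.Lib.FusionSys.NilpotentOdd
import Cfsg.Agent.Lib.Local.ThompsonQuadratic
import Cfsg.Agent.Lib.Thompson.NormalComplementAbelian

/-!
# Consequences of the generation by a centralizer and the normalizer of a functor

Glauberman's generation theorem, Thompson's normal `p`-complement theorem and weak closure
theorems for characteristic functors, in fusion systems.
-/

set_option autoImplicit false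
set_option linter.style.haveILetI false

universe u

namespace Cfsg.Lib.FusionSys

open Cfsg Cfsg.FusionSystem

variable {p : ℕ} [Fact p.Prime] {Ω : Type u} [Group Ω] {S : Subgroup Ω} [Finite S]

/-- The abelian Thompson subgroup, as a functor. -/
def thompsonA (Q : Type u) [Group Q] : Subgroup Q := thompsonSubgroupA Q

theorem functorOf_thompsonA {G : Type u} [Group G] (T : Subgroup G) :
    functorOf thompsonA T = thompsonSubgroupAOf T := rfl

theorem thompsonA_map (Q R : Type u) [Group Q] [Group R] [Finite Q] (_hQ : IsPGroup p Q)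
    (φ : Q ≃* R) : (thompsonA Q).map φ.toMonoidHom = thompsonA R :=
  Cfsg.Lib.Local.GlaubermanZJ.map_thompsonSubgroupA φ

theorem center_le_thompsonA (Q : Type u) [Group Q] [Finite Q] (_hQ : IsPGroup p Q) :
    Subgroup.center Q ≤ thompsonA Q := by
  intro x hx
  obtain ⟨A, hA⟩ := Cfsg.Lib.Local.GlaubermanZJ.exists_isMaxAbIn (⊤ : Subgroup Q)
  have hAm : A ∈ maxAbelianSubgroups Q := ⟨hA.2.1, fun B hB => hA.2.2 B le_top hB⟩
  exact le_sSup hAm (hA.mem_of_commute (Subgroup.mem_top _)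
    fun a _ => (Subgroup.mem_center_iff.1 hx a).symm)

theorem le_powerClosure_center {x : Ω}
    (hx : x ∈ Subgroup.closure ((fun z : Ω => z ^ p) ''
      ((S ⊓ Subgroup.centralizer (S : Set Ω) : Subgroup Ω) : Set Ω))) :
    ∃ z ∈ S ⊓ Subgroup.centralizer (S : Set Ω), x = z ^ p := by
  induction hx using Subgroup.closure_induction with
  | mem y hy => obtain ⟨z, hz, rfl⟩ := hy; exact ⟨z, hz, rfl⟩
  | one => exact ⟨1, one_mem _, (one_pow p).symm⟩
  | mul a b _ _ ha hb =>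
    obtain ⟨z, hz, rfl⟩ := ha
    obtain ⟨w, hw, rfl⟩ := hb
    have hc : Commute z w := Subgroup.mem_centralizer_iff.1 hw.2 z hz.1
    exact ⟨z * w, mul_mem hz hw, (hc.mul_pow p).symm⟩
  | inv a _ ha =>
    obtain ⟨z, hz, rfl⟩ := ha
    exact ⟨z⁻¹, inv_mem hz, (inv_pow z p).symm⟩

/-- A central element of `S` lies in `O_p` of every model of the normalizer of a centric subgroup. -/
theorem mem_pCore_of_center {F : FusionSystem S} (hS : IsPGroup p S) {U : Subgroup Ω}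
    (hUn : F.IsFullyNormalized U) (hUc : F.IsCentric U) {N : FusionSystem (normalizerIn S U)}
    (hN : F.IsNormalizerSystem U N) {L : Type u} [Group L] [Finite L] {ι : normalizerIn S U →* L}
    (hL : N.IsModel p L ι) {z : Ω} (hz : z ∈ S ⊓ Subgroup.centralizer (S : Set Ω)) :
    ∃ h : z ∈ normalizerIn S U, ι ⟨z, h⟩ ∈ pCore p L ∧
      ∀ t ∈ ι.range, Commute t (ι ⟨z, h⟩) := by
  have hzU : z ∈ U := hUc.2 U (isConj_refl F hUn.1) (mem_centralizerIn.2 ⟨hz.1, fun y hy =>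
    (Subgroup.mem_centralizer_iff.1 hz.2 y (hUn.1 hy)).symm⟩)
  have hzT : z ∈ normalizerIn S U := le_normalizerIn hUn.1 hzU
  haveI := finite_of_le (normalizerIn_le (S := S) U)
  haveI : (imageOf ι U).Normal := imageOf_normal hL (isNormal_normalizerSystem hUn.1 hN)
  refine ⟨hzT, Cfsg.Lib.Core.le_pCore (N := imageOf ι U) ?_
    (mem_imageOf.2 ⟨⟨z, hzT⟩, hzU, rfl⟩), ?_⟩
  · exact (((hS.to_le (normalizerIn_le U)).to_subgroup _).map ι)
  · rintro _ ⟨t, rfl⟩
    exact (show Commute t ⟨z, hzT⟩ from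
      Subtype.ext (Subgroup.mem_centralizer_iff.1 hz.2 t t.2.1)).map ι

/-- An element of `Z(S)` fixed by `N_F(W S)` and centralized in the models is central. -/
theorem mem_center_of_functor (hS : IsPGroup p S) {F : FusionSystem S} (hF : F.IsSaturated p)
    (W : ∀ (Q : Type u) [Group Q], Subgroup Q)
    (hW2 : ∀ (Q R : Type u) [Group Q] [Group R] [Finite Q], IsPGroup p Q →
      ∀ φ : Q ≃* R, (W Q).map φ.toMonoidHom = W R)
    (hWZ : ∀ (Q : Type u) [Group Q] [Finite Q], IsPGroup p Q → Subgroup.center Q ≤ W Q)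
    {z : Ω} (hz : z ∈ S ⊓ Subgroup.centralizer (S : Set Ω)) (q : ℕ)
    {N₀ : FusionSystem (normalizerIn S (functorOf W S))}
    (hN₀ : F.IsNormalizerSystem (functorOf W S) N₀) (hxN : z ^ q ∈ N₀.center)
    (hgrp : ∀ (L : Type u) [Group L] [Finite L] (T : Sylow p L) (z' : L), z' ∈ pCore p L →
      (∀ t ∈ (T : Subgroup L), Commute t z') →
      Subgroup.normalizer (functorOf W (T : Subgroup L) : Set L) ≤
        Subgroup.centralizer ({z' ^ q} : Set L) → ∀ a : L, Commute a (z' ^ q)) :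
    z ^ q ∈ F.center := by
  set x := z ^ q with hxdef
  have hxS : x ∈ S ⊓ Subgroup.centralizer (S : Set Ω) := Subgroup.pow_mem _ hz q
  set V := Subgroup.zpowers x
  have hV : V ≤ S ⊓ Subgroup.centralizer (S : Set Ω) := Subgroup.zpowers_le.2 hxS
  have hVS : V ≤ S := hV.trans inf_le_left
  have hxC : centralizerIn S V = S :=
    le_antisymm (centralizerIn_le _) fun g hg => mem_centralizerIn.2 ⟨hg, fun y hy =>
      Subgroup.mem_centralizer_iff.1 (hV hy).2 g hg⟩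
  obtain ⟨E₀, hE₀⟩ := exists_centralizerSystem F hVS
  obtain ⟨E, hE⟩ := exists_copy hxC E₀
  have hC : ∀ R, F.centralizerHom V R ⊆ E.Hom R := fun R φ hφ => by rw [hE, hE₀]; exact hφ
  have hEfix : ∀ R, ∀ φ ∈ E.Hom R, ∀ hx : x ∈ R, φ ⟨x, hx⟩ = x := by
    intro R φ hφ hx
    rw [hE, hE₀] at hφ
    obtain ⟨-, -, -, ψ, -, hψe, hψf⟩ := hφ
    rw [← hψe ⟨x, hx⟩]
    exact hψf ⟨x, Subgroup.mem_zpowers x⟩
  obtain ⟨hWS, hchar⟩ := functorOf_char W hW2 S hS
  have hNS : normalizerIn S (functorOf W S) = S :=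
    normalizerIn_eq_self (Subgroup.le_normalizer.trans (le_normalizer_of_char hWS hchar))
  haveI := finite_of_le (normalizerIn_le (S := S) (functorOf W S))
  have hxW : x ∈ functorOf W S :=
    ⟨⟨x, hxS.1⟩, hWZ S hS (Subgroup.mem_center_iff.2 fun s =>
      Subtype.ext (Subgroup.mem_centralizer_iff.1 hxS.2 s s.2)), rfl⟩
  have hN : ∀ R, F.normalizerHom (functorOf W S) R ⊆ E.Hom R := by
    intro R φ hφ
    obtain ⟨hφF, hR, hφv, ψ, hψ, hψe, hψW⟩ := hφ
    have hle : R ⊔ functorOf W S ≤ normalizerIn S (functorOf W S) :=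
      sup_le hR (le_normalizerIn hWS)
    have hψN : ψ ∈ N₀.Hom (R ⊔ functorOf W S) :=
      mem_normalizerSystem_of_le hN₀ hψ le_sup_right hle hψW
    have hψE : ψ ∈ E.Hom (R ⊔ functorOf W S) :=
      mem_of_fix hV hC hψ (Subgroup.zpowers_le.2 (Subgroup.mem_sup_right hxW)) fun v hv => by
        obtain ⟨i, rfl⟩ := Subgroup.mem_zpowers_iff.1 hv
        rw [show (⟨x ^ i, _⟩ : (R ⊔ functorOf W S : Subgroup Ω)) = ⟨x, Subgroup.mem_sup_right hxW⟩ ^ i
          from Subtype.ext (by simp), map_zpow,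
          center_fixed N₀ hxN (y := (⟨x, Subgroup.mem_sup_right hxW⟩ : (R ⊔ functorOf W S : Subgroup Ω)))
            hψN rfl]
    exact hom_congr (restrict_mem hψE le_sup_left) fun y => (hψe y).symm
  have hle : F ≤ E := by
    refine le_of_functor hS hF W hW2 hWZ hV E hC hN ?_
    intro U hUn hUc N hN' L _ _ ι hL Ts hTs P hsound _ hPC hPN X a hX haX
    obtain ⟨hzT, hzQ, hzc⟩ := mem_pCore_of_center hS hUn hUc hN' hL hz
    have hxe : ι ⟨z, hzT⟩ ^ q = ι ⟨x, Subgroup.pow_mem _ hzT q⟩ := (map_pow ι ⟨z, hzT⟩ q).symm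
    haveI := finite_of_le (normalizerIn_le (S := S) U)
    haveI hUimg : (imageOf ι U).Normal := imageOf_normal hL (isNormal_normalizerSystem hUn.1 hN')
    have hUTs : imageOf ι U ≤ (Ts : Subgroup L) := by rw [hTs]; rintro _ ⟨y, -, rfl⟩; exact ⟨y, rfl⟩
    have hxU : x ∈ U := hUc.2 U (isConj_refl F hUn.1) (mem_centralizerIn.2 ⟨hxS.1, fun y hy =>
      (Subgroup.mem_centralizer_iff.1 hxS.2 y (hUn.1 hy)).symm⟩)
    have hloc : Subgroup.normalizer (functorOf W (Ts : Subgroup L) : Set L) ≤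
        Subgroup.centralizer ({ι ⟨z, hzT⟩ ^ q} : Set L) := by
      intro g hg
      refine Subgroup.mem_centralizer_iff.2 fun y hy => ?_
      rw [Set.mem_singleton_iff.1 hy, hxe]
      have hgU : (imageOf ι U).map (MulAut.conj g).toMonoidHom ≤ Ts :=
        fun w ⟨u, hu, he⟩ => he ▸ hUTs (hUimg.conj_mem u hu g)
      obtain ⟨φ, hφ, hφv, hφe⟩ := hsound g (hPN _ g hUTs hgU hg)
      have h1 := hφe ⟨x, hxU⟩ (Subgroup.pow_mem _ hzT q)
      rw [show (⟨φ ⟨x, hxU⟩, hφv _⟩ : normalizerIn S U) = ⟨x, Subgroup.pow_mem _ hzT q⟩ from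
        Subtype.ext (hEfix U φ hφ hxU)] at h1
      exact mul_inv_eq_iff_eq_mul.1 h1.symm ▸ rfl
    have hall := hgrp L Ts (ι ⟨z, hzT⟩) hzQ (fun t ht => hzc t (hTs ▸ ht)) hloc a
    refine hPC X a hX haX (Subgroup.mem_centralizer_iff.2 ?_)
    intro w hw
    obtain ⟨⟨b, hbT⟩, hb, rfl⟩ := mem_imageOf.1 hw
    obtain ⟨i, rfl⟩ := Subgroup.mem_zpowers_iff.1 (show b ∈ Subgroup.zpowers x from hb)
    rw [show (⟨x ^ i, hbT⟩ : normalizerIn S U) = ⟨x, Subgroup.pow_mem _ hzT q⟩ ^ i from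
      Subtype.ext (by simp), map_zpow, ← hxe]
    exact ((hall.zpow_right i).symm).eq
  exact (mem_center_iff' hS hF).2 ⟨hxS.1, fun R φ hφ hx => hEfix R φ (hle R hφ) hx⟩

theorem center_inf_normalizer_le (hS : IsPGroup p S) {F : FusionSystem S}
    (W : ∀ (Q : Type u) [Group Q], Subgroup Q)
    (hW2 : ∀ (Q R : Type u) [Group Q] [Group R] [Finite Q], IsPGroup p Q →
      ∀ φ : Q ≃* R, (W Q).map φ.toMonoidHom = W R)
    {N₀ : FusionSystem (normalizerIn S (functorOf W S))}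
    (_hN₀ : F.IsNormalizerSystem (functorOf W S) N₀) :
    N₀.center ≤ S ⊓ Subgroup.centralizer (S : Set Ω) := by
  obtain ⟨hWS, hchar⟩ := functorOf_char W hW2 S hS
  have hNS : normalizerIn S (functorOf W S) = S :=
    normalizerIn_eq_self (Subgroup.le_normalizer.trans (le_normalizer_of_char hWS hchar))
  haveI := finite_of_le (normalizerIn_le (S := S) (functorOf W S))
  intro z hz
  exact ⟨normalizerIn_le _ ((isCentral_center N₀).1 hz), Subgroup.mem_centralizer_iff.2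
    fun g hg => commute_of_mem_center N₀ hz (hNS.symm ▸ hg)⟩

/-- Glauberman's generation theorem. -/
theorem le_of_agemo_thompson (hS : IsPGroup p S) {F : FusionSystem S} (hF : F.IsSaturated p)
    (E : FusionSystem S)
    (hC : ∀ R, F.centralizerHom (powerClosure p 1 (S ⊓ Subgroup.centralizer (S : Set Ω))) R ⊆ E.Hom R)
    (hN : ∀ R, F.normalizerHom (thompsonSubgroupAOf S) R ⊆ E.Hom R) : F ≤ E := by
  have hV : ∀ v ∈ powerClosure p 1 (S ⊓ Subgroup.centralizer (S : Set Ω)),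
      ∃ z ∈ S ⊓ Subgroup.centralizer (S : Set Ω), v = z ^ p := fun v hv =>
    le_powerClosure_center (Subgroup.closure_mono (fun y hy => by
      obtain ⟨x, hx, he⟩ := hy
      exact ⟨x, hx, by rw [he, pow_one]⟩) hv)
  refine le_of_functor hS hF thompsonA thompsonA_map center_le_thompsonA (fun v hv => ?_) E hC hN ?_
  · obtain ⟨z, hz, rfl⟩ := hV v hv
    exact Subgroup.pow_mem _ hz p
  intro U hUn hUc N hN' L _ _ ι hL Ts hTs P _ hcomp hPC hPN
  refine Cfsg.Lib.Local.QuadraticGen.generated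
    (fun G _ T => thompsonSubgroupAOf T)
    (fun G H _ _ _ _ f hf T _ => Cfsg.Lib.Local.QuadraticGen.thompson_map G H f hf T)
    (fun G _ _ T => Cfsg.Lib.Local.QuadraticGen.thompson_quadCond G T) _ L le_rfl Ts
    (imageOf ι (powerClosure p 1 (S ⊓ Subgroup.centralizer (S : Set Ω)))) ?_ P hcomp hPC hPN
  intro v hv
  obtain ⟨⟨w, hwT⟩, hw, rfl⟩ := mem_imageOf.1 hv
  obtain ⟨z, hz, rfl⟩ := hV w hw
  obtain ⟨hzT, hzQ, hzc⟩ := mem_pCore_of_center hS hUn hUc hN' hL hz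
  exact ⟨ι ⟨z, hzT⟩, hzQ, fun t ht => hzc t (hTs ▸ ht),
    (congrArg ι (Subtype.ext rfl)).trans (map_pow ι ⟨z, hzT⟩ p)⟩

/-- Thompson's normal `p`-complement theorem. -/
theorem le_inner_of_thompson (hS : IsPGroup p S) {F : FusionSystem S} (hF : F.IsSaturated p)
    (hp : p ≠ 2 ∨ F.IsSectionFree p (Equiv.Perm (Fin 4)))
    (hC : ∀ R, F.centralizerHom (S ⊓ Subgroup.centralizer (S : Set Ω)) R ⊆ (innerFusionSystem S).Hom R)
    (hN : ∀ R, F.normalizerHom (thompsonSubgroupAOf S) R ⊆ (innerFusionSystem S).Hom R) :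
    F ≤ innerFusionSystem S := by
  refine le_of_functor hS hF thompsonA thompsonA_map center_le_thompsonA le_rfl _ hC hN ?_
  intro U hUn hUc N hN' L _ _ ι hL Ts hTs P hsound _ hPC hPN X a hX haX
  haveI := finite_of_le (normalizerIn_le (S := S) U)
  haveI hUimg : (imageOf ι U).Normal := imageOf_normal hL (isNormal_normalizerSystem hUn.1 hN')
  have hUTs : imageOf ι U ≤ (Ts : Subgroup L) := by rw [hTs]; rintro _ ⟨y, -, rfl⟩; exact ⟨y, rfl⟩
  have hUT : U ≤ normalizerIn S U := le_normalizerIn hUn.1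
  have hcU : Subgroup.centralizer (imageOf ι U : Set L) ≤ imageOf ι U :=
    centralizer_imageOf_le hL (isNormal_normalizerSystem hUn.1 hN') (fun c hc => by
      exact hUc.2 U (isConj_refl F hUn.1) ⟨normalizerIn_le U hc.1, hc.2⟩)
  have hmem : ∀ g : L, P (imageOf ι U) g → g ∈ (Ts : Subgroup L) := by
    intro g hg
    obtain ⟨φ, ⟨-, s, hs, hse⟩, hφv, hφe⟩ := hsound g hg
    have hsN : s ∈ normalizerIn S U := by
      haveI := finite_of_le hUn.1
      refine ⟨hs, Subgroup.mem_normalizer_fintype fun n hn => ?_⟩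
      obtain ⟨b, hb, hbe⟩ := mem_imageOf.1
        (hUimg.conj_mem _ (mem_imageOf.2 ⟨⟨n, hUT hn⟩, hn, rfl⟩) g)
      rw [← hφe ⟨n, hn⟩ (hUT hn)] at hbe
      have h1 := hL.2.1.1 hbe
      show s * n * s⁻¹ ∈ U
      rw [← hse ⟨n, hn⟩]
      simpa [h1] using hb
    have h1 : (ι ⟨s, hsN⟩)⁻¹ * g ∈ imageOf ι U := by
      refine hcU (Subgroup.mem_centralizer_iff.2 fun w hw => ?_)
      obtain ⟨⟨u, huT⟩, hu, rfl⟩ := mem_imageOf.1 hw
      have h2 : g * ι ⟨u, huT⟩ * g⁻¹ = ι ⟨s, hsN⟩ * ι ⟨u, huT⟩ * (ι ⟨s, hsN⟩)⁻¹ := by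
        rw [← hφe ⟨u, hu⟩ huT, ← map_inv, ← map_mul, ← map_mul]
        exact congrArg ι (Subtype.ext (hse ⟨u, hu⟩))
      calc ι ⟨u, huT⟩ * ((ι ⟨s, hsN⟩)⁻¹ * g) = (ι ⟨s, hsN⟩)⁻¹ *
            (ι ⟨s, hsN⟩ * ι ⟨u, huT⟩ * (ι ⟨s, hsN⟩)⁻¹) * g := by group
        _ = (ι ⟨s, hsN⟩)⁻¹ * (g * ι ⟨u, huT⟩ * g⁻¹) * g := by rw [h2]
        _ = (ι ⟨s, hsN⟩)⁻¹ * g * ι ⟨u, huT⟩ := by group
    have h3 : g = ι ⟨s, hsN⟩ * ((ι ⟨s, hsN⟩)⁻¹ * g) := by group
    rw [h3]
    exact Subgroup.mul_mem _ (hTs ▸ ⟨_, rfl⟩) (hUTs h1)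
  have hconjU : ∀ g, (imageOf ι U).map (MulAut.conj g).toMonoidHom ≤ (Ts : Subgroup L) :=
    fun g w ⟨u, hu, he⟩ => he ▸ hUTs (hUimg.conj_mem u hu g)
  have hfree : Cfsg.Lib.ThompsonA.FreeA p L := hp.imp_right fun h => h U hUn hUc N hN' L ι hL
  have hZimg : imageOf ι (S ⊓ Subgroup.centralizer (S : Set Ω)) ≤
      Cfsg.Lib.Thompson.zenter (Ts : Subgroup L) := by
    intro w hw
    obtain ⟨b, hb, rfl⟩ := mem_imageOf.1 hw
    refine ⟨hTs ▸ ⟨b, rfl⟩, Subgroup.mem_centralizer_iff.2 ?_⟩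
    intro t ht
    rw [SetLike.mem_coe, hTs] at ht
    obtain ⟨c, rfl⟩ := ht
    rw [← map_mul, ← map_mul]
    exact congrArg ι (Subtype.ext (Subgroup.mem_centralizer_iff.1 hb.2 c c.2.1))
  have hloc : Cfsg.Lib.ThompsonA.LocalA p (Ts : Subgroup L) := by
    refine ⟨Cfsg.Lib.Fusion.hasNormalPComplement_of_isPGroup (Ts.isPGroup'.to_le fun g hg =>
      hmem g (hPN _ g hUTs (hconjU g) hg)), Cfsg.Lib.Fusion.hasNormalPComplement_of_isPGroup
        (Ts.isPGroup'.to_le fun g hg => hmem g (hPC _ g hUTs (hconjU g) ?_))⟩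
    exact Subgroup.centralizer_le hZimg hg
  have hLp : IsPGroup p L := isPGroup_of_complement hL.2.2.2
    (Cfsg.Lib.ThompsonA.normal_p_complement hfree Ts hloc)
  have htop : (Ts : Subgroup L) = ⊤ :=
    Ts.is_maximal' (Q := ⊤) (hLp.to_subgroup ⊤) le_top ▸ rfl
  refine hPC X a hX haX (Subgroup.mem_centralizer_iff.2 fun w hw => ?_)
  exact (Subgroup.mem_centralizer_iff.1 (hZimg hw).2 a (htop.ge (Subgroup.mem_top a))).symm

end Cfsg.Lib.FusionSys
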