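import Cfsg.Agent.Lib.FusionSys.Alperin

/-!
An essential class cannot be left out of a generating family.
-/

set_option autoImplicit false

namespace Cfsg.Lib.FusionSys

open Cfsg Cfsg.FusionSystem

variable {Ω : Type*} [Group Ω] {S : Subgroup Ω} {F : FusionSystem S} {P Q : Subgroup Ω}

/-- Read through fixed normalizer maps, the map lies in the extensible automorphisms of `Q`. -/
def GoodAt (F : FusionSystem S) (Q : Subgroup Ω) {P : Subgroup Ω} (φ : P →* Ω) : Prop :=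
  ∀ χ ∈ F.Hom (normalizerIn S P), (P.subgroupOf (normalizerIn S P)).map χ = Q →
    ∀ χ' ∈ F.Hom (normalizerIn S φ.range),
      (φ.range.subgroupOf (normalizerIn S φ.range)).map χ' = Q →
        ∀ α : MulAut Q,
          (∀ (x : Ω) (hxP : x ∈ P) (hx : x ∈ normalizerIn S P) (hq : χ ⟨x, hx⟩ ∈ Q)
            (hy : φ ⟨x, hxP⟩ ∈ normalizerIn S φ.range),
            (α ⟨χ ⟨x, hx⟩, hq⟩ : Ω) = χ' ⟨φ ⟨x, hxP⟩, hy⟩) →
          α ∈ extensibleAut F Q

theorem exists_preimage_map {N : Subgroup Ω} {χ : N →* Ω} (h : (P.subgroupOf N).map χ = Q) (q : Q) :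
    ∃ (x : Ω) (hx : x ∈ N), x ∈ P ∧ χ ⟨x, hx⟩ = q :=
  mem_map_subgroupOf.1 (h.ge q.2)

theorem goodAt_of_extends [Finite S] {p : ℕ} [Fact p.Prime] (hS : IsPGroup p S) {R : Subgroup Ω}
    (hPR : P < R) {φ : P →* Ω} {ψ : R →* Ω} (hψ : ψ ∈ F.Hom R)
    (he : ∀ x : P, ψ (Subgroup.inclusion hPR.le x) = φ x) : GoodAt F Q φ := by
  intro χ hχ hχQ χ' hχ' hχQ' α hα
  let R' := normalizerIn R P
  have hRS := hom_le hψ
  haveI := finite_of_le hRS
  have hlt : P < R' := lt_normalizerIn (hS.to_le hRS) hPR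
  have hR' : R' ≤ normalizerIn S P := fun g hg => ⟨hRS hg.1, hg.2⟩
  have hmap : (P.subgroupOf R).map ψ = φ.range := by
    ext y
    rw [mem_map_subgroupOf]
    constructor
    · rintro ⟨x, hx, hxP, rfl⟩
      exact ⟨⟨x, hxP⟩, (he ⟨x, hxP⟩).symm⟩
    · rintro ⟨x, rfl⟩
      exact ⟨x, hPR.le x.2, x.2, he x⟩
  have hv : ∀ g : R', ψ (Subgroup.inclusion inf_le_left g) ∈ normalizerIn S φ.range := fun g => by
    refine ⟨hom_mem hψ _, ?_⟩
    rw [← hmap]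
    exact map_mem_normalizer ψ _ g.2.2
  -- `ψ` on `R'`, read through the normalizer maps
  have h1 := restrict_mem hψ (inf_le_left : R' ≤ R)
  have h2 := F.comp_mem h1 hχ' hv
  obtain ⟨κ, hκ, hκe⟩ := F.inv_mem (restrict_mem hχ hR')
  have hκv : ∀ y : (χ.comp (Subgroup.inclusion hR')).range, κ y ∈ R' := by
    rintro ⟨_, x, rfl⟩
    rw [hκe x]
    exact x.2
  have h3 := F.comp_mem hκ h2 hκv
  let N := (χ.comp (Subgroup.inclusion hR')).range
  have hQN : Q ≤ N := by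
    intro q hq
    obtain ⟨x, hx, hxP, hxe⟩ := exists_preimage_map hχQ ⟨q, hq⟩
    exact ⟨⟨x, hlt.le hxP⟩, hxe⟩
  have hQlt : Q < N := by
    refine lt_of_le_of_ne hQN fun heq => ?_
    obtain ⟨g, hg, hgP⟩ := SetLike.exists_of_lt hlt
    have hgQ : χ ⟨g, hR' hg⟩ ∈ Q := heq.symm ▸ ⟨⟨g, hg⟩, rfl⟩
    obtain ⟨x, hx, hxP, hxe⟩ := exists_preimage_map hχQ ⟨_, hgQ⟩
    have hxg : x = g := congrArg Subtype.val (F.injective_of_mem hχ hxe)
    exact hgP (hxg ▸ hxP)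
  refine Subgroup.subset_closure ⟨N, hQlt, _, h3, fun q => ?_⟩
  obtain ⟨x, hx, hxP, hxe⟩ := exists_preimage_map hχQ q
  have hy : φ ⟨x, hxP⟩ ∈ normalizerIn S φ.range := by
    have hle : φ.range ≤ S := by
      rintro _ ⟨z, rfl⟩
      rw [← he z]
      exact hom_mem hψ _
    exact le_normalizerIn hle ⟨_, rfl⟩
  have h4 := hα x hxP hx (by rw [hxe]; exact q.2) hy
  have hq : (⟨χ ⟨x, hx⟩, by rw [hxe]; exact q.2⟩ : Q) = q := Subtype.ext hxe
  rw [hq] at h4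
  rw [h4]
  have h5 : κ (Subgroup.inclusion hQlt.le q) = x := by
    refine Eq.trans ?_ (hκe ⟨x, hlt.le hxP⟩)
    exact congrArg κ (Subtype.ext hxe.symm)
  show χ' ⟨ψ _, _⟩ = χ' ⟨φ ⟨x, hxP⟩, hy⟩
  refine congrArg χ' (Subtype.ext ?_)
  show ψ _ = φ ⟨x, hxP⟩
  rw [← he ⟨x, hxP⟩]
  exact congrArg ψ (Subtype.ext h5)

theorem goodAt_congr {φ φ' : P →* Ω} (h : φ = φ') (hg : GoodAt F Q φ) : GoodAt F Q φ' := h ▸ hg

/-- The maps that are good at the class of `Q`. -/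
def avoidSystem [Finite S] (F : FusionSystem S) {p : ℕ} [Fact p.Prime] (hS : IsPGroup p S)
    (hfa : F.IsFullyAutomized p Q) (hrec : F.IsReceptive Q) (hQS : Q < S) : FusionSystem S where
  Hom P := {φ | φ ∈ F.Hom P ∧ (F.IsConj P Q → GoodAt F Q φ)}
  le_of_mem h := F.le_of_mem h.1
  injective_of_mem h := F.injective_of_mem h.1
  conj_mem {P g} hP hg := by
    refine ⟨F.conj_mem hP hg, fun hc => ?_⟩
    have hPS : P < S := lt_of_le_of_ne hP fun he => hQS.ne (eq_top_of_isConj (he ▸ hc))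
    exact goodAt_of_extends hS hPS (F.conj_mem le_rfl hg) fun x => rfl
  comp_mem {P R φ ψ} hφ hψ hv := by
    refine ⟨F.comp_mem hφ.1 hψ.1 hv, fun hc => ?_⟩
    have hr : φ.range ≤ R := by rintro _ ⟨x, rfl⟩; exact hv x
    have hcr : F.IsConj φ.range Q := isConj_trans (isConj_symm ⟨φ, hφ.1, rfl⟩) hc
    have hgψ : GoodAt F Q (ψ.comp (Subgroup.inclusion hr)) := by
      rcases eq_or_lt_of_le hr with heq | hlt
      · have h := hψ.2 (heq ▸ hcr)
        subst heq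
        exact goodAt_congr (MonoidHom.ext fun _ => rfl) h
      · exact goodAt_of_extends hS hlt hψ.1 fun x => rfl
    intro χ hχ hχQ χ'' hχ'' hχQ'' α hα
    obtain ⟨χ', hχ', hv', hχQ'⟩ := exists_normalizer_map hS hfa hrec hcr
    -- the middle automorphism
    have hbij : ∃ β : MulAut Q, ∀ (x : Ω) (hxP : x ∈ P) (hx : x ∈ normalizerIn S P)
        (hq : χ ⟨x, hx⟩ ∈ Q) (hy : φ ⟨x, hxP⟩ ∈ normalizerIn S φ.range),
        (β ⟨χ ⟨x, hx⟩, hq⟩ : Ω) = χ' ⟨φ ⟨x, hxP⟩, hy⟩ := by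
      have hP := hom_le hφ.1
      haveI := finite_of_le hQS.le
      obtain ⟨κ, hκ, hκe⟩ := F.inv_mem (restrict_mem hχ (le_normalizerIn hP))
      have hQr : Q ≤ (χ.comp (Subgroup.inclusion (le_normalizerIn hP))).range := by
        intro q hq
        obtain ⟨x, hx, hxP, hxe⟩ := exists_preimage_map hχQ ⟨q, hq⟩
        exact ⟨⟨x, hxP⟩, hxe⟩
      have h1 := F.comp_mem (restrict_mem hκ hQr) hφ.1 (by
        intro q
        obtain ⟨x, hx⟩ := hQr q.2
        have : (Subgroup.inclusion hQr q) = ⟨_, x, rfl⟩ := Subtype.ext hx.symm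
        show κ (Subgroup.inclusion hQr q) ∈ P
        rw [this, hκe x]
        exact x.2)
      have hrS : φ.range ≤ S := (isConj_le hcr).1
      have h2 := F.comp_mem h1 hχ' (fun q => le_normalizerIn hrS ⟨_, rfl⟩)
      have hrg := range_eq_of_card_le h2 hQS.le (by
        intro q
        refine hχQ'.le (mem_map_subgroupOf.2 ⟨_, le_normalizerIn hrS ⟨_, rfl⟩, ⟨_, rfl⟩, rfl⟩)) le_rfl
      refine ⟨homIso h2 hrg, fun x hxP hx hq hy => ?_⟩
      refine congrArg χ' (Subtype.ext (congrArg φ (Subtype.ext ?_)))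
      refine Eq.trans ?_ (hκe ⟨x, hxP⟩)
      rfl
    obtain ⟨β, hβ⟩ := hbij
    have hβm : β ∈ extensibleAut F Q := hφ.2 hc χ hχ hχQ χ' hχ' hχQ' β hβ
    have hrc : (ψ.comp (φ.codRestrict R hv)).range = (ψ.comp (Subgroup.inclusion hr)).range := by
      ext y
      constructor
      · rintro ⟨x, rfl⟩; exact ⟨⟨φ x, x, rfl⟩, rfl⟩
      · rintro ⟨⟨_, x, rfl⟩, rfl⟩; exact ⟨x, rfl⟩
    have hγ : α * β⁻¹ ∈ extensibleAut F Q := by
      refine hgψ χ' hχ' hχQ' (χ''.comp (Subgroup.inclusion (by rw [hrc])))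
        (restrict_mem hχ'' _) ?_ (α * β⁻¹) ?_
      · rw [← hχQ'']
        ext y
        rw [mem_map_subgroupOf, mem_map_subgroupOf]
        constructor
        · rintro ⟨z, hz, hzr, rfl⟩
          exact ⟨z, _, hrc.ge hzr, rfl⟩
        · rintro ⟨z, hz, hzr, rfl⟩
          exact ⟨z, by rw [← hrc]; exact hz, hrc.le hzr, rfl⟩
      · rintro _ ⟨⟨x, hxP⟩, rfl⟩ hy hq hz
        have hP := hom_le hφ.1
        have hx := le_normalizerIn hP hxP
        have hqx : χ ⟨x, hx⟩ ∈ Q := hχQ.le (mem_map_subgroupOf.2 ⟨x, hx, hxP, rfl⟩)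
        have h5 : (⟨χ' ⟨φ ⟨x, hxP⟩, hy⟩, hq⟩ : Q) = β ⟨χ ⟨x, hx⟩, hqx⟩ :=
          Subtype.ext (hβ x hxP hx hqx hy).symm
        rw [h5, MulAut.mul_apply, MulAut.inv_apply_self]
        exact hα x hxP hx hqx (le_normalizerIn (by
          rintro _ ⟨z, rfl⟩; exact hom_mem (F.comp_mem hφ.1 hψ.1 hv) z) ⟨_, rfl⟩)
    have := Subgroup.mul_mem _ hγ hβm
    rwa [inv_mul_cancel_right] at this
  inv_mem {P φ} hφ := by
    obtain ⟨ψ, hψ, hψe⟩ := F.inv_mem hφ.1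
    refine ⟨ψ, ⟨hψ, fun hc => ?_⟩, hψe⟩
    intro χ' hχ' hχQ' χ hχ hχQ α hα
    have hP := hom_le hφ.1
    have hr : ψ.range = P := by
      ext y
      constructor
      · rintro ⟨⟨_, x, rfl⟩, rfl⟩; rw [hψe x]; exact x.2
      · intro hy; exact ⟨⟨_, ⟨y, hy⟩, rfl⟩, hψe ⟨y, hy⟩⟩
    have hcP : F.IsConj P Q := isConj_trans ⟨φ, hφ.1, rfl⟩ hc
    have hm : α⁻¹ ∈ extensibleAut F Q := by
      refine hφ.2 hcP (χ.comp (Subgroup.inclusion (by rw [hr]))) (restrict_mem hχ _) ?_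
        χ' hχ' hχQ' α⁻¹ ?_
      · rw [← hχQ]
        ext y
        rw [mem_map_subgroupOf, mem_map_subgroupOf]
        constructor
        · rintro ⟨z, hz, hzr, rfl⟩
          exact ⟨z, _, hr.ge hzr, rfl⟩
        · rintro ⟨z, hz, hzr, rfl⟩
          exact ⟨z, by rw [← hr]; exact hz, hr.le hzr, rfl⟩
      · intro x hxP hx hq hy
        have hrS : φ.range ≤ S := (isConj_le hc).1
        have hqx : χ' ⟨φ ⟨x, hxP⟩, hy⟩ ∈ Q :=
          hχQ'.le (mem_map_subgroupOf.2 ⟨_, hy, ⟨_, rfl⟩, rfl⟩)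
        have hz : ψ ⟨φ ⟨x, hxP⟩, _, rfl⟩ ∈ normalizerIn S ψ.range :=
          le_normalizerIn (by rintro _ ⟨w, rfl⟩; exact hom_mem hψ w) ⟨_, rfl⟩
        have h := hα _ ⟨⟨x, hxP⟩, rfl⟩ hy hqx hz
        have h2 : (⟨χ' ⟨φ ⟨x, hxP⟩, hy⟩, hqx⟩ : Q) = α⁻¹ ⟨_, hq⟩ := by
          rw [← MulAut.inv_apply_self Q α ⟨χ' ⟨φ ⟨x, hxP⟩, hy⟩, hqx⟩]
          congr 1
          refine Subtype.ext (h.trans ?_)
          exact congrArg χ (Subtype.ext (hψe ⟨x, hxP⟩))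
        exact (congrArg Subtype.val h2).symm
    simpa using Subgroup.inv_mem _ hm

theorem exists_avoiding [Finite S] {p : ℕ} [Fact p.Prime] (hS : IsPGroup p S) (hF : F.IsSaturated p)
    (hQ : F.IsEssential p Q) (hQS : Q < S) :
    ∃ E : FusionSystem S, (∀ R : Subgroup Ω, R ≤ S → ¬ F.IsConj Q R → F.autGroup R ≤ E.autGroup R) ∧
      ¬ F ≤ E := by
  obtain ⟨hfc, hfa⟩ := isFullyAutomized_and_fc_of_fn hS hF hQ.2.1
  let E := avoidSystem F hS hfa (isReceptive_of_fc hS hF hfc) hQS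
  refine ⟨E, fun R hR hn α hα => (mem_autGroup hR).2
    ⟨(mem_autGroup hR).1 hα, fun h => absurd (isConj_symm h) hn⟩, fun hle => ?_⟩
  refine extensibleAut_ne_of_isEssential hS hF hQ (le_antisymm extensibleAut_le fun α hα => ?_)
  have hαF := (mem_autGroup hQS.le).1 hα
  obtain ⟨-, hgood⟩ := hle Q hαF
  have hr : (Q.subtype.comp α.toMonoidHom).range = Q := by
    ext y
    exact ⟨by rintro ⟨x, rfl⟩; exact (α x).2, fun hy => ⟨α.symm ⟨y, hy⟩, by simp⟩⟩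
  refine hgood (isConj_refl F hQS.le) _ (subtype_mem F (normalizerIn_le Q)) ?_ _
    (subtype_mem F (normalizerIn_le _)) ?_ α fun x hxP hx hq hy => rfl
  · exact Subgroup.map_subgroupOf_eq_of_le (le_normalizerIn hQS.le)
  · rw [hr]
    exact Subgroup.map_subgroupOf_eq_of_le (le_normalizerIn hQS.le)

/-- The whole of `S` is never essential. -/
theorem lt_of_isEssential [Finite S] {p : ℕ} [Fact p.Prime] (hS : IsPGroup p S)
    (hF : F.IsSaturated p) (hQ : F.IsEssential p Q) : Q < S := by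
  refine lt_of_le_of_ne hQ.1.1 fun he => ?_
  subst he
  obtain ⟨-, -, R, hR⟩ := isFullyAutomized_and_fc_of_fn hS hF hQ.2.1
  obtain ⟨-, -, hN, E, hdvd, -⟩ := hQ
  have hInn : autInducedBy Q Q = Inn Q := by
    refine le_antisymm (fun α hα => ?_) (inn_le_autInducedBy le_rfl)
    obtain ⟨g, hg, hge⟩ := mem_autInducedBy.1 hα
    exact ⟨⟨g, hg⟩, MulEquiv.ext fun x => Subtype.ext (hge x).symm⟩
  refine R.not_dvd_index ?_
  rw [hR, hInn]
  exact hdvd

theorem autGroup_top_le_of_generating {𝒬 : Set (Subgroup Ω)} [Finite S] (hSQ : S ∉ 𝒬)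
    (hg : ∀ E : FusionSystem S, (∀ R ∈ 𝒬, F.autGroup R ≤ E.autGroup R) → F ≤ E)
    (E : FusionSystem S) : F.autGroup S ≤ E.autGroup S := by
  let E' : FusionSystem S :=
    { Hom := fun P => {φ | φ ∈ F.Hom P ∧ (P = S → ∃ g ∈ S, ∀ x : P, φ x = g * x * g⁻¹)}
      le_of_mem := fun h => F.le_of_mem h.1
      injective_of_mem := fun h => F.injective_of_mem h.1
      conj_mem := fun hP hg => ⟨F.conj_mem hP hg, fun _ => ⟨_, hg, fun _ => rfl⟩⟩
      comp_mem := fun {P Q φ ψ} hφ hψ hv => ⟨F.comp_mem hφ.1 hψ.1 hv, fun hP => by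
        obtain ⟨g, hg, hge⟩ := hφ.2 hP
        have hQ : Q = S := by
          refine le_antisymm (hom_le hψ.1) fun s hs => ?_
          have hs' : g⁻¹ * s * g ∈ P := by
            rw [hP]; exact S.mul_mem (S.mul_mem (S.inv_mem hg) hs) hg
          have := hv ⟨_, hs'⟩
          rw [hge] at this
          simpa [mul_assoc] using this
        obtain ⟨h, hh, hhe⟩ := hψ.2 hQ
        refine ⟨h * g, S.mul_mem hh hg, fun x => ?_⟩
        show ψ (φ.codRestrict Q hv x) = _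
        rw [hhe]
        show h * φ x * h⁻¹ = _
        rw [hge, mul_inv_rev]
        simp only [mul_assoc]⟩
      inv_mem := fun {P φ} hφ => by
        obtain ⟨ψ, hψ, hψe⟩ := F.inv_mem hφ.1
        refine ⟨ψ, ⟨hψ, fun hr => ?_⟩, hψe⟩
        have hP : P = S := by
          refine eq_of_le_of_card_le le_rfl (hom_le hφ.1) (le_of_eq ?_)
          rw [card_eq_of_isConj ⟨φ, hφ.1, rfl⟩, hr]
        obtain ⟨g, hg, hge⟩ := hφ.2 hP
        refine ⟨g⁻¹, S.inv_mem hg, fun y => ?_⟩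
        obtain ⟨_, x, rfl⟩ := y
        rw [hψe x]
        show (x : Ω) = g⁻¹ * φ x * g⁻¹⁻¹
        rw [hge]
        simp [mul_assoc] }
  intro α hα
  have hle : F ≤ E' := hg E' fun R hR β hβ => by
    have hRS : R ≤ S ∨ ¬ R ≤ S := Classical.em _
    rcases hRS with h | h
    · exact (mem_autGroup h).2 ⟨(mem_autGroup h).1 hβ, fun he => absurd (he ▸ hR) hSQ⟩
    · refine Subgroup.closure_le _ |>.2 ?_ hβ
      intro a ha
      exact absurd (hom_le ha) h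
  obtain ⟨-, hg'⟩ := hle S ((mem_autGroup le_rfl).1 hα)
  obtain ⟨g, hgS, hge⟩ := hg' rfl
  exact (mem_autGroup le_rfl).2 (hom_congr (E.conj_mem le_rfl hgS) fun x => hge x)

theorem le_of_generating_inter [Finite S] {p : ℕ} [Fact p.Prime] (hS : IsPGroup p S)
    (hF : F.IsSaturated p) {𝒬₁ 𝒬₂ : Set (Subgroup Ω)}
    (h₁ : ∀ R ∈ 𝒬₁, ∀ R', F.IsConj R R' → R' ∈ 𝒬₁) (h₂ : ∀ R ∈ 𝒬₂, ∀ R', F.IsConj R R' → R' ∈ 𝒬₂)
    (hg₁ : ∀ E : FusionSystem S, (∀ R ∈ 𝒬₁, F.autGroup R ≤ E.autGroup R) → F ≤ E)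
    (hg₂ : ∀ E : FusionSystem S, (∀ R ∈ 𝒬₂, F.autGroup R ≤ E.autGroup R) → F ≤ E)
    (E : FusionSystem S) (hE : ∀ R ∈ 𝒬₁ ∩ 𝒬₂, F.autGroup R ≤ E.autGroup R) : F ≤ E := by
  refine le_of_autGroup_le hS hF E fun P hP => ?_
  rcases hP with rfl | hP
  · by_cases hm₁ : P ∈ 𝒬₁
    · by_cases hm₂ : P ∈ 𝒬₂
      · exact hE P ⟨hm₁, hm₂⟩
      · exact autGroup_top_le_of_generating hm₂ hg₂ E
    · exact autGroup_top_le_of_generating hm₁ hg₁ E
  refine hE P ⟨?_, ?_⟩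
  · by_contra hm
    obtain ⟨E', hE', hne⟩ := exists_avoiding hS hF hP (lt_of_isEssential hS hF hP)
    refine hne (hg₁ E' fun R hR => ?_)
    by_cases hRS : R ≤ S
    · exact hE' R hRS fun hc => hm (h₁ R hR P (isConj_symm hc))
    · exact (Subgroup.closure_le _).2 fun a ha => absurd (hom_le ha) hRS
  · by_contra hm
    obtain ⟨E', hE', hne⟩ := exists_avoiding hS hF hP (lt_of_isEssential hS hF hP)
    refine hne (hg₂ E' fun R hR => ?_)
    by_cases hRS : R ≤ S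
    · exact hE' R hRS fun hc => hm (h₂ R hR P (isConj_symm hc))
    · exact (Subgroup.closure_le _).2 fun a ha => absurd (hom_le ha) hRS

end Cfsg.Lib.FusionSys
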