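import Cfsg.Agent.Lib.FusionSys.NormalLift
import Mathlib.GroupTheory.Focal

/-!
# A group of lifts with Sylow subgroup induced by `T`

For `Q ≤ T` weakly closed in `F` and centric in `E`, the good extensions on `Q C_S(Q)` of products of
`p`-elements of `Aut_E(Q)` have focal subgroup induced by `T` (receptivity of `Q C_S(Q)`), so the elements
whose `p'`-power lies in the commutator subgroup times the elements induced by `T` form a group in which
the latter is a Sylow subgroup.  Its image in the lifts over `c` contains all the lifts of order prime to `p`.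
-/

set_option autoImplicit false
set_option linter.style.haveILetI false

namespace Cfsg.Lib.FusionSys

open Cfsg Cfsg.FusionSystem
open scoped Pointwise commutatorElement

variable {Ω : Type*} [Group Ω] {S T : Subgroup Ω} {F : FusionSystem S} {E : FusionSystem T} {p : ℕ}

theorem le_normalizer_of_weaklyClosed [Finite S] {P : Subgroup Ω} (hwc : F.WeaklyClosed P) :
    S ≤ Subgroup.normalizer (P : Set Ω) := by
  intro g hg
  haveI := finite_of_le hwc.1
  refine Subgroup.mem_normalizer_fintype (S := (P : Set Ω)) fun n hn => ?_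
  exact (hwc.2 _ (F.conj_mem hwc.1 hg)).le ⟨⟨n, hn⟩, rfl⟩

/-- The lifts induced by `T`. -/
def conjLifts (F : FusionSystem S) (E : FusionSystem T) (hT : F.StronglyClosed T) (P : Subgroup Ω)
    (hP : P ≤ T) (c : Ω) (hcS : c ∈ S) : Subgroup (liftGroup F E hT P hP c hcS) where
  carrier := {γ | ∃ t ∈ T, ∀ x, (((γ : MulAut ↥(P ⊔ Subgroup.zpowers c)) x : _) : Ω) = t * x * t⁻¹}
  one_mem' := ⟨1, one_mem _, fun x => by simp⟩
  mul_mem' := by
    rintro γ γ' ⟨t, ht, he⟩ ⟨u, hu, he'⟩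
    refine ⟨t * u, mul_mem ht hu, fun x => ?_⟩
    rw [Subgroup.coe_mul, MulAut.mul_apply, he, he']
    group
  inv_mem' := by
    rintro γ ⟨t, ht, he⟩
    refine ⟨t⁻¹, inv_mem ht, fun x => ?_⟩
    have h := he ((γ : MulAut ↥(P ⊔ Subgroup.zpowers c))⁻¹ x)
    rw [MulAut.apply_inv_self] at h
    rw [Subgroup.coe_inv, h]
    group

theorem commute_mul_pow_mem {G : Type*} [Group G] {N : Subgroup G} [N.Normal]
    (hN : commutator G ≤ N) {g h : G} {m n : ℕ} (hg : g ^ m ∈ N) (hh : h ^ n ∈ N) :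
    (g * h) ^ (m * n) ∈ N := by
  rw [← QuotientGroup.eq_one_iff] at hg hh ⊢
  rw [QuotientGroup.mk_pow] at hg hh ⊢
  rw [QuotientGroup.mk_mul]
  have hc : Commute (QuotientGroup.mk g : G ⧸ N) (QuotientGroup.mk h) := by
    rw [← commutatorElement_eq_one_iff_commute]
    show ((⁅g, h⁆ : G) : G ⧸ N) = 1
    exact (QuotientGroup.eq_one_iff _).2
      (hN (Subgroup.commutator_mem_commutator (Subgroup.mem_top g) (Subgroup.mem_top h)))
  rw [hc.mul_pow, pow_mul, hg, one_pow, one_mul, mul_comm, pow_mul, hh, one_pow]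

theorem exists_goodCover [Finite S] [Fact p.Prime] (hS : IsPGroup p S) (hE : E.IsNormalIn F p)
    {hT : F.StronglyClosed T} {Q : Subgroup Ω} {hQT : Q ≤ T} (hwc : F.WeaklyClosed Q)
    (hQc : E.IsCentric Q) {c : Ω} {hcS : c ∈ S} (hcC : c ∈ centralizerIn S T) :
    ∃ K : Subgroup (liftGroup F E hT Q hQT c hcS),
      conjLifts F E hT Q hQT c hcS ≤ K ∧
      ¬ p ∣ (conjLifts F E hT Q hQT c hcS).relIndex K ∧
      ∀ γ : liftGroup F E hT Q hQT c hcS, liftRes γ ∈ pElemAut E p Q →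
        ∀ m : ℕ, m.Coprime p → γ ^ m = 1 → γ ∈ K := by
  classical
  obtain ⟨⟨hEs, hF, hEi⟩, -⟩ := hE
  have hTS := hT.1
  have hQS : Q ≤ S := hQT.trans hTS
  haveI := finite_of_le hTS
  have hTp : IsPGroup p T := hS.to_le hTS
  have hQn : F.IsFullyNormalized Q := ⟨hQS, by rintro R ⟨φ, hφ, rfl⟩; rw [hwc.2 φ hφ]⟩
  obtain ⟨hfc, -⟩ := isFullyAutomized_and_fc_of_fn hS hF hQn
  have hQnE : E.IsFullyNormalized Q := isFullyNormalized_of_invariant hS hF hEi.1 hEi.2.1 hQT hQn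
  haveI := finite_of_le hQS
  haveI : Finite (MulAut Q) := Finite.of_injective (fun f => (f : Q → Q)) DFunLike.coe_injective
  set W₀ := Q ⊔ centralizerIn S Q with hW₀
  have hW₀S : W₀ ≤ S := sup_le hQS (centralizerIn_le Q)
  haveI := finite_of_le hW₀S
  haveI : Finite (MulAut ↥W₀) := Finite.of_injective (fun f => (f : ↥W₀ → ↥W₀)) DFunLike.coe_injective
  have hZ : centralizerIn T Q ≤ Q := hQc.2 Q (isConj_refl E hQT)
  have hQinv : ∀ {M : Subgroup Ω} {φ : M →* Ω}, φ ∈ F.Hom M → ∀ (hle : Q ≤ M) (q : Q),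
      φ (Subgroup.inclusion hle q) ∈ Q := fun hφ hle q =>
    (hwc.2 _ (restrict_mem hφ hle)).le ⟨q, rfl⟩
  have hWwc : F.WeaklyClosed W₀ := by
    refine ⟨hW₀S, fun φ hφ => range_eq_of_card_le hφ hW₀S (hom_mem_of_sup (fun x hx => ?_) fun x hx => ?_)
      le_rfl⟩
    · exact Subgroup.mem_sup_left (hQinv hφ le_sup_left ⟨(x : Ω), hx⟩)
    · refine Subgroup.mem_sup_right (mem_centralizerIn.2 ⟨hom_mem hφ x, fun y hy => ?_⟩)
      obtain ⟨q, rfl⟩ := (hwc.2 _ (restrict_mem hφ (le_sup_left : Q ≤ W₀))).ge hy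
      show φ x * φ (Subgroup.inclusion le_sup_left q) = φ (Subgroup.inclusion le_sup_left q) * φ x
      rw [← map_mul, ← map_mul]
      exact congrArg φ (Subtype.ext ((mem_centralizerIn.1 hx).2 q q.2))
  have hWn : F.IsFullyNormalized W₀ := ⟨hW₀S, by rintro R ⟨φ, hφ, rfl⟩; rw [hWwc.2 φ hφ]⟩
  obtain ⟨hWfc, -, RW, hRW⟩ := isFullyAutomized_and_fc_of_fn hS hF hWn
  have hWrec := isReceptive_of_fc hS hF hWfc
  -- the good extensions of products of `p`-elements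
  let res₀ : goodExt hT Q hQn.1 →* MulAut Q :=
    resAutHom le_sup_left _ fun _ hβ => hβ.1.2
  let G₀ : Subgroup (goodExt hT Q hQn.1) := (pElemAut E p Q).comap res₀
  let rG : G₀ →* pElemAut E p Q := MonoidHom.codRestrict (res₀.comp G₀.subtype) _ fun g => g.2
  have hgood : ∀ a ∈ pElemAut E p Q, a ∈ goodAut hT Q hQn.1 := by
    intro a ha
    refine (?_ : pElemAut E p Q ≤ goodAut hT Q hQn.1) ha
    exact (Subgroup.closure_le _).2 fun a ha => mem_goodAut_of_pElement hS hF hEs hEi hQT hQn ha.1 ha.2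
  have hrG : Function.Surjective rG := by
    rintro ⟨a, ha⟩
    obtain ⟨ψ, hψ, hψe⟩ := hgood a ha
    have he : res₀ ⟨ψ, hψ⟩ = a := MulEquiv.ext fun x => Subtype.ext (hψe x)
    exact ⟨⟨⟨ψ, hψ⟩, show res₀ _ ∈ pElemAut E p Q from he ▸ ha⟩, Subtype.ext he⟩
  let ind : G₀ → MulAut ↥W₀ := fun g => ((g : goodExt hT Q hQn.1) : MulAut ↥W₀)
  let P₀ : Subgroup G₀ := (autInducedBy S W₀).comap
    ((goodExt hT Q hQn.1).subtype.comp G₀.subtype)
  have hmemP : ∀ g : G₀, g ∈ P₀ ↔ ∃ s ∈ S, ∀ x, ((ind g x : _) : Ω) = s * x * s⁻¹ := fun g =>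
    mem_autInducedBy
  have hindinj : Function.Injective ind := fun a b h => Subtype.ext (Subtype.ext h)
  have hindpow : ∀ (g : G₀) (n : ℕ), ind (g ^ n) = ind g ^ n := fun g n =>
    map_pow ((goodExt hT Q hQn.1).subtype.comp G₀.subtype) g n
  have hP₀p : IsPGroup p P₀ := fun g => by
    obtain ⟨k, hk⟩ := isPGroup_autInducedBy hS ⟨ind g, g.2⟩
    refine ⟨k, Subtype.ext (hindinj ?_)⟩
    rw [Subgroup.coe_pow, hindpow]
    exact congrArg Subtype.val hk
  -- elements of `T` give elements of `G₀`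
  have hQnormT : T ≤ Subgroup.normalizer (Q : Set Ω) :=
    hTS.trans (le_normalizer_of_weaklyClosed hwc)
  have hconjG : ∀ t ∈ T, ∃ g : G₀, ∀ x, ((ind g x : _) : Ω) = t * x * t⁻¹ := by
    intro t ht
    have hnW : t ∈ Subgroup.normalizer ((W₀ : Subgroup Ω) : Set Ω) :=
      le_normalizer_of_weaklyClosed hWwc (hTS ht)
    obtain ⟨ψ, hψ, hψe⟩ := conjAut_mem_goodAut hT hQn.1 ht (hQnormT ht)
    have hψ' : (conjAut W₀ hnW : MulAut ↥W₀) ∈ goodExt hT Q hQn.1 := by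
      refine ⟨conjAut_mem_stabAut hW₀S (hTS ht) hnW (hQnormT ht), fun x hx => ?_⟩
      rw [coe_conjAut]
      have h := sc_conj_mem hT (S.inv_mem (hW₀S x.2)) ht
      rw [inv_inv] at h
      have := T.mul_mem h (T.inv_mem ht)
      rwa [show (x : Ω)⁻¹ * t * x * t⁻¹ = (x : Ω)⁻¹ * (t * x * t⁻¹) by group] at this
    have he : res₀ ⟨_, hψ'⟩ = conjAut Q (hQnormT ht) := MulEquiv.ext fun x => Subtype.ext rfl
    refine ⟨⟨⟨_, hψ'⟩, show res₀ _ ∈ pElemAut E p Q from he ▸ Subgroup.subset_closure ⟨?_, ?_⟩⟩,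
      fun x => rfl⟩
    · exact autInducedBy_le_autGroup hQT (conjAut_mem_autInducedBy _ ht)
    · obtain ⟨k, hk⟩ := IsPGroup.iff_orderOf.1 (isPGroup_autInducedBy (P := Q) hTp)
        ⟨_, conjAut_mem_autInducedBy (hQnormT ht) ht⟩
      exact ⟨k, by rwa [Subgroup.orderOf_mk] at hk⟩
  let PT : Subgroup G₀ :=
    { carrier := {g | ∃ t ∈ T, ∀ x, ((ind g x : _) : Ω) = t * x * t⁻¹}
      one_mem' := ⟨1, one_mem _, fun x => by simp [ind]⟩
      mul_mem' := by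
        rintro g h ⟨t, ht, he⟩ ⟨u, hu, he'⟩
        refine ⟨t * u, mul_mem ht hu, fun x => ?_⟩
        show ((ind g (ind h x) : _) : Ω) = _
        rw [he, he']
        group
      inv_mem' := by
        rintro g ⟨t, ht, he⟩
        refine ⟨t⁻¹, inv_mem ht, fun x => ?_⟩
        have h := he (ind g⁻¹ x)
        rw [show ind g (ind g⁻¹ x) = x from MulAut.apply_inv_self _ _ _] at h
        rw [h]
        group }
  have hPTP : PT ≤ P₀ := by
    intro g hg
    obtain ⟨t, ht, he⟩ := hg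
    exact (hmemP g).2 ⟨t, hTS ht, he⟩
  -- the Sylow subgroup of `Aut_E(Q)`
  obtain ⟨-, -, R, hR⟩ := isFullyAutomized_and_fc_of_fn hTp hEs hQnE
  have himg : ∀ g ∈ P₀, res₀ (g : goodExt hT Q hQn.1) ∈ autInducedBy T Q := by
    let f : G₀ →* E.autGroup Q :=
      MonoidHom.codRestrict (res₀.comp G₀.subtype) _ fun g => pElemAut_le Q g.2
    have h1 : (R : Subgroup (E.autGroup Q)) ≤ P₀.map f := by
      intro a ha
      rw [hR, Subgroup.mem_subgroupOf] at ha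
      obtain ⟨t, ht, hte⟩ := mem_autInducedBy.1 ha
      obtain ⟨g, hg⟩ := hconjG t ht
      exact ⟨g, hPTP ⟨t, ht, hg⟩, Subtype.ext (MulEquiv.ext fun x =>
        Subtype.ext ((hg (Subgroup.inclusion le_sup_left x)).trans (hte x).symm))⟩
    have h2 := R.3 (hP₀p.map f) h1
    intro g hg
    have h3 : f g ∈ (R : Subgroup (E.autGroup Q)) := h2 ▸ ⟨g, hg, rfl⟩
    rw [hR, Subgroup.mem_subgroupOf] at h3
    exact h3
  -- the kernel of the restriction is induced by `S`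
  let Ker : Subgroup (F.autGroup W₀) :=
    { carrier := {δ | (∀ x : ↥W₀, (x : Ω) ∈ Q → (δ : MulAut ↥W₀) x = x) ∧
        ∀ x : ↥W₀, (x : Ω)⁻¹ * (((δ : MulAut ↥W₀) x : _) : Ω) ∈ T}
      one_mem' := ⟨fun _ _ => rfl, fun x => by simp⟩
      mul_mem' := by
        rintro δ ε ⟨hδ, hδ'⟩ ⟨hε, hε'⟩
        refine ⟨fun x hx => ?_, fun x => ?_⟩
        · rw [Subgroup.coe_mul, MulAut.mul_apply, hε x hx, hδ x hx]
        · rw [Subgroup.coe_mul, MulAut.mul_apply]
          have := mul_mem (hε' x) (hδ' ((ε : MulAut ↥W₀) x))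
          rwa [mul_assoc, mul_inv_cancel_left] at this
      inv_mem' := by
        rintro δ ⟨hδ, hδ'⟩
        refine ⟨fun x hx => ?_, fun x => ?_⟩
        · rw [Subgroup.coe_inv]
          conv_lhs => rw [← hδ x hx]
          exact MulAut.inv_apply_self _ _ _
        · have := T.inv_mem (hδ' ((δ : MulAut ↥W₀)⁻¹ x))
          rwa [MulAut.apply_inv_self, mul_inv_rev, inv_inv, ← Subgroup.coe_inv] at this }
  have hWQ : ∀ (δ : F.autGroup W₀) (x : ↥W₀), (x : Ω) ∈ Q → (((δ : MulAut ↥W₀) x : _) : Ω) ∈ Q :=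
    fun δ x hx => hQinv ((mem_autGroup hW₀S).1 δ.2) le_sup_left ⟨(x : Ω), hx⟩
  haveI hKn : Ker.Normal := by
    refine ⟨fun δ h β => ?_⟩
    obtain ⟨hδ, hδ'⟩ := h
    refine ⟨fun x hx => ?_, fun x => ?_⟩
    · rw [Subgroup.coe_mul, Subgroup.coe_mul, Subgroup.coe_inv, MulAut.mul_apply, MulAut.mul_apply,
        hδ _ (by simpa using hWQ β⁻¹ x hx), MulAut.apply_inv_self]
    · rw [Subgroup.coe_mul, Subgroup.coe_mul, Subgroup.coe_inv, MulAut.mul_apply, MulAut.mul_apply]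
      set y := ((β : MulAut ↥W₀))⁻¹ x with hy
      have h1 := stronglyClosed_aut_mem hT β.2 hW₀S (x := y⁻¹ * (δ : MulAut ↥W₀) y) (hδ' y)
      rw [map_mul, map_inv, show (β : MulAut ↥W₀) y = x from MulAut.apply_inv_self _ _ _,
        Subgroup.coe_mul, Subgroup.coe_inv] at h1
      exact h1
  have hKp : IsPGroup p Ker := by
    intro δ
    have hfix : ∀ x : ↥W₀, (x : Ω) ∈ T → ((δ : F.autGroup W₀) : MulAut ↥W₀) x = x := by
      intro x hx
      refine δ.2.1 x ?_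
      obtain ⟨a, ha, b, hb, he⟩ := exists_mul_of_mem_sup_centralizer x.2
      rw [he] at hx ⊢
      have hbT : b ∈ T := by
        have := T.mul_mem (T.inv_mem (hQT ha)) hx
        rwa [inv_mul_cancel_left] at this
      exact mul_mem ha (hZ (mem_centralizerIn.2 ⟨hbT, (mem_centralizerIn.1 hb).2⟩))
    obtain ⟨k, hk⟩ := isPGroup_aut_stab hS hT hW₀S hfix δ.2.2
    exact ⟨k, Subtype.ext (Subtype.ext (by
      rw [Subgroup.coe_pow, Subgroup.coe_pow]; exact hk))⟩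
  have hKR : Ker ≤ RW := (Cfsg.Lib.Core.le_pCore' hKn hKp).trans
    (Cfsg.Lib.Core.pCore_le_sylow RW)
  -- `P₀` is a Sylow subgroup
  have hP₀i : ¬ p ∣ P₀.index := by
    have hker : rG.ker ≤ P₀ := by
      intro g hg
      have hfix : ∀ x : ↥W₀, (x : Ω) ∈ Q → ind g x = x := fun x hx => by
        have h := congrArg (fun a : pElemAut E p Q => (((a : MulAut Q) ⟨(x : Ω), hx⟩ : Q) : Ω))
          (MonoidHom.mem_ker.1 hg)
        exact Subtype.ext h
      have hmod : ∀ x : ↥W₀, (x : Ω)⁻¹ * ((ind g x : _) : Ω) ∈ T := by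
        intro x
        obtain ⟨a, ha, b, hb, he⟩ := exists_mul_of_mem_sup_centralizer x.2
        have hbW : b ∈ W₀ := Subgroup.mem_sup_right hb
        have h := (g : goodExt hT Q hQn.1).2.2 ⟨b, hbW⟩ hb
        rw [show x = ⟨a, Subgroup.mem_sup_left ha⟩ * ⟨b, hbW⟩ from Subtype.ext he, map_mul,
          hfix ⟨a, _⟩ ha, Subgroup.coe_mul, Subgroup.coe_mul, mul_inv_rev, mul_assoc, inv_mul_cancel_left]
        exact h
      have h2 := hKR (show (⟨ind g, (g : goodExt hT Q hQn.1).2.1.1⟩ : F.autGroup W₀) ∈ Ker from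
        ⟨hfix, hmod⟩)
      rw [hRW, Subgroup.mem_subgroupOf] at h2
      exact h2
    rw [← Subgroup.index_map_eq P₀ hrG hker]
    have hRle : ((R : Subgroup (E.autGroup Q)).map (E.autGroup Q).subtype).subgroupOf (pElemAut E p Q) ≤
        P₀.map rG := by
      rintro a ⟨b, hb, hba⟩
      rw [SetLike.mem_coe, hR, Subgroup.mem_subgroupOf] at hb
      obtain ⟨t, ht, hte⟩ := mem_autInducedBy.1 hb
      obtain ⟨g, hg⟩ := hconjG t ht
      refine ⟨g, hPTP ⟨t, ht, hg⟩, Subtype.ext (MulEquiv.ext fun x => Subtype.ext ?_)⟩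
      change (b : MulAut Q) = (a : MulAut Q) at hba
      rw [← hba]
      exact (hg (Subgroup.inclusion le_sup_left x)).trans (hte x).symm
    intro h
    refine R.not_dvd_index ?_
    refine (h.trans (Subgroup.index_dvd_of_le hRle)).trans ?_
    rw [← Subgroup.relIndex_top_right (H := (R : Subgroup (E.autGroup Q))),
      ← Subgroup.relIndex_map_map_of_injective _ _ (E.autGroup Q).subtype_injective,
      ← MonoidHom.range_eq_map, Subgroup.range_subtype]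
    have hRsub : (R : Subgroup (E.autGroup Q)).map (E.autGroup Q).subtype ≤ pElemAut E p Q := by
      rintro _ ⟨b, hb, rfl⟩
      obtain ⟨k, hk⟩ := IsPGroup.iff_orderOf.1 R.2 ⟨b, hb⟩
      exact Subgroup.subset_closure ⟨b.2, k, by
        rw [Subgroup.orderOf_mk] at hk
        rwa [Subgroup.coe_subtype, Subgroup.orderOf_coe]⟩
    exact Dvd.intro _ (Subgroup.relIndex_mul_relIndex _ _ _ hRsub (pElemAut_le Q))
  let P₀S : Sylow p G₀ := hP₀p.toSylow hP₀i
  -- the focal subgroup is induced by `T`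
  have hfocal : commutator G₀ ⊓ P₀ ≤ PT := by
    have hthm := Subgroup.commutator_inf_eq_focalSubgroup P₀S
    rw [show ((P₀S : Subgroup G₀)) = P₀ from rfl] at hthm
    rw [hthm, Subgroup.focalSubgroup_def, Subgroup.closure_le]
    rintro _ ⟨hxu, x, hx, u, rfl⟩
    obtain ⟨s, hs, hse⟩ := (hmemP x).1 hx
    have hy : u * x⁻¹ * u⁻¹ ∈ P₀ := by
      have := P₀.mul_mem (P₀.inv_mem hx) hxu
      rwa [show x⁻¹ * ⁅x, u⁆ = u * x⁻¹ * u⁻¹ by rw [commutatorElement_def]; group] at this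
    obtain ⟨s₂, hs₂, hs₂e⟩ := (hmemP _).1 hy
    have hsn : s ∈ Subgroup.normalizer ((W₀ : Subgroup Ω) : Set Ω) := le_normalizer_of_weaklyClosed hWwc hs
    have hu : W₀.subtype.comp (ind u).toMonoidHom ∈ F.Hom W₀ :=
      (mem_autGroup hW₀S).1 (u : goodExt hT Q hQn.1).2.1.1
    obtain ⟨ψ, hψ, hψe⟩ := hWrec.2 W₀ _ hu (hWwc.2 _ hu)
    have hxinv : ∀ z, ((ind x⁻¹ z : _) : Ω) = s⁻¹ * z * s := by
      intro z
      have h := hse (ind x⁻¹ z)
      rw [show ind x (ind x⁻¹ z) = z from MulAut.apply_inv_self _ _ _] at h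
      rw [h]
      group
    have hsD : s⁻¹ ∈ extender S W₀ (W₀.subtype.comp (ind u).toMonoidHom) := by
      refine mem_extender_of (inv_mem hs) (inv_mem hsn) hs₂ fun z hz => ?_
      show ((ind u ⟨s⁻¹ * z * s⁻¹⁻¹, hz⟩ : _) : Ω) = s₂ * ((ind u z : _) : Ω) * s₂⁻¹
      rw [← hs₂e]
      show _ = ((ind u (ind x⁻¹ (ind u⁻¹ (ind u z))) : _) : Ω)
      rw [show ind u⁻¹ (ind u z) = z from MulAut.inv_apply_self _ _ _]
      refine congrArg (fun w => ((ind u w : _) : Ω)) (Subtype.ext ?_)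
      rw [hxinv]
      show s⁻¹ * z * s⁻¹⁻¹ = _
      rw [inv_inv]
    have hW₀D : W₀ ≤ extender S W₀ (W₀.subtype.comp (ind u).toMonoidHom) :=
      le_extender hW₀S (hom_mem hu)
    -- on `Q`, `s` acts as an element of `T`
    obtain ⟨t, ht, hte⟩ := mem_autInducedBy.1 (himg x hx)
    have hs' : t⁻¹ * s ∈ centralizerIn S Q := by
      refine mem_centralizerIn.2 ⟨S.mul_mem (S.inv_mem (hTS ht)) hs, fun q hq => ?_⟩
      have h1 : t * q * t⁻¹ = s * q * s⁻¹ :=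
        (hte ⟨q, hq⟩).symm.trans (hse (Subgroup.inclusion le_sup_left ⟨q, hq⟩))
      calc t⁻¹ * s * q = t⁻¹ * (s * q * s⁻¹) * s := by group
        _ = q * (t⁻¹ * s) := by rw [← h1]; group
    set s' : ↥W₀ := ⟨t⁻¹ * s, Subgroup.mem_sup_right hs'⟩ with hs'def
    have htD : t⁻¹ ∈ extender S W₀ (W₀.subtype.comp (ind u).toMonoidHom) := by
      have h := Subgroup.mul_mem _ (hW₀D s'.2) hsD
      rwa [hs'def, mul_inv_cancel_right] at h
    let τ : Ω := s * ψ ⟨s⁻¹, hsD⟩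
    refine ⟨τ, ?_, fun z => ?_⟩
    · have h1 : ψ ⟨s⁻¹, hsD⟩ = ((ind u s'⁻¹ : _) : Ω) * ψ ⟨t⁻¹, htD⟩ := by
        rw [show (⟨s⁻¹, hsD⟩ : ↥(extender S W₀ (W₀.subtype.comp (ind u).toMonoidHom))) =
          Subgroup.inclusion hW₀D s'⁻¹ * ⟨t⁻¹, htD⟩ from Subtype.ext (by
            show s⁻¹ = (t⁻¹ * s)⁻¹ * t⁻¹
            group), map_mul,
          show ψ (Subgroup.inclusion hW₀D s'⁻¹) = ((ind u s'⁻¹ : _) : Ω) from
            hψe _ (s'⁻¹).2 _]
      have h2 : ψ ⟨t⁻¹, htD⟩ ∈ T := stronglyClosed_apply_mem hT hψ (x := ⟨t⁻¹, htD⟩) (T.inv_mem ht)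
      have h3 : ((s'⁻¹ : ↥W₀) : Ω)⁻¹ * ((ind u s'⁻¹ : _) : Ω) ∈ T :=
        (u : goodExt hT Q hQn.1).2.2 s'⁻¹ (inv_mem hs')
      have h4 : τ = t * (((s'⁻¹ : ↥W₀) : Ω)⁻¹ * ((ind u s'⁻¹ : _) : Ω)) * ψ ⟨t⁻¹, htD⟩ := by
        show s * ψ ⟨s⁻¹, hsD⟩ = _
        rw [h1, Subgroup.coe_inv, inv_inv, hs'def]
        group
      rw [h4]
      exact mul_mem (mul_mem ht h3) h2
    · -- conjugation by `τ` is the commutator
      have hy' : ∀ w, ((ind (u * x⁻¹ * u⁻¹) w : _) : Ω) =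
          ψ ⟨s⁻¹, hsD⟩ * w * (ψ ⟨s⁻¹, hsD⟩)⁻¹ := by
        intro w
        show ((ind u (ind x⁻¹ (ind u⁻¹ w)) : _) : Ω) = _
        set w' := ind u⁻¹ w with hw'
        have hw : (w : Ω) = ((ind u w' : _) : Ω) := by
          rw [hw', show ind u (ind u⁻¹ w) = w from MulAut.apply_inv_self _ _ _]
        have hval : ∀ r : ↥W₀, ψ (Subgroup.inclusion hW₀D r) = ((ind u r : _) : Ω) :=
          fun r => hψe _ r.2 _
        rw [hw, ← hval, ← hval, ← map_inv, ← map_mul, ← map_mul]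
        refine congrArg ψ (Subtype.ext ?_)
        show ((ind x⁻¹ w' : _) : Ω) = s⁻¹ * w' * s⁻¹⁻¹
        rw [hxinv, inv_inv]
      show ((ind ⁅x, u⁆ z : _) : Ω) = _
      rw [show ⁅x, u⁆ = x * (u * x⁻¹ * u⁻¹) by rw [commutatorElement_def]; group]
      show ((ind x (ind (u * x⁻¹ * u⁻¹) z) : _) : Ω) =
        (s * ψ ⟨s⁻¹, hsD⟩) * (z : Ω) * (s * ψ ⟨s⁻¹, hsD⟩)⁻¹
      rw [hse, hy']
      group
  -- the subgroup
  haveI hN₁ : (PT ⊔ commutator G₀).Normal := ⟨fun n hn g => by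
    have h : ⁅g, n⁆ ∈ PT ⊔ commutator G₀ :=
      Subgroup.mem_sup_right (Subgroup.commutator_mem_commutator (Subgroup.mem_top g) (Subgroup.mem_top n))
    have := mul_mem h hn
    rwa [commutatorElement_def, inv_mul_cancel_right] at this⟩
  let B₁ : Subgroup G₀ :=
    { carrier := {g | ∃ m : ℕ, m.Coprime p ∧ g ^ m ∈ PT ⊔ commutator G₀}
      one_mem' := ⟨1, Nat.coprime_one_left p, by simp⟩
      mul_mem' := by
        rintro g h ⟨m, hm, hg⟩ ⟨n, hn, hh⟩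
        exact ⟨m * n, hm.mul_left hn, commute_mul_pow_mem le_sup_right hg hh⟩
      inv_mem' := by
        rintro g ⟨m, hm, hg⟩
        exact ⟨m, hm, by rw [inv_pow]; exact inv_mem hg⟩ }
  haveI hB₁n : B₁.Normal := by
    refine ⟨fun b hb g => ?_⟩
    obtain ⟨m, hm, hb⟩ := hb
    exact ⟨m, hm, by rw [conj_pow]; exact hN₁.conj_mem _ hb g⟩
  have hPTB : PT ≤ B₁ := fun g hg => ⟨1, Nat.coprime_one_left p, by
    rw [pow_one]; exact Subgroup.mem_sup_left hg⟩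
  have hinter : ∀ g ∈ P₀, g ∈ B₁ → g ∈ PT := by
    rintro g hg ⟨m, hm, hgm⟩
    rw [← SetLike.mem_coe, Subgroup.mul_normal] at hgm
    obtain ⟨a, ha, b, hb, hab⟩ := hgm
    have hb' : b ∈ commutator G₀ ⊓ P₀ := ⟨hb, by
      have := P₀.mul_mem (P₀.inv_mem (hPTP ha)) (P₀.pow_mem hg m)
      rwa [← hab, inv_mul_cancel_left] at this⟩
    have hgm' : g ^ m ∈ PT := hab ▸ mul_mem ha (hfocal hb')
    obtain ⟨j, hj⟩ := IsPGroup.iff_orderOf.1 hP₀p ⟨g, hg⟩
    rw [Subgroup.orderOf_mk] at hj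
    obtain ⟨k, hk⟩ := exists_pow_eq_self_of_coprime (x := g) (n := m) (hj ▸ hm.pow_right j)
    exact hk ▸ PT.pow_mem hgm' k
  have hPTi : ¬ p ∣ PT.relIndex B₁ := by
    have hp' : IsPGroup p (PT.subgroupOf B₁) := (hP₀p.to_le hPTP).comap_subtype
    obtain ⟨R₁, hR₁⟩ := hp'.exists_le_sylow
    have hR₁p : IsPGroup p ((R₁ : Subgroup B₁).map B₁.subtype) := R₁.2.map _
    obtain ⟨R₂, hR₂⟩ := hR₁p.exists_le_sylow
    obtain ⟨g, hg⟩ := MulAction.exists_smul_eq G₀ R₂ P₀S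
    have hle : ((R₁ : Subgroup B₁).map B₁.subtype).map (MulAut.conj g).toMonoidHom ≤ PT := by
      rintro _ ⟨b, hb, rfl⟩
      refine hinter _ ?_ (hB₁n.conj_mem b (Subgroup.map_subtype_le _ hb) g)
      have h := Subgroup.smul_mem_pointwise_smul _ (MulAut.conj g) _ (hR₂ hb)
      rw [← Sylow.coe_subgroup_smul, hg] at h
      exact h
    have heq : PT.subgroupOf B₁ = (R₁ : Subgroup B₁) := by
      refine Subgroup.eq_of_le_of_card_ge hR₁ ?_
      have h1 := Subgroup.card_le_of_le hle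
      rw [Subgroup.card_map_of_injective (MulAut.conj g).injective,
        Subgroup.card_map_of_injective B₁.subtype_injective] at h1
      rwa [Nat.card_congr (Subgroup.subgroupOfEquivOfLe hPTB).toEquiv]
    show ¬ p ∣ (PT.subgroupOf B₁).index
    rw [heq]
    exact R₁.not_dvd_index
  -- restriction to `Q ⟨c⟩`
  have hcQ : c ∈ centralizerIn S Q := centralizerIn_anti hQT hcC
  have hle : Q ⊔ Subgroup.zpowers c ≤ W₀ := sup_le_sup_left (Subgroup.zpowers_le.2 hcQ) Q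
  have hmove : ∀ ψ : goodExt hT Q hQn.1, ∀ x : ↥(Q ⊔ Subgroup.zpowers c),
      (((ψ : MulAut ↥W₀) (Subgroup.inclusion hle x) : _) : Ω) ∈ Q ⊔ Subgroup.zpowers c := by
    intro ψ x
    refine hom_mem_of_sup (f := (W₀.subtype.comp (ψ : MulAut ↥W₀).toMonoidHom).comp
      (Subgroup.inclusion hle)) (fun y hy => Subgroup.mem_sup_left ((ψ.2.1.2 _).1 hy)) (fun y hy => ?_) x
    obtain ⟨n, hn⟩ := hy
    show (((ψ : MulAut ↥W₀) (Subgroup.inclusion hle y) : _) : Ω) ∈ _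
    rw [show Subgroup.inclusion hle y = (⟨c, Subgroup.mem_sup_right hcQ⟩ : ↥W₀) ^ n from
      Subtype.ext (by rw [Subgroup.coe_zpow]; exact hn.symm), map_zpow, Subgroup.coe_zpow]
    refine zpow_mem ?_ n
    obtain ⟨-, v, hv, hcv, -⟩ := goodExt_central hZ ψ.2 ⟨c, Subgroup.mem_sup_right hcQ⟩ hcQ
    rw [hcv]
    exact mul_mem (Subgroup.mem_sup_right (Subgroup.mem_zpowers c)) (Subgroup.mem_sup_left hv)
  have hstabW : ∀ ψ ∈ goodExt hT Q hQn.1, ∀ x : ↥W₀,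
      (x : Ω) ∈ Q ⊔ Subgroup.zpowers c ↔ ((ψ x : _) : Ω) ∈ Q ⊔ Subgroup.zpowers c := by
    intro ψ hψ x
    refine ⟨fun hx => hmove ⟨ψ, hψ⟩ ⟨(x : Ω), hx⟩, fun hx => ?_⟩
    have h := hmove ⟨ψ⁻¹, inv_mem hψ⟩ ⟨_, hx⟩
    change ((ψ⁻¹ (ψ x) : _) : Ω) ∈ _ at h
    rwa [MulAut.inv_apply_self] at h
  let ρ₁ : G₀ →* MulAut ↥(Q ⊔ Subgroup.zpowers c) :=
    (resAutHom hle _ hstabW).comp G₀.subtype
  have hρmem : ∀ g : G₀, ρ₁ g ∈ liftGroup F E hT Q hQT c hcS := by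
    intro g
    have hWS : Q ⊔ Subgroup.zpowers c ≤ S := hle.trans hW₀S
    refine ⟨⟨(mem_autGroup hWS).2 (hom_congr (restrict_mem
      ((mem_autGroup hW₀S).1 (g : goodExt hT Q hQn.1).2.1.1) hle) fun x => rfl),
      fun x => (g : goodExt hT Q hQn.1).2.1.2 (Subgroup.inclusion hle x)⟩,
      ⟨res₀ g, pElemAut_le Q g.2, fun x => rfl⟩, ?_⟩
    exact (g : goodExt hT Q hQn.1).2.2 ⟨c, Subgroup.mem_sup_right hcQ⟩ hcQ
  let ρ : G₀ →* liftGroup F E hT Q hQT c hcS := MonoidHom.codRestrict ρ₁ _ hρmem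
  refine ⟨B₁.map ρ, ?_, ?_, ?_⟩
  · rintro γ ⟨t, ht, hγ⟩
    obtain ⟨g, hg⟩ := hconjG t ht
    exact ⟨g, hPTB ⟨t, ht, hg⟩, Subtype.ext (MulEquiv.ext fun x => Subtype.ext
      ((hg (Subgroup.inclusion hle x)).trans (hγ x).symm))⟩
  · have hsub : PT.map ρ ≤ conjLifts F E hT Q hQT c hcS := by
      rintro _ ⟨g, ⟨t, ht, hg⟩, rfl⟩
      exact ⟨t, ht, fun x => hg (Subgroup.inclusion hle x)⟩
    intro h
    refine hPTi (h.trans ?_)
    refine (Subgroup.relIndex_dvd_of_le_left _ hsub).trans ?_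
    show ((PT.map ρ).subgroupOf (B₁.map ρ)).index ∣ (PT.subgroupOf B₁).index
    have hsurj : Function.Surjective (ρ.subgroupMap B₁) := MonoidHom.subgroupMap_surjective ρ B₁
    refine (dvd_of_eq ?_).trans (Subgroup.index_map_dvd _ hsurj)
    refine congrArg Subgroup.index ?_
    ext ⟨γ, hγ⟩
    constructor
    · rintro ⟨g, hg, rfl⟩
      exact ⟨⟨g, hPTB hg⟩, hg, rfl⟩
    · rintro ⟨g, hg, he⟩
      exact ⟨g, hg, congrArg Subtype.val he⟩
  · intro γ hγH m hm hγm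
    have hγc : liftRes γ ∈ goodAut hT Q hQn.1 := hgood _ hγH
    obtain ⟨ψ₀, hψ₀, n, hn, hψ₀n, -, hψ₀e⟩ := exists_goodExt_pPrime hγc
      (Nat.Coprime.coprime_dvd_left (orderOf_dvd_of_pow_eq_one (by rw [← map_pow, hγm, map_one])) hm)
    have he : res₀ ⟨ψ₀, hψ₀⟩ = liftRes γ := MulEquiv.ext fun x => Subtype.ext (hψ₀e x)
    let g : G₀ := ⟨⟨ψ₀, hψ₀⟩, show res₀ _ ∈ pElemAut E p Q from he ▸ hγH⟩
    refine ⟨g, ⟨n, hn, ?_⟩, Subtype.ext (MulEquiv.ext fun x => Subtype.ext ?_)⟩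
    · rw [show g ^ n = 1 from hindinj ((hindpow g n).trans hψ₀n)]
      exact one_mem _
    · show ((ψ₀ (Subgroup.inclusion hle x) : _) : Ω) = _
      refine (goodExt_rigid hS hF hZ hfc hψ₀ (Nat.Coprime.mul_left hm hn)
        (by rw [mul_comm m n, pow_mul, hψ₀n, one_pow]) (Subgroup.zpowers_le.2 hcQ)
        (ψ := (γ : MulAut ↥(Q ⊔ Subgroup.zpowers c))) γ.2.1.1 (fun y hy => ?_) (fun y hy => ?_) ?_ x).symm
      · rw [show y = Subgroup.inclusion le_sup_left ⟨(y : Ω), hy⟩ from rfl, ← coe_liftRes, ← hψ₀e]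
        rfl
      · obtain ⟨k, hk⟩ := hy
        set cW : ↥(Q ⊔ Subgroup.zpowers c) := ⟨c, Subgroup.mem_sup_right (Subgroup.mem_zpowers c)⟩
        set d : Q := ((liftDisp hcC hZ γ : Subgroup.center Q) : Q) with hd
        have hγcW : (γ : MulAut ↥(Q ⊔ Subgroup.zpowers c)) cW = cW * Subgroup.inclusion le_sup_left d :=
          Subtype.ext (by
            rw [Subgroup.coe_mul, Subgroup.coe_inclusion, hd, coe_liftDisp, mul_inv_cancel_left])
        have hcd : Commute cW (Subgroup.inclusion le_sup_left d) :=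
          Subtype.ext ((mem_centralizerIn.1 hcQ).2 d d.2)
        rw [show y = cW ^ k from Subtype.ext (by rw [Subgroup.coe_zpow]; exact hk.symm), map_zpow, hγcW,
          hcd.mul_zpow, Subgroup.coe_mul, inv_mul_cancel_left, Subgroup.coe_zpow]
        exact hQT (zpow_mem d.2 k)
      · rw [pow_mul, show (γ : MulAut ↥(Q ⊔ Subgroup.zpowers c)) ^ m = 1 from congrArg Subtype.val hγm,
          one_pow]

end Cfsg.Lib.FusionSys
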