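import Cfsg.Agent.Lib.FusionSys.Alperin
import Cfsg.Agent.Lib.FusionSys.ExtIso

/-!
Extensions of automorphisms of a subgroup `P` of a strongly closed `T` to `P C_S(P)` that move `C_S(P)`
only modulo `T`, and their rigidity: an automorphism of order prime to `p` of `P X`, for `X ≤ C_S(P)`, that
agrees with such an extension on `P` and moves `X` modulo `T` is its restriction.
-/

set_option autoImplicit false
set_option linter.style.haveILetI false

namespace Cfsg.Lib.FusionSys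

open Cfsg Cfsg.FusionSystem
open scoped Pointwise

variable {Ω : Type*} [Group Ω] {S T : Subgroup Ω} {F : FusionSystem S} {p : ℕ}

theorem hom_eq_on_sup {M : Type*} [Group M] {A B : Subgroup Ω}
    {f g : (A ⊔ B : Subgroup Ω) →* M}
    (hA : ∀ x : ↥(A ⊔ B), (x : Ω) ∈ A → f x = g x)
    (hB : ∀ x : ↥(A ⊔ B), (x : Ω) ∈ B → f x = g x) (x : ↥(A ⊔ B)) : f x = g x := by
  have hle : A ⊔ B ≤ (f.eqLocus g).map (A ⊔ B).subtype :=
    sup_le (fun a ha => ⟨⟨a, Subgroup.mem_sup_left ha⟩, hA _ ha, rfl⟩)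
      fun b hb => ⟨⟨b, Subgroup.mem_sup_right hb⟩, hB _ hb, rfl⟩
  obtain ⟨y, hy, hyx⟩ := hle x.2
  rw [Subtype.ext (a1 := y) (a2 := x) hyx] at hy
  exact hy

theorem hom_mem_of_sup {A B K : Subgroup Ω} {f : (A ⊔ B : Subgroup Ω) →* Ω}
    (hA : ∀ x : ↥(A ⊔ B), (x : Ω) ∈ A → f x ∈ K)
    (hB : ∀ x : ↥(A ⊔ B), (x : Ω) ∈ B → f x ∈ K) (x : ↥(A ⊔ B)) : f x ∈ K := by
  have hle : A ⊔ B ≤ (K.comap f).map (A ⊔ B).subtype :=
    sup_le (fun a ha => ⟨⟨a, Subgroup.mem_sup_left ha⟩, hA _ ha, rfl⟩)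
      fun b hb => ⟨⟨b, Subgroup.mem_sup_right hb⟩, hB _ hb, rfl⟩
  obtain ⟨y, hy, hyx⟩ := hle x.2
  rw [Subtype.ext (a1 := y) (a2 := x) hyx] at hy
  exact hy

theorem exists_aut_of_hom [Finite S] {W : Subgroup Ω} {φ : W →* Ω} (hφ : φ ∈ F.Hom W)
    (hv : ∀ x, φ x ∈ W) : ∃ θ ∈ F.autGroup W, ∀ x : W, ((θ x : W) : Ω) = φ x := by
  have hr : φ.range = W := range_eq_of_card_le hφ (hom_le hφ) hv le_rfl
  exact ⟨homIso hφ hr, (mem_autGroup (hom_le hφ)).2 (isoIn_homIso hφ hr), fun _ => rfl⟩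

theorem exists_aut_restrict [Finite S] {R W : Subgroup Ω} {α : MulAut R} (hR : R ≤ S)
    (hα : α ∈ F.autGroup R) (hW : W ≤ R)
    (hv : ∀ x : W, ((α (Subgroup.inclusion hW x) : R) : Ω) ∈ W) :
    ∃ θ ∈ F.autGroup W, ∀ x : W, ((θ x : W) : Ω) = ((α (Subgroup.inclusion hW x) : R) : Ω) :=
  exists_aut_of_hom (restrict_mem ((mem_autGroup hR).1 hα) hW) hv

theorem aut_pow_agree {R W : Subgroup Ω} (hW : W ≤ R) {α : MulAut R} {θ : MulAut W}
    (h : ∀ x : W, ((θ x : W) : Ω) = ((α (Subgroup.inclusion hW x) : R) : Ω)) (n : ℕ) (x : W) :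
    (((θ ^ n) x : W) : Ω) = (((α ^ n) (Subgroup.inclusion hW x) : R) : Ω) := by
  induction n generalizing x with
  | zero => rfl
  | succ n ih =>
    rw [pow_succ, pow_succ, MulAut.mul_apply, MulAut.mul_apply, ih]
    exact congrArg (fun z : R => (((α ^ n) z : R) : Ω)) (Subtype.ext (h x))

theorem aut_pow_eq_one {R W : Subgroup Ω} (hW : W ≤ R) {α : MulAut R} {θ : MulAut W}
    (h : ∀ x : W, ((θ x : W) : Ω) = ((α (Subgroup.inclusion hW x) : R) : Ω)) {n : ℕ} (hn : α ^ n = 1) :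
    θ ^ n = 1 :=
  MulEquiv.ext fun x => Subtype.ext ((aut_pow_agree hW h n x).trans (by rw [hn]; rfl))

theorem centralizerIn_le_sup_normalizer {P : Subgroup Ω} :
    P ≤ Subgroup.normalizer ((centralizerIn S P : Subgroup Ω) : Set Ω) := by
  intro g hg
  have key : ∀ c ∈ centralizerIn S P, ∀ h ∈ P, h * c * h⁻¹ = c := fun c hc h hh =>
    conj_eq_of_commute ((mem_centralizerIn.1 hc).2 h hh).symm
  refine Subgroup.mem_normalizer_iff.2 fun c => ⟨fun hc => by rwa [key c hc g hg], fun hc => ?_⟩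
  have h1 : g⁻¹ * (g * c * g⁻¹) * g⁻¹⁻¹ = g * c * g⁻¹ := key _ hc g⁻¹ (inv_mem hg)
  have h2 : g⁻¹ * (g * c * g⁻¹) * g⁻¹⁻¹ = c := by group
  rwa [← h2, h1]

theorem exists_mul_of_mem_sup_centralizer {P : Subgroup Ω} {x : Ω} (hx : x ∈ P ⊔ centralizerIn S P) :
    ∃ a ∈ P, ∃ c ∈ centralizerIn S P, x = a * c := by
  have h : ((P ⊔ centralizerIn S P : Subgroup Ω) : Set Ω) = (P : Set Ω) * (centralizerIn S P : Set Ω) :=
    Subgroup.coe_mul_of_left_le_normalizer_right _ _ centralizerIn_le_sup_normalizer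
  rw [← SetLike.mem_coe, h] at hx
  obtain ⟨a, ha, c, hc, rfl⟩ := hx
  exact ⟨a, ha, c, hc, rfl⟩

/-- A map onto a fully centralized subgroup extends to the product with the centralizer. -/
theorem exists_ext_fc [Finite S] [Fact p.Prime] (hS : IsPGroup p S) (hF : F.IsSaturated p)
    {P P' : Subgroup Ω} (hfc : F.IsFullyCentralized P) {g : P' →* Ω} (hg : g ∈ F.Hom P')
    (hgr : g.range = P) :
    ∃ ε ∈ F.Hom (P' ⊔ centralizerIn S P'),
      (∀ x : P', ε (Subgroup.inclusion le_sup_left x) = g x) ∧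
      (∀ c : centralizerIn S P', ε (Subgroup.inclusion le_sup_right c) ∈ centralizerIn S P) ∧
      ∀ y, ε y ∈ P ⊔ centralizerIn S P := by
  obtain ⟨ψ, hψ, hψe⟩ := (isReceptive_of_fc hS hF hfc).2 P' g hg hgr
  have hle : P' ⊔ centralizerIn S P' ≤ extender S P' g :=
    sup_le (le_extender (hom_le hg) (hom_mem hg)) (centralizerIn_le_extender _)
  set ε := ψ.comp (Subgroup.inclusion hle) with hεdef
  have hε : ε ∈ F.Hom (P' ⊔ centralizerIn S P') := restrict_mem hψ hle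
  have hεe : ∀ x : P', ε (Subgroup.inclusion le_sup_left x) = g x := fun x => hψe x x.2 _
  have hεc : ∀ c : centralizerIn S P', ε (Subgroup.inclusion le_sup_right c) ∈ centralizerIn S P := by
    intro c
    refine mem_centralizerIn.2 ⟨hom_mem hε _, fun y hy => ?_⟩
    rw [← hgr] at hy
    obtain ⟨x, rfl⟩ := hy
    rw [← hεe, ← map_mul, ← map_mul]
    exact congrArg ε (Subtype.ext ((mem_centralizerIn.1 c.2).2 x x.2))
  refine ⟨ε, hε, hεe, hεc, hom_mem_of_sup (fun y hy => ?_) fun y hy => ?_⟩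
  · rw [show y = Subgroup.inclusion le_sup_left ⟨(y : Ω), hy⟩ from rfl, hεe]
    exact Subgroup.mem_sup_left (hgr.le ⟨_, rfl⟩)
  · exact Subgroup.mem_sup_right (hεc ⟨(y : Ω), hy⟩)

/-- The automorphisms of `P C_S(P)` stabilizing `P` and moving `C_S(P)` only modulo `T`. -/
def goodExt (hT : F.StronglyClosed T) (P : Subgroup Ω) (hP : P ≤ S) :
    Subgroup (MulAut ↥(P ⊔ centralizerIn S P)) where
  carrier := {ψ | ψ ∈ stabAut F (P ⊔ centralizerIn S P) P ∧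
    ∀ x : ↥(P ⊔ centralizerIn S P), (x : Ω) ∈ centralizerIn S P → (x : Ω)⁻¹ * ((ψ x : _) : Ω) ∈ T}
  one_mem' := ⟨one_mem _, fun x _ => by simp⟩
  mul_mem' := by
    rintro a b ⟨ha, ha'⟩ ⟨hb, hb'⟩
    refine ⟨mul_mem ha hb, fun x hx => ?_⟩
    have hbx : ((b x : _) : Ω) ∈ centralizerIn S P := by
      refine mem_centralizerIn.2 ⟨(sup_le hP (centralizerIn_le P)) (b x).2, fun y hy => ?_⟩
      let y' : ↥(P ⊔ centralizerIn S P) := ⟨y, Subgroup.mem_sup_left hy⟩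
      have hy0 : ((b⁻¹ y' : _) : Ω) ∈ P := by
        rw [hb.2 (b⁻¹ y'), MulAut.apply_inv_self]
        exact hy
      have h : x * b⁻¹ y' = b⁻¹ y' * x := Subtype.ext ((mem_centralizerIn.1 hx).2 _ hy0)
      have h2 := congrArg (fun z : ↥(P ⊔ centralizerIn S P) => ((b z : _) : Ω)) h
      simp only [map_mul, MulAut.apply_inv_self, Subgroup.coe_mul] at h2
      exact h2
    rw [MulAut.mul_apply]
    have := T.mul_mem (hb' x hx) (ha' (b x) hbx)
    rwa [mul_assoc, mul_inv_cancel_left] at this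
  inv_mem' := by
    rintro a ⟨ha, ha'⟩
    refine ⟨inv_mem ha, fun x hx => ?_⟩
    have hax : ((a⁻¹ x : _) : Ω) ∈ centralizerIn S P := by
      refine mem_centralizerIn.2 ⟨(sup_le hP (centralizerIn_le P)) (a⁻¹ x).2, fun y hy => ?_⟩
      let y' : ↥(P ⊔ centralizerIn S P) := ⟨y, Subgroup.mem_sup_left hy⟩
      have hy0 : ((a y' : _) : Ω) ∈ P := (ha.2 y').1 hy
      have h : x * a y' = a y' * x := Subtype.ext ((mem_centralizerIn.1 hx).2 _ hy0)
      have h2 := congrArg (fun z : ↥(P ⊔ centralizerIn S P) => ((a⁻¹ z : _) : Ω)) h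
      simp only [map_mul, MulAut.inv_apply_self, Subgroup.coe_mul] at h2
      exact h2
    have := T.inv_mem (ha' (a⁻¹ x) hax)
    rwa [MulAut.apply_inv_self, mul_inv_rev, inv_inv] at this

theorem goodExt_central {hT : F.StronglyClosed T} {P : Subgroup Ω} {hP : P ≤ S}
    (hZ : centralizerIn T P ≤ P) {ψ : MulAut ↥(P ⊔ centralizerIn S P)} (hψ : ψ ∈ goodExt hT P hP)
    (x : ↥(P ⊔ centralizerIn S P)) (hx : (x : Ω) ∈ centralizerIn S P) :
    ((ψ x : _) : Ω) ∈ centralizerIn S P ∧ ∃ u ∈ P, ((ψ x : _) : Ω) = (x : Ω) * u ∧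
      ∀ y ∈ P ⊔ centralizerIn S P, u * y = y * u := by
  have hc : ((ψ x : _) : Ω) ∈ centralizerIn S P := by
    refine mem_centralizerIn.2 ⟨(sup_le hP (centralizerIn_le P)) (ψ x).2, fun y hy => ?_⟩
    let y' : ↥(P ⊔ centralizerIn S P) := ⟨y, Subgroup.mem_sup_left hy⟩
    have hy0 : ((ψ⁻¹ y' : _) : Ω) ∈ P := by
      rw [hψ.1.2 (ψ⁻¹ y'), MulAut.apply_inv_self]
      exact hy
    have h : x * ψ⁻¹ y' = ψ⁻¹ y' * x := Subtype.ext ((mem_centralizerIn.1 hx).2 _ hy0)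
    have h2 := congrArg (fun z : ↥(P ⊔ centralizerIn S P) => ((ψ z : _) : Ω)) h
    simp only [map_mul, MulAut.apply_inv_self, Subgroup.coe_mul] at h2
    exact h2
  have huC : (x : Ω)⁻¹ * ((ψ x : _) : Ω) ∈ centralizerIn S P :=
    mul_mem (inv_mem hx) hc
  have huP : (x : Ω)⁻¹ * ((ψ x : _) : Ω) ∈ P :=
    hZ (mem_centralizerIn.2 ⟨hψ.2 x hx, (mem_centralizerIn.1 huC).2⟩)
  refine ⟨hc, _, huP, (mul_inv_cancel_left _ _).symm, fun y hy => ?_⟩
  obtain ⟨a, ha, c, hc', rfl⟩ := exists_mul_of_mem_sup_centralizer hy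
  exact (Commute.mul_right ((mem_centralizerIn.1 huC).2 a ha : Commute _ a)
    ((mem_centralizerIn.1 hc').2 _ huP).symm).eq

/-- A good extension fixes the commutators of elements of `C_S(P)`. -/
theorem goodExt_commutator {hT : F.StronglyClosed T} {P : Subgroup Ω} {hP : P ≤ S}
    (hZ : centralizerIn T P ≤ P) {ψ : MulAut ↥(P ⊔ centralizerIn S P)} (hψ : ψ ∈ goodExt hT P hP)
    (a b : ↥(P ⊔ centralizerIn S P)) (ha : (a : Ω) ∈ centralizerIn S P)
    (hb : (b : Ω) ∈ centralizerIn S P) : ψ (a⁻¹ * b * a * b⁻¹) = a⁻¹ * b * a * b⁻¹ := by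
  obtain ⟨-, u, hu, hau, huc⟩ := goodExt_central hZ hψ a ha
  obtain ⟨-, v, hv, hbv, hvc⟩ := goodExt_central hZ hψ b hb
  let u' : ↥(P ⊔ centralizerIn S P) := ⟨u, Subgroup.mem_sup_left hu⟩
  let v' : ↥(P ⊔ centralizerIn S P) := ⟨v, Subgroup.mem_sup_left hv⟩
  have hu' : ∀ y, Commute u' y := fun y => Subtype.ext (huc y y.2)
  have hv' : ∀ y, Commute v' y := fun y => Subtype.ext (hvc y y.2)
  rw [map_mul, map_mul, map_mul, map_inv, map_inv, show ψ a = a * u' from Subtype.ext hau,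
    show ψ b = b * v' from Subtype.ext hbv, mul_inv_rev, mul_inv_rev]
  calc u'⁻¹ * a⁻¹ * (b * v') * (a * u') * (v'⁻¹ * b⁻¹)
      = u'⁻¹ * (a⁻¹ * b * (v' * a) * u' * v'⁻¹) * b⁻¹ := by group
    _ = u'⁻¹ * (a⁻¹ * b * a * (v' * u' * v'⁻¹)) * b⁻¹ := by rw [(hv' a).eq]; group
    _ = u'⁻¹ * (a⁻¹ * b * a * u') * b⁻¹ := by rw [(hv' u').eq, mul_inv_cancel_right]
    _ = u'⁻¹ * (u' * (a⁻¹ * b * a)) * b⁻¹ := by rw [(hu' (a⁻¹ * b * a)).eq]
    _ = a⁻¹ * b * a * b⁻¹ := by rw [inv_mul_cancel_left]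

/-- A `p`-automorphism of `W` in `F` is, after moving `W`, induced by an element of `S`. -/
theorem exists_move_induced [Finite S] [Fact p.Prime] (hS : IsPGroup p S) (hF : F.IsSaturated p)
    {W : Subgroup Ω} (hW : W ≤ S) {δ : MulAut W} (hδ : δ ∈ F.autGroup W) {k : ℕ}
    (hk : δ ^ p ^ k = 1) :
    ∃ f ∈ F.Hom W, ∃ s ∈ S, ∀ x : W, f (δ x) = s * f x * s⁻¹ := by
  obtain ⟨Q, hWQ, hQ⟩ := exists_isFullyNormalized F hW
  obtain ⟨e, he⟩ := isConj_iff.1 hWQ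
  haveI := finite_of_le hQ.1
  haveI : Finite (MulAut Q) := Finite.of_injective (fun f => (f : Q → Q)) DFunLike.coe_injective
  obtain ⟨-, R, hR⟩ := (isFullyAutomized_and_fc_of_fn hS hF hQ).2
  let a : F.autGroup Q := ⟨MulAut.congr e δ, congr_mem_autGroup he hδ⟩
  have hp : IsPGroup p (Subgroup.zpowers a) := by
    have h1 : a ^ p ^ k = 1 := by
      apply Subtype.ext
      show (MulAut.congr e δ) ^ p ^ k = 1
      rw [← map_pow, hk, map_one]
    obtain ⟨j, -, hj⟩ := (Nat.dvd_prime_pow Fact.out).1 (orderOf_dvd_of_pow_eq_one h1)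
    exact IsPGroup.iff_card.2 ⟨j, by rw [Nat.card_zpowers, hj]⟩
  obtain ⟨R', hR'⟩ := hp.exists_le_sylow
  obtain ⟨b, hb⟩ := MulAction.exists_smul_eq (F.autGroup Q) R' R
  have hmem : b * a * b⁻¹ ∈ (R : Subgroup (F.autGroup Q)) := by
    rw [← hb, Sylow.coe_subgroup_smul]
    exact Subgroup.smul_mem_pointwise_smul _ (MulAut.conj b) _ (hR' (Subgroup.mem_zpowers a))
  rw [hR] at hmem
  obtain ⟨s, hs, hse⟩ := mem_autInducedBy.1 hmem
  have hf : IsoIn F (e.trans (b : MulAut Q)) := he.trans ((mem_autGroup hQ.1).1 b.2)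
  refine ⟨_, hf, s, hs, fun x => ?_⟩
  refine Eq.trans ?_ (hse ((b : MulAut Q) (e x)))
  show (((b : MulAut Q) (e (δ x)) : Q) : Ω) =
    ((((b : MulAut Q) * MulAut.congr e δ * (b : MulAut Q)⁻¹) ((b : MulAut Q) (e x)) : Q) : Ω)
  rw [MulAut.mul_apply, MulAut.mul_apply, MulAut.inv_apply_self]
  show _ = (((b : MulAut Q) (e (δ (e.symm (e x))))) : Ω)
  rw [MulEquiv.symm_apply_apply]

/-- An automorphism of `P X` in `F` of order prime to `p` that moves `X ≤ C_S(P)` only modulo `T` is the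
restriction of the good extension with the same restriction to `P`. -/
theorem goodExt_rigid [Finite S] [Fact p.Prime] (hS : IsPGroup p S) (hF : F.IsSaturated p)
    {hT : F.StronglyClosed T} {P : Subgroup Ω} {hP : P ≤ S} (hZ : centralizerIn T P ≤ P)
    (hfc : F.IsFullyCentralized P) {ψ₀ : MulAut ↥(P ⊔ centralizerIn S P)}
    (hψ₀ : ψ₀ ∈ goodExt hT P hP) {m : ℕ} (hm : m.Coprime p) (hψ₀m : ψ₀ ^ m = 1) {X : Subgroup Ω}
    (hX : X ≤ centralizerIn S P) {ψ : MulAut ↥(P ⊔ X)} (hψ : ψ ∈ F.autGroup (P ⊔ X))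
    (hψP : ∀ x : ↥(P ⊔ X), (x : Ω) ∈ P →
      ((ψ x : _) : Ω) = ((ψ₀ (Subgroup.inclusion (sup_le_sup_left hX P) x) : _) : Ω))
    (hψX : ∀ x : ↥(P ⊔ X), (x : Ω) ∈ X → (x : Ω)⁻¹ * ((ψ x : _) : Ω) ∈ T) (hψm : ψ ^ m = 1)
    (x : ↥(P ⊔ X)) :
    ((ψ x : _) : Ω) = ((ψ₀ (Subgroup.inclusion (sup_le_sup_left hX P) x) : _) : Ω) := by
  have hWR : P ⊔ X ≤ P ⊔ centralizerIn S P := sup_le_sup_left hX P
  have hRS : P ⊔ centralizerIn S P ≤ S := sup_le hP (centralizerIn_le P)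
  have hWS : P ⊔ X ≤ S := hWR.trans hRS
  haveI := finite_of_le hWS
  -- the restriction of `ψ₀`
  have hWv : ∀ y : ↥(P ⊔ X), ((ψ₀ (Subgroup.inclusion hWR y) : _) : Ω) ∈ P ⊔ X := by
    intro y
    refine hom_mem_of_sup (K := P ⊔ X)
      (f := ((P ⊔ centralizerIn S P).subtype.comp ψ₀.toMonoidHom).comp (Subgroup.inclusion hWR))
      (fun z hz => Subgroup.mem_sup_left ((hψ₀.1.2 _).1 hz)) (fun z hz => ?_) y
    obtain ⟨-, u, hu, hzu, -⟩ := goodExt_central hZ hψ₀ (Subgroup.inclusion hWR z) (hX hz)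
    show ((ψ₀ (Subgroup.inclusion hWR z) : _) : Ω) ∈ P ⊔ X
    rw [hzu]
    exact mul_mem (Subgroup.mem_sup_right hz) (Subgroup.mem_sup_left hu)
  obtain ⟨θ, hθ, hθe⟩ := exists_aut_restrict hRS hψ₀.1.1 hWR hWv
  suffices hδ1 : θ⁻¹ * ψ = 1 by
    have : ψ = θ := inv_mul_eq_one.1 hδ1 |>.symm
    rw [this]
    exact hθe x
  set δ := θ⁻¹ * ψ with hδdef
  have hδF : δ ∈ F.autGroup (P ⊔ X) := mul_mem (inv_mem hθ) hψ
  have hθm : θ ^ m = 1 := aut_pow_eq_one hWR hθe hψ₀m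
  have hθP : ∀ y : ↥(P ⊔ X), (y : Ω) ∈ P → θ y = ψ y := fun y hy =>
    Subtype.ext ((hθe y).trans (hψP y hy).symm)
  have hδP : ∀ y : ↥(P ⊔ X), (y : Ω) ∈ P → δ y = y := fun y hy => by
    rw [hδdef, MulAut.mul_apply, ← hθP y hy, MulAut.inv_apply_self]
  -- `δ` moves `X` by elements of the centre of `P`
  have hmove : ∀ y : ↥(P ⊔ X), (y : Ω) ∈ X → ∃ z : ↥(P ⊔ X), (z : Ω) ∈ P ∧ δ y = y * z ∧
      ((z : Ω) ∈ centralizerIn S P) ∧ ∃ v : ↥(P ⊔ X), (v : Ω) ∈ P ∧ θ y = y * v ∧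
        (∀ w, Commute v w) := by
    intro y hy
    obtain ⟨-, v, hv, hyv, hvc⟩ := goodExt_central hZ hψ₀ (Subgroup.inclusion hWR y) (hX hy)
    have hu : (y : Ω)⁻¹ * ((ψ y : _) : Ω) ∈ centralizerIn S P := by
      refine mul_mem (inv_mem (hX hy)) (mem_centralizerIn.2 ⟨hWS (ψ y).2, fun q hq => ?_⟩)
      let q' : ↥(P ⊔ X) := ⟨q, Subgroup.mem_sup_left hq⟩
      let q₀ : ↥(P ⊔ X) := θ⁻¹ q'
      have hq₀ : (q₀ : Ω) ∈ P := by
        have h1 : ((ψ₀ (Subgroup.inclusion hWR q₀) : _) : Ω) ∈ P := by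
          rw [← hθe q₀]
          show ((θ (θ⁻¹ q') : _) : Ω) ∈ P
          rw [MulAut.apply_inv_self]
          exact hq
        exact (hψ₀.1.2 _).2 h1
      have h2 : y * q₀ = q₀ * y := Subtype.ext ((mem_centralizerIn.1 (hX hy)).2 _ hq₀)
      have h3 := congrArg (fun w : ↥(P ⊔ X) => ((ψ w : _) : Ω)) h2
      simp only [map_mul, ← hθP q₀ hq₀, Subgroup.coe_mul] at h3
      have h4 : θ q₀ = q' := MulAut.apply_inv_self _ _ _
      rwa [h4] at h3
    have huP : (y : Ω)⁻¹ * ((ψ y : _) : Ω) ∈ P :=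
      hZ (mem_centralizerIn.2 ⟨hψX y hy, (mem_centralizerIn.1 hu).2⟩)
    let v' : ↥(P ⊔ X) := ⟨v, Subgroup.mem_sup_left hv⟩
    let u' : ↥(P ⊔ X) := ⟨_, Subgroup.mem_sup_left huP⟩
    have hvw : ∀ w, Commute v' w := fun w => Subtype.ext (hvc w (hWR w.2))
    have hθy : θ y = y * v' := Subtype.ext ((hθe y).trans hyv)
    have hψy : ψ y = y * u' := Subtype.ext (mul_inv_cancel_left _ _).symm
    refine ⟨θ⁻¹ (v'⁻¹ * u'), ?_, ?_, ?_, v', hv, hθy, hvw⟩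
    · have h1 : ((θ (θ⁻¹ (v'⁻¹ * u')) : _) : Ω) ∈ P := by
        rw [MulAut.apply_inv_self]
        exact mul_mem (inv_mem hv) huP
      rw [hθe] at h1
      exact (hψ₀.1.2 _).2 h1
    · rw [hδdef, MulAut.mul_apply, hψy,
        show y * u' = θ y * (v'⁻¹ * u') by rw [hθy]; group, map_mul, MulAut.inv_apply_self]
    · refine mem_centralizerIn.2 ⟨hWS (θ⁻¹ (v'⁻¹ * u')).2, fun q hq => ?_⟩
      have hc1 : ∀ w : ↥(P ⊔ X), (w : Ω) ∈ P → Commute (v'⁻¹ * u') w := fun w hw =>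
        (hvw w).inv_left.mul_left (Subtype.ext ((mem_centralizerIn.1 hu).2 _ hw))
      have h2 := (hc1 (θ ⟨q, Subgroup.mem_sup_left hq⟩) (by
        rw [hθe]; exact (hψ₀.1.2 _).1 hq)).map θ⁻¹.toMonoidHom
      have h3 := congrArg (fun w : ↥(P ⊔ X) => (w : Ω)) h2.eq
      simp only [MulEquiv.coe_toMonoidHom, MulAut.inv_apply_self, Subgroup.coe_mul] at h3
      exact h3
  -- `δ` is a `p`-element
  have hδpow : ∀ (n : ℕ) (y z : ↥(P ⊔ X)), (z : Ω) ∈ P → δ y = y * z → (δ ^ n) y = y * z ^ n := by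
    intro n y z hz h
    induction n with
    | zero => simp
    | succ n ih =>
      rw [pow_succ', MulAut.mul_apply, ih, map_mul, map_pow, h, hδP z hz, pow_succ', mul_assoc]
  obtain ⟨k, hk⟩ := IsPGroup.iff_card.1 (hS.to_le hWS)
  have hδk : δ ^ p ^ k = 1 := by
    apply MulEquiv.ext
    intro y
    refine hom_eq_on_sup (f := (δ ^ p ^ k).toMonoidHom) (g := MonoidHom.id _)
      (fun q hq => ?_) (fun q hq => ?_) y
    · show (δ ^ p ^ k) q = q
      rw [hδpow _ q 1 (one_mem P) (by rw [mul_one, hδP q hq]), one_pow, mul_one]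
    · obtain ⟨z, hz, hqz, -⟩ := hmove q hq
      show (δ ^ p ^ k) q = q
      rw [hδpow _ q z hz hqz, ← hk, pow_card_eq_one', mul_one]
  -- `θ` fixes the displacements
  have hfix : ∀ y z : ↥(P ⊔ X), (y : Ω) ∈ X → (z : Ω) ∈ P → δ y = y * z → θ z = z := by
    intro y z hy hz hyz
    obtain ⟨f, hf, s, hs, hfs⟩ := exists_move_induced hS hF hWS hδF hδk
    have hfP := restrict_mem hf (le_sup_left : P ≤ P ⊔ X)
    obtain ⟨g, hg, hgr, hge⟩ := exists_inv hfP rfl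
    set P' := (f.comp (Subgroup.inclusion (le_sup_left : P ≤ P ⊔ X))).range with hP'
    obtain ⟨ε, hε, hεe, hεc, hεv⟩ := exists_ext_fc hS hF hfc hg hgr
    have hfin : ∀ q : P, f (Subgroup.inclusion le_sup_left q) ∈ P' := fun q => ⟨q, rfl⟩
    have hsC : s ∈ centralizerIn S P' := by
      refine mem_centralizerIn.2 ⟨hs, ?_⟩
      rintro _ ⟨q, rfl⟩
      have h := hfs (Subgroup.inclusion le_sup_left q)
      rw [hδP _ q.2] at h
      exact commute_of_conj_eq h.symm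
    have hyC : f y ∈ centralizerIn S P' := by
      refine mem_centralizerIn.2 ⟨hom_mem hf _, ?_⟩
      rintro _ ⟨q, rfl⟩
      show f y * f _ = f _ * f y
      rw [← map_mul, ← map_mul]
      exact congrArg f (Subtype.ext ((mem_centralizerIn.1 (hX hy)).2 q q.2))
    have hfz : f z ∈ P' := hfin ⟨(z : Ω), hz⟩
    let s' : ↥(P' ⊔ centralizerIn S P') := ⟨s, Subgroup.mem_sup_right hsC⟩
    let y' : ↥(P' ⊔ centralizerIn S P') := ⟨f y, Subgroup.mem_sup_right hyC⟩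
    let z' : ↥(P' ⊔ centralizerIn S P') := ⟨f z, Subgroup.mem_sup_left hfz⟩
    have hrel : y' * z' = s' * y' * s'⁻¹ := by
      apply Subtype.ext
      show f y * f z = s * f y * s⁻¹
      rw [← map_mul, ← hyz]
      exact hfs y
    have hεz : ε z' = (z : Ω) := (hεe ⟨f z, hfz⟩).trans (hge ⟨(z : Ω), hz⟩ _)
    let a : ↥(P ⊔ centralizerIn S P) := ⟨ε y', hεv _⟩
    let b : ↥(P ⊔ centralizerIn S P) := ⟨ε s', hεv _⟩
    have ha : (a : Ω) ∈ centralizerIn S P := hεc ⟨_, hyC⟩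
    have hb : (b : Ω) ∈ centralizerIn S P := hεc ⟨_, hsC⟩
    have hzab : Subgroup.inclusion hWR z = a⁻¹ * b * a * b⁻¹ := by
      apply Subtype.ext
      show (z : Ω) = (ε y')⁻¹ * ε s' * ε y' * (ε s')⁻¹
      rw [← map_inv, ← map_inv, ← map_mul, ← map_mul, ← map_mul, ← hεz]
      refine congrArg ε ?_
      rw [show z' = y'⁻¹ * (y' * z') by group, hrel]
      group
    apply Subtype.ext
    rw [hθe, hzab, goodExt_commutator hZ hψ₀ a b ha hb]
    exact (congrArg Subtype.val hzab).symm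
  -- `δ` commutes with `θ`
  have hcomm : Commute δ θ := by
    apply MulEquiv.ext
    intro y
    refine hom_eq_on_sup (f := (δ * θ).toMonoidHom) (g := (θ * δ).toMonoidHom)
      (fun q hq => ?_) (fun q hq => ?_) y
    · show δ (θ q) = θ (δ q)
      rw [hδP q hq, hδP]
      rw [hθe]
      exact (hψ₀.1.2 _).1 hq
    · obtain ⟨z, hz, hqz, -, v, hv, hqv, hvw⟩ := hmove q hq
      show δ (θ q) = θ (δ q)
      rw [hqv, hqz, map_mul, map_mul, hqz, hqv, hδP v hv, hfix q z hq hz hqz, mul_assoc, mul_assoc,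
        (hvw z).eq]
  have hδm : δ ^ m = 1 := by
    have hψeq : ψ = θ * δ := (mul_inv_cancel_left θ ψ).symm
    have h1 : (θ * δ) ^ m = 1 := hψeq ▸ hψm
    rwa [hcomm.symm.mul_pow, hθm, one_mul] at h1
  exact orderOf_eq_one_iff.1 (Nat.eq_one_of_dvd_coprimes (Nat.Coprime.pow_right k hm)
    (orderOf_dvd_of_pow_eq_one hδm) (orderOf_dvd_of_pow_eq_one hδk))

end Cfsg.Lib.FusionSys
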