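import Cfsg.Agent.Lib.FusionSys.SatFamilyReach

/-!
In a class outside the good family every member maps its normalizer into that of a member with
largest normalizer.
-/

set_option autoImplicit false

namespace Cfsg.Lib.FusionSys

open Cfsg Cfsg.FusionSystem

variable {Ω : Type*} [Group Ω] {S : Subgroup Ω} {F : FusionSystem S}
variable {p : ℕ} {A B Pm R R' : Subgroup Ω}

/-- Compatible isomorphisms carry the subgroup onto its image. -/
theorem mem_iff_of_compat (g : R ≃* R') (e : A ≃* B) (hAR : A ≤ R)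
    (hc : ∀ a : A, (e a : Ω) = (g ⟨a, hAR a.2⟩ : Ω)) (x : R) :
    (x : Ω) ∈ A ↔ (g x : Ω) ∈ B := by
  constructor
  · intro hx
    have := (e ⟨x, hx⟩).2
    rwa [hc] at this
  · intro hx
    have h1 : (g ⟨e.symm ⟨g x, hx⟩, hAR (e.symm ⟨g x, hx⟩).2⟩ : Ω) = (g x : Ω) := by
      rw [← hc, MulEquiv.apply_symm_apply]
    rw [← g.injective (Subtype.ext h1)]
    exact (e.symm ⟨g x, hx⟩).2

theorem normalizes_of_compat (g : R ≃* R') (e : A ≃* B) (hAR : A ≤ R) (hBR : B ≤ R')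
    (hc : ∀ a : A, (e a : Ω) = (g ⟨a, hAR a.2⟩ : Ω)) (hR : R ≤ Subgroup.normalizer (A : Set Ω)) :
    R' ≤ Subgroup.normalizer (B : Set Ω) := by
  intro y hy
  have key : ∀ x : R', (x : Ω) ∈ B ↔ ((g.symm x : R) : Ω) ∈ A := fun x => by
    rw [mem_iff_of_compat g e hAR hc, MulEquiv.apply_symm_apply]
  rw [Subgroup.mem_normalizer_iff]
  intro z
  constructor
  · intro hz
    let z' : R' := ⟨z, hBR hz⟩
    let y' : R' := ⟨y, hy⟩
    have h1 := (Subgroup.mem_normalizer_iff.1 (hR (g.symm y').2) _).1 ((key z').1 hz)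
    have h2 : (((g.symm (y' * z' * y'⁻¹)) : R) : Ω) ∈ A := by
      simpa [map_mul, map_inv] using h1
    exact (key (y' * z' * y'⁻¹)).2 h2
  · intro hz
    let y' : R' := ⟨y, hy⟩
    let w' : R' := ⟨y * z * y⁻¹, hBR hz⟩
    have h1 := (Subgroup.mem_normalizer_iff.1 (hR (g.symm y'⁻¹).2) _).1 ((key w').1 hz)
    have h2 : (((g.symm (y'⁻¹ * w' * y'⁻¹⁻¹)) : R) : Ω) ∈ A := by
      simpa [map_mul, map_inv] using h1
    have h3 := (key (y'⁻¹ * w' * y'⁻¹⁻¹)).2 h2
    simpa [y', w', mul_assoc] using h3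

/-- An automorphism stabilized set gives an isomorphism between the subgroups. -/
def subIso (δ : R ≃* R') (hAR : A ≤ R) (hBR : B ≤ R')
    (h : ∀ x : R, (x : Ω) ∈ A ↔ (δ x : Ω) ∈ B) : A ≃* B where
  toFun a := ⟨δ ⟨a, hAR a.2⟩, (h _).1 a.2⟩
  invFun b := ⟨δ.symm ⟨b, hBR b.2⟩, (h _).2 (by rw [MulEquiv.apply_symm_apply]; exact b.2)⟩
  left_inv a := Subtype.ext (by simp)
  right_inv b := Subtype.ext (by simp)
  map_mul' a c := Subtype.ext (by
    show ((δ ⟨((a * c : A) : Ω), _⟩ : R') : Ω) = _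
    rw [show (⟨((a * c : A) : Ω), hAR (a * c).2⟩ : R) = ⟨a, hAR a.2⟩ * ⟨c, hAR c.2⟩ from rfl,
      map_mul]
    rfl)

/-- Adjust an automorphism inside a receptive subgroup so that it extends to the stabilizing part. -/
theorem exists_adjust [Finite S] [Fact p.Prime] (hS : IsPGroup p S) {R0 A' A'' : Subgroup Ω}
    (hrec : F.IsReceptive R0) (hA' : A' ≤ R0) (hA'' : A'' ≤ R0)
    (hR0n : R0 ≤ Subgroup.normalizer (A' : Set Ω)) (hst : SylowStab F p R0 A'') {Δ : MulAut R0}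
    (hΔ : Δ ∈ F.autGroup R0) (hmap : ∀ x : R0, (x : Ω) ∈ A' ↔ ((Δ x : R0) : Ω) ∈ A'') :
    ∃ e' : A' ≃* A'', ExtIso F (normalizerIn S R0 ⊓ normalizerIn S A')
      (normalizerIn S R0 ⊓ normalizerIn S A'') e' := by
  have hRS : R0 ≤ S := hrec.1
  haveI := finite_of_le hRS
  haveI : Finite (MulAut R0) := Finite.of_injective MulEquiv.toEquiv MulEquiv.toEquiv_injective
  have hmove : moveSub Δ A' = A'' := by
    ext y
    rw [mem_moveSub]
    refine ⟨fun ⟨x, hx, he⟩ => he ▸ (hmap x).1 hx, fun hy => ⟨Δ⁻¹ ⟨y, hA'' hy⟩, ?_, ?_⟩⟩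
    · rw [hmap, MulAut.apply_inv_self]
      exact hy
    · rw [MulAut.apply_inv_self]
  set K := stabAut F R0 A'' with hK
  obtain ⟨W, hW⟩ := hst
  let X : Subgroup K := (((autInducedBy S R0 ⊓ stabAut F R0 A').map
    (MulAut.conj Δ).toMonoidHom)).subgroupOf K
  have hXp : IsPGroup p X :=
    (((isPGroup_autInducedBy hS).to_le inf_le_left).map _).comap_subtype
  obtain ⟨W', hW'⟩ := hXp.exists_le_sylow
  obtain ⟨k, hk⟩ := MulAction.exists_smul_eq K W' W
  set δ : MulAut R0 := (k : MulAut R0) * Δ with hδdef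
  have hδ : δ ∈ F.autGroup R0 := Subgroup.mul_mem _ k.2.1 hΔ
  have hδmap : ∀ x : R0, (x : Ω) ∈ A' ↔ ((δ x : R0) : Ω) ∈ A'' := fun x => by
    rw [hδdef, MulAut.mul_apply]
    exact (hmap x).trans (k.2.2 _)
  refine ⟨subIso δ hA' hA'' hδmap, ?_⟩
  have hext : ExtIso F (normalizerIn S R0 ⊓ normalizerIn S A') (normalizerIn S R0)
      (δ : R0 ≃* R0) := by
    refine exists_extIso_of_receptive hrec ((mem_autGroup hRS).1 hδ)
      (le_inf (le_normalizerIn hRS) (le_inf hRS hR0n)) inf_le_left fun g hg => ?_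
    have e1 : MulAut.congr (δ : R0 ≃* R0) (conjAut R0 hg.1.2) = δ * conjAut R0 hg.1.2 * δ⁻¹ :=
      MulEquiv.ext fun x => rfl
    rw [e1, hδdef]
    have hc : conjAut R0 hg.1.2 ∈ stabAut F R0 A' := conjAut_mem_stabAut hRS hg.1.1 hg.1.2 hg.2.2
    have hd : Δ * conjAut R0 hg.1.2 * Δ⁻¹ ∈ K := by
      have := conj_mem_stabAut hΔ hc
      rwa [hmove] at this
    have hdX : (⟨_, hd⟩ : K) ∈ X :=
      ⟨conjAut R0 hg.1.2, ⟨conjAut_mem_autInducedBy hg.1.2 hg.1.1, hc⟩, rfl⟩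
    have h1 : k * ⟨_, hd⟩ * k⁻¹ ∈ (W : Subgroup K) := by
      rw [← hk, Sylow.coe_subgroup_smul]
      exact Subgroup.smul_mem_pointwise_smul _ (MulAut.conj k) _ (hW' hdX)
    rw [hW, Subgroup.mem_subgroupOf] at h1
    simpa [mul_assoc] using h1
  have h2 := hext.restrict (e := subIso δ hA' hA'' hδmap) hA' fun a => rfl
  exact (h2.normalizes fun g hg => hg.2.2).mono (le_inf (hA'.trans (le_normalizerIn hRS))
    (le_normalizerIn (hA'.trans hRS))) le_rfl le_rfl

/-- A witness for the failure of `ToP` on the subgroup `R`. -/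
def IsBadEdge (F : FusionSystem S) (Pm R : Subgroup Ω) : Prop :=
  ∃ (A : Subgroup Ω) (e : A ≃* Pm), ¬ ToP F Pm A ∧ A < R ∧ R ≤ normalizerIn S A ∧
    ExtIso F R (normalizerIn S Pm) e

theorem exists_bigger_badEdge [Finite S] [Fact p.Prime] (hS : IsPGroup p S)
    (hgood : GoodAbove F p Pm)
    (hmax : ∀ A, F.IsConj Pm A → Nat.card (normalizerIn S A) ≤ Nat.card (normalizerIn S Pm))
    (h : IsBadEdge F Pm R) : ∃ R₂, IsBadEdge F Pm R₂ ∧ Nat.card R < Nat.card R₂ := by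
  obtain ⟨A, e, hA, hAR, hRN, hext⟩ := h
  have hAPm : F.IsConj Pm A := isConj_iff.2 ⟨e.symm, hext.isoIn.symm⟩
  have hPmS : Pm ≤ S := (isConj_le hAPm).1
  have hne : R ≠ normalizerIn S A := by
    rintro rfl
    exact hA ⟨e, hext⟩
  have hRlt : R < normalizerIn S A := lt_of_le_of_ne hRN hne
  haveI := finite_of_le (normalizerIn_le (S := S) A)
  haveI := finite_of_le (normalizerIn_le (S := S) Pm)
  have hRS : R ≤ S := hRN.trans (normalizerIn_le A)
  haveI := finite_of_le hRS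
  set T := normalizerIn (normalizerIn S A) R with hTdef
  have hRT : R < T := lt_normalizerIn (hS.to_le (normalizerIn_le A)) hRlt
  obtain ⟨-, ψ, hψ, hψv, hψe⟩ := id hext
  obtain ⟨P', E, hE, -, hP', -, -, hEv⟩ := exists_image_iso (A := R) hψ le_rfl
  have hP'N : P' ≤ normalizerIn S Pm := by
    rw [hP']
    rintro _ ⟨x, -, rfl⟩
    exact hψv x
  have hc : ∀ a : A, (e a : Ω) = (E ⟨a, hAR.le a.2⟩ : Ω) := fun a => by
    rw [hEv]
    exact (hψe a a.2 _).symm
  have hPmP' : Pm ≤ P' := by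
    intro y hy
    have := (E ⟨_, hAR.le (e.symm ⟨y, hy⟩).2⟩).2
    rwa [← hc, MulEquiv.apply_symm_apply] at this
  have hcP' : Nat.card P' = Nat.card R := (Nat.card_congr E.toEquiv).symm
  have hcA : Nat.card Pm = Nat.card A := (Nat.card_congr e.toEquiv).symm
  have hP'ne : P' ≠ normalizerIn S Pm := by
    rintro rfl
    have h1 := hmax A hAPm
    have h2 : Nat.card R < Nat.card (normalizerIn S A) := by
      by_contra hh
      exact hne (Subgroup.eq_of_le_of_card_ge hRN (not_lt.1 hh))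
    omega
  set T₁ := normalizerIn (normalizerIn S Pm) P' with hT₁def
  have hP'T : P' < T₁ := lt_normalizerIn (hS.to_le (normalizerIn_le Pm)) (lt_of_le_of_ne hP'N hP'ne)
  have hcard : Nat.card Pm < Nat.card R := by
    rw [hcA]
    by_contra hh
    exact hAR.ne (Subgroup.eq_of_le_of_card_ge hAR.le (not_lt.1 hh))
  obtain ⟨R₀, hR₀, hfa, hrec⟩ := hgood R hRS hcard
  have hRP' : F.IsConj R P' := isConj_iff.2 ⟨E, hE.isoIn⟩
  have hP'R₀ : F.IsConj P' R₀ := isConj_trans (isConj_symm hRP') hR₀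
  obtain ⟨A', eA, g, hA'R, -, heA, hg, hgc⟩ := exists_good_move (A := A) hS hfa hrec hR₀ hAR.le
    hRT.le (le_inf (inf_le_left.trans (normalizerIn_le A)) inf_le_right)
    (inf_le_left.trans inf_le_right)
  obtain ⟨A'', eP, g₁, hA''R, hst'', heP, hg₁, hg₁c⟩ := exists_good_move (A := Pm) hS hfa hrec hP'R₀
    hPmP' hP'T.le (le_inf (inf_le_left.trans (normalizerIn_le Pm)) inf_le_right)
    (inf_le_left.trans inf_le_right)
  haveI := finite_of_le hg.le_S
  haveI := finite_of_le hg₁.le_S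
  have hcT : Nat.card R < Nat.card T := by
    by_contra hh
    exact hRT.ne (Subgroup.eq_of_le_of_card_ge hRT.le (not_lt.1 hh))
  by_cases h1 : ToP F Pm A'
  · obtain ⟨f, hf⟩ := h1
    exact ⟨T, ⟨A, eA.trans f, hA, hAR.trans hRT, inf_le_left,
      (heA.mono heA.1 le_rfl inf_le_right).trans hf⟩, hcT⟩
  by_cases h2 : ToP F Pm A''
  swap
  · obtain ⟨T', hT', hcT', hT'e⟩ := heP.symm
    have hcT₁ : Nat.card R < Nat.card T' := by
      rw [hcT', ← hcP']
      by_contra hh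
      exact hP'T.ne (Subgroup.eq_of_le_of_card_ge hP'T.le (not_lt.1 hh))
    refine ⟨T', ⟨A'', eP.symm, h2, lt_of_le_of_ne hT'e.1 ?_, hT'.trans inf_le_right,
      hT'e.mono hT'e.1 le_rfl inf_le_left⟩, hcT₁⟩
    rintro rfl
    have h3 : Nat.card Pm = Nat.card A'' := Nat.card_congr eP.toEquiv
    omega
  obtain ⟨f, hf⟩ := h2
  let Δ : MulAut R₀ := g.symm.trans (E.trans g₁)
  have hΔ : Δ ∈ F.autGroup R₀ :=
    (mem_autGroup hrec.1).2 (hg.isoIn.symm.trans (hE.isoIn.trans hg₁.isoIn))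
  have hmap : ∀ x : R₀, (x : Ω) ∈ A' ↔ ((Δ x : R₀) : Ω) ∈ A'' := fun x => by
    have e1 := mem_iff_of_compat g eA hAR.le hgc (g.symm x)
    rw [MulEquiv.apply_symm_apply] at e1
    rw [← e1, mem_iff_of_compat E e hAR.le hc, mem_iff_of_compat g₁ eP hPmP' hg₁c]
    rfl
  have hR₀n : R₀ ≤ Subgroup.normalizer (A' : Set Ω) :=
    normalizes_of_compat g eA hAR.le hA'R hgc (hRN.trans inf_le_right)
  obtain ⟨e', he'⟩ := exists_adjust hS hrec hA'R hA''R hR₀n hst'' hΔ hmap
  refine ⟨normalizerIn S R₀ ⊓ normalizerIn S A', ⟨A', e'.trans f, h1, ?_, inf_le_right,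
    (he'.mono he'.1 le_rfl inf_le_right).trans hf⟩, lt_of_lt_of_le hcT
      (heA.card_le (inf_le_left.trans (normalizerIn_le R₀)))⟩
  refine lt_of_lt_of_le ?_ (le_inf (le_normalizerIn hrec.1) (le_inf hrec.1 hR₀n))
  refine lt_of_le_of_ne hA'R ?_
  rintro rfl
  have h4 : Nat.card A = Nat.card A' := Nat.card_congr eA.toEquiv
  have h5 : Nat.card R = Nat.card A' := Nat.card_congr g.toEquiv
  omega

theorem toP_of_isConj [Finite S] [Fact p.Prime] (hS : IsPGroup p S) (hgood : GoodAbove F p Pm)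
    (hbig : ∀ (A B : Subgroup Ω) (e : A ≃* B), IsoIn F e → F.IsConj Pm A → BigIso F e)
    (hmax : ∀ A, F.IsConj Pm A → Nat.card (normalizerIn S A) ≤ Nat.card (normalizerIn S Pm))
    (hA : F.IsConj Pm A) : ToP F Pm A := by
  have hnone : ∀ (n : ℕ) (R : Subgroup Ω), Nat.card S - Nat.card R ≤ n → ¬ IsBadEdge F Pm R := by
    intro n
    induction n with
    | zero =>
      intro R hR h
      obtain ⟨R₂, h₂, hc⟩ := exists_bigger_badEdge hS hgood hmax h
      obtain ⟨_, _, -, -, h3, -⟩ := h₂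
      have := card_le_of_le (h3.trans (normalizerIn_le _))
      omega
    | succ n ih =>
      intro R hR h
      obtain ⟨R₂, h₂, hc⟩ := exists_bigger_badEdge hS hgood hmax h
      exact ih R₂ (by omega) h₂
  by_contra hnot
  obtain ⟨e, he⟩ := isConj_iff.1 (isConj_symm hA)
  have key : ∀ {A B : Subgroup Ω} (e : A ≃* B), BigIso F e → ToP F Pm B → ¬ ToP F Pm A →
      ∃ R, IsBadEdge F Pm R := by
    intro A B e h
    induction h with
    | @base A B e R hAR he =>
      rintro ⟨g, hg⟩ hA'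
      have hRS : R ≤ S := he.le_S
      haveI := finite_of_le hRS
      have hlt : A < normalizerIn R A := lt_normalizerIn (hS.to_le hRS) hAR
      have h1 : ExtIso F (normalizerIn R A) (normalizerIn S B) e :=
        ((he.mono hlt.le inf_le_left le_rfl).normalizes inf_le_right).mono hlt.le le_rfl inf_le_right
      exact ⟨normalizerIn R A, A, e.trans g, hA', hlt,
        le_inf (inf_le_left.trans hRS) inf_le_right, h1.trans hg⟩
    | @trans A B C e f he hf ih ih' =>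
      intro hC hA'
      by_cases hB : ToP F Pm B
      · exact ih hB hA'
      · exact ih' hC hB
  obtain ⟨R, hR⟩ := key e (hbig _ _ e he hA)
    ⟨MulEquiv.refl Pm, extIso_refl F (normalizerIn_le Pm) (le_normalizerIn he.le_right)⟩ hnot
  exact hnone _ R le_rfl hR

end Cfsg.Lib.FusionSys
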