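import Cfsg.Agent.Lib.FusionSys.GoodAut
import Cfsg.Agent.Lib.FusionSys.NormalLift
import Cfsg.Agent.Lib.FusionSys.TerminatingSeries
import Cfsg.Agent.Lib.FusionSys.SatFamilyClass

/-!
The automorphisms with good extensions in an invariant subsystem, made natural for the maps of the whole system.
-/

set_option autoImplicit false
set_option linter.style.haveILetI false

namespace Cfsg.Lib.FusionSys

open Cfsg Cfsg.FusionSystem

variable {Ω : Type*} [Group Ω] {S T U : Subgroup Ω} {F : FusionSystem S} {G : FusionSystem T} {p : ℕ}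

theorem stronglyClosed_of_subsystem (hsub : G.IsSubsystemOf F) (hU : F.StronglyClosed U) (hUT : U ≤ T) :
    G.StronglyClosed U :=
  ⟨hUT, fun R hR φ hφ x => hU.2 R hR φ (hsub R hφ) x⟩

theorem isoIn_of_subsystem (hsub : G.IsSubsystemOf F) {P Q : Subgroup Ω} {e : P ≃* Q} (he : IsoIn G e) :
    IsoIn F e := hsub _ he

/-- An element of order prime to `p` lies in a normal subgroup when it differs from one of its elements by a
`p`-element. -/
theorem mem_of_coprime_mod [Fact p.Prime] {M : Type*} [Group M] {N : Subgroup M} [N.Normal] {a b d : M}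
    (ha : a ∈ N) (hb : (orderOf b).Coprime p) {k : ℕ} (hd : d ^ p ^ k = 1) (he : b = a * d) : b ∈ N := by
  rw [← QuotientGroup.eq_one_iff]
  have h1 : (b : M ⧸ N) = (d : M ⧸ N) := by
    rw [he, QuotientGroup.mk_mul, (QuotientGroup.eq_one_iff a).2 ha, one_mul]
  refine orderOf_eq_one_iff.1 (Nat.eq_one_of_dvd_coprimes (hb.pow_right k) ?_ ?_)
  · exact orderOf_map_dvd (QuotientGroup.mk' N) b
  · rw [h1]
    exact (orderOf_map_dvd (QuotientGroup.mk' N) d).trans (orderOf_dvd_of_pow_eq_one hd)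

/-- An automorphism fixing a self-centralizing normal subgroup is a `p`-element. -/
theorem isPElement_of_fix [Finite S] [Fact p.Prime] (hS : IsPGroup p S) (hUS : U ≤ S) {Q M : Subgroup Ω}
    (hQM : Q ≤ M) (hMU : M ≤ U) (hn : M ≤ Subgroup.normalizer (Q : Set Ω))
    (hZ : centralizerIn U Q ≤ Q) {d : MulAut M} (hfix : ∀ x : M, (x : Ω) ∈ Q → d x = x) :
    ∃ k : ℕ, d ^ p ^ k = 1 := by
  haveI := finite_of_le (hMU.trans hUS)
  obtain ⟨k, hk⟩ := IsPGroup.iff_card.1 (hS.to_le (hMU.trans hUS))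
  have hmod : ∀ x : M, ((x⁻¹ * d x : M) : Ω) ∈ Q := by
    intro x
    refine hZ (mem_centralizerIn.2 ⟨hMU (x⁻¹ * d x).2, fun y hy => ?_⟩)
    let y' : M := ⟨y, hQM hy⟩
    have hxy : ((x * y' * x⁻¹ : M) : Ω) ∈ Q := (Subgroup.mem_normalizer_iff.1 (hn x.2) y).1 hy
    have h := hfix (x * y' * x⁻¹) hxy
    rw [map_mul, map_mul, map_inv, hfix y' hy] at h
    have h2 : x⁻¹ * d x * y' = y' * (x⁻¹ * d x) := by
      calc x⁻¹ * d x * y' = x⁻¹ * (d x * y' * (d x)⁻¹) * d x := by group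
        _ = y' * (x⁻¹ * d x) := by rw [h]; group
    exact congrArg Subtype.val h2
  refine ⟨k, MulEquiv.ext fun x => ?_⟩
  have h : ∀ n : ℕ, (d ^ n) x = x * (x⁻¹ * d x) ^ n := by
    intro n
    induction n with
    | zero => simp
    | succ n ih =>
      rw [pow_succ', MulAut.mul_apply, ih, map_mul, map_pow, hfix _ (hmod x), pow_succ',
        ← mul_assoc x, mul_inv_cancel_left]
  rw [h, ← hk, pow_card_eq_one', mul_one]
  rfl

/-- The image of a subgroup of the source. -/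
abbrev img {N : Subgroup Ω} (μ : N →* Ω) {X : Subgroup Ω} (hX : X ≤ N) : Subgroup Ω :=
  (μ.comp (Subgroup.inclusion hX)).range

theorem mem_img {N X : Subgroup Ω} {μ : N →* Ω} {hX : X ≤ N} {x : N} (hx : (x : Ω) ∈ X) :
    μ x ∈ img μ hX :=
  ⟨⟨(x : Ω), hx⟩, rfl⟩

theorem mem_centralizerIn_img {N X : Subgroup Ω} {μ : N →* Ω} (hμ : G.Hom N μ) (hX : X ≤ N) {c : N}
    (hc : ∀ x ∈ X, (c : Ω) * x = x * c) : μ c ∈ centralizerIn T (img μ hX) := by
  refine mem_centralizerIn.2 ⟨hom_mem hμ c, ?_⟩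
  rintro _ ⟨x, rfl⟩
  show μ c * μ (Subgroup.inclusion hX x) = μ (Subgroup.inclusion hX x) * μ c
  rw [← map_mul, ← map_mul]
  exact congrArg μ (Subtype.ext (hc x x.2))

theorem mem_normalizer_img {N X : Subgroup Ω} (μ : N →* Ω) (hX : X ≤ N) {g : N}
    (hg : (g : Ω) ∈ Subgroup.normalizer (X : Set Ω)) : μ g ∈ Subgroup.normalizer (img μ hX : Set Ω) := by
  rw [Subgroup.mem_normalizer_iff]
  have key : ∀ g : N, (g : Ω) ∈ Subgroup.normalizer (X : Set Ω) → ∀ y ∈ img μ hX,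
      μ g * y * (μ g)⁻¹ ∈ img μ hX := by
    rintro g hg _ ⟨x, rfl⟩
    show μ g * μ (Subgroup.inclusion hX x) * (μ g)⁻¹ ∈ _
    rw [← map_inv, ← map_mul, ← map_mul]
    exact mem_img ((Subgroup.mem_normalizer_iff.1 hg x).1 x.2)
  refine fun y => ⟨key g hg y, fun h => ?_⟩
  have := key g⁻¹ (inv_mem hg) _ h
  simpa [mul_assoc] using this

/-- A subgroup can be moved so that it and its product with its centralizer are fully normalized. -/
theorem exists_fn_pos [Finite T] [Fact p.Prime] (hT : IsPGroup p T) (hG : G.IsSaturated p)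
    {M : Subgroup Ω} (hM : M ≤ T) :
    ∃ μ ∈ G.Hom (normalizerIn T M), (∀ x, μ x ∈ normalizerIn T (img μ (le_normalizerIn hM))) ∧
      G.IsFullyNormalized (img μ (le_normalizerIn hM)) ∧
      G.IsFullyNormalized (img μ (le_normalizerIn hM) ⊔ centralizerIn T (img μ (le_normalizerIn hM))) := by
  obtain ⟨M', hMM', hM'⟩ := exists_isFullyNormalized G hM
  obtain ⟨hfc', hfa'⟩ := isFullyAutomized_and_fc_of_fn hT hG hM'
  obtain ⟨μ₀, hμ₀, hμ₀v, hμ₀M⟩ := exists_normalizer_map hT hfa' (isReceptive_of_fc hT hG hfc') hMM'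
  set W' := M' ⊔ centralizerIn T M' with hW'
  have hW'T : W' ≤ T := sup_le hM'.1 (centralizerIn_le M')
  obtain ⟨W₁, hWW₁, hW₁⟩ := exists_isFullyNormalized G hW'T
  obtain ⟨hfc₁, hfa₁⟩ := isFullyAutomized_and_fc_of_fn hT hG hW₁
  obtain ⟨f, hf, hfv, hfW⟩ := exists_normalizer_map hT hfa₁ (isReceptive_of_fc hT hG hfc₁) hWW₁
  have hN'W : normalizerIn T M' ≤ normalizerIn T W' := fun g hg => by
    refine ⟨hg.1, normalizer_inf_le ⟨hg.2, Subgroup.mem_normalizer_iff.2 fun c => ?_⟩⟩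
    have key : ∀ g, g ∈ normalizerIn T M' → ∀ c ∈ centralizerIn T M', g * c * g⁻¹ ∈ centralizerIn T M' := by
      intro g hg c hc
      refine mem_centralizerIn.2 ⟨T.mul_mem (T.mul_mem hg.1 (centralizerIn_le M' hc)) (T.inv_mem hg.1),
        fun y hy => ?_⟩
      have h1 := (mem_centralizerIn.1 hc).2 _ ((Subgroup.mem_normalizer_iff''.1 hg.2 y).1 hy)
      calc g * c * g⁻¹ * y = g * (c * (g⁻¹ * y * g)) * g⁻¹ := by group
        _ = g * (g⁻¹ * y * g * c) * g⁻¹ := by rw [h1]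
        _ = y * (g * c * g⁻¹) := by group
    refine ⟨key g hg c, fun h => ?_⟩
    have := key g⁻¹ (inv_mem hg) _ h
    simpa [mul_assoc] using this
  have hv : ∀ x, μ₀ x ∈ normalizerIn T W' := fun x => hN'W (hμ₀v x)
  have hμ := G.comp_mem hμ₀ hf hv
  set μ := f.comp (μ₀.codRestrict _ hv) with hμdef
  have hMN : M ≤ normalizerIn T M := le_normalizerIn hM
  have hM'N : M' ≤ normalizerIn T W' := (le_normalizerIn hM'.1).trans hN'W
  have himg : img μ hMN = img f hM'N := by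
    ext y
    constructor
    · rintro ⟨x, rfl⟩
      exact mem_img (hμ₀M.le ⟨Subgroup.inclusion hMN x, x.2, rfl⟩)
    · rintro ⟨z, rfl⟩
      obtain ⟨x, hx, hxe⟩ := hμ₀M.ge z.2
      exact ⟨⟨(x : Ω), hx⟩, congrArg f (Subtype.ext hxe)⟩
  refine ⟨μ, hμ, ?_⟩
  rw [himg]
  set M₁ := img f hM'N with hM₁
  have hM₁T : M₁ ≤ T := range_le (restrict_mem hf hM'N)
  have hconj : G.IsConj M' M₁ := ⟨_, restrict_mem hf hM'N, rfl⟩
  have hμv : ∀ x, μ x ∈ normalizerIn T M₁ := fun x =>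
    ⟨hom_mem hμ x, mem_normalizer_img f hM'N (g := ⟨μ₀ x, hv x⟩) (hμ₀v x).2⟩
  have hM₁n : G.IsFullyNormalized M₁ := by
    refine ⟨hM₁T, fun R hR => (hM'.2 R (isConj_trans hconj hR)).trans ?_⟩
    haveI := finite_of_le (normalizerIn_le (S := T) M₁)
    exact Nat.card_le_card_of_injective (fun z : normalizerIn T M' =>
      (⟨f (Subgroup.inclusion hN'W z), hom_mem hf _, mem_normalizer_img f hM'N z.2.2⟩ : normalizerIn T M₁))
      fun a b hab => Subgroup.inclusion_injective hN'W (G.injective_of_mem hf (congrArg Subtype.val hab))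
  refine ⟨hμv, hM₁n, ?_⟩
  suffices h : M₁ ⊔ centralizerIn T M₁ = W₁ by rw [h]; exact hW₁
  have hWN : W' ≤ normalizerIn T W' := le_normalizerIn hW'T
  have hC'N : centralizerIn T M' ≤ normalizerIn T W' := le_sup_right.trans hWN
  have hC : img f hC'N = centralizerIn T M₁ := by
    refine eq_of_le_of_card_le (centralizerIn_le M₁) ?_ ?_
    · rintro _ ⟨c, rfl⟩
      exact mem_centralizerIn_img hf hM'N (mem_centralizerIn.1 c.2).2
    · rw [img, card_range (restrict_mem hf hC'N)]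
      exact hfc'.2 M₁ hconj
  rw [← hC, ← hfW]
  refine le_antisymm (sup_le ?_ ?_) ?_
  · rintro _ ⟨x, rfl⟩
    exact ⟨Subgroup.inclusion hM'N x, Subgroup.mem_sup_left x.2, rfl⟩
  · rintro _ ⟨x, rfl⟩
    exact ⟨Subgroup.inclusion hC'N x, Subgroup.mem_sup_right x.2, rfl⟩
  · rintro _ ⟨x, hx, rfl⟩
    obtain ⟨a, ha, b, hb, hab⟩ := exists_mul_of_mem_sup_centralizer (S := T) hx
    rw [show x = Subgroup.inclusion hM'N ⟨a, ha⟩ * Subgroup.inclusion hC'N ⟨b, hb⟩ from Subtype.ext hab, map_mul]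
    exact mul_mem (Subgroup.mem_sup_left ⟨_, rfl⟩) (Subgroup.mem_sup_right ⟨_, rfl⟩)

/-- The centralizer of a fully centralized subgroup is largest among the conjugates in the whole system. -/
theorem card_centralizer_le [Finite S] (hG : G.IsInvariantIn F) {P Q : Subgroup Ω}
    (hP : G.IsFullyCentralized P) (h : F.IsConj P Q) :
    Nat.card (centralizerIn T Q) ≤ Nat.card (centralizerIn T P) := by
  obtain ⟨φ, hφ, rfl⟩ := h
  obtain ⟨α, hα, φ₀, hφ₀, he⟩ := hG.2.2.2 P hP.1 φ hφ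
  haveI := finite_of_le hG.2.1.1
  haveI := finite_of_le (centralizerIn_le (S := T) φ₀.range)
  refine le_trans ?_ (hP.2 φ₀.range ⟨φ₀, hφ₀, rfl⟩)
  refine Nat.card_le_card_of_injective (fun c : centralizerIn T φ.range =>
    (⟨((α⁻¹ ⟨(c : Ω), centralizerIn_le _ c.2⟩ : T) : Ω), mem_centralizerIn.2 ⟨(α⁻¹ _).2, ?_⟩⟩ :
      centralizerIn T φ₀.range)) fun a b hab => by
      have h : α⁻¹ ⟨(a : Ω), centralizerIn_le _ a.2⟩ = α⁻¹ ⟨(b : Ω), centralizerIn_le _ b.2⟩ :=
        Subtype.ext (congrArg (fun z : centralizerIn T φ₀.range => (z : Ω)) hab :)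
      exact Subtype.ext (congrArg Subtype.val (α⁻¹.injective h) :)
  rintro _ ⟨x, rfl⟩
  have h1 := (mem_centralizerIn.1 c.2).2 (φ x) ⟨x, rfl⟩
  rw [he x (hom_mem hφ₀ x)] at h1
  have h2 : (⟨(c : Ω), centralizerIn_le _ c.2⟩ : T) * α ⟨φ₀ x, hom_mem hφ₀ x⟩ =
      α ⟨φ₀ x, hom_mem hφ₀ x⟩ * ⟨(c : Ω), centralizerIn_le _ c.2⟩ := Subtype.ext h1
  have h3 := congrArg (fun z => (((α⁻¹ z : T)) : Ω)) h2
  simp only [map_mul, MulAut.inv_apply_self, Subgroup.coe_mul] at h3
  exact h3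

/-- A map between fully centralized subgroups extends to the products with their centralizers. -/
theorem exists_iso_ext [Finite S] [Fact p.Prime] (hS : IsPGroup p S) (hGs : G.IsSaturated p)
    (hG : G.IsInvariantIn F) {P Q : Subgroup Ω} (hP : G.IsFullyCentralized P) (hQ : G.IsFullyCentralized Q)
    {e : P ≃* Q} (he : IsoIn F e) :
    ∃ ε : ↥(P ⊔ centralizerIn T P) ≃* ↥(Q ⊔ centralizerIn T Q), IsoIn F ε ∧
      (∀ x : P, (ε (Subgroup.inclusion le_sup_left x) : Ω) = (e x : Ω)) ∧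
      ∀ x : ↥(P ⊔ centralizerIn T P), (x : Ω) ∈ centralizerIn T P ↔ (ε x : Ω) ∈ centralizerIn T Q := by
  have hTS := hG.2.1.1
  haveI := finite_of_le hTS
  have hT : IsPGroup p T := hS.to_le hTS
  obtain ⟨α, hα, φ₀, hφ₀, heα⟩ := hG.2.2.2 P hP.1 _ he
  set P' := φ₀.range with hP'
  have hP'T : P' ≤ T := range_le hφ₀
  have hαF : T.subtype.comp α.toMonoidHom ∈ F.Hom T := (mem_autGroup hTS).1 hα
  have hconj : G.IsConj P P' := ⟨φ₀, hφ₀, rfl⟩
  have hPQ : F.IsConj P Q := isConj_iff.2 ⟨e, he⟩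
  have hcard : Nat.card (centralizerIn T Q) = Nat.card (centralizerIn T P) :=
    le_antisymm (card_centralizer_le hG hP hPQ) (card_centralizer_le hG hQ (isConj_symm hPQ))
  haveI := finite_of_le (centralizerIn_le (S := T) P')
  have hQP' : Nat.card (centralizerIn T Q) ≤ Nat.card (centralizerIn T P') := by
    refine Nat.card_le_card_of_injective (fun c : centralizerIn T Q =>
      (⟨((α⁻¹ ⟨(c : Ω), centralizerIn_le _ c.2⟩ : T) : Ω), mem_centralizerIn.2 ⟨(α⁻¹ _).2, ?_⟩⟩ :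
        centralizerIn T P')) fun a b hab => by
      have h : α⁻¹ ⟨(a : Ω), centralizerIn_le _ a.2⟩ = α⁻¹ ⟨(b : Ω), centralizerIn_le _ b.2⟩ :=
        Subtype.ext (congrArg (fun z : centralizerIn T P' => (z : Ω)) hab :)
      exact Subtype.ext (congrArg Subtype.val (α⁻¹.injective h) :)
    rintro _ ⟨x, rfl⟩
    have h1 := (mem_centralizerIn.1 c.2).2 (e x) (e x).2
    rw [show (e x : Ω) = _ from heα x (hom_mem hφ₀ x)] at h1
    have h2 : (⟨(c : Ω), centralizerIn_le _ c.2⟩ : T) * α ⟨φ₀ x, hom_mem hφ₀ x⟩ =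
        α ⟨φ₀ x, hom_mem hφ₀ x⟩ * ⟨(c : Ω), centralizerIn_le _ c.2⟩ := Subtype.ext h1
    have h3 := congrArg (fun z => (((α⁻¹ z : T)) : Ω)) h2
    simp only [map_mul, MulAut.inv_apply_self, Subgroup.coe_mul] at h3
    exact h3
  have hP'fc : G.IsFullyCentralized P' := ⟨hP'T, fun R hR =>
    (hP.2 R (isConj_trans hconj hR)).trans (hcard.ge.trans hQP')⟩
  obtain ⟨ε₀, hε₀, hε₀e, hε₀c, hε₀v⟩ := exists_ext_fc hT hGs hP'fc hφ₀ rfl
  have hVT : P ⊔ centralizerIn T P ≤ T := sup_le hP.1 (centralizerIn_le P)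
  have hmap := F.comp_mem (hG.1 _ hε₀) hαF (fun x => hom_mem hε₀ x)
  set ε₁ := (T.subtype.comp α.toMonoidHom).comp (ε₀.codRestrict T fun x => hom_mem hε₀ x) with hε₁
  have hεe : ∀ x : P, ε₁ (Subgroup.inclusion le_sup_left x) = (e x : Ω) := fun x =>
    (congrArg (fun z : T => ((α z : T) : Ω)) (Subtype.ext (hε₀e x) :
      (⟨ε₀ (Subgroup.inclusion le_sup_left x), hom_mem hε₀ _⟩ : T) = ⟨φ₀ x, hom_mem hφ₀ x⟩)).trans
      (heα x (hom_mem hφ₀ x)).symm
  have hεc : ∀ c : centralizerIn T P, ε₁ (Subgroup.inclusion le_sup_right c) ∈ centralizerIn T Q := by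
    intro c
    refine mem_centralizerIn.2 ⟨(α _).2, fun y hy => ?_⟩
    obtain ⟨x, hx⟩ : ∃ x, e x = ⟨y, hy⟩ := e.surjective _
    rw [show y = ε₁ (Subgroup.inclusion le_sup_left x) by rw [hεe, hx], ← map_mul, ← map_mul]
    exact congrArg ε₁ (Subtype.ext ((mem_centralizerIn.1 c.2).2 x x.2))
  have hC : img ε₁ (le_sup_right : centralizerIn T P ≤ _) = centralizerIn T Q := by
    refine eq_of_le_of_card_le (centralizerIn_le Q) ?_ ?_
    · rintro _ ⟨c, rfl⟩
      exact hεc c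
    · rw [img, card_range (restrict_mem hmap le_sup_right), hcard]
  have hr : ε₁.range = Q ⊔ centralizerIn T Q := by
    refine le_antisymm ?_ (sup_le (fun y hy => ?_) fun y hy => ?_)
    · rintro _ ⟨z, rfl⟩
      obtain ⟨a, ha, b, hb, hab⟩ := exists_mul_of_mem_sup_centralizer (S := T) z.2
      rw [show z = Subgroup.inclusion le_sup_left ⟨a, ha⟩ * Subgroup.inclusion le_sup_right ⟨b, hb⟩ from
        Subtype.ext hab, map_mul, hεe]
      exact mul_mem (Subgroup.mem_sup_left (e _).2) (Subgroup.mem_sup_right (hεc ⟨b, hb⟩))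
    · obtain ⟨x, hx⟩ : ∃ x, e x = ⟨y, hy⟩ := e.surjective _
      exact ⟨_, (hεe x).trans (congrArg Subtype.val hx)⟩
    · obtain ⟨c, hc⟩ := hC.ge hy
      exact ⟨_, hc⟩
  refine ⟨homIso hmap hr, isoIn_homIso hmap hr, fun x => (coe_homIso hmap hr _).trans (hεe x), fun x => ?_⟩
  rw [coe_homIso]
  refine ⟨fun h => hεc ⟨(x : Ω), h⟩, fun h => ?_⟩
  obtain ⟨c, hc⟩ := hC.ge h
  rw [← F.injective_of_mem hmap hc]
  exact c.2

/-- Transport of good extensions. -/
theorem congr_mem_goodAut [Finite S] [Fact p.Prime] (hS : IsPGroup p S) (hGs : G.IsSaturated p)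
    (hG : G.IsInvariantIn F) (hU : F.StronglyClosed U) (hUG : G.StronglyClosed U) {P Q : Subgroup Ω}
    (hP : G.IsFullyCentralized P) (hQ : G.IsFullyCentralized Q) {e : P ≃* Q} (he : IsoIn F e)
    {a : MulAut P} (ha : a ∈ goodAut hUG P hP.1) : MulAut.congr e a ∈ goodAut hUG Q hQ.1 := by
  obtain ⟨ψ, hψ, hψe⟩ := ha
  obtain ⟨ε, hε, hεe, hεc⟩ := exists_iso_ext hS hGs hG hP hQ he
  have hV : P ⊔ centralizerIn T P ≤ T := sup_le hP.1 (centralizerIn_le P)
  have hV' : Q ⊔ centralizerIn T Q ≤ T := sup_le hQ.1 (centralizerIn_le Q)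
  have hεP : ∀ x : ↥(P ⊔ centralizerIn T P), (x : Ω) ∈ P ↔ (ε x : Ω) ∈ Q :=
    mem_iff_of_compat ε e le_sup_left fun a => (hεe a).symm
  refine ⟨MulAut.congr ε ψ, ⟨⟨congr_mem_invariant hG hV hε hψ.1.1, fun y => ?_⟩, fun y hy => ?_⟩,
    fun y => ?_⟩
  · obtain ⟨x, rfl⟩ := ε.surjective y
    rw [show MulAut.congr ε ψ (ε x) = ε (ψ x) by simp [MulAut.congr], ← hεP, ← hεP]
    exact hψ.1.2 x
  · obtain ⟨x, rfl⟩ := ε.surjective y
    rw [show MulAut.congr ε ψ (ε x) = ε (ψ x) by simp [MulAut.congr]]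
    have h1 : ((x⁻¹ * ψ x : ↥(P ⊔ centralizerIn T P)) : Ω) ∈ U := hψ.2 x ((hεc x).2 hy)
    have h2 := stronglyClosed_apply_mem hU hε (x := x⁻¹ * ψ x) h1
    simpa using h2
  · obtain ⟨x, rfl⟩ := e.surjective y
    rw [show Subgroup.inclusion le_sup_left (e x) = ε (Subgroup.inclusion le_sup_left x) from
      Subtype.ext (hεe x).symm, show MulAut.congr e a (e x) = e (a x) by simp [MulAut.congr],
      show MulAut.congr ε ψ (ε (Subgroup.inclusion le_sup_left x)) = ε (ψ (Subgroup.inclusion le_sup_left x)) by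
        simp [MulAut.congr], ← hεe]
    exact congrArg (fun z : ↥(P ⊔ centralizerIn T P) => (ε z : Ω)) (Subtype.ext (hψe x))

/-- The automorphisms which have a good extension at every fully centralized conjugate. -/
noncomputable def goodIn (F : FusionSystem S) (G : FusionSystem T) (hUG : G.StronglyClosed U) (Q : Subgroup Ω) :
    Subgroup (MulAut Q) :=
  ⨅ (Q' : Subgroup Ω) (e : Q ≃* Q') (_ : IsoIn F e) (h : G.IsFullyCentralized Q'),
    (goodAut hUG Q' h.1).comap (MulAut.congr e).toMonoidHom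

theorem mem_goodIn {hUG : G.StronglyClosed U} {Q : Subgroup Ω} {a : MulAut Q} :
    a ∈ goodIn F G hUG Q ↔ ∀ (Q' : Subgroup Ω) (e : Q ≃* Q'), IsoIn F e →
      ∀ h : G.IsFullyCentralized Q', MulAut.congr e a ∈ goodAut hUG Q' h.1 := by
  simp only [goodIn, Subgroup.mem_iInf, Subgroup.mem_comap]
  rfl

theorem congr_mem_goodIn {hUG : G.StronglyClosed U} {Q R : Subgroup Ω} {e : Q ≃* R} (he : IsoIn F e)
    {a : MulAut Q} (ha : a ∈ goodIn F G hUG Q) : MulAut.congr e a ∈ goodIn F G hUG R := by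
  refine mem_goodIn.2 fun R' f hf h => ?_
  have h1 := mem_goodIn.1 ha R' (e.trans f) (he.trans hf) h
  convert h1 using 1
  exact MulEquiv.ext fun x => by simp [MulAut.congr]

theorem goodIn_congr_iff [Finite S] [Fact p.Prime] (hS : IsPGroup p S) (hGs : G.IsSaturated p)
    (hG : G.IsInvariantIn F) (hU : F.StronglyClosed U) {hUG : G.StronglyClosed U} {Q Q' : Subgroup Ω}
    {e : Q ≃* Q'} (he : IsoIn F e) (h : G.IsFullyCentralized Q') {a : MulAut Q} :
    a ∈ goodIn F G hUG Q ↔ MulAut.congr e a ∈ goodAut hUG Q' h.1 := by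
  refine ⟨fun ha => mem_goodIn.1 ha Q' e he h, fun ha => mem_goodIn.2 fun Q'' f hf h' => ?_⟩
  have h1 := congr_mem_goodAut hS hGs hG hU hUG h h' (he.symm.trans hf) ha
  convert h1 using 1
  exact MulEquiv.ext fun x => by simp [MulAut.congr]

theorem goodIn_eq [Finite S] [Fact p.Prime] (hS : IsPGroup p S) (hGs : G.IsSaturated p)
    (hG : G.IsInvariantIn F) (hU : F.StronglyClosed U) {hUG : G.StronglyClosed U} {Q : Subgroup Ω}
    (h : G.IsFullyCentralized Q) : goodIn F G hUG Q = goodAut hUG Q h.1 := by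
  ext a
  rw [goodIn_congr_iff hS hGs hG hU (isoIn_refl F (h.1.trans hG.2.1.1)) h]
  exact Iff.rfl

theorem goodIn_le_autGroup [Finite S] (hG : G.IsInvariantIn F) {hUG : G.StronglyClosed U} {Q : Subgroup Ω}
    (hQ : Q ≤ T) : goodIn F G hUG Q ≤ G.autGroup Q := by
  intro a ha
  haveI := finite_of_le hG.2.1.1
  obtain ⟨Q', hQQ', hfc⟩ := exists_isFullyCentralized G hQ
  obtain ⟨e, he⟩ := isConj_iff.1 hQQ'
  have h1 := goodAut_le_autGroup hUG (mem_goodIn.1 ha Q' e (isoIn_of_subsystem hG.1 he) hfc)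
  have h2 := congr_mem_autGroup he.symm h1
  convert h2 using 1
  exact MulEquiv.ext fun x => by simp [MulAut.congr]

theorem goodIn_conj {hUG : G.StronglyClosed U} {Q : Subgroup Ω} (hQ : Q ≤ S) {a b : MulAut Q}
    (ha : a ∈ goodIn F G hUG Q) (hb : b ∈ F.autGroup Q) : b * a * b⁻¹ ∈ goodIn F G hUG Q :=
  congr_mem_goodIn ((mem_autGroup hQ).1 hb) ha

theorem conjAut_mem_goodIn [Finite S] [Fact p.Prime] (hS : IsPGroup p S) (hGs : G.IsSaturated p)
    (hG : G.IsInvariantIn F) (hU : F.StronglyClosed U) {hUG : G.StronglyClosed U} {Q : Subgroup Ω}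
    (hQ : Q ≤ T) {t : Ω} (ht : t ∈ U) (hn : t ∈ Subgroup.normalizer (Q : Set Ω)) :
    conjAut Q hn ∈ goodIn F G hUG Q := by
  have hTS := hG.2.1.1
  haveI := finite_of_le hTS
  obtain ⟨μ, hμ, hμv, hfn, -⟩ := exists_fn_pos (hS.to_le hTS) hGs hQ
  have hQN : Q ≤ normalizerIn T Q := le_normalizerIn hQ
  have hr := restrict_mem hμ hQN
  set e := homIso hr (rfl : _ = img μ hQN) with he
  have hiso : IsoIn F e := isoIn_of_subsystem hG.1 (isoIn_homIso hr rfl)
  have hfc := (isFullyAutomized_and_fc_of_fn (hS.to_le hTS) hGs hfn).1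
  refine (goodIn_congr_iff hS hGs hG hU hiso hfc).2 ?_
  let t' : normalizerIn T Q := ⟨t, hUG.1 ht, hn⟩
  have ht' : μ t' ∈ U := stronglyClosed_apply_mem hUG hμ (x := t') ht
  rw [show MulAut.congr e (conjAut Q hn) = conjAut _ (hμv t').2 from MulEquiv.ext fun y => Subtype.ext (by
    obtain ⟨x, rfl⟩ := e.surjective y
    rw [show MulAut.congr e (conjAut Q hn) (e x) = e (conjAut Q hn x) by simp [MulAut.congr], coe_conjAut,
      show (e (conjAut Q hn x) : Ω) = μ (t' * Subgroup.inclusion hQN x * t'⁻¹) from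
        congrArg μ (Subtype.ext rfl), map_mul, map_mul, map_inv]
    rfl)]
  exact conjAut_mem_goodAut hUG hfn.1 ht' _

end Cfsg.Lib.FusionSys
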