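import Cfsg.Agent.Lib.FusionSys.GoodIn
import Cfsg.Agent.Lib.FusionSys.CentralProductNormal

/-!
Good automorphisms restrict and extend between self-centralizing subgroups of a strongly closed subgroup.
-/

set_option autoImplicit false
set_option linter.style.haveILetI false
set_option maxHeartbeats 800000

namespace Cfsg.Lib.FusionSys

open Cfsg Cfsg.FusionSystem

variable {Ω : Type*} [Group Ω] {S T U : Subgroup Ω} {F : FusionSystem S} {G : FusionSystem T} {p : ℕ}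

/-- The subgroups of `U` all of whose conjugates contain their centralizer in `U`. -/
def UCentric (F : FusionSystem S) (U Q : Subgroup Ω) : Prop :=
  Q ≤ U ∧ ∀ Q' : Subgroup Ω, F.IsConj Q Q' → centralizerIn U Q' ≤ Q'

theorem UCentric.of_conj (hU : F.StronglyClosed U) {Q R : Subgroup Ω} (h : UCentric F U Q)
    (hR : F.IsConj Q R) : UCentric F U R := by
  refine ⟨?_, fun R' hR' => h.2 R' (isConj_trans hR hR')⟩
  obtain ⟨φ, hφ, rfl⟩ := hR
  rintro _ ⟨x, rfl⟩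
  exact hU.2 Q h.1 φ hφ x

theorem UCentric.self (hU : F.StronglyClosed U) {Q : Subgroup Ω} (h : UCentric F U Q) :
    centralizerIn U Q ≤ Q := h.2 Q (isConj_refl F (h.1.trans hU.1))

theorem UCentric.mono {Q M : Subgroup Ω} (h : UCentric F U Q) (hQM : Q ≤ M) (hM : M ≤ U) :
    UCentric F U M := by
  refine ⟨hM, fun M' hM' => ?_⟩
  obtain ⟨φ, hφ, rfl⟩ := hM'
  have hle : (φ.comp (Subgroup.inclusion hQM)).range ≤ φ.range := by
    rintro _ ⟨x, rfl⟩
    exact ⟨_, rfl⟩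
  exact ((le_inf (centralizerIn_le _) (inf_le_right.trans (Subgroup.centralizer_le hle))).trans
    (h.2 _ ⟨_, restrict_mem hφ hQM, rfl⟩)).trans hle

/-- A power of order prime to `p` agreeing with a given automorphism of such order. -/
theorem exists_pPrime_pow [Fact p.Prime] {A B : Type*} [Monoid A] [Monoid B] [Finite B] {e : A} (b : B)
    (hb : IsOfFinOrder b) (he : (orderOf e).Coprime p) :
    ∃ j v : ℕ, e ^ j = e ∧ v.Coprime p ∧ (b ^ j) ^ v = 1 := by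
  obtain ⟨u, v, hv, huv⟩ := Nat.exists_eq_pow_mul_and_not_dvd hb.orderOf_pos.ne' p
    (Fact.out : p.Prime).ne_one
  obtain ⟨k, hk⟩ := exists_pow_eq_self_of_coprime (x := e)
    ((Nat.Coprime.pow_right u he).symm : (p ^ u).Coprime (orderOf e))
  refine ⟨p ^ u * k, v, by rw [pow_mul]; exact hk, ((Fact.out : p.Prime).coprime_iff_not_dvd.2 hv).symm, ?_⟩
  rw [← pow_mul, mul_right_comm, ← huv, pow_mul, pow_orderOf_eq_one, one_pow]

/-- An automorphism of `P C_T(P)` of order prime to `p`, trivial modulo `U`, extends to a group normalizing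
that product, staying trivial modulo `U`, when its action on the conjugations agrees on `P` with elements
congruent modulo `U`. -/
theorem exists_ext_mod [Finite T] [Fact p.Prime] (hT : IsPGroup p T) (hG : G.IsSaturated p)
    (hU : G.StronglyClosed U) {P : Subgroup Ω} (hPU : P ≤ U) (hZ : centralizerIn U P ≤ P)
    (hW : G.IsFullyNormalized (P ⊔ centralizerIn T P)) {ψ₀ : MulAut ↥(P ⊔ centralizerIn T P)}
    (hψ₀ : ψ₀ ∈ goodExt hU P (hPU.trans hU.1)) {m : ℕ} (hm : m.Coprime p) (hψm : ψ₀ ^ m = 1)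
    {X : Subgroup Ω} (hXT : X ≤ T) (hXP : X ≤ Subgroup.normalizer (P : Set Ω))
    (hX : ∀ g ∈ X, ∃ u ∈ (P ⊔ centralizerIn T P) ⊔ X, g⁻¹ * u ∈ U ∧
      ∀ x : ↥(P ⊔ centralizerIn T P), (x : Ω) ∈ P → ∀ hy : g * (x : Ω) * g⁻¹ ∈ P ⊔ centralizerIn T P,
        ((ψ₀ ⟨_, hy⟩ : _) : Ω) = u * ((ψ₀ x : _) : Ω) * u⁻¹) :
    ∃ β ∈ G.autGroup ((P ⊔ centralizerIn T P) ⊔ X), ∃ v : ℕ, v.Coprime p ∧ β ^ v = 1 ∧
      (∀ x : ↥(P ⊔ centralizerIn T P),
        ((β (Subgroup.inclusion le_sup_left x) : _) : Ω) = ((ψ₀ x : _) : Ω)) ∧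
      ∀ x : ↥((P ⊔ centralizerIn T P) ⊔ X), (x : Ω)⁻¹ * ((β x : _) : Ω) ∈ U := by
  classical
  have hPT : P ≤ T := hPU.trans hU.1
  let W := P ⊔ centralizerIn T P
  have hWT : W ≤ T := sup_le hPT (centralizerIn_le P)
  haveI := finite_of_le hWT
  haveI : Finite (MulAut W) := Finite.of_injective (fun f => (f : W → W)) DFunLike.coe_injective
  have hn : T ≤ Subgroup.normalizer (U : Set Ω) := stronglyClosed_le_normalizer hU
  haveI : (U.subgroupOf T).Normal := Subgroup.normal_subgroupOf_of_le_normalizer hn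
  let π : T →* T ⧸ U.subgroupOf T := QuotientGroup.mk' _
  have hπ : ∀ a b : T, π a = π b ↔ (a : Ω)⁻¹ * (b : Ω) ∈ U := fun a b => QuotientGroup.eq
  have hψU : ∀ x : W, π (Subgroup.inclusion hWT (ψ₀ x)) = π (Subgroup.inclusion hWT x) := by
    refine hom_eq_on_sup (f := (π.comp (Subgroup.inclusion hWT)).comp ψ₀.toMonoidHom)
      (g := π.comp (Subgroup.inclusion hWT)) (fun x hx => ?_) fun x hx => ?_
    · exact (hπ _ _).2 (U.mul_mem (U.inv_mem (hPU ((hψ₀.1.2 x).1 hx))) (hPU hx))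
    · exact ((hπ _ _).2 (hψ₀.2 x hx)).symm
  have hXW : X ≤ Subgroup.normalizer (W : Set Ω) := by
    intro g hg
    refine normalizer_inf_le ⟨hXP hg, Subgroup.mem_normalizer_iff.2 fun c => ?_⟩
    have key : ∀ g ∈ X, ∀ c ∈ centralizerIn T P, g * c * g⁻¹ ∈ centralizerIn T P := by
      intro g hg c hc
      refine mem_centralizerIn.2
        ⟨T.mul_mem (T.mul_mem (hXT hg) (centralizerIn_le P hc)) (T.inv_mem (hXT hg)), fun y hy => ?_⟩
      have h1 := (mem_centralizerIn.1 hc).2 _ ((Subgroup.mem_normalizer_iff''.1 (hXP hg) y).1 hy)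
      calc g * c * g⁻¹ * y = g * (c * (g⁻¹ * y * g)) * g⁻¹ := by group
        _ = g * (g⁻¹ * y * g * c) * g⁻¹ := by rw [h1]
        _ = y * (g * c * g⁻¹) := by group
    refine ⟨key g hg c, fun h => ?_⟩
    have := key g⁻¹ (inv_mem hg) _ h
    simpa [mul_assoc] using this
  have hWP : W ≤ Subgroup.normalizer (P : Set Ω) := sup_le Subgroup.le_normalizer fun c hc => by
    refine Subgroup.mem_normalizer_iff.2 fun n => ⟨fun h => ?_, fun h => ?_⟩
    · rwa [conj_eq_of_commute ((mem_centralizerIn.1 hc).2 n h)]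
    · have h1 := conj_eq_of_commute ((mem_centralizerIn.1 (inv_mem hc)).2 _ h)
      rw [show c⁻¹ * (c * n * c⁻¹) * c⁻¹⁻¹ = n by group] at h1
      rwa [h1]
  set V := W ⊔ X with hVdef
  have hVT : V ≤ T := sup_le hWT hXT
  have hVW : V ≤ Subgroup.normalizer (W : Set Ω) := sup_le Subgroup.le_normalizer hXW
  have hVP : V ≤ Subgroup.normalizer (P : Set Ω) := sup_le hWP hXP
  haveI := finite_of_le hVT
  haveI : Finite (MulAut V) := Finite.of_injective (fun f => (f : V → V)) DFunLike.coe_injective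
  obtain ⟨hWfc, -, R, hR⟩ := isFullyAutomized_and_fc_of_fn hT hG hW
  have hind : ∀ g (hg : g ∈ X), ∃ s ∈ T, (∀ x : W,
      ((ψ₀ (conjAut W (hXW hg) (ψ₀⁻¹ x)) : W) : Ω) = s * (x : Ω) * s⁻¹) ∧ s ∈ V ∧
        g⁻¹ * s ∈ W ⊔ U := by
    intro g hg
    obtain ⟨u, huV, hgu, hue⟩ := hX g hg
    have huT : u ∈ T := hVT huV
    set γ : MulAut W := ψ₀ * conjAut W (hXW hg) * ψ₀⁻¹ with hγdef
    have hγG : γ ∈ G.autGroup W := mul_mem (mul_mem hψ₀.1.1
      (autInducedBy_le_autGroup hWT (conjAut_mem_autInducedBy _ (hXT hg)))) (inv_mem hψ₀.1.1)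
    set cu : MulAut W := conjAut W (hVW huV) with hcudef
    have hcu : cu ∈ G.autGroup W := autInducedBy_le_autGroup hWT (conjAut_mem_autInducedBy _ huT)
    have hγP : ∀ x : W, (x : Ω) ∈ P → (γ x : Ω) = u * (x : Ω) * u⁻¹ := by
      intro x hx
      have hx' : ((ψ₀⁻¹ x : W) : Ω) ∈ P := by
        rw [hψ₀.1.2 (ψ₀⁻¹ x), MulAut.apply_inv_self]
        exact hx
      have h := hue (ψ₀⁻¹ x) hx' ((Subgroup.mem_normalizer_iff.1 (hXW hg) _).1 (ψ₀⁻¹ x).2)
      rw [MulAut.apply_inv_self] at h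
      rw [← h]
      exact congrArg (fun z : W => ((ψ₀ z : W) : Ω)) (Subtype.ext rfl)
    let j : G.autGroup W := ⟨cu⁻¹ * γ, mul_mem (inv_mem hcu) hγG⟩
    have hj : j ∈ nearAut hU hU hWT := by
      have hmod : ∀ x : W, NearMod U 1 (cu⁻¹ * γ) := by
        intro x y
        rw [one_mul, inv_one, mul_one, MulAut.mul_apply]
        have h1 : π (Subgroup.inclusion hWT (γ y)) = π (⟨g, hXT hg⟩ * Subgroup.inclusion hWT y * ⟨g, hXT hg⟩⁻¹) := by
          rw [hγdef, MulAut.mul_apply, MulAut.mul_apply, hψU,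
            show Subgroup.inclusion hWT (conjAut W (hXW hg) (ψ₀⁻¹ y)) =
              ⟨g, hXT hg⟩ * Subgroup.inclusion hWT (ψ₀⁻¹ y) * ⟨g, hXT hg⟩⁻¹ from Subtype.ext rfl,
            map_mul, map_mul, ← hψU (ψ₀⁻¹ y), MulAut.apply_inv_self, ← map_mul, ← map_mul]
        have h2 : π ⟨g, hXT hg⟩ = π ⟨u, huT⟩ := (hπ _ _).2 hgu
        set w := cu⁻¹ (γ y) with hwdef
        have h3 : Subgroup.inclusion hWT (γ y) = ⟨u, huT⟩ * Subgroup.inclusion hWT w * ⟨u, huT⟩⁻¹ :=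
          Subtype.ext (by
            show ((γ y : W) : Ω) = u * (w : Ω) * u⁻¹
            rw [← coe_conjAut W (hVW huV) w, hwdef, hcudef, MulAut.apply_inv_self])
        rw [h3] at h1
        simp only [map_mul, map_inv, h2, mul_left_inj, mul_right_inj] at h1
        exact (hπ _ _).1 h1.symm
      refine mem_nearAut.2 ⟨fun x hx => Subtype.ext ?_, ⟨1, hmod 1⟩, ⟨1, hmod 1⟩⟩
      have hxP : (x : Ω) ∈ P := by
        obtain ⟨a, ha, b, hb, he⟩ := exists_mul_of_mem_sup_centralizer x.2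
        rw [he]
        refine P.mul_mem ha (hZ (mem_centralizerIn.2 ⟨?_, (mem_centralizerIn.1 hb).2⟩))
        have := U.mul_mem (U.inv_mem (hPU ha)) hx.1
        rwa [he, inv_mul_cancel_left] at this
      have hcx : cu x = γ x := Subtype.ext (by rw [hγP x hxP, hcudef, coe_conjAut])
      show (((cu⁻¹ * γ) x : W) : Ω) = x
      rw [MulAut.mul_apply, ← hcx, MulAut.inv_apply_self]
    have hjR := (nearAut_le_sylow hT hU hU hWT R).2 hj
    have hγR : (⟨γ, hγG⟩ : G.autGroup W) ∈ (R : Subgroup (G.autGroup W)) := by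
      have hcR : (⟨cu, hcu⟩ : G.autGroup W) ∈ (R : Subgroup (G.autGroup W)) := by
        rw [hR]; exact conjAut_mem_autInducedBy _ huT
      have := mul_mem hcR hjR
      rwa [show (⟨cu, hcu⟩ : G.autGroup W) * j = ⟨γ, hγG⟩ from Subtype.ext (mul_inv_cancel_left _ _)] at this
    rw [hR] at hγR
    obtain ⟨s, hs, hse⟩ := mem_autInducedBy.1 hγR
    have hsu : u⁻¹ * s ∈ centralizerIn T P := by
      refine mem_centralizerIn.2 ⟨T.mul_mem (T.inv_mem huT) hs, fun y hy => ?_⟩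
      have h1 := (hγP ⟨y, Subgroup.mem_sup_left hy⟩ hy).symm.trans (hse ⟨y, Subgroup.mem_sup_left hy⟩)
      change u * y * u⁻¹ = s * y * s⁻¹ at h1
      calc u⁻¹ * s * y = u⁻¹ * (s * y * s⁻¹) * s := by group
        _ = y * (u⁻¹ * s) := by rw [← h1]; group
    refine ⟨s, hs, fun x => hse x, ?_, ?_⟩
    · rw [show s = u * (u⁻¹ * s) by group]
      exact mul_mem huV (Subgroup.mem_sup_left (Subgroup.mem_sup_right hsu))
    · have hWU : T ≤ Subgroup.normalizer (U : Set Ω) := hn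
      rw [show g⁻¹ * s = (g⁻¹ * u) * (u⁻¹ * s) by group]
      exact mul_mem (Subgroup.mem_sup_right hgu) (Subgroup.mem_sup_left (Subgroup.mem_sup_right hsu))
  -- the extension
  have hψhom : W.subtype.comp ψ₀.toMonoidHom ∈ G.Hom W := (mem_autGroup hWT).1 hψ₀.1.1
  have hψr : (W.subtype.comp ψ₀.toMonoidHom).range = W := by
    ext y
    exact ⟨fun ⟨x, hx⟩ => hx ▸ (ψ₀ x).2, fun hy => ⟨ψ₀⁻¹ ⟨y, hy⟩, by simp⟩⟩
  obtain ⟨ε₀, hε₀, hε₀e⟩ := (isReceptive_of_fc hT hG hWfc).2 W _ hψhom hψr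
  have hle : V ≤ extender T W (W.subtype.comp ψ₀.toMonoidHom) := by
    refine sup_le (le_extender hWT (hom_mem hψhom)) fun g hg => ?_
    obtain ⟨s, hs, hse, -, -⟩ := hind g hg
    refine mem_extender_of (hXT hg) (hXW hg) hs fun x hx => ?_
    show ((ψ₀ ⟨g * (x : Ω) * g⁻¹, hx⟩ : W) : Ω) = s * ((ψ₀ x : W) : Ω) * s⁻¹
    rw [← hse (ψ₀ x), MulAut.inv_apply_self]
    exact congrArg (fun z : W => ((ψ₀ z : W) : Ω)) (Subtype.ext rfl)
  set ε := ε₀.comp (Subgroup.inclusion hle) with hεdef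
  have hε : ε ∈ G.Hom V := restrict_mem hε₀ hle
  have hεW : ∀ (x : V) (hx : (x : Ω) ∈ W), ε x = ((ψ₀ ⟨x, hx⟩ : W) : Ω) := fun x hx => hε₀e x hx _
  have hεX : ∀ x : V, (x : Ω) ∈ X → ε x ∈ V ∧ (x : Ω)⁻¹ * ε x ∈ W ⊔ U := by
    intro x hx
    obtain ⟨s, hs, hse, hsV, hsW⟩ := hind x hx
    have hd : s⁻¹ * ε x ∈ centralizerIn T P := by
      refine mem_centralizerIn.2 ⟨T.mul_mem (T.inv_mem hs) (hom_mem hε x), fun y hy => ?_⟩
      let y' : W := ⟨y, Subgroup.mem_sup_left hy⟩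
      have h1 := hse y'
      let z : W := conjAut W (hXW hx) (ψ₀⁻¹ y')
      have h2 : ((ψ₀ z : W) : Ω) = ε x * ((ψ₀ (ψ₀⁻¹ y') : W) : Ω) * (ε x)⁻¹ := by
        let y0 : V := Subgroup.inclusion le_sup_left (ψ₀⁻¹ y')
        have e1 : x * y0 * x⁻¹ = Subgroup.inclusion le_sup_left z := Subtype.ext rfl
        rw [show ((ψ₀ (ψ₀⁻¹ y') : W) : Ω) = ε y0 from (hεW y0 (ψ₀⁻¹ y').2).symm, ← map_inv, ← map_mul,
          ← map_mul, e1]
        exact (hεW (Subgroup.inclusion le_sup_left z) z.2).symm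
      rw [MulAut.apply_inv_self] at h2
      have h3 : s * y * s⁻¹ = ε x * y * (ε x)⁻¹ := h1.symm.trans h2
      calc s⁻¹ * ε x * y = s⁻¹ * (ε x * y * (ε x)⁻¹) * ε x := by group
        _ = y * (s⁻¹ * ε x) := by rw [← h3]; group
    have hdW : s⁻¹ * ε x ∈ W := Subgroup.mem_sup_right hd
    refine ⟨?_, ?_⟩
    · rw [show ε x = s * (s⁻¹ * ε x) by group]
      exact mul_mem hsV (Subgroup.mem_sup_left hdW)
    · rw [show (x : Ω)⁻¹ * ε x = ((x : Ω)⁻¹ * s) * (s⁻¹ * ε x) by group]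
      exact mul_mem hsW (Subgroup.mem_sup_left hdW)
  have hεv : ∀ x, ε x ∈ V := hom_mem_of_sup (fun x hx => by
    rw [hεW x hx]; exact Subgroup.mem_sup_left (ψ₀ _).2) fun x hx => (hεX x hx).1
  obtain ⟨β₀, hβ₀, hβ₀e⟩ := exists_aut_of_hom hε hεv
  obtain ⟨j, v, hj, hv, hβv⟩ := exists_pPrime_pow (p := p) (e := ψ₀) β₀ (isOfFinOrder_of_finite β₀)
    (Nat.Coprime.coprime_dvd_left (orderOf_dvd_of_pow_eq_one hψm) hm)
  refine ⟨β₀ ^ j, pow_mem hβ₀ j, v, hv, hβv, ?_, ?_⟩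
  · intro x
    rw [← aut_pow_agree (θ := ψ₀) le_sup_left (fun y => ((hβ₀e (Subgroup.inclusion le_sup_left y)).trans (hεW (Subgroup.inclusion le_sup_left y) y.2)).symm) j x, hj]
  set πV : V →* T ⧸ U.subgroupOf T := π.comp (Subgroup.inclusion hVT) with hπV
  have hbW : ∀ (n : ℕ) (x : V), (x : Ω) ∈ W → πV ((β₀ ^ n) x) = πV x := by
    intro n x hx
    induction n with
    | zero => rfl
    | succ n ih =>
      rw [pow_succ', MulAut.mul_apply]
      have hmem : (((β₀ ^ n) x : V) : Ω) ∈ W := by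
        rw [show x = Subgroup.inclusion le_sup_left ⟨(x : Ω), hx⟩ from rfl,
          ← aut_pow_agree (θ := ψ₀) le_sup_left (fun y => ((hβ₀e (Subgroup.inclusion le_sup_left y)).trans (hεW (Subgroup.inclusion le_sup_left y) y.2)).symm) n]
        exact ((ψ₀ ^ n) _).2
      refine Eq.trans ?_ ih
      exact (congrArg π (Subtype.ext ((hβ₀e _).trans (hεW _ hmem)))).trans (hψU ⟨_, hmem⟩)
  have hbX : ∀ x : V, (x : Ω) ∈ X → ∃ w : W, πV (β₀ x) = πV x * πV (Subgroup.inclusion le_sup_left w) := by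
    intro x hx
    have hmem : (x : Ω)⁻¹ * ε x ∈ W ⊔ U := (hεX x hx).2
    have hnU : W ≤ Subgroup.normalizer (U : Set Ω) := hWT.trans hn
    rw [← SetLike.mem_coe, Subgroup.coe_mul_of_left_le_normalizer_right _ _ hnU] at hmem
    obtain ⟨w, hw, d, hd, hwd⟩ := Set.mem_mul.1 hmem
    refine ⟨⟨w, hw⟩, ?_⟩
    rw [← map_mul]
    refine ((hπ _ _).2 ?_).symm
    show ((x : Ω) * w)⁻¹ * ((β₀ x : V) : Ω) ∈ U
    rw [hβ₀e, mul_inv_rev, mul_assoc, ← hwd, inv_mul_cancel_left]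
    exact hd
  have hTq : IsPGroup p (T ⧸ U.subgroupOf T) := hT.to_quotient _
  have heq : ∀ x : V, πV ((β₀ ^ j) x) = πV x := by
    refine hom_eq_on_sup (f := πV.comp (β₀ ^ j).toMonoidHom) (g := πV) (hbW j) fun x hx => ?_
    obtain ⟨w, hw⟩ := hbX x hx
    have hn' : ∀ n : ℕ, πV ((β₀ ^ n) x) = πV x * πV (Subgroup.inclusion le_sup_left w) ^ n := by
      intro n
      induction n with
      | zero => simp
      | succ n ih =>
        have e1 : (β₀ ^ (n + 1)) x = (β₀ ^ n) x * (β₀ ^ n) (x⁻¹ * β₀ x) := by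
          rw [← map_mul, mul_inv_cancel_left, ← MulAut.mul_apply, ← pow_succ]
        have e2 : πV ((β₀ ^ n) (x⁻¹ * β₀ x)) = πV (x⁻¹ * β₀ x) := by
          have hd : ((x⁻¹ * β₀ x : V) : Ω) ∈ W ⊔ U := by
            rw [Subgroup.coe_mul, Subgroup.coe_inv, hβ₀e]; exact (hεX x hx).2
          have hnU : W ≤ Subgroup.normalizer (U : Set Ω) := hWT.trans hn
          rw [← SetLike.mem_coe, Subgroup.coe_mul_of_left_le_normalizer_right _ _ hnU] at hd
          obtain ⟨a, ha, d, hd', had⟩ := Set.mem_mul.1 hd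
          have hdV : d ∈ V := by
            have := V.mul_mem (V.inv_mem (Subgroup.mem_sup_left ha : a ∈ V)) (x⁻¹ * β₀ x).2
            rwa [← had, inv_mul_cancel_left] at this
          rw [show x⁻¹ * β₀ x = (⟨a, Subgroup.mem_sup_left ha⟩ : V) * ⟨d, hdV⟩ from Subtype.ext had.symm,
            map_mul, map_mul, map_mul, hbW n _ ha]
          refine congrArg (_ * ·) ?_
          have h4 : (((β₀ ^ n) ⟨d, hdV⟩ : V) : Ω) ∈ U :=
            stronglyClosed_aut_mem hU (pow_mem hβ₀ n) hVT hd'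
          exact (hπ _ _).2 (U.mul_mem (U.inv_mem h4) hd')
        rw [e1, map_mul, ih, e2, map_mul, map_inv, hw, inv_mul_cancel_left, pow_succ, mul_assoc]
    have h1 := hn' (j * v)
    rw [pow_mul, hβv] at h1
    set q := πV (Subgroup.inclusion le_sup_left w)
    have h2 : q ^ (j * v) = 1 := left_eq_mul.1 h1
    rw [pow_mul] at h2
    show πV ((β₀ ^ j) x) = πV x
    rw [hn', mul_eq_left]
    obtain ⟨k, hk⟩ := hTq (q ^ j)
    exact orderOf_eq_one_iff.1 (Nat.eq_one_of_dvd_coprimes (hv.pow_right k) (orderOf_dvd_of_pow_eq_one h2)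
      (orderOf_dvd_of_pow_eq_one hk))
  exact fun x => (hπ _ _).1 (heq x).symm

/-- Restriction of good automorphisms, at a fully centralized position. -/
theorem restr_good_aux [Finite S] [Fact p.Prime] (hS : IsPGroup p S) (hGs : G.IsSaturated p)
    (hG : G.IsInvariantIn F) (hU : F.StronglyClosed U) {hUG : G.StronglyClosed U}
    (A : ∀ M : Subgroup Ω, Subgroup (MulAut M))
    (hAcongr : ∀ {M M' : Subgroup Ω} {e : M ≃* M'}, IsoIn F e → ∀ a ∈ A M, MulAut.congr e a ∈ A M')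
    (hAgood : ∀ M : Subgroup Ω, M ≤ U → A M ≤ goodIn F G hUG M)
    (hAcent : ∀ Q M : Subgroup Ω, UCentric F U Q → Q ≤ M → M ≤ U → M ≤ Subgroup.normalizer (Q : Set Ω) →
      ∀ c ∈ centralizerIn T Q, ∀ hn : c ∈ Subgroup.normalizer (M : Set Ω), conjAut M hn ∈ A M →
        ∃ z ∈ Q, ∀ x ∈ M, z⁻¹ * c * x = x * (z⁻¹ * c))
    {Q M : Subgroup Ω} (hQ : UCentric F U Q) (hfc : G.IsFullyCentralized Q) (hQM : Q ≤ M) (hMU : M ≤ U)
    (hn : M ≤ Subgroup.normalizer (Q : Set Ω)) {e : MulAut M} (he : e ∈ A M) (hcop : (orderOf e).Coprime p)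
    {b : MulAut Q} (hb : ∀ x : Q, (b x : Ω) = (e (Subgroup.inclusion hQM x) : Ω)) :
    b ∈ goodIn F G hUG Q := by
  classical
  have hTS := hG.2.1.1
  haveI := finite_of_le hTS
  have hT : IsPGroup p T := hS.to_le hTS
  have hMT : M ≤ T := hMU.trans hUG.1
  have hQT : Q ≤ T := hQM.trans hMT
  have hMS : M ≤ S := hMT.trans hTS
  haveI := finite_of_le hMT
  haveI : Finite (MulAut M) := Finite.of_injective (fun f => (f : M → M)) DFunLike.coe_injective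
  have hAG : A M ≤ G.autGroup M := (hAgood M hMU).trans (goodIn_le_autGroup hG hMT)
  have heG := (mem_autGroup hMT).1 (hAG he)
  have hbG : Q.subtype.comp b.toMonoidHom ∈ G.Hom Q :=
    hom_congr (restrict_mem heG hQM) fun x => hb x
  have hbr : (Q.subtype.comp b.toMonoidHom).range = Q := by
    ext y
    exact ⟨fun ⟨x, hx⟩ => hx ▸ (b x).2, fun hy => ⟨b⁻¹ ⟨y, hy⟩, by simp⟩⟩
  set C := centralizerIn T Q with hC
  have hCT : C ≤ T := centralizerIn_le Q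
  have hCM : C ≤ Subgroup.normalizer (M : Set Ω) := by
    intro c hc
    refine Subgroup.mem_normalizer_fintype (S := (M : Set Ω)) fun x hx => ?_
    have hxc : x⁻¹ * c * x ∈ C := by
      refine mem_centralizerIn.2 ⟨T.mul_mem (T.mul_mem (T.inv_mem (hMT hx)) (hCT hc)) (hMT hx), fun y hy => ?_⟩
      have h1 := (mem_centralizerIn.1 hc).2 _ ((Subgroup.mem_normalizer_iff.1 (hn hx) y).1 hy)
      calc x⁻¹ * c * x * y = x⁻¹ * (c * (x * y * x⁻¹)) * x := by group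
        _ = x⁻¹ * (x * y * x⁻¹ * c) * x := by rw [h1]
        _ = y * (x⁻¹ * c * x) := by group
    have h1 : x⁻¹ * (c * x * c⁻¹) ∈ Q := hQ.self hU (mem_centralizerIn.2
      ⟨U.mul_mem (U.inv_mem (hMU hx)) (stronglyClosed_conj_mem hUG (hCT hc) (hMU hx)), fun y hy => by
        have h2 := (mem_centralizerIn.1 (C.mul_mem hxc (C.inv_mem hc))).2 y hy
        rwa [show x⁻¹ * c * x * c⁻¹ = x⁻¹ * (c * x * c⁻¹) by group] at h2⟩)
    show c * x * c⁻¹ ∈ M
    have := M.mul_mem hx (hQM h1)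
    rwa [mul_inv_cancel_left] at this
  set V := M ⊔ C with hV
  have hVT : V ≤ T := sup_le hMT hCT
  haveI := finite_of_le hVT
  haveI : Finite (MulAut V) := Finite.of_injective (fun f => (f : V → V)) DFunLike.coe_injective
  obtain ⟨ψ₀, hψ₀, hψ₀e⟩ := (isReceptive_of_fc hT hGs hfc).2 Q _ hbG hbr
  have hle : V ≤ extender T Q (Q.subtype.comp b.toMonoidHom) := by
    refine sup_le (fun g hg => ?_) (centralizerIn_le_extender _)
    refine mem_extender_of (hMT hg) (hn hg) (hMT (e ⟨g, hg⟩).2) fun x hx => ?_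
    show (b ⟨g * x * g⁻¹, hx⟩ : Ω) = _ * (b x : Ω) * _
    rw [hb, hb, ← Subgroup.coe_inv, ← Subgroup.coe_mul, ← Subgroup.coe_mul, ← map_inv, ← map_mul, ← map_mul]
    exact congrArg (fun z : M => (e z : Ω)) (Subtype.ext rfl)
  have hQV : Q ≤ V := hQM.trans le_sup_left
  have hψ : ψ₀.comp (Subgroup.inclusion hle) ∈ G.Hom V := restrict_mem hψ₀ hle
  set ψ := ψ₀.comp (Subgroup.inclusion hle) with hψdef
  have hψQ : ∀ x : Q, ψ (Subgroup.inclusion hQV x) = (b x : Ω) := fun x => hψ₀e x x.2 _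
  have hψM : ∀ x : M, ψ (Subgroup.inclusion le_sup_left x) ∈ M := by
    intro x
    set y := ψ (Subgroup.inclusion le_sup_left x)
    have h1 : ((e x : M) : Ω)⁻¹ * y ∈ Q := by
      refine hQ.self hU (mem_centralizerIn.2 ⟨U.mul_mem (U.inv_mem (hMU (e x).2))
        (stronglyClosed_apply_mem hUG hψ (hMU x.2)), fun q hq => ?_⟩)
      obtain ⟨r, hr⟩ := b.surjective ⟨q, hq⟩
      have hxr : (x : Ω) * r * (x : Ω)⁻¹ ∈ Q := (Subgroup.mem_normalizer_iff.1 (hn x.2) r).1 r.2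
      have h2 : y * q * y⁻¹ = (e x : Ω) * q * (e x : Ω)⁻¹ := by
        rw [show q = ψ (Subgroup.inclusion hQV r) by rw [hψQ, hr], ← map_inv, ← map_mul, ← map_mul]
        refine ((congrArg ψ (Subtype.ext rfl)).trans (hψQ ⟨_, hxr⟩)).trans ?_
        rw [hb, hψQ, hb]
        conv_rhs => rw [← Subgroup.coe_inv, ← Subgroup.coe_mul, ← Subgroup.coe_mul, ← map_inv, ← map_mul, ← map_mul]
        exact congrArg (fun z : M => (e z : Ω)) (Subtype.ext rfl)
      calc (e x : Ω)⁻¹ * y * q = (e x : Ω)⁻¹ * (y * q * y⁻¹) * y := by group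
        _ = q * ((e x : Ω)⁻¹ * y) := by rw [h2]; group
    have := M.mul_mem (e x).2 (hQM h1)
    rwa [mul_inv_cancel_left] at this
  have hψC : ∀ x : V, (x : Ω) ∈ C → ψ x ∈ C := fun x hx => by
    refine mem_centralizerIn.2 ⟨hom_mem hψ x, fun q hq => ?_⟩
    obtain ⟨r, hr⟩ := b.surjective ⟨q, hq⟩
    rw [show q = ψ (Subgroup.inclusion hQV r) by rw [hψQ, hr], ← map_mul, ← map_mul]
    exact congrArg ψ (Subtype.ext ((mem_centralizerIn.1 hx).2 r r.2))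
  have hψv : ∀ x, ψ x ∈ V := hom_mem_of_sup (fun x hx => Subgroup.mem_sup_left (hψM ⟨(x : Ω), hx⟩))
    fun x hx => Subgroup.mem_sup_right (hψC x hx)
  obtain ⟨β, hβ, hβe⟩ := exists_aut_of_hom hψ hψv
  obtain ⟨θ, hθ, hθe⟩ := exists_aut_restrict hVT hβ (le_sup_left : M ≤ V) fun x => (hβe _).symm ▸ hψM x
  obtain ⟨j, v, hj, hv, hβv⟩ := exists_pPrime_pow (p := p) (e := e) β (isOfFinOrder_of_finite β) hcop
  set e' := θ ^ j with he'
  have he'v : e' ^ v = 1 := by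
    rw [he', ← pow_mul]
    exact aut_pow_eq_one le_sup_left hθe (by rw [pow_mul]; exact hβv)
  have he'cop : (orderOf e').Coprime p := Nat.Coprime.coprime_dvd_left (orderOf_dvd_of_pow_eq_one he'v) hv
  have he'Q : ∀ x : Q, e' (Subgroup.inclusion hQM x) = e (Subgroup.inclusion hQM x) := by
    intro x
    have h1 : ∀ (n : ℕ) (x : Q), (θ ^ n) (Subgroup.inclusion hQM x) = Subgroup.inclusion hQM ((b ^ n) x) ∧
        (e ^ n) (Subgroup.inclusion hQM x) = Subgroup.inclusion hQM ((b ^ n) x) := by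
      intro n
      induction n with
      | zero => exact fun x => ⟨rfl, rfl⟩
      | succ n ih =>
        intro x
        rw [pow_succ, pow_succ, pow_succ, MulAut.mul_apply, MulAut.mul_apply, MulAut.mul_apply,
          show θ (Subgroup.inclusion hQM x) = Subgroup.inclusion hQM (b x) from
            Subtype.ext ((hθe _).trans ((hβe _).trans (hψQ x))),
          show e (Subgroup.inclusion hQM x) = Subgroup.inclusion hQM (b x) from Subtype.ext (hb x).symm]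
        exact ih (b x)
    rw [he', (h1 j x).1, ← (h1 j x).2, hj]
  obtain ⟨k, hk⟩ := isPElement_of_fix hS hU.1 hQM hMU hn (hQ.self hU) (d := e⁻¹ * e') fun x hx => by
    rw [MulAut.mul_apply, show x = Subgroup.inclusion hQM ⟨(x : Ω), hx⟩ from rfl, he'Q, MulAut.inv_apply_self]
  have he'F : e' ∈ F.autGroup M :=
    (mem_autGroup hMS).2 (hG.1 _ ((mem_autGroup hMT).1 (pow_mem hθ j)))
  haveI : ((A M).subgroupOf (F.autGroup M)).Normal := ⟨fun a ha g => hAcongr ((mem_autGroup hMS).1 g.2) _ ha⟩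
  have heF : e ∈ F.autGroup M := (mem_autGroup hMS).2 (hG.1 _ heG)
  have he'A : e' ∈ A M :=
    mem_of_coprime_mod (N := (A M).subgroupOf (F.autGroup M)) (a := ⟨e, heF⟩) (b := ⟨e', he'F⟩)
      (d := ⟨e⁻¹ * e', mul_mem (inv_mem heF) he'F⟩) he (by rwa [Subgroup.orderOf_mk]) (Subtype.ext hk)
      (Subtype.ext (mul_inv_cancel_left e e').symm)
  -- the automorphism moves the conjugations by `C` inside those of `Q`
  have hstep : ∀ c ∈ C, ∃ z ∈ Q, ∀ (y : M) (hy : c * (y : Ω) * c⁻¹ ∈ M),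
      (e' ⟨_, hy⟩ : Ω) = z * c * (e' y : Ω) * (z * c)⁻¹ := by
    intro c hc
    set cV : V := ⟨c, Subgroup.mem_sup_right hc⟩
    set d : V := (β ^ j) cV with hd
    have hdC : (d : Ω) ∈ C := by
      have : ∀ n : ℕ, (((β ^ n) cV : V) : Ω) ∈ C := by
        intro n
        induction n with
        | zero => exact hc
        | succ n ih => rw [pow_succ', MulAut.mul_apply, hβe]; exact hψC _ ih
      exact this j
    have hconj : ∀ (y : M) (hy : c * (y : Ω) * c⁻¹ ∈ M),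
        (e' ⟨_, hy⟩ : Ω) = (d : Ω) * (e' y : Ω) * (d : Ω)⁻¹ := by
      intro y hy
      rw [he', aut_pow_agree le_sup_left hθe, aut_pow_agree le_sup_left hθe, hd, ← Subgroup.coe_inv,
        ← Subgroup.coe_mul, ← Subgroup.coe_mul, ← map_inv, ← map_mul, ← map_mul]
      exact congrArg (fun z : V => (((β ^ j) z : V) : Ω)) (Subtype.ext rfl)
    have hc' : (d : Ω) * c⁻¹ ∈ C := C.mul_mem hdC (C.inv_mem hc)
    have hcA : conjAut M (hCM hc') ∈ A M := by
      have hcF : conjAut M (hCM hc) ∈ F.autGroup M :=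
        autInducedBy_le_autGroup hMS (conjAut_mem_autInducedBy _ (hTS (hCT hc)))
      have h1 : e' * (conjAut M (hCM hc) * e'⁻¹ * (conjAut M (hCM hc))⁻¹) ∈ A M :=
        mul_mem he'A (hAcongr ((mem_autGroup hMS).1 hcF) _ (inv_mem he'A))
      rwa [show conjAut M (hCM hc') = e' * (conjAut M (hCM hc) * e'⁻¹ * (conjAut M (hCM hc))⁻¹) from
        MulEquiv.ext fun w => Subtype.ext (by
          set w₁ := (conjAut M (hCM hc))⁻¹ w with hw₁
          rw [MulAut.mul_apply, MulAut.mul_apply, MulAut.mul_apply, ← hw₁, coe_conjAut]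
          have hy := (Subgroup.mem_normalizer_iff.1 (hCM hc) _).1 (e'⁻¹ w₁).2
          rw [show conjAut M (hCM hc) (e'⁻¹ w₁) = ⟨_, hy⟩ from Subtype.ext rfl, hconj, MulAut.apply_inv_self,
            show (w : Ω) = c * (w₁ : Ω) * c⁻¹ by rw [← coe_conjAut M (hCM hc), hw₁, MulAut.apply_inv_self]]
          group)]
    obtain ⟨z, hz, hzx⟩ := hAcent Q M hQ hQM hMU hn _ hc' (hCM hc') hcA
    refine ⟨z, hz, fun y hy => ?_⟩
    rw [hconj y hy]
    have h1 := hzx _ ((Subgroup.mem_normalizer_iff.1 (hCM hc) _).1 (e' y).2)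
    calc (d : Ω) * (e' y : Ω) * (d : Ω)⁻¹
        = z * (z⁻¹ * ((d : Ω) * c⁻¹) * (c * (e' y : Ω) * c⁻¹)) * ((d : Ω) * c⁻¹)⁻¹ := by group
      _ = z * (c * (e' y : Ω) * c⁻¹ * (z⁻¹ * ((d : Ω) * c⁻¹))) * ((d : Ω) * c⁻¹)⁻¹ := by rw [h1]
      _ = z * c * (e' y : Ω) * (z * c)⁻¹ := by group
  -- move `M`
  obtain ⟨μ, hμ, hμv, hM₂, hW₂⟩ := exists_fn_pos hT hGs hMT
  have hMN : M ≤ normalizerIn T M := le_normalizerIn hMT
  have hCN : C ≤ normalizerIn T M := fun c hc => ⟨hCT hc, hCM hc⟩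
  have hQN : Q ≤ normalizerIn T M := hQM.trans hMN
  set M₂ := img μ hMN with hM₂def
  have hr₂ := restrict_mem hμ hMN
  set g := homIso hr₂ (rfl : _ = M₂) with hgdef
  have hgG : IsoIn G g := isoIn_homIso hr₂ rfl
  have hgF : IsoIn F g := isoIn_of_subsystem hG.1 hgG
  have hM₂fc := (isFullyAutomized_and_fc_of_fn hT hGs hM₂).1
  have hM₂U : M₂ ≤ U := by
    rintro _ ⟨x, rfl⟩
    exact stronglyClosed_apply_mem hUG hμ (x := Subgroup.inclusion hMN x) (hMU x.2)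
  have hM₂c : UCentric F U M₂ := (hQ.mono hQM hMU).of_conj hU (isConj_iff.2 ⟨g, hgF⟩)
  set e₂ := MulAut.congr g e' with he₂
  have he₂good : e₂ ∈ goodAut hUG M₂ hM₂fc.1 := by
    have h := hAgood M₂ hM₂U (hAcongr hgF _ he'A)
    rwa [goodIn_eq hS hGs hG hU hM₂fc] at h
  obtain ⟨ψ₂, hψ₂, m, hm, hψ₂m, -, hψ₂e⟩ := exists_goodExt_pPrime he₂good
    (by rw [he₂, MulEquiv.orderOf_eq]; exact he'cop)
  set X := img μ hCN with hX
  have hXT : X ≤ T := range_le (restrict_mem hμ hCN)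
  obtain ⟨β₂, hβ₂, v₂, -, -, hβ₂W, hβ₂U⟩ := exists_ext_mod hT hGs hUG hM₂U (hM₂c.self hU) hW₂ hψ₂ hm hψ₂m hXT
    (by rintro _ ⟨x, rfl⟩; exact mem_normalizer_img μ hMN (hCM x.2)) (by
    rintro _ ⟨c, rfl⟩
    obtain ⟨z, hz, hzc⟩ := hstep c c.2
    refine ⟨μ (Subgroup.inclusion hMN ⟨z, hQM hz⟩ * Subgroup.inclusion hCN c), ?_, ?_, ?_⟩
    · rw [map_mul]
      exact mul_mem (Subgroup.mem_sup_left (Subgroup.mem_sup_left ⟨_, rfl⟩)) (Subgroup.mem_sup_right ⟨_, rfl⟩)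
    · have hμz : μ (Subgroup.inclusion hMN ⟨z, hQM hz⟩) ∈ U := hM₂U ⟨_, rfl⟩
      have hμc := T.inv_mem (hom_mem hμ (Subgroup.inclusion hCN c))
      have := stronglyClosed_conj_mem hUG hμc hμz
      rw [map_mul]
      show (μ (Subgroup.inclusion hCN c))⁻¹ * _ ∈ U
      rwa [inv_inv, mul_assoc] at this
    · intro x hx hy
      obtain ⟨y, hyx⟩ : ∃ y : M, g y = ⟨(x : Ω), hx⟩ := g.surjective _
      have hyM : (c : Ω) * y * (c : Ω)⁻¹ ∈ M := (Subgroup.mem_normalizer_iff.1 (hCM c.2) y).1 y.2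
      have hxy : (x : Ω) = μ (Subgroup.inclusion hMN y) := (congrArg Subtype.val hyx).symm
      have hval : ∀ w : M, ∀ hw : μ (Subgroup.inclusion hMN w) ∈ M₂ ⊔ centralizerIn T M₂,
          ((ψ₂ ⟨_, hw⟩ : _) : Ω) = μ (Subgroup.inclusion hMN (e' w)) := by
        intro w hw
        refine (hψ₂e (g w)).trans ?_
        show ((g (e' (g.symm (g w))) : M₂) : Ω) = _
        rw [MulEquiv.symm_apply_apply]
        rfl
      have e1 : μ (Subgroup.inclusion hCN c) * (x : Ω) * (μ (Subgroup.inclusion hCN c))⁻¹ =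
          μ (Subgroup.inclusion hMN ⟨_, hyM⟩) := by
        rw [hxy, ← map_inv, ← map_mul, ← map_mul]
        exact congrArg μ (Subtype.ext rfl)
      refine (congrArg (fun w => ((ψ₂ w : _) : Ω)) (Subtype.ext e1)).trans ((hval ⟨_, hyM⟩ (e1 ▸ hy)).trans ?_)
      rw [show (ψ₂ x : Ω) = μ (Subgroup.inclusion hMN (e' y)) from
        (congrArg (fun w => ((ψ₂ w : _) : Ω)) (Subtype.ext hxy)).trans (hval y (hxy ▸ x.2)),
        ← map_inv, ← map_mul, ← map_mul]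
      exact congrArg μ (Subtype.ext (hzc y hyM)))
  -- back to `Q`
  set V₀ := Q ⊔ C with hV₀
  have hV₀N : V₀ ≤ normalizerIn T M := sup_le hQN hCN
  have hV₀T : V₀ ≤ T := sup_le hQT hCT
  let W₂ := (M₂ ⊔ centralizerIn T M₂) ⊔ X
  have hV₂W : img μ hV₀N ≤ W₂ := by
    rintro _ ⟨x, rfl⟩
    obtain ⟨a, ha, c, hc, hac⟩ := exists_mul_of_mem_sup_centralizer x.2
    rw [show (μ.comp (Subgroup.inclusion hV₀N)) x =
      μ (Subgroup.inclusion hMN ⟨a, hQM ha⟩) * μ (Subgroup.inclusion hCN ⟨c, hc⟩) from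
      (congrArg μ (Subtype.ext hac)).trans (map_mul μ (Subgroup.inclusion hMN ⟨a, hQM ha⟩) _)]
    exact mul_mem (Subgroup.mem_sup_left (Subgroup.mem_sup_left ⟨_, rfl⟩)) (Subgroup.mem_sup_right ⟨_, rfl⟩)
  have hQval : ∀ (q : Q) (hq : μ (Subgroup.inclusion hQN q) ∈ W₂),
      ((β₂ ⟨_, hq⟩ : W₂) : Ω) = μ (Subgroup.inclusion hQN (b q)) := by
    intro q hq
    refine (hβ₂W (Subgroup.inclusion le_sup_left (g (Subgroup.inclusion hQM q)))).trans
      ((hψ₂e (g (Subgroup.inclusion hQM q))).trans ?_)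
    show ((g (e' (g.symm (g (Subgroup.inclusion hQM q)))) : M₂) : Ω) = _
    rw [MulEquiv.symm_apply_apply, he'Q]
    exact congrArg μ (Subtype.ext (hb q).symm)
  have hQ₂c : UCentric F U (img μ hQN) :=
    hQ.of_conj hU ⟨_, hG.1 _ (restrict_mem hμ hQN), rfl⟩
  have hQ₂mem : ∀ q : Q, μ (Subgroup.inclusion hQN q) ∈ W₂ := fun q =>
    hV₂W ⟨⟨(q : Ω), Subgroup.mem_sup_left q.2⟩, rfl⟩
  have hCval : ∀ (c : C) (hc : μ (Subgroup.inclusion hCN c) ∈ W₂),
      (μ (Subgroup.inclusion hCN c))⁻¹ * ((β₂ ⟨_, hc⟩ : W₂) : Ω) ∈ img μ hQN := by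
    intro c hc
    refine hQ₂c.self hU (mem_centralizerIn.2 ⟨hβ₂U ⟨_, hc⟩, ?_⟩)
    rintro _ ⟨q, rfl⟩
    obtain ⟨r, rfl⟩ := b.surjective q
    have h1 : (⟨_, hc⟩ : W₂) * ⟨_, hQ₂mem r⟩ = ⟨_, hQ₂mem r⟩ * ⟨_, hc⟩ := Subtype.ext (by
      show μ _ * μ _ = μ _ * μ _
      rw [← map_mul, ← map_mul]
      exact congrArg μ (Subtype.ext ((mem_centralizerIn.1 c.2).2 r r.2)))
    have h2 := congrArg (fun w : W₂ => ((β₂ w : W₂) : Ω)) h1
    simp only [map_mul, Subgroup.coe_mul, hQval] at h2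
    set y := ((β₂ ⟨_, hc⟩ : W₂) : Ω)
    set u := μ (Subgroup.inclusion hCN c) with hu
    have h3 : u * μ (Subgroup.inclusion hQN (b r)) = μ (Subgroup.inclusion hQN (b r)) * u := by
      rw [hu, ← map_mul, ← map_mul]
      exact congrArg μ (Subtype.ext ((mem_centralizerIn.1 c.2).2 _ (b r).2))
    set q' := μ (Subgroup.inclusion hQN (b r)) with hq'
    show u⁻¹ * y * q' = q' * (u⁻¹ * y)
    calc u⁻¹ * y * q' = u⁻¹ * (q' * y) := by rw [← h2, mul_assoc]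
      _ = u⁻¹ * (q' * u) * (u⁻¹ * y) := by group
      _ = q' * (u⁻¹ * y) := by rw [← h3]; group
  have hV₂v : ∀ x : img μ hV₀N, ((β₂ (Subgroup.inclusion hV₂W x) : W₂) : Ω) ∈ img μ hV₀N := by
    rintro ⟨_, x, rfl⟩
    obtain ⟨a, ha, c, hc, hac⟩ := exists_mul_of_mem_sup_centralizer x.2
    have hcW : μ (Subgroup.inclusion hCN ⟨c, hc⟩) ∈ W₂ := hV₂W ⟨⟨c, Subgroup.mem_sup_right hc⟩, rfl⟩
    rw [show Subgroup.inclusion hV₂W ⟨_, x, rfl⟩ = (⟨_, hQ₂mem ⟨a, ha⟩⟩ : W₂) * ⟨_, hcW⟩ from Subtype.ext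
      ((congrArg μ (Subtype.ext hac)).trans (map_mul μ (Subgroup.inclusion hQN ⟨a, ha⟩) _)),
      map_mul, Subgroup.coe_mul, hQval]
    refine mul_mem ⟨⟨_, Subgroup.mem_sup_left (b ⟨a, ha⟩).2⟩, rfl⟩ ?_
    obtain ⟨q, hq⟩ := hCval ⟨c, hc⟩ hcW
    rw [show ((β₂ ⟨_, hcW⟩ : W₂) : Ω) = μ (Subgroup.inclusion hCN ⟨c, hc⟩) *
      μ (Subgroup.inclusion hQN q) from by
        rw [show μ (Subgroup.inclusion hQN q) = _ from hq, mul_inv_cancel_left]]
    exact mul_mem ⟨⟨c, Subgroup.mem_sup_right hc⟩, rfl⟩ ⟨⟨_, Subgroup.mem_sup_left q.2⟩, rfl⟩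
  have hW₂T : W₂ ≤ T := sup_le (sup_le hM₂fc.1 (centralizerIn_le M₂)) hXT
  obtain ⟨θ₂, hθ₂, hθ₂e⟩ := exists_aut_restrict hW₂T hβ₂ hV₂W hV₂v
  set gV := homIso (restrict_mem hμ hV₀N) (rfl : _ = img μ hV₀N) with hgV
  have hgVG : IsoIn G gV := isoIn_homIso _ rfl
  set θ₀ := MulAut.congr gV.symm θ₂ with hθ₀
  have hval : ∀ x, gV (θ₀ x) = θ₂ (gV x) := fun x => gV.apply_symm_apply (θ₂ (gV x))
  have hθQ : ∀ q : Q, θ₀ (Subgroup.inclusion le_sup_left q) = Subgroup.inclusion le_sup_left (b q) := fun q => by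
    refine gV.injective (Subtype.ext ?_)
    rw [hval, hθ₂e]
    exact hQval q _
  rw [goodIn_eq hS hGs hG hU hfc]
  refine ⟨θ₀, ⟨⟨congr_mem_autGroup hgVG.symm hθ₂, fun x => ⟨fun hx => ?_, fun hx => ?_⟩⟩, fun x hx => ?_⟩,
    fun q => congrArg Subtype.val (hθQ q)⟩
  · rw [show x = Subgroup.inclusion le_sup_left ⟨(x : Ω), hx⟩ from rfl, hθQ]
    exact (b _).2
  · have h := hθQ (b⁻¹ ⟨_, hx⟩)
    rw [MulAut.apply_inv_self] at h
    rw [← θ₀.injective (h.trans (Subtype.ext rfl) : θ₀ _ = θ₀ x)]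
    exact (b⁻¹ _).2
  · have h1 := hβ₂U (Subgroup.inclusion hV₂W (gV x))
    rw [← hθ₂e, ← hval] at h1
    have h2 : ((gV (x⁻¹ * θ₀ x) : img μ hV₀N) : Ω) ∈ U := by
      rw [map_mul, map_inv]; exact h1
    have h3 := stronglyClosed_apply_mem hUG hgVG.symm h2
    change ((gV.symm (gV (x⁻¹ * θ₀ x)) : V₀) : Ω) ∈ U at h3
    rwa [MulEquiv.symm_apply_apply] at h3

/-- Good automorphisms of order prime to `p` restrict to stable self-centralizing subgroups. -/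
theorem restr_good [Finite S] [Fact p.Prime] (hS : IsPGroup p S) (hGs : G.IsSaturated p)
    (hG : G.IsInvariantIn F) (hU : F.StronglyClosed U) {hUG : G.StronglyClosed U}
    (A : ∀ M : Subgroup Ω, Subgroup (MulAut M))
    (hAcongr : ∀ {M M' : Subgroup Ω} {e : M ≃* M'}, IsoIn F e → ∀ a ∈ A M, MulAut.congr e a ∈ A M')
    (hAgood : ∀ M : Subgroup Ω, M ≤ U → A M ≤ goodIn F G hUG M)
    (hAcent : ∀ Q M : Subgroup Ω, UCentric F U Q → Q ≤ M → M ≤ U → M ≤ Subgroup.normalizer (Q : Set Ω) →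
      ∀ c ∈ centralizerIn T Q, ∀ hn : c ∈ Subgroup.normalizer (M : Set Ω), conjAut M hn ∈ A M →
        ∃ z ∈ Q, ∀ x ∈ M, z⁻¹ * c * x = x * (z⁻¹ * c))
    {Q M : Subgroup Ω} (hQ : UCentric F U Q) (hQM : Q ≤ M) (hMU : M ≤ U)
    (hn : M ≤ Subgroup.normalizer (Q : Set Ω)) {e : MulAut M} (he : e ∈ A M) (hcop : (orderOf e).Coprime p)
    {b : MulAut Q} (hb : ∀ x : Q, (b x : Ω) = (e (Subgroup.inclusion hQM x) : Ω)) :
    b ∈ goodIn F G hUG Q := by
  have hTS := hG.2.1.1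
  haveI := finite_of_le hTS
  have hQT : Q ≤ T := (hQM.trans hMU).trans hUG.1
  obtain ⟨μ, hμ, hμv, hQ₁, -⟩ := exists_fn_pos (hS.to_le hTS) hGs hQT
  have hMN : M ≤ normalizerIn T Q := fun x hx => ⟨hUG.1 (hMU hx), hn hx⟩
  have hQN : Q ≤ normalizerIn T Q := le_normalizerIn hQT
  set Q₁ := img μ hQN
  set M₁ := img μ hMN with hM₁
  set gQ := homIso (restrict_mem hμ hQN) (rfl : _ = Q₁) with hgQ
  set gM := homIso (restrict_mem hμ hMN) (rfl : _ = M₁) with hgM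
  have hgQF : IsoIn F gQ := isoIn_of_subsystem hG.1 (isoIn_homIso _ rfl)
  have hgMF : IsoIn F gM := isoIn_of_subsystem hG.1 (isoIn_homIso _ rfl)
  have hQM₁ : Q₁ ≤ M₁ := by
    rintro _ ⟨x, rfl⟩
    exact ⟨⟨(x : Ω), hQM x.2⟩, rfl⟩
  have hM₁U : M₁ ≤ U := by
    rintro _ ⟨x, rfl⟩
    exact stronglyClosed_apply_mem hUG hμ (x := Subgroup.inclusion hMN x) (hMU x.2)
  have h := restr_good_aux hS hGs hG hU A (fun he => hAcongr he) hAgood hAcent
    (hQ.of_conj hU (isConj_iff.2 ⟨gQ, hgQF⟩)) (isFullyAutomized_and_fc_of_fn (hS.to_le hTS) hGs hQ₁).1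
    hQM₁ hM₁U (by rintro _ ⟨x, rfl⟩; exact (hμv (Subgroup.inclusion hMN x)).2) (hAcongr hgMF _ he)
    (by rw [MulEquiv.orderOf_eq]; exact hcop) (b := MulAut.congr gQ b) fun y => by
      obtain ⟨x, rfl⟩ := gQ.surjective y
      rw [show Subgroup.inclusion hQM₁ (gQ x) = gM (Subgroup.inclusion hQM x) from Subtype.ext rfl]
      show ((gQ (b (gQ.symm (gQ x))) : Q₁) : Ω) = ((gM (e (gM.symm (gM (Subgroup.inclusion hQM x)))) : M₁) : Ω)
      rw [MulEquiv.symm_apply_apply, MulEquiv.symm_apply_apply]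
      exact congrArg μ (Subtype.ext (hb x))
  have h2 := congr_mem_goodIn hgQF.symm h
  convert h2 using 1
  exact MulEquiv.ext fun x => by simp [MulAut.congr]

/-- Good automorphisms of order prime to `p` extend to the groups whose conjugations they normalize. -/
theorem exists_good_ext [Finite S] [Fact p.Prime] (hS : IsPGroup p S) (hGs : G.IsSaturated p)
    (hG : G.IsInvariantIn F) (hU : F.StronglyClosed U) {hUG : G.StronglyClosed U}
    {Q M : Subgroup Ω} (hQ : UCentric F U Q) (hQM : Q ≤ M) (hMU : M ≤ U)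
    (hn : M ≤ Subgroup.normalizer (Q : Set Ω)) {b : MulAut Q} (hb : b ∈ goodIn F G hUG Q)
    (hcop : (orderOf b).Coprime p)
    (hM : ∀ m ∈ M, ∃ m' ∈ M, ∀ (x : Q) (hx : m * (x : Ω) * m⁻¹ ∈ Q),
      (b ⟨_, hx⟩ : Ω) = m' * (b x : Ω) * m'⁻¹) :
    ∃ e ∈ goodIn F G hUG M, (orderOf e).Coprime p ∧
      ∀ x : Q, (e (Subgroup.inclusion hQM x) : Ω) = (b x : Ω) := by
  have hTS := hG.2.1.1
  haveI := finite_of_le hTS
  have hT : IsPGroup p T := hS.to_le hTS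
  have hMT : M ≤ T := hMU.trans hUG.1
  obtain ⟨f, hf, hfv, hM', -⟩ := exists_fn_pos hT hGs hMT
  have hMN : M ≤ normalizerIn T M := le_normalizerIn hMT
  have hQN : Q ≤ normalizerIn T M := hQM.trans hMN
  set M' := img f hMN with hM'def
  set Q' := img f hQN with hQ'def
  have hQ'M' : Q' ≤ M' := by
    rintro _ ⟨x, rfl⟩
    exact ⟨⟨(x : Ω), hQM x.2⟩, rfl⟩
  have hM'T : M' ≤ T := hM'.1
  have hQ'T : Q' ≤ T := hQ'M'.trans hM'T
  obtain ⟨μ, hμ, hμv, hQ₁, hW⟩ := exists_fn_pos hT hGs hQ'T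
  have hM'N : M' ≤ normalizerIn T Q' := by
    rintro _ ⟨x, rfl⟩
    exact ⟨hom_mem hf _, mem_normalizer_img f hQN (g := Subgroup.inclusion hMN x) (hn x.2)⟩
  have hC'N : centralizerIn T M' ≤ normalizerIn T Q' := fun c hc => by
    refine ⟨centralizerIn_le M' hc, Subgroup.mem_normalizer_iff.2 fun n => ⟨fun h => ?_, fun h => ?_⟩⟩
    · rwa [conj_eq_of_commute ((mem_centralizerIn.1 hc).2 n (hQ'M' h))]
    · have h1 := conj_eq_of_commute ((mem_centralizerIn.1 (inv_mem hc)).2 _ (hQ'M' h))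
      rw [show c⁻¹ * (c * n * c⁻¹) * c⁻¹⁻¹ = n by group] at h1
      rwa [h1]
  have hQ'N : Q' ≤ normalizerIn T Q' := le_normalizerIn hQ'T
  set M₁ := img μ hM'N with hM₁def
  set Q₁ := img μ hQ'N with hQ₁def
  have hgf := restrict_mem hf hMN
  have hv : ∀ x, (f.comp (Subgroup.inclusion hMN)) x ∈ normalizerIn T Q' := fun x => hM'N ⟨x, rfl⟩
  have hcomp := G.comp_mem hgf hμ hv
  set φ := μ.comp ((f.comp (Subgroup.inclusion hMN)).codRestrict _ hv) with hφ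
  have hφr : φ.range = M₁ := by
    ext y
    exact ⟨fun ⟨x, hx⟩ => ⟨⟨_, x, rfl⟩, hx⟩, fun ⟨⟨_, x, rfl⟩, hx⟩ => ⟨x, hx⟩⟩
  set g := homIso hcomp hφr with hgdef
  have hgF : IsoIn F g := isoIn_of_subsystem hG.1 (isoIn_homIso _ _)
  have hφQr : (φ.comp (Subgroup.inclusion hQM)).range = Q₁ := by
    ext y
    constructor
    · rintro ⟨x, hx⟩
      exact ⟨⟨_, x, rfl⟩, hx⟩
    · rintro ⟨⟨_, x, rfl⟩, hx⟩
      exact ⟨x, hx⟩
  set gQ := homIso (restrict_mem hcomp hQM) hφQr with hgQ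
  have hgQF : IsoIn F gQ := isoIn_of_subsystem hG.1 (isoIn_homIso _ _)
  have hQ₁M₁ : Q₁ ≤ M₁ := by
    rw [← hφQr, ← hφr]
    rintro _ ⟨x, rfl⟩
    exact ⟨_, rfl⟩
  have hM₁U : M₁ ≤ U := by
    rw [← hφr]
    rintro _ ⟨x, rfl⟩
    exact stronglyClosed_apply_mem hUG hcomp (hMU x.2)
  have hM₁T : M₁ ≤ T := hM₁U.trans hUG.1
  have hQ₁c : UCentric F U Q₁ := hQ.of_conj hU (isConj_iff.2 ⟨gQ, hgQF⟩)
  have hM₁fc : G.IsFullyCentralized M₁ := by
    refine ⟨hM₁T, fun R hR => ?_⟩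
    have hconj : G.IsConj M' M₁ := ⟨_, restrict_mem hμ hM'N, rfl⟩
    refine ((isFullyAutomized_and_fc_of_fn hT hGs hM').1.2 R (isConj_trans hconj hR)).trans ?_
    haveI := finite_of_le (centralizerIn_le (S := T) M₁)
    exact Nat.card_le_card_of_injective (fun c : centralizerIn T M' =>
      (⟨μ (Subgroup.inclusion hC'N c), mem_centralizerIn_img hμ hM'N (c := Subgroup.inclusion hC'N c)
        (mem_centralizerIn.1 c.2).2⟩ : centralizerIn T M₁)) fun a b hab =>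
      Subgroup.inclusion_injective hC'N (G.injective_of_mem hμ (congrArg Subtype.val hab))
  have hQ₁fc := (isFullyAutomized_and_fc_of_fn hT hGs hQ₁).1
  set b₁ := MulAut.congr gQ b with hb₁
  have hb₁good : b₁ ∈ goodAut hUG Q₁ hQ₁fc.1 := mem_goodIn.1 hb Q₁ gQ hgQF hQ₁fc
  obtain ⟨ψ₀, hψ₀, m, hm, hψm, -, hψe⟩ := exists_goodExt_pPrime hb₁good
    (by rw [hb₁, MulEquiv.orderOf_eq]; exact hcop)
  obtain ⟨β, hβ, v, hv', hβv, hβW, hβU⟩ := exists_ext_mod hT hGs hUG (hQ₁M₁.trans hM₁U) (hQ₁c.self hU) hW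
    hψ₀ hm hψm hM₁T (by rintro _ ⟨x, rfl⟩; exact (hμv (Subgroup.inclusion hM'N x)).2) (by
    intro y hy
    obtain ⟨x, hx⟩ := g.surjective ⟨y, hy⟩
    obtain ⟨x', hx', hxx⟩ := hM x x.2
    have hgx : (g x : Ω) = y := congrArg Subtype.val hx
    refine ⟨(g ⟨x', hx'⟩ : Ω), Subgroup.mem_sup_right (g _).2,
      U.mul_mem (U.inv_mem (hM₁U hy)) (hM₁U (g _).2), fun w hw hwy => ?_⟩
    obtain ⟨q, hq⟩ := gQ.surjective ⟨(w : Ω), hw⟩
    have hgq : (gQ q : Ω) = w := congrArg Subtype.val hq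
    have hxq : (x : Ω) * q * (x : Ω)⁻¹ ∈ Q := (Subgroup.mem_normalizer_iff.1 (hn x.2) q).1 q.2
    have hval : ∀ (r : Q) (hr : (gQ r : Ω) ∈ Q₁ ⊔ centralizerIn T Q₁),
        ((ψ₀ ⟨_, hr⟩ : _) : Ω) = (g (Subgroup.inclusion hQM (b r)) : Ω) := by
      intro r hr
      refine (hψe (gQ r)).trans ?_
      show ((gQ (b (gQ.symm (gQ r))) : Q₁) : Ω) = _
      rw [MulEquiv.symm_apply_apply]
      rfl
    have e1 : y * (w : Ω) * y⁻¹ = (gQ ⟨_, hxq⟩ : Ω) := by
      rw [← hgx, ← hgq]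
      show φ x * φ (Subgroup.inclusion hQM q) * (φ x)⁻¹ = φ (Subgroup.inclusion hQM ⟨_, hxq⟩)
      rw [← map_inv, ← map_mul, ← map_mul]
      exact congrArg φ (Subtype.ext rfl)
    refine (congrArg (fun z => ((ψ₀ z : _) : Ω)) (Subtype.ext e1)).trans
      ((hval ⟨_, hxq⟩ (e1 ▸ hwy)).trans ?_)
    rw [show (ψ₀ w : Ω) = (g (Subgroup.inclusion hQM (b q)) : Ω) from
      (congrArg (fun z => ((ψ₀ z : _) : Ω)) (Subtype.ext hgq.symm)).trans (hval q (hgq ▸ w.2))]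
    conv_rhs => rw [← Subgroup.coe_inv, ← Subgroup.coe_mul, ← Subgroup.coe_mul, ← map_inv, ← map_mul, ← map_mul]
    exact congrArg (fun z : M => (g z : Ω)) (Subtype.ext (hxx q hxq)))
  let W := Q₁ ⊔ centralizerIn T Q₁
  let V := W ⊔ M₁
  have hVT : V ≤ T := sup_le (sup_le hQ₁fc.1 (centralizerIn_le Q₁)) hM₁T
  haveI := finite_of_le hVT
  haveI := finite_of_le (centralizerIn_le (S := T) Q₁)
  have hM₁W : M₁ ≤ Subgroup.normalizer (W : Set Ω) := by
    intro y hy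
    obtain ⟨x, rfl⟩ : ∃ x, (g x : Ω) = y := ⟨g.symm ⟨y, hy⟩, by simp⟩
    have hyQ : (g x : Ω) ∈ Subgroup.normalizer (Q₁ : Set Ω) := (hμv _).2
    refine normalizer_inf_le ⟨hyQ, Subgroup.mem_normalizer_fintype (S := (centralizerIn T Q₁ : Set Ω))
      (fun c hc => mem_centralizerIn.2 ⟨T.mul_mem (T.mul_mem (hM₁T (g x).2) (centralizerIn_le Q₁ hc))
        (T.inv_mem (hM₁T (g x).2)), fun z hz => ?_⟩)⟩
    have h1 := (mem_centralizerIn.1 hc).2 _ ((Subgroup.mem_normalizer_iff''.1 hyQ z).1 hz)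
    calc (g x : Ω) * c * (g x : Ω)⁻¹ * z
        = (g x : Ω) * (c * ((g x : Ω)⁻¹ * z * (g x : Ω))) * (g x : Ω)⁻¹ := by group
      _ = (g x : Ω) * ((g x : Ω)⁻¹ * z * (g x : Ω) * c) * (g x : Ω)⁻¹ := by rw [h1]
      _ = z * ((g x : Ω) * c * (g x : Ω)⁻¹) := by group
  have hVU : ∀ x : V, (x : Ω) ∈ U → (x : Ω) ∈ M₁ := by
    intro x hx
    obtain ⟨w, hw, y, hy, he⟩ : ∃ w ∈ W, ∃ y ∈ M₁, (x : Ω) = w * y := by
      have h : (x : Ω) ∈ ((W ⊔ M₁ : Subgroup Ω) : Set Ω) := x.2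
      rw [Subgroup.coe_mul_of_right_le_normalizer_left _ _ hM₁W] at h
      obtain ⟨w, hw, y, hy, he⟩ := Set.mem_mul.1 h
      exact ⟨w, hw, y, hy, he.symm⟩
    obtain ⟨a, ha, c, hc, hac⟩ := exists_mul_of_mem_sup_centralizer (S := T) hw
    have hwU : w ∈ U := by
      have := U.mul_mem hx (U.inv_mem (hM₁U hy))
      rwa [he, mul_inv_cancel_right] at this
    have hcU : c ∈ U := by
      have := U.mul_mem (U.inv_mem (hM₁U (hQ₁M₁ ha))) hwU
      rwa [hac, inv_mul_cancel_left] at this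
    rw [he, hac]
    exact M₁.mul_mem (M₁.mul_mem (hQ₁M₁ ha)
      (hQ₁M₁ (hQ₁c.self hU (mem_centralizerIn.2 ⟨hcU, (mem_centralizerIn.1 hc).2⟩)))) hy
  have hβM : ∀ x : M₁, ((β (Subgroup.inclusion le_sup_right x) : V) : Ω) ∈ M₁ := fun x =>
    hVU _ (stronglyClosed_aut_mem hUG hβ hVT (hM₁U x.2))
  obtain ⟨e₁, he₁, he₁e⟩ := exists_aut_restrict hVT hβ (le_sup_right : M₁ ≤ V) hβM
  set W₁ := M₁ ⊔ centralizerIn T M₁
  have hC₁ : centralizerIn T M₁ ≤ centralizerIn T Q₁ :=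
    le_inf inf_le_left (inf_le_right.trans (Subgroup.centralizer_le hQ₁M₁))
  have hW₁V : W₁ ≤ V := sup_le le_sup_right (hC₁.trans (le_sup_right.trans le_sup_left))
  have hW₁v : ∀ x : W₁, ((β (Subgroup.inclusion hW₁V x) : V) : Ω) ∈ W₁ := by
    refine hom_mem_of_sup (f := (V.subtype.comp β.toMonoidHom).comp (Subgroup.inclusion hW₁V))
      (fun x hx => Subgroup.mem_sup_left (hβM ⟨(x : Ω), hx⟩)) fun x hx => Subgroup.mem_sup_right ?_
    refine mem_centralizerIn.2 ⟨hVT (β _).2, fun z hz => ?_⟩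
    obtain ⟨z₀, hz₀⟩ := e₁.surjective ⟨z, hz⟩
    rw [show z = ((β (Subgroup.inclusion le_sup_right z₀) : V) : Ω) by rw [← he₁e, hz₀]]
    show ((β (Subgroup.inclusion hW₁V x) : V) : Ω) * _ = _ * ((β (Subgroup.inclusion hW₁V x) : V) : Ω)
    rw [← Subgroup.coe_mul, ← Subgroup.coe_mul, ← map_mul, ← map_mul]
    exact congrArg (fun w : V => (β w : Ω)) (Subtype.ext ((mem_centralizerIn.1 hx).2 _ z₀.2))
  obtain ⟨θ, hθ, hθe⟩ := exists_aut_restrict hVT hβ hW₁V hW₁v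
  have hθM : ∀ x : M₁, θ (Subgroup.inclusion le_sup_left x) = Subgroup.inclusion le_sup_left (e₁ x) := fun x =>
    Subtype.ext ((hθe _).trans (he₁e x).symm)
  have he₁good : e₁ ∈ goodIn F G hUG M₁ := by
    rw [goodIn_eq hS hGs hG hU hM₁fc]
    refine ⟨θ, ⟨⟨hθ, fun x => ⟨fun hx => ?_, fun hx => ?_⟩⟩, fun x _ => ?_⟩,
      fun x => congrArg Subtype.val (hθM x)⟩
    · rw [show x = Subgroup.inclusion le_sup_left ⟨(x : Ω), hx⟩ from rfl, hθM]
      exact (e₁ _).2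
    · have h := hθM (e₁⁻¹ ⟨_, hx⟩)
      rw [MulAut.apply_inv_self] at h
      rw [← θ.injective (h.trans (Subtype.ext rfl) : θ _ = θ x)]
      exact (e₁⁻¹ _).2
    · rw [hθe]; exact hβU (Subgroup.inclusion hW₁V x)
  refine ⟨MulAut.congr g.symm e₁, congr_mem_goodIn hgF.symm he₁good, ?_, fun x => ?_⟩
  · rw [MulEquiv.orderOf_eq]
    exact Nat.Coprime.coprime_dvd_left (orderOf_dvd_of_pow_eq_one (aut_pow_eq_one le_sup_right he₁e hβv)) hv'
  · refine congrArg (Subtype.val (p := (· ∈ M))) (?_ : _ = Subgroup.inclusion hQM (b x))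
    refine g.injective (Subtype.ext ?_)
    show ((g (g.symm (e₁ (g (Subgroup.inclusion hQM x)))) : M₁) : Ω) = _
    rw [MulEquiv.apply_symm_apply, he₁e]
    refine (hβW (Subgroup.inclusion le_sup_left (gQ x))).trans ((hψe (gQ x)).trans ?_)
    show ((gQ (b (gQ.symm (gQ x))) : Q₁) : Ω) = _
    rw [MulEquiv.symm_apply_apply]
    rfl

end Cfsg.Lib.FusionSys
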