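import Cfsg.Agent.Lib.FusionSys.FactorModel
import Cfsg.Agent.Lib.FusionSys.OfGroup
import Cfsg.Agent.Lib.FusionSys.CentralPart

/-!
Models in the fusion system of a finite group: a quotient of the normalizer.
-/

set_option autoImplicit false
set_option linter.style.haveILetI false

universe u v

namespace Cfsg.Lib.FusionSys

open Cfsg Cfsg.FusionSystem

variable {G : Type u} [Group G] [Finite G] {p : ℕ} [Fact p.Prime]

/-- A model of the normalizer of a fully normalized centric subgroup is `N_G(Q)` modulo its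
largest normal subgroup of order prime to `p`. -/
theorem isModel_groupNormalizer (P : Sylow p G) {Q : Subgroup G}
    (hn : (groupFusionSystem (P : Subgroup G)).IsFullyNormalized Q)
    (hc : (groupFusionSystem (P : Subgroup G)).IsCentric Q)
    {N : FusionSystem (normalizerIn (P : Subgroup G) Q)}
    (hN : (groupFusionSystem (P : Subgroup G)).IsNormalizerSystem Q N) :
    N.IsModel p (↥(Subgroup.normalizer (Q : Set G)) ⧸ pPrimeCore p ↥(Subgroup.normalizer (Q : Set G)))
      ((QuotientGroup.mk' _).comp (Subgroup.inclusion (inf_le_right :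
        normalizerIn (P : Subgroup G) Q ≤ Subgroup.normalizer (Q : Set G)))) := by
  have hQN : Q ≤ normalizerIn (P : Subgroup G) Q := le_normalizerIn hn.1
  have hle : normalizerIn (P : Subgroup G) Q ≤ Subgroup.normalizer (Q : Set G) := inf_le_right
  have hreal : N.IsRealizedBy (Subgroup.inclusion hle) := by
    refine ⟨Subgroup.inclusion_injective hle, fun R hR φ hv => ⟨fun hφ => ?_, ?_⟩⟩
    · obtain ⟨-, -, -, ψ, ⟨-, -, g, hg⟩, hψe, hψQ⟩ := (mem_normalizerSystem hN).1 hφ
      have hgQ : g ∈ Subgroup.normalizer (Q : Set G) := by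
        refine Subgroup.mem_normalizer_fintype fun x hx => ?_
        show g * x * g⁻¹ ∈ Q
        rw [← hg ⟨x, Subgroup.mem_sup_right hx⟩]
        exact hψQ.le (mem_map_subgroupOf.2 ⟨x, _, hx, rfl⟩)
      refine ⟨⟨g, hgQ⟩, fun x => Subtype.ext ?_⟩
      exact (hψe x).symm.trans (hg (Subgroup.inclusion le_sup_left x))
    · rintro ⟨⟨g, hgQ⟩, hg⟩
      have hg' : ∀ x : R, φ x = g * x * g⁻¹ := fun x => congrArg Subtype.val (hg x)
      have hRS : R ≤ (P : Subgroup G) := hR.trans (normalizerIn_le Q)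
      have hv' : ∀ x : (R ⊔ Q : Subgroup G), conjHom (R ⊔ Q) g x ∈ (P : Subgroup G) := by
        intro x
        have h1 : (R ⊔ Q).map (MulAut.conj g).toMonoidHom ≤ (P : Subgroup G) := by
          rw [Subgroup.map_sup, sup_le_iff]
          refine ⟨?_, ?_⟩
          · rintro _ ⟨y, hy, rfl⟩
            have := (hv ⟨y, hy⟩).1
            rwa [hg'] at this
          · rintro _ ⟨y, hy, rfl⟩
            exact hn.1 ((Subgroup.mem_normalizer_iff.1 hgQ y).1 hy)
        exact h1 ⟨x, x.2, rfl⟩
      refine (mem_normalizerSystem hN).2 ⟨⟨hRS, fun x => (hv x).1, g, hg'⟩, hR, hv,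
        conjHom (R ⊔ Q) g, ⟨sup_le hRS hn.1, hv', g, fun _ => rfl⟩, fun x => (hg' x).symm, ?_⟩
      exact map_eq_of_conj (s := g) hgQ fun _ => rfl
  have hT : IsPGroup p (P : Subgroup G) := P.isPGroup'
  have hc' : centralizerIn (P : Subgroup G) Q ≤ Q := hc.2 Q (isConj_refl _ hn.1)
  have hn' := hn
  rw [groupFusionSystem_eq] at hn'
  obtain ⟨R, hR⟩ := exists_sylow_normalizer (K := Subgroup.normalizer (Q : Set G)) hT
    (pConjInto_sylow P) (fun g => ⟨fun h => ⟨Subgroup.mem_top g, h⟩, fun h => h.2⟩) hn'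
  refine isModel_mod_pPrimeCore (hT.to_le (normalizerIn_le Q)) hreal ⟨R, ?_⟩ hQN ?_ ?_
  · rw [hR]
    ext x
    exact ⟨fun hx => ⟨⟨x, hx⟩, rfl⟩, by rintro ⟨y, rfl⟩; exact y.2⟩
  · refine ⟨fun a ha b => ?_⟩
    obtain ⟨x, hx, rfl⟩ := ha
    have h1 : (b : G) * x * (b : G)⁻¹ ∈ Q := (Subgroup.mem_normalizer_iff.1 b.2 (x : G)).1 hx
    exact ⟨⟨_, hQN h1⟩, h1, rfl⟩
  · intro x hx
    obtain ⟨hx1, hx2⟩ := mem_centralizerIn.1 hx
    exact hc' (mem_centralizerIn.2 ⟨hx1.1, hx2⟩)

theorem isSectionFree_groupFusionSystem {X : Type v} [Group X] (P : Sylow p G)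
    (h : ¬ Involves X G) : (groupFusionSystem (P : Subgroup G)).IsSectionFree p X := by
  intro Q hn hc N hN L _ ι hL hinv
  have hM := isModel_groupNormalizer P hn hc hN
  haveI := finite_of_le (normalizerIn_le (S := (P : Subgroup G)) Q)
  obtain ⟨e, -⟩ := exists_model_equiv (P.isPGroup'.to_le (normalizerIn_le Q))
    (isConstrained_of_isModel hM) hL hM
  exact h (involves_of_injective (Subgroup.normalizer (Q : Set G)).subtype_injective
    (involves_of_surjective (QuotientGroup.mk'_surjective _)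
      (involves_of_injective (f := e.toMonoidHom) e.injective hinv)))

end Cfsg.Lib.FusionSys
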