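import Cfsg.Agent.Lib.FusionSys.Constrained
import Cfsg.Agent.Lib.FusionSys.Model
import Cfsg.Agent.Lib.FusionSys.Generating

/-!
# Normal subgroups of fusion systems over Heisenberg groups

If `S` has centre `Z` of order `q`, order `q³`, commutators in `Z`, and the centralisers of the
elements outside `Z` are abelian of order `q²`, then a saturated fusion system over `S` with a
non-trivial normal subgroup is constrained, hence realisable.
-/

set_option autoImplicit false

namespace Cfsg.Lib.FusionSys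

open Cfsg Cfsg.FusionSystem

/-- The properties of the Sylow subgroup of `SL₃(q)` that are used. -/
structure IsHeisenberg (X : Type*) [Group X] (q : ℕ) : Prop where
  card_center : Nat.card (Subgroup.center X) = q
  card : Nat.card X = q ^ 3
  comm : ∀ g h : X, g * h * g⁻¹ * h⁻¹ ∈ Subgroup.center X
  abelian : ∀ g : X, g ∉ Subgroup.center X → ∀ x y : X,
    x * g = g * x → y * g = g * y → x * y = y * x
  card_centralizer : ∀ g : X, g ∉ Subgroup.center X →
    Nat.card (Subgroup.centralizer ({g} : Set X)) = q ^ 2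

theorem IsHeisenberg.of_equiv {X Y : Type*} [Group X] [Group Y] {q : ℕ} (e : X ≃* Y)
    (h : IsHeisenberg Y q) : IsHeisenberg X q := by
  have hcen : ∀ g : X, e g ∈ Subgroup.center Y ↔ g ∈ Subgroup.center X := by
    intro g
    rw [Subgroup.mem_center_iff, Subgroup.mem_center_iff]
    constructor
    · intro hg x
      exact e.injective (by simpa using hg (e x))
    · intro hg y
      obtain ⟨x, rfl⟩ := e.surjective y
      rw [← map_mul, hg x, map_mul]
  refine ⟨?_, ?_, fun g g' => ?_, fun g hg x y hx hy => ?_, fun g hg => ?_⟩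
  · rw [← h.card_center]
    exact Nat.card_congr (Equiv.subtypeEquiv e.toEquiv fun g => (hcen g).symm)
  · rw [Nat.card_congr e.toEquiv, h.card]
  · rw [← hcen, map_mul, map_mul, map_mul, map_inv, map_inv]
    exact h.comm _ _
  · refine e.injective ?_
    rw [map_mul, map_mul]
    exact h.abelian _ (fun h' => hg ((hcen g).mp h')) _ _ (by rw [← map_mul, hx, map_mul])
      (by rw [← map_mul, hy, map_mul])
  · rw [← h.card_centralizer (e g) fun h' => hg ((hcen g).mp h')]
    refine Nat.card_congr (Equiv.subtypeEquiv e.toEquiv fun x => ?_)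
    rw [Subgroup.mem_centralizer_singleton_iff, Subgroup.mem_centralizer_singleton_iff]
    show x * g = g * x ↔ e x * e g = e g * e x
    rw [← map_mul, ← map_mul, e.injective.eq_iff]

variable {Ω : Type*} [Group Ω] {S : Subgroup Ω}

namespace Heisenberg

/-- The centre of `S` inside the ambient group. -/
def zen (S : Subgroup Ω) : Subgroup Ω := (Subgroup.center S).map S.subtype

theorem mem_zen {x : Ω} : x ∈ zen S ↔ x ∈ S ∧ ∀ y ∈ S, x * y = y * x := by
  constructor
  · rintro ⟨z, hz, rfl⟩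
    exact ⟨z.2, fun y hy =>
      (congrArg Subtype.val (Subgroup.mem_center_iff.mp hz ⟨y, hy⟩)).symm⟩
  · rintro ⟨hx, h⟩
    exact ⟨⟨x, hx⟩, Subgroup.mem_center_iff.mpr fun y => Subtype.ext (h y y.2).symm, rfl⟩

theorem coe_mem_zen {x : S} : (x : Ω) ∈ zen S ↔ x ∈ Subgroup.center S := by
  constructor
  · rintro ⟨z, hz, he⟩
    rwa [← Subtype.ext he]
  · exact fun h => ⟨x, h, rfl⟩

variable {q : ℕ}

theorem comm_mem (hH : IsHeisenberg S q) {g h : Ω} (hg : g ∈ S) (hh : h ∈ S) :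
    g * h * g⁻¹ * h⁻¹ ∈ zen S := by
  have := coe_mem_zen.mpr (hH.comm ⟨g, hg⟩ ⟨h, hh⟩)
  simpa using this

theorem commute_of (hH : IsHeisenberg S q) {g x y : Ω} (hg : g ∈ S) (hgz : g ∉ zen S)
    (hx : x ∈ S) (hy : y ∈ S) (hxg : x * g = g * x) (hyg : y * g = g * y) : x * y = y * x :=
  congrArg Subtype.val (hH.abelian ⟨g, hg⟩ (fun h => hgz (coe_mem_zen.mpr h)) ⟨x, hx⟩ ⟨y, hy⟩
    (Subtype.ext hxg) (Subtype.ext hyg))

/-- Commutators with an element outside the centre give the whole centre. -/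
theorem exists_comm [Finite S] (hH : IsHeisenberg S q) {g z : Ω} (hg : g ∈ S) (hgz : g ∉ zen S)
    (hz : z ∈ zen S) : ∃ s ∈ S, s * g * s⁻¹ * g⁻¹ = z := by
  let g' : S := ⟨g, hg⟩
  have hg' : g' ∉ Subgroup.center S := fun h => hgz (coe_mem_zen.mpr h)
  let f : S →* Subgroup.center S :=
    { toFun := fun s => ⟨s * g' * s⁻¹ * g'⁻¹, hH.comm s g'⟩
      map_one' := Subtype.ext (by simp)
      map_mul' := fun s t => Subtype.ext (by
        show s * t * g' * (s * t)⁻¹ * g'⁻¹ = s * g' * s⁻¹ * g'⁻¹ * (t * g' * t⁻¹ * g'⁻¹)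
        have hc := Subgroup.mem_center_iff.mp (hH.comm t g') s
        calc s * t * g' * (s * t)⁻¹ * g'⁻¹
            = s * (t * g' * t⁻¹ * g'⁻¹) * g' * s⁻¹ * g'⁻¹ := by group
          _ = (t * g' * t⁻¹ * g'⁻¹) * (s * g' * s⁻¹ * g'⁻¹) := by rw [hc]; group
          _ = _ := (Subgroup.mem_center_iff.mp (hH.comm t g') _).symm) }
  have hker : Nat.card f.ker = q ^ 2 := by
    rw [← hH.card_centralizer g' hg']
    refine Nat.card_congr (Equiv.subtypeEquivRight fun s => ?_)
    rw [MonoidHom.mem_ker, Subgroup.mem_centralizer_singleton_iff, Subtype.ext_iff]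
    show s * g' * s⁻¹ * g'⁻¹ = 1 ↔ s * g' = g' * s
    rw [mul_inv_eq_one, mul_inv_eq_iff_eq_mul]
  have hq : 0 < q := hH.card_center ▸ Nat.card_pos
  have hr : f.range = ⊤ := by
    refine Subgroup.eq_top_of_card_eq _ ?_
    have h := f.ker.card_mul_index
    rw [Subgroup.index_ker, hker, hH.card, pow_succ q 2] at h
    rw [hH.card_center]
    exact Nat.eq_of_mul_eq_mul_left (pow_pos hq 2) h
  obtain ⟨z', hz', rfl⟩ := hz
  obtain ⟨s, hs⟩ : (⟨z', hz'⟩ : Subgroup.center S) ∈ f.range := hr ▸ Subgroup.mem_top _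
  exact ⟨s, s.2, congrArg (fun x : Subgroup.center S => ((x : S) : Ω)) hs⟩

variable {F : FusionSystem S} {p : ℕ}

theorem zen_le_of_centric {E' : Subgroup Ω} (hE : F.IsCentric E') : zen S ≤ E' := by
  intro z hz
  obtain ⟨hzS, hzc⟩ := mem_zen.mp hz
  exact hE.2 E' (isConj_refl F hE.1)
    (mem_centralizerIn.mpr ⟨hzS, fun y hy => hzc y (hE.1 hy)⟩)

/-- A centric subgroup with an element outside the centre that is abelian is the centraliser of
that element. -/
theorem mem_iff_commute (hH : IsHeisenberg S q) {E : Subgroup Ω} (hE : F.IsCentric E)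
    (hab : ∀ x ∈ E, ∀ y ∈ E, x * y = y * x) {g : Ω} (hg : g ∈ E) (hgz : g ∉ zen S) {x : Ω} :
    x ∈ E ↔ x ∈ S ∧ x * g = g * x := by
  refine ⟨fun hx => ⟨hE.1 hx, hab x hx g hg⟩, fun ⟨hx, hxg⟩ => ?_⟩
  refine hE.2 E (isConj_refl F hE.1) (mem_centralizerIn.mpr ⟨hx, fun y hy => ?_⟩)
  exact commute_of hH (hE.1 hg) hgz hx (hE.1 hy) hxg (hab y hy g hg)

theorem le_normalizer_of_zen_le (hH : IsHeisenberg S q) {E : Subgroup Ω} (hES : E ≤ S)
    (hZE : zen S ≤ E) : S ≤ Subgroup.normalizer (E : Set Ω) := by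
  intro s hs
  rw [Subgroup.mem_normalizer_iff]
  intro x
  constructor
  · intro hx
    have := E.mul_mem (hZE (comm_mem hH hs (hES hx))) hx
    simpa using this
  · intro hx
    have hxS : x ∈ S := by
      have := S.mul_mem (S.mul_mem (S.inv_mem hs) (hES hx)) hs
      simpa [mul_assoc] using this
    have := E.mul_mem (E.inv_mem (hZE (comm_mem hH hs hxS))) hx
    simpa [mul_assoc] using this

/-- The chain `1 ≤ Z(S) ≤ E`. -/
def chain (S E : Subgroup Ω) : ℕ → Subgroup Ω
  | 0 => ⊥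
  | 1 => zen S
  | _ => E

theorem chain_inv {E : Subgroup Ω} {α : MulAut E}
    (hα : ∀ x : E, (x : Ω) ∈ zen S → (α x : Ω) ∈ zen S) :
    ∀ i, i ≤ 2 → ∀ x : E, (x : Ω) ∈ chain S E i → (α x : Ω) ∈ chain S E i := by
  intro i hi x hx
  interval_cases i
  · have hx1 : x = 1 := Subtype.ext (Subgroup.mem_bot.mp hx)
    rw [hx1, map_one]
    exact Subgroup.mem_bot.mpr rfl
  · exact hα x hx
  · exact (α x).2

theorem chain_stab {E : Subgroup Ω} {α : MulAut E}
    (h1 : ∀ x : E, (x : Ω) ∈ zen S → α x = x)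
    (h2 : ∀ x : E, (x : Ω)⁻¹ * (α x : Ω) ∈ zen S) :
    ∀ i, i < 2 → ∀ x : E, (x : Ω) ∈ chain S E (i + 1) → (x : Ω)⁻¹ * (α x : Ω) ∈ chain S E i := by
  intro i hi x hx
  interval_cases i
  · rw [h1 x hx, inv_mul_cancel]
    exact Subgroup.one_mem _
  · exact h2 x

theorem conjAut_stab (hH : IsHeisenberg S q) {E : Subgroup Ω} (hES : E ≤ S) {g : Ω} (hg : g ∈ S)
    {α : MulAut E} (hα : ∀ x : E, ((α x : E) : Ω) = g * (x : Ω) * g⁻¹) :
    (∀ x : E, (x : Ω) ∈ zen S → α x = x) ∧ ∀ x : E, (x : Ω)⁻¹ * (α x : Ω) ∈ zen S := by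
  refine ⟨fun x hx => Subtype.ext ?_, fun x => ?_⟩
  · rw [hα, ← (mem_zen.mp hx).2 g hg, mul_inv_cancel_right]
  · rw [hα]
    have h := comm_mem hH (S.inv_mem (hES x.2)) hg
    rw [inv_inv] at h
    simpa [mul_assoc] using h

variable [Finite S] [Fact p.Prime]

/-- An essential subgroup is abelian, and its automorphisms do not fix the centre of `S`. -/
theorem essential_data (hS : IsPGroup p S) (hF : F.IsSaturated p) (hH : IsHeisenberg S q)
    {E : Subgroup Ω} (hE : F.IsEssential p E) :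
    (∀ x ∈ E, ∀ y ∈ E, x * y = y * x) ∧
      ∃ a ∈ F.autGroup E, ∃ z : E, (z : Ω) ∈ zen S ∧ (a z : Ω) ∉ zen S := by
  have hlt := lt_of_isEssential hS hF hE
  have hES : E ≤ S := hlt.le
  have hrad := isRadical_of_isEssential hS hE
  have hZE := zen_le_of_centric hE.1
  have hC : centralizerIn S E ≤ E := hE.1.2 E (isConj_refl F hES)
  obtain ⟨s, hs, hsE⟩ := Set.not_subset.mp hlt.not_ge
  have hsN : s ∈ Subgroup.normalizer (E : Set Ω) := le_normalizer_of_zen_le hH hES hZE hs
  have hnot : ¬ ∀ a ∈ F.autGroup E, ∀ x : E, (x : Ω) ∈ zen S → (a x : Ω) ∈ zen S := by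
    intro hinv
    obtain ⟨h1, h2⟩ := conjAut_stab hH hES hs (α := conjAut E hsN) fun x => rfl
    have hinn := mem_inn_of_stabilizes hS hrad (D := chain S E) (n := 2) rfl rfl
      (fun a ha => chain_inv (hinv a ha))
      (autInducedBy_le_autGroup hES (conjAut_mem_autInducedBy hsN hs)) (chain_stab h1 h2)
    exact hsE (mem_of_conjAut_mem_inn hC hES hs (fun x => rfl) hinn)
  refine ⟨?_, ?_⟩
  · by_contra hab
    push Not at hab
    obtain ⟨x₀, hx₀, y₀, hy₀, hne⟩ := hab
    refine hnot fun a _ z hz => ?_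
    by_contra hazen
    refine hne (commute_of hH (hES (a z).2) hazen (hES hx₀) (hES hy₀) ?_ ?_)
    · obtain ⟨x, hx⟩ := a.surjective ⟨x₀, hx₀⟩
      have h : x * z = z * x := Subtype.ext ((mem_zen.mp hz).2 x (hES x.2)).symm
      have h' := congrArg (fun w : E => (a w : Ω)) h
      simpa [hx] using h'
    · obtain ⟨x, hx⟩ := a.surjective ⟨y₀, hy₀⟩
      have h : x * z = z * x := Subtype.ext ((mem_zen.mp hz).2 x (hES x.2)).symm
      have h' := congrArg (fun w : E => (a w : Ω)) h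
      simpa [hx] using h'
  · push Not at hnot
    exact hnot

/-- No essential subgroup has a non-trivial invariant subgroup inside the centre of `S`. -/
theorem false_of_invariant (hS : IsPGroup p S) (hF : F.IsSaturated p) (hH : IsHeisenberg S q)
    {E : Subgroup Ω} (hE : F.IsEssential p E) (Q : Subgroup Ω) (hQZ : Q ≤ zen S) (hQ1 : Q ≠ ⊥)
    (hinv : ∀ α ∈ F.autGroup E, ∀ x : E, (x : Ω) ∈ Q → (α x : Ω) ∈ Q) : False := by
  have hES : E ≤ S := hE.1.1
  haveI := finite_of_le hES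
  obtain ⟨hab, a, ha, z, hz, hazen⟩ := essential_data hS hF hH hE
  have hQE : Q ≤ E := hQZ.trans (zen_le_of_centric hE.1)
  obtain ⟨-, -, R, hR⟩ := isFullyAutomized_and_fc_of_fn hS hF hE.2.1
  let X := F.autGroup E
  let v : E := a z
  have hnorm : ∀ g ∈ S, g ∈ Subgroup.normalizer (E : Set Ω) :=
    le_normalizer_of_zen_le hH hES (zen_le_of_centric hE.1)
  have hRmem : ∀ t : X, t ∈ (R : Subgroup X) ↔
      ∃ g ∈ S, ∀ x : E, (((t : MulAut E) x : E) : Ω) = g * (x : Ω) * g⁻¹ := by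
    intro t
    rw [hR, Subgroup.mem_subgroupOf, mem_autInducedBy]
  -- a non-trivial element of `R` fixes exactly the centre
  have hfix : ∀ t ∈ (R : Subgroup X), t ≠ 1 → ∀ x : E, (t : MulAut E) x = x ↔ (x : Ω) ∈ zen S := by
    intro t ht ht1 x
    obtain ⟨g, hg, hgt⟩ := (hRmem t).mp ht
    refine ⟨fun hx => ?_, fun hx => (conjAut_stab hH hES hg hgt).1 x hx⟩
    by_contra hxz
    refine ht1 (Subtype.ext (MulEquiv.ext fun y => Subtype.ext ?_))
    have hgx : g * (x : Ω) = x * g := by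
      have h := congrArg Subtype.val hx
      rw [hgt] at h
      exact mul_inv_eq_iff_eq_mul.mp h
    have hgE : g ∈ E := (mem_iff_commute hH hE.1 hab x.2 hxz).mpr ⟨hg, hgx⟩
    rw [hgt, hab g hgE y y.2, mul_inv_cancel_right]
    rfl
  -- stabiliser of `v` modulo `Q`
  let Xv : Subgroup X :=
    { carrier := {t | (v : Ω)⁻¹ * ((t : MulAut E) v : Ω) ∈ Q}
      one_mem' := by simp [Q.one_mem]
      mul_mem' := fun {s t} hs ht => by
        have h1 := hinv _ s.2 ⟨_, hQE ht⟩ ht
        have h2 := Q.mul_mem hs h1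
        show (v : Ω)⁻¹ * ((s : MulAut E) ((t : MulAut E) v) : Ω) ∈ Q
        have e : (⟨_, hQE ht⟩ : E) = v⁻¹ * (t : MulAut E) v := Subtype.ext (by simp)
        rw [e, map_mul, map_inv] at h2
        simpa [mul_assoc] using h2
      inv_mem' := fun {s} hs => by
        have h1 := Q.inv_mem (hinv _ (X.inv_mem s.2) ⟨_, hQE hs⟩ hs)
        show (v : Ω)⁻¹ * (((s : MulAut E)⁻¹ : MulAut E) v : Ω) ∈ Q
        have e : (⟨_, hQE hs⟩ : E) = v⁻¹ * (s : MulAut E) v := Subtype.ext (by simp)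
        rw [e, map_mul, map_inv, MulAut.inv_apply, MulAut.inv_apply,
          MulEquiv.symm_apply_apply] at h1
        simpa [MulAut.inv_apply] using h1 }
  -- an element of `R` moving `v` inside its coset
  obtain ⟨z₀, hz₀Q, hz₀1⟩ : ∃ z₀ ∈ Q, z₀ ≠ 1 := by
    by_contra hne
    push Not at hne
    exact hQ1 ((Subgroup.eq_bot_iff_forall _).mpr hne)
  have hvS : (v : Ω) ∈ S := hES v.2
  have hcomm : ∀ s : Ω, s ∈ S →
      (v : Ω)⁻¹ * (s * v * s⁻¹) = s * v * s⁻¹ * (v : Ω)⁻¹ := by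
    intro s hs
    exact hab _ (E.inv_mem v.2) _ ((Subgroup.mem_normalizer_iff.mp (hnorm s hs) v).mp v.2)
  obtain ⟨s, hs, hsv⟩ := exists_comm hH hvS hazen (hQZ hz₀Q)
  let t₀ : X := ⟨conjAut E (hnorm s hs),
    autInducedBy_le_autGroup hES (conjAut_mem_autInducedBy (hnorm s hs) hs)⟩
  have ht₀R : t₀ ∈ (R : Subgroup X) := (hRmem t₀).mpr ⟨s, hs, fun x => rfl⟩
  have ht₀v : t₀ ∈ Xv := by
    show (v : Ω)⁻¹ * (s * v * s⁻¹) ∈ Q
    rw [hcomm s hs, hsv]
    exact hz₀Q
  have ht₀1 : t₀ ≠ 1 := by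
    intro h
    have h' := congrArg (fun t : X => ((t : MulAut E) v : Ω)) h
    refine hz₀1 ?_
    rw [← hsv, show s * (v : Ω) * s⁻¹ = v from h', mul_inv_cancel]
  -- a Sylow subgroup inside the stabiliser
  let a' : X := ⟨a, ha⟩
  let U : Sylow p X := a' • R
  have hU : (U : Subgroup X) ≤ Xv := by
    intro t ht
    rw [Sylow.coe_subgroup_smul, Subgroup.mem_pointwise_smul_iff_inv_smul_mem] at ht
    obtain ⟨g, hg, hgt⟩ := (hRmem _).mp ht
    have h1 := (conjAut_stab hH hES hg hgt).1 z hz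
    have hfixv : (t : MulAut E) v = v := by
      have h1' : a⁻¹ ((t : MulAut E) (a z)) = z := by
        simpa [a', MulAut.smul_def, MulAut.mul_apply] using h1
      show (t : MulAut E) (a z) = a z
      conv_rhs => rw [← h1']
      exact (MulEquiv.apply_symm_apply a _).symm
    show (v : Ω)⁻¹ * ((t : MulAut E) v : Ω) ∈ Q
    rw [hfixv, inv_mul_cancel]
    exact Q.one_mem
  have hz₁ : IsPGroup p (Subgroup.zpowers (⟨t₀, ht₀v⟩ : Xv)) := by
    refine (R.2.comap_subtype (K := Xv)).to_le ?_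
    rw [Subgroup.zpowers_le]
    exact ht₀R
  obtain ⟨V, hV⟩ := hz₁.exists_le_sylow
  obtain ⟨g, hg⟩ := MulAction.exists_smul_eq Xv (U.subtype hU) V
  have ht₀U : t₀ ∈ (((g : X) • U : Sylow p X) : Subgroup X) := by
    have h := hV (Subgroup.mem_zpowers _)
    rw [← hg, Sylow.coe_subgroup_smul, Subgroup.mem_pointwise_smul_iff_inv_smul_mem,
      Sylow.coe_subtype, Subgroup.mem_subgroupOf] at h
    rw [Sylow.coe_subgroup_smul, Subgroup.mem_pointwise_smul_iff_inv_smul_mem]
    exact h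
  -- the Sylow subgroups meet trivially
  have hTI : ∀ h : X, t₀ ∈ ((h • R : Sylow p X) : Subgroup X) →
      ((h • R : Sylow p X) : Subgroup X) ≤ (R : Subgroup X) → (h • R : Sylow p X) = R := fun h _ hle =>
    Sylow.ext ((h • R : Sylow p X).3 R.2 hle).symm
  have hTI' : ∀ h : X, t₀ ∈ ((h • R : Sylow p X) : Subgroup X) → (h • R : Sylow p X) = R := by
    intro h ht
    have ht' := ht
    rw [Sylow.coe_subgroup_smul, Subgroup.mem_pointwise_smul_iff_inv_smul_mem] at ht'
    have hne1 : (MulAut.conj h)⁻¹ • t₀ ≠ 1 := by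
      intro h1
      rw [MulAut.smul_def] at h1
      exact ht₀1 ((map_eq_one_iff _ (MulAut.conj h)⁻¹.injective).mp h1)
    have hZ : ∀ x : E, ((h : MulAut E) x : Ω) ∈ zen S ↔ (x : Ω) ∈ zen S := by
      intro x
      rw [← hfix t₀ ht₀R ht₀1, ← hfix _ ht' hne1 x]
      have e : ((((MulAut.conj h)⁻¹ • t₀ : X)) : MulAut E) x =
          (h : MulAut E)⁻¹ ((t₀ : MulAut E) ((h : MulAut E) x)) := by
        simp [MulAut.smul_def, MulAut.mul_apply]
      rw [e]
      constructor
      · intro he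
        rw [he]
        exact MulEquiv.symm_apply_apply _ x
      · intro he
        exact ((MulEquiv.symm_apply_eq _).mp he)
    let N : Subgroup X :=
      { carrier := {t | (∀ x : E, (x : Ω) ∈ zen S → (t : MulAut E) x = x) ∧
          ∀ x : E, (x : Ω)⁻¹ * ((t : MulAut E) x : Ω) ∈ zen S}
        one_mem' := ⟨fun x _ => rfl, fun x => by simp [(zen S).one_mem]⟩
        mul_mem' := fun {u w} hu hw => by
          refine ⟨fun x hx => ?_, fun x => ?_⟩
          · show (u : MulAut E) ((w : MulAut E) x) = x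
            rw [hw.1 x hx, hu.1 x hx]
          · have := (zen S).mul_mem (hw.2 x) (hu.2 ((w : MulAut E) x))
            show (x : Ω)⁻¹ * ((u : MulAut E) ((w : MulAut E) x) : Ω) ∈ zen S
            simpa [mul_assoc] using this
        inv_mem' := fun {u} hu => by
          refine ⟨fun x hx => ?_, fun x => ?_⟩
          · show (u : MulAut E)⁻¹ x = x
            exact (MulEquiv.symm_apply_eq _).mpr (hu.1 x hx).symm
          · show (x : Ω)⁻¹ * ((u : MulAut E)⁻¹ x : Ω) ∈ zen S
            have h2 := (zen S).inv_mem (hu.2 ((u : MulAut E)⁻¹ x))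
            simp only [MulAut.inv_apply, MulEquiv.apply_symm_apply, mul_inv_rev, inv_inv] at h2
            simpa [MulAut.inv_apply] using h2 }
    have hNp : IsPGroup p N := by
      intro t
      obtain ⟨n, hn⟩ := (hS.to_le hES).exists_card_eq
      have h1 := pow_eq_one_of_stabilizes (D := chain S E) (n := 2) (P := E) rfl rfl
        (α := ((t : X) : MulAut E))
        (chain_inv fun x hx => by rw [t.2.1 x hx]; exact hx) (chain_stab t.2.1 t.2.2)
      refine ⟨n * 2, ?_⟩
      rw [pow_mul, ← hn]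
      exact Subtype.ext (Subtype.ext (by simpa using h1))
    have hRN : (R : Subgroup X) ≤ N := by
      intro t ht
      obtain ⟨g, hg, hgt⟩ := (hRmem t).mp ht
      exact conjAut_stab hH hES hg hgt
    have hNR : N = (R : Subgroup X) := R.3 hNp hRN
    refine hTI h ht (hNR ▸ fun t ht => ?_)
    rw [Sylow.coe_subgroup_smul, Subgroup.mem_pointwise_smul_iff_inv_smul_mem] at ht
    obtain ⟨g, hg, hgt⟩ := (hRmem _).mp ht
    obtain ⟨c1, c2⟩ := conjAut_stab hH hES hg hgt
    have e : ∀ y : E, (t : MulAut E) ((h : MulAut E) y) =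
        (h : MulAut E) (((((MulAut.conj h)⁻¹ • t : X)) : MulAut E) y) := fun y => by
      simp [MulAut.smul_def, MulAut.mul_apply]
    refine ⟨fun x hx => ?_, fun x => ?_⟩
    · obtain ⟨y, rfl⟩ := (h : MulAut E).surjective x
      rw [e, c1 y ((hZ y).mp hx)]
    · obtain ⟨y, rfl⟩ := (h : MulAut E).surjective x
      rw [e]
      have h2 : (y⁻¹ * ((((MulAut.conj h)⁻¹ • t : X)) : MulAut E) y : E).1 ∈ zen S := c2 y
      have h3 := (hZ _).mpr h2
      rw [map_mul, map_inv] at h3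
      simpa using h3
  have hWR : ((g : X) • U : Sylow p X) = R := by
    show (g : X) • a' • R = R
    rw [← mul_smul]
    refine hTI' _ ?_
    rw [mul_smul]
    exact ht₀U
  have hRv : (R : Subgroup X) ≤ Xv := by
    rw [← hWR]
    intro t ht
    rw [Sylow.coe_subgroup_smul, Subgroup.mem_pointwise_smul_iff_inv_smul_mem] at ht
    have := Xv.mul_mem (Xv.mul_mem g.2 (hU ht)) (Xv.inv_mem g.2)
    simpa [MulAut.smul_def, mul_assoc] using this
  -- so `Q` is the whole centre
  have hZQ : zen S ≤ Q := by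
    intro y hy
    obtain ⟨s', hs', hsy⟩ := exists_comm hH hvS hazen hy
    have hmem : (⟨conjAut E (hnorm s' hs'),
        autInducedBy_le_autGroup hES (conjAut_mem_autInducedBy (hnorm s' hs') hs')⟩ : X) ∈
        (R : Subgroup X) := (hRmem _).mpr ⟨s', hs', fun x => rfl⟩
    have h1 : (v : Ω)⁻¹ * (s' * v * s'⁻¹) ∈ Q := hRv hmem
    rwa [hcomm s' hs', hsy] at h1
  exact hazen (hQZ (hinv a ha z (hZQ hz)))

/-- A non-trivial normal subgroup makes the system constrained. -/
theorem isConstrained_of_isNormal (hS : IsPGroup p S) (hF : F.IsSaturated p)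
    (hH : IsHeisenberg S q) {Q : Subgroup Ω} (hQ : F.IsNormal Q) (hQ1 : Q ≠ ⊥) :
    F.IsConstrained p := by
  by_cases hc : centralizerIn S Q ≤ Q
  · exact ⟨hF, Q, hQ, isCentric_of_isNormal hQ hc⟩
  have hQS : Q ≤ S := hQ.1
  have hinv : ∀ E : Subgroup Ω, E ≤ S → ∀ α ∈ F.autGroup E, ∀ x : E, (x : Ω) ∈ Q →
      (α x : Ω) ∈ Q := fun E hE α hα x hx =>
    stronglyClosed_aut_mem (isNormal_stronglyClosed hQ) hα hE hx
  by_cases hQZ : Q ≤ zen S
  · have hno : ∀ E, ¬ F.IsEssential p E := fun E hE =>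
      false_of_invariant hS hF hH hE Q hQZ hQ1 (hinv E hE.1.1)
    have hSn : F.IsNormal S := by
      refine isNormal_of_forall_essential hS hF fun P hP => ?_
      rcases hP with rfl | hP
      · refine ⟨le_rfl, fun α _ => ?_⟩
        rw [Subgroup.subgroupOf_self]
        exact Subgroup.map_top_of_surjective _ α.surjective
      · exact absurd hP (hno P)
    exact ⟨hF, S, hSn, isCentric_of_isNormal hSn fun x hx => (mem_centralizerIn.mp hx).1⟩
  obtain ⟨g, hg, hgz⟩ := Set.not_subset.mp hQZ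
  have hgS : g ∈ S := hQS hg
  obtain ⟨c, hc, hcQ⟩ := Set.not_subset.mp hc
  obtain ⟨hcS, hcc⟩ := mem_centralizerIn.mp hc
  have hnormQ : ∀ s ∈ S, ∀ x ∈ Q, s * x * s⁻¹ ∈ Q := fun s hs x hx =>
    stronglyClosed_conj_mem (isNormal_stronglyClosed hQ) hs hx
  have hZQ : zen S ≤ Q := by
    intro y hy
    obtain ⟨s, hs, rfl⟩ := exists_comm hH hgS hgz hy
    exact Q.mul_mem (hnormQ s hs g hg) (Q.inv_mem hg)
  have hcz : c ∉ zen S := fun h => hcQ (hZQ h)
  have hQab : ∀ x ∈ Q, ∀ y ∈ Q, x * y = y * x := fun x hx y hy =>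
    commute_of hH hcS hcz (hQS hx) (hQS hy) (hcc x hx).symm (hcc y hy).symm
  have hCmem : ∀ x, x ∈ centralizerIn S Q ↔ x ∈ S ∧ x * g = g * x := by
    intro x
    rw [mem_centralizerIn]
    exact ⟨fun ⟨h1, h2⟩ => ⟨h1, h2 g hg⟩, fun ⟨h1, h2⟩ => ⟨h1, fun y hy =>
      commute_of hH hgS hgz h1 (hQS hy) h2 (hQab y hy g hg)⟩⟩
  set A := centralizerIn S Q with hA
  have hAS : A ≤ S := centralizerIn_le Q
  have hAn : F.IsNormal A := by
    refine isNormal_of_forall_essential hS hF fun P hP => ?_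
    have hPS : P ≤ S := by rcases hP with rfl | hP; exacts [le_rfl, hP.1.1]
    rcases hP with rfl | hP
    · refine ⟨hAS, fun α hα => ?_⟩
      refine Subgroup.eq_of_le_of_card_ge ?_ ?_
      · rintro _ ⟨x, hx, rfl⟩
        refine mem_centralizerIn.mpr ⟨(α x).2, fun y hy => ?_⟩
        have hy' := hinv _ le_rfl _ (inv_mem hα) ⟨y, hQS hy⟩ hy
        have hxy : x * α⁻¹ ⟨y, hQS hy⟩ = α⁻¹ ⟨y, hQS hy⟩ * x :=
          Subtype.ext ((mem_centralizerIn.mp hx).2 _ hy')
        have h' := congrArg (fun w => (α w : Ω)) hxy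
        simpa [MulAut.inv_apply] using h'
      · rw [Subgroup.card_map_of_injective α.injective]
    · have hQP : Q ≤ P := le_of_isNormal hS hQ hP.1 (isRadical_of_isEssential hS hP)
      have hab := (essential_data hS hF hH hP).1
      have hPA : P = A := by
        ext x
        rw [mem_iff_commute hH hP.1 hab (hQP hg) hgz, hCmem]
      subst hPA
      refine ⟨le_rfl, fun α _ => ?_⟩
      rw [Subgroup.subgroupOf_self]
      exact Subgroup.map_top_of_surjective _ α.surjective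
  refine ⟨hF, A, hAn, isCentric_of_isNormal hAn fun x hx => ?_⟩
  obtain ⟨hxS, hxA⟩ := mem_centralizerIn.mp hx
  exact (hCmem x).mpr ⟨hxS, hxA g ((hCmem g).mpr ⟨hgS, rfl⟩)⟩

end Heisenberg

end Cfsg.Lib.FusionSys
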