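import Cfsg.Agent.Lib.FusionSys.Tate
import Cfsg.Agent.Lib.FusionSys.Focal
import Cfsg.Agent.Lib.FusionSys.OfGroup
import Mathlib.GroupTheory.Focal

/-!
The hyperfocal subgroup theorem for finite groups.
-/

set_option autoImplicit false

namespace Cfsg.Lib.FusionSys

open Cfsg Cfsg.FusionSystem
open scoped commutatorElement

/-- A stable homomorphism detecting a normal subgroup that is larger than the hyperfocal one. -/
theorem exists_stable_hom {Ω : Type*} [Group Ω] {S : Subgroup Ω} [Finite S] {F : FusionSystem S}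
    {p : ℕ} [Fact p.Prime] (hS : IsPGroup p S) (hF : F.IsSaturated p) {T : Subgroup S} [T.Normal]
    (hT : (F.hyperfocalSubgroup p).subgroupOf S < T)
    (hΦ : T ≤ frattini S ⊔ (F.hyperfocalSubgroup p).subgroupOf S) :
    ∃ (N : Subgroup S) (_ : N.Normal), N < T ∧
      ∀ (P : Subgroup Ω) (φ : P →* Ω) (hφ : φ ∈ F.Hom P) (x : P),
        (⟨x, hom_le hφ x.2⟩ : S) ∈ T →
          QuotientGroup.mk' N (⟨φ x, hom_mem hφ x⟩ : S) =
            QuotientGroup.mk' N (⟨x, hom_le hφ x.2⟩ : S) := by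
  classical
  set K := (F.hyperfocalSubgroup p).subgroupOf S with hKdef
  haveI hKn : K.Normal := hyperfocal_subgroupOf_normal
  obtain ⟨N, hNn, hKN, hNT, hmax⟩ := exists_maximal_normal hT
  refine ⟨N, hNn, hNT, ?_⟩
  set θ : S →* ↥S ⧸ N := QuotientGroup.mk' N with hθdef
  have hθs : Function.Surjective θ := QuotientGroup.mk'_surjective N
  have hker : ∀ x : S, θ x = 1 ↔ x ∈ N := fun x => QuotientGroup.eq_one_iff x
  have hE : IsPGroup p (↥S ⧸ N) := hS.to_quotient N
  haveI : (T.map θ).Normal := (inferInstance : T.Normal).map θ hθs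
  have hTne : T.map θ ≠ ⊥ := by
    intro hb
    refine hNT.not_ge fun x hx => (hker x).1 ?_
    exact Subgroup.mem_bot.1 (hb ▸ Subgroup.mem_map_of_mem θ hx)
  obtain ⟨z, hzT, hzc, hzp⟩ := Cfsg.Lib.PGroup.exists_mem_center_orderOf_eq hE hTne
  set Z := Subgroup.zpowers z with hZdef
  have hZc : Z ≤ Subgroup.center (↥S ⧸ N) := Subgroup.zpowers_le.2 hzc
  haveI hZn : Z.Normal := ⟨fun n hn g => by
    rw [Subgroup.mem_center_iff.1 (hZc hn) g, mul_inv_cancel_right]
    exact hn⟩
  have hTZ : T = Z.comap θ := by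
    refine (hmax _ (hZn.comap θ) ?_ ?_).symm
    · refine lt_of_le_of_ne (fun x hx => ?_) fun he => ?_
      · show θ x ∈ Z
        rw [(hker x).2 hx]
        exact Z.one_mem
      · obtain ⟨w, hw⟩ := hθs z
        have h1 : w ∈ N := he ▸ (show θ w ∈ Z from hw ▸ Subgroup.mem_zpowers z)
        rw [← (hker w).2 h1 |>.symm.trans hw, orderOf_one] at hzp
        exact (Fact.out : p.Prime).one_lt.ne hzp
    · intro x hx
      obtain ⟨y, hy, hyz⟩ : ∃ y ∈ T, θ y = θ x :=
        Subgroup.mem_map.1 (Subgroup.zpowers_le.2 hzT (show θ x ∈ Z from hx))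
      have h1 : y⁻¹ * x ∈ N := (hker _).1 (by rw [map_mul, map_inv, hyz, inv_mul_cancel])
      simpa using T.mul_mem hy (hNT.le h1)
  have hconj : ∀ (P : Subgroup Ω) (φ : P →* Ω) (hφ : φ ∈ F.Hom P), ∃ c : S, ∀ x : P,
      (θ c * θ ⟨x, hom_le hφ x.2⟩ * (θ c)⁻¹)⁻¹ * θ ⟨φ x, hom_mem hφ x⟩ ∈ Z := by
    intro P φ hφ
    obtain ⟨c, hc, hcx⟩ := exists_conj_mod hS hF hKn le_rfl (hyperfocal_le F) P φ hφ
    refine ⟨⟨c, hc⟩, fun x => ?_⟩
    have h1 : (⟨c, hc⟩ * ⟨(x : Ω), hom_le hφ x.2⟩ * ⟨c, hc⟩⁻¹)⁻¹ *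
        (⟨φ x, hom_mem hφ x⟩ : S) ∈ Z.comap θ := hTZ ▸ hT.le (hcx x)
    simpa only [Subgroup.mem_comap, map_mul, map_inv] using h1
  obtain ⟨m, μ, hpm, hμZ, hrel⟩ := exists_correction hS hF θ Z hZc hconj
  have hμp : ∀ g, μ g ^ p = 1 := fun g =>
    orderOf_dvd_iff_pow_eq_one.1 (hzp ▸ orderOf_dvd_of_mem_zpowers (hμZ g))
  have hμΦ : frattini S ≤ μ.ker := by
    refine Cfsg.Lib.PGroup.frattini_le_of_commutator_le_of_pow_mem (p := p) ?_ fun g => ?_
    · rw [commutator_def, Subgroup.commutator_le]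
      intro a _ b _
      rw [MonoidHom.mem_ker, map_commutatorElement, commutatorElement_eq_one_iff_mul_comm]
      exact Subgroup.mem_center_iff.1 (hZc (hμZ b)) (μ a)
    · rw [MonoidHom.mem_ker, map_pow, hμp]
  have hcop : p.Coprime m := (Nat.Prime.coprime_iff_not_dvd Fact.out).2 hpm
  have hμK : F.hyperfocalSubgroup p ≤ μ.ker.map S.subtype := by
    refine hyperfocal_le_of_coprime fun P hP α hα hc x => ?_
    have h1 := hom_kills hE (μ.comp (Subgroup.inclusion hP)) hc (fun y => ?_) x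
    · exact ⟨_, h1, rfl⟩
    · set u := y⁻¹ * α y with hu
      have hu1 : Subgroup.inclusion hP u ∈ K := mem_hyperfocal_of_coprime hP hα hc y
      have hu2 : Subgroup.inclusion hP (α u) ∈ K := by
        have h2 := mem_hyperfocal_of_coprime hP hα hc (α y) (p := p)
        rw [hu, map_mul, map_inv]
        exact h2
      have h3 : θ (Subgroup.inclusion hP (α u)) ^ m * μ (Subgroup.inclusion hP u) =
          θ (Subgroup.inclusion hP u) ^ m * μ (Subgroup.inclusion hP (α u)) :=
        hrel P _ ((mem_autGroup hP).1 hα) u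
          (show θ (Subgroup.inclusion hP u) ∈ Z by rw [(hker _).2 (hKN hu1)]; exact Z.one_mem)
      rw [(hker _).2 (hKN hu1), (hker _).2 (hKN hu2), one_pow, one_mul, one_mul] at h3
      exact h3.symm
  have hμT : ∀ w ∈ T, μ w = 1 := by
    have hle : K ≤ μ.ker := fun w hw => by
      obtain ⟨w', hw', he⟩ := hμK hw
      rw [← show w' = w from Subtype.ext he]
      exact hw'
    exact fun w hw => (sup_le hμΦ hle) (hΦ hw)
  intro P φ hφ x hx
  have hxZ : θ (⟨x, hom_le hφ x.2⟩ : S) ∈ Z := (show _ ∈ Z.comap θ from hTZ ▸ hx)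
  have hvT : (⟨φ x, hom_mem hφ x⟩ : S) ∈ T := by
    obtain ⟨c, hc, hcx⟩ := exists_conj_mod hS hF hKn le_rfl (hyperfocal_le F) P φ hφ
    have h1 := T.mul_mem ((inferInstance : T.Normal).conj_mem _ hx ⟨c, hc⟩)
      (hT.le (show (⟨_, (S.mul_mem (S.inv_mem (S.mul_mem (S.mul_mem hc (hom_le hφ x.2))
        (S.inv_mem hc))) (hom_mem hφ x))⟩ : S) ∈ K from hcx x))
    convert h1 using 1
    exact Subtype.ext (by simp [mul_assoc])
  have h := hrel P φ hφ x hxZ
  rw [hμT _ hx, hμT _ hvT, mul_one, mul_one] at h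
  exact (hE.powEquiv hcop).injective h

theorem mem_commutator_of_mem_pResidual {G : Type*} [Group G] [Finite G] {p : ℕ} [Fact p.Prime]
    {x : G} (hx : x ∈ pResidual p G) {k : ℕ} (hk : x ^ p ^ k = 1) : x ∈ commutator G := by
  have key : ∀ y ∈ pResidual p G, ∃ n : ℕ, n.Coprime p ∧ Abelianization.of y ^ n = 1 := by
    intro y hy
    induction hy using Subgroup.closure_induction with
    | mem y hy => exact ⟨orderOf y, hy, by rw [← map_pow, pow_orderOf_eq_one, map_one]⟩
    | one => exact ⟨1, Nat.coprime_one_left p, by simp⟩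
    | mul a b _ _ ha hb =>
      obtain ⟨m, hm, ham⟩ := ha
      obtain ⟨n, hn, hbn⟩ := hb
      refine ⟨m * n, hm.mul_left hn, ?_⟩
      rw [map_mul, mul_pow, pow_mul, ham, one_pow, one_mul, mul_comm, pow_mul, hbn, one_pow]
    | inv a _ ha =>
      obtain ⟨m, hm, ham⟩ := ha
      exact ⟨m, hm, by rw [map_inv, inv_pow, ham, inv_one]⟩
  obtain ⟨n, hn, hxn⟩ := key x hx
  have h := pow_gcd_eq_one.2 ⟨hxn, show Abelianization.of x ^ p ^ k = 1 by
    rw [← map_pow, hk, map_one]⟩
  rw [Nat.Coprime.pow_right k hn, pow_one] at h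
  rw [← Abelianization.ker_of]
  exact h

theorem mem_focalSubgroup_of_mem_pResidual {G : Type*} [Group G] [Finite G] {p : ℕ} [Fact p.Prime]
    (P : Sylow p G) {x : G} (hx : x ∈ pResidual p G) (hxP : x ∈ (P : Subgroup G)) :
    x ∈ (P : Subgroup G).focalSubgroup := by
  obtain ⟨k, hk⟩ := P.isPGroup' ⟨x, hxP⟩
  rw [← Subgroup.commutator_inf_eq_focalSubgroup]
  exact ⟨mem_commutator_of_mem_pResidual hx (congrArg Subtype.val hk), hxP⟩

/-- A stable homomorphism on a Sylow subgroup of a group without `p`-quotient is trivial. -/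
theorem hom_eq_one_of_stable {G : Type*} [Group G] [Finite G] {p : ℕ} [Fact p.Prime]
    (hG : pResidual p G = ⊤) (P : Sylow p G) {E : Type*} [Group E] (f : ↥(P : Subgroup G) →* E)
    (hf : ∀ (g : G) (u v : ↥(P : Subgroup G)), (v : G) = g * (u : G) * g⁻¹ → f v = f u)
    (x : ↥(P : Subgroup G)) : f x = 1 := by
  have h := mem_focalSubgroup_of_mem_pResidual P (hG ▸ Subgroup.mem_top (x : G)) x.2
  have hle : (P : Subgroup G).focalSubgroup ≤ f.ker.map (P : Subgroup G).subtype := by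
    rw [← Subgroup.map_focalSubgroupOf, Subgroup.focalSubgroupOf_eq_closure]
    refine Subgroup.map_mono ((Subgroup.closure_le _).2 ?_)
    rintro w ⟨a, ha, u, hw⟩
    have hv : u * a⁻¹ * u⁻¹ ∈ (P : Subgroup G) := by
      have h1 := (P : Subgroup G).mul_mem ((P : Subgroup G).inv_mem ha) w.2
      rw [hw, commutatorElement_def] at h1
      simpa [mul_assoc] using h1
    have hweq : w = (⟨a, ha⟩ : ↥(P : Subgroup G)) * ⟨u * a⁻¹ * u⁻¹, hv⟩ := by
      refine Subtype.ext ?_
      rw [hw, commutatorElement_def]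
      simp [mul_assoc]
    show f w = 1
    rw [hweq, map_mul, hf u ⟨a, ha⟩⁻¹ ⟨u * a⁻¹ * u⁻¹, hv⟩ rfl, map_inv, mul_inv_cancel]
  obtain ⟨w, hw, hwe⟩ := hle h
  rw [show x = w from Subtype.ext hwe.symm]
  exact hw

variable {G : Type*} [Group G] [Finite G] {p : ℕ} [Fact p.Prime]

theorem hyperfocal_group_le (S : Sylow p G) :
    (groupFusionSystem (S : Subgroup G)).hyperfocalSubgroup p ≤
      (S : Subgroup G) ⊓ pResidual p G := by
  refine hyperfocal_le_of_coprime fun P hP α hα hc x => ?_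
  refine ⟨(S : Subgroup G).mul_mem ((S : Subgroup G).inv_mem (hP x.2)) (hP (α x).2), ?_⟩
  obtain ⟨-, -, n, hn⟩ := (mem_autGroup hP).1 hα
  -- replace `n` by its `p'`-part
  obtain ⟨k, m, hm, he⟩ := Nat.exists_eq_pow_mul_and_not_dvd (orderOf_pos n).ne' p
    (Fact.out : p.Prime).ne_one
  have hcopm : (p ^ k).Coprime (orderOf α) := (hc.symm).pow_left k
  obtain ⟨j, hj⟩ := exists_pow_eq_self_of_coprime hcopm
  have hn' : (n ^ p ^ k) ^ j ∈ pResidual p G := by
    refine Subgroup.pow_mem _ (Cfsg.Lib.Fusion.mem_pResidual_of_coprime ?_) j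
    rw [orderOf_pow_of_dvd (pow_pos (Fact.out : p.Prime).pos k).ne' (he ▸ dvd_mul_right _ _), he,
      Nat.mul_div_cancel_left _ (pow_pos (Fact.out : p.Prime).pos k)]
    exact Nat.Coprime.symm ((Nat.Prime.coprime_iff_not_dvd Fact.out).2 hm)
  set c := (n ^ p ^ k) ^ j with hcdef
  have hαx : (α x : G) = c * (x : G) * c⁻¹ := by
    conv_lhs => rw [← hj, ← pow_mul]
    rw [aut_pow_apply hn, hcdef, pow_mul]
  have hnormal : (pResidual p G).Normal := inferInstance
  rw [hαx, show (x : G)⁻¹ * (c * (x : G) * c⁻¹) = ((x : G)⁻¹ * c * (x : G)) * c⁻¹ by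
    simp [mul_assoc]]
  refine (pResidual p G).mul_mem ?_ ((pResidual p G).inv_mem hn')
  simpa using hnormal.conj_mem c hn' (x : G)⁻¹

/-- Puig's hyperfocal subgroup theorem. -/
theorem hyperfocal_group_eq (S : Sylow p G) :
    (groupFusionSystem (S : Subgroup G)).hyperfocalSubgroup p =
      (S : Subgroup G) ⊓ pResidual p G := by
  set F := groupFusionSystem (S : Subgroup G) with hFdef
  have hS := S.isPGroup'
  have hF := isSaturated_groupFusionSystem S
  set L := pResidual p G with hLdef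
  haveI hLn : L.Normal := inferInstance
  set T : Subgroup ↥(S : Subgroup G) := L.subgroupOf (S : Subgroup G) with hTdef
  refine le_antisymm (hyperfocal_group_le S) ?_
  by_contra hnle
  have hlt : (F.hyperfocalSubgroup p).subgroupOf (S : Subgroup G) < T := by
    refine lt_of_le_of_ne (fun x hx => (hyperfocal_group_le S hx).2) fun he => hnle fun y hy => ?_
    exact (he.ge (show (⟨y, hy.1⟩ : ↥(S : Subgroup G)) ∈ T from hy.2) :
      y ∈ F.hyperfocalSubgroup p)
  haveI : T.Normal := inferInstance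
  have hΦ : T ≤ frattini _ ⊔ (F.hyperfocalSubgroup p).subgroupOf (S : Subgroup G) := by
    have hfocal : (S : Subgroup G).focalSubgroup ≤ F.focalSubgroup := by
      rw [← Subgroup.map_focalSubgroupOf, Subgroup.focalSubgroupOf_eq_closure, Subgroup.map_le_iff_le_comap,
        Subgroup.closure_le]
      rintro w ⟨a, ha, u, hw⟩
      have hv : u * a⁻¹ * u⁻¹ ∈ (S : Subgroup G) := by
        have h1 := (S : Subgroup G).mul_mem ((S : Subgroup G).inv_mem ha) w.2
        rw [hw, commutatorElement_def] at h1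
        simpa [mul_assoc] using h1
      refine Subgroup.subset_closure ⟨Subgroup.zpowers a⁻¹, conjHom _ u,
        ⟨a⁻¹, Subgroup.mem_zpowers _⟩,
        ⟨Subgroup.zpowers_le.2 ((S : Subgroup G).inv_mem ha), fun y => ?_, u, fun y => rfl⟩, ?_⟩
      · obtain ⟨i, hi⟩ := Subgroup.mem_zpowers_iff.1 y.2
        show u * (y : G) * u⁻¹ ∈ (S : Subgroup G)
        rw [← hi, show u * a⁻¹ ^ i * u⁻¹ = (u * a⁻¹ * u⁻¹) ^ i from (conj_zpow).symm]
        exact (S : Subgroup G).zpow_mem hv i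
      · show (w : G) = a⁻¹⁻¹ * (u * a⁻¹ * u⁻¹)
        rw [hw, commutatorElement_def]
        simp [mul_assoc]
    intro x hx
    have h1 := hfocal (mem_focalSubgroup_of_mem_pResidual S hx x.2)
    rw [focal_eq_hyperfocal_sup hS hF, ← map_commutator_self,
      ← Subgroup.map_subgroupOf_eq_of_le (hyperfocal_le F (p := p)), ← Subgroup.map_sup] at h1
    obtain ⟨w, hw, hwe⟩ := h1
    rw [show x = w from Subtype.ext hwe.symm]
    exact (sup_le le_sup_right
      ((Cfsg.Lib.PGroup.commutator_le_frattini hS).trans le_sup_left)) hw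
  obtain ⟨N, hNn, hNT, hstab⟩ := exists_stable_hom hS hF hlt hΦ
  -- the Sylow subgroup of the residual
  have hTp : IsPGroup p ((S : Subgroup G).subgroupOf L) := hS.comap_subtype
  obtain ⟨P, hP⟩ := hTp.exists_le_sylow
  have hPeq : (P : Subgroup L) = (S : Subgroup G).subgroupOf L := by
    refine le_antisymm (fun y hy => ?_) hP
    have hU : IsPGroup p ((P : Subgroup L).map L.subtype) := P.isPGroup'.map _
    obtain ⟨g, -, hg⟩ := pConjInto_sylow S _ le_top hU
    -- orders
    have h1 : (S : Subgroup G) ⊓ L ≤ (P : Subgroup L).map L.subtype := fun z hz =>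
      ⟨⟨z, hz.2⟩, hP hz.1, rfl⟩
    have h2 : ((P : Subgroup L).map L.subtype).map (MulAut.conj g).toMonoidHom ≤
        (S : Subgroup G) ⊓ L := le_inf (by
        rintro _ ⟨y, hy, rfl⟩
        exact hg y hy) (by
      rintro _ ⟨_, ⟨z, -, rfl⟩, rfl⟩
      exact hLn.conj_mem _ z.2 g)
    have h3 := Subgroup.eq_of_le_of_card_ge h1 (by
      rw [← card_conj_map ((P : Subgroup L).map L.subtype) g]
      exact Subgroup.card_le_of_le h2)
    exact (h3.ge (Subgroup.mem_map_of_mem _ hy)).1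
  have hfS : ∀ y : ↥(P : Subgroup L), ((y : L) : G) ∈ (S : Subgroup G) := fun y => hPeq.le y.2
  let f : ↥(P : Subgroup L) →* ↥(S : Subgroup G) ⧸ N :=
    (QuotientGroup.mk' N).comp
      ((L.subtype.comp (P : Subgroup L).subtype).codRestrict (S : Subgroup G) hfS)
  have hkill := hom_eq_one_of_stable (Cfsg.Lib.Fusion.pResidual_pResidual p G) P f (by
    intro g u v hv
    have hφ : conjHom (Subgroup.zpowers ((u : L) : G)) (g : G) ∈
        F.Hom (Subgroup.zpowers ((u : L) : G)) := by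
      refine ⟨Subgroup.zpowers_le.2 (hfS u), fun y => ?_, g, fun y => rfl⟩
      obtain ⟨i, hi⟩ := Subgroup.mem_zpowers_iff.1 y.2
      show (g : G) * (y : G) * (g : G)⁻¹ ∈ (S : Subgroup G)
      rw [← hi, ← conj_zpow]
      refine (S : Subgroup G).zpow_mem ?_ i
      have h := hfS v
      rw [hv] at h
      exact h
    have h := hstab _ _ hφ ⟨_, Subgroup.mem_zpowers _⟩ (u : L).2
    refine Eq.trans (congrArg (QuotientGroup.mk' N) (Subtype.ext ?_)) h
    exact congrArg (fun z : L => (z : G)) hv)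
  refine hNT.not_ge fun x hx => ?_
  have hxP : (⟨(x : G), hx⟩ : L) ∈ (P : Subgroup L) := hPeq ▸ x.2
  exact (QuotientGroup.eq_one_iff x).1 (hkill ⟨_, hxP⟩)

end Cfsg.Lib.FusionSys
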