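import Cfsg.Agent.Lib.FusionSys.Biset
import Cfsg.Agent.Lib.FusionSys.Normal

/-!
The group of permutations of a biset commuting with the right action and intertwining the left action of a
normal centric subgroup `Q`; it has a quotient that is an extension of automorphisms of `Q` by `Z(Q)`.
-/

set_option autoImplicit false

universe u v

namespace Cfsg.Lib.FusionSys

open Cfsg Cfsg.FusionSystem
open MulAction
open scoped IsMulCommutative

variable {Ω : Type u} [Group Ω] {S : Subgroup Ω} {F : FusionSystem S}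
variable {Q : Subgroup Ω} {X : Type v} [MulAction (↥S × ↥S) X]

/-- The automorphism of `Q` induced by an element of `S`. -/
def conjOn (hQn : S ≤ Subgroup.normalizer (Q : Set Ω)) : S →* MulAut Q :=
  Q.normalizerMonoidHom.comp (Subgroup.inclusion hQn)

theorem coe_conjOn (hQn : S ≤ Subgroup.normalizer (Q : Set Ω)) (s : S) (q : Q) :
    ((conjOn hQn s q : Q) : Ω) = (s : Ω) * q * (s : Ω)⁻¹ := rfl

/-- Permutations commuting with the right action and twisting the left action of `Q`. -/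
def intertwiners (hQS : Q ≤ S) (X : Type v) [MulAction (↥S × ↥S) X] :
    Subgroup (MulAut Q × Equiv.Perm X) where
  carrier := {z | (∀ (t : S) (x : X), z.2 (((1 : S), t) • x) = ((1 : S), t) • z.2 x) ∧
    ∀ (q : Q) (x : X), z.2 ((Subgroup.inclusion hQS q, (1 : S)) • x) =
      (Subgroup.inclusion hQS (z.1 q), (1 : S)) • z.2 x}
  one_mem' := ⟨fun _ _ => rfl, fun _ _ => rfl⟩
  mul_mem' {a b} ha hb := ⟨fun t x => by
      simp only [Prod.snd_mul, Equiv.Perm.mul_apply, hb.1, ha.1],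
    fun q x => by
      simp only [Prod.snd_mul, Prod.fst_mul, Equiv.Perm.mul_apply, MulAut.mul_apply, hb.2, ha.2]⟩
  inv_mem' {a} ha := ⟨fun t x => by
      apply a.2.injective
      simp [ha.1],
    fun q x => by
      apply a.2.injective
      simp [ha.2]⟩

/-- The automorphism of `Q` under an intertwiner. -/
def sigmaOn (hQS : Q ≤ S) (X : Type v) [MulAction (↥S × ↥S) X] :
    intertwiners hQS X →* MulAut Q :=
  (MonoidHom.fst _ _).comp (intertwiners hQS X).subtype

theorem intertwiner_right {hQS : Q ≤ S} (z : intertwiners hQS X) (t : S) (x : X) :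
    z.1.2 (((1 : S), t) • x) = ((1 : S), t) • z.1.2 x := z.2.1 t x

theorem intertwiner_left {hQS : Q ≤ S} (z : intertwiners hQS X) (q : Q) (x : X) :
    z.1.2 ((Subgroup.inclusion hQS q, (1 : S)) • x) =
      (Subgroup.inclusion hQS (sigmaOn hQS X z q), (1 : S)) • z.1.2 x := z.2.2 q x

/-- The left action of an element of `S`, as an intertwiner. -/
def leftPair (hQS : Q ≤ S) (hQn : S ≤ Subgroup.normalizer (Q : Set Ω)) (X : Type v)
    [MulAction (↥S × ↥S) X] : S →* intertwiners hQS X :=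
  MonoidHom.codRestrict
    ((conjOn hQn).prod ((MulAction.toPermHom (↥S × ↥S) X).comp (MonoidHom.inl S S))) _
    fun s => by
      refine ⟨fun t x => ?_, fun q x => ?_⟩
      · show (s, (1 : S)) • ((1 : S), t) • x = ((1 : S), t) • (s, (1 : S)) • x
        rw [← mul_smul, ← mul_smul, Prod.mk_mul_mk, Prod.mk_mul_mk, one_mul, mul_one, one_mul,
          mul_one]
      · show (s, (1 : S)) • (Subgroup.inclusion hQS q, (1 : S)) • x =
          (Subgroup.inclusion hQS (conjOn hQn s q), (1 : S)) • (s, (1 : S)) • x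
        rw [← mul_smul, ← mul_smul, Prod.mk_mul_mk, Prod.mk_mul_mk]
        refine congrArg (fun y : S => (y, (1 : S) * 1) • x) (Subtype.ext ?_)
        simp [coe_conjOn, mul_assoc]

theorem sigmaOn_leftPair (hQS : Q ≤ S) (hQn : S ≤ Subgroup.normalizer (Q : Set Ω)) (s : S) :
    sigmaOn hQS X (leftPair hQS hQn X s) = conjOn hQn s := rfl

theorem leftPair_apply (hQS : Q ≤ S) (hQn : S ≤ Subgroup.normalizer (Q : Set Ω)) (s : S) (x : X) :
    (leftPair hQS hQn X s).1.2 x = (s, (1 : S)) • x := rfl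

/-- Right orbits. -/
def sideSetoid (S : Subgroup Ω) (X : Type v) [MulAction (↥S × ↥S) X] : Setoid X where
  r x y := ∃ t : S, ((1 : S), t) • x = y
  iseqv :=
    { refl := fun x => ⟨1, by simp [← Prod.one_eq_mk]⟩
      symm := fun {x y} ⟨t, ht⟩ => ⟨t⁻¹, by
        rw [← ht, ← mul_smul, Prod.mk_mul_mk, one_mul, inv_mul_cancel, ← Prod.one_eq_mk, one_smul]⟩
      trans := fun {x y z} ⟨t, ht⟩ ⟨t', ht'⟩ => ⟨t' * t, by
        rw [← ht', ← ht, ← mul_smul, Prod.mk_mul_mk, one_mul]⟩ }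

/-- Intertwiners permute the right orbits. -/
def orbitPerm (hQS : Q ≤ S) (X : Type v) [MulAction (↥S × ↥S) X] :
    intertwiners hQS X →* Equiv.Perm (Quotient (sideSetoid S X)) where
  toFun z := Quotient.congr z.1.2 fun x y => by
    constructor
    · rintro ⟨t, rfl⟩
      exact ⟨t, (z.2.1 t x).symm⟩
    · rintro ⟨t, ht⟩
      exact ⟨t, z.1.2.injective ((z.2.1 t x).trans ht)⟩
  map_one' := Equiv.ext fun o => by
    induction o using Quotient.inductionOn with
    | h x => rfl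
  map_mul' a b := Equiv.ext fun o => by
    induction o using Quotient.inductionOn with
    | h x => rfl

/-- The hypotheses on the biset. -/
structure ModelSet (F : FusionSystem S) (p : ℕ) (Q : Subgroup Ω) (X : Type v)
    [MulAction (↥S × ↥S) X] : Prop where
  closed : F.StronglyClosed Q
  centric : centralizerIn S Q ≤ Q
  pgroup : IsPGroup p S
  graph : ∀ x : X, ∃ (P : Subgroup Ω) (φ : P →* Ω) (hφ : φ ∈ F.Hom P),
    (graphHom hφ).range = stabilizer (↥S × ↥S) x
  card : ∃ m : ℕ, Nat.card X = m * Nat.card S ∧ ¬ p ∣ m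

/-- `α` is the map of `Q` at the point `x`. -/
def IsPhi (hQS : Q ≤ S) (x : X) (α : MulAut Q) : Prop :=
  ∀ q : Q, (Subgroup.inclusion hQS q, Subgroup.inclusion hQS (α q)) • x = x

namespace ModelSet

variable {p : ℕ} (h : ModelSet F p Q X)

include h

theorem hQS : Q ≤ S := h.closed.1

theorem hQn : S ≤ Subgroup.normalizer (Q : Set Ω) := stronglyClosed_le_normalizer h.closed

theorem free {t : S} {x : X} (ht : ((1 : S), t) • x = x) : t = 1 := by
  obtain ⟨P, φ, hφ, hD⟩ := h.graph x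
  have h1 : ((1 : S), t) ∈ stabilizer (↥S × ↥S) x := ht
  rw [← hD, mem_graph] at h1
  obtain ⟨y, hy1, hy2⟩ := h1
  have hy : y = 1 := Subtype.ext hy1.symm
  exact Subtype.ext (by rw [hy2, hy, map_one]; rfl)

theorem left_faithful {s : S} {x : X} (hs : (s, (1 : S)) • x = x) : s = 1 := by
  obtain ⟨P, φ, hφ, hD⟩ := h.graph x
  have h1 : (s, (1 : S)) ∈ stabilizer (↥S × ↥S) x := hs
  rw [← hD, mem_graph] at h1
  obtain ⟨y, hy1, hy2⟩ := h1
  have hy : y = 1 := F.injective_of_mem hφ (hy2.symm.trans (by simp))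
  exact Subtype.ext (by rw [hy1, hy]; rfl)

theorem right_injective {t t' : S} {x : X} (ht : ((1 : S), t) • x = ((1 : S), t') • x) : t = t' := by
  have h1 : ((1 : S), t'⁻¹ * t) • x = x := by
    rw [show ((1 : S), t'⁻¹ * t) = ((1 : S), t'⁻¹) * ((1 : S), t) by simp, mul_smul, ht,
      ← mul_smul]
    simp [← Prod.one_eq_mk]
  exact (inv_mul_eq_one.1 (h.free h1)).symm

theorem phi_unique {x : X} {α β : MulAut Q} (hα : IsPhi h.hQS x α) (hβ : IsPhi h.hQS x β) :
    α = β := by
  apply MulEquiv.ext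
  intro q
  have h1 := (hα q).trans (hβ q).symm
  have h2 : ((1 : S), (Subgroup.inclusion h.hQS (β q))⁻¹ * Subgroup.inclusion h.hQS (α q)) • x = x := by
    have h3 := congrArg
      (((Subgroup.inclusion h.hQS q)⁻¹, (Subgroup.inclusion h.hQS (β q))⁻¹) • ·) h1
    simp only [← mul_smul, Prod.mk_mul_mk, inv_mul_cancel] at h3
    rw [h3]
    exact one_smul _ x
  exact Subgroup.inclusion_injective _ (inv_mul_eq_one.1 (h.free h2)).symm

theorem phi_smul {x : X} {α : MulAut Q} (hα : IsPhi h.hQS x α) (t : S) :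
    IsPhi h.hQS (((1 : S), t) • x) (conjOn h.hQn t * α) := by
  intro q
  conv_rhs => rw [← hα q]
  rw [← mul_smul, ← mul_smul, Prod.mk_mul_mk, Prod.mk_mul_mk, mul_one, one_mul]
  refine congrArg (fun y : S => (Subgroup.inclusion h.hQS q, y) • x) (Subtype.ext ?_)
  simp [coe_conjOn, MulAut.mul_apply, mul_assoc]

theorem phi_map {x : X} {α : MulAut Q} (hα : IsPhi h.hQS x α) (z : intertwiners h.hQS X) :
    IsPhi h.hQS (z.1.2 x) (α * (sigmaOn h.hQS X z)⁻¹) := by
  intro q
  obtain ⟨q', rfl⟩ := (sigmaOn h.hQS X z).surjective q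
  rw [MulAut.mul_apply, MulAut.inv_apply_self]
  conv_rhs => rw [← hα q']
  have hp : ∀ a b : S, (a, b) = ((1 : S), b) * (a, (1 : S)) := fun a b => by simp
  rw [hp _ (Subgroup.inclusion h.hQS (α q')), mul_smul, ← intertwiner_left,
    ← intertwiner_right, ← mul_smul, ← hp]

theorem exists_phi [Finite S] {o : Quotient (sideSetoid S X)}
    (ho : ∀ q : Q, orbitPerm h.hQS X (leftPair h.hQS h.hQn X (Subgroup.inclusion h.hQS q)) o = o)
    {x : X} (hx : Quotient.mk _ x = o) : ∃ α ∈ F.autGroup Q, IsPhi h.hQS x α := by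
  subst hx
  obtain ⟨P, φ, hφ, hD⟩ := h.graph x
  have key : ∀ q : Q, ∃ t : S, (Subgroup.inclusion h.hQS q, t) • x = x := fun q => by
    obtain ⟨t, ht⟩ := Quotient.exact (ho q)
    refine ⟨t, ?_⟩
    rw [leftPair_apply, ← mul_smul, Prod.mk_mul_mk, one_mul, mul_one] at ht
    exact ht
  have hQP : Q ≤ P := by
    intro q hq
    obtain ⟨t, ht⟩ := key ⟨q, hq⟩
    have h1 : (Subgroup.inclusion h.hQS ⟨q, hq⟩, t) ∈ stabilizer (↥S × ↥S) x := ht
    rw [← hD, mem_graph] at h1
    obtain ⟨y, hy1, -⟩ := h1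
    have h2 : q = (y : Ω) := hy1
    exact h2 ▸ y.2
  have hm := restrict_mem hφ hQP
  have hr := range_eq_of_card_le hm h.hQS
    (fun q => stronglyClosed_apply_mem h.closed hφ (x := Subgroup.inclusion hQP q) q.2) le_rfl
  refine ⟨homIso hm hr, (mem_autGroup h.hQS).2 (isoIn_homIso hm hr), fun q => ?_⟩
  have h1 : (Subgroup.inclusion h.hQS q, Subgroup.inclusion h.hQS (homIso hm hr q)) ∈
      stabilizer (↥S × ↥S) x := by
    rw [← hD, mem_graph]
    exact ⟨Subgroup.inclusion hQP q, rfl, rfl⟩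
  exact h1

theorem card_orbits [Finite X] :
    Nat.card X = Nat.card (Quotient (sideSetoid S X)) * Nat.card S := by
  rw [← Nat.card_prod]
  refine (Nat.card_congr (Equiv.ofBijective
    (fun z : Quotient (sideSetoid S X) × S => ((1 : S), z.2) • z.1.out) ⟨?_, ?_⟩)).symm
  · rintro ⟨o, t⟩ ⟨o', t'⟩ hz
    have h1 : ∀ (o : Quotient (sideSetoid S X)) (t : S),
        Quotient.mk (sideSetoid S X) (((1 : S), t) • o.out) = o := fun o t => by
      conv_rhs => rw [← Quotient.out_eq o]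
      exact (Quotient.sound (s := sideSetoid S X) ⟨t, rfl⟩).symm
    have h2 : o = o' := by
      rw [← h1 o t, ← h1 o' t']
      exact congrArg _ hz
    subst h2
    exact Prod.ext rfl (h.right_injective hz)
  · intro x
    obtain ⟨t, ht⟩ := Quotient.mk_out (s := sideSetoid S X) x
    exact ⟨(Quotient.mk _ x, t), ht⟩

/-- The right orbits fixed by `Q`. -/
abbrev FixedOrbit : Type v :=
  {o : Quotient (sideSetoid S X) //
    ∀ q : Q, orbitPerm h.hQS X (leftPair h.hQS h.hQn X (Subgroup.inclusion h.hQS q)) o = o}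

theorem orbitPerm_fixed (z : intertwiners h.hQS X) (o : h.FixedOrbit) (q : Q) :
    orbitPerm h.hQS X (leftPair h.hQS h.hQn X (Subgroup.inclusion h.hQS q))
      (orbitPerm h.hQS X z o.1) = orbitPerm h.hQS X z o.1 := by
  obtain ⟨o, ho⟩ := o
  obtain ⟨q', rfl⟩ := (sigmaOn h.hQS X z).surjective q
  show orbitPerm _ _ _ (orbitPerm _ _ z o) = orbitPerm _ _ z o
  conv_rhs => rw [← ho q']
  induction o using Quotient.inductionOn with
  | h x => exact congrArg (Quotient.mk (sideSetoid S X)) (intertwiner_left z q' x).symm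

/-- The permutation of fixed orbits. -/
def fixedPerm : intertwiners h.hQS X →* Equiv.Perm h.FixedOrbit where
  toFun z :=
    { toFun := fun o => ⟨orbitPerm h.hQS X z o.1, h.orbitPerm_fixed z o⟩
      invFun := fun o => ⟨orbitPerm h.hQS X z⁻¹ o.1, h.orbitPerm_fixed z⁻¹ o⟩
      left_inv := fun o => Subtype.ext (by simp)
      right_inv := fun o => Subtype.ext (by simp) }
  map_one' := Equiv.ext fun o => Subtype.ext (by simp)
  map_mul' a b := Equiv.ext fun o => Subtype.ext (by simp)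

theorem fixedPerm_coe (z : intertwiners h.hQS X) (o : h.FixedOrbit) :
    (h.fixedPerm z o).1 = orbitPerm h.hQS X z o.1 := rfl

theorem not_dvd_card_fixedOrbit [Finite S] [Finite X] [Fact p.Prime] :
    ¬ p ∣ Nat.card h.FixedOrbit := by
  obtain ⟨m, hm, hpm⟩ := h.card
  have hO : Nat.card (Quotient (sideSetoid S X)) = m :=
    Nat.eq_of_mul_eq_mul_right (Nat.card_pos (α := ↥S)) (by rw [← h.card_orbits, hm])
  haveI : Finite (Quotient (sideSetoid S X)) :=
    Finite.of_surjective _ Quotient.mk_surjective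
  letI : MulAction Q (Quotient (sideSetoid S X)) :=
    MulAction.compHom _ ((orbitPerm h.hQS X).comp
      ((leftPair h.hQS h.hQn X).comp (Subgroup.inclusion h.hQS)))
  have h1 := (h.pgroup.to_le h.hQS).card_modEq_card_fixedPoints (Quotient (sideSetoid S X))
  intro hd
  refine hpm ?_
  rw [← hO]
  refine (Nat.ModEq.dvd_iff h1 dvd_rfl).2 ?_
  convert hd using 1
  exact Nat.card_congr (Equiv.subtypeEquivRight fun _ => Iff.rfl)

theorem nonempty_fixedOrbit [Finite S] [Finite X] [Fact p.Prime] : Nonempty h.FixedOrbit := by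
  by_contra hn
  haveI : IsEmpty h.FixedOrbit := not_nonempty_iff.1 hn
  exact h.not_dvd_card_fixedOrbit (by simp)

theorem sigmaOn_mem [Finite S] [Finite X] [Fact p.Prime] (z : intertwiners h.hQS X) :
    sigmaOn h.hQS X z ∈ F.autGroup Q := by
  obtain ⟨o⟩ := h.nonempty_fixedOrbit
  obtain ⟨α, hα, hx⟩ := h.exists_phi o.2 o.1.out_eq
  have hfix := (h.fixedPerm z o).2
  rw [fixedPerm_coe] at hfix
  obtain ⟨β, hβ, hzx⟩ := h.exists_phi hfix (x := z.1.2 o.1.out) (by
    conv_rhs => rw [← o.1.out_eq]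
    rfl)
  have h1 := h.phi_unique hzx (h.phi_map hx z)
  have h2 : sigmaOn h.hQS X z = β⁻¹ * α := by
    rw [h1]
    simp
  rw [h2]
  exact Subgroup.mul_mem _ (Subgroup.inv_mem _ hβ) hα

theorem leftPair_injective [Finite S] [Finite X] [Fact p.Prime] :
    Function.Injective (leftPair h.hQS h.hQn X) := by
  rw [injective_iff_map_eq_one]
  intro s hs
  obtain ⟨o⟩ := h.nonempty_fixedOrbit
  refine h.left_faithful (x := o.1.out) ?_
  rw [← leftPair_apply h.hQS h.hQn, hs]
  rfl

/-- The class representative of an automorphism modulo `Aut_S(Q)`. -/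
noncomputable def classRep (φ : MulAut Q) : MulAut Q :=
  (Quotient.mk (QuotientGroup.rightRel (conjOn h.hQn).range) φ).out

theorem exists_classRep (φ : MulAut Q) : ∃ s : S, φ = conjOn h.hQn s * h.classRep φ := by
  have h1 := Quotient.mk_out (s := QuotientGroup.rightRel (conjOn h.hQn).range) φ
  rw [QuotientGroup.rightRel_apply] at h1
  obtain ⟨s, hs⟩ := h1
  exact ⟨s, by rw [hs, classRep, inv_mul_cancel_right]⟩

theorem classRep_smul (φ : MulAut Q) (s : S) :
    h.classRep (conjOn h.hQn s * φ) = h.classRep φ := by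
  unfold classRep
  congr 1
  apply Quotient.sound
  show QuotientGroup.rightRel _ (conjOn h.hQn s * φ) φ
  rw [QuotientGroup.rightRel_apply, mul_inv_rev, mul_inv_cancel_left]
  exact Subgroup.inv_mem _ ⟨s, rfl⟩

theorem exists_base [Finite S] (o : h.FixedOrbit) :
    ∃ (w : X) (ρ : MulAut Q), Quotient.mk _ w = o.1 ∧ IsPhi h.hQS w ρ ∧ h.classRep ρ = ρ := by
  obtain ⟨α, -, hx⟩ := h.exists_phi o.2 o.1.out_eq
  obtain ⟨s, hs⟩ := h.exists_classRep α
  refine ⟨((1 : S), s⁻¹) • o.1.out, conjOn h.hQn s⁻¹ * α, ?_, h.phi_smul hx s⁻¹, ?_⟩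
  · conv_rhs => rw [← o.1.out_eq]
    exact (Quotient.sound (s := sideSetoid S X) ⟨s⁻¹, rfl⟩).symm
  · rw [h.classRep_smul, map_inv]
    conv_rhs => rw [hs, inv_mul_cancel_left]

theorem mem_of_conjOn_eq_one {t : S} (ht : conjOn h.hQn t = 1) :
    ∃ hm : (t : Ω) ∈ Q, (⟨t, hm⟩ : Q) ∈ Subgroup.center Q := by
  have hc : (t : Ω) ∈ centralizerIn S Q := mem_centralizerIn.2 ⟨t.2, fun q hq => by
    have h1 : ((conjOn h.hQn t ⟨q, hq⟩ : Q) : Ω) = q := by rw [ht]; rfl
    rw [coe_conjOn] at h1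
    exact mul_inv_eq_iff_eq_mul.1 h1⟩
  refine ⟨h.centric hc, Subgroup.mem_center_iff.2 fun q => Subtype.ext ?_⟩
  exact ((mem_centralizerIn.1 hc).2 q q.2).symm

theorem conjOn_inclusion_center {q : Q} (hq : q ∈ Subgroup.center Q) :
    conjOn h.hQn (Subgroup.inclusion h.hQS q) = 1 := by
  apply MulEquiv.ext
  intro y
  refine Subtype.ext ?_
  have h1 : (y : Ω) * q = q * y := congrArg Subtype.val (Subgroup.mem_center_iff.1 hq y)
  rw [coe_conjOn]
  show (q : Ω) * y * (q : Ω)⁻¹ = y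
  rw [← h1, mul_inv_cancel_right]

/-- The normal subgroup whose quotient is the universal model. -/
theorem exists_model_kernel [Finite S] [Finite X] [Fact p.Prime] :
    ∃ M : Subgroup (intertwiners h.hQS X), M.Normal ∧ M ≤ (sigmaOn h.hQS X).ker ∧
      (∀ c ∈ (sigmaOn h.hQS X).ker, ∃ q ∈ Subgroup.center Q,
        (leftPair h.hQS h.hQn X (Subgroup.inclusion h.hQS q))⁻¹ * c ∈ M) ∧
      ∀ q ∈ Subgroup.center Q,
        leftPair h.hQS h.hQn X (Subgroup.inclusion h.hQS q) ∈ M → q = 1 := by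
  classical
  haveI : Finite (Quotient (sideSetoid S X)) :=
    Finite.of_surjective _ Quotient.mk_surjective
  haveI : Fintype h.FixedOrbit := Fintype.ofFinite _
  choose w ρ hw hρ hrep using h.exists_base
  set σ := sigmaOn h.hQS X with hσ
  have hdiff : ∀ (z : intertwiners h.hQS X) (o : h.FixedOrbit),
      ∃ t : S, ((1 : S), t) • w (h.fixedPerm z o) = z.1.2 (w o) := by
    intro z o
    refine Quotient.exact ((hw (h.fixedPerm z o)).trans ?_)
    rw [fixedPerm_coe, ← hw o]
    rfl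
  choose d hd using hdiff
  have hdmul : ∀ z₁ z₂ o, d (z₁ * z₂) o = d z₂ o * d z₁ (h.fixedPerm z₂ o) := by
    intro z₁ z₂ o
    refine h.right_injective (x := w (h.fixedPerm (z₁ * z₂) o)) ?_
    rw [hd]
    show z₁.1.2 (z₂.1.2 (w o)) = _
    rw [← hd z₂ o, intertwiner_right, ← hd z₁, map_mul, Equiv.Perm.mul_apply, ← mul_smul,
      Prod.mk_mul_mk, one_mul]
  have hphase : ∀ z o, ρ o * (σ z)⁻¹ = conjOn h.hQn (d z o) * ρ (h.fixedPerm z o) := by
    intro z o
    refine h.phi_unique (h.phi_map (hρ o) z) ?_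
    rw [← hd z o]
    exact h.phi_smul (hρ _) _
  have hρrep : ∀ z o, ρ (h.fixedPerm z o) = h.classRep (ρ o * (σ z)⁻¹) := by
    intro z o
    rw [hphase, h.classRep_smul, hrep]
  let K := σ.ker
  have hK : ∀ (c : K) o, ρ (h.fixedPerm c o) = ρ o := by
    intro c o
    rw [hρrep, show σ c = 1 from c.2, inv_one, mul_one, hrep]
  have hKd : ∀ (c : K) o, conjOn h.hQn (d c o) = 1 := by
    intro c o
    have h1 := hphase c o
    rw [hK, show σ c = 1 from c.2, inv_one, mul_one] at h1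
    exact right_eq_mul.1 h1
  let Z := Subgroup.center Q
  let act : MulAut Q → Z →* Z := fun α =>
    (α.toMonoidHom.comp Z.subtype).codRestrict Z fun x => by
      refine Subgroup.mem_center_iff.2 fun y => ?_
      obtain ⟨y, rfl⟩ := α.surjective y
      show α y * α x = α x * α y
      rw [← map_mul, ← map_mul, Subgroup.mem_center_iff.1 x.2 y]
  have hact : ∀ α x, ((act α x : Z) : Q) = α x := fun _ _ => rfl
  let val : K → h.FixedOrbit → Z := fun c o =>
    act (ρ o)⁻¹ ⟨⟨d c o, (h.mem_of_conjOn_eq_one (hKd c o)).1⟩,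
      (h.mem_of_conjOn_eq_one (hKd c o)).2⟩
  have hval : ∀ (c : K) o, ((val c o : Z) : Q) = (ρ o)⁻¹ ⟨d c o, (h.mem_of_conjOn_eq_one (hKd c o)).1⟩ :=
    fun _ _ => rfl
  let τ : K →* Z := MonoidHom.mk' (fun c => ∏ o, val c o) fun c₁ c₂ => by
    have h1 : ∀ o, val (c₁ * c₂) o = val c₂ o * val c₁ (h.fixedPerm c₂ o) := by
      intro o
      apply Subtype.ext
      rw [Subgroup.coe_mul, hval, hval, hval, hK c₂ o, ← map_mul]
      refine congrArg (⇑(ρ o)⁻¹) ?_
      apply Subtype.ext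
      exact congrArg (fun u : S => (u : Ω)) (hdmul c₁ c₂ o)
    rw [Finset.prod_congr rfl fun o _ => h1 o, Finset.prod_mul_distrib,
      Equiv.prod_comp (h.fixedPerm c₂) (val c₁), mul_comm]
  haveI hKn : K.Normal := MonoidHom.normal_ker σ
  -- equivariance
  choose sh hsh using h.exists_classRep
  have hequiv : ∀ (z : intertwiners h.hQS X) (c : K),
      τ ⟨z * c * z⁻¹, hKn.conj_mem _ c.2 z⟩ = act (σ z) (τ c) := by
    intro z c
    set c' : K := ⟨z * c * z⁻¹, hKn.conj_mem _ c.2 z⟩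
    have he : ∀ o, ∃ e : Z, ((e : Q) : Ω) =
        ((sh (ρ o * (σ z)⁻¹) : S) : Ω)⁻¹ * (d z o : Ω) := by
      intro o
      have h1 : conjOn h.hQn ((sh (ρ o * (σ z)⁻¹))⁻¹ * d z o) = 1 := by
        rw [map_mul, map_inv, inv_mul_eq_one]
        have h2 := hsh (ρ o * (σ z)⁻¹)
        rw [← hρrep z o] at h2
        exact mul_right_cancel (h2.symm.trans (hphase z o))
      obtain ⟨hm, hm'⟩ := h.mem_of_conjOn_eq_one h1
      exact ⟨⟨⟨_, hm⟩, hm'⟩, rfl⟩
    choose e he using he
    let b : h.FixedOrbit → Z := fun o => act (ρ (h.fixedPerm z o))⁻¹ (e o)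
    have key : ∀ o, val c' (h.fixedPerm z o) =
        act (σ z) (val c o) * (b (h.fixedPerm c o) / b o) := by
      intro o
      set u₀ := sh (ρ o * (σ z)⁻¹) with hu₀
      set ρ' := ρ (h.fixedPerm z o) with hρ'
      have hco : ρ (h.fixedPerm z (h.fixedPerm c o)) = ρ' := by
        rw [hρ', hρrep, hρrep z o, hK c o]
      have hd' : d c' (h.fixedPerm z o) = (d z o)⁻¹ * (d c o * d z (h.fixedPerm c o)) := by
        rw [← hdmul]
        have h1 := hdmul c' z o
        have h2 : (c' : intertwiners h.hQS X) * z = z * c := by simp [c']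
        rw [h2] at h1
        rw [h1, inv_mul_cancel_left]
      have hcen : conjOn h.hQn u₀ * ρ' = ρ o * (σ z)⁻¹ := by
        rw [hρ', hρrep]
        exact (hsh _).symm
      apply Subtype.ext
      apply ρ'.injective
      rw [hval, MulAut.apply_inv_self, Subgroup.coe_mul, Subgroup.coe_div, map_mul, map_div]
      have hb1 : ρ' ((b o : Z) : Q) = (e o : Q) := by
        show ρ' (ρ'⁻¹ (e o : Q)) = _
        rw [MulAut.apply_inv_self]
      have hb2 : ρ' ((b (h.fixedPerm c o) : Z) : Q) = (e (h.fixedPerm c o) : Q) := by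
        show ρ' ((ρ (h.fixedPerm z (h.fixedPerm c o)))⁻¹ (e (h.fixedPerm c o) : Q)) = _
        rw [hco, MulAut.apply_inv_self]
      have hmid : ρ' (σ z ((val c o : Z) : Q)) =
          (conjOn h.hQn u₀)⁻¹ ⟨d c o, (h.mem_of_conjOn_eq_one (hKd c o)).1⟩ := by
        have h3 : ρ' * σ z = (conjOn h.hQn u₀)⁻¹ * ρ o := by
          rw [eq_inv_mul_iff_mul_eq, ← mul_assoc, hcen, inv_mul_cancel_right]
        rw [← MulAut.mul_apply, h3, hval, MulAut.mul_apply, MulAut.apply_inv_self]
      rw [hact, hmid, hb1, hb2, ← map_inv]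
      -- compare in the ambient group
      have hcomm : ((e o : Q))⁻¹ *
          (conjOn h.hQn u₀⁻¹ ⟨d c o, (h.mem_of_conjOn_eq_one (hKd c o)).1⟩ *
            (e (h.fixedPerm c o) : Q)) =
          conjOn h.hQn u₀⁻¹ ⟨d c o, (h.mem_of_conjOn_eq_one (hKd c o)).1⟩ *
            ((e (h.fixedPerm c o) : Q) / (e o : Q)) := by
        rw [← Subgroup.mem_center_iff.1 (Subgroup.inv_mem _ (e o).2), mul_assoc, div_eq_mul_inv]
      rw [← hcomm]
      apply Subtype.ext
      have hs : sh (ρ (h.fixedPerm c o) * (σ z)⁻¹) = u₀ := by rw [hK c o]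
      simp only [Subgroup.coe_mul, Subgroup.coe_inv, coe_conjOn, he, hs, hd', Subgroup.coe_inv,
        mul_inv_rev, inv_inv, ← hu₀]
      simp [mul_assoc]
    show ∏ o, val c' o = act (σ z) (∏ o, val c o)
    rw [← Equiv.prod_comp (h.fixedPerm z), Finset.prod_congr rfl fun o _ => key o,
      Finset.prod_mul_distrib, Finset.prod_div_distrib, Equiv.prod_comp (h.fixedPerm c) b,
      div_self', mul_one, map_prod]
  have hτz : ∀ (q : Z) (hq : leftPair h.hQS h.hQn X (Subgroup.inclusion h.hQS q.1) ∈ K),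
      τ ⟨_, hq⟩ = (q⁻¹) ^ Nat.card h.FixedOrbit := by
    intro q hq
    have h1 : ∀ o, val ⟨_, hq⟩ o = q⁻¹ := by
      intro o
      have hfix : h.fixedPerm (leftPair h.hQS h.hQn X (Subgroup.inclusion h.hQS q.1)) o = o :=
        Subtype.ext (o.2 q.1)
      set L := leftPair h.hQS h.hQn X (Subgroup.inclusion h.hQS q.1) with hL
      have h2 : d L o = Subgroup.inclusion h.hQS ((ρ o q.1)⁻¹) := by
        refine h.right_injective (x := w o) ?_
        conv_lhs => arg 2; rw [← hfix]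
        rw [hd, hL, leftPair_apply]
        conv_rhs => rw [← hρ o q.1, ← mul_smul, Prod.mk_mul_mk, one_mul, ← map_mul,
          inv_mul_cancel, map_one]
      apply Subtype.ext
      rw [hval, Subgroup.coe_inv]
      apply (ρ o).injective
      rw [MulAut.apply_inv_self, map_inv]
      exact Subtype.ext ((congrArg Subtype.val h2).trans rfl)
    show ∏ o, val ⟨_, hq⟩ o = _
    rw [Finset.prod_congr rfl fun o _ => h1 o, Finset.prod_const, Finset.card_univ,
      Nat.card_eq_fintype_card]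
  have hmemK : ∀ q : Z, leftPair h.hQS h.hQn X (Subgroup.inclusion h.hQS q.1) ∈ K := fun q =>
    h.conjOn_inclusion_center q.2
  haveI := finite_of_le h.hQS
  have hco : (Nat.card Z).Coprime (Nat.card h.FixedOrbit) := by
    obtain ⟨k, hk⟩ := IsPGroup.iff_card.mp ((h.pgroup.to_le h.hQS).to_subgroup Z)
    rw [hk]
    exact Nat.Coprime.pow_left k
      ((Nat.Prime.coprime_iff_not_dvd Fact.out).2 h.not_dvd_card_fixedOrbit)
  refine ⟨τ.ker.map K.subtype, ⟨?_⟩, Subgroup.map_subtype_le _, ?_, ?_⟩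
  · rintro _ ⟨c, hc, rfl⟩ z
    refine ⟨⟨z * c * z⁻¹, hKn.conj_mem _ c.2 z⟩, ?_, rfl⟩
    rw [SetLike.mem_coe, MonoidHom.mem_ker, hequiv, show τ c = 1 from hc, map_one]
  · intro c hc
    obtain ⟨r, hr⟩ := (powCoprime hco).surjective (τ ⟨c, hc⟩)
    refine ⟨(r⁻¹).1, (r⁻¹).2, ⟨⟨_, K.inv_mem (hmemK r⁻¹)⟩ * ⟨c, hc⟩, ?_, rfl⟩⟩
    rw [SetLike.mem_coe, MonoidHom.mem_ker, map_mul,
      show (⟨_, K.inv_mem (hmemK r⁻¹)⟩ : K) = ⟨_, hmemK r⁻¹⟩⁻¹ from rfl, map_inv, hτz,
      inv_inv, inv_mul_eq_one]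
    exact hr
  · rintro q hq ⟨c, hc, hce⟩
    have h1 : τ ⟨_, hmemK ⟨q, hq⟩⟩ = 1 := by
      rw [show (⟨_, hmemK ⟨q, hq⟩⟩ : K) = c from Subtype.ext hce.symm]
      exact hc
    rw [hτz] at h1
    have h2 : (⟨q, hq⟩ : Z)⁻¹ = 1 :=
      (powCoprime hco).injective (h1.trans (one_pow _).symm)
    exact congrArg Subtype.val (inv_eq_one.1 h2)

end ModelSet

end Cfsg.Lib.FusionSys
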