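import Cfsg.Agent.Lib.FusionSys.InvariantNormalClosure
import Cfsg.Agent.Lib.FusionSys.NormalSubgroup
import Cfsg.Agent.Lib.FusionSys.ModelBiset
import Cfsg.Agent.Lib.FusionSys.Tate
import Cfsg.Agent.Lib.Fusion.Basic

/-!
The action of the hyperfocal subgroup on a strongly closed subgroup.
-/

set_option autoImplicit false
set_option linter.style.haveILetI false

namespace Cfsg.Lib.FusionSys

open Cfsg Cfsg.FusionSystem

variable {Ω : Type*} [Group Ω] {S : Subgroup Ω} {F : FusionSystem S}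

/-- The maps along which `θ` changes by an inner automorphism. -/
def conjThrough {A : Type*} [Group A] (F : FusionSystem S) (θ : S →* A) : FusionSystem S where
  Hom P := {φ | ∃ h : φ ∈ F.Hom P, ∃ a : A, ∀ x : P,
    θ ⟨φ x, hom_mem h x⟩ = a * θ ⟨x, hom_le h x.2⟩ * a⁻¹}
  le_of_mem h := F.le_of_mem h.1
  injective_of_mem h := F.injective_of_mem h.1
  conj_mem := by
    intro P g hP hg
    refine ⟨F.conj_mem hP hg, θ ⟨g, hg⟩, fun x => ?_⟩
    rw [← map_inv, ← map_mul, ← map_mul]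
    exact congrArg θ (Subtype.ext rfl)
  comp_mem := by
    rintro P Q φ ψ ⟨hφ, a, ha⟩ ⟨hψ, b, hb⟩ h
    refine ⟨F.comp_mem hφ hψ h, b * a, fun x => ?_⟩
    show θ ⟨ψ ⟨φ x, h x⟩, _⟩ = _
    rw [hb ⟨φ x, h x⟩, ha x, mul_inv_rev]
    simp only [mul_assoc]
  inv_mem := by
    rintro P φ ⟨hφ, a, ha⟩
    obtain ⟨ψ, hψ, -, he⟩ := exists_inv hφ rfl
    refine ⟨ψ, ⟨hψ, a⁻¹, ?_⟩, fun x => he x ⟨x, rfl⟩⟩
    rintro ⟨_, x, rfl⟩
    rw [show (⟨ψ ⟨φ x, ⟨x, rfl⟩⟩, hom_mem hψ _⟩ : S) = ⟨x, hom_le hφ x.2⟩ from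
      Subtype.ext (he x ⟨x, rfl⟩), ha x]
    group

/-- The elements of the hyperfocal subgroup act on a strongly closed subgroup as elements of
`O^p(Aut_F(T)) Inn(T)`. -/
theorem exists_act_of_mem_hyperfocal [Finite S] {p : ℕ} [Fact p.Prime] (hS : IsPGroup p S)
    (hF : F.IsSaturated p) {T : Subgroup Ω} (hT : F.StronglyClosed T) {x : Ω}
    (hx : x ∈ F.hyperfocalSubgroup p) :
    ∃ α ∈ ((pResidual p (F.autGroup T)).map (F.autGroup T).subtype ⊔ Inn T : Subgroup (MulAut T)),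
      ∀ t : T, ((α t : T) : Ω) = x * (t : Ω) * x⁻¹ := by
  classical
  haveI := finite_of_le hT.1
  haveI : Finite (MulAut T) := Finite.of_injective (fun f => (f : T → T)) DFunLike.coe_injective
  have hTn : S ≤ Subgroup.normalizer (T : Set Ω) := stronglyClosed_le_normalizer hT
  haveI : ((Inn T).subgroupOf (F.autGroup T)).Normal := inn_subgroupOf_normal _
  let N : Subgroup (F.autGroup T) := pResidual p (F.autGroup T) ⊔ (Inn T).subgroupOf (F.autGroup T)
  haveI : N.Normal := inferInstanceAs (pResidual p (F.autGroup T) ⊔ (Inn T).subgroupOf (F.autGroup T)).Normal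
  have hAp : IsPGroup p (F.autGroup T ⧸ N) := by
    intro q
    obtain ⟨g, rfl⟩ := QuotientGroup.mk_surjective q
    obtain ⟨k, hk⟩ := Cfsg.Lib.Fusion.exists_pow_mem_pResidual (p := p) g
    exact ⟨k, by rw [← QuotientGroup.mk_pow, QuotientGroup.eq_one_iff]; exact Subgroup.mem_sup_left hk⟩
  let c : S →* F.autGroup T := (conjOn hTn).codRestrict _ fun s =>
    autInducedBy_le_autGroup hT.1 (conjAut_mem_autInducedBy (hTn s.2) s.2)
  let θ : S →* F.autGroup T ⧸ N := (QuotientGroup.mk' N).comp c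
  have hθT : ∀ (t : Ω) (ht : t ∈ T), θ ⟨t, hT.1 ht⟩ = 1 := fun t ht => by
    refine (QuotientGroup.eq_one_iff _).2 (Subgroup.mem_sup_right ?_)
    exact ⟨⟨t, ht⟩, MulEquiv.ext fun u => Subtype.ext rfl⟩
  have hD : F ≤ conjThrough F θ := by
    refine le_of_autGroup_le' hS hF _ fun P hP hbig α hα => ?_
    have hPle : P ≤ S := hP.elim (fun e => e.le) fun e => e.1.1
    by_cases hTP : T ≤ P
    · -- `T ≤ P`
      have hi := (mem_autGroup hPle).1 hα
      have hr := restrict_mem hi hTP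
      have hrT : ((P.subtype.comp α.toMonoidHom).comp (Subgroup.inclusion hTP)).range = T :=
        range_eq_of_card_le hr hT.1 (fun t => hT.2 T le_rfl _ hr t) le_rfl
      let β : F.autGroup T := ⟨homIso hr hrT, (mem_autGroup hT.1).2 (isoIn_homIso hr hrT)⟩
      refine (mem_autGroup hPle).2 ⟨hi, QuotientGroup.mk' N β, fun y => ?_⟩
      show QuotientGroup.mk' N (c ⟨(α y : P), _⟩) =
        QuotientGroup.mk' N β * QuotientGroup.mk' N (c ⟨y, _⟩) * (QuotientGroup.mk' N β)⁻¹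
      rw [← map_inv, ← map_mul, ← map_mul]
      refine congrArg _ (eq_mul_inv_of_mul_eq (Subtype.ext (MulEquiv.ext fun t => Subtype.ext ?_)))
      show (α y : Ω) * (α ⟨(t : Ω), hTP t.2⟩ : Ω) * (α y : Ω)⁻¹ =
        ((α ⟨(y : Ω) * (t : Ω) * (y : Ω)⁻¹, _⟩ : P) : Ω)
      rw [← Subgroup.coe_inv, ← Subgroup.coe_mul, ← Subgroup.coe_mul, ← map_inv, ← map_mul, ← map_mul]
      exact congrArg (fun z => ((α z : P) : Ω)) (Subtype.ext rfl)
    have hPess := hP.resolve_left fun e => hTP (e ▸ hT.1)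
    obtain ⟨hfc, -, R, hR⟩ := isFullyAutomized_and_fc_of_fn hS hF hPess.2.1
    haveI := finite_of_le hPle
    haveI : Finite (MulAut P) := Finite.of_injective (fun f => (f : P → P)) DFunLike.coe_injective
    let K : Subgroup (F.autGroup P) :=
      { carrier := {k | ∀ y : P, (y : Ω)⁻¹ * (((k : MulAut P) y : P) : Ω) ∈ T}
        one_mem' := fun y => by simp
        mul_mem' := fun {a b} ha hb y => by
          have := T.mul_mem (hb y) (ha ((b : MulAut P) y))
          simpa [mul_assoc] using this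
        inv_mem' := fun {a} ha y => by
          have := T.inv_mem (ha ((a : MulAut P)⁻¹ y))
          simpa using this }
    haveI : K.Normal := ⟨fun n hn g y => by
      have h2 := hT.2 (P ⊓ T) inf_le_right _
        (restrict_mem ((mem_autGroup hPle).1 g.2) (inf_le_left : P ⊓ T ≤ P))
        ⟨_, P.mul_mem (P.inv_mem ((g : MulAut P)⁻¹ y).2) ((n : MulAut P) ((g : MulAut P)⁻¹ y)).2,
          hn ((g : MulAut P)⁻¹ y)⟩
      have h3 : (g : MulAut P) (((g : MulAut P)⁻¹ y)⁻¹ * (n : MulAut P) ((g : MulAut P)⁻¹ y)) =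
          y⁻¹ * (g : MulAut P) ((n : MulAut P) ((g : MulAut P)⁻¹ y)) := by
        rw [map_mul, map_inv, MulAut.apply_inv_self]
      exact (congrArg (· ∈ T) (congrArg Subtype.val h3)).mp h2⟩
    obtain ⟨a, haN, k, hk, hak⟩ := exists_normalizer_factor R K ⟨α, hα⟩
    have hk' : ∀ y : P, θ ⟨((k : MulAut P) y : P), hPle ((k : MulAut P) y).2⟩ = θ ⟨y, hPle y.2⟩ := fun y => by
      rw [show (⟨((k : MulAut P) y : P), hPle ((k : MulAut P) y).2⟩ : S) = ⟨y, hPle y.2⟩ *
        ⟨(y : Ω)⁻¹ * ((k : MulAut P) y : P), hT.1 (hk y)⟩ from Subtype.ext (by simp), map_mul,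
        hθT _ (hk y), mul_one]
    -- an element of `T` normalizing `P` outside `P`
    have hlt : P < P ⊔ T := left_lt_sup.2 hTP
    haveI := finite_of_le (sup_le hPle hT.1)
    obtain ⟨g, ⟨hg, hgN⟩, hgP⟩ :=
      SetLike.exists_of_lt (lt_normalizerIn (hS.to_le (sup_le hPle hT.1)) hlt)
    have hg' : g ∈ ((P ⊔ T : Subgroup Ω) : Set Ω) := hg
    rw [Subgroup.coe_mul_of_left_le_normalizer_right P T (hPle.trans hTn)] at hg'
    obtain ⟨u, hu, t, ht, rfl⟩ := Set.mem_mul.1 hg'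
    have htN : t ∈ Subgroup.normalizer (P : Set Ω) := by
      have := Subgroup.mul_mem _ (Subgroup.inv_mem _ (Subgroup.le_normalizer hu)) hgN
      rwa [inv_mul_cancel_left] at this
    have htP : t ∉ P := fun h => hgP (P.mul_mem hu h)
    have hcA : conjAut P htN ∈ F.autGroup P :=
      autInducedBy_le_autGroup hPle (conjAut_mem_autInducedBy htN (hT.1 ht))
    have hcmem : (⟨_, hcA⟩ : F.autGroup P) ∈ (R : Subgroup (F.autGroup P)) ⊓ K := by
      refine ⟨by rw [hR]; exact conjAut_mem_autInducedBy htN (hT.1 ht), fun y => ?_⟩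
      show (y : Ω)⁻¹ * (t * y * t⁻¹) ∈ T
      have := T.mul_mem (stronglyClosed_conj_mem hT (S.inv_mem (hPle y.2)) ht) (T.inv_mem ht)
      simpa [mul_assoc] using this
    have h1 := ((Subgroup.mem_normalizer_iff.1 haN _).1 hcmem).1
    rw [hR] at h1
    obtain ⟨s, hs, hse⟩ := mem_autInducedBy.1 h1
    have hext : (a : MulAut P) ∈ extensibleAut F P := by
      refine mem_extensibleAut_of_conj (isReceptive_of_fc hS hF hfc) a.2
        (g := t) ⟨hT.1 ht, htN⟩ htP hs fun y z hz => ?_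
      rw [← hse ((a : MulAut P) y)]
      show _ = (((a : MulAut P) (conjAut P htN ((a : MulAut P)⁻¹ ((a : MulAut P) y)))) : Ω)
      rw [MulAut.inv_apply_self]
      exact congrArg (fun w => (((a : MulAut P) w : P) : Ω)) (Subtype.ext hz)
    have hle : extensibleAut F P ≤ (conjThrough F θ).autGroup P := by
      refine (Subgroup.closure_le _).2 ?_
      rintro β ⟨Q, hPQ, φ, hφ, he⟩
      haveI := finite_of_le (hom_le hφ)
      exact (mem_autGroup hPle).2 (hom_congr
        (restrict_mem (hbig Q (Set.Finite.card_lt_card (Set.toFinite _) hPQ) hφ) hPQ.le)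
        fun y => (he y).symm)
    obtain ⟨hbF, b, hb⟩ := (mem_autGroup hPle).1 (hle hext)
    refine (mem_autGroup hPle).2 ⟨(mem_autGroup hPle).1 hα, b, fun y => ?_⟩
    show _ = b * θ ⟨(y : Ω), _⟩ * b⁻¹
    rw [← hk' y, ← hb ((k : MulAut P) y)]
    refine congrArg θ (Subtype.ext ?_)
    show ((α y : P) : Ω) = (((a : MulAut P) ((k : MulAut P) y) : P) : Ω)
    rw [show α = (a : MulAut P) * (k : MulAut P) from congrArg Subtype.val hak]
    rfl
  have hker : F.hyperfocalSubgroup p ≤ θ.ker.map S.subtype := by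
    refine hyperfocal_le_of_coprime fun P hP α hα hcop y => ?_
    obtain ⟨hi, a, ha⟩ := hD P ((mem_autGroup hP).1 hα)
    have ha' : ∀ w : P, θ ⟨(α w : P), hP (α w).2⟩ = a * θ ⟨w, hP w.2⟩ * a⁻¹ := ha
    have hiter : ∀ (n : ℕ) (z : P), θ ⟨((α ^ n) z : P), hP ((α ^ n) z).2⟩ =
        a ^ n * θ ⟨z, hP z.2⟩ * (a ^ n)⁻¹ := by
      intro n
      induction n with
      | zero => intro z; simp
      | succ n ih =>
        intro z
        rw [show (⟨((α ^ (n + 1)) z : P), hP ((α ^ (n + 1)) z).2⟩ : S) =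
          ⟨((α ^ n) (α z) : P), hP ((α ^ n) (α z)).2⟩ from Subtype.ext (by rw [pow_succ]; rfl),
          ih (α z), ha' z, pow_succ, mul_inv_rev]
        simp only [mul_assoc]
    obtain ⟨k, hk⟩ := hAp a
    obtain ⟨j, hj⟩ := exists_pow_eq_self_of_coprime (n := p ^ k) (x := α) (hcop.symm.pow_left k)
    have h1 := hiter (p ^ k * j) y
    rw [pow_mul a, hk, one_pow, one_mul, inv_one, mul_one] at h1
    refine ⟨⟨(y : Ω)⁻¹ * ((α y : P) : Ω), S.mul_mem (S.inv_mem (hP y.2)) (hP (α y).2)⟩, ?_, rfl⟩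
    rw [SetLike.mem_coe, MonoidHom.mem_ker]
    show θ ((⟨(y : Ω), hP y.2⟩ : S)⁻¹ * ⟨(α y : P), hP (α y).2⟩) = 1
    rw [map_mul, map_inv, inv_mul_eq_one, eq_comm]
    refine Eq.trans ?_ h1
    exact congrArg θ (Subtype.ext (congrArg (fun f : MulAut P => ((f y : P) : Ω))
      ((pow_mul α (p ^ k) j).trans hj).symm))
  obtain ⟨s, hs, rfl⟩ := hker hx
  refine ⟨(c s : MulAut T), ?_, fun t => rfl⟩
  have h1 : c s ∈ N := (QuotientGroup.eq_one_iff _).1 hs
  have hInn : Inn T ≤ F.autGroup T := inn_le_autGroup hT.1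
  rw [← Subgroup.map_subgroupOf_eq_of_le hInn, ← Subgroup.map_sup]
  exact ⟨c s, h1, rfl⟩

end Cfsg.Lib.FusionSys
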