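import Cfsg.Agent.Lib.FusionSys.MeetNormal
import Cfsg.Agent.Lib.FusionSys.SplitComponent
import Cfsg.Agent.Lib.FusionSys.LeastNormal
import Cfsg.Agent.Lib.FusionSys.SubnormalFn

/-!
The layer of a saturated fusion system.
-/

set_option autoImplicit false
set_option linter.style.haveILetI false

namespace Cfsg.Lib.FusionSys

open Cfsg Cfsg.FusionSystem

variable {Ω : Type*} [Group Ω] {S : Subgroup Ω} {F : FusionSystem S} {p : ℕ}

/-- A saturated system is normal in itself. -/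
theorem isNormalIn_refl [Finite S] (hF : F.IsSaturated p) : F.IsNormalIn F p := by
  refine ⟨⟨hF, hF, isInvariantIn_self F⟩, fun α hα => ?_⟩
  have hW : S ⊔ centralizerIn S S = S := sup_eq_left.2 (centralizerIn_le S)
  let e : S ≃* ↥(S ⊔ centralizerIn S S) := MulEquiv.subgroupCongr hW.symm
  refine ⟨MulAut.congr e α, congr_mem_autGroup ?_ hα, fun x => ?_, fun x hx => ?_⟩
  · exact hom_congr (subtype_mem F le_rfl) fun _ => rfl
  · show ((α (e.symm (Subgroup.inclusion le_sup_left x)) : S) : Ω) = (α x : Ω)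
    rfl
  · obtain ⟨hxS, hxc⟩ := mem_centralizerIn.1 hx
    refine Subgroup.mem_inf.2 ⟨mul_mem (inv_mem hxS) (α (e.symm x)).2, Subgroup.mem_centralizer_iff.2 fun y hy => ?_⟩
    have h1 : Commute (x : Ω) y := hxc y hy
    have h2 : (e.symm x) * α⁻¹ ⟨y, hy⟩ = α⁻¹ ⟨y, hy⟩ * (e.symm x) := Subtype.ext (hxc _ (α⁻¹ ⟨y, hy⟩).2)
    have h3 := congrArg (fun z : S => ((α z : S) : Ω)) h2
    simp only [map_mul, Subgroup.coe_mul, MulAut.apply_inv_self] at h3
    exact ((Commute.inv_left h1).mul_left (show Commute (α (e.symm x) : Ω) y from h3)).eq.symm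

/-- A quasisimple subnormal subsystem lies in every normal subsystem over a group containing its own. -/
theorem component_le_normal {T S : Subgroup Ω} {C : FusionSystem T} {F : FusionSystem S} {p : ℕ}
    (h : C.IsSubnormalIn F p) :
    Finite S → Fact p.Prime → IsPGroup p S → C.Quasisimple p →
      ∀ (R : Subgroup Ω) (N : FusionSystem R), N.IsNormalIn F p → T ≤ R → C.IsSubsystemOf N := by
  induction h with
  | refl F p =>
    intro hfin hp hS hq R N hN hTR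
    haveI := hfin
    haveI := hp
    obtain rfl := le_antisymm hN.1.2.2.2.1.1 hTR
    exact residual_le_invariant hS hq.1 (isInvariantIn_self F) hN.1.1 hN.1.2.2
      (isPPrimeResidual_of_quasisimple hS hq)
  | @step U S C X F p hC hX ih =>
    intro hfin hp hS hq R N hN hTR
    haveI := hfin
    haveI := hp
    have c : MeetCtx F X N p := ⟨hS, hX, hN⟩
    have hUS : U ≤ S := hX.1.2.2.2.1.1
    have hTU : T ≤ U := hom_le (isSubsystemOf_of_isSubnormalIn hC T (subtype_mem C le_rfl))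
    exact fun P φ hφ => c.meetSys_sub₂ 0 P (ih (finite_of_le hUS) hp (hS.to_le hUS) hq (U ⊓ R) _ c.isNormalIn₁
      (le_inf hTU hTR) P hφ)

/-- There is a least normal subsystem containing every component. -/
theorem exists_layer [Finite S] [Fact p.Prime] (hS : IsPGroup p S) (hF : F.IsSaturated p) :
    ∃ (T : Subgroup Ω) (E : FusionSystem T), E.IsLayerOf F p := by
  classical
  let good : ∀ {R : Subgroup Ω}, FusionSystem R → Prop := fun {_} D =>
    D.IsNormalIn F p ∧ ∀ (U : Subgroup Ω) (C : FusionSystem U), C.IsComponentIn F p → C.IsSubsystemOf D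
  let m : ∀ {R : Subgroup Ω}, FusionSystem R → ℕ := fun {_} D =>
    Nat.card {x : Σ P : Subgroup Ω, (↥P →* Ω) // x.2 ∈ D.Hom x.1}
  have hex : ∃ n, ∃ (R : Subgroup Ω) (D : FusionSystem R), good D ∧ m D = n :=
    ⟨_, S, F, ⟨isNormalIn_refl hF, fun U C hC => isSubsystemOf_of_isSubnormalIn hC.1⟩, rfl⟩
  obtain ⟨T, E, hE, hEm⟩ := Nat.find_spec hex
  refine ⟨T, E, hE.1, hE.2, fun R D hD hDc => ?_⟩
  have c : MeetCtx F E D p := ⟨hS, hE.1, hD⟩
  have hgood : good (c.meetSys 0) := by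
    refine ⟨c.isNormalIn_F, fun U C hC => component_le_normal hC.1 inferInstance inferInstance hS hC.2 _ _
      c.isNormalIn_F (le_inf ?_ ?_)⟩
    · exact hom_le (hE.2 U C hC U (subtype_mem C le_rfl))
    · exact hom_le (hDc U C hC U (subtype_mem C le_rfl))
  have hmin : m E ≤ m (c.meetSys 0) := hEm ▸ Nat.find_min' hex ⟨_, _, hgood, rfl⟩
  let A : Set (Σ P : Subgroup Ω, (↥P →* Ω)) := {x | x.2 ∈ E.Hom x.1}
  let B : Set (Σ P : Subgroup Ω, (↥P →* Ω)) := {x | x.2 ∈ (c.meetSys 0).Hom x.1}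
  have hBA : B ⊆ A := fun x hx => c.meetSys_sub₁ 0 x.1 hx
  have hTS : T ≤ S := hE.1.1.2.2.2.1.1
  haveI := finite_of_le hTS
  have hfin : A.Finite := by
    refine Set.Finite.of_finite_image (f := fun x : Σ P : Subgroup Ω, (↥P →* Ω) =>
      {ab : T × T | ∃ h : ((ab.1 : T) : Ω) ∈ x.1, x.2 ⟨_, h⟩ = ((ab.2 : T) : Ω)}) (Set.toFinite _) ?_
    rintro ⟨P, φ⟩ hφ ⟨Q, ψ⟩ hψ heq
    have hPQ : ∀ {P Q : Subgroup Ω} {φ : ↥P →* Ω} {ψ : ↥Q →* Ω}, φ ∈ E.Hom P →
        {ab : T × T | ∃ h : ((ab.1 : T) : Ω) ∈ P, φ ⟨_, h⟩ = ((ab.2 : T) : Ω)} =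
          {ab : T × T | ∃ h : ((ab.1 : T) : Ω) ∈ Q, ψ ⟨_, h⟩ = ((ab.2 : T) : Ω)} →
        ∀ y (hy : y ∈ P), ∃ h : y ∈ Q, ψ ⟨y, h⟩ = φ ⟨y, hy⟩ := by
      intro P Q φ ψ hφ h y hy
      have : ((⟨y, hom_le hφ hy⟩, ⟨φ ⟨y, hy⟩, hom_mem hφ _⟩) : T × T) ∈
          {ab : T × T | ∃ h : ((ab.1 : T) : Ω) ∈ Q, ψ ⟨_, h⟩ = ((ab.2 : T) : Ω)} := h ▸ ⟨hy, rfl⟩
      exact this
    obtain rfl : P = Q := le_antisymm (fun y hy => (hPQ hφ heq y hy).1) (fun y hy => (hPQ hψ heq.symm y hy).1)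
    refine Sigma.ext rfl (heq_of_eq (MonoidHom.ext fun y => ?_))
    obtain ⟨_, h⟩ := hPQ hφ heq y y.2
    exact h.symm
  have hAB : A ⊆ B := (Set.eq_of_subset_of_ncard_le hBA (by
    rw [← Nat.card_coe_set_eq, ← Nat.card_coe_set_eq]
    exact hmin) hfin).ge
  exact fun P φ hφ => c.meetSys_sub₂ 0 P (hAB (a := ⟨P, φ⟩) hφ)

end Cfsg.Lib.FusionSys
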