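import Cfsg.Agent.Lib.FusionSys.SplitComponent
import Cfsg.Agent.Lib.FusionSys.CentralProductNormal
import Cfsg.Agent.Lib.FusionSys.Solvable
import Cfsg.Agent.Lib.FusionSys.StronglyClosedSup
import Cfsg.Agent.Lib.FusionSys.Layer
import Cfsg.Agent.Lib.FusionSys.ComponentCore

/-!
Weakly normal subsystems pass to factor systems; normal subsystems of quasisimple systems.
-/

set_option autoImplicit false
set_option linter.style.haveILetI false

namespace Cfsg.Lib.FusionSys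

open Cfsg Cfsg.FusionSystem

variable {Ω : Type*} [Group Ω] {S : Subgroup Ω} {F : FusionSystem S} {p : ℕ}
variable {Ω' : Type*} [Group Ω'] {S' : Subgroup Ω'} {θ : S →* Ω'}

/-- A weakly normal subsystem over a group containing the kernel gives one in the factor system. -/
theorem exists_weaklyNormal_factor [Finite S] [Fact p.Prime] (hS : IsPGroup p S) {Z W : Subgroup Ω}
    {N : FusionSystem W} (hN : N.IsWeaklyNormalIn F p) (hZ : F.StronglyClosed Z) (hZW : Z ≤ W)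
    {Fb : FusionSystem S'} (hFb : F.IsFactorSystem Z θ Fb) :
    ∃ Nb : FusionSystem (imageAlong θ W), Nb.IsWeaklyNormalIn Fb p := by
  obtain ⟨-, hker, hrange, hiff⟩ := id hFb
  obtain ⟨hNs, hF, hNi⟩ := hN
  have hWsc := hNi.2.1
  have hW : W ≤ S := hWsc.1
  haveI := finite_of_le hW
  set θW := θ.comp (Subgroup.inclusion hW) with hθW
  have hkerW : ∀ s : W, θW s = 1 ↔ (s : Ω) ∈ Z := fun s => hker (Subgroup.inclusion hW s)
  have hrangeW : θW.range = imageAlong θ W := by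
    ext y
    rw [mem_imageAlong]
    exact ⟨fun ⟨x, hx⟩ => ⟨x, hW x.2, x.2, hx⟩, fun ⟨x, _, hxW, h⟩ => ⟨⟨x, hxW⟩, h⟩⟩
  have hZN : N.StronglyClosed Z := ⟨hZW, fun Q hQ φ hφ x => hZ.2 Q hQ φ (hNi.1 Q hφ) x⟩
  obtain ⟨Nb, hNb⟩ := exists_factorSystem hZN hkerW hrangeW
  obtain ⟨-, -, -, hiffN⟩ := id hNb
  have hR : imageAlong θ W ≤ S' := by
    rintro _ ⟨x, -, rfl⟩
    exact hrange.le ⟨x, rfl⟩
  haveI : Finite S' := hrange ▸ Finite.of_surjective _ θ.rangeRestrict_surjective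
  have hR' := stronglyClosed_imageAlong hZ hFb hWsc hZW
  have hpreR : preimageAlong θ (imageAlong θ W) = W := by
    rw [preimageAlong_imageAlong hZ hker hW, sup_eq_left.2 hZW]
  have hpre : ∀ {P' : Subgroup Ω'}, P' ≤ imageAlong θ W →
      preimageAlong θ P' ≤ W := fun hP' x hx =>
    hpreR.le (mem_preimageAlong.2 ⟨(mem_preimageAlong.1 hx).1, hP' (mem_preimageAlong.1 hx).2⟩)
  have hpW : ∀ {P' : Subgroup Ω'}, P' ≤ imageAlong θ W → preimageAlong θ P' = preimageAlong θW P' :=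
    fun hP' => le_antisymm (fun x hx => mem_preimageAlong.2 ⟨hpre hP' hx, (mem_preimageAlong.1 hx).2⟩)
      fun x hx => mem_preimageAlong.2 ⟨hW (preimageAlong_le hx), (mem_preimageAlong.1 hx).2⟩
  refine ⟨Nb, isSaturated_factor (hS.to_le hW) hNs hZN hNb, isSaturated_factor hS hF hZ hFb,
    fun P' φ' hφ' => ?_, hR', ?_, ?_⟩
  · obtain ⟨hP', φ, hφ, hind⟩ := (hiffN P' φ').1 hφ'
    refine (hiff P' φ').2 ⟨hP'.trans hR, _, hNi.1 _ (restrict_mem hφ (hpW hP').le), preimageAlong_le,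
      fun x => hW (hom_mem hφ (Subgroup.inclusion (hpW hP').le x)), fun x => (mem_preimageAlong.1 x.2).2,
      fun x => ?_⟩
    exact inducedAlong_apply hind (x := Subgroup.inclusion (hpW hP').le x)
      (hxS := preimageAlong_le ((hpW hP').le x.2)) (hx' := hom_mem hφ _) rfl
  · intro P' hP' φ' hφ' α hα
    obtain ⟨-, φ, hφ, hind⟩ := (hiffN P' φ').1 hφ'
    obtain ⟨-, g, hg, hgi⟩ := (hiff _ _).1 ((mem_autGroup hR).1 hα)
    obtain ⟨a, ha, hae⟩ := exists_aut_of_hom (restrict_mem hg hpreR.ge) fun x =>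
      stronglyClosed_apply_mem hWsc hg (x := Subgroup.inclusion hpreR.ge x) x.2
    have haα : ∀ w : W, θ ⟨(a w : Ω), hW (a w).2⟩ =
        (α ⟨θ ⟨(w : Ω), hW w.2⟩, mem_imageAlong.2 ⟨w, hW w.2, w.2, rfl⟩⟩ : imageAlong θ W) := fun w => by
      refine Eq.trans ?_ (inducedAlong_apply hgi (x := Subgroup.inclusion hpreR.ge w) (hxS := hW w.2)
        (hx' := hom_mem hg _) rfl).symm
      exact congrArg θ (Subtype.ext (hae w))
    have hle : preimageAlong θW P' ≤ W := preimageAlong_le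
    obtain ⟨χ, hχ, hχe⟩ := hNi.2.2.1 _ hle φ hφ a ha
    set Q' := (P'.subgroupOf (imageAlong θ W)).map ((imageAlong θ W).subtype.comp α.toMonoidHom)
    have hQ' : Q' ≤ imageAlong θ W := by
      rintro _ ⟨y, -, rfl⟩
      exact (α y).2
    have hsub : preimageAlong θW Q' ≤
        ((preimageAlong θW P').subgroupOf W).map (W.subtype.comp a.toMonoidHom) := by
      intro x hx
      obtain ⟨hxW, z, hz, hzx⟩ := mem_preimageAlong.1 hx
      refine ⟨a⁻¹ ⟨x, hxW⟩, mem_preimageAlong.2 ⟨(a⁻¹ ⟨x, hxW⟩).2, ?_⟩,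
        congrArg Subtype.val (MulAut.apply_inv_self _ a ⟨x, hxW⟩)⟩
      have h2 : (α z : Ω') = θ ⟨x, hW hxW⟩ := hzx
      have h1 := haα (a⁻¹ ⟨x, hxW⟩)
      rw [show (⟨(a (a⁻¹ ⟨x, hxW⟩) : Ω), hW (a (a⁻¹ ⟨x, hxW⟩)).2⟩ : S) = ⟨x, hW hxW⟩ from
        Subtype.ext (congrArg (fun z : W => (z : Ω)) (MulAut.apply_inv_self _ a ⟨x, hxW⟩))] at h1
      have h3 := α.injective (Subtype.ext (h2.trans h1))
      have hz' : (z : Ω') ∈ P' := hz
      rw [h3] at hz'
      exact hz'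
    have hχ' := restrict_mem hχ hsub
    obtain ⟨χ', hχ'i⟩ := exists_induced hZN hkerW hrangeW hQ' hχ'
    refine ⟨χ', (hiffN _ _).2 ⟨hQ', _, hχ', hχ'i⟩, fun y hy1 hy2 => ?_⟩
    obtain ⟨w, hw⟩ := exists_lift_val hrangeW hP' y
    have hwW : (w : Ω) ∈ W := hle w.2
    have hφw : φ w ∈ W := hom_mem hφ w
    have hy' : (⟨(y : Ω'), hP' y.2⟩ : imageAlong θ W) =
        ⟨θ ⟨(w : Ω), hW hwW⟩, mem_imageAlong.2 ⟨w, hW hwW, hwW, rfl⟩⟩ := Subtype.ext hw.symm
    have haw : (a ⟨(w : Ω), hwW⟩ : Ω) ∈ preimageAlong θW Q' := by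
      refine mem_preimageAlong.2 ⟨(a _).2, ?_⟩
      show θ ⟨_, hW (a ⟨(w : Ω), hwW⟩).2⟩ ∈ Q'
      rw [haα, ← hy']
      exact hy2
    rw [inducedAlong_apply hχ'i (x := ⟨_, haw⟩) (hxS := (a _).2) (hx' := hom_mem hχ' _)
      (show ((α ⟨(y : Ω'), hP' y.2⟩ : imageAlong θ W) : Ω') = θ ⟨_, hW (a ⟨(w : Ω), hwW⟩).2⟩ by
        rw [haα, ← hy'])]
    have h4 : φ' y = θ ⟨φ w, hW hφw⟩ :=
      inducedAlong_apply hind (x := w) (hxS := hwW) (hx' := hφw) hw.symm
    refine Eq.trans (congrArg θ (Subtype.ext ?_)) ((haα ⟨φ w, hφw⟩).trans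
      (congrArg (fun t => ((α t : imageAlong θ W) : Ω')) (Subtype.ext h4.symm)))
    exact hχe w hφw (hsub haw)
  · intro P' hP' φ' hφ'
    obtain ⟨-, φ, hφ, hind⟩ := (hiff P' φ').1 hφ'
    obtain ⟨a, ha, φ₀, hφ₀, he⟩ := hNi.2.2.2 _ (hpre hP') φ hφ
    have hga := restrict_mem ((mem_autGroup hW).1 ha) hpreR.le
    obtain ⟨g', hg'i⟩ := exists_induced hZ hker hrange hR hga
    have hg' : g' ∈ Fb.Hom (imageAlong θ W) := (hiff _ _).2 ⟨hR, _, hga, hg'i⟩
    obtain ⟨α, hα, hαe⟩ := exists_aut_of_hom hg' fun y => stronglyClosed_apply_mem hR' hg' y.2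
    have hφ₀' := restrict_mem hφ₀ (hpW hP').ge
    obtain ⟨ψ, hψi⟩ := exists_induced hZN hkerW hrangeW hP' hφ₀'
    refine ⟨α, hα, ψ, (hiffN _ _).2 ⟨hP', _, hφ₀', hψi⟩, fun y hy => ?_⟩
    obtain ⟨w, hw⟩ := exists_lift_val hrange (hP'.trans hR) y
    have hwW : (w : Ω) ∈ W := hpre hP' w.2
    have h0 : φ₀ w ∈ W := hom_mem hφ₀ w
    have h4 : ψ y = θ ⟨φ₀ w, hW h0⟩ := inducedAlong_apply hψi
      (x := Subgroup.inclusion (hpW hP').le w) (hxS := hwW) (hx' := h0) hw.symm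
    rw [hαe, inducedAlong_apply hind (x := w) (hxS := hW hwW) (hx' := hom_mem hφ w) hw.symm,
      inducedAlong_apply hg'i (x := ⟨φ₀ w, hpreR.ge h0⟩) (hxS := hW h0) (hx' := hom_mem hga _) h4]
    exact congrArg θ (Subtype.ext (he w h0))

/-- A normal subsystem of a quasisimple system is the whole system or lies over a central subgroup. -/
theorem le_center_of_not_subsystem [Finite S] [Fact p.Prime] (hS : IsPGroup p S) (hq : F.Quasisimple p)
    {V : Subgroup Ω} {N : FusionSystem V} (hN : N.IsNormalIn F p) (hFN : ¬ F.IsSubsystemOf N) :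
    V ≤ F.center := by
  obtain ⟨hF, hhyp, hsimp⟩ := id hq
  have hV := hN.1.2.2.2.1
  have hZn : F.IsNormal F.center := isNormal_of_isCentral (isCentral_center F)
  have hZs := isNormal_stronglyClosed hZn
  have hI := isNormalIn_inner_of_isNormal hS hF hZn
  haveI := finite_of_le hV.1
  haveI := finite_of_le hZs.1
  have hcomm : ∀ a ∈ V, ∀ b ∈ F.center, a * b = b * a := fun a ha b hb =>
    commute_of_mem_center F hb (hV.1 ha)
  have hz₁ : V ⊓ F.center ≤ N.center := fun z hz => (mem_center_iff' (hS.to_le hV.1) hN.1.1).2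
    ⟨hz.1, fun P φ hφ hzP => center_fixed F hz.2 (hN.1.2.2.1 P hφ) rfl⟩
  have hz₂ : V ⊓ F.center ≤ (innerFusionSystem F.center).center := fun z hz =>
    (mem_center_iff' (hS.to_le hZs.1) hI.1.1).2
      ⟨hz.2, fun P φ hφ hzP => center_fixed F hz.2 (hI.1.2.2.1 P hφ) rfl⟩
  obtain ⟨M, hM, -⟩ := exists_centralProduct hS hV.1 hZs.1 hN.1.1 hI.1.1 hcomm hz₁ hz₂
  have hMn := isNormalIn_of_centralProduct hS hN hI hM
  set θ : ↥S →* ↥S ⧸ (F.center).subgroupOf S := QuotientGroup.mk' _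
  have hker : ∀ s : ↥S, θ s = 1 ↔ (s : Ω) ∈ F.center := fun s => QuotientGroup.eq_one_iff s
  have hrange : θ.range = ⊤ := MonoidHom.range_eq_top.2 (QuotientGroup.mk'_surjective _)
  obtain ⟨Fb, hFb⟩ := exists_factorSystem (F := F) (T := F.center)
    (S' := (⊤ : Subgroup (↥S ⧸ (F.center).subgroupOf S))) hZs (θ := θ) hker hrange
  obtain ⟨-, -, hnorm⟩ := hsimp Fb hFb
  obtain ⟨Nb, hNb⟩ := exists_weaklyNormal_factor hS hMn.1 hZs le_sup_right hFb
  have hS' : IsPGroup p (⊤ : Subgroup (↥S ⧸ (F.center).subgroupOf S)) := (hS.to_quotient _).to_subgroup ⊤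
  haveI := finite_of_le hNb.2.2.2.1.1
  obtain ⟨Rb, hRb⟩ := exists_pPrimeResidual (hS'.to_le hNb.2.2.2.1.1) hNb.1
  rcases hnorm _ _ (isNormalIn_residual hS' hNb hRb) with h | ⟨h, -⟩
  · intro v hv
    exact (hker ⟨v, hV.1 hv⟩).1 (Subgroup.mem_bot.1 (h.le (mem_imageAlong.2
      ⟨v, hV.1 hv, Subgroup.mem_sup_left hv, rfl⟩)))
  · refine absurd (component_le_normal (IsSubnormalIn.refl F p) inferInstance inferInstance hS hq V N hN ?_) hFN
    have htop : V ⊔ F.center = S := by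
      refine le_antisymm (sup_le hV.1 hZs.1) fun x hx => ?_
      have := preimageAlong_imageAlong hZs hker (sup_le hV.1 hZs.1 : V ⊔ F.center ≤ S)
      rw [h, sup_eq_left.2 le_sup_right] at this
      exact this.le (mem_preimageAlong.2 ⟨hx, Subgroup.mem_top _⟩)
    refine hhyp.ge.trans (hyperfocal_le_of_coprime fun P hP α hα _ x => ?_)
    obtain ⟨ψ, hψ, hψe, hψf⟩ := (isCentral_center F).2 P _ ((mem_autGroup hP).1 hα)
    obtain ⟨v, hv, z, hz, hvz⟩ := exists_mul_of_commute hcomm (htop.ge (hP x.2))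
    have hvm : v ∈ P ⊔ F.center := by
      have h := (P ⊔ F.center).mul_mem (Subgroup.mem_sup_left x.2)
        (inv_mem (Subgroup.mem_sup_right hz))
      rwa [hvz, mul_inv_cancel_right] at h
    have h1 : (α x : Ω) = ψ ⟨v, hvm⟩ * z := by
      rw [show ((α x : P) : Ω) = (P.subtype.comp α.toMonoidHom) x from rfl, ← hψe x,
        show Subgroup.inclusion le_sup_left x = ⟨v, hvm⟩ * Subgroup.inclusion le_sup_right ⟨z, hz⟩ from
          Subtype.ext hvz, map_mul, hψf]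
    have h2 : ψ ⟨v, hvm⟩ ∈ V := stronglyClosed_apply_mem hV hψ hv
    rw [h1, hvz, mul_inv_rev, mul_assoc z⁻¹, ← mul_assoc v⁻¹,
      ← mul_assoc z⁻¹, ← hcomm _ (V.mul_mem (V.inv_mem hv) h2) _ (inv_mem hz),
      mul_assoc, inv_mul_cancel, mul_one]
    exact V.mul_mem (V.inv_mem hv) h2

end Cfsg.Lib.FusionSys
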