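import Cfsg.Agent.Lib.FusionSys.NormalLift

/-!
# Maps controlled by a subgroup of `Aut_F(T)`

For `E` invariant in `F` over `T`, a map `φ` is joint with `a ∈ Aut_F(T)` when it extends modulo `T` to a map
inducing `a` on `T` and is, on the part of its source in `T`, `a` after a map of `E`.  Every map of `F` is
joint with some element (Puig's argument), and the ones joint with elements of a subgroup form systems.
-/

set_option autoImplicit false
set_option linter.style.haveILetI false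

namespace Cfsg.Lib.FusionSys

open Cfsg Cfsg.FusionSystem
open scoped Pointwise

variable {Ω : Type*} [Group Ω] {S T : Subgroup Ω} {F : FusionSystem S} {E : FusionSystem T} {p : ℕ}
variable {P Q : Subgroup Ω}

/-- `φ` extends modulo `T` to a map inducing `a`, and is `a` after a map of `E` on `T`. -/
def JointWith (F : FusionSystem S) (E : FusionSystem T) (a : MulAut T) (φ : P →* Ω) : Prop :=
  φ ∈ F.Hom P ∧ ∃ ψ ∈ F.Hom (P ⊔ T),
    (∀ x : P, (φ x)⁻¹ * ψ (Subgroup.inclusion le_sup_left x) ∈ T) ∧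
    (∀ t : T, ψ (Subgroup.inclusion le_sup_right t) = (a t : Ω)) ∧
    ∃ φ₀ ∈ E.Hom (P ⊓ T), ∀ (x : ↥(P ⊓ T)) (hx : φ₀ x ∈ T),
      φ (Subgroup.inclusion inf_le_left x) = ((a ⟨φ₀ x, hx⟩ : T) : Ω)

/-- The maps joint with some element of `K`. -/
def JointIn (F : FusionSystem S) (E : FusionSystem T) (K : Subgroup (MulAut T)) (φ : P →* Ω) : Prop :=
  ∃ a ∈ K, JointWith F E a φ

theorem JointWith.mem {a : MulAut T} {φ : P →* Ω} (h : JointWith F E a φ) : φ ∈ F.Hom P := h.1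

theorem JointWith.congr {a : MulAut T} {φ φ' : P →* Ω} (h : JointWith F E a φ) (he : ∀ x, φ' x = φ x) :
    JointWith F E a φ' := by
  rwa [show φ' = φ from MonoidHom.ext he]

theorem JointWith.restrict {a : MulAut T} {φ : P →* Ω} (h : JointWith F E a φ) (hQP : Q ≤ P) :
    JointWith F E a (φ.comp (Subgroup.inclusion hQP)) := by
  obtain ⟨hφ, ψ, hψ, hψe, hψT, φ₀, hφ₀, hφ₀e⟩ := h
  refine ⟨restrict_mem hφ hQP, _, restrict_mem hψ (sup_le_sup_right hQP T),
    fun x => hψe (Subgroup.inclusion hQP x), fun t => hψT t, _,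
    restrict_mem hφ₀ (inf_le_inf_right T hQP), fun x hx => hφ₀e _ hx⟩

theorem jointWith_conj [Finite S] (hT : F.StronglyClosed T) {u : Ω} (hu : u ∈ S)
    (hun : u ∈ Subgroup.normalizer (T : Set Ω)) (hP : P ≤ S) :
    JointWith F E (conjAut T hun) (conjHom P u) := by
  refine ⟨F.conj_mem hP hu, _, F.conj_mem (sup_le hP hT.1) hu, fun x => ?_, fun t => rfl,
    _, subtype_mem E inf_le_right, fun x _ => rfl⟩
  rw [show (conjHom P u x)⁻¹ * conjHom (P ⊔ T) u (Subgroup.inclusion le_sup_left x) = 1 from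
    inv_mul_cancel _]
  exact T.one_mem

theorem JointWith.comp [Finite S] (hEi : E.IsInvariantIn F) {a b : MulAut T} (ha : a ∈ F.autGroup T)
    {φ : P →* Ω} {ψ : Q →* Ω} (hφ : JointWith F E a φ) (hψ : JointWith F E b ψ)
    (hv : ∀ x, φ x ∈ Q) : JointWith F E (b * a) (ψ.comp (φ.codRestrict Q hv)) := by
  have hT := hEi.2.1
  obtain ⟨hφm, φ₁, hφ₁, hφe, hφT, φ₀, hφ₀, hφ₀e⟩ := hφ
  obtain ⟨hψm, ψ₁, hψ₁, hψe, hψT, ψ₀, hψ₀, hψ₀e⟩ := hψ
  have hP := hom_le hφm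
  have hval : ∀ y, φ₁ y ∈ Q ⊔ T := map_sup_mem hT hP hφ₁ fun x => by
    have h := Subgroup.mul_mem (Q ⊔ T) (Subgroup.mem_sup_left (hv x))
      (Subgroup.mem_sup_right (hφe x))
    rwa [mul_inv_cancel_left] at h
  refine ⟨F.comp_mem hφm hψm hv, _, F.comp_mem hφ₁ hψ₁ hval, fun x => ?_, fun t => ?_, ?_⟩
  · let q : Q := ⟨φ x, hv x⟩
    let t : T := ⟨_, hφe x⟩
    have he : (φ₁.codRestrict (Q ⊔ T) hval) (Subgroup.inclusion le_sup_left x) =
        Subgroup.inclusion le_sup_left q * Subgroup.inclusion le_sup_right t :=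
      Subtype.ext (mul_inv_cancel_left _ _).symm
    show (ψ q)⁻¹ * ψ₁ ((φ₁.codRestrict (Q ⊔ T) hval) (Subgroup.inclusion le_sup_left x)) ∈ T
    rw [he, map_mul, ← mul_assoc]
    exact T.mul_mem (hψe q) (stronglyClosed_apply_mem hT hψ₁ t.2)
  · have he : (φ₁.codRestrict (Q ⊔ T) hval) (Subgroup.inclusion le_sup_right t) =
        Subgroup.inclusion le_sup_right (a t) := Subtype.ext (hφT t)
    show ψ₁ ((φ₁.codRestrict (Q ⊔ T) hval) (Subgroup.inclusion le_sup_right t)) = _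
    rw [he, hψT]
    rfl
  · obtain ⟨χ, hχ, hχe⟩ := hEi.2.2.1 (Q ⊓ T) inf_le_right ψ₀ hψ₀ a⁻¹ (inv_mem ha)
    have hm : ∀ x : ↥(P ⊓ T), φ (Subgroup.inclusion inf_le_left x) ∈ Q ⊓ T := fun x =>
      ⟨hv _, by rw [hφ₀e x (hom_mem hφ₀ x)]; exact (a _).2⟩
    have hback : ∀ x : ↥(P ⊓ T), ((a⁻¹ ⟨_, (hm x).2⟩ : T) : Ω) = φ₀ x := fun x => by
      rw [show (⟨_, (hm x).2⟩ : T) = a ⟨φ₀ x, hom_mem hφ₀ x⟩ from Subtype.ext (hφ₀e x (hom_mem hφ₀ x)),
        MulAut.inv_apply_self]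
    have hv₀ : ∀ x, φ₀ x ∈ ((Q ⊓ T).subgroupOf T).map (T.subtype.comp (a⁻¹ : MulAut T).toMonoidHom) :=
      fun x => ⟨⟨_, (hm x).2⟩, hm x, hback x⟩
    refine ⟨_, E.comp_mem hφ₀ hχ hv₀, fun x hx => ?_⟩
    have h1 : χ ((φ₀.codRestrict _ hv₀) x) = ((a⁻¹ ⟨ψ₀ ⟨_, hm x⟩, hom_mem hψ₀ _⟩ : T) : Ω) := by
      refine (congrArg χ (Subtype.ext (hback x).symm)).trans (hχe ⟨_, hm x⟩ (hom_mem hψ₀ _) ?_)
      exact ⟨⟨_, (hm x).2⟩, hm x, rfl⟩
    show ψ ⟨φ (Subgroup.inclusion inf_le_left x), hv _⟩ = ((b (a ⟨_, hx⟩) : T) : Ω)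
    refine (hψ₀e ⟨_, hm x⟩ (hom_mem hψ₀ _)).trans ?_
    rw [show (⟨_, hx⟩ : T) = a⁻¹ ⟨ψ₀ ⟨_, hm x⟩, hom_mem hψ₀ _⟩ from Subtype.ext h1,
      MulAut.apply_inv_self]

theorem JointWith.inverse [Finite S] (hEi : E.IsInvariantIn F) {a : MulAut T} (ha : a ∈ F.autGroup T)
    {φ : P →* Ω} (h : JointWith F E a φ) :
    ∃ χ : φ.range →* Ω, JointWith F E a⁻¹ χ ∧ ∀ x : P, χ ⟨φ x, x, rfl⟩ = (x : Ω) := by
  have hT := hEi.2.1
  obtain ⟨hφ, φ₁, hφ₁, hφe, hφT, φ₀, hφ₀, hφ₀e⟩ := h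
  obtain ⟨χ, hχ, hχe⟩ := F.inv_mem hφ
  obtain ⟨χ₁, hχ₁, hχ₁e⟩ := F.inv_mem hφ₁
  have hTr : T ≤ φ₁.range := fun t ht => by
    refine ⟨Subgroup.inclusion le_sup_right (a⁻¹ ⟨t, ht⟩), ?_⟩
    rw [hφT, MulAut.apply_inv_self]
  have hle : φ.range ⊔ T ≤ φ₁.range := by
    refine sup_le ?_ hTr
    rintro _ ⟨x, rfl⟩
    have h := φ₁.range.mul_mem (φ₁.mem_range.2 ⟨Subgroup.inclusion le_sup_left x, rfl⟩)
      (φ₁.range.inv_mem (hTr (hφe x)))
    simpa [mul_inv_rev, mul_assoc] using h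
  refine ⟨χ, ⟨hχ, _, restrict_mem hχ₁ hle, ?_, ?_, ?_⟩, hχe⟩
  · rintro ⟨_, x, rfl⟩
    rw [hχe x]
    show (x : Ω)⁻¹ * χ₁ ⟨φ x, _⟩ ∈ T
    have hx₁ : φ₁ (Subgroup.inclusion le_sup_left x) ∈ φ₁.range := ⟨_, rfl⟩
    have ht : (φ x)⁻¹ * φ₁ (Subgroup.inclusion le_sup_left x) ∈ φ₁.range := hTr (hφe x)
    have he : (⟨φ x, hle (Subgroup.mem_sup_left ⟨x, rfl⟩)⟩ : φ₁.range) =
        ⟨_, hx₁⟩ * ⟨_, ht⟩⁻¹ := Subtype.ext (by simp [mul_assoc])
    rw [he, map_mul, map_inv, hχ₁e, Subgroup.coe_inclusion, inv_mul_cancel_left]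
    exact T.inv_mem (stronglyClosed_apply_mem hT hχ₁ (hφe x))
  · intro t
    have he : Subgroup.inclusion hle (Subgroup.inclusion le_sup_right t) =
        (⟨φ₁ (Subgroup.inclusion le_sup_right (a⁻¹ t)), _, rfl⟩ : φ₁.range) :=
      Subtype.ext ((congrArg (fun z : T => (z : Ω)) (MulAut.apply_inv_self T a t)).symm.trans (hφT _).symm)
    show χ₁ (Subgroup.inclusion hle (Subgroup.inclusion le_sup_right t)) = _
    rw [he, hχ₁e]
    rfl
  · obtain ⟨ρ, hρ, hρe⟩ := E.inv_mem hφ₀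
    obtain ⟨χ', hχ', hχ'e⟩ := hEi.2.2.1 φ₀.range (range_le hφ₀) ρ hρ a ha
    have hxT : ∀ x : P, φ x ∈ T → (x : Ω) ∈ T := fun x hx => by
      have h' := stronglyClosed_apply_mem hT hχ (x := ⟨φ x, x, rfl⟩) hx
      rwa [hχe x] at h'
    have hle₀ : φ.range ⊓ T ≤ (φ₀.range.subgroupOf T).map (T.subtype.comp a.toMonoidHom) := by
      rintro _ ⟨⟨x, rfl⟩, hx⟩
      exact ⟨⟨φ₀ ⟨x, x.2, hxT x hx⟩, hom_mem hφ₀ _⟩, ⟨_, rfl⟩, (hφ₀e ⟨x, x.2, hxT x hx⟩ _).symm⟩
    refine ⟨_, restrict_mem hχ' hle₀, ?_⟩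
    rintro ⟨_, ⟨x, rfl⟩, hx⟩ hx'
    show χ ⟨φ x, x, rfl⟩ = _
    rw [hχe x]
    set x' : ↥(P ⊓ T) := ⟨x, x.2, hxT x hx⟩ with hx'def
    have h1 : χ' (Subgroup.inclusion hle₀ ⟨φ x, ⟨x, rfl⟩, hx⟩) =
        ((a ⟨(x : Ω), hxT x hx⟩ : T) : Ω) := by
      have hmem : ρ ⟨φ₀ x', x', rfl⟩ ∈ T := by rw [hρe x']; exact hxT x hx
      refine (congrArg χ' (Subtype.ext (hφ₀e x' (hom_mem hφ₀ x')))).trans
        ((hχ'e ⟨φ₀ x', x', rfl⟩ hmem ?_).trans ?_)
      · exact ⟨⟨φ₀ x', hom_mem hφ₀ x'⟩, ⟨_, rfl⟩, rfl⟩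
      · exact congrArg (fun z : T => ((a z : T) : Ω)) (Subtype.ext (hρe x'))
    rw [show (⟨_, hx'⟩ : T) = a ⟨(x : Ω), hxT x hx⟩ from Subtype.ext h1, MulAut.inv_apply_self]

/-- The system over `U` of the maps joint with elements of `K`. -/
def jointSystem [Finite S] (hEi : E.IsInvariantIn F) (K : Subgroup (MulAut T)) (hK : K ≤ F.autGroup T)
    {U : Subgroup Ω} (hUS : U ≤ S)
    (hU : ∀ u ∈ U, ∀ hun : u ∈ Subgroup.normalizer (T : Set Ω), conjAut T hun ∈ K) : FusionSystem U where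
  Hom P := {φ | P ≤ U ∧ (∀ x, φ x ∈ U) ∧ JointIn F E K φ}
  le_of_mem h := ⟨h.1, h.2.1⟩
  injective_of_mem := fun ⟨_, _, _, _, h⟩ => F.injective_of_mem h.mem
  conj_mem := fun {P g} hP hg => ⟨hP, fun x => U.mul_mem (U.mul_mem hg (hP x.2)) (U.inv_mem hg), _,
    hU g hg (stronglyClosed_le_normalizer hEi.2.1 (hUS hg)),
    jointWith_conj hEi.2.1 (hUS hg) _ (hP.trans hUS)⟩
  comp_mem := by
    rintro P Q φ ψ ⟨hP, -, a, ha, hφ⟩ ⟨-, hψU, b, hb, hψ⟩ hv
    exact ⟨hP, fun x => hψU _, b * a, mul_mem hb ha, hφ.comp hEi (hK ha) hψ hv⟩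
  inv_mem := by
    rintro P φ ⟨hP, hφU, a, ha, hφ⟩
    obtain ⟨χ, hχ, hχe⟩ := hφ.inverse hEi (hK ha)
    refine ⟨χ, ⟨?_, ?_, a⁻¹, inv_mem ha, hχ⟩, hχe⟩
    · rintro _ ⟨x, rfl⟩
      exact hφU x
    · rintro ⟨_, x, rfl⟩
      rw [hχe]
      exact hP x.2

/-- Puig's argument: every map is joint with an element of `Aut_F(T)`. -/
theorem exists_jointWith [Finite S] [Fact p.Prime] (hS : IsPGroup p S) (hF : F.IsSaturated p)
    (hEi : E.IsInvariantIn F) {φ : P →* Ω} (hφ : φ ∈ F.Hom P) :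
    JointIn F E (F.autGroup T) φ := by
  have hT := hEi.2.1
  have hU : ∀ u ∈ S, ∀ hun : u ∈ Subgroup.normalizer (T : Set Ω), conjAut T hun ∈ F.autGroup T :=
    fun u hu hun => autInducedBy_le_autGroup hT.1 (conjAut_mem_autInducedBy hun hu)
  suffices h : F ≤ jointSystem hEi (F.autGroup T) le_rfl le_rfl hU from (h P hφ).2.2
  refine le_of_autGroup_le' hS hF _ fun P hP hbig => ?_
  have hn : F.IsFullyNormalized P := by
    rcases hP with rfl | hP
    exacts [isFullyNormalized_top F, hP.2.1]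
  have hPS := hn.1
  haveI := finite_of_le hPS
  haveI : Finite (MulAut P) := Finite.of_injective (fun f => (f : P → P)) DFunLike.coe_injective
  by_cases hTP : T ≤ P
  · intro β hβ
    have hle : P ⊔ T ≤ P := sup_le le_rfl hTP
    have hβF := (mem_autGroup hPS).1 hβ
    have hv : ∀ t : T, ((P.subtype.comp β.toMonoidHom).comp (Subgroup.inclusion hTP)) t ∈ T :=
      fun t => hT.2 T le_rfl _ (restrict_mem hβF hTP) t
    obtain ⟨a, ha, hae⟩ := exists_aut_of_hom (restrict_mem hβF hTP) hv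
    refine (mem_autGroup hPS).2 ⟨hPS, fun x => hPS (β x).2, a, ha, hβF, _, restrict_mem hβF hle,
      fun x => ?_, fun t => (hae t).symm, _, subtype_mem E inf_le_right, fun x _ => ?_⟩
    · rw [show (P.subtype.comp β.toMonoidHom x)⁻¹ *
          ((P.subtype.comp β.toMonoidHom).comp (Subgroup.inclusion hle)) (Subgroup.inclusion le_sup_left x) = 1
        from inv_mul_cancel _]
      exact T.one_mem
    · exact (hae ⟨(x : Ω), x.2.2⟩).symm
  obtain ⟨hfc, -, R, hR⟩ := isFullyAutomized_and_fc_of_fn hS hF hn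
  have hrec := isReceptive_of_fc hS hF hfc
  have hPTP : P ⊓ T ≤ P := inf_le_left
  have hstab : ∀ β ∈ F.autGroup P, ∀ x : P, (x : Ω) ∈ P ⊓ T ↔ ((β x : P) : Ω) ∈ P ⊓ T := by
    intro β hβ x
    refine ⟨fun hx => ⟨(β x).2, stronglyClosed_aut_mem hT hβ hPS hx.2⟩, fun hx => ⟨x.2, ?_⟩⟩
    have h := stronglyClosed_aut_mem hT (inv_mem hβ) hPS hx.2
    rwa [MulAut.inv_apply_self] at h
  let r : F.autGroup P →* MulAut ↥(P ⊓ T) := resAutHom hPTP _ hstab
  haveI := trivModT_normal hT hPS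
  haveI : ((E.autGroup (P ⊓ T)).comap r).Normal := by
    refine ⟨fun κ hκ b => ?_⟩
    have hb : IsoIn F (r b) := hom_congr (restrict_mem ((mem_autGroup hPS).1 b.2) hPTP) fun x => rfl
    have h := congr_mem_invariant hEi inf_le_right hb (Subgroup.mem_comap.1 hκ)
    refine Subgroup.mem_comap.2 ?_
    rw [map_mul, map_mul, map_inv]
    exact h
  let L : Subgroup (F.autGroup P) := trivModT F hT hPS ⊓ (E.autGroup (P ⊓ T)).comap r
  obtain ⟨R', hR'⟩ := exists_sylow_of_normal R L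
  let U : Subgroup (F.autGroup P) := ((R' : Subgroup L)).map L.subtype
  have hUiff : ∀ a, a ∈ U ↔ a ∈ L ∧ (a : MulAut P) ∈ autInducedBy S P := by
    intro a
    constructor
    · rintro ⟨b, hb, rfl⟩
      rw [SetLike.mem_coe, hR', Subgroup.mem_subgroupOf, hR] at hb
      exact ⟨b.2, hb⟩
    · rintro ⟨h1, h2⟩
      refine ⟨⟨a, h1⟩, ?_, rfl⟩
      rw [SetLike.mem_coe, hR', Subgroup.mem_subgroupOf, hR]
      exact h2
  let A : Subgroup (F.autGroup P) :=
    ((jointSystem hEi (F.autGroup T) le_rfl le_rfl hU).autGroup P).subgroupOf (F.autGroup P)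
  have hLA : L ≤ A := by
    intro κ hκ
    refine (mem_autGroup hPS).2 ⟨hPS, fun x => hPS ((κ : MulAut P) x).2, 1, one_mem _,
      (mem_autGroup hPS).1 κ.2, _, subtype_mem F (sup_le hPS hT.1), fun x => ?_, fun t => rfl,
      _, (mem_autGroup inf_le_right).1 (Subgroup.mem_comap.1 hκ.2), fun x _ => rfl⟩
    have := T.inv_mem (hκ.1 x)
    simpa [mul_inv_rev] using this
  have hNA : Subgroup.normalizer (U : Set (F.autGroup P)) ≤ A := by
    intro β hβ
    obtain ⟨ψ, hψ, hψe⟩ := hrec.2 P _ ((mem_autGroup hPS).1 β.2) (by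
      ext y
      exact ⟨by rintro ⟨x, rfl⟩; exact ((β : MulAut P) x).2,
        fun hy => ⟨(β : MulAut P).symm ⟨y, hy⟩, by simp⟩⟩)
    let N : Subgroup Ω := P ⊔ (T ⊓ Subgroup.normalizer (P : Set Ω))
    have hN : N ≤ extender S P (P.subtype.comp (β : MulAut P).toMonoidHom) := by
      refine sup_le (le_extender hPS fun x => hPS ((β : MulAut P) x).2) ?_
      rintro g ⟨hgT, hgN⟩
      have hca : conjAut P hgN ∈ F.autGroup P :=
        autInducedBy_le_autGroup hPS (conjAut_mem_autInducedBy hgN (hT.1 hgT))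
      have hgQ : g ∈ Subgroup.normalizer ((P ⊓ T : Subgroup Ω) : Set Ω) := by
        refine Subgroup.mem_normalizer_iff.2 fun z => ⟨fun hz => ?_, fun hz => ?_⟩
        · exact ⟨(Subgroup.mem_normalizer_iff.1 hgN z).1 hz.1, T.mul_mem (T.mul_mem hgT hz.2) (T.inv_mem hgT)⟩
        · refine ⟨(Subgroup.mem_normalizer_iff.1 hgN z).2 hz.1, ?_⟩
          have := T.mul_mem (T.mul_mem (T.inv_mem hgT) hz.2) hgT
          simpa [mul_assoc] using this
      have hcU : (⟨_, hca⟩ : F.autGroup P) ∈ U := by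
        refine (hUiff _).2 ⟨⟨fun x => ?_, ?_⟩, conjAut_mem_autInducedBy hgN (hT.1 hgT)⟩
        · show (x : Ω)⁻¹ * (g * x * g⁻¹) ∈ T
          have := T.mul_mem (stronglyClosed_conj_mem hT (S.inv_mem (hPS x.2)) hgT) (T.inv_mem hgT)
          simpa [mul_assoc] using this
        · refine Subgroup.mem_comap.2 ?_
          rw [show r ⟨_, hca⟩ = conjAut (P ⊓ T) hgQ from MulEquiv.ext fun x => Subtype.ext rfl]
          exact autInducedBy_le_autGroup inf_le_right (conjAut_mem_autInducedBy hgQ hgT)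
      obtain ⟨h, hh, hhv⟩ := mem_autInducedBy.1
        ((hUiff _).1 ((Subgroup.mem_normalizer_iff.1 hβ _).1 hcU)).2
      refine mem_extender_of (hT.1 hgT) hgN hh fun x hx => ?_
      have h3 := hhv ((β : MulAut P) x)
      simp only [Subgroup.coe_mul, Subgroup.coe_inv, MulAut.mul_apply,
        MulAut.inv_apply_self] at h3
      exact h3
    have hlt : P < N := by
      refine lt_of_le_of_ne le_sup_left fun he => ?_
      have h1 : P < P ⊔ T := left_lt_sup.2 hTP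
      haveI := finite_of_le (sup_le hPS hT.1)
      obtain ⟨g, ⟨hg, hgN⟩, hgP⟩ :=
        SetLike.exists_of_lt (lt_normalizerIn (hS.to_le (sup_le hPS hT.1)) h1)
      obtain ⟨x, hx, t, ht, rfl⟩ := exists_mul_of_mem_sup hT hPS hg
      have htN : t ∈ Subgroup.normalizer (P : Set Ω) := by
        have := Subgroup.mul_mem _ (Subgroup.inv_mem _ (Subgroup.le_normalizer hx)) hgN
        rwa [inv_mul_cancel_left] at this
      exact hgP (P.mul_mem hx (he.ge (Subgroup.mem_sup_right ⟨ht, htN⟩)))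
    have hcard : Nat.card P < Nat.card N := by
      haveI := finite_of_le (hN.trans fun g hg => (mem_extender.1 hg).1)
      refine lt_of_le_of_ne (card_le_of_le le_sup_left) fun he => hlt.ne ?_
      exact Subgroup.eq_of_le_of_card_ge le_sup_left he.ge
    obtain ⟨-, -, a, ha, hj⟩ := hbig N hcard (restrict_mem hψ hN)
    refine (mem_autGroup hPS).2 ⟨hPS, fun x => hPS ((β : MulAut P) x).2, a, ha,
      (hj.restrict le_sup_left).congr fun x => ?_⟩
    exact (hψe x x.2 (hN (Subgroup.mem_sup_left x.2))).symm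
  have htop : A = ⊤ := top_le_iff.1 ((Sylow.normalizer_sup_eq_top R').ge.trans (sup_le hNA hLA))
  exact Subgroup.subgroupOf_eq_top.1 htop

/-- An automorphism joint with an element whose `n`-th power lies in `K` is joint with an element of `K` when its
order is prime to `n`. -/
theorem jointIn_of_coprime [Finite S] (hEi : E.IsInvariantIn F) {K : Subgroup (MulAut T)} {a : MulAut T}
    (ha : a ∈ F.autGroup T) {β : MulAut P} (hj : JointWith F E a (P.subtype.comp β.toMonoidHom)) {n : ℕ}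
    (han : a ^ n ∈ K) (hn : (orderOf β).Coprime n) :
    JointIn F E K (P.subtype.comp β.toMonoidHom) := by
  have hpow : ∀ m : ℕ, 0 < m → JointWith F E (a ^ m) (P.subtype.comp (β ^ m).toMonoidHom) := by
    intro m hm
    induction m, hm using Nat.le_induction with
    | base => rw [pow_one, pow_one]; exact hj
    | succ m _ ih =>
      rw [pow_succ' a]
      refine (ih.comp hEi ((F.autGroup T).pow_mem ha m) hj fun x => ((β ^ m) x).2).congr fun x => ?_
      show ((β ^ (m + 1)) x : Ω) = (β ((β ^ m) x) : Ω)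
      rw [pow_succ', MulAut.mul_apply]
  rcases Nat.eq_zero_or_pos n with rfl | hn0
  · have hβ1 : β = 1 := orderOf_eq_one_iff.1 ((Nat.coprime_zero_right _).1 hn)
    subst hβ1
    have hP := hom_le hj.mem
    have h1 := jointWith_conj (E := E) hEi.2.1 (P := P) S.one_mem (Subgroup.one_mem _) hP
    refine ⟨1, K.one_mem, ?_⟩
    rw [show conjAut T (Subgroup.one_mem (Subgroup.normalizer (T : Set Ω))) = 1 from
      MulEquiv.ext fun x => Subtype.ext (by simp)] at h1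
    exact h1.congr fun x => by simp [conjHom]
  · obtain ⟨j, hj'⟩ := exists_pow_eq_self_of_coprime (x := β) hn.symm
    rcases Nat.eq_zero_or_pos j with rfl | hj0
    · have hβ1 : β = 1 := by simpa using hj'.symm
      refine ⟨a ^ n, han, (hpow n hn0).congr fun x => ?_⟩
      rw [hβ1, one_pow]
    · refine ⟨(a ^ n) ^ j, K.pow_mem han j, ?_⟩
      have h := hpow (n * j) (Nat.mul_pos hn0 hj0)
      rw [← pow_mul]
      rwa [pow_mul β, hj'] at h

/-- A map joint with an element of a normal subgroup fixes the class of conjugation on `T`. -/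
theorem conjAut_inv_mul_mem [Finite S] (hT : F.StronglyClosed T) {K : Subgroup (MulAut T)}
    (hKn : ∀ g ∈ F.autGroup T, ∀ k ∈ K, g * k * g⁻¹ ∈ K) (hinn : autInducedBy T T ≤ K)
    {φ : P →* Ω} (hj : JointIn F E K φ) (x : P) (h : (x : Ω)⁻¹ * φ x ∈ Subgroup.normalizer (T : Set Ω)) :
    conjAut T h ∈ K := by
  obtain ⟨a, ha, hφ, ψ, hψ, hψe, hψT, -⟩ := hj
  have hx : (x : Ω) ∈ S := hom_le hφ x.2
  have hxn : (x : Ω) ∈ Subgroup.normalizer (T : Set Ω) := stronglyClosed_le_normalizer hT hx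
  set cx := conjAut T hxn with hcx
  set t : T := ⟨_, hψe x⟩ with ht
  have htn : (t : Ω) ∈ Subgroup.normalizer (T : Set Ω) := Subgroup.le_normalizer t.2
  have hcxG : cx ∈ F.autGroup T := autInducedBy_le_autGroup hT.1 (conjAut_mem_autInducedBy hxn hx)
  have key : conjAut T h = cx⁻¹ * a * cx⁻¹⁻¹ * a⁻¹ * (conjAut T htn)⁻¹ := by
    refine MulEquiv.ext fun s => ?_
    have hrhs : ∀ u : T, u = a⁻¹ ((conjAut T htn)⁻¹ s) →
        (((cx⁻¹ * a * cx⁻¹⁻¹ * a⁻¹ * (conjAut T htn)⁻¹) s : T) : Ω) =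
          (x : Ω)⁻¹ * ((a (cx u) : T) : Ω) * x := by
      rintro u rfl
      simp only [MulAut.mul_apply, inv_inv]
      generalize a (cx (a⁻¹ ((conjAut T htn)⁻¹ s))) = w
      obtain ⟨v, rfl⟩ := cx.surjective w
      rw [MulAut.inv_apply_self]
      show (v : Ω) = (x : Ω)⁻¹ * ((x : Ω) * v * (x : Ω)⁻¹) * x
      group
    apply Subtype.ext
    rw [hrhs _ rfl]
    set u : T := a⁻¹ ((conjAut T htn)⁻¹ s) with hu
    have h1 : Subgroup.inclusion le_sup_right (cx u) = Subgroup.inclusion le_sup_left x *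
        Subgroup.inclusion le_sup_right u * (Subgroup.inclusion le_sup_left x)⁻¹ := Subtype.ext rfl
    have h2 : ((a u : T) : Ω) = (t : Ω)⁻¹ * s * t := by
      rw [hu, MulAut.apply_inv_self]
      have h3 := congrArg Subtype.val (MulAut.apply_inv_self T (conjAut T htn) s)
      rw [coe_conjAut] at h3
      generalize ((((conjAut T htn)⁻¹) s : T) : Ω) = v at h3
      rw [← h3]
      group
    have h4 : ψ (Subgroup.inclusion le_sup_left x) = φ x * t := (mul_inv_cancel_left _ _).symm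
    rw [← hψT, h1, map_mul, map_mul, map_inv, hψT, h2, h4, coe_conjAut]
    group
  rw [key]
  exact mul_mem (mul_mem (hKn _ (inv_mem hcxG) a ha) (inv_mem ha))
    (inv_mem (hinn (conjAut_mem_autInducedBy htn t.2)))

end Cfsg.Lib.FusionSys
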