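import Cfsg.Agent.Lib.FusionSys.ComponentCentralizes
import Cfsg.Agent.Lib.FusionSys.TransportAlong

/-!
Components are normal in the layer.
-/

set_option autoImplicit false
set_option linter.style.haveILetI false
set_option maxHeartbeats 800000

namespace Cfsg.Lib.FusionSys

open Cfsg Cfsg.FusionSystem

variable {Ω : Type*} [Group Ω] {S T U V : Subgroup Ω} {F : FusionSystem S} {p : ℕ}

/-- The layer of a normal subsystem is normal. -/
theorem layer_isNormalIn [Finite S] [Fact p.Prime] (hS : IsPGroup p S) {X : FusionSystem U}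
    (hX : X.IsNormalIn F p) {L : FusionSystem V} (hL : L.IsLayerOf X p) : L.IsNormalIn F p := by
  obtain ⟨hLn, hall, hmin⟩ := id hL
  have hXi := hX.1.2.2
  have hLi := hLn.1.2.2
  have hU : F.StronglyClosed U := hXi.2.1
  have hVX : X.StronglyClosed V := hLi.2.1
  have hVS : V ≤ S := hVX.1.trans hU.1
  haveI := finite_of_le hU.1
  haveI := finite_of_le hVS
  have hfwd : ∀ (α : MulAut U), α ∈ F.autGroup U →
      (SIso.ofEquiv α).img V ≤ V ∧ ∀ {P : Subgroup Ω} {φ : P →* Ω}, φ ∈ L.Hom P →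
        ∃ φ' ∈ L.Hom ((SIso.ofEquiv α).img P), (SIso.ofEquiv α).Rel φ φ' := fun α hα =>
    SIso.layer_fwd (hS.to_le hU.1) (SIso.mapsTo_of_invariant hXi hα) hL
  have hαV : ∀ (α : MulAut U), α ∈ F.autGroup U → ∀ u : U, (u : Ω) ∈ V → ((α u : U) : Ω) ∈ V :=
    fun α hα u hu => by
      rw [← SIso.ofEquiv_apply α u]
      exact (hfwd α hα).1 ((SIso.ofEquiv α).apply_mem_img hVX.1 hu)
  have hwn : L.IsWeaklyNormalIn F p := by
    refine ⟨hLn.1.1, hX.1.2.1, fun P => Set.Subset.trans (hLi.1 P) (hXi.1 P), ⟨hVS, fun P hP φ hφ x => ?_⟩,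
      ?_, ?_⟩
    · obtain ⟨α, hα, φ₀, hφ₀, he⟩ := hXi.2.2.2 P (hP.trans hVX.1) φ hφ
      rw [he x (hom_mem hφ₀ x)]
      exact hαV α hα _ (hVX.2 P hP φ₀ hφ₀ x)
    · intro P hP φ hφ a ha
      obtain ⟨α, hα, g₀, hg₀, hge⟩ := hXi.2.2.2 V hVX.1 _ ((mem_autGroup hVS).1 ha)
      obtain ⟨a₀, ha₀, ha₀e⟩ := exists_aut_of_hom hg₀ fun x => hVX.2 V le_rfl g₀ hg₀ x
      obtain ⟨χ₁, hχ₁, hχ₁e⟩ := hLi.2.2.1 P hP φ hφ a₀ ha₀
      obtain ⟨χ, hχ, hr⟩ := (hfwd α hα).2 hχ₁
      have hav : ∀ w : V, ((a w : V) : Ω) = (α ⟨(a₀ w : Ω), hVX.1 (a₀ w).2⟩ : U) := fun w =>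
        (hge w (hom_mem hg₀ w)).trans
          (congrArg (fun t : U => ((α t : U) : Ω)) (Subtype.ext (ha₀e w).symm))
      have hmem : ∀ w : V, (w : Ω) ∈ P → (a w : Ω) ∈ (SIso.ofEquiv α).img
          ((P.subgroupOf V).map (V.subtype.comp a₀.toMonoidHom)) := fun w hw => by
        rw [hav, ← SIso.ofEquiv_apply α ⟨(a₀ w : Ω), hVX.1 (a₀ w).2⟩]
        exact (SIso.ofEquiv α).apply_mem_img ((hom_le hχ₁).trans hVX.1) ⟨w, hw, rfl⟩
      have hle : (P.subgroupOf V).map (V.subtype.comp a.toMonoidHom) ≤ (SIso.ofEquiv α).img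
          ((P.subgroupOf V).map (V.subtype.comp a₀.toMonoidHom)) := by
        rintro _ ⟨w, hw, rfl⟩
        exact hmem w hw
      refine ⟨_, restrict_mem hχ hle, fun x hx hax => ?_⟩
      set w : V := ⟨(x : Ω), hP x.2⟩
      have hm₀ : (a₀ w : Ω) ∈ (P.subgroupOf V).map (V.subtype.comp a₀.toMonoidHom) := ⟨w, x.2, rfl⟩
      show χ ⟨(a w : Ω), hle hax⟩ = _
      have h1 : (SIso.ofEquiv α).toFun (a₀ w : Ω) = (a w : Ω) := by
        rw [hav]
        exact SIso.ofEquiv_apply α ⟨(a₀ w : Ω), hVX.1 (a₀ w).2⟩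
      refine (congrArg χ (Subtype.ext h1.symm : _ =
        (⟨(SIso.ofEquiv α).toFun (a₀ w : Ω), h1.symm ▸ hle hax⟩ :
          ↥((SIso.ofEquiv α).img _)))).trans ?_
      rw [hr _ hm₀, show χ₁ ⟨_, hm₀⟩ = (a₀ ⟨φ x, hx⟩ : V) from hχ₁e x hx hm₀, hav]
      exact SIso.ofEquiv_apply α ⟨(a₀ ⟨φ x, hx⟩ : Ω), hVX.1 (a₀ _).2⟩
    · intro P hP φ hφ
      obtain ⟨α, hα, φ₀, hφ₀, he⟩ := hXi.2.2.2 P (hP.trans hVX.1) φ hφ
      obtain ⟨a₁, ha₁, φ₁, hφ₁, he₁⟩ := hLi.2.2.2 P hP φ₀ hφ₀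
      obtain ⟨a₂, ha₂, ha₂e⟩ := exists_aut_restrict hU.1 hα hVX.1 fun x => hαV α hα _ x.2
      refine ⟨a₂ * a₁, mul_mem ha₂ ((mem_autGroup hVS).2 (hXi.1 V ((mem_autGroup hVX.1).1 ha₁))), φ₁, hφ₁,
        fun x hx => ?_⟩
      rw [he x (hom_mem hφ₀ x), MulAut.mul_apply, ha₂e]
      exact congrArg (fun t : U => ((α t : U) : Ω)) (Subtype.ext (he₁ x hx))
  obtain ⟨R, hR⟩ := exists_pPrimeResidual (hS.to_le hVS) hLn.1.1
  have hRX := isNormalIn_residual (hS.to_le hU.1) hLn.1 hR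
  have hLR : L.IsSubsystemOf R := hmin V R hRX fun W C hC =>
    component_le_normal hC.1 inferInstance inferInstance (hS.to_le hU.1) hC.2 V R hRX
      (hom_le (hall W C hC W (subtype_mem C le_rfl)))
  obtain rfl := fusionSystem_le_antisymm hLR hR.2.1.1
  exact isNormalIn_residual hS hwn hR

/-- A quasisimple subnormal subsystem over a subgroup of the group of a normal subsystem is subnormal in it. -/
theorem isSubnormalIn_of_le_normal {T S : Subgroup Ω} {C : FusionSystem T} {F : FusionSystem S} {p : ℕ}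
    (h : C.IsSubnormalIn F p) :
    Finite S → Fact p.Prime → IsPGroup p S → C.Quasisimple p →
      ∀ (R : Subgroup Ω) (N : FusionSystem R), N.IsNormalIn F p → T ≤ R → C.IsSubnormalIn N p := by
  induction h with
  | refl F p =>
    intro hfin hp hS hq R N hN hTR
    have hsub := component_le_normal (IsSubnormalIn.refl F p) hfin hp hS hq R N hN hTR
    haveI := hfin
    obtain rfl := le_antisymm hN.1.2.2.2.1.1 hTR
    obtain rfl := fusionSystem_le_antisymm hsub hN.1.2.2.1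
    exact IsSubnormalIn.refl _ _
  | @step U S C X F p hC hX ih =>
    intro hfin hp hS hq R N hN hTR
    haveI := hfin
    haveI := hp
    have c : MeetCtx F X N p := ⟨hS, hX, hN⟩
    have hUS : U ≤ S := hX.1.2.2.2.1.1
    have hTU : T ≤ U := hom_le (isSubsystemOf_of_isSubnormalIn hC T (subtype_mem C le_rfl))
    exact (ih (finite_of_le hUS) hp (hS.to_le hUS) hq _ _ c.isNormalIn₁ (le_inf hTU hTR)).step c.isNormalIn₂

/-- Every normal subsystem containing all components is the whole system. -/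
def IsSelfLayer {S : Subgroup Ω} (G : FusionSystem S) (p : ℕ) : Prop :=
  ∀ (R : Subgroup Ω) (D : FusionSystem R), D.IsNormalIn G p →
    (∀ (W : Subgroup Ω) (C : FusionSystem W), C.IsComponentIn G p → C.IsSubsystemOf D) → G.IsSubsystemOf D

/-- The layer is generated by its own components. -/
theorem isSelfLayer_layer [Finite S] [Fact p.Prime] (hS : IsPGroup p S) {E : FusionSystem T}
    (hE : E.IsLayerOf F p) : IsSelfLayer E p := by
  obtain ⟨hn, hall, hmin⟩ := id hE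
  have hTS : T ≤ S := hn.1.2.2.2.1.1
  haveI := finite_of_le hTS
  intro R D hD hDc
  obtain ⟨V, L, hL⟩ := exists_layer (hS.to_le hTS) hn.1.1
  have hLD := hL.2.2 R D hD hDc
  refine fun P => Set.Subset.trans (hmin V L (layer_isNormalIn hS hn hL) (fun W C hC => ?_) P) (hLD P)
  exact hL.2.1 W C ⟨isSubnormalIn_of_le_normal hC.1 inferInstance inferInstance hS hC.2 T E hn
    (hom_le (hall W C hC W (subtype_mem C le_rfl))), hC.2⟩

/-- A normal subsystem of a factor is normal in the product. -/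
theorem IsProd.isNormalIn_of_left {T₁ T₂ : Subgroup Ω} {E₁ : FusionSystem T₁} {E₂ : FusionSystem T₂}
    {D : FusionSystem V} [Finite V] (h : IsProd D E₁ E₂) (hD : D.IsSaturated p) {C : FusionSystem U}
    (hC : C.IsNormalIn E₁ p) : C.IsNormalIn D p := by
  obtain ⟨⟨hCs, -, hCi⟩, hext⟩ := hC
  have h1V : T₁ ≤ V := h.split.sup.le.trans' le_sup_left
  have h2V : T₂ ≤ V := h.split.sup.le.trans' le_sup_right
  have hUT : U ≤ T₁ := hCi.2.1.1
  have hsub : ∀ {P : Subgroup Ω} {φ : P →* Ω}, φ ∈ E₁.Hom P → φ ∈ D.Hom P := fun hφ => (h.mem_left.1 hφ).2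
  have hres : ∀ {P : Subgroup Ω} {φ : P →* Ω}, P ≤ U → φ ∈ D.Hom P → φ ∈ E₁.Hom P := fun hP hφ =>
    h.mem_left.2 ⟨hP.trans hUT, hφ⟩
  have hUV : U ≤ V := hUT.trans h1V
  have hautU : ∀ {α : MulAut U}, α ∈ D.autGroup U → α ∈ E₁.autGroup U := fun hα =>
    (mem_autGroup hUT).2 (hres le_rfl ((mem_autGroup hUV).1 hα))
  refine ⟨⟨hCs, hD, fun P φ hφ => hsub (hCi.1 P hφ), ⟨hUV, fun P hP φ hφ x => hCi.2.1.2 P hP φ (hres hP hφ) x⟩,
    fun P hP φ hφ α hα => hCi.2.2.1 P hP φ hφ α (hautU hα), fun P hP φ hφ => ?_⟩, fun α hα => ?_⟩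
  · obtain ⟨α, hα, φ₀, hφ₀, he⟩ := hCi.2.2.2 P hP φ (hres hP hφ)
    exact ⟨α, (mem_autGroup hUV).2 (hsub ((mem_autGroup hUT).1 hα)), φ₀, hφ₀, he⟩
  obtain ⟨β, hβ, hβe, hβd⟩ := hext α hα
  have hW₁T : U ⊔ centralizerIn T₁ U ≤ T₁ := sup_le hUT (centralizerIn_le U)
  obtain ⟨ψ, hψ, hψe, hψf⟩ := h.extFixes ((mem_autGroup hW₁T).1 hβ)
  have hsplit : ∀ c ∈ centralizerIn V U, ∃ a ∈ centralizerIn T₁ U, ∃ b ∈ T₂, c = a * b := by
    intro c hc
    obtain ⟨hcV, hcc⟩ := mem_centralizerIn.1 hc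
    obtain ⟨a, ha, b, hb, rfl⟩ := h.split.exists_mul hcV
    refine ⟨a, mem_centralizerIn.2 ⟨ha, fun u hu => ?_⟩, b, hb, rfl⟩
    have h1 : Commute (a * b) u := hcc u hu
    have h2 : Commute b u := (h.split.comm u (hUT hu) b hb).symm
    simpa using (h1.mul_left h2.inv_left).eq
  have hle : U ⊔ centralizerIn V U ≤ (U ⊔ centralizerIn T₁ U) ⊔ T₂ := sup_le (le_sup_left.trans le_sup_left) fun c hc => by
    obtain ⟨a, ha, b, hb, rfl⟩ := hsplit c hc
    exact mul_mem (Subgroup.mem_sup_left (Subgroup.mem_sup_right ha)) (Subgroup.mem_sup_right hb)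
  have hge : (U ⊔ centralizerIn T₁ U) ⊔ T₂ ≤ U ⊔ centralizerIn V U := sup_le (sup_le le_sup_left
    (fun c hc => Subgroup.mem_sup_right (mem_centralizerIn.2
      ⟨h1V (centralizerIn_le U hc), (mem_centralizerIn.1 hc).2⟩))) fun b hb =>
    Subgroup.mem_sup_right (mem_centralizerIn.2 ⟨h2V hb, fun u hu => (h.split.comm u (hUT hu) b hb).symm⟩)
  have hψ' := restrict_mem hψ hle
  obtain ⟨γ, hγ, hγe⟩ := exists_aut_of_hom hψ' fun z => by
    refine hom_mem_of_sup (f := ψ) (K := U ⊔ centralizerIn V U) (fun y hy => hge ?_) (fun y hy => hge ?_)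
      (Subgroup.inclusion hle z)
    · rw [show ψ y = (β ⟨(y : Ω), hy⟩ : ↥(U ⊔ centralizerIn T₁ U)) from hψe y hy y.2]
      exact Subgroup.mem_sup_left (β _).2
    · rw [show ψ y = y from hψf y hy y.2]
      exact Subgroup.mem_sup_right hy
  refine ⟨γ, hγ, fun x => ?_, fun c hc => ?_⟩
  · rw [hγe]
    exact (hψe x (Subgroup.mem_sup_left x.2) _).trans (hβe x)
  · obtain ⟨a, ha, b, hb, hab⟩ := hsplit c hc
    have haW : a ∈ U ⊔ centralizerIn T₁ U := Subgroup.mem_sup_right ha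
    have hd := hβd ⟨a, haW⟩ ha
    have hψc : ((γ c : _) : Ω) = (β ⟨a, haW⟩ : ↥(U ⊔ centralizerIn T₁ U)) * b := by
      rw [hγe]
      show ψ ⟨(c : Ω), hle c.2⟩ = _
      rw [show (⟨(c : Ω), hle c.2⟩ : ↥((U ⊔ centralizerIn T₁ U) ⊔ T₂)) = ⟨a, Subgroup.mem_sup_left haW⟩ *
        ⟨b, Subgroup.mem_sup_right hb⟩ from Subtype.ext hab, map_mul, hψe a haW, hψf b hb]
      rfl
    set d := a⁻¹ * ((β ⟨a, haW⟩ : ↥(U ⊔ centralizerIn T₁ U)) : Ω) with hddef
    have hdb : d * b = b * d := h.split.comm d (hUT hd.1) b hb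
    rw [hψc, hab, show (β ⟨a, haW⟩ : Ω) * b = a * (d * b) by rw [hddef]; group, hdb]
    simp only [mul_inv_rev, mul_assoc, inv_mul_cancel_left]
    exact hd

theorem component_normal_aux {T S : Subgroup Ω} {C : FusionSystem T} {G : FusionSystem S} {p : ℕ}
    (h : C.IsSubnormalIn G p) :
    Finite S → Fact p.Prime → IsPGroup p S → G.IsSaturated p → IsSelfLayer G p → C.Quasisimple p →
      (∀ (V : Subgroup Ω) (L : FusionSystem V), V ≤ S → Nat.card V < Nat.card S → L.IsSaturated p →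
        IsSelfLayer L p → C.IsComponentIn L p → C.IsNormalIn L p) →
      C.IsNormalIn G p := by
  induction h with
  | refl F p =>
    intro hfin hp hS hF _ _ _
    haveI := hfin
    exact isNormalIn_refl hF
  | @step U S C X F p hsub hX ih =>
    intro hfin hp hS hF hself hq hrec
    haveI := hfin
    haveI := hp
    have hUS : U ≤ S := hX.1.2.2.2.1.1
    haveI := finite_of_le hUS
    obtain ⟨V, L, hL⟩ := exists_layer (hS.to_le hUS) hX.1.1
    have hLX := hL.1
    have hVU : V ≤ U := hLX.1.2.2.2.1.1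
    have hVS := hVU.trans hUS
    haveI := finite_of_le hVS
    have hLF : L.IsNormalIn F p := layer_isNormalIn hS hX hL
    rcases eq_or_ne V S with rfl | hne
    · have hFL : F.IsSubsystemOf L := hself _ L hLF fun W K hK =>
        component_le_normal hK.1 inferInstance inferInstance hS hK.2 _ L hLF
          (hom_le (isSubsystemOf_of_isSubnormalIn hK.1 W (subtype_mem K le_rfl)))
      obtain rfl := le_antisymm hUS hVU
      obtain rfl := fusionSystem_le_antisymm (fun P φ hφ => hLX.1.2.2.1 P (hFL P hφ)) hX.1.2.2.1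
      exact ih hfin hp hS hF hself hq hrec
    have hlt : Nat.card V < Nat.card S := by
      refine lt_of_le_of_ne (card_le_of_le hVS) fun h => hne (eq_of_le_of_card_le le_rfl hVS h.ge)
    have hCX : C.IsComponentIn X p := ⟨hsub, hq⟩
    have hTV : T ≤ V := hom_le (hL.2.1 T C hCX T (subtype_mem C le_rfl))
    have hCL : C.IsNormalIn L p := hrec V L hVS hlt hLX.1.1 (isSelfLayer_layer (hS.to_le hUS) hL)
      ⟨isSubnormalIn_of_le_normal hsub inferInstance inferInstance (hS.to_le hUS) hq V L hLX hTV, hq⟩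
    obtain ⟨Y, D, hD, hYV, hLY, hDV, hrest⟩ := exists_normal_centralizing hS hLF
    have hYS : Y ≤ S := hYV.trans (centralizerIn_le V)
    haveI := finite_of_le hYS
    have hcomm : ∀ a ∈ V, ∀ b ∈ Y, a * b = b * a := fun a ha b hb =>
      ((mem_centralizerIn.1 (hYV hb)).2 a ha).symm
    have hz₁ : V ⊓ Y ≤ L.center := fun z hz => (mem_center_iff' (hS.to_le hVS) hLX.1.1).2
      ⟨hz.1, fun P φ hφ hzP => by
        obtain ⟨-, -, -, ψ, -, he, hf⟩ := hLY.2 P hφ
        exact (he ⟨z, hzP⟩).symm.trans (hf ⟨z, hz.2⟩)⟩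
    have hz₂ : V ⊓ Y ≤ D.center := fun z hz => (mem_center_iff' (hS.to_le hYS) hD.1.1).2
      ⟨hz.2, fun P φ hφ hzP => by
        obtain ⟨-, -, -, ψ, -, he, hf⟩ := hDV P hφ
        exact (he ⟨z, hzP⟩).symm.trans (hf ⟨z, hz.1⟩)⟩
    obtain ⟨M, hM, hMs⟩ := exists_centralProduct hS hVS hYS hLX.1.1 hD.1.1 hcomm hz₁ hz₂
    haveI := finite_of_le (sup_le hVS hYS)
    have hMn := isNormalIn_of_centralProduct hS hLF hD hM
    have hprod := isProd_of_centralProduct hM
    have hCM := hprod.isNormalIn_of_left hMs hCL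
    have hFM : F.IsSubsystemOf M := by
      classical
      refine hself _ M hMn fun W K hK P φ hφ => ?_
      by_cases hKL : K.IsSubsystemOf L
      · exact (hprod.mem_left.1 (hKL P hφ)).2
      · exact (hprod.mem_right.1 (hrest W K hK hKL P hφ)).2
    have key : ∀ (R : Subgroup Ω) (M : FusionSystem R), R = S → F.IsSubsystemOf M → M.IsSubsystemOf F →
        C.IsNormalIn M p → C.IsNormalIn F p := by
      rintro R M rfl h1 h2 h3
      obtain rfl := fusionSystem_le_antisymm h1 h2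
      exact h3
    exact key _ M (le_antisymm (sup_le hVS hYS) (hom_le (hFM S (subtype_mem F le_rfl)))) hFM
      hMn.1.2.2.1 hCM

/-- The components of a system equal to its layer are normal. -/
theorem component_isNormalIn_selfLayer [Fact p.Prime] (n : ℕ) :
    ∀ {S : Subgroup Ω} [Finite S] (G : FusionSystem S), Nat.card S = n → IsPGroup p S → G.IsSaturated p →
      IsSelfLayer G p → ∀ {T : Subgroup Ω} (C : FusionSystem T), C.IsComponentIn G p → C.IsNormalIn G p := by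
  induction n using Nat.strong_induction_on with
  | h n ih =>
    intro S _ G hn hS hG hself T C hC
    refine component_normal_aux hC.1 inferInstance inferInstance hS hG hself hC.2
      fun V L hVS hlt hL hLs hCL => ?_
    haveI := finite_of_le hVS
    exact ih _ (hn ▸ hlt) L rfl (hS.to_le hVS) hL hLs C hCL

/-- The components are normal in the layer. -/
theorem component_isNormalIn_layer [Finite S] [Fact p.Prime] (hS : IsPGroup p S) {E : FusionSystem V}
    (hE : E.IsLayerOf F p) {C : FusionSystem T} (hC : C.IsComponentIn F p) : C.IsNormalIn E p := by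
  have hVS : V ≤ S := hE.1.1.2.2.2.1.1
  haveI := finite_of_le hVS
  exact component_isNormalIn_selfLayer _ E rfl (hS.to_le hVS) hE.1.1.1 (isSelfLayer_layer hS hE) C
    ⟨isSubnormalIn_of_le_normal hC.1 inferInstance inferInstance hS hC.2 V E hE.1
      (hom_le (hE.2.1 T C hC T (subtype_mem C le_rfl))), hC.2⟩

end Cfsg.Lib.FusionSys
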