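import Cfsg.Agent.Lib.FusionSys.Simple
import Cfsg.Agent.Lib.FusionSys.OfGroup
import Cfsg.Agent.Lib.FusionSys.Basic

/-!
A criterion for the simplicity of the fusion system, at the characteristic, of a group of Lie type given as a
quotient of a group `G` by a central subgroup of order prime to `p`.
-/

set_option autoImplicit false

namespace Cfsg.Lib.FusionSys

open Cfsg Cfsg.FusionSystem

variable {G H : Type*} [Group G] [Finite G] [Group H] [Finite H] {p : ℕ} [Fact p.Prime]

/-- An element of `p`-power order is determined by its image modulo a central subgroup of order prime to `p`. -/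
theorem eq_of_map_eq {π : G →* H} (hker : π.ker ≤ Subgroup.center G) (hcop : (Nat.card π.ker).Coprime p)
    {a b : G} {i j : ℕ} (ha : a ^ p ^ i = 1) (hb : b ^ p ^ j = 1) (h : π a = π b) : a = b := by
  have hz : a * b⁻¹ ∈ π.ker := by rw [MonoidHom.mem_ker, map_mul, map_inv, h, mul_inv_cancel]
  have hc : Commute (a * b⁻¹) b := (Subgroup.mem_center_iff.1 (hker hz) b).symm
  have hab : Commute a b := by
    have := hc.mul_left (Commute.refl b)
    rwa [inv_mul_cancel_right] at this
  have h1 : (a * b⁻¹) ^ p ^ (i + j) = 1 := by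
    rw [hab.inv_right.mul_pow, inv_pow, pow_add, pow_mul, ha, one_pow, mul_comm (p ^ i), pow_mul, hb,
      one_pow, inv_one, one_mul]
  have h2 : (⟨_, hz⟩ : π.ker) ^ Nat.card π.ker = 1 := pow_card_eq_one'
  have h3 := pow_gcd_eq_one.2 ⟨congrArg Subtype.val h2, h1⟩
  rw [Nat.Coprime.gcd_eq_one (hcop.pow_right _), pow_one] at h3
  exact mul_inv_eq_one.1 h3

/-- The subgroups `R` of `U` used to detect automorphisms: normal in `U` and centric. -/
def IsParabolicRadical (π : G →* H) (U R : Subgroup G) : Prop :=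
  R ≤ U ∧ U ≤ Subgroup.normalizer (R : Set G) ∧
    ∀ x : G, (∀ r ∈ R, x * r = r * x) → π x ∈ R.map π

theorem isSimple_of_lie (π : G →* H) (hπ : Function.Surjective π) (hker : π.ker ≤ Subgroup.center G)
    (hcop : (Nat.card π.ker).Coprime p) (U : Subgroup G) (hUp : IsPGroup p U)
    (S : Sylow p H) (hS : U.map π = (S : Subgroup H)) (hU1 : U ≠ ⊥)
    (hclosed : ∀ T : Subgroup G, T ≤ U → T ≠ ⊥ → U ≤ Subgroup.normalizer (T : Set G) →
      (∀ t ∈ T, ∀ g : G, g * t * g⁻¹ ∈ U → g * t * g⁻¹ ∈ T) → T = U)
    (Tor : Set G)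
    (hsplit : ∀ g ∈ Subgroup.normalizer (U : Set G), π g ∈ Subgroup.closure ((π '' (U : Set G)) ∪ (π '' Tor)))
    (htor : ∀ h ∈ Tor, h ∈ Subgroup.normalizer (U : Set G) ∧ ∃ R, IsParabolicRadical π U R ∧
      h ∈ Subgroup.closure {x : G | x ∈ Subgroup.normalizer (R : Set G) ∧ ∃ k : ℕ, x ^ p ^ k = 1}) :
    (groupFusionSystem (S : Subgroup H)).IsSimple p := by
  have hSp : IsPGroup p (S : Subgroup H) := S.isPGroup'
  have hsat := isSaturated_groupFusionSystem S
  have hpow : ∀ u ∈ U, ∃ k : ℕ, u ^ p ^ k = 1 := fun u hu => by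
    obtain ⟨k, hk⟩ := hUp ⟨u, hu⟩
    exact ⟨k, congrArg Subtype.val hk⟩
  have hconj : ∀ g : G, ∀ u ∈ U, π (g * u * g⁻¹) ∈ (S : Subgroup H) → g * u * g⁻¹ ∈ U := by
    intro g u hu h
    rw [← hS] at h
    obtain ⟨v, hv, hvu⟩ := h
    obtain ⟨i, hi⟩ := hpow u hu
    obtain ⟨j, hj⟩ := hpow v hv
    have := eq_of_map_eq hker hcop hj (b := g * u * g⁻¹) (j := i)
      (by rw [conj_pow, hi, mul_one, mul_inv_cancel]) hvu
    exact this ▸ hv
  refine isSimple_of_forall hsat ?_ ?_ ?_
  · intro hbot
    apply hU1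
    rw [eq_bot_iff]
    intro u hu
    have h1 : π u ∈ (S : Subgroup H) := hS ▸ Subgroup.mem_map_of_mem π hu
    rw [hbot, Subgroup.mem_bot] at h1
    obtain ⟨k, hk⟩ := hpow u hu
    exact Subgroup.mem_bot.2 (eq_of_map_eq hker hcop hk (b := 1) (j := k) (one_pow _) (by rw [h1, map_one]))
  · intro T hT
    set T₀ := U ⊓ T.comap π with hT₀
    have hTS : T ≤ U.map π := hS ▸ hT.1
    by_cases hT0 : T₀ = ⊥
    · left
      rw [eq_bot_iff]
      intro t ht
      obtain ⟨u, hu, rfl⟩ := hTS ht
      have : u ∈ T₀ := ⟨hu, ht⟩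
      rw [hT0, Subgroup.mem_bot] at this
      simp [this]
    right
    have hkey : ∀ t ∈ T₀, ∀ g : G, g * t * g⁻¹ ∈ U → g * t * g⁻¹ ∈ T₀ := by
      rintro t ⟨htU, htT⟩ g hgU
      refine ⟨hgU, ?_⟩
      show π (g * t * g⁻¹) ∈ T
      have hmem : π g * π t * (π g)⁻¹ ∈ (S : Subgroup H) := by
        rw [← map_inv, ← map_mul, ← map_mul, ← hS]
        exact Subgroup.mem_map_of_mem π hgU
      have h := hT.2 (Subgroup.zpowers (π t)) (Subgroup.zpowers_le.2 htT)
        ((MulAut.conj (π g)).toMonoidHom.comp (Subgroup.zpowers (π t)).subtype) ?_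
        ⟨π t, Subgroup.mem_zpowers _⟩
      · rw [map_mul, map_mul, map_inv]
        exact h
      refine ⟨Subgroup.zpowers_le.2 (hT.1 htT), fun y => ?_, π g, fun y => rfl⟩
      obtain ⟨k, hk⟩ := Subgroup.mem_zpowers_iff.1 y.2
      show MulAut.conj (π g) (y : H) ∈ (S : Subgroup H)
      rw [← hk, map_zpow]
      exact zpow_mem (by simpa using hmem) k
    have hn : U ≤ Subgroup.normalizer (T₀ : Set G) := fun u hu => Subgroup.mem_normalizer_fintype
      fun t ht => hkey t ht u (U.mul_mem (U.mul_mem hu ht.1) (U.inv_mem hu))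
    have hTU := hclosed T₀ inf_le_left hT0 hn hkey
    refine le_antisymm hT.1 ?_
    rw [← hS]
    rintro _ ⟨u, hu, rfl⟩
    have : u ∈ T₀ := hTU.ge hu
    exact this.2
  · intro E hE hEi
    -- elements acting on `S` inside `E`
    let K : Subgroup (Subgroup.normalizer ((S : Subgroup H) : Set H)) :=
      (E.autGroup (S : Subgroup H)).comap (S : Subgroup H).normalizerMonoidHom
    have hnorm : ∀ g ∈ Subgroup.normalizer (U : Set G), π g ∈ Subgroup.normalizer ((S : Subgroup H) : Set H) := by
      intro g hg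
      refine Subgroup.mem_normalizer_fintype ?_
      rw [← hS]
      rintro _ ⟨u, hu, rfl⟩
      exact ⟨g * u * g⁻¹, (hg u).1 hu, by rw [map_mul, map_mul, map_inv]⟩
    have hgood : ∀ y ∈ (π '' (U : Set G)) ∪ (π '' Tor),
        ∃ hy : y ∈ Subgroup.normalizer ((S : Subgroup H) : Set H), (⟨y, hy⟩ : Subgroup.normalizer ((S : Subgroup H) : Set H)) ∈ K := by
      rintro _ (⟨u, hu, rfl⟩ | ⟨h, hh, rfl⟩)
      · have huS : π u ∈ (S : Subgroup H) := hS ▸ Subgroup.mem_map_of_mem π hu
        refine ⟨Subgroup.le_normalizer huS, ?_⟩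
        exact inn_le_autGroup le_rfl ⟨⟨π u, huS⟩, MulEquiv.ext fun x => Subtype.ext rfl⟩
      · obtain ⟨hhN, R, ⟨hRU, hUR, hRc⟩, hclo⟩ := htor h hh
        refine ⟨hnorm h hhN, ?_⟩
        set R' := R.map π with hR'
        have hR'S : R' ≤ (S : Subgroup H) := hS ▸ Subgroup.map_mono hRU
        have hSR' : (S : Subgroup H) ≤ Subgroup.normalizer (R' : Set H) := by
          rw [← hS]
          exact (Subgroup.map_mono hUR).trans (Subgroup.le_normalizer_map π)
        have hcentric : (groupFusionSystem (S : Subgroup H)).IsCentric R' := by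
          refine ⟨hR'S, fun Q hQ => ?_⟩
          obtain ⟨φ, ⟨-, -, g, hg⟩, rfl⟩ := hQ
          rintro x ⟨-, hx⟩
          obtain ⟨y, hy⟩ := hπ (g⁻¹ * x * g)
          have hcom : ∀ r ∈ R, y * r = r * y := by
            intro r hr
            obtain ⟨i, hi⟩ := hpow r (hRU hr)
            have h1 : π (y * r * y⁻¹) = π r := by
              have hxr : φ ⟨π r, Subgroup.mem_map_of_mem π hr⟩ * x = x * φ ⟨π r, Subgroup.mem_map_of_mem π hr⟩ :=
                Subgroup.mem_centralizer_iff.1 hx _ ⟨_, rfl⟩
              rw [hg] at hxr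
              rw [map_mul, map_mul, map_inv, hy, mul_inv_eq_iff_eq_mul]
              calc g⁻¹ * x * g * π r = g⁻¹ * (x * (g * π r * g⁻¹)) * g := by group
                _ = g⁻¹ * ((g * π r * g⁻¹) * x) * g := by rw [hxr]
                _ = π r * (g⁻¹ * x * g) := by group
            have h2 := eq_of_map_eq hker hcop (a := y * r * y⁻¹) (i := i)
              (by rw [conj_pow, hi, mul_one, mul_inv_cancel]) hi h1
            exact mul_inv_eq_iff_eq_mul.1 h2
          have hyR := hRc y hcom
          rw [hy] at hyR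
          refine ⟨⟨g⁻¹ * x * g, hyR⟩, ?_⟩
          rw [hg]
          group
        have hfn : (groupFusionSystem (S : Subgroup H)).IsFullyNormalized R' := by
          refine ⟨hR'S, fun Q _ => ?_⟩
          have htop : normalizerIn (S : Subgroup H) R' = S := inf_eq_left.2 hSR'
          rw [htop]
          exact Subgroup.card_le_of_le (normalizerIn_le Q)
        have hfa := (isFullyAutomized_and_fc_of_fn hSp hsat hfn).2
        have key : ∀ x ∈ Subgroup.closure {x : G | x ∈ Subgroup.normalizer (R : Set G) ∧ ∃ k : ℕ, x ^ p ^ k = 1},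
            ∃ hx : π x ∈ Subgroup.normalizer (R' : Set H),
              R'.normalizerMonoidHom ⟨π x, hx⟩ ∈ E.autGroup R' := by
          intro x hx
          induction hx using Subgroup.closure_induction with
          | mem x hx =>
            obtain ⟨hxN, k, hk⟩ := hx
            have hxN' : π x ∈ Subgroup.normalizer (R' : Set H) :=
              Subgroup.le_normalizer_map π (Subgroup.mem_map_of_mem π hxN)
            refine ⟨hxN', autGroup_pElement_mem hEi hfa ?_ (k := k) ?_⟩
            · rw [autGroup_groupFusionSystem _ hR'S]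
              exact conjAut_mem_autInducedBy hxN' (Subgroup.mem_top _)
            · rw [← map_pow]
              refine (congrArg _ (Subtype.ext ?_)).trans (map_one _)
              show π x ^ p ^ k = 1
              rw [← map_pow, hk, map_one]
          | one =>
            refine ⟨by rw [map_one]; exact one_mem _, ?_⟩
            have h1 : R'.normalizerMonoidHom 1 ∈ E.autGroup R' := by rw [map_one]; exact one_mem _
            refine (congrArg (R'.normalizerMonoidHom · ∈ E.autGroup R') (Subtype.ext ?_)).mpr h1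
            exact map_one π
          | mul a b _ _ ha hb =>
            obtain ⟨haN, ha⟩ := ha
            obtain ⟨hbN, hb⟩ := hb
            refine ⟨by rw [map_mul]; exact mul_mem haN hbN, ?_⟩
            have h1 := mul_mem ha hb
            rw [← map_mul] at h1
            refine (congrArg (R'.normalizerMonoidHom · ∈ E.autGroup R') (Subtype.ext ?_)).mpr h1
            exact map_mul π a b
          | inv a _ ha =>
            obtain ⟨haN, ha⟩ := ha
            refine ⟨by rw [map_inv]; exact inv_mem haN, ?_⟩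
            have h1 := inv_mem ha
            rw [← map_inv] at h1
            refine (congrArg (R'.normalizerMonoidHom · ∈ E.autGroup R') (Subtype.ext ?_)).mpr h1
            exact map_inv π a
        obtain ⟨hhR, hhE⟩ := key h hclo
        refine conj_mem_of_centric hSp hsat hE hEi.1 ?_ hR'S hcentric ?_
        · rw [autGroup_groupFusionSystem _ le_rfl]
          exact conjAut_mem_autInducedBy (hnorm h hhN) (Subgroup.mem_top _)
        · exact hom_congr ((mem_autGroup hR'S).1 hhE) fun x => rfl
    have hclK : ∀ y ∈ Subgroup.closure ((π '' (U : Set G)) ∪ (π '' Tor)),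
        ∃ hy : y ∈ Subgroup.normalizer ((S : Subgroup H) : Set H), (⟨y, hy⟩ : Subgroup.normalizer ((S : Subgroup H) : Set H)) ∈ K := by
      intro y hy
      induction hy using Subgroup.closure_induction with
      | mem y hy => exact hgood y hy
      | one => exact ⟨one_mem _, one_mem K⟩
      | mul a b _ _ ha hb =>
        obtain ⟨haN, ha⟩ := ha
        obtain ⟨hbN, hb⟩ := hb
        exact ⟨mul_mem haN hbN, mul_mem ha hb⟩
      | inv a _ ha =>
        obtain ⟨haN, ha⟩ := ha
        exact ⟨inv_mem haN, inv_mem ha⟩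
    intro α hα
    rw [autGroup_groupFusionSystem _ le_rfl, mem_autInducedBy] at hα
    obtain ⟨y, -, hy⟩ := hα
    obtain ⟨g, rfl⟩ := hπ y
    have hgN : g ∈ Subgroup.normalizer (U : Set G) := Subgroup.mem_normalizer_fintype fun u hu =>
      hconj g u hu (by
        rw [map_mul, map_mul, map_inv]
        exact (hy ⟨π u, hS ▸ Subgroup.mem_map_of_mem π hu⟩) ▸ (α _).2)
    obtain ⟨hgS, hgK⟩ := hclK _ (hsplit g hgN)
    have : α = (S : Subgroup H).normalizerMonoidHom ⟨π g, hgS⟩ := MulEquiv.ext fun x => Subtype.ext (hy x)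
    exact this ▸ hgK

end Cfsg.Lib.FusionSys
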