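import Cfsg.Agent.Lib.FusionSys.LieSimple
import Cfsg.Agent.Lib.Linear.SLBasic
import Cfsg.Agent.S2579
import Cfsg.Agent.Lib.PGroup.Basic

/-!
The fusion system of `PSL_n(q)`, `n ≥ 3`, at the characteristic is simple.
-/

set_option autoImplicit false
set_option linter.unusedSectionVars false

namespace Cfsg.Lib.FusionSys.PSLChar

open Matrix

variable {K : Type*} [Field K] [Fintype K] {n : ℕ}

local notation "G" => Matrix.SpecialLinearGroup (Fin n) K

theorem mul_val (a b : G) : (a * b).1 = a.1 * b.1 := rfl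

theorem one_val : (1 : G).1 = 1 := rfl

theorem pow_val (a : G) (m : ℕ) : (a ^ m).1 = a.1 ^ m := Matrix.SpecialLinearGroup.coe_pow a m

theorem tv_val {i j : Fin n} (h : i ≠ j) (c : K) :
    (Matrix.SpecialLinearGroup.transvection h c : G).1 = 1 + Matrix.single i j c :=
  Matrix.SpecialLinearGroup.transvection_coe h c

theorem d2_val {i j : Fin n} (h : i ≠ j) (c : K) (hc : c ≠ 0) :
    (Matrix.SpecialLinearGroup.diag2n h c hc : G).1 =
      Matrix.diagonal (fun a => if a = i then c else if a = j then c⁻¹ else 1) :=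
  Matrix.SpecialLinearGroup.diag2n_coe h c hc

/-- Upper unitriangular matrices. -/
def upper : Subgroup G where
  carrier := {g | (∀ i j, j < i → g.1 i j = 0) ∧ ∀ i, g.1 i i = 1}
  one_mem' := ⟨fun i j h => by simp [h.ne'], fun i => by simp⟩
  mul_mem' := fun {a b} ha hb => by
    have hz : ∀ i j m, (j < i ∨ (i = j ∧ m ≠ i)) → a.1 i m * b.1 m j = 0 := fun i j m h => by
      rcases lt_trichotomy m i with hm | hm | hm
      · rw [ha.1 i m hm, zero_mul]
      · rcases h with h | h
        · rw [hm, hb.1 i j h, mul_zero]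
        · exact absurd hm h.2
      · rcases h with h | ⟨rfl, -⟩
        · rw [hb.1 m j (h.trans hm), mul_zero]
        · rw [hb.1 m i hm, mul_zero]
    refine ⟨fun i j h => ?_, fun i => ?_⟩
    · rw [mul_val, Matrix.mul_apply]
      exact Finset.sum_eq_zero fun m _ => hz i j m (Or.inl h)
    · rw [mul_val, Matrix.mul_apply,
        Finset.sum_eq_single i (fun m _ hm => hz i i m (Or.inr ⟨rfl, hm⟩)) (by simp), ha.2, hb.2, one_mul]
  inv_mem' := fun {a} ha => by
    have hT : BlockTriangular a.1 id := fun i j h => ha.1 i j h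
    have hi : (a⁻¹ : G).1 = a.1⁻¹ := by
      rw [Matrix.inv_eq_left_inv]
      rw [← mul_val, inv_mul_cancel, one_val]
    haveI : Invertible a.1 := invertibleOfLeftInverse _ (a⁻¹ : G).1
      (by rw [← mul_val, inv_mul_cancel, one_val])
    have hTi : BlockTriangular (a⁻¹ : G).1 id := hi ▸ blockTriangular_inv_of_blockTriangular hT
    refine ⟨fun i j h => hTi h, fun i => ?_⟩
    have h1 : ((a⁻¹ : G).1 * a.1) i i = 1 := by
      rw [← mul_val, inv_mul_cancel, one_val, Matrix.one_apply_eq]
    rwa [Matrix.mul_apply, Finset.sum_eq_single i (fun m _ hm => by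
      rcases lt_or_gt_of_ne hm with h | h
      · rw [hTi h, zero_mul]
      · rw [ha.1 m i h, mul_zero]) (by simp), ha.2, mul_one] at h1

theorem transvection_mem {i j : Fin n} (h : i < j) (c : K) :
    Matrix.SpecialLinearGroup.transvection h.ne c ∈ upper (K := K) (n := n) := by
  refine ⟨fun a b hab => ?_, fun a => ?_⟩
  · rw [tv_val]
    simp [Matrix.add_apply, hab.ne', Matrix.single_apply]
    rintro rfl rfl
    exact absurd h hab.asymm
  · rw [tv_val]
    simp [Matrix.add_apply, Matrix.single_apply]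
    rintro rfl rfl
    exact absurd h (lt_irrefl _)

theorem eq_one_of_diag {g : G} (hg : g ∈ upper (K := K) (n := n))
    (h : ∀ i j, i < j → g.1 i j = 0) : g = 1 := by
  apply Matrix.SpecialLinearGroup.ext
  intro i j
  rw [one_val]
  rcases lt_trichotomy i j with hij | rfl | hij
  · rw [h i j hij, Matrix.one_apply_ne hij.ne]
  · rw [hg.2, Matrix.one_apply_eq]
  · rw [hg.1 i j hij, Matrix.one_apply_ne hij.ne']

theorem upper_le {T : Subgroup G}
    (h : ∀ (i j : Fin n) (hij : i < j) (c : K), Matrix.SpecialLinearGroup.transvection hij.ne c ∈ T) :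
    upper (K := K) (n := n) ≤ T := by
  classical
  intro g hg
  suffices ∀ (m : ℕ) (g : G), g ∈ upper (K := K) (n := n) →
      (Finset.univ.filter fun x : Fin n × Fin n => x.1 < x.2 ∧ g.1 x.1 x.2 ≠ 0).card ≤ m → g ∈ T from
    this _ g hg le_rfl
  intro m
  induction m with
  | zero =>
    intro g hg hc
    rw [Nat.le_zero, Finset.card_eq_zero, Finset.filter_eq_empty_iff] at hc
    rw [eq_one_of_diag hg fun i j hij => by_contra fun hne => hc (Finset.mem_univ (i, j)) ⟨hij, hne⟩]
    exact one_mem T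
  | succ m ih =>
    intro g hg hc
    set s := Finset.univ.filter fun x : Fin n × Fin n => x.1 < x.2 ∧ g.1 x.1 x.2 ≠ 0 with hs
    rcases s.eq_empty_or_nonempty with he | hne
    · refine ih g hg ?_
      rw [← hs, he, Finset.card_empty]
      exact Nat.zero_le m
    obtain ⟨⟨i, j⟩, hmem, hmax⟩ := s.exists_max_image Prod.fst hne
    obtain ⟨-, hij : i < j, hgij : g.1 i j ≠ 0⟩ := Finset.mem_filter.1 hmem
    set t : G := Matrix.SpecialLinearGroup.transvection hij.ne (-g.1 i j)
    have hrow : ∀ l, l ≠ j → g.1 j l = 0 := fun l hl => by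
      rcases lt_or_gt_of_ne hl with h' | h'
      · exact hg.1 j l h'
      · by_contra hne'
        exact absurd (hmax (j, l) (Finset.mem_filter.2 ⟨Finset.mem_univ _, h', hne'⟩)) (not_le.2 hij)
    have hent : ∀ a b, (t * g).1 a b = if a = i ∧ b = j then 0 else g.1 a b := by
      intro a b
      rw [mul_val, tv_val, add_mul, one_mul, Matrix.add_apply]
      by_cases ha : a = i
      · subst ha
        rw [Matrix.single_mul_apply_same]
        by_cases hb : b = j
        · subst hb
          rw [hg.2, if_pos ⟨rfl, rfl⟩]; ring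
        · rw [hrow b hb, mul_zero, add_zero, if_neg (fun h => hb h.2)]
      · rw [Matrix.single_mul_apply_of_ne _ _ _ _ _ ha, add_zero, if_neg (fun h => ha h.1)]
    have htg : t * g ∈ T := by
      refine ih _ (mul_mem (transvection_mem hij _) hg) ?_
      have hsub : (Finset.univ.filter fun x : Fin n × Fin n => x.1 < x.2 ∧ (t * g).1 x.1 x.2 ≠ 0) ⊆
          s.erase (i, j) := by
        intro x hx
        rw [Finset.mem_filter, hent] at hx
        obtain ⟨-, hlt, hne'⟩ := hx
        split_ifs at hne' with hxe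
        · exact absurd rfl hne'
        · exact Finset.mem_erase.2 ⟨fun he => hxe ⟨congrArg Prod.fst he, congrArg Prod.snd he⟩,
            Finset.mem_filter.2 ⟨Finset.mem_univ _, hlt, hne'⟩⟩
      have := (Finset.card_le_card hsub).trans (Finset.card_erase_of_mem hmem).le
      omega
    have h2 := T.mul_mem (T.inv_mem (h i j hij (-g.1 i j))) htg
    rwa [inv_mul_cancel_left] at h2

/-- The normalizer of the unitriangular group is triangular. -/
theorem triangular_of_normalizer {g : G}
    (hg : g ∈ Subgroup.normalizer (upper (K := K) (n := n) : Set G)) :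
    ∀ a k : Fin n, k < a → g.1 a k = 0 := by
  suffices ∀ (m : ℕ) (a k : Fin n), k.1 = m → k < a → g.1 a k = 0 from fun a k h => this _ a k rfl h
  intro m
  induction m using Nat.strong_induction_on with
  | _ m IH =>
    rintro a k rfl hka
    have hka' : k.1 < a.1 := hka
    obtain ⟨b, hb⟩ : ∃ b : Fin n, b.1 + 1 = a.1 := ⟨⟨a.1 - 1, by omega⟩, by simp only; omega⟩
    have hba : b < a := by show b.1 < a.1; omega
    have hkb : k ≤ b := by show k.1 ≤ b.1; omega
    set t : G := Matrix.SpecialLinearGroup.transvection hba.ne 1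
    have hu : g⁻¹ * t * g ∈ upper (K := K) (n := n) :=
      (Subgroup.mem_normalizer_iff''.1 hg t).1 (transvection_mem hba 1)
    have h1 : (t * g).1 b k = (g * (g⁻¹ * t * g)).1 b k := by
      rw [show g * (g⁻¹ * t * g) = t * g by group]
    generalize g⁻¹ * t * g = u at hu h1
    rw [mul_val, mul_val, tv_val,
      add_mul, one_mul, Matrix.add_apply, Matrix.single_mul_apply_same, one_mul, Matrix.mul_apply,
      Finset.sum_eq_single k (fun l _ hl => by
        rcases lt_or_gt_of_ne hl with h' | h'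
        · rw [IH l.1 h' b l rfl (h'.trans_le hkb), zero_mul]
        · rw [hu.1 l k h', mul_zero]) (by simp), hu.2, mul_one] at h1
    exact add_eq_left.1 h1

theorem pow_eq_one {p : ℕ} [Fact p.Prime] [CharP K p] {g : G} (hg : g ∈ upper (K := K) (n := n)) :
    g ^ p ^ n = 1 := by
  rcases Nat.eq_zero_or_pos n with rfl | hn
  · exact Matrix.SpecialLinearGroup.ext _ _ fun i => i.elim0
  haveI : Nonempty (Fin n) := ⟨⟨0, hn⟩⟩
  have hnil : (g.1 - 1) ^ n = 0 := by
    have key : ∀ m : ℕ, ∀ i j : Fin n, j.1 < i.1 + m → ((g.1 - 1) ^ m) i j = 0 := by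
      intro m
      induction m with
      | zero => intro i j h; rw [pow_zero, Matrix.one_apply_ne (by rintro rfl; omega)]
      | succ m ih =>
        intro i j h
        rw [pow_succ, Matrix.mul_apply]
        refine Finset.sum_eq_zero fun l _ => ?_
        by_cases hl : l.1 < i.1 + m
        · rw [ih i l hl, zero_mul]
        · rcases lt_or_eq_of_le (show j.1 ≤ l.1 by omega) with hjl | hjl
          · rw [Matrix.sub_apply, hg.1 l j hjl, Matrix.one_apply_ne (by rintro rfl; omega), sub_zero, mul_zero]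
          · rw [show l = j from Fin.ext hjl.symm, Matrix.sub_apply, hg.2, Matrix.one_apply_eq, sub_self, mul_zero]
    ext i j
    exact key n i j (by omega)
  have h := sub_pow_char_pow_of_commute p n (Commute.one_right g.1)
  rw [one_pow, show (g.1 - 1) ^ p ^ n = 0 from pow_eq_zero_of_le
    (Nat.lt_pow_self (Fact.out : p.Prime).one_lt).le hnil] at h
  apply Subtype.ext
  rw [pow_val, one_val]
  exact sub_eq_zero.1 h.symm

theorem diag_mul {a b : G} (ha : ∀ i j, j < i → a.1 i j = 0) (hb : ∀ i j, j < i → b.1 i j = 0)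
    (i : Fin n) : (a * b).1 i i = a.1 i i * b.1 i i := by
  rw [mul_val, Matrix.mul_apply]
  refine Finset.sum_eq_single i (fun m _ hm => ?_) (by simp)
  rcases lt_or_gt_of_ne hm with h | h
  · rw [ha i m h, zero_mul]
  · rw [hb m i h, mul_zero]

theorem isPGroup_upper (p : ℕ) [Fact p.Prime] [CharP K p] : IsPGroup p (upper (K := K) (n := n)) :=
  fun g => ⟨n, Subtype.ext (pow_eq_one g.2)⟩

/-- The unitriangular group is a Sylow subgroup. -/
theorem exists_sylow_upper (p : ℕ) [Fact p.Prime] [CharP K p] :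
    ∃ P : Sylow p G, (P : Subgroup G) = upper (K := K) (n := n) := by
  obtain ⟨R, hR⟩ := (isPGroup_upper (K := K) (n := n) p).exists_le_sylow
  refine ⟨R, le_antisymm ?_ hR⟩
  by_contra hne
  have hlt : (upper (K := K) (n := n)).subgroupOf (R : Subgroup G) < ⊤ := by
    rw [lt_top_iff_ne_top, Ne, Subgroup.subgroupOf_eq_top]
    exact hne
  haveI : Group.IsNilpotent (R : Subgroup G) := R.2.isNilpotent
  obtain ⟨x, hxN, hxU⟩ := SetLike.exists_of_lt (Group.normalizerCondition_of_isNilpotent _ hlt)
  have hxn : (x : G) ∈ Subgroup.normalizer (upper (K := K) (n := n) : Set G) := by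
    refine Subgroup.mem_normalizer_fintype fun u hu => ?_
    have := (Subgroup.mem_normalizer_iff.1 hxN ⟨u, hR hu⟩).1 hu
    exact this
  have htri := triangular_of_normalizer hxn
  obtain ⟨k, hk⟩ := R.2 x
  have hpow : ∀ m : ℕ, (∀ i j, j < i → ((x : G) ^ m).1 i j = 0) ∧ ∀ i, ((x : G) ^ m).1 i i = (x : G).1 i i ^ m := by
    intro m
    induction m with
    | zero => exact ⟨fun i j h => by simp [h.ne'], fun i => by simp⟩
    | succ m ih =>
      refine ⟨fun i j h => ?_, fun i => by rw [pow_succ (x : G), diag_mul ih.1 htri, ih.2, ← pow_succ]⟩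
      rw [pow_succ, mul_val, Matrix.mul_apply]
      refine Finset.sum_eq_zero fun l _ => ?_
      rcases lt_or_ge l i with hl | hl
      · rw [ih.1 i l hl, zero_mul]
      · rw [htri l j (h.trans_le hl), mul_zero]
  refine hxU ⟨htri, fun i => ?_⟩
  have h1 := (hpow (p ^ k)).2 i
  rw [show (x : G) ^ p ^ k = 1 from congrArg Subtype.val hk, one_val, Matrix.one_apply_eq] at h1
  have h2 : ((x : G).1 i i - 1) ^ p ^ k = 0 := by rw [sub_pow_char_pow, ← h1, one_pow, sub_self]
  exact sub_eq_zero.1 (eq_zero_of_pow_eq_zero h2)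

theorem transvection_commute {x : G} {k l : Fin n} (hkl : k ≠ l)
    (h : x * Matrix.SpecialLinearGroup.transvection hkl 1 = Matrix.SpecialLinearGroup.transvection hkl 1 * x) :
    (∀ a, a ≠ k → x.1 a k = 0) ∧ (∀ b, b ≠ l → x.1 l b = 0) ∧ x.1 k k = x.1 l l := by
  have h1 : x.1 * Matrix.single k l 1 = Matrix.single k l (1 : K) * x.1 := by
    have h2 := congrArg (fun y : G => y.1) h
    simp only [mul_val, tv_val, mul_add, add_mul, mul_one,
      one_mul] at h2
    exact add_left_cancel h2
  refine ⟨fun a ha => ?_, fun b hb => ?_, ?_⟩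
  · have := congrFun (congrFun h1 a) l
    rwa [Matrix.mul_single_apply_same, Matrix.single_mul_apply_of_ne _ _ _ _ _ ha, mul_one] at this
  · have := congrFun (congrFun h1 k) b
    rwa [Matrix.mul_single_apply_of_ne _ _ _ _ _ hb, Matrix.single_mul_apply_same, one_mul, eq_comm] at this
  · have := congrFun (congrFun h1 k) l
    rwa [Matrix.mul_single_apply_same, Matrix.single_mul_apply_same, mul_one, one_mul] at this

/-- The radical of a minimal parabolic subgroup. -/
def radical {i j : Fin n} (hij : i.1 + 1 = j.1) : Subgroup G where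
  carrier := {g | g ∈ upper (K := K) (n := n) ∧ g.1 i j = 0}
  one_mem' := ⟨one_mem _, by
    rw [one_val, Matrix.one_apply_ne (by rintro rfl; omega)]⟩
  mul_mem' := fun {a b} ha hb => ⟨mul_mem ha.1 hb.1, by
    rw [mul_val, Matrix.mul_apply]
    refine Finset.sum_eq_zero fun m _ => ?_
    rcases lt_trichotomy m i with h | rfl | h
    · rw [ha.1.1 i m h, zero_mul]
    · rw [hb.2, mul_zero]
    · rcases lt_or_eq_of_le (show j.1 ≤ m.1 by
        have : i.1 < m.1 := h
        omega) with h' | h'
      · rw [hb.1.1 m j h', mul_zero]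
      · rw [← Fin.ext h', ha.2, zero_mul]⟩
  inv_mem' := fun {a} ha => ⟨inv_mem ha.1, by
    have hlt : i < j := by show i.1 < j.1; omega
    have h : ((a⁻¹ : G) * a).1 i j = 0 := by
      rw [inv_mul_cancel, one_val, Matrix.one_apply_ne hlt.ne]
    rwa [mul_val, Matrix.mul_apply, Finset.sum_eq_single j (fun m _ hm => by
      rcases lt_or_gt_of_ne hm with h' | h'
      · rcases lt_or_eq_of_le (show m.1 ≤ i.1 by
          have : m.1 < j.1 := h'
          omega) with h'' | h''
        · rw [(inv_mem ha.1).1 i m h'', zero_mul]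
        · rw [show m = i from Fin.ext h'', ha.2, mul_zero]
      · rw [ha.1.1 m j h', mul_zero]) (by simp), ha.1.2, mul_one] at h⟩

theorem mem_radical {i j : Fin n} {hij : i.1 + 1 = j.1} {g : G} :
    g ∈ radical (K := K) hij ↔ g ∈ upper (K := K) (n := n) ∧ g.1 i j = 0 := Iff.rfl

theorem radical_conj {i j : Fin n} (hij : i.1 + 1 = j.1) {u : G} (hu : u ∈ upper (K := K) (n := n))
    {g : G} (hg : g ∈ radical (K := K) hij) : u * g * u⁻¹ ∈ radical (K := K) hij := by
  refine ⟨mul_mem (mul_mem hu hg.1) (inv_mem hu), ?_⟩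
  have key : ∀ a b : G, a ∈ upper (K := K) (n := n) → b ∈ upper (K := K) (n := n) →
      (a * b).1 i j = a.1 i j + b.1 i j := by
    intro a b ha hb
    have hne : i ≠ j := by rintro rfl; omega
    rw [mul_val, Matrix.mul_apply, Finset.sum_eq_add i j hne (fun m _ hm => by
      rcases lt_or_gt_of_ne hm.1 with h | h
      · rw [ha.1 i m h, zero_mul]
      · have h1 : j.1 ≤ m.1 := by
          have : i.1 < m.1 := h
          omega
        have h2 : j.1 ≠ m.1 := fun e => hm.2 (Fin.ext e.symm)
        rw [hb.1 m j (show j.1 < m.1 by omega), mul_zero]) (by simp) (by simp), ha.2, hb.2]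
    ring
  have h1 := key u u⁻¹ hu (inv_mem hu)
  rw [mul_inv_cancel, one_val, Matrix.one_apply_ne (by rintro rfl; omega)] at h1
  rw [key _ _ (mul_mem hu hg.1) (inv_mem hu), key _ _ hu hg.1, hg.2, add_zero]
  exact h1.symm

theorem radical_conj_neg {i j : Fin n} (hij : i.1 + 1 = j.1) (hne : j ≠ i) (c : K) {g : G}
    (hg : g ∈ radical (K := K) hij) :
    Matrix.SpecialLinearGroup.transvection hne c * g * (Matrix.SpecialLinearGroup.transvection hne c)⁻¹ ∈
      radical (K := K) hij := by
  obtain ⟨⟨hlow, hdia⟩, h0⟩ := hg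
  rw [Matrix.SpecialLinearGroup.transvection_inv]
  have hent : ∀ a b, (Matrix.SpecialLinearGroup.transvection hne c * g * Matrix.SpecialLinearGroup.transvection hne (-c)).1 a b =
      g.1 a b + (if a = j then c * g.1 i b else 0) + (if b = i then g.1 a j * (-c) else 0) +
        (if a = j ∧ b = i then c * g.1 i j * (-c) else 0) := by
    intro a b
    rw [mul_val, mul_val, tv_val,
      tv_val]
    simp only [add_mul, mul_add, one_mul, mul_one, Matrix.add_apply]
    by_cases ha : a = j <;> by_cases hb : b = i <;>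
      simp [ha, hb, Matrix.single_mul_apply_same, Matrix.single_mul_apply_of_ne, Matrix.mul_single_apply_same,
        Matrix.mul_single_apply_of_ne] <;> ring
  have hlt : i < j := by show i.1 < j.1; omega
  refine ⟨⟨fun a b hab => ?_, fun a => ?_⟩, ?_⟩
  · rw [hent]
    by_cases ha : a = j <;> by_cases hb : b = i
    · subst ha hb
      simp [hlow a b hab, hdia, h0]
    · subst ha
      have hbi : b < i := lt_of_le_of_ne (show b.1 ≤ i.1 by have : b.1 < a.1 := hab; omega) hb
      simp [hb, hlow a b hab, hlow i b hbi]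
    · subst hb
      have haj : j < a := lt_of_le_of_ne (show j.1 ≤ a.1 by have : b.1 < a.1 := hab; omega) (Ne.symm ha)
      simp [ha, hlow a b hab, hlow a j haj]
    · simp [ha, hb, hlow a b hab]
  · rw [hent]
    by_cases ha : a = j <;> by_cases hb : a = i
    · exact absurd (hb.symm.trans ha) hlt.ne
    · subst ha; simp [hb, hdia, h0]
    · subst hb; simp [ha, hdia, h0]
    · simp [ha, hb, hdia]
  · rw [hent]
    simp [hlt.ne, hlt.ne', h0]

theorem centralizer_radical (hn : 3 ≤ n) {i j : Fin n} (hij : i.1 + 1 = j.1) {x : G}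
    (hx : ∀ r ∈ radical (K := K) hij, x * r = r * x) :
    ∃ z ∈ Subgroup.center G, z⁻¹ * x ∈ radical (K := K) hij := by
  obtain ⟨z₀, hz₀⟩ : ∃ z : Fin n, z.1 = 0 := ⟨⟨0, by omega⟩, rfl⟩
  obtain ⟨w, hw⟩ : ∃ w : Fin n, w.1 = n - 1 := ⟨⟨n - 1, by omega⟩, rfl⟩
  have hcom : ∀ {k l : Fin n}, k < l → ¬ (k = i ∧ l = j) →
      (∀ a, a ≠ k → x.1 a k = 0) ∧ (∀ b, b ≠ l → x.1 l b = 0) ∧ x.1 k k = x.1 l l := by
    intro k l hkl hne
    refine transvection_commute hkl.ne (hx _ ⟨transvection_mem hkl 1, ?_⟩)
    rw [tv_val, Matrix.add_apply, Matrix.one_apply_ne (by rintro rfl; omega),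
      Matrix.single_apply, if_neg hne, add_zero]
  have hzw : z₀ < w := by show z₀.1 < w.1; omega
  have hzw' : ¬ (z₀ = i ∧ w = j) := by rintro ⟨rfl, rfl⟩; omega
  set c := x.1 z₀ z₀ with hc
  have hdiag : ∀ k, x.1 k k = c := by
    intro k
    by_cases h0 : k = z₀
    · rw [h0]
    by_cases hw' : k = w
    · rw [hw', (hcom hzw hzw').2.2.symm]
    have hk0 : z₀ < k := by
      have : k.1 ≠ 0 := fun e => h0 (Fin.ext (e.trans hz₀.symm))
      show z₀.1 < k.1; omega
    have hkw : k < w := by
      have : k.1 ≠ n - 1 := fun e => hw' (Fin.ext (e.trans hw.symm))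
      show k.1 < w.1; omega
    by_cases h1 : z₀ = i ∧ k = j
    · rw [(hcom hkw (by rintro ⟨rfl, -⟩; obtain ⟨h, h'⟩ := h1; subst h' h; omega)).2.2, ← (hcom hzw hzw').2.2]
    · exact (hcom hk0 h1).2.2.symm
  have hoff : ∀ a k : Fin n, a ≠ k → ¬ (a < k) → x.1 a k = 0 := by
    intro a k hak hlt
    have hka : k < a := lt_of_le_of_ne (not_lt.1 hlt) (Ne.symm hak)
    by_cases hkw : k = i ∧ w = j
    · obtain ⟨rfl, rfl⟩ := hkw
      have haw : a = w := Fin.ext (by have h1 : k.1 < a.1 := hka; omega)
      subst haw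
      exact (hcom hzw hzw').2.1 k hak.symm
    · exact (hcom (show k < w by have h1 : k.1 < a.1 := hka; show k.1 < w.1; omega) hkw).1 a hak
  have hxij : x.1 i j = 0 := by
    have hne : i ≠ j := by rintro rfl; omega
    by_cases hi : i = z₀
    · subst hi
      exact (hcom (show j < w by show j.1 < w.1; omega) (by rintro ⟨rfl, -⟩; omega)).1 i hne
    · exact (hcom (show z₀ < i by
        have : i.1 ≠ 0 := fun e => hi (Fin.ext (e.trans hz₀.symm))
        show z₀.1 < i.1; omega) (by rintro ⟨h, -⟩; exact hi h.symm)).2.1 j hne.symm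
  have hdet : c ^ n = 1 := by
    have hT : BlockTriangular x.1 id := fun a k h => hoff a k (ne_of_gt h) (not_lt.2 h.le)
    have h := Matrix.det_of_upperTriangular hT
    rw [x.2] at h
    simpa [hdiag] using h.symm
  let z : G := ⟨Matrix.scalar (Fin n) c, by simp [Matrix.det_diagonal, hdet]⟩
  have hc0 : c ≠ 0 := fun h => by rw [h, zero_pow (by omega)] at hdet; exact zero_ne_one hdet
  have hzc : z ∈ Subgroup.center G :=
    Matrix.SpecialLinearGroup.mem_center_iff.2 ⟨c, by simpa using hdet, rfl⟩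
  refine ⟨z, hzc, ?_⟩
  have hent : ∀ a b, c * (z⁻¹ * x).1 a b = x.1 a b := fun a b => by
    have h : (z * (z⁻¹ * x)).1 a b = x.1 a b := by rw [mul_inv_cancel_left]
    rw [mul_val] at h
    rw [← h]
    show _ = (Matrix.scalar (Fin n) c * (z⁻¹ * x).1 : Matrix (Fin n) (Fin n) K) a b
    rw [Matrix.scalar_apply, Matrix.diagonal_mul]
  refine ⟨⟨fun a b h => ?_, fun a => ?_⟩, ?_⟩
  · exact mul_left_cancel₀ hc0 (by rw [hent, mul_zero, hoff a b (ne_of_gt h) (not_lt.2 h.le)])
  · exact mul_left_cancel₀ hc0 (by rw [hent, mul_one, hdiag])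
  · exact mul_left_cancel₀ hc0 (by rw [hent, mul_zero, hxij])

/-- The adjacent diagonal generators of the torus. -/
def torus : Set G := {h | ∃ (i j : Fin n) (hne : i ≠ j) (_ : i.1 + 1 = j.1) (c : K) (hc : c ≠ 0),
  h = Matrix.SpecialLinearGroup.diag2n hne c hc}

theorem diagonal_mem (hn : 3 ≤ n) : ∀ (d : G), (∀ a b, a ≠ b → d.1 a b = 0) →
    d ∈ Subgroup.closure (torus (K := K) (n := n)) := by
  suffices ∀ (m : ℕ) (d : G), (∀ a b, a ≠ b → d.1 a b = 0) →
      (∀ a : Fin n, a.1 + m < n - 1 → d.1 a a = 1) → d ∈ Subgroup.closure (torus (K := K) (n := n)) from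
    fun d h => this (n - 1) d h (fun a ha => by omega)
  intro m
  induction m with
  | zero =>
    intro d hoff hone
    obtain ⟨w, hw⟩ : ∃ w : Fin n, w.1 = n - 1 := ⟨⟨n - 1, by omega⟩, rfl⟩
    have hd : d.1 = Matrix.diagonal fun a => d.1 a a := by
      ext a b
      by_cases h : a = b
      · rw [h, Matrix.diagonal_apply_eq]
      · rw [Matrix.diagonal_apply_ne _ h, hoff a b h]
    have hdet : ∏ a, d.1 a a = 1 := by rw [← Matrix.det_diagonal, ← hd]; exact d.2
    rw [Finset.prod_eq_single w (fun a _ ha => hone a (by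
      have : a.1 ≠ w.1 := fun e => ha (Fin.ext e)
      omega)) (by simp)] at hdet
    have : d = 1 := by
      apply Matrix.SpecialLinearGroup.ext
      intro a b
      rw [one_val]
      by_cases h : a = b
      · subst h
        rw [Matrix.one_apply_eq]
        by_cases ha : a = w
        · rw [ha]; exact hdet
        · exact hone a (by have : a.1 ≠ w.1 := fun e => ha (Fin.ext e); omega)
      · rw [Matrix.one_apply_ne h, hoff a b h]
    rw [this]
    exact one_mem _
  | succ m ih =>
    intro d hoff hone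
    by_cases hm : n - 1 < m + 1
    · exact ih d hoff fun a ha => by omega
    obtain ⟨i, hi⟩ : ∃ i : Fin n, i.1 = n - 1 - (m + 1) := ⟨⟨n - 1 - (m + 1), by omega⟩, rfl⟩
    obtain ⟨j, hj⟩ : ∃ j : Fin n, i.1 + 1 = j.1 := ⟨⟨i.1 + 1, by omega⟩, rfl⟩
    have hij : i ≠ j := by rintro rfl; omega
    have hd0 : d.1 i i ≠ 0 := by
      intro h0
      have hd : d.1 = Matrix.diagonal fun a => d.1 a a := by
        ext a b
        by_cases h : a = b
        · rw [h, Matrix.diagonal_apply_eq]
        · rw [Matrix.diagonal_apply_ne _ h, hoff a b h]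
      have hdet : ∏ a, d.1 a a = 1 := by rw [← Matrix.det_diagonal, ← hd]; exact d.2
      exact zero_ne_one ((Finset.prod_eq_zero (f := fun a => d.1 a a) (Finset.mem_univ i) h0).symm.trans hdet)
    set t : G := Matrix.SpecialLinearGroup.diag2n hij (d.1 i i)⁻¹ (inv_ne_zero hd0) with ht
    have htd : ∀ a b, (t * d).1 a b =
        (if a = i then (d.1 i i)⁻¹ else if a = j then (d.1 i i) else 1) * d.1 a b := by
      intro a b
      rw [mul_val, ht, d2_val, Matrix.diagonal_mul]
      congr 1
      simp [inv_inv]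
    have h := ih (t * d) (fun a b hab => by rw [htd, hoff a b hab, mul_zero]) (fun a ha => by
      rw [htd]
      by_cases hai : a = i
      · subst hai; rw [if_pos rfl, inv_mul_cancel₀ hd0]
      · have : a.1 ≠ i.1 := fun e => hai (Fin.ext e)
        rw [if_neg hai, if_neg (by rintro rfl; omega), one_mul, hone a (by omega)])
    have htm : t ∈ Subgroup.closure (torus (K := K) (n := n)) :=
      Subgroup.subset_closure ⟨i, j, hij, hj, _, _, rfl⟩
    simpa [mul_assoc] using Subgroup.mul_mem _ (Subgroup.inv_mem _ htm) h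

theorem isSimple_psl (p : ℕ) [Fact p.Prime] [CharP K p] (hn : 3 ≤ n)
    (S : Sylow p (ProjectiveSpecialLinearGroup (Fin n) K)) :
    (Cfsg.groupFusionSystem (S : Subgroup (ProjectiveSpecialLinearGroup (Fin n) K))).IsSimple p := by
  classical
  haveI : Nonempty (Fin n) := ⟨⟨0, by omega⟩⟩
  obtain ⟨P, hP⟩ := exists_sylow_upper (K := K) (n := n) p
  set q := QuotientGroup.mk' (Subgroup.center G) with hq
  obtain ⟨g₀, hg₀⟩ := MulAction.exists_smul_eq (ProjectiveSpecialLinearGroup (Fin n) K)
    (P.mapSurjective (f := q) (QuotientGroup.mk'_surjective _)) S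
  let π : G →* ProjectiveSpecialLinearGroup (Fin n) K := (MulAut.conj g₀).toMonoidHom.comp q
  have hker : π.ker = Subgroup.center G := by
    ext x
    rw [MonoidHom.mem_ker, ← QuotientGroup.eq_one_iff x]
    exact map_eq_one_iff (MulAut.conj g₀) (MulAut.conj g₀).injective
  obtain ⟨z₀, hz₀⟩ : ∃ z : Fin n, z.1 = 0 := ⟨⟨0, by omega⟩, rfl⟩
  obtain ⟨w, hw⟩ : ∃ w : Fin n, w.1 = n - 1 := ⟨⟨n - 1, by omega⟩, rfl⟩
  have hzw : z₀ < w := by show z₀.1 < w.1; omega
  have hne1 : ∀ {i j : Fin n} (h : i < j) (c : K), c ≠ 0 →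
      (Matrix.SpecialLinearGroup.transvection h.ne c : G) ≠ 1 := fun {i j} h c hc he => hc (by
    have h1 := congrFun (congrFun (congrArg (fun y : G => y.1) he) i) j
    simpa [tv_val, one_val, Matrix.add_apply, h.ne] using h1)
  have htv : ∀ (y : G) {i j : Fin n} (h : i ≠ j) (c : K), c ≠ 0 → y.1 = 1 + Matrix.single i j c →
      Cfsg.IsTransvection y.1 := by
    intro y i j h c hc hy
    rw [Cfsg.IsTransvection, hy, add_sub_cancel_left]
    refine ⟨?_, by rw [Matrix.single_mul_single_of_ne _ _ _ _ h.symm]⟩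
    have h1 : Matrix.single i j c = Matrix.vecMulVec (Pi.single i c) (Pi.single j (1 : K)) := by
      ext a b
      rw [Matrix.vecMulVec_apply, Matrix.single_apply, Pi.single_apply, Pi.single_apply]
      by_cases ha : a = i <;> by_cases hb : b = j
      · rw [if_pos ⟨ha.symm, hb.symm⟩, if_pos ha, if_pos hb, mul_one]
      · rw [if_neg (fun h => hb h.2.symm), if_neg hb, mul_zero]
      · rw [if_neg (fun h => ha h.1.symm), if_neg ha, zero_mul]
      · rw [if_neg (fun h => ha h.1.symm), if_neg ha, zero_mul]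
    refine le_antisymm (h1 ▸ Matrix.rank_vecMulVec_le _ _) (Nat.one_le_iff_ne_zero.2 fun h0 => hc ?_)
    have h2 : LinearMap.range (Matrix.single i j c).mulVecLin = ⊥ := Submodule.finrank_eq_zero.1 h0
    rw [LinearMap.range_eq_bot] at h2
    have h3 := congrFun (DFunLike.congr_fun h2 (Pi.single j 1)) i
    rw [Matrix.mulVecLin_apply, Matrix.mulVec_single_one] at h3
    exact (Matrix.single_apply_same i j c).symm.trans h3
  refine isSimple_of_lie π ((MulAut.conj g₀).surjective.comp (QuotientGroup.mk'_surjective _)) hker.le ?_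
    (upper (K := K) (n := n)) (isPGroup_upper p) S ?_ ?_ ?_ (torus (K := K) (n := n)) ?_ ?_
  · rw [hker, Cfsg.Lib.Linear.card_center_SL (ι := Fin n)]
    obtain ⟨f, -, hcard⟩ := FiniteField.card K p
    refine (Nat.Coprime.coprime_dvd_left (Nat.gcd_dvd_right _ _) ?_)
    rw [Nat.coprime_comm, (Fact.out : p.Prime).coprime_iff_not_dvd]
    intro hdvd
    have h1 : p ∣ Fintype.card K := hcard ▸ dvd_pow_self p f.pos.ne'
    have h2 := Nat.dvd_sub h1 hdvd
    rw [show Fintype.card K - (Fintype.card K - 1) = 1 by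
      have : 1 ≤ Fintype.card K := Fintype.card_pos
      omega] at h2
    exact (Fact.out : p.Prime).one_lt.ne' (Nat.dvd_one.1 h2)
  · rw [← hg₀, Sylow.coe_subgroup_smul, Sylow.coe_mapSurjective, hP, ← Subgroup.map_map]
    rfl
  · intro h
    exact hne1 hzw 1 one_ne_zero (Subgroup.mem_bot.1 (h ▸ transvection_mem hzw 1))
  · intro T hTU hT1 hUT hclT
    obtain ⟨x, hxT, hxc, hx1⟩ : ∃ x ∈ T, (∀ u ∈ upper (K := K) (n := n), x * u = u * x) ∧ x ≠ 1 := by
      haveI : (T.subgroupOf (upper (K := K) (n := n))).Normal := Subgroup.normal_subgroupOf_of_le_normalizer hUT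
      haveI := (isPGroup_upper (K := K) (n := n) p).isNilpotent
      have hT' : T.subgroupOf (upper (K := K) (n := n)) ≠ ⊥ := by
        rw [Ne, Subgroup.subgroupOf_eq_bot, disjoint_iff, inf_eq_left.2 hTU]
        exact hT1
      obtain ⟨⟨x, hx⟩, hx1⟩ := Subgroup.ne_bot_iff_exists_ne_one.1
        (Cfsg.Lib.PGroup.inf_center_ne_bot (isPGroup_upper (K := K) (n := n) p) hT')
      replace hx1 : x ≠ 1 := fun h => hx1 (Subtype.ext h)
      exact ⟨x, hx.1, fun u hu => congrArg Subtype.val (Subgroup.mem_center_iff.1 hx.2 ⟨u, hu⟩).symm,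
        fun h => hx1 (Subtype.ext h)⟩
    have hxU := hTU hxT
    have hxcom : ∀ {k l : Fin n}, k < l → (∀ a, a ≠ k → x.1 a k = 0) ∧ (∀ b, b ≠ l → x.1 l b = 0) :=
      fun {k l} h => ⟨(transvection_commute h.ne (hxc _ (transvection_mem h 1))).1,
        (transvection_commute h.ne (hxc _ (transvection_mem h 1))).2.1⟩
    have hxeq : x.1 = 1 + Matrix.single z₀ w (x.1 z₀ w) := by
      ext a b
      rw [Matrix.add_apply, Matrix.single_apply]
      by_cases hab : a = b
      · subst hab
        rw [hxU.2, Matrix.one_apply_eq, if_neg (by rintro ⟨rfl, h⟩; exact hzw.ne h.symm), add_zero]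
      rw [Matrix.one_apply_ne hab, zero_add]
      by_cases hbw : b = w
      · subst hbw
        by_cases haz : a = z₀
        · subst haz; rw [if_pos ⟨rfl, rfl⟩]
        · rw [if_neg (fun h => haz h.1.symm)]
          exact (hxcom (show z₀ < a by
            have : a.1 ≠ 0 := fun e => haz (Fin.ext (e.trans hz₀.symm))
            show z₀.1 < a.1; omega)).2 b (Ne.symm hab)
      · rw [if_neg (fun h => hbw h.2.symm)]
        exact (hxcom (show b < w by
          have : b.1 ≠ n - 1 := fun e => hbw (Fin.ext (e.trans hw.symm))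
          show b.1 < w.1; omega)).1 a hab
    have ha : x.1 z₀ w ≠ 0 := fun h => hx1 (Subtype.ext (by rw [hxeq, h, Matrix.single_zero, add_zero]; rfl))
    have hxtv := htv x hzw.ne _ ha hxeq
    refine le_antisymm hTU (upper_le fun i j hij c => ?_)
    by_cases hc : c = 0
    · subst hc
      have : (Matrix.SpecialLinearGroup.transvection hij.ne (0 : K) : G) = 1 := by
        apply Subtype.ext
        rw [tv_val, Matrix.single_zero, add_zero]
        rfl
      rw [this]; exact one_mem T
    obtain ⟨g, hg⟩ := _root_.isConj_iff.1 (Cfsg.Agent.S2579.result hn x (Matrix.SpecialLinearGroup.transvection hij.ne c)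
      hxtv (htv _ hij.ne c hc (tv_val _ _)))
    rw [← hg]
    exact hclT x hxT g (by rw [hg]; exact transvection_mem hij c)
  · intro g hg
    have htri := triangular_of_normalizer hg
    have hprod : ∏ a, g.1 a a = 1 := by
      rw [← Matrix.det_of_upperTriangular (M := g.1) (fun a b h => htri a b h)]
      exact g.2
    set d : G := ⟨Matrix.diagonal fun a => g.1 a a, by rw [Matrix.det_diagonal, hprod]⟩
    have hd := diagonal_mem hn d (fun a b h => Matrix.diagonal_apply_ne _ h)
    have hu : g * d⁻¹ ∈ upper (K := K) (n := n) := by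
      have h0 : ∀ a b, (g * d⁻¹).1 a b * d.1 b b = g.1 a b := fun a b => by
        conv_rhs => rw [show g = g * d⁻¹ * d by group]
        rw [mul_val (g * d⁻¹) d]
        show _ = ((g * d⁻¹).1 * Matrix.diagonal (fun a => g.1 a a) : Matrix (Fin n) (Fin n) K) a b
        rw [Matrix.mul_diagonal]
        simp [d]
      have hd0 : ∀ b, d.1 b b ≠ 0 := fun b h => by
        simp only [d, Matrix.diagonal_apply_eq] at h
        exact zero_ne_one ((Finset.prod_eq_zero (f := fun a => g.1 a a) (Finset.mem_univ b) h).symm.trans hprod)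
      refine ⟨fun a b h => ?_, fun a => ?_⟩
      · exact mul_right_cancel₀ (hd0 b) (by rw [h0, zero_mul, htri a b h])
      · exact mul_right_cancel₀ (hd0 a) (by rw [h0, one_mul]; simp [d])
    rw [show g = g * d⁻¹ * d by group, map_mul]
    refine mul_mem (Subgroup.subset_closure (Or.inl ⟨_, hu, rfl⟩)) ?_
    have := Subgroup.mem_map_of_mem π hd
    rw [MonoidHom.map_closure] at this
    exact Subgroup.closure_mono Set.subset_union_right this
  · rintro _ ⟨i, j, hne, hij, c, hc, rfl⟩
    have hlt : i < j := by show i.1 < j.1; omega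
    refine ⟨Subgroup.mem_normalizer_fintype fun u hu => ?_, radical (K := K) hij,
      ⟨fun g hg => hg.1, fun u hu => Subgroup.mem_normalizer_fintype fun g hg => radical_conj hij hu hg,
        fun x hx => ?_⟩, ?_⟩
    · set h := Matrix.SpecialLinearGroup.diag2n hne c hc
      obtain ⟨δ, hhd, hδ⟩ : ∃ δ : Fin n → K, h.1 = Matrix.diagonal δ ∧ ∀ a, δ a ≠ 0 :=
        ⟨_, d2_val hne c hc, fun a => by
          split_ifs
          exacts [hc, inv_ne_zero hc, one_ne_zero]⟩
      have h0 : ∀ a b, (h * u * h⁻¹).1 a b * δ b = δ a * u.1 a b := fun a b => by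
        have h1 : ((h * u * h⁻¹).1 * h.1 : Matrix (Fin n) (Fin n) K) a b = (h.1 * u.1 : Matrix (Fin n) (Fin n) K) a b := by
          rw [← mul_val, ← mul_val, inv_mul_cancel_right]
        rwa [hhd, Matrix.mul_diagonal, Matrix.diagonal_mul] at h1
      exact ⟨fun a b hab => mul_right_cancel₀ (hδ b) (by rw [h0, hu.1 a b hab, mul_zero, zero_mul]),
        fun a => mul_right_cancel₀ (hδ a) (by rw [h0, hu.2, mul_one, one_mul])⟩
    · obtain ⟨z, hz, hzx⟩ := centralizer_radical hn hij hx
      refine ⟨z⁻¹ * x, hzx, ?_⟩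
      rw [map_mul, (MonoidHom.mem_ker (f := π)).1 (show z⁻¹ ∈ π.ker by rw [hker]; exact inv_mem hz), one_mul]
    · rw [Cfsg.Lib.Linear.diag2n_decompose hne c hc]
      have hpow : ∀ (a : K) {a₁ b₁ : Fin n} (h : a₁ ≠ b₁),
          (Matrix.SpecialLinearGroup.transvection h a : G) ^ p ^ 1 = 1 := by
        intro a a₁ b₁ h
        apply Subtype.ext
        have hcom : Commute (1 : Matrix (Fin n) (Fin n) K) (Matrix.single a₁ b₁ a) := Commute.one_left _
        haveI : Nonempty (Fin n) := ⟨a₁⟩
        rw [pow_val, tv_val, add_pow_char_pow_of_commute p 1 hcom,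
          one_pow, pow_one, pow_eq_zero_of_le (Fact.out : p.Prime).two_le (by
            rw [pow_two, Matrix.single_mul_single_of_ne _ _ _ _ h.symm]), add_zero]
        rfl
      have hmem : ∀ a : K, (Matrix.SpecialLinearGroup.transvection hne a : G) ∈ Subgroup.closure
            {x : G | x ∈ Subgroup.normalizer (radical (K := K) hij : Set G) ∧ ∃ k : ℕ, x ^ p ^ k = 1} ∧
          (Matrix.SpecialLinearGroup.transvection hne.symm a : G) ∈ Subgroup.closure
            {x : G | x ∈ Subgroup.normalizer (radical (K := K) hij : Set G) ∧ ∃ k : ℕ, x ^ p ^ k = 1} :=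
        fun a => ⟨Subgroup.subset_closure ⟨Subgroup.mem_normalizer_fintype fun g hg =>
            radical_conj hij (transvection_mem hlt a) hg, 1, hpow a hne⟩,
          Subgroup.subset_closure ⟨Subgroup.mem_normalizer_fintype fun g hg =>
            radical_conj_neg hij hne.symm a hg, 1, hpow a hne.symm⟩⟩
      exact mul_mem (hmem _).1 (mul_mem (hmem _).2 (mul_mem (hmem _).1 (mul_mem (hmem _).1
        (mul_mem (hmem _).2 (mul_mem (hmem _).1 (one_mem _))))))

end Cfsg.Lib.FusionSys.PSLChar
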