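import Cfsg.Agent.Lib.FusionSys.LieSimplePSUBorel
import Cfsg.Agent.Lib.Linear.UnitaryCenter

/-!
The fusion system of a projective special unitary group at the characteristic is simple.
-/

set_option autoImplicit false
set_option linter.unusedSectionVars false

namespace Cfsg.Lib.FusionSys.PSUChar

open Cfsg.Lib.Linear Cfsg.Lib.Linear.Herm Module

variable {F V : Type*} [Field F] [Fintype F] [AddCommGroup V] [Module F V] [FiniteDimensional F V]
  {σ : F →+* F} {B : V →ₛₗ[σ] V →ₗ[F] F}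

namespace Frame

variable {m : ℕ} {ι : Type*} [Fintype ι] [DecidableEq ι] [Subsingleton ι] (P : Frame B m ι)

theorem eq_of_basis {g h : tvGroup B} (he : ∀ i, g.1 (P.e i) = h.1 (P.e i))
    (hf : ∀ i, g.1 (P.f i) = h.1 (P.f i)) (hw : ∀ a, g.1 (P.w a) = h.1 (P.w a)) : g = h :=
  Subtype.ext (LinearEquiv.ext fun x => by
    rw [P.expand x]
    simp only [map_add, map_sum, map_smul, he, hf, hw])

theorem fix_low {g : V ≃ₗ[F] V} {k : ℕ} (h : ∀ i : Fin m, i.1 < k → g (P.e i) = P.e i) {x : V}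
    (hx : x ∈ P.low k) : g x = x := by
  induction hx using Submodule.span_induction with
  | mem x hx => obtain ⟨j, hj, rfl⟩ := hx; exact h j hj
  | zero => exact map_zero g
  | add x y _ _ hx hy => rw [map_add, hx, hy]
  | smul c x _ hx => rw [map_smul, hx]

theorem low_expand {k : ℕ} {x : V} (hx : x ∈ P.low k) : x = ∑ i, B (P.f i) x • P.e i := by
  conv_lhs => rw [P.expand x]
  simp [(P.low_pairing hx).1, (P.low_pairing hx).2.1]

theorem exists_translate (T : Subgroup (tvGroup B)) (Φ : Set V) (v : V) {k : ℕ}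
    (hΦ : ∀ i : Fin m, i.1 < k → P.e i ∈ Φ) {x : V} (hx : x ∈ P.low k)
    (hterm : ∀ i : Fin m, i.1 < k →
      ∃ u ∈ T, (∀ y ∈ Φ, u.1 y = y) ∧ u.1 v = v + B (P.f i) x • P.e i) :
    ∃ u ∈ T, (∀ y ∈ Φ, u.1 y = y) ∧ u.1 v = v + x := by
  classical
  suffices h : ∑ i, B (P.f i) x • P.e i ∈ P.low k ∧
      ∃ u ∈ T, (∀ y ∈ Φ, u.1 y = y) ∧ u.1 v = v + ∑ i, B (P.f i) x • P.e i by
    rw [← P.low_expand hx] at h; exact h.2
  refine Finset.sum_induction _ (fun y => y ∈ P.low k ∧ ∃ u ∈ T, (∀ z ∈ Φ, u.1 z = z) ∧ u.1 v = v + y) ?_ ?_ ?_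
  · rintro a b ⟨ha, u, hu, huΦ, hua⟩ ⟨hb, w, hw, hwΦ, hwb⟩
    refine ⟨Submodule.add_mem _ ha hb, u * w, mul_mem hu hw, fun z hz => by rw [act_mul, hwΦ z hz, huΦ z hz], ?_⟩
    rw [act_mul, hwb, map_add, hua, P.fix_low (fun i hi => huΦ _ (hΦ i hi)) hb, add_assoc]
  · exact ⟨Submodule.zero_mem _, 1, one_mem _, fun z _ => rfl, (add_zero v).symm⟩
  · intro i _
    by_cases hi : i.1 < k
    · exact ⟨Submodule.smul_mem _ _ (P.e_mem_low hi), hterm i hi⟩
    · rw [(P.low_pairing hx).2.2 i (not_lt.1 hi), zero_smul]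
      exact ⟨Submodule.zero_mem _, 1, one_mem _, fun z _ => rfl, (add_zero v).symm⟩

theorem diag_low {D : V ≃ₗ[F] V} {c : Fin m → F} (hc : ∀ i, c i ≠ 0) (hD : ∀ i, D (P.e i) = c i • P.e i)
    {k : ℕ} {x : V} (hx : x ∈ P.low k) : D⁻¹ x ∈ P.low k := by
  induction hx using Submodule.span_induction with
  | mem x hx =>
    obtain ⟨j, hj, rfl⟩ := hx
    have h : D⁻¹ (P.e j) = (c j)⁻¹ • P.e j := by
      apply D.injective
      rw [map_smul, hD, smul_smul, inv_mul_cancel₀ (hc j), one_smul, ← LinearEquiv.mul_apply, mul_inv_cancel]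
      rfl
    rw [h]
    exact Submodule.smul_mem _ _ (P.e_mem_low hj)
  | zero => rw [map_zero]; exact Submodule.zero_mem _
  | add x y _ _ hx hy => rw [map_add]; exact Submodule.add_mem _ hx hy
  | smul a x _ hx => rw [map_smul]; exact Submodule.smul_mem _ _ hx

theorem diag_div {D g : V ≃ₗ[F] V} {c a : Fin m → F} (hc : ∀ i, c i ≠ 0) (hD : ∀ i, D (P.e i) = c i • P.e i)
    (hg : ∀ i, g (P.e i) - a i • P.e i ∈ P.low i.1) (i : Fin m) :
    (D⁻¹ * g) (P.e i) - (a i / c i) • P.e i ∈ P.low i.1 := by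
  have h : D⁻¹ (g (P.e i) - a i • P.e i) = (D⁻¹ * g) (P.e i) - (a i / c i) • P.e i := by
    rw [map_sub, map_smul, LinearEquiv.mul_apply]
    congr 1
    apply D.injective
    rw [map_smul, map_smul, hD, smul_smul, div_mul_cancel₀ _ (hc i), ← LinearEquiv.mul_apply, mul_inv_cancel]
    rfl
  exact h ▸ P.diag_low hc hD (hg i)

variable [h4 : Fact (4 ≤ finrank F V)] (p : ℕ) [Fact p.Prime] [CharP F p]

include P p in
theorem eq_of_closed (hm : 2 ≤ m) (T : Subgroup (tvGroup B)) (hTU : T ≤ P.borelU) (hT1 : T ≠ ⊥)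
    (hUT : P.borelU ≤ Subgroup.normalizer (T : Set (tvGroup B)))
    (hcl : ∀ t ∈ T, ∀ g : tvGroup B, g * t * g⁻¹ ∈ P.borelU → g * t * g⁻¹ ∈ T) : T = P.borelU := by
  classical
  haveI := finite_tvGroup (B := B)
  obtain ⟨i₀, hi₀⟩ : ∃ i : Fin m, i.1 = 0 := ⟨⟨0, by omega⟩, rfl⟩
  obtain ⟨i₁, hi₁⟩ : ∃ i : Fin m, i.1 = 1 := ⟨⟨1, by omega⟩, rfl⟩
  have h01 : i₀ < i₁ := by show i₀.1 < i₁.1; omega
  have hmin : ∀ i, i ≠ i₀ → i₀ < i := fun i hi => by
    have : i.1 ≠ i₀.1 := fun h => hi (Fin.ext h)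
    show i₀.1 < i.1
    omega
  -- a central transvection
  obtain ⟨τ, hτ, hτ0, htop⟩ : ∃ τ : F, ∃ hτ : τ + σ τ = 0, τ ≠ 0 ∧ P.tvE (P.e i₀) (P.ee i₀ i₀) τ hτ ∈ T := by
    haveI : (T.subgroupOf P.borelU).Normal := Subgroup.normal_subgroupOf_of_le_normalizer hUT
    have hT' : T.subgroupOf P.borelU ≠ ⊥ := by
      rw [Ne, Subgroup.subgroupOf_eq_bot, disjoint_iff, inf_eq_left.2 hTU]
      exact hT1
    obtain ⟨⟨z, hz⟩, hz1⟩ := Subgroup.ne_bot_iff_exists_ne_one.1
      (Cfsg.Lib.PGroup.inf_center_ne_bot (P.isPGroup_borelU p) hT')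
    have hcom : ∀ u ∈ P.borelU, (z : tvGroup B) * u = u * z := fun u hu =>
      congrArg Subtype.val (Subgroup.mem_center_iff.1 hz.2 ⟨u, hu⟩).symm
    obtain ⟨r, hrX, hrW, c, -, hzr⟩ := P.centralizer_fixX hm fun r hr => hcom r (P.mem_borelU_of_fix hr)
    have hc : c = 1 := by
      have h := hzr (P.e i₀)
      rw [P.borelU_fix hi₀ z.2, hrX] at h
      have h1 := congrArg (B (P.f i₀)) h
      rw [map_smul, P.fe, if_pos rfl, smul_eq_mul, mul_one] at h1
      exact h1.symm
    subst hc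
    have hze : ∀ i, z.1.1 (P.e i) = P.e i := fun i => by rw [hzr, hrX, one_smul]
    have hzw : ∀ a, z.1.1 (P.w a) = P.w a := fun a => by rw [hzr, hrW, one_smul]
    have hzf : ∀ j, j ≠ i₀ → z.1.1 (P.f j) = P.f j := by
      intro j hj
      have key : ∀ d : F, (-σ d) • z.1.1 (P.f j) + (d * B (z.1.1 (P.f j)) (P.f i₀)) • P.e i₀ = (-σ d) • P.f j := by
        intro d
        have h0 : (z : tvGroup B) * P.sh i₀ j (Ne.symm hj) d * (z : tvGroup B)⁻¹ = P.sh i₀ j (Ne.symm hj) d := by
          rw [hcom _ (P.sh_mem_borelU (hmin j hj) d)]; group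
        rw [sh, el_conj] at h0
        have h1 := congrArg (fun g : tvGroup B => g.1 (P.f i₀)) h0
        simp only [el_apply, hze, map_smul, P.ef, if_true, one_smul, zero_mul, zero_sub, LinearMap.map_smulₛₗ,
          LinearMap.smul_apply, P.ff, smul_eq_mul, mul_zero, neg_zero, zero_smul, add_zero, map_neg, P.hσ2,
          neg_mul, neg_neg] at h1
        rw [add_assoc] at h1
        have h2 := add_left_cancel h1
        exact h2
      set b : F := B (z.1.1 (P.f j)) (P.f i₀)
      have h1 := key (-1)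
      simp only [map_neg, map_one, neg_neg, one_smul, neg_mul, one_mul] at h1
      obtain ⟨d, hd⟩ : ∃ d, σ d ≠ d := by
        by_contra h
        push_neg at h
        exact P.hσ (RingHom.ext h)
      have h2 := congrArg (B (P.f i₀)) (key d)
      have h3 := congrArg (B (P.f i₀)) h1
      simp [P.fe, P.ff] at h2 h3
      have hb : b = 0 := by
        have h : (d - σ d) * b = 0 := by linear_combination h2 + σ d * h3
        exact (mul_eq_zero.1 h).resolve_left (sub_ne_zero.2 (Ne.symm hd))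
      simpa [hb] using h1
    set τ : F := B (P.f i₀) (z.1.1 (P.f i₀))
    have hpair : z.1.1 (P.f i₀) = P.f i₀ + τ • P.e i₀ := by
      refine P.ext_pairing (fun i => ?_) (fun i => ?_) fun a => ?_
      · conv_lhs => rw [← hze i, P.act_iso]
        simp [P.ee]
      · by_cases hi : i = i₀
        · subst hi; simp [P.ff, P.fe]; rfl
        · conv_lhs => rw [← hzf i hi, P.act_iso]
          simp [P.ff, P.fe, hi]
      · conv_lhs => rw [← hzw a, P.act_iso]
        simp [P.wf, P.we]
    have hτ : τ + σ τ = 0 := by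
      have h := P.act_iso z.1 (P.f i₀) (P.f i₀)
      rw [hpair, P.ff] at h
      simp [P.ff, P.fe, P.ef, P.ee] at h
      linear_combination h
    refine ⟨τ, hτ, fun h0 => hz1 (Subtype.ext (Subtype.ext (P.eq_of_basis hze ?_ hzw))), ?_⟩
    · intro j
      by_cases hj : j = i₀
      · subst hj; rw [hpair, h0, zero_smul, add_zero]; rfl
      · exact hzf j hj
    · have : P.tvE (P.e i₀) (P.ee i₀ i₀) τ hτ = (z : tvGroup B) := by
        refine P.eq_of_basis (fun i => ?_) (fun i => ?_) fun a => ?_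
        · rw [hze, P.tvE_apply, P.ee]; simp
        · rw [P.tvE_apply, P.ef]
          by_cases hi : i = i₀
          · subst hi; simp [hpair]
          · rw [hzf i hi]; simp [Ne.symm hi]
        · rw [hzw, P.tvE_apply, P.ew]; simp
      rw [this]
      exact hz.1
  have hreach : ∀ (i : Fin m) (a : F), a ≠ 0 → ∃ g : tvGroup B, g.1 (P.e i₀) = a • P.e i := by
    intro i a ha
    obtain ⟨h, -, hh, -⟩ := P.torus_word h01.ne ha
    by_cases hi : i = i₀
    · exact ⟨h, hi ▸ hh⟩
    · refine ⟨P.sh i₀ i (Ne.symm hi) (-1) * P.sh i i₀ hi 1 * h, ?_⟩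
      simp only [act_mul, hh, map_smul, P.sh_e, map_add, if_true, Ne.symm hi, if_false, zero_smul, add_zero,
        one_smul, neg_smul]
      congr 1
      abel
  -- transvections
  have hA : ∀ (v : V) (hv : B v v = 0), (∀ k, B v (P.e k) = 0) →
      (∀ a : F, a ≠ 0 → ∃ g : tvGroup B, g.1 (P.e i₀) = a • v) →
      ∀ (t : F) (ht : t + σ t = 0), P.tvE v hv t ht ∈ T := by
    intro v hv hvk hg t ht
    by_cases ht0 : t = 0
    · have : P.tvE v hv t ht = 1 := Subtype.ext (LinearEquiv.ext fun x => by simp [P.tvE_apply, ht0])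
      rw [this]; exact one_mem T
    have hfix : σ (t / τ) = t / τ := by
      rw [map_div₀, show σ t = -t by linear_combination ht, show σ τ = -τ by linear_combination hτ, neg_div_neg_eq]
    obtain ⟨a, ha⟩ := exists_norm_fixed P.hσ P.hσ2 (div_ne_zero ht0 hτ0) hfix
    have ha0 : a ≠ 0 := fun h => by rw [h, mul_zero] at ha; exact div_ne_zero ht0 hτ0 ha.symm
    obtain ⟨g, hga⟩ := hg a ha0
    have he : g * P.tvE (P.e i₀) (P.ee i₀ i₀) τ hτ * g⁻¹ = P.tvE v hv t ht := by
      rw [tvE, el_conj]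
      refine Subtype.ext (LinearEquiv.ext fun x => ?_)
      rw [el_apply, P.tvE_apply]
      simp only [hga, map_zero, smul_zero, add_zero, LinearMap.zero_apply, sub_zero, LinearMap.map_smulₛₗ,
        LinearMap.smul_apply, smul_eq_mul, smul_smul]
      rw [show t = σ a * a * τ by rw [ha, div_mul_cancel₀ _ hτ0]]
      congr 1
      ring_nf
    rw [← he]
    exact hcl _ htop g (he ▸ P.tvE_mem_borelU hv t ht hvk)
  have hAe : ∀ (i : Fin m) (t : F) (ht : t + σ t = 0), P.tvE (P.e i) (P.ee i i) t ht ∈ T := fun i t ht =>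
    hA _ _ (fun k => P.ee i k) (hreach i) t ht
  have hcr : ∀ (i j : Fin m), i ≠ j → ∀ c : F, P.cr i j c ∈ T := by
    intro i j hij c
    set l : F := c / τ with hl
    have hv : B (P.e i + l • P.e j) (P.e i + l • P.e j) = 0 := by simp [P.ee]
    have hN : σ l * l * τ + σ (σ l * l * τ) = 0 := by
      rw [map_mul, map_mul, P.hσ2, show σ τ = -τ by linear_combination hτ]; ring
    have h1 := hA _ hv (fun k => by simp [P.ee]) (fun a ha => by
      obtain ⟨g, hg⟩ := hreach i a ha
      refine ⟨P.sh j i hij.symm l * g, ?_⟩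
      rw [act_mul, hg, map_smul, P.sh_e, if_pos rfl]) τ hτ
    have h2 : P.cr i j c * (P.tvE (P.e i) (P.ee i i) τ hτ * P.tvE (P.e j) (P.ee j j) _ hN) =
        P.tvE (P.e i + l • P.e j) hv τ hτ := by
      have hc : c = τ * l := by rw [hl, mul_div_cancel₀ _ hτ0]
      refine Subtype.ext (LinearEquiv.ext fun x => ?_)
      simp only [act_mul, P.cr_apply, P.tvE_apply, map_add, map_smul, LinearMap.map_smulₛₗ, LinearMap.add_apply,
        LinearMap.smul_apply, P.ee, smul_eq_mul, mul_zero, zero_mul, add_zero, zero_smul, smul_zero]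
      rw [hc, map_mul, show σ τ = -τ by linear_combination hτ]
      module
    rw [eq_mul_inv_of_mul_eq h2]
    exact mul_mem h1 (inv_mem (mul_mem (hAe i τ hτ) (hAe j _ hN)))
  have hsh : ∀ (i j : Fin m) (hij : i < j) (d : F), P.sh i j hij.ne d ∈ T := by
    intro i j hij d
    obtain ⟨n, s, t, hs, -, hne, -, hno⟩ := P.exists_swap j
    have he : n * P.cr i j (-σ d / s) * n⁻¹ = P.sh i j hij.ne d := by
      rw [cr, el_conj, sh]
      refine P.el_congr (hno i hij.ne) ?_ rfl
      rw [map_smul, hne, smul_smul, div_mul_cancel₀ _ hs]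
    rw [← he]
    exact hcl _ (hcr i j hij.ne _) n (he ▸ P.sh_mem_borelU hij d)
  have hheis : ∀ (i : Fin m) (a : ι) (c t : F) (ht : t + σ t + σ c * c = 0), P.heis i a c t ht ∈ T := by
    have h0 : ∀ (a : ι) (c t : F) (ht : t + σ t + σ c * c = 0), P.heis i₀ a c t ht ∈ T := by
      intro a c t ht
      have h1 : P.heis i₁ a c t ht * P.sh i₀ i₁ h01.ne (-1) * (P.heis i₁ a c t ht)⁻¹ ∈ T :=
        (Subgroup.mem_normalizer_iff.1 (hUT (P.mem_borelU_of_fix (P.heis_e i₁ a c t ht))) _).1 (hsh _ _ h01 _)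
      have hw0 : B (c • P.w a) (P.e i₀) = 0 := by simp [P.we]
      have hw1 : t + σ t + B (c • P.w a) (c • P.w a) = 0 := by simp [P.ww]; linear_combination ht
      have he0 : B (t • P.e i₁) (P.e i₀) = 0 := by simp [P.ee]
      have he1 : (0 : F) + σ 0 + B (t • P.e i₁) (t • P.e i₁) = 0 := by simp [P.ee]
      have hf0 : B (P.f i₁) (P.e i₀) = 0 := by rw [P.fe, if_neg h01.ne']
      have hf1 : (0 : F) + σ 0 + B (P.f i₁) (P.f i₁) = 0 := by simp [P.ff]
      obtain ⟨hu, htt, hprod⟩ := P.el_mul (P.ee i₀ i₀) hw0 hw1 he0 he1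
      obtain ⟨hu', htt', hprod'⟩ := P.el_mul (P.ee i₀ i₀) hf0 hf1 hu htt
      have key : P.heis i₁ a c t ht * P.sh i₀ i₁ h01.ne (-1) * (P.heis i₁ a c t ht)⁻¹ =
          P.sh i₀ i₁ h01.ne (-1) * (P.heis i₀ a c t ht * P.cr i₀ i₁ t) := by
        rw [show P.sh i₀ i₁ h01.ne (-1) = P.el (P.e i₀) (P.f i₁) 0 (P.ee i₀ i₀) hf0 hf1 from
            P.el_congr rfl (by simp) rfl,
          el_conj, heis, heis, cr, hprod, hprod']
        refine P.el_congr ?_ ?_ ?_
        · simp [el_apply, P.ee, P.we, LinearMap.map_smulₛₗ]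
        · simp [el_apply, P.ef, P.wf, LinearMap.map_smulₛₗ]
          abel
        · simp [P.we, P.fw, P.fe, LinearMap.map_smulₛₗ]
      rw [key] at h1
      have h2 := mul_mem (inv_mem (hsh _ _ h01 (-1))) h1
      rw [inv_mul_cancel_left] at h2
      have h3 := mul_mem h2 (inv_mem (hcr _ _ h01.ne t))
      rwa [mul_inv_cancel_right] at h3
    intro i a c t ht
    by_cases hi : i = i₀
    · rw [hi]; exact h0 a c t ht
    set g : tvGroup B := P.sh i₀ i (Ne.symm hi) (-1) * P.sh i i₀ hi 1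
    have he : g * P.heis i₀ a c t ht * g⁻¹ = P.heis i a c t ht := by
      rw [heis, el_conj, heis]
      refine P.el_congr ?_ ?_ rfl
      · simp [g, act_mul, P.sh_e, hi, Ne.symm hi]
      · simp [g, act_mul, P.sh_w]
    rw [← he]
    exact hcl _ (h0 a c t ht) g (he ▸ P.mem_borelU_of_fix (P.heis_e i a c t ht))
  refine le_antisymm hTU fun g hg => ?_
  -- clear the `e`
  have s1 : ∀ k, k ≤ m → ∃ u ∈ T, ∀ i : Fin m, i.1 < k → (g * u).1 (P.e i) = P.e i := by
    intro k
    induction k with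
    | zero => exact fun _ => ⟨1, one_mem _, fun i hi => absurd hi (Nat.not_lt_zero _)⟩
    | succ k ih =>
      intro hk
      obtain ⟨u, hu, hfix⟩ := ih (by omega)
      set k' : Fin m := ⟨k, hk⟩
      have hgu : g * u ∈ P.borelU := mul_mem hg (hTU hu)
      have hy : -((g * u).1 (P.e k') - P.e k') ∈ P.low k := Submodule.neg_mem _ (hgu k')
      obtain ⟨w, hw, hwΦ, hwk⟩ := P.exists_translate T {y | ∃ i : Fin m, i ≠ k' ∧ y = P.e i} (P.e k')
        (fun i hi => ⟨i, fun h => by rw [h] at hi; exact lt_irrefl _ hi, rfl⟩) hy fun l hl => by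
          have hlk : l < k' := hl
          refine ⟨P.sh l k' hlk.ne _, hsh l k' hlk _, ?_, by rw [P.sh_e, if_pos rfl]⟩
          rintro _ ⟨i, hi, rfl⟩
          simp [P.sh_e, hi]
      refine ⟨u * w, mul_mem hu hw, fun i hi => ?_⟩
      rw [← mul_assoc, act_mul]
      by_cases hik : i = k'
      · rw [hik, hwk, map_add, map_neg, P.fix_low hfix (hgu k')]
        abel
      · rw [hwΦ _ ⟨i, hik, rfl⟩]
        refine hfix i (lt_of_le_of_ne (Nat.le_of_lt_succ hi) fun h => hik (Fin.ext h))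
  obtain ⟨u₁, hu₁, hfix₁⟩ := s1 m le_rfl
  suffices h : g * u₁ ∈ T by simpa using mul_mem h (inv_mem hu₁)
  replace hfix₁ : ∀ i, (g * u₁).1 (P.e i) = P.e i := fun i => hfix₁ i i.2
  replace hg : g * u₁ ∈ P.borelU := mul_mem hg (hTU hu₁)
  generalize g * u₁ = g at hg hfix₁ ⊢
  -- clear the `w`
  obtain ⟨u₂, hu₂, hfe, hfw⟩ : ∃ u ∈ T, (∀ i, (g * u).1 (P.e i) = P.e i) ∧ ∀ a, (g * u).1 (P.w a) = P.w a := by
    rcases isEmpty_or_nonempty ι with hι | ⟨⟨a⟩⟩
    · exact ⟨1, one_mem _, fun i => by rw [mul_one, hfix₁], fun a => isEmptyElim a⟩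
    have hlow := P.flag_w p hg a
    obtain ⟨w, hw, hwΦ, hwa⟩ := P.exists_translate T (Set.range P.e) (P.w a) (fun i _ => ⟨i, rfl⟩)
      (Submodule.neg_mem _ hlow) fun l _ => by
        set b : F := B (P.f l) (-(g.1 (P.w a) - P.w a))
        obtain ⟨t, ht⟩ := exists_trace_eq P.hσ P.hσ2 (a := -(b * σ b)) (by rw [map_neg, map_mul, P.hσ2, mul_comm])
        have ht' : t + σ t + σ (-σ b) * (-σ b) = 0 := by rw [map_neg, P.hσ2]; linear_combination ht
        refine ⟨P.heis l a (-σ b) t ht', hheis l a _ t ht', ?_, ?_⟩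
        · rintro _ ⟨i, rfl⟩; exact P.heis_e l a _ t ht' i
        · rw [heis, el_apply]
          simp [P.ew, P.ww, LinearMap.map_smulₛₗ, P.hσ2]
    refine ⟨w, hw, fun i => by rw [act_mul, hwΦ _ ⟨i, rfl⟩, hfix₁], fun a' => ?_⟩
    rw [Subsingleton.elim a' a, act_mul, hwa, map_add, map_neg,
      P.fix_low (fun i _ => hfix₁ i) hlow]
    abel
  suffices h : g * u₂ ∈ T by simpa using mul_mem h (inv_mem hu₂)
  clear hfix₁ hg
  generalize g * u₂ = g at hfe hfw ⊢
  -- clear the `f`
  have s3 : ∀ k, k ≤ m → ∃ u ∈ T, (∀ i, (g * u).1 (P.e i) = P.e i) ∧ (∀ a, (g * u).1 (P.w a) = P.w a) ∧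
      ∀ i : Fin m, i.1 < k → (g * u).1 (P.f i) = P.f i := by
    intro k
    induction k with
    | zero => exact fun _ => ⟨1, one_mem _, fun i => by rw [mul_one, hfe], fun a => by rw [mul_one, hfw],
        fun i hi => absurd hi (Nat.not_lt_zero _)⟩
    | succ k ih =>
      intro hk
      obtain ⟨u, hu, he, hw, hf⟩ := ih (by omega)
      set g' := g * u with hg'
      set k' : Fin m := ⟨k, hk⟩
      set x : V := g'.1 (P.f k') - P.f k' with hx
      have hxl : x ∈ P.low m := P.mem_low_of (fun i => by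
          rw [map_sub, sub_eq_zero]; conv_lhs => rw [← he i, P.act_iso]) (fun a => by
          rw [map_sub, sub_eq_zero]; conv_lhs => rw [← hw a, P.act_iso]) fun i hi => absurd i.2 (not_lt.2 hi)
      have hfx : ∀ l : Fin m, l.1 < k → B (P.f l) x = 0 := fun l hl => by
        rw [map_sub, sub_eq_zero]; conv_lhs => rw [← hf l hl, P.act_iso]
      have hbx : B (P.f k') x + σ (B (P.f k') x) = 0 := by
        have h := P.act_iso g' (P.f k') (P.f k')
        have hgx : g'.1 (P.f k') = P.f k' + x := by rw [hx]; abel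
        have hxx : B x x = 0 := P.bil_low_zero hxl fun i _ => (P.low_pairing hxl).1 i
        rw [hgx, P.ff] at h
        simp only [map_add, LinearMap.add_apply, P.ff, hxx] at h
        rw [P.hS.eq]
        linear_combination h
      obtain ⟨w, hwT, hwΦ, hwk⟩ := P.exists_translate T
        (Set.range P.e ∪ Set.range P.w ∪ {y | ∃ i : Fin m, i.1 < k ∧ y = P.f i}) (P.f k') (k := m)
        (fun i _ => Or.inl (Or.inl ⟨i, rfl⟩)) (Submodule.neg_mem _ hxl) fun l _ => by
          rcases lt_trichotomy l.1 k with hlk | hlk | hlk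
          · exact ⟨1, one_mem _, fun y _ => rfl, by simp [hfx l hlk]⟩
          · obtain rfl : l = k' := Fin.ext hlk
            have hb : B (P.f k') (-x) + σ (B (P.f k') (-x)) = 0 := by
              rw [map_neg, map_neg]; linear_combination -hbx
            refine ⟨P.tvE (P.e k') (P.ee k' k') _ hb, hAe k' _ hb, ?_, ?_⟩
            · rintro _ ((⟨i, rfl⟩ | ⟨a, rfl⟩) | ⟨i, hi, rfl⟩)
              · simp [P.tvE_apply, P.ee]
              · simp [P.tvE_apply, P.ew]
              · have hne : k' ≠ i := fun h => by rw [← h] at hi; exact lt_irrefl _ hi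
                simp [P.tvE_apply, P.ef, hne]
            · simp [P.tvE_apply, P.ef]
          · have hne : k' ≠ l := fun h => by rw [← h] at hlk; exact lt_irrefl _ hlk
            refine ⟨P.cr k' l (B (P.f l) (-x)), hcr k' l hne _, ?_, ?_⟩
            · rintro _ ((⟨i, rfl⟩ | ⟨a, rfl⟩) | ⟨i, hi, rfl⟩)
              · simp [P.cr_apply, P.ee]
              · simp [P.cr_apply, P.ew]
              · have h1 : k' ≠ i := fun h => by rw [← h] at hi; exact lt_irrefl _ hi
                have h2 : l ≠ i := fun h => by rw [← h] at hi; omega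
                simp [P.cr_apply, P.ef, h1, h2]
            · simp [P.cr_apply, P.ef, hne.symm]
      refine ⟨u * w, mul_mem hu hwT, fun i => ?_, fun a => ?_, fun i hi => ?_⟩
      · rw [← mul_assoc, act_mul, hwΦ _ (Or.inl (Or.inl ⟨i, rfl⟩)), ← hg', he]
      · rw [← mul_assoc, act_mul, hwΦ _ (Or.inl (Or.inr ⟨a, rfl⟩)), ← hg', hw]
      · rw [← mul_assoc, act_mul, ← hg']
        by_cases hik : i = k'
        · rw [hik, hwk, map_add, map_neg, P.fix_low (fun i _ => he i) hxl, hx]
          abel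
        · have hik' : i.1 < k := lt_of_le_of_ne (Nat.le_of_lt_succ hi) fun h => hik (Fin.ext h)
          rw [hwΦ _ (Or.inr ⟨i, hik', rfl⟩), hf i hik']
  obtain ⟨u₃, hu₃, he, hw, hf⟩ := s3 m le_rfl
  have h1 : g * u₃ = 1 := P.eq_of_basis he (fun i => hf i i.2) hw
  rw [eq_inv_of_mul_eq_one_left h1]
  exact inv_mem hu₃

theorem exists_diag {i₀ l : Fin m} (hil : i₀ ≠ l) {α : F} (hα : α ≠ 0) (v : V) (hve : ∀ i, B (P.e i) v = 0)
    (hvf : B (P.f l) v = 0) {τ : F} (hτ0 : τ ≠ 0) (hτ : τ + σ τ = 0) (hv : B v v = -(τ * (α - σ α))) :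
    ∃ h ∈ Subgroup.closure {x : tvGroup B | x.1 (P.e i₀) = P.e i₀ ∧ ∃ k : ℕ, x ^ p ^ k = 1},
      h.1 (P.e l) = α • P.e l ∧ ∀ i, i ≠ l → h.1 (P.e i) = P.e i := by
  have hστ : σ τ = -τ := by linear_combination hτ
  have hα' : σ α ≠ 0 := by simpa using hα
  set s : F := τ * α with hs
  have hs0 : s ≠ 0 := mul_ne_zero hτ0 hα
  set t : F := (1 - (σ α)⁻¹) / τ with ht
  have hvl : B v (P.f l) = 0 := P.hS.isRefl _ _ hvf
  have hve' : ∀ i, B v (P.e i) = 0 := fun i => P.hS.isRefl _ _ (hve i)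
  have hY : s + σ s + B v v = 0 := by rw [hv, hs, map_mul, hστ]; ring
  have hu : B ((-s⁻¹) • v) (P.e l) = 0 := by simp [hve']
  have hX : t + σ t + B ((-s⁻¹) • v) ((-s⁻¹) • v) = 0 := by
    simp only [LinearMap.map_smulₛₗ, LinearMap.smul_apply, map_smul, smul_eq_mul, hv, hs, ht, map_neg, map_inv₀,
      map_div₀, map_sub, map_mul, map_one, hστ, P.hσ2, RingHom.id_apply]
    field_simp
    ring
  have hτ' : -τ + σ (-τ) = 0 := by rw [map_neg]; linear_combination -hτ
  set Y := P.el (P.f l) v s (P.ff l l) hvl hY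
  set X := P.el (P.e l) ((-s⁻¹) • v) t (P.ee l l) hu hX
  set Z := P.tvE (P.f l) (P.ff l l) (-τ) hτ'
  refine ⟨Z * X * Y, mul_mem (mul_mem (Subgroup.subset_closure ⟨?_, 3, ?_⟩) (Subgroup.subset_closure ⟨?_, 3, ?_⟩))
    (Subgroup.subset_closure ⟨?_, 3, ?_⟩), ?_, fun i hi => ?_⟩
  · simp [Z, P.tvE_apply, P.fe, Ne.symm hil]
  · exact P.el_pow p _ _ _ _ _ _
  · simp [X, P.el_apply, P.ee, hve']
  · exact P.el_pow p _ _ _ _ _ _
  · simp [Y, P.el_apply, P.fe, Ne.symm hil, hve']
  · exact P.el_pow p _ _ _ _ _ _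
  · have hY1 : Y.1 (P.e l) = P.e l + v + s • P.f l := by
      simp [Y, P.el_apply, P.fe, hve']
    have hX1 : X.1 (P.e l + v + s • P.f l) = α • P.e l + s • P.f l := by
      simp only [X, P.el_apply, map_add, map_smul, P.ee, hve, P.ef, if_true, LinearMap.map_smulₛₗ,
        LinearMap.smul_apply, smul_eq_mul, hve', hvl, hv, mul_zero, zero_add, add_zero, mul_one]
      match_scalars
      · simp only [hs, ht, map_neg, map_inv₀, map_mul, hστ]
        field_simp
        ring
      · field_simp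
        ring
      · ring
    rw [act_mul, act_mul, hY1, hX1, P.tvE_apply]
    simp [P.fe, P.ff, hs]
  · simp [X, Y, Z, act_mul, P.el_apply, P.tvE_apply, P.fe, P.ee, hve', hi, Ne.symm hi]

include P p in
theorem isSimple_core {H : Type*} [Group H] [Finite H] (hm : 2 ≤ m) (π₀ : tvGroup B →* H)
    (hsurj : Function.Surjective π₀) (hker₀ : π₀.ker = Subgroup.center (tvGroup B))
    (hcop : (Nat.card (Subgroup.center (tvGroup B))).Coprime p) (S : Sylow p H) :
    (Cfsg.groupFusionSystem (S : Subgroup H)).IsSimple p := by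
  classical
  haveI := finite_tvGroup (B := B)
  obtain ⟨R, hR⟩ := P.exists_sylow_borelU p
  obtain ⟨g₀, hg₀⟩ := MulAction.exists_smul_eq H (R.mapSurjective (f := π₀) hsurj) S
  let π : tvGroup B →* H := (MulAut.conj g₀).toMonoidHom.comp π₀
  have hker : π.ker = Subgroup.center (tvGroup B) := by
    rw [← hker₀]
    ext x
    rw [MonoidHom.mem_ker, MonoidHom.mem_ker]
    exact map_eq_one_iff (MulAut.conj g₀) (MulAut.conj g₀).injective
  obtain ⟨i₀, hi₀⟩ : ∃ i : Fin m, i.1 = 0 := ⟨⟨0, by omega⟩, rfl⟩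
  obtain ⟨l, hl⟩ : ∃ i : Fin m, i.1 = m - 1 := ⟨⟨m - 1, by omega⟩, rfl⟩
  have hil : i₀ ≠ l := by intro h; rw [h] at hi₀; omega
  have hmin : ∀ a, i₀ ≤ a := fun a => by show i₀.1 ≤ a.1; omega
  set L₁ := Subgroup.closure {x : tvGroup B | ∃ a b, ∃ (hab : a ≠ b) (d : F), x = P.sh a b hab d}
  set L₂ := Subgroup.closure {x : tvGroup B | x.1 (P.e i₀) = P.e i₀ ∧ ∃ k : ℕ, x ^ p ^ k = 1}
  refine isSimple_of_lie π ((MulAut.conj g₀).surjective.comp hsurj) hker.le (hker ▸ hcop) P.borelU
    (P.isPGroup_borelU p) S ?_ ?_ (fun T h1 h2 h3 h4 => P.eq_of_closed p hm T h1 h2 h3 h4)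
    {h | h ∈ Subgroup.normalizer (P.borelU : Set (tvGroup B)) ∧ (h ∈ L₁ ∨ h ∈ L₂)} ?_ ?_
  · rw [← hg₀, Sylow.coe_subgroup_smul, Sylow.coe_mapSurjective, hR, ← Subgroup.map_map]
    rfl
  · intro h
    have h1 := Subgroup.mem_bot.1 (h ▸ P.sh_mem_borelU (lt_of_le_of_ne (hmin l) hil) (1 : F))
    have h2 := congrArg (fun g : tvGroup B => B (P.f i₀) (g.1 (P.e l))) h1
    simp [P.sh_e, P.fe, hil] at h2
  · intro g hg
    obtain ⟨a, ha0, ha⟩ := P.exists_scalars hg
    have hs : ∀ s : Finset (Fin m), l ∉ s → ∃ h ∈ L₁, ∃ d : F, d ≠ 0 ∧ h.1 (P.e l) = d • P.e l ∧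
        ∀ i, i ≠ l → h.1 (P.e i) = (if i ∈ s then a i else 1) • P.e i := by
      intro s
      induction s using Finset.induction_on with
      | empty => exact fun _ => ⟨1, one_mem _, 1, one_ne_zero, (one_smul F _).symm, fun i _ => by simp⟩
      | @insert j s hjs ih =>
        intro hls
        obtain ⟨hlj, hls'⟩ : l ≠ j ∧ l ∉ s := by simpa using hls
        obtain ⟨h, hh, d, hd, hhl, hhe⟩ := ih hls'
        obtain ⟨t, ht, htj, htl, hto⟩ := P.torus_word (Ne.symm hlj) (ha0 j)
        refine ⟨h * t, mul_mem hh ht, (a j)⁻¹ * d, mul_ne_zero (inv_ne_zero (ha0 j)) hd, ?_, fun i hi => ?_⟩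
        · rw [act_mul, htl, map_smul, hhl, smul_smul]
        · rw [act_mul]
          by_cases hij : i = j
          · subst hij; rw [htj, map_smul, hhe i hi, if_neg hjs, one_smul, if_pos (Finset.mem_insert_self _ _)]
          · rw [hto i hij hi, hhe i hi]
            simp [hij]
    obtain ⟨h₁, hh₁, d, hd, hh₁l, hh₁e⟩ := hs (Finset.univ.erase l) (by simp)
    set c : Fin m → F := fun i => if i = l then d else a i with hc
    have hc0 : ∀ i, c i ≠ 0 := fun i => by rw [hc]; dsimp only; split_ifs; exacts [hd, ha0 i]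
    have hh₁c : ∀ i, h₁.1 (P.e i) = c i • P.e i := fun i => by
      by_cases hi : i = l
      · simp [hc, hi, hh₁l]
      · simp [hc, hi, hh₁e i hi]
    have hh₁N := P.mem_normalizer_of_diag c hc0 hh₁c
    set g' : tvGroup B := h₁⁻¹ * g with hg'
    set α : F := a l / d with hα
    have hα0 : α ≠ 0 := div_ne_zero (ha0 l) hd
    have hg'e : ∀ i, g'.1 (P.e i) - (a i / c i) • P.e i ∈ P.low i.1 := P.diag_div hc0 hh₁c ha
    have hac : ∀ i, a i / c i = if i = l then α else 1 := fun i => by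
      by_cases hi : i = l
      · subst hi; simp [hc, hα]
      · simp [hc, hi, ha0 i]
    simp only [hac] at hg'e
    obtain ⟨τ, hτ0, hτ⟩ := exists_trace_zero P.hσ P.hσ2
    have hστ : σ τ = -τ := by linear_combination hτ
    have hα0' : σ α ≠ 0 := by simpa using hα0
    obtain ⟨v, hve, hvf, hv⟩ : ∃ v : V, (∀ i, B (P.e i) v = 0) ∧ B (P.f l) v = 0 ∧ B v v = -(τ * (α - σ α)) := by
      by_cases hfix : σ α = α
      · exact ⟨0, fun i => map_zero _, map_zero _, by simp [hfix]⟩
      rcases isEmpty_or_nonempty ι with hι | ⟨⟨b⟩⟩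
      · exfalso
        -- the determinant excludes this
        set μ : F := τ * (σ α - 1) / σ α with hμ
        set z : V := P.e l + μ • P.f l with hz
        have hBz : B z z = μ + σ μ := by simp [hz, P.ee, P.ff, P.ef, P.fe]
        set lq : F := -α / τ with hlq
        have hlz : lq + σ lq + σ lq * lq * B z z = 0 := by
          rw [hBz, hlq, hμ]
          simp only [map_div₀, map_neg, map_mul, map_sub, map_one, P.hσ2, hστ]
          field_simp
          ring
        set ν : F := -((α - 1) * μ) / α with hν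
        have hνl : ν + σ ν + σ ν * ν * B (P.f l) (P.f l) = 0 := by
          rw [P.ff, hν, hμ]
          simp only [map_div₀, map_neg, map_mul, map_sub, map_one, P.hσ2, hστ]
          field_simp
          ring
        set D : V ≃ₗ[F] V := qrefl (B := B) (P.f l) ν hνl * qrefl (B := B) z lq hlz with hD
        have hDi : D ∈ iso B := mul_mem (qrefl_mem_iso P.hS _ _ _) (qrefl_mem_iso P.hS _ _ _)
        set c' : Fin m → F := fun i => if i = l then α else 1 with hc'
        have hDe : ∀ i, D (P.e i) = c' i • P.e i := by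
          intro i
          rw [hD, LinearEquiv.mul_apply, qrefl_apply, qrefl_apply]
          by_cases hi : i = l
          · subst hi
            simp only [hz, hc', map_add, map_smul, LinearMap.map_smulₛₗ, LinearMap.add_apply,
              LinearMap.smul_apply, P.ee, P.fe, P.ff, if_true, smul_eq_mul, mul_one, mul_zero, zero_add, add_zero]
            rw [hν, hlq, hμ]
            simp only [map_div₀, map_mul, map_sub, map_one, P.hσ2, hστ]
            match_scalars <;> field_simp <;> ring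
          · simp [hz, hc', LinearMap.map_smulₛₗ, P.ee, P.fe, hi, Ne.symm hi]
        have hc'0 : ∀ i, c' i ≠ 0 := fun i => by rw [hc']; dsimp only; split_ifs; exacts [hα0, one_ne_zero]
        have hflag : P.Flag (D⁻¹ * g'.1) := fun i => by
          have h := P.diag_div hc'0 hDe hg'e i
          rw [show (if i = l then α else 1) / c' i = 1 from div_self (hc'0 i), one_smul] at h
          exact h
        have hi' : D⁻¹ * g'.1 ∈ iso B := mul_mem (inv_mem hDi) ((P.mem_tv _).1 g'.2).1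
        have hdet := det_eq_one_of_pow p _ (P.pow_eq_one_of_flag p hi' hflag fun a => isEmptyElim a)
        rw [map_mul, map_inv, ((P.mem_tv _).1 g'.2).2, mul_one, inv_eq_one, hD, map_mul] at hdet
        have h1 := congrArg (fun u : Fˣ => (u : F)) hdet
        simp only [Units.val_mul, det_qrefl, Units.val_one, P.ff, mul_zero, add_zero, one_mul] at h1
        rw [hBz, hlq, hμ] at h1
        simp only [map_div₀, map_mul, map_sub, map_one, P.hσ2, hστ] at h1
        field_simp at h1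
        apply hfix
        linear_combination -h1
      · obtain ⟨lam, hlam⟩ := exists_norm_fixed P.hσ P.hσ2 (a := -(τ * (α - σ α)))
          (neg_ne_zero.2 (mul_ne_zero hτ0 (sub_ne_zero.2 (Ne.symm hfix))))
          (by rw [map_neg, map_mul, map_sub, P.hσ2, hστ]; ring)
        exact ⟨lam • P.w b, fun i => by simp [P.ew], by simp [P.fw],
          by simp [LinearMap.map_smulₛₗ, P.ww]; linear_combination hlam⟩
    obtain ⟨h₂, hh₂, hh₂l, hh₂e⟩ := P.exists_diag p hil hα0 v hve hvf hτ0 hτ hv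
    set c' : Fin m → F := fun i => if i = l then α else 1 with hc'
    have hc'0 : ∀ i, c' i ≠ 0 := fun i => by rw [hc']; dsimp only; split_ifs; exacts [hα0, one_ne_zero]
    have hh₂c : ∀ i, h₂.1 (P.e i) = c' i • P.e i := fun i => by
      by_cases hi : i = l
      · simp [hc', hi, hh₂l]
      · simp [hc', hi, hh₂e i hi]
    have hg'' : h₂⁻¹ * g' ∈ P.borelU := fun i => by
      have h := P.diag_div hc'0 hh₂c hg'e i
      rw [show (if i = l then α else 1) / c' i = 1 from div_self (hc'0 i), one_smul] at h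
      exact h
    rw [show g = h₁ * (h₂ * (h₂⁻¹ * g')) by rw [hg']; group, map_mul π, map_mul π]
    exact mul_mem (Subgroup.subset_closure (Or.inr ⟨_, ⟨hh₁N, Or.inl hh₁⟩, rfl⟩))
      (mul_mem (Subgroup.subset_closure (Or.inr ⟨_, ⟨P.mem_normalizer_of_diag c' hc'0 hh₂c, Or.inr hh₂⟩, rfl⟩))
        (Subgroup.subset_closure (Or.inl ⟨_, hg'', rfl⟩)))
  · rintro h ⟨hN, hL⟩
    refine ⟨hN, ?_⟩
    rcases hL with hL | hL
    · refine ⟨P.fixX, ⟨fun r hr => P.mem_borelU_of_fix hr, fun u hu => P.fixX_normalizer fun i => ?_,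
        fun x hx => ?_⟩, Subgroup.closure_mono ?_ hL⟩
      · have h1 := Submodule.add_mem _ (P.low_mono i.2.le (hu i)) (P.e_mem_low i.2)
        rwa [sub_add_cancel] at h1
      · obtain ⟨r, hr, -, c, hc, -⟩ := P.centralizer_fixX hm hx
        refine ⟨r, hr, ?_⟩
        rw [← hker, MonoidHom.mem_ker, map_mul, map_inv, mul_inv_eq_one] at hc
        exact hc.symm
      · rintro _ ⟨a, b, hab, d, rfl⟩
        refine ⟨P.fixX_normalizer fun i => ?_, 3, P.el_pow p _ _ _ _ _ _⟩
        rw [P.sh_e]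
        exact Submodule.add_mem _ (P.e_mem_low i.2) (Submodule.smul_mem _ _ (P.e_mem_low a.2))
    · refine ⟨P.pointRadical i₀, ⟨P.pointRadical_le hmin, fun u hu => P.pointRadical_normalizer
        (P.borelU_fix hi₀ hu), fun x hx => ?_⟩, Subgroup.closure_mono ?_ hL⟩
      · obtain ⟨r, hr, hc⟩ := P.centralizer_pointRadical hx
        refine ⟨r, hr, ?_⟩
        rw [← hker, MonoidHom.mem_ker, map_mul, map_inv, mul_inv_eq_one] at hc
        exact hc.symm
      · rintro x ⟨hx1, hx2⟩
        exact ⟨P.pointRadical_normalizer hx1, hx2⟩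

end Frame

section Standard

variable {K : Type*} [Field K] [Fintype K] {q : ℕ} (hK : Fintype.card K = q ^ 2) (n : ℕ)

theorem hB_basis (k l : Fin n) : hB hK n (Pi.single k 1) (Pi.single l 1) = if k = l then 1 else 0 := by
  have hq := two_le_q hK
  rw [hB_single_right, one_mul, Pi.single_apply]
  by_cases h : k = l
  · subst h; simp
  · simp [h, Ne.symm h, zero_pow (show q ≠ 0 by omega)]

theorem hB_single_left (k : Fin n) (y : Fin n → K) : hB hK n (Pi.single k 1) y = y k := by
  rw [← (hB_isSymm hK n).eq, hB_single_right, one_mul, ← frob_apply hK, frob_frob hK]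

theorem exists_frame : Nonempty (Frame (hB hK n) (n / 2) (Fin (n % 2))) := by
  classical
  have hq := two_le_q hK
  obtain ⟨ε, ε', hε, hε', hne⟩ : ∃ ε ε' : K, frob hK ε * ε = -1 ∧ frob hK ε' * ε' = -1 ∧ ε ≠ ε' := by
    have h := card_norm_eq hK (μ := (-1 : K)) (neg_ne_zero.2 one_ne_zero)
      (by rw [← frob_apply hK, map_neg, map_one])
    have h1 : 1 < Nat.card {x : K // x ^ (q + 1) = -1} := by omega
    haveI := Finite.one_lt_card_iff_nontrivial.1 h1
    obtain ⟨⟨x, hx⟩, ⟨y, hy⟩, hxy⟩ := exists_pair_ne {x : K // x ^ (q + 1) = -1}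
    refine ⟨x, y, ?_, ?_, fun h => hxy (Subtype.ext h)⟩
    · rw [frob_apply, ← pow_succ, hx]
    · rw [frob_apply, ← pow_succ, hy]
  have hε0 : ε ≠ 0 := fun h => by simp [h] at hε
  have hε'0 : ε' ≠ 0 := fun h => by simp [h] at hε'
  set c : K := ε / (ε - ε') with hc
  have hd : ε - ε' ≠ 0 := sub_ne_zero.2 hne
  have hc0 : c ≠ 0 := div_ne_zero hε0 hd
  have hcs : c * (1 + frob hK ε * ε') = 1 := by
    rw [hc, show frob hK ε = -ε⁻¹ by field_simp; linear_combination hε]
    field_simp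
    ring
  let a : Fin (n / 2) → Fin n := fun i => ⟨2 * i.1, by omega⟩
  let b : Fin (n / 2) → Fin n := fun i => ⟨2 * i.1 + 1, by omega⟩
  let o : Fin (n % 2) → Fin n := fun j => ⟨2 * (n / 2) + j.1, by omega⟩
  have hab : ∀ i j, a i ≠ b j := fun i j h => by
    have h1 := congrArg Fin.val h
    simp only [a, b] at h1
    omega
  have haa : ∀ i j, (a i = a j ↔ i = j) := fun i j => by simp [a, Fin.ext_iff]
  have hbb : ∀ i j, (b i = b j ↔ i = j) := fun i j => by simp [b, Fin.ext_iff]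
  have hao : ∀ i j, a i ≠ o j := fun i j h => by
    have h1 := congrArg Fin.val h
    simp only [a, o] at h1
    omega
  have hbo : ∀ i j, b i ≠ o j := fun i j h => by
    have h1 := congrArg Fin.val h
    simp only [b, o] at h1
    omega
  let u : Fin n → (Fin n → K) := fun k => Pi.single k 1
  let e : Fin (n / 2) → (Fin n → K) := fun i => u (a i) + ε • u (b i)
  let f : Fin (n / 2) → (Fin n → K) := fun i => c • (u (a i) + ε' • u (b i))
  let w : Fin (n % 2) → (Fin n → K) := fun j => u (o j)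
  have hee : ∀ i j, hB hK n (e i) (e j) = 0 := fun i j => by
    simp only [e, u, map_add, map_smul, LinearMap.map_smulₛₗ, LinearMap.add_apply, LinearMap.smul_apply,
      hB_basis, hab, Ne.symm (hab _ _), haa, hbb, smul_eq_mul, if_false, mul_zero, add_zero, zero_add,
      RingHom.id_apply]
    rcases eq_or_ne i j with rfl | h
    · simp only [if_true]
      linear_combination hε
    · simp [h]
  have hff : ∀ i j, hB hK n (f i) (f j) = 0 := fun i j => by
    simp only [f, u, map_add, map_smul, LinearMap.map_smulₛₗ, LinearMap.add_apply, LinearMap.smul_apply,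
      hB_basis, hab, Ne.symm (hab _ _), haa, hbb, smul_eq_mul, if_false, mul_zero, add_zero, zero_add,
      RingHom.id_apply]
    rcases eq_or_ne i j with rfl | h
    · simp only [if_true]
      linear_combination c * frob hK c * hε'
    · simp [h]
  have hef : ∀ i j, hB hK n (e i) (f j) = if i = j then 1 else 0 := fun i j => by
    simp only [e, f, u, map_add, map_smul, LinearMap.map_smulₛₗ, LinearMap.add_apply, LinearMap.smul_apply,
      hB_basis, hab, Ne.symm (hab _ _), haa, hbb, smul_eq_mul, if_false, mul_zero, add_zero, zero_add,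
      RingHom.id_apply]
    rcases eq_or_ne i j with rfl | h
    · simp only [if_true]
      linear_combination hcs
    · simp [h]
  have hew : ∀ i j, hB hK n (e i) (w j) = 0 := fun i j => by
    simp [e, w, u, LinearMap.map_smulₛₗ, hB_basis, hao, hbo]
  have hfw : ∀ i j, hB hK n (f i) (w j) = 0 := fun i j => by
    simp [f, w, u, LinearMap.map_smulₛₗ, hB_basis, hao, hbo]
  have hww : ∀ j, hB hK n (w j) (w j) = 1 := fun j => by simp [w, u, hB_basis]
  have hS := hB_isSymm hK n
  refine ⟨{ e := e, f := f, w := w, hσ := frob_ne_id hK, hσ2 := frob_frob hK, hS := hS,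
            hB := hB_nondegenerate hK n, ee := hee, ff := hff, ef := hef, ew := hew, fw := hfw,
            ww := hww, expand := fun x => ?_ }⟩
  set y : Fin n → K := ∑ i, hB hK n (f i) x • e i + ∑ i, hB hK n (e i) x • f i + ∑ j, hB hK n (w j) x • w j with hy
  have hfe : ∀ i j, hB hK n (f i) (e j) = if i = j then 1 else 0 := fun i j => by
    rw [← hS.eq, hef]
    by_cases h : i = j <;> simp [h, Ne.symm]
  have hwe : ∀ j i, hB hK n (w j) (e i) = 0 := fun j i => hS.isRefl _ _ (hew i j)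
  have hwf : ∀ j i, hB hK n (w j) (f i) = 0 := fun j i => hS.isRefl _ _ (hfw i j)
  have hwj : ∀ j j' : Fin (n % 2), j = j' := fun j j' => Fin.ext (by omega)
  have he : ∀ i, hB hK n (e i) (x - y) = 0 := fun i => by
    simp [hy, hee, hef, hew]
  have hf : ∀ i, hB hK n (f i) (x - y) = 0 := fun i => by
    simp [hy, hfe, hff, hfw]
  have hw : ∀ j, hB hK n (w j) (x - y) = 0 := fun j => by
    rw [hy, map_sub, map_add, map_add, map_sum, map_sum, map_sum]
    simp only [map_smul, hwe, hwf, smul_zero, Finset.sum_const_zero, zero_add]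
    rw [Finset.sum_eq_single j (fun j' _ h => absurd (hwj j' j) h) (by simp), hww, smul_eq_mul, mul_one, sub_self]
  generalize hz : x - y = z at he hf hw
  refine sub_eq_zero.1 (hz.trans (funext fun k => ?_))
  have hpair : ∀ i, z (a i) = 0 ∧ z (b i) = 0 := by
    intro i
    have h1 := he i
    have h2 := hf i
    simp only [e, f, u, map_add, LinearMap.map_smulₛₗ, LinearMap.add_apply, LinearMap.smul_apply,
      hB_single_left, smul_eq_mul] at h1 h2
    have h3 := (mul_eq_zero.1 h2).resolve_left (by simpa using hc0)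
    have h4 : (frob hK ε - frob hK ε') * z (b i) = 0 := by linear_combination h1 - h3
    have h5 := (mul_eq_zero.1 h4).resolve_left (sub_ne_zero.2 ((frob hK).injective.ne hne))
    exact ⟨by linear_combination h1 - frob hK ε * h5, h5⟩
  show z k = 0
  rcases lt_or_ge k.1 (2 * (n / 2)) with hk | hk
  · rcases Nat.even_or_odd' k.1 with ⟨i, hi | hi⟩
    · have hk' : k = a ⟨i, by omega⟩ := Fin.ext hi
      rw [hk']; exact (hpair _).1
    · have hk' : k = b ⟨i, by omega⟩ := Fin.ext hi
      rw [hk']; exact (hpair _).2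
  · have hk' : k = o ⟨k.1 - 2 * (n / 2), by omega⟩ := Fin.ext (by simp only [o]; omega)
    have h := hw ⟨k.1 - 2 * (n / 2), by omega⟩
    simp only [w, u, hB_single_left] at h
    rw [hk']; exact h

include hK in
theorem isSimple_psu (p : ℕ) [Fact p.Prime] [CharP K p] (hn : 4 ≤ n) (S : Sylow p (Cfsg.PSU n K q)) :
    (Cfsg.groupFusionSystem (S : Subgroup (Cfsg.PSU n K q))).IsSimple p := by
  classical
  haveI h4 : Fact (4 ≤ finrank K (Fin n → K)) := ⟨by rwa [Module.finrank_fin_fun]⟩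
  haveI : Subsingleton (Fin (n % 2)) := ⟨fun a b => Fin.ext (by omega)⟩
  obtain ⟨P⟩ := exists_frame hK n
  let ψ : Cfsg.SU n K q →* ((Fin n → K) ≃ₗ[K] (Fin n → K)) :=
    ((iso (hB hK n)).subtype.comp (guEquiv hK n).toMonoidHom).comp
      ((Matrix.SpecialLinearGroup.toGL.comp (Cfsg.SU n K q).subtype).codRestrict (Cfsg.GU n K q)
        fun A => (mem_SU_iff A.1).1 A.2)
  have hψ : ∀ (A : Cfsg.SU n K q) v, ψ A v = A.1.1.mulVec v := fun A v => rfl
  have hinj : Function.Injective ψ := by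
    intro A B h
    refine Subtype.ext (Subtype.ext (Matrix.ext_of_mulVec_single fun j => ?_))
    rw [← hψ, ← hψ, h]
  have hdet : ∀ (A : Matrix (Fin n) (Fin n) K) (g : (Fin n → K) ≃ₗ[K] (Fin n → K)), (∀ v, g v = A.mulVec v) →
      (LinearEquiv.det g : K) = A.det := by
    intro A g h
    rw [LinearEquiv.coe_det, ← LinearMap.det_toLin' A]
    congr 1
    exact LinearMap.ext fun v => by rw [Matrix.toLin'_apply]; exact h v
  have hran : ψ.range = tvGroup (hB hK n) := by
    ext g
    constructor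
    · rintro ⟨A, rfl⟩
      refine (P.mem_tv _).2 ⟨(guEquiv hK n _).2, Units.ext ?_⟩
      rw [hdet A.1.1 _ (hψ A)]
      exact A.1.2
    · intro hg
      obtain ⟨hgi, hgd⟩ := (P.mem_tv _).1 hg
      set C := ((guEquiv hK n).symm ⟨g, hgi⟩ : GL (Fin n) K) with hC
      have hCg : ∀ v, g v = C.1.mulVec v := fun v => by
        rw [hC, ← guEquiv_apply hK n ((guEquiv hK n).symm ⟨g, hgi⟩), MulEquiv.apply_symm_apply]
      have hCd : C.1.det = 1 := by rw [← hdet C.1 g hCg, hgd]; rfl
      have hmem : (⟨C.1, hCd⟩ : Matrix.SpecialLinearGroup (Fin n) K) ∈ Cfsg.SU n K q :=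
        ((guEquiv hK n).symm ⟨g, hgi⟩).2
      exact ⟨⟨_, hmem⟩, LinearEquiv.ext fun v => (hψ _ v).trans (hCg v).symm⟩
  let η : Cfsg.SU n K q ≃* tvGroup (hB hK n) := (ψ.ofInjective hinj).trans (MulEquiv.subgroupCongr hran)
  let π₀ : tvGroup (hB hK n) →* Cfsg.PSU n K q := (QuotientGroup.mk' _).comp η.symm.toMonoidHom
  refine P.isSimple_core p (by omega) π₀
    ((QuotientGroup.mk'_surjective _).comp η.symm.surjective) ?_ ?_ S
  · ext x
    rw [MonoidHom.mem_ker]
    show ((η.symm x : Cfsg.SU n K q) : Cfsg.PSU n K q) = 1 ↔ _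
    rw [QuotientGroup.eq_one_iff, Subgroup.mem_center_iff, Subgroup.mem_center_iff]
    constructor
    · intro h g
      apply η.symm.injective
      rw [map_mul, map_mul]
      exact h _
    · intro h g
      apply η.injective
      rw [map_mul, map_mul, MulEquiv.apply_symm_apply]
      exact h _
  · rw [← Nat.card_congr (Subgroup.centerCongr η).toEquiv, card_center_SU hK (by omega)]
    refine Nat.Coprime.coprime_dvd_left (Nat.gcd_dvd_right _ _) ?_
    rw [Nat.coprime_comm, (Fact.out : p.Prime).coprime_iff_not_dvd]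
    intro hdvd
    have hpq : p ∣ q := (Fact.out : p.Prime).dvd_of_dvd_pow (n := 2) (hK ▸ by
      obtain ⟨f, -, hcard⟩ := FiniteField.card K p
      exact hcard ▸ dvd_pow_self p f.pos.ne')
    exact (Fact.out : p.Prime).not_dvd_one ((Nat.dvd_add_right hpq).1 hdvd)

end Standard

end Cfsg.Lib.FusionSys.PSUChar
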