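import Cfsg.Agent.Lib.FusionSys.LieSimplePSUElems
import Cfsg.Agent.Lib.FusionSys.LieSimplePSL

/-!
The unipotent radical of the Borel subgroup of a special unitary group and two parabolic radicals.
-/

set_option autoImplicit false
set_option linter.unusedSectionVars false

namespace Cfsg.Lib.FusionSys.PSUChar

open Cfsg.Lib.Linear Cfsg.Lib.Linear.Herm Module

variable {F V : Type*} [Field F] [Fintype F] [AddCommGroup V] [Module F V] [FiniteDimensional F V]
  {σ : F →+* F} {B : V →ₛₗ[σ] V →ₗ[F] F}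

theorem finite_tvGroup : Finite (tvGroup B) := by
  haveI : Finite V := Module.finite_of_finite F
  haveI : Finite (V ≃ₗ[F] V) := Finite.of_injective (fun g : V ≃ₗ[F] V => (g : V → V)) DFunLike.coe_injective
  infer_instance

theorem apply_inv (g : tvGroup B) (x : V) : g.1 ((g⁻¹ : tvGroup B).1 x) = x := by
  rw [← Frame.act_mul, mul_inv_cancel]; rfl

theorem inv_apply (g : tvGroup B) (x : V) : (g⁻¹ : tvGroup B).1 (g.1 x) = x := by
  rw [← Frame.act_mul, inv_mul_cancel]; rfl

theorem mem_center_of_scalar {z : tvGroup B} {c : F} (h : ∀ x, z.1 x = c • x) :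
    z ∈ Subgroup.center (tvGroup B) :=
  Subgroup.mem_center_iff.2 fun g => Subtype.ext (LinearEquiv.ext fun x => by
    rw [Frame.act_mul, Frame.act_mul, h, h, map_smul])

namespace Frame

variable {m : ℕ} {ι : Type*} [Fintype ι] [DecidableEq ι] [Subsingleton ι] (P : Frame B m ι)

/-- The unipotent radical of the Borel subgroup. -/
def borelU : Subgroup (tvGroup B) where
  carrier := {g | P.Flag g.1}
  one_mem' := fun i => by simp
  mul_mem' := fun {g h} hg hh i => by
    have h' : (g * h).1 (P.e i) - P.e i = g.1 (h.1 (P.e i) - P.e i) + (g.1 (P.e i) - P.e i) := by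
      rw [act_mul, map_sub]; abel
    rw [h']
    exact Submodule.add_mem _ (P.flag_low hg (hh i)) (hg i)
  inv_mem' := fun {g} hg => by
    haveI := finite_tvGroup (B := B)
    have hpow : ∀ k : ℕ, P.Flag (g ^ k : tvGroup B).1 := by
      intro k
      induction k with
      | zero => intro i; simp
      | succ k ih =>
        intro i
        have h' : (g ^ (k + 1)).1 (P.e i) - P.e i =
            (g ^ k).1 (g.1 (P.e i) - P.e i) + ((g ^ k).1 (P.e i) - P.e i) := by
          rw [pow_succ, act_mul, map_sub]; abel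
        rw [h']
        exact Submodule.add_mem _ (P.flag_low ih (hg i)) (ih i)
    have hinv : g⁻¹ = g ^ (orderOf g - 1) := by
      refine inv_eq_of_mul_eq_one_right ?_
      rw [← pow_succ', Nat.sub_add_cancel (orderOf_pos g), pow_orderOf_eq_one]
    show P.Flag (g⁻¹).1
    rw [hinv]
    exact hpow _

theorem mem_borelU {g : tvGroup B} : g ∈ P.borelU ↔ ∀ i : Fin m, g.1 (P.e i) - P.e i ∈ P.low i.1 := Iff.rfl

theorem mem_borelU_of_fix {g : tvGroup B} (h : ∀ i, g.1 (P.e i) = P.e i) : g ∈ P.borelU := fun i => by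
  rw [h, sub_self]; exact Submodule.zero_mem _

theorem bil_low_zero {j : ℕ} {x y : V} (hx : x ∈ P.low j) (h : ∀ i : Fin m, i.1 < j → B (P.e i) y = 0) :
    B x y = 0 := by
  induction hx using Submodule.span_induction with
  | mem x hx => obtain ⟨i, hi, rfl⟩ := hx; exact h i hi
  | zero => simp
  | add x x' _ _ hx hx' => rw [map_add, LinearMap.add_apply, hx, hx', add_zero]
  | smul c x _ hx => rw [LinearMap.map_smulₛₗ, LinearMap.smul_apply, hx, smul_zero]

variable [h4 : Fact (4 ≤ finrank F V)] (p : ℕ) [Fact p.Prime] [CharP F p]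

include p in
theorem flag_w {g : tvGroup B} (hg : g ∈ P.borelU) (a : ι) : g.1 (P.w a) - P.w a ∈ P.low m := by
  classical
  obtain ⟨hgi, hgd⟩ := (P.mem_tv _).1 g.2
  set y := g.1 (P.w a) with hy
  have hey : ∀ (j : ℕ) (i : Fin m), i.1 < j → B (P.e i) y = 0 := by
    intro j
    induction j with
    | zero => intro i hi; omega
    | succ j ih =>
      intro i hi
      rcases Nat.lt_or_eq_of_le (Nat.lt_succ_iff.1 hi) with h | h
      · exact ih i h
      have h1 : B (g.1 (P.e i)) y = 0 := by rw [hgi, P.ew]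
      have h2 : B (g.1 (P.e i) - P.e i) y = 0 := P.bil_low_zero (hg i) (h ▸ ih)
      rw [map_sub, LinearMap.sub_apply, h1, zero_sub, neg_eq_zero] at h2
      exact h2
  have hey' : ∀ i, B (P.e i) y = 0 := fun i => hey m i i.2
  set c : F := B (P.w a) y with hc
  have hlow : y - c • P.w a ∈ P.low m := P.mem_low_of (fun i => by simp [hey', P.ew]) (fun b => by
    rw [Subsingleton.elim b a, map_sub, map_smul, P.ww, ← hc]; simp) (fun i hi => absurd i.2 (not_lt.2 hi))
  have hN : σ c * c = 1 := by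
    have h1 : B y y = 1 := by rw [hy, hgi, P.ww]
    have h2 : B y (y - c • P.w a) = 0 := P.hS.isRefl _ _ (P.bil_low_zero hlow fun i _ => hey' i)
    rw [map_sub, map_smul, h1, smul_eq_mul, ← P.hS.eq (P.w a) y, ← hc] at h2
    linear_combination -h2
  have hl : (c - 1) + σ (c - 1) + σ (c - 1) * (c - 1) * B (P.w a) (P.w a) = 0 := by
    rw [P.ww, map_sub, map_one]; linear_combination hN
  set D := qrefl (B := B) (P.w a) (c - 1) hl with hD
  have hDi : D ∈ iso B := qrefl_mem_iso P.hS _ _ _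
  have hDe : ∀ i, D (P.e i) = P.e i := fun i => by simp [hD, P.we]
  have hDlow : ∀ x ∈ P.low m, D x = x := fun x hx => by
    rw [hD, qrefl_apply, (P.low_pairing hx).2.1 a, mul_zero, zero_smul, add_zero]
  have hDw : D (P.w a) = c • P.w a := by
    rw [hD, qrefl_apply, P.ww, mul_one, sub_smul, one_smul]; abel
  set g' : V ≃ₗ[F] V := D⁻¹ * g.1
  have hg'i : g' ∈ iso B := mul_mem (inv_mem hDi) hgi
  have hinvD : ∀ x, D⁻¹ (D x) = x := fun x => by rw [← LinearEquiv.mul_apply, inv_mul_cancel]; rfl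
  have hDinv : ∀ x ∈ P.low m, D⁻¹ x = x := fun x hx => by
    conv_lhs => rw [← hDlow x hx]
    exact hinvD x
  have hflag : P.Flag g' := fun i => by
    have h1 : g.1 (P.e i) ∈ P.low m := by
      have := Submodule.add_mem _ (P.low_mono i.2.le (hg i)) (P.e_mem_low i.2)
      rwa [sub_add_cancel] at this
    show D⁻¹ (g.1 (P.e i)) - P.e i ∈ P.low i.1
    rw [hDinv _ h1]
    exact hg i
  have hW : ∀ b, g' (P.w b) - P.w b ∈ P.low m := fun b => by
    rw [Subsingleton.elim b a]
    show D⁻¹ y - P.w a ∈ P.low m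
    have h1 : D⁻¹ y = (y - c • P.w a) + P.w a := by
      calc D⁻¹ y = D⁻¹ ((y - c • P.w a) + D (P.w a)) := by rw [hDw, sub_add_cancel]
        _ = _ := by rw [map_add, hDinv _ hlow, hinvD]
    rw [h1, add_sub_cancel_right]
    exact hlow
  have hd := det_eq_one_of_pow p g' (P.pow_eq_one_of_flag p hg'i hflag hW)
  rw [map_mul, map_inv, hgd, mul_one, inv_eq_one] at hd
  have hc1 : c = 1 := by
    have h := det_qrefl (B := B) (P.w a) (c - 1) hl
    rw [← hD, hd, P.ww] at h
    simp at h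
    exact h.symm
  rw [hc1, one_smul] at hlow
  exact hlow

theorem isPGroup_borelU : IsPGroup p P.borelU := fun g =>
  ⟨m + 3, Subtype.ext (Subtype.ext
    (P.pow_eq_one_of_flag p ((P.mem_tv _).1 g.1.2).1 g.2 (P.flag_w p g.2)))⟩

theorem sh_mem_borelU {i j : Fin m} (h : i < j) (c : F) : P.sh i j h.ne c ∈ P.borelU := fun k => by
  rw [P.sh_e]
  by_cases hk : k = j
  · subst hk
    simp only [if_true, add_sub_cancel_left]
    exact Submodule.smul_mem _ _ (P.e_mem_low h)
  · simp [hk]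

theorem tvE_mem_borelU {v : V} (hv : B v v = 0) (t : F) (ht : t + σ t = 0) (h : ∀ k, B v (P.e k) = 0) :
    P.tvE v hv t ht ∈ P.borelU := P.mem_borelU_of_fix fun k => by rw [P.tvE_apply, h]; simp

theorem heis_e (i : Fin m) (a : ι) (c t : F) (ht : t + σ t + σ c * c = 0) (k : Fin m) :
    (P.heis i a c t ht).1 (P.e k) = P.e k := by
  rw [heis, el_apply, P.ee]
  simp [LinearMap.map_smulₛₗ, P.we]

theorem cr_e (i j : Fin m) (c : F) (k : Fin m) : (P.cr i j c).1 (P.e k) = P.e k := by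
  simp [P.cr_apply, P.ee]

theorem mem_low_succ {k : ℕ} (hk : k < m) {x : V} (h : ∀ u ∈ P.borelU, u.1 x - x ∈ P.low k) :
    x ∈ P.low (k + 1) := by
  set k' : Fin m := ⟨k, hk⟩ with hk'
  have he : ∀ l, B (P.e l) x = 0 := by
    intro l
    rcases le_or_gt k l.1 with hl | hl
    · obtain ⟨τ, hτ0, hτ⟩ := exists_trace_zero P.hσ P.hσ2
      have h1 := (P.low_pairing (h _ (P.tvE_mem_borelU (P.ee l l) τ hτ fun i => P.ee l i))).2.2 l hl
      rw [P.tvE_apply, add_sub_cancel_left, map_smul, P.fe, if_pos rfl, smul_eq_mul, mul_one] at h1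
      exact (mul_eq_zero.1 h1).resolve_left hτ0
    · have hlk : l < k' := hl
      have h1 := (P.low_pairing (h _ (P.sh_mem_borelU hlk 1))).1 k'
      rw [sh, el_apply] at h1
      simpa [LinearMap.map_smulₛₗ, P.ef, P.ee] using h1
  have hw : ∀ a, B (P.w a) x = 0 := by
    intro a
    obtain ⟨t, ht⟩ := exists_trace_eq P.hσ P.hσ2 (a := (-1 : F)) (by simp)
    have ht' : t + σ t + σ 1 * 1 = 0 := by rw [map_one]; linear_combination ht
    have h1 := (P.low_pairing (h _ (P.mem_borelU_of_fix (P.heis_e k' a 1 t ht')))).2.2 k' le_rfl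
    rw [heis, el_apply] at h1
    simpa [he, P.fe, P.fw] using h1
  refine P.mem_low_of he hw fun l hl => ?_
  have hlk : k' < l := hl
  have h1 := (P.low_pairing (h _ (P.sh_mem_borelU hlk 1))).2.2 k' le_rfl
  rw [sh, el_apply] at h1
  simpa [LinearMap.map_smulₛₗ, he, P.fe] using h1

theorem normalizer_low {g : tvGroup B} (hg : g ∈ Subgroup.normalizer (P.borelU : Set (tvGroup B))) :
    ∀ k, k ≤ m → ∀ x ∈ P.low k, g.1 x ∈ P.low k := by
  intro k
  induction k with
  | zero => intro _ x hx; rw [P.low_zero, Submodule.mem_bot] at hx; rw [hx, map_zero]; exact Submodule.zero_mem _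
  | succ k ih =>
    intro hk x hx
    refine P.mem_low_succ hk fun u hu => ?_
    have hu' := (Subgroup.mem_normalizer_iff''.1 hg u).1 hu
    have h1 := ih (by omega) _ (P.flag_step hu' hx)
    rw [map_sub, act_mul, act_mul, apply_inv] at h1
    exact h1

theorem exists_scalars {g : tvGroup B} (hg : g ∈ Subgroup.normalizer (P.borelU : Set (tvGroup B))) :
    ∃ a : Fin m → F, (∀ i, a i ≠ 0) ∧ ∀ i, g.1 (P.e i) - a i • P.e i ∈ P.low i.1 := by
  refine ⟨fun i => B (P.f i) (g.1 (P.e i)), fun i h0 => ?_, fun i => ?_⟩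
  · have h1 := P.normalizer_low hg (i.1 + 1) i.2 _ (P.e_mem_low (Nat.lt_succ_self _))
    obtain ⟨h2, h3, h4⟩ := P.low_pairing h1
    have h5 : g.1 (P.e i) ∈ P.low i.1 := P.mem_low_of h2 h3 fun l hl => by
      rcases eq_or_ne l i with rfl | hne
      · exact h0
      · exact h4 l (lt_of_le_of_ne hl (fun e => hne (Fin.ext e.symm)))
    have h6 := P.normalizer_low (inv_mem hg) i.1 i.2.le _ h5
    rw [inv_apply] at h6
    have h7 := (P.low_pairing h6).2.2 i le_rfl
    rw [P.fe, if_pos rfl] at h7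
    exact one_ne_zero h7
  · have h1 := P.normalizer_low hg (i.1 + 1) i.2 _ (P.e_mem_low (Nat.lt_succ_self _))
    obtain ⟨h2, h3, h4⟩ := P.low_pairing h1
    refine P.mem_low_of (fun l => by rw [map_sub, map_smul, h2, P.ee, smul_zero, sub_zero])
      (fun a => by rw [map_sub, map_smul, h3, P.we, smul_zero, sub_zero]) fun l hl => ?_
    rw [map_sub, map_smul, P.fe]
    rcases eq_or_ne l i with rfl | hne
    · simp
    · rw [h4 l (lt_of_le_of_ne hl (fun e => hne (Fin.ext e.symm))), if_neg hne, smul_zero, sub_zero]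

theorem mem_normalizer_of_diag {h : tvGroup B} (a : Fin m → F) (ha : ∀ i, a i ≠ 0)
    (he : ∀ i, h.1 (P.e i) = a i • P.e i) : h ∈ Subgroup.normalizer (P.borelU : Set (tvGroup B)) := by
  haveI := finite_tvGroup (B := B)
  have hlow : ∀ k, ∀ x ∈ P.low k, h.1 x ∈ P.low k := by
    intro k x hx
    induction hx using Submodule.span_induction with
    | mem x hx =>
      obtain ⟨j, hj, rfl⟩ := hx
      rw [he]; exact Submodule.smul_mem _ _ (P.e_mem_low hj)
    | zero => simp
    | add x y _ _ hx hy => rw [map_add]; exact Submodule.add_mem _ hx hy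
    | smul c x _ hx => rw [map_smul]; exact Submodule.smul_mem _ _ hx
  refine Subgroup.mem_normalizer_fintype fun u hu i => ?_
  have hi : (h⁻¹ : tvGroup B).1 (P.e i) = (a i)⁻¹ • P.e i := by
    have := congrArg (fun v => (a i)⁻¹ • (h⁻¹ : tvGroup B).1 v) (he i)
    simp only [inv_apply, map_smul, smul_smul, inv_mul_cancel₀ (ha i), one_smul] at this
    exact this.symm
  rw [act_mul, act_mul, hi, map_smul, map_smul]
  have h1 : u.1 (P.e i) = (u.1 (P.e i) - P.e i) + P.e i := by abel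
  rw [h1, map_add, he, smul_add, smul_smul, inv_mul_cancel₀ (ha i), one_smul, add_sub_cancel_right]
  exact Submodule.smul_mem _ _ (hlow _ _ (hu i))

theorem exists_sylow_borelU : ∃ S : Sylow p (tvGroup B), (S : Subgroup (tvGroup B)) = P.borelU := by
  classical
  haveI := finite_tvGroup (B := B)
  obtain ⟨R, hR⟩ := (P.isPGroup_borelU p).exists_le_sylow
  refine ⟨R, le_antisymm ?_ hR⟩
  by_contra hne
  have hlt : P.borelU.subgroupOf (R : Subgroup (tvGroup B)) < ⊤ := by
    rw [lt_top_iff_ne_top, Ne, Subgroup.subgroupOf_eq_top]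
    exact hne
  haveI : Group.IsNilpotent (R : Subgroup (tvGroup B)) := R.2.isNilpotent
  obtain ⟨x, hxN, hxU⟩ := SetLike.exists_of_lt (Group.normalizerCondition_of_isNilpotent _ hlt)
  have hxn : (x : tvGroup B) ∈ Subgroup.normalizer (P.borelU : Set (tvGroup B)) := by
    refine Subgroup.mem_normalizer_fintype fun u hu => ?_
    exact (Subgroup.mem_normalizer_iff.1 hxN ⟨u, hR hu⟩).1 hu
  obtain ⟨a, ha0, ha⟩ := P.exists_scalars hxn
  obtain ⟨k, hk⟩ := R.2 x
  have hk' : (x : tvGroup B) ^ p ^ k = 1 := congrArg Subtype.val hk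
  have hpow : ∀ (j : ℕ) i, ((x : tvGroup B) ^ j).1 (P.e i) - a i ^ j • P.e i ∈ P.low i.1 := by
    intro j
    induction j with
    | zero => intro i; simp
    | succ j ih =>
      intro i
      have h : ((x : tvGroup B) ^ (j + 1)).1 (P.e i) - a i ^ (j + 1) • P.e i =
          ((x : tvGroup B) ^ j).1 ((x : tvGroup B).1 (P.e i) - a i • P.e i) +
            a i • (((x : tvGroup B) ^ j).1 (P.e i) - a i ^ j • P.e i) := by
        rw [pow_succ (x : tvGroup B), act_mul, map_sub, map_smul, pow_succ]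
        module
      rw [h]
      exact Submodule.add_mem _ (P.normalizer_low (pow_mem hxn j) i.1 i.2.le _ (ha i))
        (Submodule.smul_mem _ _ (ih i))
  refine hxU fun i => ?_
  have h1 := (P.low_pairing (hpow (p ^ k) i)).2.2 i le_rfl
  rw [hk'] at h1
  simp [P.fe, sub_eq_zero] at h1
  have h2 : (a i - 1) ^ p ^ k = 0 := by rw [sub_pow_char_pow, ← h1, one_pow, sub_self]
  have h3 := ha i
  rw [sub_eq_zero.1 (eq_zero_of_pow_eq_zero h2), one_smul] at h3
  exact h3

omit h4 in
/-- The pointwise stabilizer of the totally isotropic subspace. -/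
def fixX : Subgroup (tvGroup B) where
  carrier := {g | ∀ i, g.1 (P.e i) = P.e i}
  one_mem' := fun i => rfl
  mul_mem' := fun {g h} hg hh i => by rw [act_mul, hh i, hg i]
  inv_mem' := fun {g} hg i => by conv_lhs => rw [← hg i, inv_apply]

theorem fixX_normalizer {y : tvGroup B} (hy : ∀ i, y.1 (P.e i) ∈ P.low m) :
    y ∈ Subgroup.normalizer (P.fixX : Set (tvGroup B)) := by
  haveI := finite_tvGroup (B := B)
  have hlow : ∀ x ∈ P.low m, y.1 x ∈ P.low m := by
    intro x hx
    induction hx using Submodule.span_induction with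
    | mem x hx => obtain ⟨j, -, rfl⟩ := hx; exact hy j
    | zero => simp
    | add x y _ _ hx hy => rw [map_add]; exact Submodule.add_mem _ hx hy
    | smul c x _ hx => rw [map_smul]; exact Submodule.smul_mem _ _ hx
  have hpow : ∀ (k : ℕ), ∀ x ∈ P.low m, (y ^ k : tvGroup B).1 x ∈ P.low m := by
    intro k
    induction k with
    | zero => intro x hx; simpa using hx
    | succ k ih => intro x hx; rw [pow_succ, act_mul]; exact ih _ (hlow x hx)
  refine Subgroup.mem_normalizer_fintype fun g hg i => ?_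
  have h1 : (y⁻¹ : tvGroup B).1 (P.e i) ∈ P.low m := by
    rw [show y⁻¹ = y ^ (orderOf y - 1) from inv_eq_of_mul_eq_one_right (by
      rw [← pow_succ', Nat.sub_add_cancel (orderOf_pos y), pow_orderOf_eq_one])]
    exact hpow _ _ (P.e_mem_low i.2)
  have h2 : ∀ x ∈ P.low m, g.1 x = x := by
    intro x hx
    induction hx using Submodule.span_induction with
    | mem x hx => obtain ⟨j, -, rfl⟩ := hx; exact hg j
    | zero => simp
    | add x y _ _ hx hy => rw [map_add, hx, hy]
    | smul c x _ hx => rw [map_smul, hx]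
  rw [act_mul, act_mul, h2 _ h1, apply_inv]

theorem line_of_commute {x : tvGroup B} {v v' : V} (hv : B v v = 0) (hvv' : B v v' = 1) {τ : F} (hτ0 : τ ≠ 0)
    (hτ : τ + σ τ = 0) (hcom : x * P.tvE v hv τ hτ = P.tvE v hv τ hτ * x) :
    ∃ k : F, σ k * k = 1 ∧ x.1 v = k • v := by
  have h0 : x * P.tvE v hv τ hτ * x⁻¹ = P.tvE v hv τ hτ := by rw [hcom]; group
  rw [tvE, el_conj] at h0
  have h1 := congrArg (fun g : tvGroup B => g.1 v') h0
  simp only [el_apply, map_zero, hvv', LinearMap.zero_apply, sub_zero, smul_zero, add_zero, mul_one] at h1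
  have h2 := add_left_cancel h1
  rw [mul_smul] at h2
  have h3 : B (x.1 v) v' • x.1 v = v := smul_right_injective V hτ0 h2
  set d : F := B (x.1 v) v' with hd
  have hd0 : d ≠ 0 := fun h => by
    rw [h, zero_smul] at h3
    rw [← h3] at hvv'
    simp at hvv'
  have hxv : x.1 v = d⁻¹ • v := by
    conv_rhs => rw [← h3, smul_smul, inv_mul_cancel₀ hd0, one_smul]
  refine ⟨d⁻¹, ?_, hxv⟩
  have h4 : d = σ d⁻¹ := by
    conv_lhs => rw [hd, hxv, LinearMap.map_smulₛₗ, LinearMap.smul_apply, hvv', smul_eq_mul, mul_one]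
  rw [← h4, mul_inv_cancel₀ hd0]

theorem centralizer_fixX (hm : 2 ≤ m) {x : tvGroup B} (hx : ∀ r ∈ P.fixX, x * r = r * x) :
    ∃ r ∈ P.fixX, (∀ a, r.1 (P.w a) = P.w a) ∧ ∃ c : F, (x * r⁻¹) ∈ Subgroup.center (tvGroup B) ∧
      ∀ v, x.1 v = c • r.1 v := by
  obtain ⟨p, hp⟩ := CharP.exists F
  haveI : Fact p.Prime := ⟨CharP.char_is_prime F p⟩
  obtain ⟨τ, hτ0, hτ⟩ := exists_trace_zero P.hσ P.hσ2
  have hline : ∀ i, ∃ k : F, σ k * k = 1 ∧ x.1 (P.e i) = k • P.e i := fun i =>
    P.line_of_commute (P.ee i i) (v' := P.f i) (by rw [P.ef, if_pos rfl]) hτ0 hτ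
      (hx _ fun l => by rw [P.tvE_apply, P.ee]; simp)
  choose k hkN hk using hline
  have hkk : ∀ i j, k i = k j := by
    intro i j
    rcases eq_or_ne i j with rfl | hij
    · rfl
    have hv : B (P.e i + P.e j) (P.e i + P.e j) = 0 := by simp [P.ee]
    obtain ⟨c, -, hc⟩ := P.line_of_commute hv (v' := P.f i) (by simp [P.ef, hij.symm]) hτ0 hτ
      (hx _ fun l => by rw [P.tvE_apply]; simp [P.ee])
    rw [map_add, hk, hk, smul_add] at hc
    have h1 := congrArg (B (P.f i)) hc
    have h2 := congrArg (B (P.f j)) hc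
    simp [P.fe, hij, hij.symm] at h1 h2
    rw [h1, h2]
  obtain ⟨i0, hi0⟩ : ∃ i : Fin m, i.1 = 0 := ⟨⟨0, by omega⟩, rfl⟩
  set c := k i0
  have hc0 : c ≠ 0 := fun h => by
    have := hkN i0
    rw [show k i0 = c from rfl, h] at this
    simp at this
  have hw : ∀ a, σ c • x.1 (P.w a) = P.w a := by
    intro a
    obtain ⟨t, ht⟩ := exists_trace_eq P.hσ P.hσ2 (a := (-1 : F)) (by simp)
    have ht' : t + σ t + σ 1 * 1 = 0 := by rw [map_one]; linear_combination ht
    have key : ∀ i, ∃ s : F, σ c • x.1 (P.w a) - P.w a = s • P.e i := by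
      intro i
      have h0 : x * P.heis i a 1 t ht' * x⁻¹ = P.heis i a 1 t ht' := by
        rw [hx _ (P.heis_e i a 1 t ht')]; group
      rw [heis, el_conj] at h0
      have h1 := congrArg (fun g : tvGroup B => g.1 (P.f i)) h0
      simp only [el_apply, one_smul, P.ef, if_true, hk, hkk i i0, show k i0 = c from rfl,
        LinearMap.map_smulₛₗ, LinearMap.smul_apply, smul_eq_mul, mul_one, P.wf, sub_zero,
        smul_smul] at h1
      refine ⟨t - (t * σ c - B (x.1 (P.w a)) (P.f i)) * c, ?_⟩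
      have h2 : σ c • x.1 (P.w a) + ((t * σ c - B (x.1 (P.w a)) (P.f i)) * c) • P.e i = P.w a + t • P.e i := by
        rw [add_assoc, add_assoc] at h1
        exact add_left_cancel h1
      rw [eq_sub_of_add_eq h2, sub_smul]
      abel
    obtain ⟨i1, hi1⟩ : ∃ i : Fin m, i.1 = 1 := ⟨⟨1, by omega⟩, rfl⟩
    have hne : i0 ≠ i1 := fun h => by rw [h] at hi0; omega
    obtain ⟨s0, hs0⟩ := key i0
    obtain ⟨s1, hs1⟩ := key i1
    have h := congrArg (B (P.f i0)) (hs0.symm.trans hs1)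
    simp [P.fe, hne] at h
    rw [h, zero_smul, sub_eq_zero] at hs0
    exact hs0
  have hNc : σ c * c = 1 := hkN i0
  let r' : V ≃ₗ[F] V := (x.1).trans (LinearEquiv.smulOfUnit (Units.mk0 (σ c) (by simpa using hc0)))
  have hr'app : ∀ v, r' v = σ c • x.1 v := fun v => rfl
  have hr'i : r' ∈ iso B := fun u v => by
    simp only [hr'app, LinearMap.map_smulₛₗ, LinearMap.smul_apply, map_smul, P.act_iso, P.hσ2, smul_eq_mul,
      RingHom.id_apply]
    linear_combination (B u v) * hNc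
  have hr'X : ∀ i, r' (P.e i) = P.e i := fun i => by
    rw [hr'app, hk, hkk i i0, smul_smul, show k i0 = c from rfl, hNc, one_smul]
  have hr'W : ∀ a, r' (P.w a) = P.w a := fun a => by rw [hr'app, hw]
  have hr : r' ∈ tvGroup B := (P.mem_tv _).2 ⟨hr'i, det_eq_one_of_pow p r'
    (P.pow_eq_one_of_fix p hr'i hr'X fun a => by rw [hr'W, sub_self]; exact Submodule.zero_mem _)⟩
  refine ⟨⟨r', hr⟩, hr'X, hr'W, c, ?_, fun v => ?_⟩
  · refine mem_center_of_scalar (c := c) fun v => ?_
    obtain ⟨u, rfl⟩ : ∃ u, r' u = v := ⟨r'.symm v, r'.apply_symm_apply v⟩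
    rw [act_mul, show ((⟨r', hr⟩ : tvGroup B)⁻¹).1 (r' u) = u from inv_apply ⟨r', hr⟩ u, hr'app, smul_smul,
      mul_comm, hNc, one_smul]
  · show x.1 v = c • r' v
    rw [hr'app, smul_smul, mul_comm, hNc, one_smul]

omit h4 in
/-- The radical of the stabilizer of the line of `e i₀`. -/
def pointRadical (i₀ : Fin m) : Subgroup (tvGroup B) where
  carrier := {g | g.1 (P.e i₀) = P.e i₀ ∧ ∀ x, B (P.e i₀) x = 0 → ∃ a : F, g.1 x = x + a • P.e i₀}
  one_mem' := ⟨rfl, fun x _ => ⟨0, by rw [zero_smul, add_zero]; rfl⟩⟩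
  mul_mem' := fun {g h} hg hh => ⟨by rw [act_mul, hh.1, hg.1], fun x hx => by
    obtain ⟨a, ha⟩ := hh.2 x hx
    obtain ⟨b, hb⟩ := hg.2 x hx
    exact ⟨b + a, by rw [act_mul, ha, map_add, map_smul, hg.1, hb, add_smul, add_assoc]⟩⟩
  inv_mem' := fun {g} hg => by
    have h1 : (g⁻¹ : tvGroup B).1 (P.e i₀) = P.e i₀ := by conv_lhs => rw [← hg.1, inv_apply]
    refine ⟨h1, fun x hx => ?_⟩
    obtain ⟨a, ha⟩ := hg.2 x hx
    refine ⟨-a, ?_⟩
    have h2 := congrArg (fun y => (g⁻¹ : tvGroup B).1 y) ha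
    simp only [inv_apply, map_add, map_smul, h1] at h2
    rw [neg_smul, ← sub_eq_add_neg]
    exact eq_sub_of_add_eq h2.symm

theorem pointRadical_le {i₀ : Fin m} (hi : ∀ a, i₀ ≤ a) : P.pointRadical i₀ ≤ P.borelU := by
  intro g hg i
  by_cases h : i = i₀
  · subst h; rw [hg.1, sub_self]; exact Submodule.zero_mem _
  · obtain ⟨a, ha⟩ := hg.2 _ (P.ee i₀ i)
    rw [ha, add_sub_cancel_left]
    exact Submodule.smul_mem _ _ (P.e_mem_low (lt_of_le_of_ne (hi i) (fun e => h (Fin.ext e).symm)))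

theorem pointRadical_normalizer {i₀ : Fin m} {y : tvGroup B} (hy : y.1 (P.e i₀) = P.e i₀) :
    y ∈ Subgroup.normalizer (P.pointRadical i₀ : Set (tvGroup B)) := by
  haveI := finite_tvGroup (B := B)
  have hyi : (y⁻¹ : tvGroup B).1 (P.e i₀) = P.e i₀ := by conv_lhs => rw [← hy, inv_apply]
  refine Subgroup.mem_normalizer_fintype fun g hg => ⟨by rw [act_mul, act_mul, hyi, hg.1, hy], fun x hx => ?_⟩
  obtain ⟨a, ha⟩ := hg.2 ((y⁻¹ : tvGroup B).1 x) (by
    have h := P.act_iso y⁻¹ (P.e i₀) x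
    rwa [hyi, hx] at h)
  exact ⟨a, by rw [act_mul, act_mul, ha, map_add, apply_inv, map_smul, hy]⟩

theorem borelU_fix {i₀ : Fin m} (hi : i₀.1 = 0) {g : tvGroup B} (hg : g ∈ P.borelU) :
    g.1 (P.e i₀) = P.e i₀ := by
  have h := hg i₀
  rw [hi, P.low_zero, Submodule.mem_bot, sub_eq_zero] at h
  exact h

theorem centralizer_pointRadical {i₀ : Fin m} {x : tvGroup B}
    (hx : ∀ r ∈ P.pointRadical i₀, x * r = r * x) :
    ∃ r ∈ P.pointRadical i₀, x * r⁻¹ ∈ Subgroup.center (tvGroup B) := by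
  obtain ⟨p, hp⟩ := CharP.exists F
  haveI : Fact p.Prime := ⟨CharP.char_is_prime F p⟩
  obtain ⟨τ, hτ0, hτ⟩ := exists_trace_zero P.hσ P.hσ2
  obtain ⟨c, hNc, hc⟩ := P.line_of_commute (P.ee i₀ i₀) (v' := P.f i₀) (by rw [P.ef, if_pos rfl]) hτ0 hτ
    (hx _ ⟨by rw [P.tvE_apply, P.ee]; simp, fun v hv => ⟨0, by rw [P.tvE_apply, hv]; simp⟩⟩)
  have hv : ∀ v, B (P.e i₀) v = 0 → ∃ s : F, σ c • x.1 v = v + s • P.e i₀ := by
    intro u hu'
    have hu : B u (P.e i₀) = 0 := P.hS.isRefl _ _ hu'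
    obtain ⟨t, ht⟩ := exists_trace_eq P.hσ P.hσ2 (a := -B u u) (by rw [map_neg, self_fixed P.hS])
    have ht' : t + σ t + B u u = 0 := by linear_combination ht
    have hr : P.el (P.e i₀) u t (P.ee i₀ i₀) hu ht' ∈ P.pointRadical i₀ :=
      ⟨by rw [el_apply, P.ee, hu]; simp, fun v hv => ⟨-B u v, by rw [el_apply, hv]; simp⟩⟩
    have h0 : x * P.el (P.e i₀) u t (P.ee i₀ i₀) hu ht' * x⁻¹ = P.el (P.e i₀) u t (P.ee i₀ i₀) hu ht' := by
      rw [hx _ hr]; group
    rw [el_conj] at h0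
    have h1 := congrArg (fun g : tvGroup B => g.1 (P.f i₀)) h0
    simp only [el_apply, P.ef, if_true, hc, LinearMap.map_smulₛₗ, LinearMap.smul_apply, smul_eq_mul, mul_one,
      smul_smul, one_smul] at h1
    refine ⟨(t - B u (P.f i₀)) - (t * σ c - B (x.1 u) (P.f i₀)) * c, ?_⟩
    rw [add_assoc, add_assoc] at h1
    have h2 := add_left_cancel h1
    rw [eq_sub_of_add_eq h2]
    module
  have hc0 : σ c ≠ 0 := fun h => by rw [h, zero_mul] at hNc; exact zero_ne_one hNc
  let r' : V ≃ₗ[F] V := (x.1).trans (LinearEquiv.smulOfUnit (Units.mk0 (σ c) hc0))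
  have hr'app : ∀ v, r' v = σ c • x.1 v := fun v => rfl
  have hr'i : r' ∈ iso B := fun u v => by
    simp only [hr'app, LinearMap.map_smulₛₗ, LinearMap.smul_apply, map_smul, P.act_iso, P.hσ2, smul_eq_mul,
      RingHom.id_apply]
    linear_combination (B u v) * hNc
  have hr'e : r' (P.e i₀) = P.e i₀ := by rw [hr'app, hc, smul_smul, hNc, one_smul]
  have hnil : ((r' : V →ₗ[F] V) - 1) ^ 3 = 0 := by
    refine LinearMap.ext fun v => ?_
    have h1 : B (P.e i₀) (r' v - v) = 0 := by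
      rw [map_sub, sub_eq_zero]
      conv_lhs => rw [← hr'e]
      exact hr'i _ _
    obtain ⟨s, hs⟩ := hv _ h1
    have h2 : r' (r' v - v) - (r' v - v) = s • P.e i₀ := by rw [hr'app (r' v - v), hs]; abel
    simp only [pow_succ, pow_zero, one_mul, Module.End.mul_apply, LinearMap.sub_apply, Module.End.one_apply,
      LinearEquiv.coe_coe, LinearMap.zero_apply]
    rw [h2, map_smul, hr'e, sub_self]
  have hr : r' ∈ tvGroup B := (P.mem_tv _).2 ⟨hr'i, det_eq_one_of_pow p r'
    (exists_pow_eq_one_of_nilpotent p r' 3 hnil)⟩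
  refine ⟨⟨r', hr⟩, ⟨hr'e, fun v hv' => hv v hv'⟩, mem_center_of_scalar (c := c) fun v => ?_⟩
  obtain ⟨u, rfl⟩ : ∃ u, r' u = v := ⟨r'.symm v, r'.apply_symm_apply v⟩
  rw [act_mul, show ((⟨r', hr⟩ : tvGroup B)⁻¹).1 (r' u) = u from inv_apply ⟨r', hr⟩ u, hr'app, smul_smul,
    mul_comm, hNc, one_smul]

end Frame

end Cfsg.Lib.FusionSys.PSUChar
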