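import Cfsg.Agent.Lib.FusionSys.LieSimplePSUFrame

/-!
Root elements of special unitary groups in Eichler form.
-/

set_option autoImplicit false
set_option linter.unusedSectionVars false

namespace Cfsg.Lib.FusionSys.PSUChar

open Cfsg.Lib.Linear Cfsg.Lib.Linear.Herm Module

variable {F V : Type*} [Field F] [Fintype F] [AddCommGroup V] [Module F V] [FiniteDimensional F V]
  {σ : F →+* F} {B : V →ₛₗ[σ] V →ₗ[F] F}

theorem Frame.mem_tv {m : ℕ} {ι : Type*} [Fintype ι] [DecidableEq ι] (P : Frame B m ι)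
    [h4 : Fact (4 ≤ finrank F V)] (g : V ≃ₗ[F] V) :
    g ∈ tvGroup B ↔ g ∈ iso B ∧ LinearEquiv.det g = 1 :=
  mem_tvGroup_iff P.hσ P.hσ2 P.hS P.hB (Or.inl h4.out) g

namespace Frame

variable {m : ℕ} {ι : Type*} [Fintype ι] [DecidableEq ι] (P : Frame B m ι)

theorem eichler_nilpotent (e u : V) (t : F) (he : B e e = 0) (hu : B u e = 0) (ht : t + σ t + B u u = 0) :
    ((eichler P.hS P.hσ2 e u t he hu ht : V →ₗ[F] V) - 1) ^ 3 = 0 := by
  have heu : B e u = 0 := P.hS.isRefl _ _ hu
  refine LinearMap.ext fun x => ?_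
  simp only [pow_succ, pow_zero, one_mul, Module.End.mul_apply, LinearMap.sub_apply, Module.End.one_apply,
    LinearEquiv.coe_coe, eichler_apply, LinearMap.zero_apply, map_add, map_sub, map_smul, he, hu, heu,
    smul_eq_mul, mul_zero, add_zero, sub_self, zero_add, zero_mul, zero_sub, zero_smul, map_zero]
  module

variable [h4 : Fact (4 ≤ finrank F V)]

theorem eichler_mem (e u : V) (t : F) (he : B e e = 0) (hu : B u e = 0) (ht : t + σ t + B u u = 0) :
    eichler P.hS P.hσ2 e u t he hu ht ∈ tvGroup B := by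
  obtain ⟨p, hp⟩ := CharP.exists F
  haveI : Fact p.Prime := ⟨CharP.char_is_prime F p⟩
  exact (P.mem_tv _).2 ⟨eichler_mem_iso P.hS P.hσ2 e u t he hu ht,
    det_eq_one_of_pow p _ (exists_pow_eq_one_of_nilpotent p _ 3 (P.eichler_nilpotent e u t he hu ht))⟩

/-- The Eichler map as an element of the special unitary group. -/
def el (e u : V) (t : F) (he : B e e = 0) (hu : B u e = 0) (ht : t + σ t + B u u = 0) : tvGroup B :=
  ⟨eichler P.hS P.hσ2 e u t he hu ht, P.eichler_mem e u t he hu ht⟩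

theorem el_apply (e u : V) (t : F) (he : B e e = 0) (hu : B u e = 0) (ht : t + σ t + B u u = 0) (x : V) :
    (P.el e u t he hu ht).1 x = x + B e x • u + (t * B e x - B u x) • e := rfl

include P in
omit h4 in
theorem act_iso (g : tvGroup B) (x y : V) : B (g.1 x) (g.1 y) = B x y := tvGroup_le_iso P.hS g.2 x y

omit h4 in
theorem act_mul (g h : tvGroup B) (x : V) : (g * h).1 x = g.1 (h.1 x) := rfl

theorem el_congr {e e' u u' : V} {t t' : F} {he : B e e = 0} {hu : B u e = 0} {ht : t + σ t + B u u = 0}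
    {he' : B e' e' = 0} {hu' : B u' e' = 0} {ht' : t' + σ t' + B u' u' = 0} (h1 : e = e') (h2 : u = u')
    (h3 : t = t') : P.el e u t he hu ht = P.el e' u' t' he' hu' ht' := by
  subst h1; subst h2; subst h3; rfl

theorem el_pow (p : ℕ) [Fact p.Prime] [CharP F p] (e u : V) (t : F) (he : B e e = 0) (hu : B u e = 0)
    (ht : t + σ t + B u u = 0) : P.el e u t he hu ht ^ p ^ 3 = 1 :=
  Subtype.ext (exists_pow_eq_one_of_nilpotent p _ 3 (P.eichler_nilpotent e u t he hu ht))

theorem el_mul {e u u' : V} {t t' : F} (he : B e e = 0) (hu : B u e = 0) (ht : t + σ t + B u u = 0)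
    (hu' : B u' e = 0) (ht' : t' + σ t' + B u' u' = 0) :
    ∃ (hu'' : B (u + u') e = 0) (ht'' : (t + t' - B u u') + σ (t + t' - B u u') + B (u + u') (u + u') = 0),
      P.el e u t he hu ht * P.el e u' t' he hu' ht' = P.el e (u + u') (t + t' - B u u') he hu'' ht'' := by
  have heu : B e u = 0 := P.hS.isRefl _ _ hu
  have heu' : B e u' = 0 := P.hS.isRefl _ _ hu'
  refine ⟨by rw [map_add, LinearMap.add_apply, hu, hu', add_zero], ?_, Subtype.ext (LinearEquiv.ext fun x => ?_)⟩
  · simp only [map_add, map_sub, LinearMap.add_apply, P.hS.eq u u']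
    linear_combination ht + ht'
  · rw [act_mul, el_apply, el_apply, el_apply]
    simp only [map_add, map_smul, LinearMap.add_apply, he, hu, heu', smul_eq_mul, mul_zero, add_zero]
    module

theorem el_conj (g : tvGroup B) {e u : V} {t : F} (he : B e e = 0) (hu : B u e = 0)
    (ht : t + σ t + B u u = 0) :
    g * P.el e u t he hu ht * g⁻¹ = P.el (g.1 e) (g.1 u) t (by rw [P.act_iso]; exact he)
      (by rw [P.act_iso]; exact hu) (by rw [P.act_iso]; exact ht) := by
  rw [mul_inv_eq_iff_eq_mul]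
  refine Subtype.ext (LinearEquiv.ext fun x => ?_)
  rw [act_mul, act_mul, el_apply, el_apply]
  simp only [map_add, map_smul, P.act_iso]

theorem el_smul (c : F) {e u : V} {t : F} {he : B (c • e) (c • e) = 0} {hu : B u (c • e) = 0}
    {ht : t + σ t + B u u = 0} {he' : B e e = 0} {hu' : B (σ c • u) e = 0}
    {ht' : σ c * c * t + σ (σ c * c * t) + B (σ c • u) (σ c • u) = 0} :
    P.el (c • e) u t he hu ht = P.el e (σ c • u) (σ c * c * t) he' hu' ht' := by
  refine Subtype.ext (LinearEquiv.ext fun x => ?_)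
  rw [el_apply, el_apply]
  simp only [LinearMap.map_smulₛₗ, LinearMap.smul_apply, smul_eq_mul, P.hσ2]
  module

/-- Transvections. -/
def tvE (v : V) (hv : B v v = 0) (t : F) (ht : t + σ t = 0) : tvGroup B :=
  P.el v 0 t hv (by simp) (by simp [ht])

theorem tvE_apply (v : V) (hv : B v v = 0) (t : F) (ht : t + σ t = 0) (x : V) :
    (P.tvE v hv t ht).1 x = x + (t * B v x) • v := by
  rw [tvE, el_apply]; simp

/-- The root element mapping `e j` to `e j + c • e i`. -/
def sh (i j : Fin m) (hij : i ≠ j) (c : F) : tvGroup B :=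
  P.el (P.e i) ((-σ c) • P.f j) 0 (P.ee i i) (by simp [LinearMap.map_smulₛₗ, P.fe, Ne.symm hij])
    (by simp [LinearMap.map_smulₛₗ, P.ff])

theorem sh_e (i j : Fin m) (hij : i ≠ j) (c : F) (k : Fin m) :
    (P.sh i j hij c).1 (P.e k) = P.e k + (if k = j then c else 0) • P.e i := by
  rw [sh, el_apply, P.ee]
  by_cases h : k = j
  · subst h; simp [LinearMap.map_smulₛₗ, P.fe, P.hσ2]
  · simp [LinearMap.map_smulₛₗ, P.fe, h, Ne.symm h]

theorem sh_w (i j : Fin m) (hij : i ≠ j) (c : F) (a : ι) : (P.sh i j hij c).1 (P.w a) = P.w a := by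
  rw [sh, el_apply, P.ew]
  simp [LinearMap.map_smulₛₗ, P.fw]

/-- The root element mapping `f i` to `f i + c • e j`. -/
def cr (i j : Fin m) (c : F) : tvGroup B :=
  P.el (P.e i) (c • P.e j) 0 (P.ee i i) (by simp [LinearMap.map_smulₛₗ, P.ee])
    (by simp [LinearMap.map_smulₛₗ, P.ee])

theorem cr_apply (i j : Fin m) (c : F) (x : V) :
    (P.cr i j c).1 x = x + (c * B (P.e i) x) • P.e j - (σ c * B (P.e j) x) • P.e i := by
  rw [cr, el_apply]
  simp only [LinearMap.map_smulₛₗ, LinearMap.smul_apply, smul_eq_mul]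
  module

/-- The root element mapping `w a` to `w a - σ c • e i`. -/
def heis (i : Fin m) (a : ι) (c t : F) (ht : t + σ t + σ c * c = 0) : tvGroup B :=
  P.el (P.e i) (c • P.w a) t (P.ee i i) (by simp [LinearMap.map_smulₛₗ, P.we])
    (by simp [LinearMap.map_smulₛₗ, P.ww, mul_comm c]; linear_combination ht)

theorem torus_word {i j : Fin m} (hij : i ≠ j) {c : F} (hc : c ≠ 0) :
    ∃ h : tvGroup B, h ∈ Subgroup.closure {x | ∃ a b, ∃ (hab : a ≠ b) (d : F), x = P.sh a b hab d} ∧
      h.1 (P.e i) = c • P.e i ∧ h.1 (P.e j) = c⁻¹ • P.e j ∧ ∀ k, k ≠ i → k ≠ j → h.1 (P.e k) = P.e k := by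
  refine ⟨P.sh i j hij c * P.sh j i hij.symm (-c⁻¹) * P.sh i j hij c *
    (P.sh i j hij (-1) * P.sh j i hij.symm 1 * P.sh i j hij (-1)), ?_, ?_, ?_, ?_⟩
  · have hm : ∀ a b (hab : a ≠ b) (d : F), P.sh a b hab d ∈
        Subgroup.closure {x | ∃ a b, ∃ (hab : a ≠ b) (d : F), x = P.sh a b hab d} :=
      fun a b hab d => Subgroup.subset_closure ⟨a, b, hab, d, rfl⟩
    exact mul_mem (mul_mem (mul_mem (hm _ _ _ _) (hm _ _ _ _)) (hm _ _ _ _))
      (mul_mem (mul_mem (hm _ _ _ _) (hm _ _ _ _)) (hm _ _ _ _))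
  · simp only [act_mul, P.sh_e, map_add, map_smul, hij, hij.symm, if_true, if_false, zero_smul, add_zero,
      smul_add, smul_smul, one_smul, one_mul]
    match_scalars <;> field_simp <;> ring
  · simp only [act_mul, P.sh_e, map_add, map_smul, hij, hij.symm, if_true, if_false, zero_smul, add_zero,
      smul_add, smul_smul, one_smul, one_mul]
    match_scalars <;> field_simp <;> ring
  · intro k hki hkj
    simp [act_mul, P.sh_e, hki, hkj]

/-- A Weyl element of the pair `(e j, f j)`. -/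
theorem exists_swap (j : Fin m) : ∃ (n : tvGroup B) (s t : F), s ≠ 0 ∧ t ≠ 0 ∧ n.1 (P.e j) = s • P.f j ∧
    n.1 (P.f j) = t • P.e j ∧ (∀ k, k ≠ j → n.1 (P.e k) = P.e k) := by
  obtain ⟨t, ht0, ht⟩ := exists_trace_zero P.hσ P.hσ2
  have hs : -t⁻¹ + σ (-t⁻¹) = 0 := by
    rw [map_neg, map_inv₀, show σ t = -t by linear_combination ht]
    simp [inv_neg]
  refine ⟨P.tvE (P.e j) (P.ee j j) t ht * P.tvE (P.f j) (P.ff j j) (-t⁻¹) hs * P.tvE (P.e j) (P.ee j j) t ht,
    -t⁻¹, t, neg_ne_zero.2 (inv_ne_zero ht0), ht0, ?_, ?_, fun k hk => ?_⟩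
  · simp only [act_mul, P.tvE_apply, P.ee, mul_zero, zero_smul, add_zero, map_add, map_smul, P.ef, P.fe,
      if_true, smul_eq_mul, zero_add, mul_one]
    match_scalars <;> field_simp <;> ring
  · simp only [act_mul, P.tvE_apply, P.ee, P.ff, mul_zero, zero_smul, add_zero, map_add, map_smul, P.ef, P.fe,
      if_true, smul_eq_mul, zero_add, mul_one]
    match_scalars <;> field_simp <;> ring
  · simp [act_mul, P.tvE_apply, P.ee, P.fe, hk, Ne.symm hk]

end Frame

end Cfsg.Lib.FusionSys.PSUChar
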