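import Cfsg.Agent.Lib.Linear.UnitaryGen
import Cfsg.Agent.Lib.Linear.HermStandard

/-!
Eichler maps of a hermitian space and unipotent isometries with respect to a hyperbolic frame.
-/

set_option autoImplicit false
set_option linter.unusedSectionVars false

namespace Cfsg.Lib.FusionSys.PSUChar

open Cfsg.Lib.Linear Cfsg.Lib.Linear.Herm

variable {F V : Type*} [Field F] [AddCommGroup V] [Module F V] {σ : F →+* F}
  {B : V →ₛₗ[σ] V →ₗ[F] F}

/-- A hyperbolic frame. -/
structure Frame (B : V →ₛₗ[σ] V →ₗ[F] F) (m : ℕ) (ι : Type*) [Fintype ι] [DecidableEq ι] where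
  e : Fin m → V
  f : Fin m → V
  w : ι → V
  hσ : σ ≠ RingHom.id F
  hσ2 : ∀ a, σ (σ a) = a
  hS : B.IsSymm
  hB : B.Nondegenerate
  ee : ∀ i j, B (e i) (e j) = 0
  ff : ∀ i j, B (f i) (f j) = 0
  ef : ∀ i j, B (e i) (f j) = if i = j then 1 else 0
  ew : ∀ i a, B (e i) (w a) = 0
  fw : ∀ i a, B (f i) (w a) = 0
  ww : ∀ a, B (w a) (w a) = 1
  expand : ∀ x, x = ∑ i, B (f i) x • e i + ∑ i, B (e i) x • f i + ∑ a, B (w a) x • w a

namespace Frame

variable {m : ℕ} {ι : Type*} [Fintype ι] [DecidableEq ι] (P : Frame B m ι)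

theorem fe (i j : Fin m) : B (P.f i) (P.e j) = if i = j then 1 else 0 := by
  rw [← P.hS.eq, P.ef]
  by_cases h : i = j <;> simp [h, Ne.symm]

theorem we (a : ι) (i : Fin m) : B (P.w a) (P.e i) = 0 := P.hS.isRefl _ _ (P.ew i a)

theorem wf (a : ι) (i : Fin m) : B (P.w a) (P.f i) = 0 := P.hS.isRefl _ _ (P.fw i a)

theorem e_ne_zero (i : Fin m) : P.e i ≠ 0 := fun h => by
  have := P.ef i i
  rw [h] at this
  simp at this

theorem ext_pairing {x y : V} (he : ∀ i, B (P.e i) x = B (P.e i) y) (hf : ∀ i, B (P.f i) x = B (P.f i) y)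
    (hw : ∀ a, B (P.w a) x = B (P.w a) y) : x = y := by
  rw [P.expand x, P.expand y]
  simp [he, hf, hw]

end Frame

theorem eichler_aux (hS : B.IsSymm) {e u : V} (he : B e e = 0) (hu : B u e = 0) (t t' : F) (x : V) :
    (x + B e x • (-u) + (t' * B e x - B (-u) x) • e) + B e (x + B e x • (-u) + (t' * B e x - B (-u) x) • e) • u +
      (t * B e (x + B e x • (-u) + (t' * B e x - B (-u) x) • e) -
        B u (x + B e x • (-u) + (t' * B e x - B (-u) x) • e)) • e =
      x + ((t + t' + B u u) * B e x) • e := by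
  have heu : B e u = 0 := hS.isRefl _ _ hu
  simp only [map_add, map_smul, map_neg, LinearMap.neg_apply, he, hu, heu, smul_eq_mul, mul_zero, add_zero,
    neg_zero]
  module

/-- The Eichler map `x ↦ x + B(e,x) u + (t B(e,x) - B(u,x)) e`. -/
def eichler (hS : B.IsSymm) (hσ2 : ∀ a, σ (σ a) = a) (e u : V) (t : F) (he : B e e = 0) (hu : B u e = 0)
    (ht : t + σ t + B u u = 0) : V ≃ₗ[F] V where
  toFun x := x + B e x • u + (t * B e x - B u x) • e
  map_add' x y := by simp only [map_add]; module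
  map_smul' a x := by simp only [map_smul, smul_eq_mul, RingHom.id_apply]; module
  invFun x := x + B e x • (-u) + (σ t * B e x - B (-u) x) • e
  left_inv x := by
    have ht' : σ t + σ (σ t) + B (-u) (-u) = 0 := by
      rw [hσ2]; simp only [map_neg, LinearMap.neg_apply, neg_neg]; linear_combination ht
    have h := eichler_aux hS he (u := -u) (by rw [map_neg, LinearMap.neg_apply, hu, neg_zero]) (σ t) t x
    rw [neg_neg] at h
    simp only [map_neg, LinearMap.neg_apply, neg_neg] at h ht' ⊢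
    rw [h, show σ t + t + B u u = 0 by linear_combination ht, zero_mul, zero_smul, add_zero]
  right_inv x := by
    have h := eichler_aux hS he hu t (σ t) x
    simp only [map_neg, LinearMap.neg_apply] at h ⊢
    rw [h, ht, zero_mul, zero_smul, add_zero]

theorem eichler_apply (hS : B.IsSymm) (hσ2 : ∀ a, σ (σ a) = a) (e u : V) (t : F) (he : B e e = 0)
    (hu : B u e = 0) (ht : t + σ t + B u u = 0) (x : V) :
    eichler hS hσ2 e u t he hu ht x = x + B e x • u + (t * B e x - B u x) • e := rfl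

theorem eichler_mem_iso (hS : B.IsSymm) (hσ2 : ∀ a, σ (σ a) = a) (e u : V) (t : F) (he : B e e = 0)
    (hu : B u e = 0) (ht : t + σ t + B u u = 0) : eichler hS hσ2 e u t he hu ht ∈ iso B := fun x y => by
  have heu : B e u = 0 := hS.isRefl _ _ hu
  simp only [eichler_apply, map_add, map_sub, map_smul, LinearMap.map_smulₛₗ, LinearMap.add_apply,
    LinearMap.smul_apply, map_mul, smul_eq_mul, he, hu, heu, mul_zero, add_zero, RingHom.id_apply]
  rw [← hS.eq e x, ← hS.eq u x]
  linear_combination (σ (B e x) * B e y) * ht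

section Finite

variable [Fintype F] [FiniteDimensional F V] (p : ℕ) [Fact p.Prime] [CharP F p]

theorem exists_pow_eq_one_of_nilpotent (g : V ≃ₗ[F] V) (k : ℕ)
    (h : ((g : V →ₗ[F] V) - 1) ^ k = 0) : g ^ p ^ k = 1 := by
  rcases subsingleton_or_nontrivial V with hV | hV
  · exact LinearEquiv.ext fun x => Subsingleton.elim _ _
  haveI : CharP (Module.End F V) p := charP_of_injective_algebraMap (algebraMap F (Module.End F V)).injective p
  have h1 := sub_pow_char_pow_of_commute p k (Commute.one_right (g : V →ₗ[F] V))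
  rw [pow_eq_zero_of_le (Nat.lt_pow_self (Fact.out : p.Prime).one_lt).le h, one_pow] at h1
  have h2 : ((g ^ p ^ k : V ≃ₗ[F] V) : V →ₗ[F] V) = (g : V →ₗ[F] V) ^ p ^ k :=
    map_pow (LinearEquiv.automorphismGroup.toLinearMapMonoidHom (R := F) (M := V)) g (p ^ k)
  refine LinearEquiv.toLinearMap_injective ?_
  rw [h2, ← sub_eq_zero]
  exact h1.symm

theorem det_eq_one_of_pow (g : V ≃ₗ[F] V) {k : ℕ} (h : g ^ p ^ k = 1) : LinearEquiv.det g = 1 := by
  have h1 : (LinearEquiv.det g : F) ^ p ^ k = 1 := by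
    rw [← Units.val_pow_eq_pow_val, ← map_pow, h, map_one, Units.val_one]
  have h2 : ((LinearEquiv.det g : F) - 1) ^ p ^ k = 0 := by rw [sub_pow_char_pow, h1, one_pow, sub_self]
  exact Units.ext (sub_eq_zero.1 (eq_zero_of_pow_eq_zero h2))

end Finite

namespace Frame

variable {m : ℕ} {ι : Type*} [Fintype ι] [DecidableEq ι] (P : Frame B m ι)

/-- The span of the first vectors. -/
def low (k : ℕ) : Submodule F V := Submodule.span F (P.e '' {j | j.1 < k})

theorem e_mem_low {j : Fin m} {k : ℕ} (h : j.1 < k) : P.e j ∈ P.low k :=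
  Submodule.subset_span ⟨j, h, rfl⟩

theorem low_mono {k l : ℕ} (h : k ≤ l) : P.low k ≤ P.low l :=
  Submodule.span_mono (Set.image_mono fun _ hj => lt_of_lt_of_le hj h)

theorem low_zero : P.low 0 = ⊥ := by simp [low]

theorem low_pairing {k : ℕ} {x : V} (hx : x ∈ P.low k) :
    (∀ i, B (P.e i) x = 0) ∧ (∀ a, B (P.w a) x = 0) ∧ ∀ i : Fin m, k ≤ i.1 → B (P.f i) x = 0 := by
  induction hx using Submodule.span_induction with
  | mem x hx =>
    obtain ⟨j, hj, rfl⟩ := hx
    refine ⟨fun i => P.ee i j, fun a => P.we a j, fun i hi => ?_⟩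
    rw [P.fe, if_neg]
    rintro rfl
    exact absurd hj (not_lt.2 hi)
  | zero => simp
  | add x y _ _ hx hy =>
    refine ⟨fun i => by rw [map_add, hx.1, hy.1, add_zero], fun a => by rw [map_add, hx.2.1, hy.2.1, add_zero],
      fun i hi => by rw [map_add, hx.2.2 i hi, hy.2.2 i hi, add_zero]⟩
  | smul c x _ hx =>
    refine ⟨fun i => by rw [map_smul, hx.1, smul_zero], fun a => by rw [map_smul, hx.2.1, smul_zero],
      fun i hi => by rw [map_smul, hx.2.2 i hi, smul_zero]⟩

theorem mem_low_of {k : ℕ} {x : V} (he : ∀ i, B (P.e i) x = 0) (hw : ∀ a, B (P.w a) x = 0)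
    (hf : ∀ i : Fin m, k ≤ i.1 → B (P.f i) x = 0) : x ∈ P.low k := by
  rw [P.expand x]
  simp only [he, hw, zero_smul, Finset.sum_const_zero, add_zero]
  refine Submodule.sum_mem _ fun i _ => ?_
  by_cases hi : i.1 < k
  · exact Submodule.smul_mem _ _ (P.e_mem_low hi)
  · rw [hf i (not_lt.1 hi), zero_smul]; exact Submodule.zero_mem _

/-- Isometries respecting the flag and trivial on its quotients. -/
def Flag (g : V ≃ₗ[F] V) : Prop := ∀ i : Fin m, g (P.e i) - P.e i ∈ P.low i.1

theorem flag_low {g : V ≃ₗ[F] V} (hg : P.Flag g) : ∀ {k : ℕ} {x : V}, x ∈ P.low k → g x ∈ P.low k := by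
  intro k x hx
  induction hx using Submodule.span_induction with
  | mem x hx =>
    obtain ⟨j, hj, rfl⟩ := hx
    have h1 : g (P.e j) = P.e j + (g (P.e j) - P.e j) := by abel
    rw [h1]
    exact Submodule.add_mem _ (P.e_mem_low hj) (P.low_mono (le_of_lt hj) (hg j))
  | zero => simp
  | add x y _ _ hx hy => rw [map_add]; exact Submodule.add_mem _ hx hy
  | smul c x _ hx => rw [map_smul]; exact Submodule.smul_mem _ _ hx

theorem flag_step {g : V ≃ₗ[F] V} (hg : P.Flag g) {k : ℕ} {x : V} (hx : x ∈ P.low (k + 1)) :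
    g x - x ∈ P.low k := by
  induction hx using Submodule.span_induction with
  | mem x hx =>
    obtain ⟨j, hj, rfl⟩ := hx
    have hj' : j.1 < k + 1 := hj
    exact P.low_mono (by omega) (hg j)
  | zero => simp
  | add x y _ _ hx hy => rw [map_add, add_sub_add_comm]; exact Submodule.add_mem _ hx hy
  | smul c x _ hx => rw [map_smul, ← smul_sub]; exact Submodule.smul_mem _ _ hx

section Finite

variable [Fintype F] [FiniteDimensional F V] (p : ℕ) [Fact p.Prime] [CharP F p]

/-- An isometry fixing the `eᵢ` and the `w` modulo the totally isotropic subspace is unipotent. -/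
theorem pow_eq_one_of_fix {g : V ≃ₗ[F] V} (hg : g ∈ iso B) (hX : ∀ i, g (P.e i) = P.e i)
    (hW : ∀ a, g (P.w a) - P.w a ∈ P.low m) : g ^ p ^ 3 = 1 := by
  have hlow : ∀ x ∈ P.low m, g x = x := by
    intro x hx
    induction hx using Submodule.span_induction with
    | mem x hx => obtain ⟨j, -, rfl⟩ := hx; exact hX j
    | zero => exact map_zero g
    | add x y _ _ hx hy => rw [map_add, hx, hy]
    | smul c x _ hx => rw [map_smul, hx]
  refine exists_pow_eq_one_of_nilpotent p g 3 (LinearMap.ext fun x => ?_)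
  have h1 : ∀ y, (∀ i, B (P.e i) y = 0) → g (g y - y) = g y - y := by
    intro y hy
    refine hlow _ ?_
    rw [P.expand y]
    simp only [hy, zero_smul, Finset.sum_const_zero, add_zero, map_add, map_sum, map_smul, hX]
    rw [add_sub_add_left_eq_sub, ← Finset.sum_sub_distrib]
    exact Submodule.sum_mem _ fun a _ => by rw [← smul_sub]; exact Submodule.smul_mem _ _ (hW a)
  have h2 : ∀ i, B (P.e i) (g x - x) = 0 := fun i => by
    rw [map_sub, sub_eq_zero]
    conv_lhs => rw [← hX i]
    exact hg _ _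
  have h3 := h1 _ h2
  simp only [pow_succ, pow_zero, one_mul, Module.End.mul_apply, LinearMap.sub_apply, Module.End.one_apply,
    LinearEquiv.coe_coe, LinearMap.zero_apply]
  rw [h3, sub_self]

/-- A flag isometry trivial on the anisotropic part is unipotent. -/
theorem pow_eq_one_of_flag {g : V ≃ₗ[F] V} (hg : g ∈ iso B) (hf : P.Flag g)
    (hW : ∀ a, g (P.w a) - P.w a ∈ P.low m) : g ^ p ^ (m + 3) = 1 := by
  have hpow : ∀ k : ℕ, P.Flag (g ^ k) ∧ ∀ a, (g ^ k) (P.w a) - P.w a ∈ P.low m := by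
    intro k
    induction k with
    | zero => exact ⟨fun i => by simp, fun a => by simp⟩
    | succ k ih =>
      refine ⟨fun i => ?_, fun a => ?_⟩
      · have h : (g ^ (k + 1)) (P.e i) - P.e i =
            (g ^ k) (g (P.e i) - P.e i) + ((g ^ k) (P.e i) - P.e i) := by
          rw [pow_succ, LinearEquiv.mul_apply, map_sub]; abel
        rw [h]
        exact Submodule.add_mem _ (P.flag_low ih.1 (hf i)) (ih.1 i)
      · have h : (g ^ (k + 1)) (P.w a) - P.w a =
            (g ^ k) (g (P.w a) - P.w a) + ((g ^ k) (P.w a) - P.w a) := by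
          rw [pow_succ, LinearEquiv.mul_apply, map_sub]; abel
        rw [h]
        exact Submodule.add_mem _ (P.flag_low ih.1 (hW a)) (ih.2 a)
  have hnil : ∀ j : ℕ, ∀ k x, x ∈ P.low k → k ≤ j → (((g : V →ₗ[F] V) - 1) ^ j) x = 0 := by
    intro j
    induction j with
    | zero => intro k x hx hk; obtain rfl : k = 0 := (by omega); rw [P.low_zero, Submodule.mem_bot] at hx; rw [hx, map_zero]
    | succ j ih =>
      intro k x hx hk
      rw [pow_succ, Module.End.mul_apply]
      exact ih j _ (P.flag_step hf (P.low_mono hk hx)) le_rfl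
  rcases subsingleton_or_nontrivial V with hV | hV
  · exact LinearEquiv.ext fun x => Subsingleton.elim _ _
  haveI : CharP (Module.End F V) p := charP_of_injective_algebraMap (algebraMap F (Module.End F V)).injective p
  have hX : ∀ i, (g ^ p ^ m) (P.e i) = P.e i := fun i => by
    have h1 := sub_pow_char_pow_of_commute p m (Commute.one_right (g : V →ₗ[F] V))
    rw [one_pow] at h1
    have h2 : ((g ^ p ^ m : V ≃ₗ[F] V) : V →ₗ[F] V) = (g : V →ₗ[F] V) ^ p ^ m :=
      map_pow (LinearEquiv.automorphismGroup.toLinearMapMonoidHom (R := F) (M := V)) g (p ^ m)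
    have h3 : (((g : V →ₗ[F] V) - 1) ^ p ^ m) (P.e i) = 0 :=
      hnil _ m _ (P.e_mem_low i.2) (Nat.lt_pow_self (Fact.out : p.Prime).one_lt).le
    rw [h1, ← h2, LinearMap.sub_apply, sub_eq_zero] at h3
    exact h3
  rw [pow_add, pow_mul]
  exact P.pow_eq_one_of_fix p (pow_mem hg _) hX (hpow _).2

end Finite

end Frame

end Cfsg.Lib.FusionSys.PSUChar
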