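import Cfsg.Agent.Lib.FusionSys.LieSimplePSL
import Cfsg.Agent.Lib.Linear.SymplecticGroup
import Cfsg.Agent.S0246

/-!
The unipotent radical of the Borel subgroup of `Sp_{2m}(q)` and its normalizer.
-/

set_option autoImplicit false
set_option linter.unusedSectionVars false

namespace Cfsg.Lib.FusionSys.PSpChar

open Matrix Cfsg.Lib.Linear.Symp

variable {K : Type*} [Field K] [Fintype K] {m : ℕ}

set_option quotPrecheck false in
local notation "G" => Matrix.symplecticGroup (Fin m) K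
local notation "M" => Matrix (Fin m) (Fin m) K
local notation "V" => (Fin m ⊕ Fin m → K)
local notation "SLm" => Matrix.SpecialLinearGroup (Fin m) K

theorem mul_val (g h : G) : (g * h).1 = g.1 * h.1 := rfl

theorem one_val : (1 : G).1 = 1 := rfl

/-- The blocks. -/
def bA (g : G) : M := g.1.toBlocks₁₁
def bB (g : G) : M := g.1.toBlocks₁₂
def bC (g : G) : M := g.1.toBlocks₂₁
def bD (g : G) : M := g.1.toBlocks₂₂

theorem blocks_eq (g : G) : g.1 = fromBlocks (bA g) (bB g) (bC g) (bD g) := (fromBlocks_toBlocks g.1).symm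

theorem blk_ext {g h : G} (h1 : bA g = bA h) (h2 : bB g = bB h) (h3 : bC g = bC h) (h4 : bD g = bD h) :
    g = h := Subtype.ext (by rw [blocks_eq g, blocks_eq h, h1, h2, h3, h4])

theorem bA_mul (g h : G) : bA (g * h) = bA g * bA h + bB g * bC h := by
  rw [bA, mul_val, blocks_eq g, blocks_eq h, fromBlocks_multiply, toBlocks_fromBlocks₁₁]
theorem bB_mul (g h : G) : bB (g * h) = bA g * bB h + bB g * bD h := by
  rw [bB, mul_val, blocks_eq g, blocks_eq h, fromBlocks_multiply, toBlocks_fromBlocks₁₂]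
theorem bC_mul (g h : G) : bC (g * h) = bC g * bA h + bD g * bC h := by
  rw [bC, mul_val, blocks_eq g, blocks_eq h, fromBlocks_multiply, toBlocks_fromBlocks₂₁]
theorem bD_mul (g h : G) : bD (g * h) = bC g * bB h + bD g * bD h := by
  rw [bD, mul_val, blocks_eq g, blocks_eq h, fromBlocks_multiply, toBlocks_fromBlocks₂₂]

theorem bA_one : bA (1 : G) = 1 := by rw [bA, one_val, ← fromBlocks_one, toBlocks_fromBlocks₁₁]
theorem bC_one : bC (1 : G) = 0 := by rw [bC, one_val, ← fromBlocks_one, toBlocks_fromBlocks₂₁]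

theorem rel (g : G) : bA g * (bB g)ᵀ = bB g * (bA g)ᵀ ∧ bA g * (bD g)ᵀ - bB g * (bC g)ᵀ = 1 ∧
    bC g * (bD g)ᵀ = bD g * (bC g)ᵀ := by
  have h := SymplecticGroup.mem_iff.1 g.2
  rw [blocks_eq g, Matrix.J, fromBlocks_multiply, fromBlocks_transpose, fromBlocks_multiply] at h
  simp only [mul_zero, mul_one, zero_add, add_zero, mul_neg, neg_mul, fromBlocks_inj] at h
  obtain ⟨h1, h2, -, h4⟩ := h
  refine ⟨?_, ?_, ?_⟩
  · rw [← sub_eq_zero, ← neg_eq_zero, ← h1]; abel
  · rw [← neg_neg (1 : M), ← h2]; abel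
  · rw [← sub_eq_zero, ← neg_eq_zero, ← h4]; abel

theorem inv_blocks (g : G) :
    bA g⁻¹ = (bD g)ᵀ ∧ bB g⁻¹ = -(bB g)ᵀ ∧ bC g⁻¹ = -(bC g)ᵀ ∧ bD g⁻¹ = (bA g)ᵀ := by
  have h : (g⁻¹).1 = fromBlocks (bD g)ᵀ (-(bB g)ᵀ) (-(bC g)ᵀ) (bA g)ᵀ := by
    rw [SymplecticGroup.coe_inv g, blocks_eq g, Matrix.J, fromBlocks_neg, fromBlocks_transpose,
      fromBlocks_multiply, fromBlocks_multiply]
    simp
  refine ⟨?_, ?_, ?_, ?_⟩ <;> simp only [bA, bB, bC, bD, h, toBlocks_fromBlocks₁₁, toBlocks_fromBlocks₁₂,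
    toBlocks_fromBlocks₂₁, toBlocks_fromBlocks₂₂]

/-- An element from four blocks. -/
def mk4 (A B C D : M) (h1 : A * Bᵀ = B * Aᵀ) (h2 : A * Dᵀ - B * Cᵀ = 1) (h3 : C * Dᵀ = D * Cᵀ) : G :=
  ⟨fromBlocks A B C D, by
    have h2' : D * Aᵀ - C * Bᵀ = 1 := by
      have := congrArg Matrix.transpose h2
      simpa [Matrix.transpose_mul] using this
    rw [SymplecticGroup.mem_iff, Matrix.J, fromBlocks_multiply, fromBlocks_transpose, fromBlocks_multiply]
    simp only [mul_zero, mul_one, zero_add, add_zero, mul_neg, neg_mul, fromBlocks_inj]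
    refine ⟨?_, ?_, ?_, ?_⟩
    · rw [h1]; abel
    · rw [← h2]; abel
    · rw [← h2']; abel
    · rw [h3]; abel⟩

theorem mk4_blocks {A B C D : M} {h1 h2 h3} :
    bA (mk4 A B C D h1 h2 h3 : G) = A ∧ bB (mk4 A B C D h1 h2 h3 : G) = B ∧
      bC (mk4 A B C D h1 h2 h3 : G) = C ∧ bD (mk4 A B C D h1 h2 h3 : G) = D :=
  ⟨toBlocks_fromBlocks₁₁ .., toBlocks_fromBlocks₁₂ .., toBlocks_fromBlocks₂₁ .., toBlocks_fromBlocks₂₂ ..⟩

/-- `[1, S; 0, 1]`. -/
def qE (S : M) (hS : Sᵀ = S) : G := mk4 1 S 0 1 (by simp [hS]) (by simp) (by simp)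

theorem qE_blocks {S : M} {hS : Sᵀ = S} :
    bA (qE S hS : G) = 1 ∧ bB (qE S hS : G) = S ∧ bC (qE S hS : G) = 0 ∧ bD (qE S hS : G) = 1 := mk4_blocks

theorem qE_congr {S S' : M} {hS : Sᵀ = S} {hS' : S'ᵀ = S'} (h : S = S') : (qE S hS : G) = qE S' hS' := by
  subst h; rfl

theorem qE_mul {S S' : M} {hS : Sᵀ = S} {hS' : S'ᵀ = S'} (h : (S + S')ᵀ = S + S') :
    (qE S hS : G) * qE S' hS' = qE (S + S') h := by
  refine blk_ext ?_ ?_ ?_ ?_ <;>
    simp [bA_mul, bB_mul, bC_mul, bD_mul, qE_blocks, add_comm]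

theorem qE_zero {h : (0 : M)ᵀ = 0} : (qE (0 : M) h : G) = 1 := Subtype.ext fromBlocks_one

/-- The Levi embedding. -/
def levi : GL (Fin m) K →* G where
  toFun A := mk4 A.1 0 0 ((A⁻¹).1)ᵀ (by simp) (by simp) (by simp)
  map_one' := by
    refine Subtype.ext ?_
    show fromBlocks _ _ _ _ = _
    simp [one_val, fromBlocks_one]
  map_mul' A B := by
    refine blk_ext ?_ ?_ ?_ ?_ <;>
      simp [bA_mul, bB_mul, bC_mul, bD_mul, mk4_blocks, Matrix.transpose_mul]

theorem levi_blocks {A : GL (Fin m) K} :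
    bA (levi A : G) = A.1 ∧ bB (levi A : G) = 0 ∧ bC (levi A : G) = 0 ∧ bD (levi A : G) = ((A⁻¹).1)ᵀ :=
  ⟨toBlocks_fromBlocks₁₁ .., toBlocks_fromBlocks₁₂ .., toBlocks_fromBlocks₂₁ .., toBlocks_fromBlocks₂₂ ..⟩

/-- The scalar `c` with `c² = 1`. -/
def scal (c : K) (hc : c * c = 1) : G :=
  ⟨c • 1, by rw [SymplecticGroup.mem_iff]; simp [smul_smul, hc]⟩

theorem scal_mem_center (c : K) (hc : c * c = 1) : scal c hc ∈ Subgroup.center G :=
  Subgroup.mem_center_iff.2 fun g => Subtype.ext (by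
    show g.1 * (c • 1) = (c • 1) * g.1
    simp)

/-- The Siegel parabolic subgroup. -/
def siegel : Subgroup G where
  carrier := {g | bC g = 0}
  one_mem' := bC_one
  mul_mem' {g h} hg hh := by
    show bC (g * h) = 0
    rw [bC_mul, show bC g = 0 from hg, show bC h = 0 from hh]; simp
  inv_mem' {g} hg := by
    show bC g⁻¹ = 0
    rw [(inv_blocks g).2.2.1, show bC g = 0 from hg]; simp

theorem levi_mem_siegel (A : GL (Fin m) K) : levi A ∈ siegel (K := K) (m := m) := levi_blocks.2.2.1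

theorem bA_mul_of_mem {h : G} (g : G) (hh : h ∈ siegel (K := K) (m := m)) : bA (g * h) = bA g * bA h := by
  rw [bA_mul, show bC h = 0 from hh, mul_zero, add_zero]

theorem bA_mul_inv {g : G} (hg : g ∈ siegel (K := K) (m := m)) : bA g * bA g⁻¹ = 1 := by
  rw [← bA_mul_of_mem g (inv_mem hg), mul_inv_cancel, bA_one]

theorem bA_inv_mul {g : G} (hg : g ∈ siegel (K := K) (m := m)) : bA g⁻¹ * bA g = 1 := by
  rw [← bA_mul_of_mem g⁻¹ hg, inv_mul_cancel, bA_one]

/-- The Levi component of an element of the Siegel parabolic subgroup. -/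
def lev {g : G} (hg : g ∈ siegel (K := K) (m := m)) : GL (Fin m) K :=
  ⟨bA g, bA g⁻¹, bA_mul_inv hg, bA_inv_mul hg⟩

theorem conj_qE {g : G} (hg : g ∈ siegel (K := K) (m := m)) {S : M} {hS : Sᵀ = S}
    (h' : (bA g * S * (bA g)ᵀ)ᵀ = bA g * S * (bA g)ᵀ) :
    g * qE S hS * g⁻¹ = qE (bA g * S * (bA g)ᵀ) h' := by
  have hC : bC g = 0 := hg
  have h1 : (bA g)ᵀ * bD g = 1 := by
    have := bA_inv_mul hg
    rw [(inv_blocks g).1] at this
    have := congrArg Matrix.transpose this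
    simpa [Matrix.transpose_mul] using this
  rw [mul_inv_eq_iff_eq_mul]
  refine blk_ext ?_ ?_ ?_ ?_ <;> simp only [bA_mul, bB_mul, bC_mul, bD_mul, qE_blocks, hC, mul_zero, zero_mul,
    mul_one, one_mul, add_zero, zero_add]
  rw [Matrix.mul_assoc (bA g * S), h1, mul_one, add_comm]

theorem decomp {g : G} (hg : g ∈ siegel (K := K) (m := m)) :
    ∃ (S : M) (hS : Sᵀ = S), g = qE S hS * levi (lev hg) := by
  obtain ⟨h1, h2, -⟩ := rel g
  have hC : bC g = 0 := hg
  rw [hC, Matrix.transpose_zero, mul_zero, sub_zero] at h2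
  refine ⟨bB g * (bA g)ᵀ, by rw [Matrix.transpose_mul, Matrix.transpose_transpose, h1], ?_⟩
  have h3 : (bA g)ᵀ * bD g = 1 := by
    have := congrArg Matrix.transpose (mul_eq_one_comm.1 h2)
    simpa [Matrix.transpose_mul] using this
  refine blk_ext ?_ ?_ ?_ ?_ <;> simp only [bA_mul, bB_mul, bC_mul, bD_mul, qE_blocks, levi_blocks, lev, hC,
    Units.inv_mk, (inv_blocks g).1, Matrix.transpose_transpose, mul_zero, zero_mul, mul_one, one_mul, add_zero,
    zero_add]
  rw [Matrix.mul_assoc, h3, mul_one]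

/-- The unipotent radical of the Borel subgroup. -/
def borelU : Subgroup G where
  carrier := {g | bC g = 0 ∧ ∃ a ∈ PSLChar.upper (K := K) (n := m), a.1 = bA g}
  one_mem' := ⟨bC_one, 1, one_mem _, by rw [bA_one]; rfl⟩
  mul_mem' {g h} := by
    rintro ⟨hg, a, ha, hag⟩ ⟨hh, b, hb, hbh⟩
    refine ⟨siegel.mul_mem hg hh, a * b, mul_mem ha hb, ?_⟩
    rw [PSLChar.mul_val, hag, hbh, bA_mul_of_mem g hh]
  inv_mem' {g} := by
    rintro ⟨hg, a, ha, hag⟩
    refine ⟨siegel.inv_mem hg, a⁻¹, inv_mem ha, ?_⟩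
    have h1 : (a⁻¹).1 * bA g = 1 := by rw [← hag, ← PSLChar.mul_val, inv_mul_cancel]; rfl
    exact left_inv_eq_right_inv h1 (bA_mul_inv hg)

theorem borelU_le_siegel : borelU (K := K) (m := m) ≤ siegel := fun _ h => h.1

theorem exists_upper {A : M} (h1 : ∀ i j, j < i → A i j = 0) (h2 : ∀ i, A i i = 1) :
    ∃ a ∈ PSLChar.upper (K := K) (n := m), a.1 = A :=
  ⟨⟨A, by rw [Matrix.det_of_upperTriangular (fun i j h => h1 i j h)]; simp [h2]⟩, ⟨h1, h2⟩, rfl⟩

theorem qE_mem_borelU {S : M} {hS : Sᵀ = S} : (qE S hS : G) ∈ borelU (K := K) (m := m) :=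
  ⟨qE_blocks.2.2.1, 1, one_mem _, by rw [qE_blocks.1]; rfl⟩

/-- The Levi embedding of the special linear group. -/
def sl : SLm →* G := levi.comp Matrix.SpecialLinearGroup.toGL

theorem sl_bA (a : SLm) : bA (sl a : G) = a.1 := levi_blocks.1

theorem sl_mem_borelU {a : SLm} (ha : a ∈ PSLChar.upper (K := K) (n := m)) : (sl a : G) ∈ borelU (K := K) (m := m) :=
  ⟨levi_blocks.2.2.1, a, ha, (sl_bA a).symm⟩

variable (p : ℕ) [Fact p.Prime] [CharP K p]

theorem qE_pow {S : M} {hS : Sᵀ = S} (k : ℕ) :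
    ∃ h : (k • S)ᵀ = k • S, (qE S hS : G) ^ k = qE (k • S) h := by
  have h : ∀ j : ℕ, (j • S)ᵀ = j • S := fun j => by rw [Matrix.transpose_smul, hS]
  refine ⟨h k, ?_⟩
  induction k with
  | zero => rw [pow_zero, ← qE_zero (h := Matrix.transpose_zero)]; exact qE_congr (by simp)
  | succ k ih =>
    rw [pow_succ, ih, qE_mul (by rw [Matrix.transpose_add, h k, hS])]
    exact qE_congr (by rw [add_smul, one_smul])

theorem qE_pow_char {S : M} {hS : Sᵀ = S} : (qE S hS : G) ^ p = 1 := by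
  obtain ⟨h, he⟩ := qE_pow (hS := hS) p
  rw [he, ← qE_zero (h := Matrix.transpose_zero)]
  refine qE_congr ?_
  ext a b
  simp

theorem isPGroup_borelU : IsPGroup p (borelU (K := K) (m := m)) := by
  rintro ⟨g, hgC, a, ha, hag⟩
  refine ⟨m + 1, Subtype.ext ?_⟩
  have hk : ∀ k : ℕ, (g ^ k) ∈ siegel (K := K) (m := m) ∧ bA (g ^ k) = (a ^ k).1 := by
    intro k
    induction k with
    | zero => exact ⟨by rw [pow_zero]; exact one_mem _, by rw [pow_zero, pow_zero, bA_one]; rfl⟩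
    | succ k ih =>
      refine ⟨pow_mem (show g ∈ siegel (K := K) (m := m) from hgC) _, ?_⟩
      rw [pow_succ, pow_succ, bA_mul_of_mem _ hgC, ih.2, PSLChar.mul_val, hag]
  obtain ⟨S, hS, he⟩ := decomp (hk (p ^ m)).1
  have h1 : lev (hk (p ^ m)).1 = 1 := Units.ext (by
    show bA (g ^ p ^ m) = 1
    rw [(hk (p ^ m)).2, PSLChar.pow_eq_one (p := p) ha]; rfl)
  show g ^ p ^ (m + 1) = 1
  rw [pow_succ, pow_mul, he, h1, map_one, mul_one, qE_pow_char p]

theorem triangular_of_conj {A : M}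
    (h : ∀ t ∈ PSLChar.upper (K := K) (n := m), ∃ u ∈ PSLChar.upper (K := K) (n := m), t.1 * A = A * u.1) :
    ∀ a k : Fin m, k < a → A a k = 0 := by
  suffices ∀ (j : ℕ) (a k : Fin m), k.1 = j → k < a → A a k = 0 from fun a k h => this _ a k rfl h
  intro j
  induction j using Nat.strong_induction_on with
  | _ j IH =>
    rintro a k rfl hka
    have hka' : k.1 < a.1 := hka
    obtain ⟨b, hb⟩ : ∃ b : Fin m, b.1 + 1 = a.1 := ⟨⟨a.1 - 1, by omega⟩, by simp only; omega⟩
    have hba : b < a := by show b.1 < a.1; omega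
    have hkb : k ≤ b := by show k.1 ≤ b.1; omega
    obtain ⟨u, hu, he⟩ := h _ (PSLChar.transvection_mem hba (1 : K))
    have h1 := congrFun (congrFun he b) k
    rw [PSLChar.tv_val, add_mul, one_mul, Matrix.add_apply, Matrix.single_mul_apply_same, one_mul,
      Matrix.mul_apply, Finset.sum_eq_single k (fun l _ hl => by
        rcases lt_or_gt_of_ne hl with h' | h'
        · rw [IH l.1 h' b l rfl (h'.trans_le hkb), zero_mul]
        · rw [hu.1 l k h', mul_zero]) (by simp), hu.2, mul_one] at h1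
    exact add_eq_left.1 h1

/-- The normalizer of the unipotent radical is the Borel subgroup. -/
theorem normalizer_borelU {g : G} (hg : g ∈ Subgroup.normalizer (borelU (K := K) (m := m) : Set G)) :
    bC g = 0 ∧ ∀ a k : Fin m, k < a → bA g a k = 0 := by
  have hC : bC g = 0 := by
    ext a i
    have hS : (Matrix.single i i (1 : K))ᵀ = Matrix.single i i 1 := Matrix.transpose_single ..
    have h := ((Subgroup.mem_normalizer_iff.1 hg _).1 (qE_mem_borelU (hS := hS))).1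
    simp only [bC_mul, bA_mul, bD_mul, bB_mul, qE_blocks, (inv_blocks g).1, (inv_blocks g).2.2.1,
      mul_zero, mul_one, add_zero] at h
    rw [mul_neg, add_mul, ← (rel g).2.2] at h
    have h' : bC g * Matrix.single i i 1 * (bC g)ᵀ = 0 := by
      rw [← neg_eq_zero, ← h]; abel
    have h2 := congrFun (congrFun h' a) a
    rw [Matrix.mul_apply, Finset.sum_eq_single i (fun b _ hb => by
      rw [Matrix.mul_single_apply_of_ne _ _ _ _ _ hb, zero_mul]) (by simp), Matrix.mul_single_apply_same,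
      Matrix.transpose_apply, mul_one, Matrix.zero_apply] at h2
    exact mul_self_eq_zero.1 h2
  refine ⟨hC, triangular_of_conj fun t ht => ?_⟩
  obtain ⟨-, u, hu, hue⟩ := (Subgroup.mem_normalizer_iff''.1 hg _).1 (sl_mem_borelU ht)
  refine ⟨u, hu, ?_⟩
  have hv : g⁻¹ * sl t * g ∈ siegel (K := K) (m := m) :=
    mul_mem (mul_mem (inv_mem hC) (levi_mem_siegel _)) hC
  rw [hue, ← bA_mul_of_mem g hv, ← sl_bA t, ← bA_mul_of_mem (sl t) (show g ∈ siegel (K := K) (m := m) from hC)]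
  group

theorem exists_sylow_borelU : ∃ P : Sylow p G, (P : Subgroup G) = borelU (K := K) (m := m) := by
  classical
  obtain ⟨R, hR⟩ := (isPGroup_borelU (K := K) (m := m) p).exists_le_sylow
  refine ⟨R, le_antisymm ?_ hR⟩
  by_contra hne
  have hlt : (borelU (K := K) (m := m)).subgroupOf (R : Subgroup G) < ⊤ := by
    rw [lt_top_iff_ne_top, Ne, Subgroup.subgroupOf_eq_top]
    exact hne
  haveI : Group.IsNilpotent (R : Subgroup G) := R.2.isNilpotent
  obtain ⟨x, hxN, hxU⟩ := SetLike.exists_of_lt (Group.normalizerCondition_of_isNilpotent _ hlt)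
  have hxn : (x : G) ∈ Subgroup.normalizer (borelU (K := K) (m := m) : Set G) := by
    refine Subgroup.mem_normalizer_fintype fun u hu => ?_
    exact (Subgroup.mem_normalizer_iff.1 hxN ⟨u, hR hu⟩).1 hu
  obtain ⟨hxC, htri⟩ := normalizer_borelU hxn
  obtain ⟨k, hk⟩ := R.2 x
  have hpow : ∀ j : ℕ, (∀ a b, b < a → bA ((x : G) ^ j) a b = 0) ∧
      ∀ a, bA ((x : G) ^ j) a a = bA (x : G) a a ^ j := by
    intro j
    induction j with
    | zero => exact ⟨fun a b h => by simp [bA_one, h.ne'], fun a => by simp [bA_one]⟩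
    | succ j ih =>
      refine ⟨fun a b h => ?_, fun a => ?_⟩
      · rw [pow_succ, bA_mul_of_mem _ hxC, Matrix.mul_apply]
        refine Finset.sum_eq_zero fun l _ => ?_
        rcases lt_or_ge l a with hl | hl
        · rw [ih.1 a l hl, zero_mul]
        · rw [htri l b (h.trans_le hl), mul_zero]
      · rw [pow_succ, bA_mul_of_mem _ hxC, Matrix.mul_apply, pow_succ (bA (x : G) a a),
          Finset.sum_eq_single a (fun l _ hl => by
            rcases lt_or_gt_of_ne hl with hl | hl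
            · rw [ih.1 a l hl, zero_mul]
            · rw [htri l a hl, mul_zero]) (by simp), ih.2]
  refine hxU ⟨hxC, exists_upper htri fun a => ?_⟩
  have h1 := (hpow (p ^ k)).2 a
  rw [show (x : G) ^ p ^ k = 1 from congrArg Subtype.val hk, bA_one, Matrix.one_apply_eq] at h1
  have h2 : (bA (x : G) a a - 1) ^ p ^ k = 0 := by rw [sub_pow_char_pow, ← h1, one_pow, sub_self]
  exact sub_eq_zero.1 (eq_zero_of_pow_eq_zero h2)

end Cfsg.Lib.FusionSys.PSpChar
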