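import Cfsg.Agent.Lib.FusionSys.LieSimplePSpBasic

/-!
Transvections and the two kinds of parabolic radicals in `Sp_{2m}(q)`.
-/

set_option autoImplicit false
set_option linter.unusedSectionVars false

namespace Cfsg.Lib.FusionSys.PSpChar

open Matrix Cfsg.Lib.Linear.Symp

variable {K : Type*} [Field K] [Fintype K] {m : ℕ}

set_option quotPrecheck false in
local notation "G" => Matrix.symplecticGroup (Fin m) K
local notation "M" => Matrix (Fin m) (Fin m) K
local notation "V" => (Fin m ⊕ Fin m → K)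
local notation "Bf" => spB m K

/-- The basis vectors. -/
def eV (i : Fin m) : V := Pi.single (Sum.inl i) 1
def fV (i : Fin m) : V := Pi.single (Sum.inr i) 1

theorem bil_eV (x : V) (i : Fin m) : Bf x (eV i) = x (Sum.inr i) := by
  rw [spB_apply, Cfsg.sympForm, J_mulVec]
  simp [dotProduct, Fintype.sum_sum_type, eV, Pi.single_apply]

theorem bil_fV (x : V) (i : Fin m) : Bf x (fV i) = -x (Sum.inl i) := by
  rw [spB_apply, Cfsg.sympForm, J_mulVec]
  simp [dotProduct, Fintype.sum_sum_type, fV, Pi.single_apply]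

theorem act_mul (g h : G) (x : V) : (g * h).1 *ᵥ x = g.1 *ᵥ (h.1 *ᵥ x) := (Matrix.mulVec_mulVec x _ _).symm

theorem act_one (x : V) : (1 : G).1 *ᵥ x = x := Matrix.one_mulVec x

theorem act_inv_act (g : G) (x : V) : (g⁻¹).1 *ᵥ (g.1 *ᵥ x) = x := by
  rw [← act_mul, inv_mul_cancel, act_one]

theorem act_act_inv (g : G) (x : V) : g.1 *ᵥ ((g⁻¹).1 *ᵥ x) = x := by
  rw [← act_mul, mul_inv_cancel, act_one]

theorem act_ext {g h : G} (H : ∀ x : V, g.1 *ᵥ x = h.1 *ᵥ x) : g = h :=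
  Subtype.ext (Matrix.ext_iff_mulVec.2 H)

theorem bil_act (g : G) (x y : V) : Bf (g.1 *ᵥ x) (g.1 *ᵥ y) = Bf x y :=
  (mem_symplecticGroup_iff g.1).1 g.2 x y

/-- Transvections. -/
def tvS (v : V) (c : K) : G := ⟨Cfsg.sympTransvection m v c, sympTransvection_mem v c⟩

theorem tvS_act (v : V) (c : K) (x : V) : (tvS v c : G).1 *ᵥ x = x + (c * Bf x v) • v :=
  sympTransvection_mulVec v c x

theorem tvS_conj (g : G) (v : V) (c : K) : g * tvS v c * g⁻¹ = tvS (g.1 *ᵥ v) c := by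
  rw [mul_inv_eq_iff_eq_mul]
  refine act_ext fun x => ?_
  rw [act_mul, act_mul, tvS_act, tvS_act, bil_act, Matrix.mulVec_add, Matrix.mulVec_smul]

theorem tvS_pow (v : V) (c : K) (k : ℕ) : (tvS v c : G) ^ k = tvS v ((k : K) * c) := by
  refine act_ext fun x => ?_
  induction k generalizing x with
  | zero => simp [tvS_act]
  | succ k ih =>
    rw [pow_succ, act_mul, tvS_act, ih, tvS_act, tvS_act]
    simp only [map_add, map_smul, LinearMap.add_apply, LinearMap.smul_apply, (spB_isAlt m K).self_eq_zero,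
      smul_zero, add_zero, Nat.cast_succ]
    module

theorem tvS_pow_char (p : ℕ) [Fact p.Prime] [CharP K p] (v : V) (c : K) : (tvS v c : G) ^ p = 1 := by
  rw [tvS_pow, CharP.cast_eq_zero, zero_mul]
  refine act_ext fun x => ?_
  simp [tvS_act]

/-- `x ↦ x + c (B(x,u) v + B(x,v) u)` for orthogonal `u`, `v`. -/
def esk (u v : V) (c : K) : G := tvS (u + v) c * tvS v (-c) * tvS u (-c)

theorem esk_act {u v : V} (h : Bf u v = 0) (c : K) (x : V) :
    (esk u v c : G).1 *ᵥ x = x + (c * Bf x u) • v + (c * Bf x v) • u := by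
  have hA := spB_isAlt m K
  rw [esk, act_mul, act_mul, tvS_act, tvS_act, tvS_act]
  simp only [map_add, map_smul, LinearMap.add_apply, LinearMap.smul_apply, hA.self_eq_zero, h,
    hA.isRefl _ _ h, smul_zero, add_zero]
  module

theorem esk_conj (g : G) (u v : V) (c : K) :
    g * esk u v c * g⁻¹ = esk (g.1 *ᵥ u) (g.1 *ᵥ v) c := by
  rw [esk, esk, ← Matrix.mulVec_add, ← tvS_conj, ← tvS_conj, ← tvS_conj]
  group

/-- `u vᵀ + v uᵀ`. -/
def cross (u v : Fin m → K) : M := Matrix.vecMulVec u v + Matrix.vecMulVec v u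

theorem cross_transpose (u v : Fin m → K) : (cross u v)ᵀ = cross u v := by
  rw [cross, Matrix.transpose_add, Matrix.transpose_vecMulVec, Matrix.transpose_vecMulVec, add_comm]

theorem cross_congr (A : M) (u v : Fin m → K) : A * cross u v * Aᵀ = cross (A *ᵥ u) (A *ᵥ v) := by
  simp only [cross, mul_add, add_mul, Matrix.mul_vecMulVec, Matrix.vecMulVec_mul, Matrix.vecMul_transpose]

theorem qE_act {S : M} {hS : Sᵀ = S} (x : V) :
    (qE S hS : G).1 *ᵥ x = Sum.elim (fun a => x (Sum.inl a) + (S *ᵥ (x ∘ Sum.inr)) a) (x ∘ Sum.inr) := by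
  show fromBlocks 1 S 0 1 *ᵥ x = _
  rw [Matrix.fromBlocks_mulVec]
  funext a
  rcases a with a | a <;> simp

theorem levi_act (A : GL (Fin m) K) (x : V) :
    (levi A : G).1 *ᵥ x = Sum.elim (A.1 *ᵥ (x ∘ Sum.inl)) (((A⁻¹).1)ᵀ *ᵥ (x ∘ Sum.inr)) := by
  show fromBlocks A.1 0 0 ((A⁻¹).1)ᵀ *ᵥ x = _
  rw [Matrix.fromBlocks_mulVec]
  funext a
  rcases a with a | a <;> simp

theorem qE_cross {i j : Fin m} (c : K) :
    (qE (cross (c • Pi.single i 1) (Pi.single j 1)) (cross_transpose _ _) : G) = esk (eV i) (eV j) c := by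
  refine act_ext fun x => ?_
  rw [qE_act, esk_act (by rw [bil_eV]; simp [eV]), bil_eV, bil_eV]
  funext a
  rcases a with a | a
  · simp [cross, eV, Matrix.vecMulVec, Matrix.mulVec, dotProduct, Pi.single_apply, add_mul, Finset.sum_add_distrib]
    split_ifs <;> ring
  · simp [eV]

theorem sl_transvection {i j : Fin m} (hij : i ≠ j) (c : K) :
    (sl (Matrix.SpecialLinearGroup.transvection hij c) : G) = esk (eV i) (fV j) (-c) := by
  refine act_ext fun x => ?_
  rw [sl, MonoidHom.comp_apply, levi_act, esk_act (by rw [bil_fV]; simp [eV, hij.symm]), bil_eV, bil_fV,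
    ← map_inv, Matrix.SpecialLinearGroup.transvection_inv]
  simp only [show ∀ b : Matrix.SpecialLinearGroup (Fin m) K, (Matrix.SpecialLinearGroup.toGL b).1 = b.1 from fun _ => rfl,
    PSLChar.tv_val]
  funext a
  rcases a with a | a <;>
  · simp [eV, fV, Matrix.mulVec, dotProduct, Pi.single_apply, add_mul, Finset.sum_add_distrib, Matrix.one_apply,
      Matrix.single_apply, eq_comm]
    split_ifs <;> simp_all

/-- The Weyl element of the `j`th hyperbolic pair. -/
def swapEl (j : Fin m) : G := tvS (eV j) (-1) * tvS (fV j) (-1) * tvS (eV j) (-1)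

theorem swapEl_eV (i j : Fin m) : (swapEl j : G).1 *ᵥ eV i = if i = j then fV j else eV i := by
  rw [swapEl, act_mul, act_mul]
  simp only [tvS_act, bil_eV, bil_fV]
  split_ifs with h
  · subst h
    funext a; rcases a with a | a <;> simp [eV, fV, Pi.single_apply]
  · funext a; rcases a with a | a <;> simp [eV, fV, Pi.single_apply, Ne.symm h]

theorem swap_conj_cross {i j : Fin m} (hij : i ≠ j) (c : K) :
    (swapEl j : G) * qE (cross (c • Pi.single i 1) (Pi.single j 1)) (cross_transpose _ _) * (swapEl j)⁻¹ =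
      sl (Matrix.SpecialLinearGroup.transvection hij (-c)) := by
  rw [qE_cross, esk_conj, swapEl_eV, swapEl_eV, if_pos rfl, if_neg hij, sl_transvection, neg_neg]

/-- A diagonal matrix as a unit. -/
def dU (d : Fin m → Kˣ) : GL (Fin m) K :=
  ⟨Matrix.diagonal fun a => (d a : K), Matrix.diagonal fun a => ((d a)⁻¹ : Kˣ),
    by simp, by simp⟩

theorem levi_dU_update (l : Fin m) (δ : Kˣ) :
    (levi (dU (Function.update 1 l δ)) : G) =
      tvS (eV l) (δ : K) * tvS (fV l) (δ : K)⁻¹ * tvS (eV l) (δ : K) *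
        (tvS (eV l) (-1) * tvS (fV l) (-1) * tvS (eV l) (-1)) := by
  refine act_ext fun x => ?_
  rw [levi_act]
  simp only [act_mul, tvS_act, bil_eV, bil_fV]
  funext a
  rcases a with a | a <;> by_cases ha : a = l
  · subst ha
    simp [dU, Matrix.mulVec_diagonal, eV, fV]
    field_simp
    ring
  · simp [dU, Matrix.mulVec_diagonal, eV, fV, ha]
  · subst ha
    simp [dU, Matrix.mulVec_diagonal, eV, fV]
    field_simp
    ring
  · simp [dU, Matrix.mulVec_diagonal, eV, fV, ha]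

theorem bA_eq_act (g : G) (a i : Fin m) : bA g a i = (g.1 *ᵥ eV i) (Sum.inl a) := by
  rw [eV, Matrix.mulVec_single_one]; rfl

theorem bC_eq_act (g : G) (a i : Fin m) : bC g a i = (g.1 *ᵥ eV i) (Sum.inr a) := by
  rw [eV, Matrix.mulVec_single_one]; rfl

/-- The radical of the stabilizer of the line of `eV i₀`. -/
def pointRadical (i₀ : Fin m) : Subgroup G where
  carrier := {g | g.1 *ᵥ eV i₀ = eV i₀ ∧ ∀ x, Bf (eV i₀) x = 0 → ∃ a : K, g.1 *ᵥ x = x + a • eV i₀}
  one_mem' := ⟨act_one _, fun x _ => ⟨0, by rw [act_one, zero_smul, add_zero]⟩⟩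
  mul_mem' {g h} hg hh := ⟨by rw [act_mul, hh.1, hg.1], fun x hx => by
    obtain ⟨a, ha⟩ := hh.2 x hx
    obtain ⟨b, hb⟩ := hg.2 x hx
    exact ⟨b + a, by rw [act_mul, ha, Matrix.mulVec_add, Matrix.mulVec_smul, hg.1, hb, add_smul, add_assoc]⟩⟩
  inv_mem' {g} hg := by
    have h1 : (g⁻¹).1 *ᵥ eV i₀ = eV i₀ := by conv_lhs => rw [← hg.1, act_inv_act]
    refine ⟨h1, fun x hx => ?_⟩
    obtain ⟨a, ha⟩ := hg.2 x hx
    refine ⟨-a, ?_⟩
    have h2 := congrArg (fun y => (g⁻¹).1 *ᵥ y) ha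
    simp only [act_inv_act, Matrix.mulVec_add, Matrix.mulVec_smul, h1] at h2
    rw [neg_smul, ← sub_eq_add_neg]
    exact eq_sub_of_add_eq h2.symm

theorem pointRadical_le {i₀ : Fin m} (hi : ∀ a, i₀ ≤ a) :
    pointRadical (K := K) i₀ ≤ borelU (K := K) (m := m) := by
  intro g hg
  have hcol : ∀ i, ∃ a : K, g.1 *ᵥ eV i = eV i + a • eV i₀ := fun i =>
    hg.2 _ (by rw [bil_eV]; simp [eV])
  have hC : bC g = 0 := by
    ext a i
    obtain ⟨k, hk⟩ := hcol i
    rw [bC_eq_act, hk]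
    simp [eV]
  refine ⟨hC, exists_upper (fun a b hab => ?_) fun a => ?_⟩
  · obtain ⟨k, hk⟩ := hcol b
    rw [bA_eq_act, hk]
    simp [eV, hab.ne', (lt_of_le_of_lt (hi b) hab).ne']
  · by_cases ha : a = i₀
    · subst ha
      rw [bA_eq_act, hg.1]
      simp [eV]
    · obtain ⟨k, hk⟩ := hcol a
      rw [bA_eq_act, hk]
      simp [eV, ha]

theorem pointRadical_normalizer {i₀ : Fin m} {y : G} {c : K} (hc : c ≠ 0)
    (hy : y.1 *ᵥ eV i₀ = c • eV i₀) : y ∈ Subgroup.normalizer (pointRadical (K := K) i₀ : Set G) := by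
  have hyi : (y⁻¹).1 *ᵥ eV i₀ = c⁻¹ • eV i₀ := by
    have h := congrArg (fun v => (y⁻¹).1 *ᵥ v) hy
    simp only [act_inv_act, Matrix.mulVec_smul] at h
    rw [eq_inv_smul_iff₀ hc]
    exact h.symm
  refine Subgroup.mem_normalizer_fintype fun g hg => ⟨?_, fun x hx => ?_⟩
  · rw [act_mul, act_mul, hyi, Matrix.mulVec_smul, hg.1, Matrix.mulVec_smul, hy, smul_smul,
      inv_mul_cancel₀ hc, one_smul]
  · obtain ⟨a, ha⟩ := hg.2 ((y⁻¹).1 *ᵥ x) (by
      have h := bil_act y⁻¹ (eV i₀) x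
      rw [hyi, map_smul, LinearMap.smul_apply, hx, smul_eq_mul] at h
      exact (mul_eq_zero.1 h).resolve_left (inv_ne_zero hc))
    exact ⟨a * c, by rw [act_mul, act_mul, ha, Matrix.mulVec_add, act_act_inv, Matrix.mulVec_smul, hy, smul_smul]⟩

theorem borelU_fix {i₀ : Fin m} (hi : ∀ a, i₀ ≤ a) {g : G} (hg : g ∈ borelU (K := K) (m := m)) :
    g.1 *ᵥ eV i₀ = eV i₀ := by
  obtain ⟨hC, a, ⟨ha, ha'⟩, hag⟩ := hg
  funext k
  rcases k with k | k
  · rw [← bA_eq_act, ← hag]
    by_cases hk : k = i₀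
    · subst hk; simp [eV, ha']
    · rw [ha k i₀ (lt_of_le_of_ne (hi k) (Ne.symm hk))]
      simp [eV, hk]
  · rw [← bC_eq_act, hC]
    simp [eV]

theorem scal_act (c : K) (hc : c * c = 1) (x : V) : (scal c hc : G).1 *ᵥ x = c • x := by
  show (c • 1 : Matrix (Fin m ⊕ Fin m) (Fin m ⊕ Fin m) K) *ᵥ x = _
  rw [Matrix.smul_mulVec, Matrix.one_mulVec]

theorem centralizer_pointRadical {i₀ : Fin m} {x : G}
    (hx : ∀ r ∈ pointRadical (K := K) i₀, x * r = r * x) :
    ∃ (c : K) (hc : c * c = 1), scal c hc * x ∈ pointRadical (K := K) i₀ := by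
  have hA := spB_isAlt m K
  have hf : Bf (fV i₀) (eV i₀) = 1 := by rw [bil_eV]; simp [fV]
  set k : K := Bf (x.1 *ᵥ fV i₀) (eV i₀) with hk
  have hxe : x.1 *ᵥ eV i₀ = k • eV i₀ := by
    have ht : (tvS (eV i₀) 1 : G) ∈ pointRadical (K := K) i₀ := by
      refine ⟨by rw [tvS_act, hA.self_eq_zero]; simp, fun y hy => ⟨0, ?_⟩⟩
      rw [tvS_act, hA.isRefl _ _ hy]; simp
    have h := congrArg (fun g : G => g.1 *ᵥ fV i₀) (hx _ ht)
    simp only [act_mul, tvS_act, Matrix.mulVec_add, Matrix.mulVec_smul, hf, one_mul, one_smul, ← hk] at h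
    exact add_left_cancel h
  have hxv : ∀ v, Bf (eV i₀) v = 0 → ∃ a : K, x.1 *ᵥ v = k • v + a • eV i₀ := by
    intro v hv
    have ht : (esk (eV i₀) v 1 : G) ∈ pointRadical (K := K) i₀ := by
      refine ⟨by rw [esk_act hv, hA.self_eq_zero, hv]; simp, fun y hy => ⟨Bf y v, ?_⟩⟩
      rw [esk_act hv, hA.isRefl _ _ hy]; simp
    have h := congrArg (fun g : G => g.1 *ᵥ fV i₀) (hx _ ht)
    simp only [act_mul, esk_act hv, Matrix.mulVec_add, Matrix.mulVec_smul, hf, one_mul, one_smul, ← hk, hxe] at h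
    refine ⟨Bf (x.1 *ᵥ fV i₀) v - Bf (fV i₀) v * k, ?_⟩
    rw [smul_smul, add_assoc, add_assoc, add_left_cancel_iff] at h
    rw [eq_sub_of_add_eq h, sub_smul]
    abel
  have hkk : k * k = 1 := by
    have h := bil_act x (fV i₀) (eV i₀)
    rw [hxe, map_smul, smul_eq_mul, hf, ← hk] at h
    exact h
  refine ⟨k, hkk, ?_, fun v hv => ?_⟩
  · rw [act_mul, scal_act, hxe, smul_smul, hkk, one_smul]
  · obtain ⟨a, ha⟩ := hxv v hv
    exact ⟨k * a, by rw [act_mul, scal_act, ha, smul_add, smul_smul, hkk, one_smul, smul_smul]⟩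

/-- The radical of the Siegel parabolic subgroup. -/
def siegelRadical : Subgroup G where
  carrier := {g | ∃ (S : M) (hS : Sᵀ = S), g = qE S hS}
  one_mem' := ⟨0, Matrix.transpose_zero, qE_zero.symm⟩
  mul_mem' := by
    rintro _ _ ⟨S, hS, rfl⟩ ⟨T, hT, rfl⟩
    exact ⟨S + T, by rw [Matrix.transpose_add, hS, hT], qE_mul _⟩
  inv_mem' := by
    rintro _ ⟨S, hS, rfl⟩
    refine ⟨-S, by rw [Matrix.transpose_neg, hS], inv_eq_of_mul_eq_one_right ?_⟩
    rw [qE_mul (by rw [add_neg_cancel, Matrix.transpose_zero]), ← qE_zero (h := Matrix.transpose_zero)]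
    exact qE_congr (add_neg_cancel S)

theorem siegelRadical_le : siegelRadical (K := K) (m := m) ≤ borelU (K := K) (m := m) := by
  rintro _ ⟨S, hS, rfl⟩
  exact qE_mem_borelU

theorem siegelRadical_normalizer {g : G} (hg : bC g = 0) :
    g ∈ Subgroup.normalizer (siegelRadical (K := K) (m := m) : Set G) := by
  refine Subgroup.mem_normalizer_fintype ?_
  rintro _ ⟨S, hS, rfl⟩
  exact ⟨_, by simp [Matrix.transpose_mul, hS, Matrix.mul_assoc], conj_qE hg _⟩

theorem scal_blocks (c : K) (hc : c * c = 1) :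
    bA (scal c hc : G) = c • 1 ∧ bB (scal c hc : G) = 0 ∧ bC (scal c hc : G) = 0 ∧ bD (scal c hc : G) = c • 1 := by
  have h : (scal c hc : G).1 = fromBlocks (c • 1) 0 0 (c • 1) := by
    show c • 1 = _
    rw [← fromBlocks_one, fromBlocks_smul, smul_zero]
  refine ⟨?_, ?_, ?_, ?_⟩ <;> simp only [bA, bB, bC, bD, h, toBlocks_fromBlocks₁₁, toBlocks_fromBlocks₁₂,
    toBlocks_fromBlocks₂₁, toBlocks_fromBlocks₂₂]

theorem centralizer_siegelRadical (hm : 0 < m) {x : G}
    (hx : ∀ r ∈ siegelRadical (K := K) (m := m), x * r = r * x) :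
    ∃ (c : K) (hc : c * c = 1) (S : M) (hS : Sᵀ = S), x = scal c hc * qE S hS := by
  have h1 := hx _ ⟨1, Matrix.transpose_one, rfl⟩
  have hC : bC x = 0 := by
    have h := congrArg bA h1
    simpa [bA_mul, qE_blocks] using h
  have hcom : ∀ (S : M), Sᵀ = S → bA x * S = S * bD x := by
    intro S hS
    have h := congrArg bB (hx _ ⟨S, hS, rfl⟩)
    simp only [bB_mul, qE_blocks, one_mul, mul_one] at h
    exact add_right_cancel (h.trans (add_comm _ _))
  have hAD : bA x = bD x := by simpa using hcom 1 Matrix.transpose_one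
  have hcom' : ∀ (S : M), Sᵀ = S → bA x * S = S * bA x := fun S hS => by rw [hcom S hS, hAD]
  obtain ⟨z, -⟩ : ∃ z : Fin m, z.1 = 0 := ⟨⟨0, hm⟩, rfl⟩
  set c := bA x z z
  have hoff : ∀ a i, a ≠ i → bA x a i = 0 := fun a i ha => by
    have h := congrFun (congrFun (hcom' (Matrix.single i i 1) (Matrix.transpose_single ..)) a) i
    rwa [Matrix.mul_single_apply_same, mul_one, Matrix.single_mul_apply_of_ne _ _ _ _ _ ha] at h
  have hdiag : ∀ a, bA x a a = c := fun a => by
    by_cases ha : a = z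
    · rw [ha]
    have h := congrFun (congrFun (hcom' (Matrix.single a z 1 + Matrix.single z a 1) (by
      simp [Matrix.transpose_single, add_comm])) a) z
    simp [mul_add, add_mul, ha, Ne.symm ha, Matrix.mul_single_apply_of_ne, Matrix.single_mul_apply_of_ne] at h
    exact h
  have hA : bA x = c • 1 := by
    ext a b
    by_cases hab : a = b
    · subst hab; simp [hdiag]
    · simp [hoff a b hab, hab]
  obtain ⟨h2, h3, -⟩ := rel x
  rw [hC, Matrix.transpose_zero, mul_zero, sub_zero, ← hAD, hA] at h3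
  have hc : c * c = 1 := by
    have := congrFun (congrFun h3 z) z
    simpa using this
  have hB : (bB x)ᵀ = bB x := by
    rw [hA] at h2
    have hc0 : c ≠ 0 := fun h => by rw [h, zero_mul] at hc; exact zero_ne_one hc
    simp at h2
    exact smul_right_injective M hc0 h2
  refine ⟨c, hc, c • bB x, by rw [Matrix.transpose_smul, hB], blk_ext ?_ ?_ ?_ ?_⟩ <;>
    simp [bA_mul, bB_mul, bC_mul, bD_mul, scal_blocks, qE_blocks, hA, hC, ← hAD, smul_smul, hc]

end Cfsg.Lib.FusionSys.PSpChar
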