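import Cfsg.Agent.Lib.FusionSys.QdFreeElementary
import Cfsg.Agent.Lib.FusionSys.GroupModel
import Cfsg.Agent.Lib.Local.StableQuotient

/-!
# The `ZJ`-theorem from local hypotheses

* `le_of_local_of_pred`: the descent restricted to a conjugation invariant property of subgroups.
* `controls_zj_of_pConstrained_locals`: normalizer `p`-stability with `p`-constrained local subgroups.
* `controls_zj_of_locally_SL2_free`: no section `SL₂(p)` in the normalizers of the subgroups
  containing `Z(S)`.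
-/

set_option autoImplicit false
set_option linter.style.haveILetI false

universe u v

namespace Cfsg.Lib.FusionSys

open Cfsg Cfsg.FusionSystem Cfsg.Lib.Local
open scoped commutatorElement

section Descent

variable {Ω : Type u} [Group Ω] {S : Subgroup Ω} {F : FusionSystem S} {p : ℕ}

/-- The descent, restricted to the subgroups with a conjugation invariant property `Φ`. -/
theorem le_of_local_of_pred [Finite S] [Fact p.Prime] (hS : IsPGroup p S) (hF : F.IsSaturated p)
    (D : FusionSystem S) (Φ : Subgroup Ω → Prop) (hΦ : ∀ A B, F.IsConj A B → Φ A → Φ B)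
    (hal : ∀ U : Subgroup Ω, (U = S ∨ F.IsEssential p U) → Φ U)
    (htop : ∀ U : Subgroup Ω, Φ U → F.IsFullyNormalized U → U ≠ ⊥ → normalizerIn S U = S →
      ∀ R, F.normalizerHom U R ⊆ D.Hom R)
    (hloc : ∀ U : Subgroup Ω, Φ U → F.IsFullyNormalized U → U ≠ ⊥ → normalizerIn S U ≠ S →
      ∃ W : Subgroup Ω, Φ W ∧ W ≤ S ∧ W ≠ ⊥ ∧ normalizerIn S U < normalizerIn S W ∧
        ∀ R, F.normalizerHom U R ⊆ F.normalizerHom W R) : F ≤ D := by
  refine le_of_autGroup_le' hS hF D fun P hP hbig α hα => ?_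
  have hPn : F.IsFullyNormalized P := by
    rcases hP with rfl | h
    exacts [isFullyNormalized_top F, h.2.1]
  have hPS := hPn.1
  refine (mem_autGroup hPS).2 ?_
  have hi : IsoIn F α := (mem_autGroup hPS).1 hα
  by_cases hbot : P = ⊥
  · refine hom_congr (subtype_mem D hPS) fun x => ?_
    have hx : x = 1 := Subtype.ext (Subgroup.mem_bot.1 (hbot.le x.2))
    subst hx
    simp
  suffices key : ∀ (m : ℕ) (U : Subgroup Ω), Φ U → F.IsFullyNormalized U → U ≠ ⊥ →
      Nat.card S < Nat.card (normalizerIn S U) + m → ∀ R : Subgroup Ω, Nat.card P ≤ Nat.card R →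
        F.normalizerHom U R ⊆ D.Hom R by
    refine key (Nat.card S + 1) P (hal P hP) hPn hbot (by omega) P le_rfl ?_
    refine ⟨hi, le_normalizerIn hPS, fun x => le_normalizerIn hPS (α x).2, _,
      restrict_mem hi (sup_le le_rfl le_rfl), fun x => rfl, ?_⟩
    refine range_restrict_eq hPS (restrict_mem hi (sup_le le_rfl le_rfl)) le_sup_right ?_
    exact fun x hx => (α _).2
  intro m
  induction m with
  | zero =>
    intro U _ _ _ hlt
    exact absurd (card_le_of_le (normalizerIn_le (S := S) U)) (by omega)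
  | succ m ih =>
    intro U hΦU hUn hU hlt R hR φ hφ
    by_cases hT : normalizerIn S U = S
    · exact htop U hΦU hUn hU hT R hφ
    obtain ⟨W, hΦW, hWS, hW, hTW, hinc⟩ := hloc U hΦU hUn hU hT
    obtain ⟨W₂, hconj, hn₂⟩ := exists_isFullyNormalized F hWS
    obtain ⟨χ, hχ, hχv, hχW⟩ := exists_map_to_fn hS hF hn₂ hconj
    haveI := finite_of_le (normalizerIn_le (S := S) W)
    have hcard : Nat.card (normalizerIn S U) < Nat.card (normalizerIn S W) := by
      refine lt_of_le_of_ne (card_le_of_le hTW.le) fun he => hTW.ne ?_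
      exact Subgroup.eq_of_le_of_card_ge hTW.le he.ge
    haveI := finite_of_le (normalizerIn_le (S := S) U)
    have hRT : R ≤ normalizerIn S U := hφ.2.1
    have hRc : Nat.card R ≤ Nat.card (normalizerIn S U) := card_le_of_le hRT
    have hχD : χ ∈ D.Hom (normalizerIn S W) := hbig _ (by omega) hχ
    obtain ⟨-, hRW, -, ψ, hψ, hψe, hψW⟩ := hinc R hφ
    have hX : (R ⊔ W : Subgroup Ω) ≤ normalizerIn S W := sup_le hRW (le_normalizerIn hWS)
    have hψv : ∀ x : (R ⊔ W : Subgroup Ω), ψ x ∈ normalizerIn S W := fun x => by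
      refine ⟨hom_mem hψ x, ?_⟩
      show ψ x ∈ Subgroup.normalizer (W : Set Ω)
      have h1 := map_mem_normalizer (Q := W) ψ x (hX x.2).2
      rwa [hψW] at h1
    let cX : (R ⊔ W : Subgroup Ω) →* Ω := χ.comp (Subgroup.inclusion hX)
    have hcX : cX ∈ F.Hom (R ⊔ W : Subgroup Ω) := restrict_mem hχ hX
    have hcXD : cX ∈ D.Hom (R ⊔ W : Subgroup Ω) := restrict_mem hχD hX
    obtain ⟨η, hη, hηr, hηe⟩ := exists_inv hcX (rfl : cX.range = cX.range)
    have hηv : ∀ y, η y ∈ (R ⊔ W : Subgroup Ω) := fun y => hηr.le ⟨y, rfl⟩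
    have h1 := F.comp_mem hη hψ hηv
    set θ₁ := ψ.comp (η.codRestrict (R ⊔ W : Subgroup Ω) hηv)
    have hθ₁v : ∀ y, θ₁ y ∈ normalizerIn S W := fun y => hψv _
    have h2 := F.comp_mem h1 hχ hθ₁v
    set θ := χ.comp (θ₁.codRestrict (normalizerIn S W) hθ₁v)
    have hθe : ∀ x : (R ⊔ W : Subgroup Ω), θ ⟨cX x, x, rfl⟩ = χ ⟨ψ x, hψv x⟩ := fun x => by
      show χ ⟨ψ ⟨η ⟨cX x, _⟩, _⟩, _⟩ = _
      congr 2
      exact congrArg (fun z : (R ⊔ W : Subgroup Ω) => ψ z) (Subtype.ext (hηe x ⟨x, rfl⟩))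
    have hW₂le : W₂ ≤ cX.range := by
      intro z hz
      obtain ⟨x, hx, hxW, rfl⟩ := mem_map_subgroupOf.1 (hχW.ge hz)
      exact ⟨⟨x, Subgroup.mem_sup_right hxW⟩, rfl⟩
    have hθN : θ ∈ F.normalizerHom W₂ cX.range := by
      refine ⟨h2, fun z hz => ?_, fun y => hχv _, _, restrict_mem h2 (sup_le le_rfl hW₂le),
        fun x => rfl, range_restrict_eq hn₂.1 (restrict_mem h2 (sup_le le_rfl hW₂le)) le_sup_right ?_⟩
      · obtain ⟨x, rfl⟩ := hz
        exact hχv _
      · intro z hz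
        obtain ⟨x, hx, hxW, rfl⟩ := mem_map_subgroupOf.1 (hχW.ge hz)
        show θ ⟨cX ⟨x, Subgroup.mem_sup_right hxW⟩, _⟩ ∈ W₂
        rw [hθe]
        exact hχW.le (mem_map_subgroupOf.2 ⟨_, _,
          hψW.le (mem_map_subgroupOf.2 ⟨x, _, hxW, rfl⟩), rfl⟩)
    have hrc : Nat.card R ≤ Nat.card cX.range := by
      rw [card_range hcX]
      haveI := finite_of_le (hX.trans (normalizerIn_le W))
      exact card_le_of_le le_sup_left
    have hW₂ : W₂ ≠ ⊥ := by
      intro h
      refine hW (Subgroup.eq_bot_of_card_eq _ ?_)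
      rw [card_eq_of_isConj hconj, h, Subgroup.card_bot]
    have hbigN : Nat.card (normalizerIn S W) ≤ Nat.card (normalizerIn S W₂) := by
      haveI := finite_of_le (normalizerIn_le (S := S) W₂)
      exact Nat.card_le_card_of_injective (fun x => (⟨χ x, hχv x⟩ : normalizerIn S W₂))
        fun a b h => F.injective_of_mem hχ (congrArg Subtype.val h)
    have hθD : θ ∈ D.Hom cX.range := ih W₂ (hΦ W W₂ hconj hΦW) hn₂ hW₂ (by omega) _ (hR.trans hrc) hθN
    obtain ⟨ζ, hζ, -, hζe⟩ := exists_inv hχD (rfl : χ.range = χ.range)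
    have h3 := D.comp_mem hcXD hθD fun x => ⟨x, rfl⟩
    have hv3 : ∀ x : (R ⊔ W : Subgroup Ω), θ ⟨cX x, x, rfl⟩ ∈ χ.range := fun x => by rw [hθe]; exact ⟨_, rfl⟩
    have h4 := D.comp_mem h3 hζ hv3
    refine hom_congr (restrict_mem (Q := R) h4 le_sup_left) fun x => ?_
    rw [← hψe x]
    set y := Subgroup.inclusion (le_sup_left : R ≤ (R ⊔ W : Subgroup Ω)) x
    symm
    show ζ ⟨θ ⟨cX y, y, rfl⟩, _⟩ = ψ y
    exact (congrArg ζ (Subtype.ext (hθe y))).trans (hζe ⟨ψ y, hψv y⟩ ⟨_, rfl⟩)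

end Descent

variable {G : Type u} [Group G] [Finite G] {p : ℕ} [Fact p.Prime]

/-- Subgroups congruent modulo a `p'`-group are conjugate by the kernel, inside a given subgroup. -/
theorem exists_ker_conj_localZJ {H : Type v} [Group H] (f : G →* H) (hker : (Nat.card f.ker).Coprime p)
    {K B X : Subgroup G} (hK : IsPGroup p K) (hB : IsPGroup p B) (hKX : K ≤ X) (hBX : B ≤ X)
    (h : K.map f = B.map f) :
    ∃ n ∈ X, f n = 1 ∧ ∀ k ∈ K, n * k * n⁻¹ ∈ B ∧ f (n * k * n⁻¹) = f k := by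
  haveI hn : f.ker.Normal := MonoidHom.normal_ker f
  obtain ⟨j, hj⟩ := IsPGroup.iff_card.mp hK
  have hKsol : Group.IsSolvable K := by
    have := hK.isNilpotent
    infer_instance
  have hinj : ∀ L : Subgroup G, IsPGroup p L → Set.InjOn f L := fun L hL x hx y hy hxy => by
    obtain ⟨k, hk⟩ := IsPGroup.iff_card.mp hL
    have hd := disjoint_iff.mp (Cfsg.Lib.Coprime.disjoint_of_coprime_card
      (by rw [hk]; exact hker.pow_right k) : Disjoint f.ker L)
    have h1 : x * y⁻¹ ∈ f.ker ⊓ L :=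
      ⟨f.mem_ker.mpr (by rw [map_mul, map_inv, hxy, mul_inv_cancel]), L.mul_mem hx (L.inv_mem hy)⟩
    rw [hd, Subgroup.mem_bot, mul_inv_eq_one] at h1
    exact h1
  have hcard : Nat.card B = Nat.card K := by
    have h1 : ∀ L : Subgroup G, IsPGroup p L → Nat.card (L.map f) = Nat.card L := fun L hL => by
      have h2 := Nat.card_image_of_injOn (hinj L hL)
      exact h2
    rw [← h1 B hB, ← h, h1 K hK]
  have hle : B ≤ f.ker ⊓ X ⊔ K := by
    intro b hb
    obtain ⟨k, hk, hkb⟩ := h.ge (Subgroup.mem_map_of_mem f hb)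
    rw [← inv_mul_cancel_right b k]
    refine mul_mem (Subgroup.mem_sup_left ⟨?_, X.mul_mem (hBX hb) (X.inv_mem (hKX hk))⟩)
      (Subgroup.mem_sup_right hk)
    show f (b * k⁻¹) = 1
    rw [map_mul, map_inv, ← hkb, mul_inv_cancel]
  have hKN : K ≤ Subgroup.normalizer ((f.ker ⊓ X : Subgroup G) : Set G) := fun k hk =>
    Subgroup.mem_normalizer_fintype fun x hx =>
      ⟨hn.conj_mem x hx.1 k, X.mul_mem (X.mul_mem (hKX hk) hx.2) (X.inv_mem (hKX hk))⟩
  obtain ⟨n, hn', hnB⟩ := Cfsg.Lib.Coprime.exists_conj_of_coprime (f.ker ⊓ X) K B hKN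
    (by rw [hj]; exact ((hker.coprime_dvd_left (Subgroup.card_dvd_of_le inf_le_left)).pow_right j).symm)
    (Or.inl hKsol) hle hcard
  refine ⟨n, hn'.2, f.mem_ker.mp hn'.1, fun k hk => ⟨?_, ?_⟩⟩
  · rw [hnB]
    exact ⟨k, hk, rfl⟩
  · rw [map_mul, map_mul, map_inv, f.mem_ker.mp hn'.1, one_mul, inv_one, mul_one]

/-- Elements mapping into a `p`-group image have conjugates by the kernel in the `p`-group. -/
theorem stronglyClosed_map_mod {H : Type v} [Group H] (f : G →* H) (hf : Function.Surjective f)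
    (hker : (Nat.card f.ker).Coprime p) {R E : Subgroup G} (hR : IsPGroup p R)
    (hE : IsStronglyClosed E R) : IsStronglyClosed (E.map f) (R.map f) := by
  refine ⟨Subgroup.map_mono hE.1, ?_⟩
  rintro _ ⟨x, hx, rfl⟩ y hy
  obtain ⟨g, rfl⟩ := hf y
  obtain ⟨z, hz, hzy⟩ := hy
  have h1 : IsPGroup p (Subgroup.zpowers (g * x * g⁻¹)) := by
    have : Subgroup.zpowers (g * x * g⁻¹) = (Subgroup.zpowers x).map (MulAut.conj g).toMonoidHom :=
      (MonoidHom.map_zpowers (MulAut.conj g).toMonoidHom x).symm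
    rw [this]
    exact (hR.to_le (Subgroup.zpowers_le.2 (hE.1 hx))).map _
  obtain ⟨n, -, hn, hnB⟩ := exists_ker_conj_localZJ f hker h1 (hR.to_le (Subgroup.zpowers_le.2 hz))
    (X := ⊤) le_top le_top
    (by rw [MonoidHom.map_zpowers, MonoidHom.map_zpowers, hzy, map_mul, map_mul, map_inv])
  obtain ⟨h2, -⟩ := hnB _ (Subgroup.mem_zpowers _)
  have h3 : n * g * x * (n * g)⁻¹ ∈ R := by
    rw [show n * g * x * (n * g)⁻¹ = n * (g * x * g⁻¹) * n⁻¹ by group]
    exact Subgroup.zpowers_le.2 hz h2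
  refine ⟨_, hE.2 x hx _ h3, ?_⟩
  simp only [map_mul, map_inv, hn, one_mul]

/-- Normalizer `p`-stability gives `p`-stable action on the normal `p`-subgroups of `M / O_{p'}(M)`
for every subgroup `M`. -/
theorem isPStableOn_quotient_of_isNormalizerPStable (hst : IsNormalizerPStable p G) (M : Subgroup G)
    (V : Subgroup (M ⧸ pPrimeCore p M)) [V.Normal] (hV : IsPGroup p V) : IsPStableOn p V := by
  set N := pPrimeCore p M
  set f := QuotientGroup.mk' N with hf
  have hfs : Function.Surjective f := QuotientGroup.mk'_surjective N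
  have hker : f.ker = N := QuotientGroup.ker_mk' N
  have hcop : (Nat.card f.ker).Coprime p := by rw [hker]; exact Cfsg.Lib.Core.pPrimeCore_coprime p M
  obtain ⟨T⟩ : Nonempty (Sylow p (V.comap f)) := inferInstance
  set P0 := (T : Subgroup (V.comap f)).map (V.comap f).subtype with hP0
  have hP0p : IsPGroup p P0 := T.2.map _
  have hP0V : P0.map f = V := by
    refine le_antisymm ((Subgroup.map_mono (Subgroup.map_subtype_le _)).trans
      (Subgroup.map_comap_le f V)) fun v hv => ?_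
    let g : ↥(V.comap f) →* V := (f.comp (V.comap f).subtype).codRestrict V fun x => x.2
    have hg : Function.Surjective g := fun ⟨w, hw⟩ => by
      obtain ⟨x, rfl⟩ := hfs w
      exact ⟨⟨x, hw⟩, rfl⟩
    have htop : ((T.mapSurjective hg : Sylow p V) : Subgroup V) = ⊤ :=
      ((T.mapSurjective hg).is_maximal' (hV.to_subgroup ⊤) le_top).symm
    have hv' : (⟨v, hv⟩ : V) ∈ (T : Subgroup ↥(V.comap f)).map g := by
      rw [← Sylow.coe_mapSurjective hg T, htop]; exact Subgroup.mem_top _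
    obtain ⟨x, hx, hxv⟩ := hv'
    exact ⟨x, ⟨x, hx, rfl⟩, congrArg Subtype.val hxv⟩
  have hnorm : ∀ w, w ∈ Subgroup.normalizer ((P0.map f : Subgroup (M ⧸ N)) : Set (M ⧸ N)) := fun w => by
    rw [hP0V, Subgroup.normalizer_eq_top_iff.2 ‹V.Normal›]; trivial
  intro ab hab
  obtain ⟨a, ha, rfl⟩ := GlaubermanZJ.exists_normalizer_lift f hfs hcop hP0p ab (hnorm ab)
  have hcomm : ⁅⁅P0, Subgroup.zpowers a⁆, Subgroup.zpowers a⁆ = ⊥ := by
    refine le_bot_iff.1 (le_trans (le_inf ?_ ?_) (Cfsg.Lib.Sig.disjoint_of_isPGroup_coprime hP0p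
      (by rw [← hker]; exact hcop : (Nat.card N).Coprime p)).le)
    · have h1 : ⁅P0, Subgroup.zpowers a⁆ ≤ P0 :=
        Subgroup.le_normalizer_iff_commutator_le_left.1 (Subgroup.zpowers_le.2 ha)
      exact (Subgroup.commutator_mono h1 le_rfl).trans h1
    · refine le_trans ?_ hker.le
      rw [← Subgroup.map_eq_bot_iff, Subgroup.map_commutator, Subgroup.map_commutator, hP0V,
        MonoidHom.map_zpowers, hab]
  set K := P0.map M.subtype with hK
  have haK : (a : G) ∈ Subgroup.normalizer (K : Set G) :=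
    Subgroup.le_normalizer_map M.subtype ⟨a, ha, rfl⟩
  have hKc : ⁅⁅K, Subgroup.zpowers (a : G)⁆, Subgroup.zpowers (a : G)⁆ = ⊥ := by
    rw [hK, show Subgroup.zpowers (a : G) = (Subgroup.zpowers a).map M.subtype from
      (MonoidHom.map_zpowers M.subtype a).symm, ← Subgroup.map_commutator, ← Subgroup.map_commutator,
      hcomm, Subgroup.map_bot]
  have key := hst K (hP0p.map _) a haK hKc
  -- push down
  let χ : ↥(Subgroup.normalizer (P0 : Set M)) →* ↥(Subgroup.normalizer (K : Set G)) ⧸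
      (Subgroup.centralizer (K : Set G)).subgroupOf (Subgroup.normalizer (K : Set G)) :=
    (QuotientGroup.mk' _).comp
      ((M.subtype.comp (Subgroup.normalizer (P0 : Set M)).subtype).codRestrict _ fun x =>
        Subgroup.le_normalizer_map M.subtype ⟨x, x.2, rfl⟩)
  let π : ↥(Subgroup.normalizer (P0 : Set M)) →* (M ⧸ N) ⧸ Subgroup.centralizer (V : Set (M ⧸ N)) :=
    (QuotientGroup.mk' _).comp (f.comp (Subgroup.normalizer (P0 : Set M)).subtype)
  have hπ : Function.Surjective π := fun q => by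
    obtain ⟨w, rfl⟩ := QuotientGroup.mk'_surjective (Subgroup.centralizer (V : Set (M ⧸ N))) q
    obtain ⟨z, hz, rfl⟩ := GlaubermanZJ.exists_normalizer_lift f hfs hcop hP0p w (hnorm w)
    exact ⟨⟨z, hz⟩, rfl⟩
  have hχπ : χ.ker ≤ π.ker := fun x hx => by
    have h1 := (QuotientGroup.eq_one_iff _).1 (MonoidHom.mem_ker.1 hx)
    refine MonoidHom.mem_ker.2 ((QuotientGroup.eq_one_iff _).2 (Subgroup.mem_centralizer_iff.2 ?_))
    rw [← hP0V]
    rintro _ ⟨y, hy, rfl⟩
    show f y * f (x : M) = f (x : M) * f y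
    rw [← map_mul, ← map_mul]
    exact congrArg f (Subtype.ext (Subgroup.mem_centralizer_iff.1 h1 (y : G) ⟨y, hy, rfl⟩))
  set T' := (pCore p (↥(Subgroup.normalizer (K : Set G)) ⧸
      (Subgroup.centralizer (K : Set G)).subgroupOf (Subgroup.normalizer (K : Set G)))).comap χ
    with hT'
  haveI : T'.Normal := Subgroup.Normal.comap inferInstance χ
  have hp' : IsPGroup p (T'.map π) := by
    rintro ⟨_, t, ht, rfl⟩
    obtain ⟨k, hk⟩ := Cfsg.Lib.Core.pCore_isPGroup p _ ⟨χ t, ht⟩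
    refine ⟨k, Subtype.ext ?_⟩
    show π t ^ p ^ k = 1
    rw [← map_pow]
    refine MonoidHom.mem_ker.1 (hχπ (MonoidHom.mem_ker.2 ?_))
    rw [map_pow]
    exact congrArg Subtype.val hk
  exact Cfsg.Lib.Core.le_pCore' (Subgroup.Normal.map inferInstance π hπ) hp'
    ⟨⟨a, ha⟩, key, rfl⟩

/-- Strong fusion of `R` in a `p`-constrained group with a stable quotient modulo `O_{p'}`. -/
theorem exists_mem_normalizer_zj_of_pConstrained (h2 : p ≠ 2) (hst : IsNormalizerPStable p G)
    (M : Subgroup G) (hc : IsPConstrained p M) (R : Sylow p M) (W : Subgroup M → Subgroup M)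
    (Wq : Subgroup (M ⧸ pPrimeCore p M) → Subgroup (M ⧸ pPrimeCore p M))
    (hW : ∀ E ≤ (R : Subgroup M), (W E).map (QuotientGroup.mk' (pPrimeCore p M)) =
      Wq (E.map (QuotientGroup.mk' (pPrimeCore p M))))
    (hWle : ∀ E : Subgroup M, W E ≤ E)
    (hWn : ∀ E : Subgroup M, (R : Subgroup M) ≤ Subgroup.normalizer (E : Set M) →
      (R : Subgroup M) ≤ Subgroup.normalizer (W E : Set M))
    (hnorm : ∀ (P : Sylow p (M ⧸ pPrimeCore p M)) (D : Subgroup (M ⧸ pPrimeCore p M)),
      Subgroup.centralizer (pCore p (M ⧸ pPrimeCore p M) : Set (M ⧸ pPrimeCore p M)) ≤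
        pCore p (M ⧸ pPrimeCore p M) →
      (∀ (V : Subgroup (M ⧸ pPrimeCore p M)) [V.Normal], IsPGroup p V → IsPStableOn p V) →
      IsStronglyClosed D (P : Subgroup _) → (Wq D).Normal)
    {E : Subgroup M} (hE : IsStronglyClosed E (R : Subgroup M))
    {A : Set M} (hA : A ⊆ (R : Subgroup M)) (g : M) (hg : (fun a => g * a * g⁻¹) '' A ⊆ (R : Subgroup M)) :
    ∃ x ∈ Subgroup.normalizer (W E : Set M), ∀ a ∈ A, g * a * g⁻¹ = x * a * x⁻¹ := by
  set f := QuotientGroup.mk' (pPrimeCore p M) with hf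
  have hfs : Function.Surjective f := QuotientGroup.mk'_surjective _
  have hcop : (Nat.card f.ker).Coprime p := by
    rw [QuotientGroup.ker_mk']; exact Cfsg.Lib.Core.pPrimeCore_coprime p M
  have hER : E ≤ (R : Subgroup M) := hE.1
  have hRE : (R : Subgroup M) ≤ Subgroup.normalizer (E : Set M) := fun r hr =>
    Subgroup.mem_normalizer_fintype fun x hx =>
      hE.2 x hx r (mul_mem (mul_mem hr (hER hx)) (InvMemClass.inv_mem hr))
  have hn : (Wq (E.map f)).Normal := by
    refine hnorm (R.mapSurjective hfs) _ (Cfsg.Lib.Sig.isPConstrained_iff.1 hc)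
      (fun V _ hV => isPStableOn_quotient_of_isNormalizerPStable hst M V hV) ?_
    rw [R.coe_mapSurjective hfs]
    exact stronglyClosed_map_mod f hfs hcop R.2 hE
  obtain ⟨x, hx, hxg⟩ := GlaubermanZJ.exists_normalizer_lift f hfs hcop
    (R.2.to_le ((hWle E).trans hER)) (f g) (by
      rw [hW E hER, Subgroup.normalizer_eq_top_iff.2 hn]; trivial)
  set K := Subgroup.closure A with hK
  have hKR : K ≤ (R : Subgroup M) := (Subgroup.closure_le _).2 hA
  have hgK : K.map (MulAut.conj g).toMonoidHom ≤ (R : Subgroup M) := by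
    rw [hK, MonoidHom.map_closure, Subgroup.closure_le]
    exact hg
  have hRN := hWn E hRE
  have hxK : K.map (MulAut.conj x).toMonoidHom ≤ Subgroup.normalizer (W E : Set M) := by
    rintro _ ⟨k, hk, rfl⟩
    exact mul_mem (mul_mem hx (hRN (hKR hk))) (InvMemClass.inv_mem hx)
  obtain ⟨n, hn1, hn2, hn3⟩ := exists_ker_conj_localZJ f hcop ((R.2.to_le hKR).map _) (R.2.to_le hgK) hxK
    (hgK.trans hRN) (by
      rw [Subgroup.map_map, Subgroup.map_map]
      congr 1
      ext k
      show f (x * k * x⁻¹) = f (g * k * g⁻¹)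
      rw [map_mul, map_mul, map_inv, map_mul, map_mul, map_inv, hxg])
  refine ⟨n * x, mul_mem hn1 hx, fun a ha => ?_⟩
  obtain ⟨h1, h3⟩ := hn3 (x * a * x⁻¹) ⟨a, Subgroup.subset_closure ha, rfl⟩
  have h4 : f (g * a * g⁻¹) = f (n * (x * a * x⁻¹) * n⁻¹) := by
    rw [h3]; simp only [map_mul, map_inv, hxg]
  have hd := disjoint_iff.mp (Cfsg.Lib.Coprime.disjoint_of_coprime_card (by
    obtain ⟨k, hk⟩ := IsPGroup.iff_card.mp R.2
    rw [hk]; exact hcop.pow_right k) : Disjoint f.ker (R : Subgroup M))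
  have h5 : (g * a * g⁻¹) * (n * (x * a * x⁻¹) * n⁻¹)⁻¹ ∈ f.ker ⊓ (R : Subgroup M) :=
    ⟨f.mem_ker.mpr (by rw [map_mul, map_inv f (n * _ * _), ← h4, mul_inv_cancel]),
      (R : Subgroup M).mul_mem (hg ⟨a, ha, rfl⟩) ((R : Subgroup M).inv_mem (hgK h1))⟩
  rw [hd, Subgroup.mem_bot, mul_inv_eq_one] at h5
  rw [h5]; group

/-- Control of strong fusion by `W(D)` from control in the normalizers of the subgroups with `Φ`. -/
theorem controls_of_local (P : Sylow p G) (W : Subgroup G → Subgroup G) (hWle : ∀ E, W E ≤ E)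
    (hWne : ∀ E : Subgroup G, IsPGroup p E → E ≠ ⊥ → W E ≠ ⊥)
    (hWnorm : ∀ E : Subgroup G, Subgroup.normalizer (E : Set G) ≤ Subgroup.normalizer (W E : Set G))
    {D : Subgroup G} (hD : IsStronglyClosed D (P : Subgroup G)) (Φ : Subgroup G → Prop)
    (hΦ : ∀ A B, (groupFusionSystem (P : Subgroup G)).IsConj A B → Φ A → Φ B)
    (hal : ∀ U : Subgroup G,
      (U = (P : Subgroup G) ∨ (groupFusionSystem (P : Subgroup G)).IsEssential p U) → Φ U)
    (hΦW : ∀ U : Subgroup G, U ≤ (P : Subgroup G) → Φ U →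
      Φ (W (D ⊓ normalizerIn (P : Subgroup G) U)))
    (hloc : ∀ U : Subgroup G, U ≤ (P : Subgroup G) → U ≠ ⊥ → Φ U →
      ∀ R : Sylow p ↥(Subgroup.normalizer (U : Set G)),
        (R : Subgroup _).map (Subgroup.normalizer (U : Set G)).subtype =
          normalizerIn (P : Subgroup G) U →
        ∀ A : Set G, A ⊆ normalizerIn (P : Subgroup G) U → ∀ g ∈ Subgroup.normalizer (U : Set G),
          (fun a => g * a * g⁻¹) '' A ⊆ normalizerIn (P : Subgroup G) U →
            ∃ x ∈ Subgroup.normalizer (W (D ⊓ normalizerIn (P : Subgroup G) U) : Set G),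
              ∀ a ∈ A, g * a * g⁻¹ = x * a * x⁻¹)
    (A : Set G) (hA : A ⊆ (P : Subgroup G)) :
    ControlsStrongFusionOf (Subgroup.normalizer (W D : Set G)) (P : Subgroup G) A := by
  refine controls_of_isNormal ?_ A hA
  set F := groupFusionSystem (P : Subgroup G) with hFdef
  have hS : IsPGroup p (P : Subgroup G) := P.isPGroup'
  have hF : F.IsSaturated p := isSaturated_groupFusionSystem P
  by_cases hD0 : D = ⊥
  · rw [show W D = ⊥ from le_bot_iff.1 ((hWle D).trans hD0.le)]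
    exact isNormal_bot F
  have hDn : (P : Subgroup G) ≤ Subgroup.normalizer (D : Set G) :=
    stronglyClosed_le_normalizer (stronglyClosed_groupFusionSystem hD)
  have hWD : W D ≤ (P : Subgroup G) := (hWle D).trans hD.1
  have hWn : (P : Subgroup G) ≤ Subgroup.normalizer (W D : Set G) := hDn.trans (hWnorm D)
  have hnormT : ∀ U : Subgroup G, (P : Subgroup G) ⊓
      Subgroup.normalizer (normalizerIn (P : Subgroup G) U : Set G) ≤
        Subgroup.normalizer (W (D ⊓ normalizerIn (P : Subgroup G) U) : Set G) := by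
    intro U g hg
    refine hWnorm _ ?_
    rw [Subgroup.mem_normalizer_iff]
    intro x
    rw [Subgroup.mem_inf, Subgroup.mem_inf, ← Subgroup.mem_normalizer_iff.1 (hDn hg.1) x,
      ← Subgroup.mem_normalizer_iff.1 hg.2 x]
  have hmain : ∀ U : Subgroup G, Φ U → F.IsFullyNormalized U → U ≠ ⊥ → ∀ R, F.normalizerHom U R ⊆
      F.normalizerHom (W (D ⊓ normalizerIn (P : Subgroup G) U)) R := by
    intro U hΦU hUn hU R φ hφ
    obtain ⟨hφF, hR, hv, ψ, ⟨-, -, g, hg⟩, hψe, hψU⟩ := hφ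
    have hgU : g ∈ Subgroup.normalizer (U : Set G) := by
      refine Subgroup.mem_normalizer_fintype fun x hx => ?_
      show g * x * g⁻¹ ∈ U
      rw [← hg ⟨x, Subgroup.mem_sup_right hx⟩]
      exact hψU.le (mem_map_subgroupOf.2 ⟨x, _, hx, rfl⟩)
    have hφg : ∀ x : R, φ x = g * x * g⁻¹ := fun x =>
      (hψe x).symm.trans (hg (Subgroup.inclusion le_sup_left x))
    have hUn' := hUn
    rw [hFdef, groupFusionSystem_eq] at hUn'
    obtain ⟨T, hT⟩ := exists_sylow_normalizer (K := Subgroup.normalizer (U : Set G)) hS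
      (pConjInto_sylow P) (fun g => ⟨fun h => ⟨Subgroup.mem_top g, h⟩, fun h => h.2⟩) hUn'
    obtain ⟨x, hx, hxa⟩ := hloc U hUn.1 hU hΦU T
      (by rw [hT]; exact Subgroup.map_subgroupOf_eq_of_le inf_le_right) R hR g hgU
      (by rintro _ ⟨r, hr, rfl⟩
          show g * r * g⁻¹ ∈ normalizerIn (P : Subgroup G) U
          rw [show g * r * g⁻¹ = φ ⟨r, hr⟩ from (hφg ⟨r, hr⟩).symm]
          exact hv _)
    set W' := W (D ⊓ normalizerIn (P : Subgroup G) U)
    have hW'S : W' ≤ (P : Subgroup G) := (hWle _).trans (inf_le_left.trans hD.1)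
    have hTN : normalizerIn (P : Subgroup G) U ≤ normalizerIn (P : Subgroup G) W' := fun y hy =>
      ⟨normalizerIn_le U hy, hnormT U ⟨normalizerIn_le U hy, Subgroup.le_normalizer hy⟩⟩
    have hRS : R ≤ (P : Subgroup G) := hR.trans (normalizerIn_le U)
    have hv' : ∀ y : (R ⊔ W' : Subgroup G), conjHom (R ⊔ W') x y ∈ (P : Subgroup G) := by
      intro y
      have h1 : (R ⊔ W').map (MulAut.conj x).toMonoidHom ≤ (P : Subgroup G) := by
        rw [Subgroup.map_sup, sup_le_iff]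
        refine ⟨?_, ?_⟩
        · rintro _ ⟨r, hr, rfl⟩
          show x * r * x⁻¹ ∈ (P : Subgroup G)
          rw [← hxa r hr, ← hφg ⟨r, hr⟩]
          exact hom_mem hφF _
        · rintro _ ⟨r, hr, rfl⟩
          exact hW'S ((Subgroup.mem_normalizer_iff.1 hx r).1 hr)
      exact h1 ⟨y, y.2, rfl⟩
    exact ⟨hφF, fun r hr => hTN (hR hr), fun y => hTN (hv y), conjHom (R ⊔ W') x,
      ⟨sup_le hRS hW'S, hv', x, fun _ => rfl⟩, fun r => ((hφg r).trans (hxa r r.2)).symm,
      map_eq_of_conj (s := x) hx fun _ => rfl⟩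
  obtain ⟨N, hN, -⟩ := exists_normalizerPart.{u, 0} (F := F) hS hF hWD hWn
  refine isNormal_of_le_normalizerHom hWD fun R φ hφ => ?_
  rw [← hN]
  refine le_of_local_of_pred hS hF N Φ hΦ hal (fun U hΦU hUn hU hT R ψ hψ => ?_)
    (fun U hΦU hUn hU hT => ?_) R hφ
  · have h1 := hmain U hΦU hUn hU R hψ
    rw [hT, inf_eq_left.2 hD.1] at h1
    rw [hN]
    exact h1
  · have hTS := normalizerIn_le (S := (P : Subgroup G)) U
    refine ⟨_, hΦW U hUn.1 hΦU, (hWle _).trans (inf_le_left.trans hD.1),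
      hWne _ (hS.to_le (inf_le_left.trans hD.1))
        (inf_normalizerIn_ne_bot hS (stronglyClosed_groupFusionSystem hD) hD0 hUn.1), ?_,
      hmain U hΦU hUn hU⟩
    exact lt_of_lt_of_le (lt_normalizerIn hS (lt_of_le_of_ne hTS hT)) fun g hg =>
      ⟨hg.1, hnormT U hg⟩

/-- Both `Z(J(D))` and `Ω₁(Z(J(D)))` control strong fusion in a normalizer `p`-stable group with
`p`-constrained local subgroups. -/
theorem controls_zj_of_pConstrained_locals (h2 : p ≠ 2) (P : Sylow p G)
    (hst : IsNormalizerPStable p G)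
    (hc : ∀ U : Subgroup G, U ≤ (P : Subgroup G) → U ≠ ⊥ →
      IsPConstrained p ↥(Subgroup.normalizer (U : Set G)))
    {D : Subgroup G} (hD : IsStronglyClosed D (P : Subgroup G))
    (W : ∀ (H : Type u) [Group H], Subgroup H → Subgroup H)
    (hmap : GlaubermanZJ.MapCompat W) (hle : ∀ (H : Type u) [Group H] (S : Subgroup H), W H S ≤ S)
    (hne : ∀ (H : Type u) [Group H] [Finite H] (S : Subgroup H), IsPGroup p S → S ≠ ⊥ → W H S ≠ ⊥)
    (hnorm : ∀ (H : Type u) [Group H] [Finite H] (Q : Sylow p H) (E : Subgroup H),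
      IsStronglyClosed E (Q : Subgroup H) →
      Subgroup.centralizer (pCore p H : Set H) ≤ pCore p H →
      (∀ (V : Subgroup H) [V.Normal], IsPGroup p V → IsPStableOn p V) → (W H E).Normal)
    (A : Set G) (hA : A ⊆ (P : Subgroup G)) :
    ControlsStrongFusionOf (Subgroup.normalizer (W G D : Set G)) (P : Subgroup G) A := by
  refine controls_of_local P (W G) (hle G) (hne G)
    (fun E => GlaubermanZJ.normalizer_le_normalizer_functor hmap E) hD (fun _ => True)
    (fun _ _ _ h => h) (fun _ _ => trivial) (fun _ _ _ => trivial) (fun U hUS hU _ => ?_)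
    A hA
  set M := Subgroup.normalizer (U : Set G)
  intro R hR B hB g hg hgB
  have hTM : normalizerIn (P : Subgroup G) U ≤ M := inf_le_right
  have hmem : ∀ y : M, (y : G) ∈ normalizerIn (P : Subgroup G) U → y ∈ (R : Subgroup M) := fun y hy => by
    obtain ⟨z, hz, hzy⟩ := hR.ge hy
    rwa [← Subtype.ext hzy]
  set E := (D ⊓ normalizerIn (P : Subgroup G) U).subgroupOf M with hE
  have hEmap : E.map M.subtype = D ⊓ normalizerIn (P : Subgroup G) U :=
    Subgroup.map_subgroupOf_eq_of_le (inf_le_right.trans hTM)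
  have hEsc : IsStronglyClosed E (R : Subgroup M) := by
    refine ⟨fun y hy => hmem y hy.2, fun y hy z hz => ?_⟩
    have h1 : ((z * y * z⁻¹ : M) : G) ∈ normalizerIn (P : Subgroup G) U := hR.le ⟨_, hz, rfl⟩
    exact ⟨hD.2 (y : G) hy.1 (z : G) (normalizerIn_le U h1), h1⟩
  have hinj : ∀ E' ≤ (R : Subgroup M), Set.InjOn (QuotientGroup.mk' (pPrimeCore p M)) E' := by
    intro E' hE'
    intro a ha b hb hab
    have hd := disjoint_iff.mp (Cfsg.Lib.Coprime.disjoint_of_coprime_card (by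
      obtain ⟨k, hk⟩ := IsPGroup.iff_card.mp R.2
      rw [hk]; exact (Cfsg.Lib.Core.pPrimeCore_coprime p M).pow_right k) :
        Disjoint (pPrimeCore p M) (R : Subgroup M))
    have h5 : a⁻¹ * b ∈ pPrimeCore p M ⊓ (R : Subgroup M) :=
      ⟨QuotientGroup.eq.1 hab, (R : Subgroup M).mul_mem ((R : Subgroup M).inv_mem (hE' ha)) (hE' hb)⟩
    rw [hd, Subgroup.mem_bot, inv_mul_eq_one] at h5
    exact h5
  obtain ⟨x, hx, hxa⟩ := exists_mem_normalizer_zj_of_pConstrained h2 hst M (hc U hUS hU) R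
    (W M) (W _)
    (fun E' hE' => hmap M _ _ E' (hinj E' hE'))
    (hle M) (fun E' hE' => hE'.trans (GlaubermanZJ.normalizer_le_normalizer_functor hmap E'))
    (fun Q E' h1 h2 h3 => hnorm _ Q E' h3 h1 h2) hEsc (A := {y : M | (y : G) ∈ B})
    (fun y hy => hmem y (hB hy)) ⟨g, hg⟩
    (by rintro _ ⟨y, hy, rfl⟩; exact hmem _ (hgB ⟨y, hy, rfl⟩))
  · refine ⟨x, ?_, fun a ha => congrArg Subtype.val (hxa ⟨a, hTM (hB ha)⟩ ha)⟩
    have h1 := Subgroup.le_normalizer_map M.subtype ⟨x, hx, rfl⟩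
    rw [hmap M G M.subtype E M.subtype_injective.injOn, hEmap] at h1
    exact h1

/-- `Z(J(S))` controls strong fusion when no normalizer of a subgroup containing `Z(S)` involves
`SL₂(p)`. -/
theorem controls_zj_of_locally_SL2_free (h2 : p ≠ 2) (P : Sylow p G)
    (hfree : ∀ U : Subgroup G, (P : Subgroup G) ⊓ Subgroup.centralizer ((P : Subgroup G) : Set G) ≤ U →
      U ≤ (P : Subgroup G) →
      ¬ Involves (Matrix.SpecialLinearGroup (Fin 2) (ZMod p)) ↥(Subgroup.normalizer (U : Set G)))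
    (A : Set G) (hA : A ⊆ (P : Subgroup G)) :
    ControlsStrongFusionOf (Subgroup.normalizer (centerThompsonAOf (P : Subgroup G) : Set G))
      (P : Subgroup G) A := by
  set F := groupFusionSystem (P : Subgroup G)
  set Z := (P : Subgroup G) ⊓ Subgroup.centralizer ((P : Subgroup G) : Set G) with hZ
  have hmap : GlaubermanZJ.MapCompat.{u} fun _ _ S => centerThompsonAOf S :=
    fun _ _ _ _ _ f S hf => GlaubermanZJ.map_centerThompsonAOf' f S hf
  refine controls_of_local P centerThompsonAOf (fun E => inf_le_left.trans (Subgroup.map_subtype_le _))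
    (fun E hE hne => GlaubermanZJ.centerThompsonAOf_ne_bot hE hne)
    (fun E => GlaubermanZJ.normalizer_le_normalizer_functor hmap E)
    (isStronglyClosed_self _) (fun U => ¬ Involves (Matrix.SpecialLinearGroup (Fin 2) (ZMod p))
      ↥(Subgroup.normalizer (U : Set G))) ?_ ?_ ?_ ?_ A hA
  · rintro X Y ⟨φ, ⟨-, -, g, hg⟩, rfl⟩ hX hY
    refine hX (involves_of_injective (f := ((MulAut.conj g⁻¹).toMonoidHom.comp
      (Subgroup.normalizer (φ.range : Set G)).subtype).codRestrict _ fun y => ?_) ?_ hY)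
    · refine Subgroup.mem_normalizer_fintype fun z hz => ?_
      have h1 : φ ⟨z, hz⟩ ∈ φ.range := ⟨_, rfl⟩
      obtain ⟨w, hw⟩ := (Subgroup.mem_normalizer_iff.1 y.2 _).1 h1
      show g⁻¹ * y * g⁻¹⁻¹ * z * (g⁻¹ * y * g⁻¹⁻¹)⁻¹ ∈ X
      rw [show g⁻¹ * (y : G) * g⁻¹⁻¹ * z * (g⁻¹ * y * g⁻¹⁻¹)⁻¹ = (w : G) from ?_]
      · exact w.2
      rw [hg, hg] at hw
      have h2 : (w : G) = g⁻¹ * (g * w * g⁻¹) * g := by group
      rw [h2, hw]
      group
    · intro a b hab
      exact Subtype.ext ((MulAut.conj g⁻¹).injective (congrArg Subtype.val hab))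
  · intro U hU
    rcases hU with rfl | hU
    · exact hfree _ inf_le_left le_rfl
    · have hc : centralizerIn (P : Subgroup G) U ≤ U := hU.1.2 U (isConj_refl _ hU.1.1)
      refine hfree U (fun z hz => hc (mem_centralizerIn.2 ⟨hz.1, ?_⟩)) hU.1.1
      exact fun x hx => (Subgroup.mem_centralizer_iff.1 (Subgroup.centralizer_le hU.1.1 hz.2) x hx).symm
  · intro U hUS _
    set T := (P : Subgroup G) ⊓ normalizerIn (P : Subgroup G) U
    have hTP : T ≤ (P : Subgroup G) := inf_le_left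
    have hZT : Z ≤ T := fun z hz => ⟨hz.1, hz.1,
      Subgroup.centralizer_le_normalizer _ (Subgroup.centralizer_le hUS hz.2)⟩
    haveI := finite_of_le hTP
    refine hfree _ (fun z hz => ?_) ((inf_le_left.trans (Subgroup.map_subtype_le _)).trans hTP)
    have hcom : ∀ t ∈ T, t * z = z * t := fun t ht => Subgroup.mem_centralizer_iff.1 hz.2 t (hTP ht)
    obtain ⟨B, hB⟩ := GlaubermanZJ.exists_isMaxAbIn T
    refine ⟨?_, Subgroup.mem_centralizer_iff.2 fun t ht => hcom t (Subgroup.map_subtype_le _ ht)⟩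
    show z ∈ thompsonSubgroupAOf T
    rw [GlaubermanZJ.thompsonSubgroupAOf_eq]
    exact (le_sSup (show B ∈ {B | GlaubermanZJ.IsMaxAbIn T B} from hB))
      (hB.mem_of_commute (hZT hz) fun a ha => (hcom a (hB.1 ha)).symm)
  · intro U hUS hU hΦU
    set M := Subgroup.normalizer (U : Set G) with hM
    intro R hR B hB g hg hgB
    have hTP : normalizerIn (P : Subgroup G) U ≤ (P : Subgroup G) := normalizerIn_le U
    rw [inf_eq_right.2 hTP]
    have hTM : normalizerIn (P : Subgroup G) U ≤ M := inf_le_right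
    have hmem : ∀ y : M, (y : G) ∈ normalizerIn (P : Subgroup G) U → y ∈ (R : Subgroup M) := fun y hy => by
      obtain ⟨z, hz, hzy⟩ := hR.ge hy
      rwa [← Subtype.ext hzy]
    obtain ⟨-, hfus⟩ := controls_zj_of_qdFree h2 R (not_involves_qd_of_not_involves_SL2 hΦU)
      (isStronglyClosed_self _) {y : M | (y : G) ∈ B} (fun y hy => hmem y (hB hy))
    obtain ⟨x, hx, hxa⟩ := hfus ⟨g, hg⟩
      (by rintro _ ⟨y, hy, rfl⟩; exact hmem _ (hgB ⟨y, hy, rfl⟩))
    refine ⟨x, ?_, fun a ha => congrArg Subtype.val (hxa ⟨a, hTM (hB ha)⟩ ha)⟩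
    have h1 := Subgroup.le_normalizer_map M.subtype ⟨x, hx, rfl⟩
    rw [GlaubermanZJ.map_centerThompsonAOf' M.subtype _ M.subtype_injective.injOn, hR] at h1
    exact h1

end Cfsg.Lib.FusionSys
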