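import Cfsg.Agent.Lib.FusionSys.AltSimpleTwo
import Cfsg.Agent.Lib.LyReal.Sims
import Cfsg.Agent.S0215

/-!
# The 2-fusion system of the Lyons group is simple

Everything takes place inside the double cover of the alternating group of degree eleven.
-/

set_option autoImplicit false
set_option linter.style.haveILetI false

namespace Cfsg.Lib.FusionSys.LyonsSimple

open Equiv Cfsg Cfsg.FusionSystem Cfsg.Lib.FusionSys Cfsg.Lib.FusionSys.AltWreath

/-- The eleven points, five blocks and a fixed point. -/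
abbrev X11 := Pt 2 (Fin 5) (Fin 1)

local instance : Fact (Nat.Prime 2) := ⟨Nat.prime_two⟩

theorem cycleType_eq_of_sq {α : Type*} [Fintype α] [DecidableEq α] {σ τ : Perm α} (hσ : σ ^ 2 = 1)
    (hτ : τ ^ 2 = 1) (h : σ.support.card = τ.support.card) : σ.cycleType = τ.cycleType := by
  have h1 := Perm.cycleType_of_pow_prime_eq_one hσ
  have h2 := Perm.cycleType_of_pow_prime_eq_one hτ
  have e1 := σ.sum_cycleType
  have e2 := τ.sum_cycleType
  rw [h1, Multiset.sum_replicate, smul_eq_mul] at e1
  rw [h2, Multiset.sum_replicate, smul_eq_mul] at e2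
  rw [h1, h2, show Multiset.card σ.cycleType = Multiset.card τ.cycleType by omega]

/-- Two even involutions moving four points are conjugate in the alternating group. -/
theorem isConj_four (a b : alternatingGroup X11) (ha : (a : Perm X11) ^ 2 = 1) (hb : (b : Perm X11) ^ 2 = 1)
    (ha4 : (a : Perm X11).support.card = 4) (hb4 : (b : Perm X11).support.card = 4) : _root_.IsConj a b :=
  alternatingGroup.isConj_of (Perm.isConj_iff_cycleType_eq.2 (cycleType_eq_of_sq ha hb (by rw [ha4, hb4])))
    (by rw [ha4]; simp)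

theorem isSimple_of_double_cover {G : Type*} [Group G] [Finite G] [IsSimpleGroup G]
    (hna : ∃ a b : G, a * b ≠ b * a) (hG : (Nat.card G).factorization 2 = 8) (z : G) (hz : orderOf z = 2)
    (C : Subgroup G) (hC : ∀ x, x ∈ C ↔ x * z = z * x) (π : ↥C →* ↥(alternatingGroup X11)) (hπ : Function.Surjective π)
    (hker : ∀ c, π c = 1 ↔ (c : G) = 1 ∨ (c : G) = z)
    (hw : ∃ w, (π w : Perm X11) ^ 2 = 1 ∧ (π w : Perm X11).support.card = 4 ∧ (w : G) * w = z)
    {H : Type*} [Group H] [Finite H] (e : G ≃* H) (S : Sylow 2 H) :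
    (Cfsg.groupFusionSystem (S : Subgroup H)).IsSimple 2 := by
  classical
  have hz2 : z * z = 1 := by rw [← pow_two, ← hz]; exact pow_orderOf_eq_one z
  have hz1 : z ≠ 1 := fun h => by rw [h, orderOf_one] at hz; exact absurd hz (by norm_num)
  set zC : C := ⟨z, (hC _).2 rfl⟩ with hzC
  -- the chosen Sylow subgroup of the alternating group
  set b₀ : Fin 5 := ⟨0, by omega⟩
  set b₁ : Fin 5 := ⟨1, by omega⟩
  have hb : b₀ ≠ b₁ := fun h => absurd (congrArg Fin.val h) (by simp [b₀, b₁])
  have hp2 : IsPGroup 2 (Subgroup.zpowers (Equiv.swap b₀ b₁)) := by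
    refine IsPGroup.of_card (n := 1) ?_
    rw [Nat.card_zpowers, pow_one]
    exact orderOf_eq_prime (by rw [pow_two, Equiv.swap_mul_self]) (by simpa [Equiv.swap_eq_one_iff] using hb)
  obtain ⟨P5, hP5⟩ := hp2.exists_le_sylow
  have hswap : Equiv.swap b₀ b₁ ∈ (P5 : Subgroup (Perm (Fin 5))) := hP5 (Subgroup.mem_zpowers _)
  obtain ⟨W, hW⟩ := exists_sylow_wr (p := 2) (ι := Fin 1) (by rw [Nat.card_fin]; omega) P5
  obtain ⟨Q, hQ⟩ := exists_sylow_alt W
  rw [hW] at hQ
  have hmemQ : ∀ {y : alternatingGroup X11}, y ∈ (Q : Subgroup (alternatingGroup X11)) ↔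
      (y : Perm X11) ∈ wr 2 (Fin 1) (P5 : Subgroup (Perm (Fin 5))) := fun {y} => by rw [hQ]; rfl
  have hNQ := Two.normalizer_eq (r := 1) (by norm_num : 3 ≤ 5) le_rfl P5 _ hQ
  -- its preimage
  have hkerp : IsPGroup 2 π.ker := fun c => ⟨1, Subtype.ext <| Subtype.ext <| by
    rcases (hker c.1).1 c.2 with h | h <;> simp [pow_two, h, hz2]⟩
  set PC : Subgroup C := (Q : Subgroup (alternatingGroup X11)).comap π with hPCdef
  have hPC : IsPGroup 2 PC := Q.isPGroup'.comap_of_ker_isPGroup π hkerp
  have hkcard : Nat.card π.ker = 2 := by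
    have hk : π.ker = Subgroup.zpowers zC := by
      refine le_antisymm (fun c hc => ?_) (Subgroup.zpowers_le.2 ((hker zC).2 (Or.inr rfl)))
      rcases (hker c).1 hc with h | h
      · rw [show c = 1 from Subtype.ext h]; exact one_mem _
      · rw [show c = zC from Subtype.ext h]; exact Subgroup.mem_zpowers _
    rw [hk, Nat.card_zpowers, ← Subgroup.orderOf_coe zC]
    exact hz
  have hQcard : Nat.card (Q : Subgroup (alternatingGroup X11)) = 2 ^ 7 := by
    rw [Q.card_eq_multiplicity]
    haveI : Nontrivial X11 := ⟨⟨Sum.inr 0, Sum.inl (0, 0), by simp⟩⟩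
    have h2 := two_mul_nat_card_alternatingGroup (α := X11)
    rw [Nat.card_perm, show Nat.card X11 = 11 by simp [Nat.card_eq_fintype_card],
      show Nat.factorial 11 = 2 * (2 ^ 7 * 155925) by decide] at h2
    rw [show Nat.card (alternatingGroup X11) = 2 ^ 7 * 155925 by omega,
      Nat.factorization_mul (by norm_num) (by norm_num), Finsupp.add_apply,
      Nat.Prime.factorization_pow Nat.prime_two, Finsupp.single_eq_same,
      Nat.factorization_eq_zero_of_not_dvd (by norm_num : ¬ 2 ∣ 155925)]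
  have hPCcard : Nat.card PC = 2 ^ 8 := by
    have h1 : PC.index = (Q : Subgroup (alternatingGroup X11)).index := Subgroup.index_comap_of_surjective _ hπ
    have h2 := Subgroup.card_mul_index PC
    have h3 := Subgroup.card_mul_index (Q : Subgroup (alternatingGroup X11))
    have h4 := Subgroup.card_eq_card_quotient_mul_card_subgroup π.ker
    rw [hkcard, Nat.card_congr (QuotientGroup.quotientKerEquivOfSurjective π hπ).toEquiv, ← h3, hQcard] at h4
    rw [h1, h4] at h2
    have := Subgroup.index_ne_zero_of_finite (H := (Q : Subgroup (alternatingGroup X11)))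
    nlinarith [Nat.pos_of_ne_zero this]
  let P : Sylow 2 G := Sylow.ofCard (PC.map C.subtype) (by
    rw [Nat.card_congr (Subgroup.equivMapOfInjective PC C.subtype C.subtype_injective).symm.toEquiv, hPCcard, hG])
  have hmemP : ∀ {x : G}, x ∈ (P : Subgroup G) ↔
      ∃ hx : x ∈ C, π ⟨x, hx⟩ ∈ (Q : Subgroup (alternatingGroup X11)) := by
    intro x
    rw [show (P : Subgroup G) = PC.map C.subtype from Sylow.coe_ofCard _ _]
    constructor
    · rintro ⟨⟨y, hy⟩, hyP, rfl⟩
      exact ⟨hy, hyP⟩
    · rintro ⟨hx, h⟩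
      exact ⟨⟨x, hx⟩, h, rfl⟩
  have hzP : z ∈ (P : Subgroup G) := hmemP.2 ⟨zC.2, by
    rw [show π ⟨z, zC.2⟩ = 1 from (hker zC).2 (Or.inr rfl)]; exact one_mem _⟩
  have hPz : ∀ x ∈ (P : Subgroup G), z * x = x * z := fun x hx =>
    ((hC _).1 (hmemP.1 hx).1).symm
  -- the lifts of the involutions moving four points
  have hfour : ∀ c : C, (π c : Perm X11) ^ 2 = 1 → (π c : Perm X11).support.card = 4 → (c : G) * c = z := by
    obtain ⟨w, hw2, hw4, hwz⟩ := hw
    intro c hc2 hc4
    obtain ⟨g, hg⟩ := _root_.isConj_iff.1 (isConj_four (π w) (π c) hw2 hc2 hw4 hc4)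
    obtain ⟨d, rfl⟩ := hπ g
    have hk : π ((d * w * d⁻¹)⁻¹ * c) = 1 := by rw [map_mul, map_inv, map_mul, map_mul, map_inv, hg, inv_mul_cancel]
    have hdz : (d : G) * z * (d : G)⁻¹ = z := by
      rw [(hC _).1 d.2, mul_inv_cancel_right]
    have hsq : ((d * w * d⁻¹ : C) : G) * (d * w * d⁻¹ : C) = z := by
      push_cast
      calc (d : G) * w * (d : G)⁻¹ * (d * w * (d : G)⁻¹) = d * (w * w) * (d : G)⁻¹ := by group
        _ = z := by rw [hwz, hdz]
    have hcz : (c : G) * z = z * c := (hC _).1 c.2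
    rcases (hker _).1 hk with h | h
    · push_cast at h hsq
      rw [inv_mul_eq_one] at h
      rw [← h]; exact hsq
    · push_cast at h hsq
      have e1 : (c : G) * z = d * w * (d : G)⁻¹ := by
        rw [inv_mul_eq_iff_eq_mul] at h
        rw [h, mul_assoc, hz2, mul_one]
      calc (c : G) * c = (c * z) * (c * z) := by
            rw [show (c : G) * z * (c * z) = c * (z * c) * z by group, ← hcz, mul_assoc (c : G), mul_assoc (c : G) z z,
              hz2, mul_one]
        _ = z := by rw [e1]; exact hsq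
  -- the central involutions
  have hcentral : ∀ u : G, u * u = 1 → u ≠ 1 → u ∈ (P : Subgroup G) →
      (∀ x ∈ (P : Subgroup G), x * u = u * x) → u = z := by
    intro u hu2 hu1 huP hucom
    obtain ⟨huC, huQ⟩ := hmemP.1 huP
    set uC : C := ⟨u, huC⟩ with huCdef
    by_contra huz
    have hu : π uC ≠ 1 := fun h => by rcases (hker uC).1 h with h | h; exacts [hu1 h, huz h]
    have hQcom : ∀ y ∈ (Q : Subgroup (alternatingGroup X11)), π uC * y = y * π uC := by
      intro y hy
      obtain ⟨c, rfl⟩ := hπ y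
      rw [← map_mul, ← map_mul, show uC * c = c * uC from Subtype.ext (hucom c (hmemP.2 ⟨c.2, hy⟩)).symm]
    obtain ⟨f, hf⟩ := Two.centralizer_even (r := 1) (by norm_num : 3 ≤ 5) le_rfl (c := (π uC : Perm X11))
      fun g hg => congrArg Subtype.val (hQcom ⟨tr g, Perm.mem_alternatingGroup.2 hg⟩ (hmemQ.2 (tr_mem_wr _ _)))
    have hsign : Perm.sign (tr f : Perm X11) = 1 := by rw [← hf]; exact Perm.mem_alternatingGroup.1 (π uC).2
    have hf0 : f ≠ 0 := fun h => hu (Subtype.ext (by rw [hf, h, tr_zero]; rfl))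
    obtain ⟨a, hfa⟩ : ∃ a, f a = 1 := by
      by_contra h
      push Not at h
      exact hf0 (funext fun a => (Two.zmod_two (f a)).resolve_right (h a))
    obtain ⟨b, hfb⟩ : ∃ b, f b = 0 := by
      by_contra h
      push Not at h
      have h1 : f = 1 := funext fun b => (Two.zmod_two (f b)).resolve_left (h b)
      rw [h1] at hsign
      revert hsign
      decide
    have hab : a ≠ b := fun h => by rw [h, hfb] at hfa; exact zero_ne_one hfa
    set y : Fin 5 → ZMod 2 := Pi.single a 1 + Pi.single b 1 with hy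
    obtain ⟨yC, hyC⟩ := hπ ⟨tr y, Perm.mem_alternatingGroup.2 (Two.sign_pair a b)⟩
    have hyv : (π yC : Perm X11) = tr y := by rw [hyC]
    have hy2 : (π yC : Perm X11) ^ 2 = 1 := by rw [hyv, pow_two, ← tr_add, Two.add_self', tr_zero]
    have hy4 : (π yC : Perm X11).support.card = 4 := by
      rw [hyv, support_tr, show (Finset.univ.filter fun c => y c ≠ 0) = {a, b} from
        Finset.ext fun c => by
          simp only [hy, Finset.mem_filter, Finset.mem_univ, true_and, Finset.mem_insert, Finset.mem_singleton,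
            Pi.add_apply, Pi.single_apply]
          by_cases hca : c = a
          · simp [hca, hab]
          · by_cases hcb : c = b <;> simp [hca, hcb, hab.symm], Finset.card_pair hab]
    have hyP : (yC : G) ∈ (P : Subgroup G) := hmemP.2 ⟨yC.2, by
      show π yC ∈ (Q : Subgroup (alternatingGroup X11)); rw [hmemQ, hyv]; exact tr_mem_wr _ _⟩
    obtain ⟨gC, hgC⟩ := hπ ⟨lift (Equiv.swap a b), Perm.mem_alternatingGroup.2 (Two.sign_lift' _)⟩
    have hconj : π (gC * uC * gC⁻¹) = π (uC * yC) := by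
      refine Subtype.ext ?_
      rw [map_mul, map_mul, map_inv, map_mul, hgC, Subgroup.coe_mul, Subgroup.coe_mul, InvMemClass.coe_inv,
        Subgroup.coe_mul, hyv, hf, lift_tr, mul_inv_cancel_right, ← tr_add]
      congr 1
      funext c
      simp only [Function.comp, Equiv.symm_swap, Pi.add_apply, hy, Pi.single_apply]
      by_cases hca : c = a
      · subst hca
        rw [Equiv.swap_apply_left, hfa, hfb, if_pos rfl, if_neg hab]; decide
      · by_cases hcb : c = b
        · subst hcb
          rw [Equiv.swap_apply_right, hfa, hfb, if_neg hca, if_pos rfl]; decide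
        · rw [Equiv.swap_apply_of_ne_of_ne hca hcb, if_neg hca, if_neg hcb, add_zero, add_zero]
    have hsq : ((gC * uC * gC⁻¹ : C) : G) * (gC * uC * gC⁻¹ : C) = 1 := by
      push_cast
      calc (gC : G) * u * (gC : G)⁻¹ * (gC * u * (gC : G)⁻¹) = gC * (u * u) * (gC : G)⁻¹ := by group
        _ = 1 := by rw [hu2]; group
    have hyy := hfour yC hy2 hy4
    have huy : (u : G) * yC = yC * u := (hucom _ hyP).symm
    have hsq' : (u * (yC : G)) * (u * yC) = z := by
      calc (u * (yC : G)) * (u * yC) = u * (yC * u) * yC := by group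
        _ = (u * u) * (yC * yC) := by rw [← huy]; group
        _ = z := by rw [hu2, hyy, one_mul]
    have hk : π ((uC * yC)⁻¹ * (gC * uC * gC⁻¹)) = 1 := by rw [map_mul, map_inv, hconj, inv_mul_cancel]
    rcases (hker _).1 hk with h | h
    · push_cast at h hsq
      rw [inv_mul_eq_one] at h
      rw [← h, hsq'] at hsq
      exact hz1 hsq
    · push_cast at h hsq
      rw [inv_mul_eq_iff_eq_mul] at h
      have hzu : z * (u * (yC : G)) = u * yC * z := by
        rw [hPz _ (mul_mem huP hyP)]
      rw [h, show u * (yC : G) * z * (u * yC * z) = u * yC * (z * (u * yC)) * z by group, hzu,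
        show u * (yC : G) * (u * yC * z) * z = (u * yC * (u * yC)) * (z * z) by group, hsq', hz2, mul_one] at hsq
      exact hz1 hsq
  refine isSimple_of_centric_equiv e P ?_ ?_ ?_ S
  · intro h; rw [h, Subgroup.mem_bot] at hzP; exact hz1 hzP
  · -- strongly closed subgroups
    intro T hTP hT0 hcl
    set TA : Subgroup (alternatingGroup X11) := (T.subgroupOf C).map π with hTA
    have hTC : T ≤ C := fun t ht => (hmemP.1 (hTP ht)).1
    have hTAcl : ∀ t ∈ TA, ∀ g : alternatingGroup X11,
        ((g * t * g⁻¹ : alternatingGroup X11) : Perm X11) ∈ wr 2 (Fin 1) (P5 : Subgroup (Perm (Fin 5))) →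
        g * t * g⁻¹ ∈ TA := by
      rintro _ ⟨t, ht, rfl⟩ g hg
      obtain ⟨d, rfl⟩ := hπ g
      rw [← map_inv, ← map_mul, ← map_mul] at hg ⊢
      refine ⟨d * t * d⁻¹, ?_, rfl⟩
      have h1 := hcl (t : G) ht (d : G) (hmemP.2 ⟨(d * t * d⁻¹).2, hmemQ.2 hg⟩)
      exact h1
    -- not every element maps to one
    have hne : TA ≠ ⊥ := by
      intro hTA0
      have hsub : ∀ t ∈ T, t = 1 ∨ t = z := fun t ht => (hker ⟨t, hTC ht⟩).1 (Subgroup.mem_bot.1 (hTA0 ▸
        Subgroup.mem_map_of_mem π (show (⟨t, hTC ht⟩ : C) ∈ T.subgroupOf C from ht)))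
      obtain ⟨t, ht, ht1⟩ := (Subgroup.bot_or_exists_ne_one T).resolve_left hT0
      have hzT : z ∈ T := ((hsub t ht).resolve_left ht1) ▸ ht
      -- the involution is not isolated
      obtain ⟨g, hgP, hgz⟩ : ∃ g : G, g * z * g⁻¹ ∈ (P : Subgroup G) ∧ g * z * g⁻¹ ≠ z := by
        by_contra h
        push Not at h
        obtain ⟨N, hN, hNodd, hNc⟩ := Cfsg.Agent.S0215.result P z hz hzP h
        rcases hN.eq_bot_or_eq_top with rfl | rfl
        · have hzc : z ∈ Subgroup.center G := Subgroup.mem_center_iff.2 fun g => by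
            have h1 := Subgroup.mem_bot.1 (hNc g)
            calc g * z = (z * g * z⁻¹ * g⁻¹) * (g * z) := by rw [h1, one_mul]
              _ = z * g := by group
          rcases (inferInstance : (Subgroup.center G).Normal).eq_bot_or_eq_top with hc | hc
          · exact hz1 (Subgroup.mem_bot.1 (hc ▸ hzc))
          · obtain ⟨a, b, hab⟩ := hna
            exact hab (Subgroup.mem_center_iff.1 (hc ▸ Subgroup.mem_top b) a)
        · rw [Subgroup.card_top] at hNodd
          exact hNodd.not_two_dvd_nat (hz ▸ orderOf_dvd_natCard z)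
      rcases hsub _ (hcl z hzT g hgP) with h | h
      · exact hz1 (by simpa using h)
      · exact hgz h
    have hfull : ∀ x : alternatingGroup X11, x ∈ (Q : Subgroup (alternatingGroup X11)) → x ∈ TA := by
      intro x hx
      have h1 := Two.eq_top_of_closed (r := 1) (by norm_num : 3 ≤ 5) le_rfl P5 hb hswap
        (TA.map (alternatingGroup X11).subtype) ?_ ?_ ?_ (x : Perm X11) (hmemQ.mp hx)
        (Perm.mem_alternatingGroup.mp x.2)
      · obtain ⟨y, hy, hyx⟩ := h1
        rwa [← Subtype.ext hyx]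
      · rintro _ ⟨_, ⟨t, ht, rfl⟩, rfl⟩
        exact ⟨hmemQ.mp (hmemP.1 (hTP ht)).2, Perm.mem_alternatingGroup.mp (π t).2⟩
      · exact fun h => hne ((Subgroup.map_eq_bot_iff_of_injective _ (Subgroup.subtype_injective _)).mp h)
      · rintro _ ⟨t, ht, rfl⟩ g hgs hg
        exact ⟨⟨g, Perm.mem_alternatingGroup.mpr hgs⟩ * t * ⟨g, Perm.mem_alternatingGroup.mpr hgs⟩⁻¹,
          hTAcl t ht _ hg, rfl⟩
    have hcover : ∀ x ∈ (P : Subgroup G), x ∈ T ∨ x * z ∈ T := by
      intro x hx
      obtain ⟨hxC, hxQ⟩ := hmemP.1 hx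
      obtain ⟨t, ht, htx⟩ := hfull _ hxQ
      have hk : π (t⁻¹ * ⟨x, hxC⟩) = 1 := by rw [map_mul, map_inv, htx, inv_mul_cancel]
      rcases (hker _).1 hk with h | h
      · left; push_cast at h; rw [inv_mul_eq_one] at h; rw [← h]; exact ht
      · right
        push_cast at h
        rw [inv_mul_eq_iff_eq_mul] at h
        rw [h, mul_assoc, hz2, mul_one]; exact ht
    have hzT : z ∈ T := by
      obtain ⟨w, -, -, hwz⟩ := hw
      -- an element of order four with square the involution, conjugated into the Sylow subgroup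
      have hw4 : (w : G) ^ 4 = 1 := by rw [show (4 : ℕ) = 2 * 2 from rfl, pow_mul, pow_two (w : G), hwz, pow_two, hz2]
      have hwp : IsPGroup 2 (Subgroup.zpowers w) := by
        obtain ⟨k, -, hk⟩ := (Nat.dvd_prime_pow Nat.prime_two).1
          (show orderOf w ∣ 2 ^ 2 from orderOf_dvd_of_pow_eq_one (Subtype.ext (by push_cast; exact hw4)))
        exact IsPGroup.of_card (n := k) (by rw [Nat.card_zpowers, hk])
      obtain ⟨R, hR⟩ := hwp.exists_le_sylow
      have hCfac : (Nat.card C).factorization 2 = 8 := by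
        refine le_antisymm ?_ ((Nat.Prime.pow_dvd_iff_le_factorization Nat.prime_two Nat.card_pos.ne').1
          (hPCcard ▸ Subgroup.card_subgroup_dvd_card PC))
        have := (Nat.factorization_le_iff_dvd Nat.card_pos.ne' Nat.card_pos.ne').2 (Subgroup.card_subgroup_dvd_card C) 2
        omega
      obtain ⟨c, hc⟩ := MulAction.exists_smul_eq C R (Sylow.ofCard PC (by rw [hPCcard, hCfac]))
      have hwR : c * w * c⁻¹ ∈ PC := by
        have h1 : c * w * c⁻¹ ∈ ((c • R : Sylow 2 C) : Subgroup C) := by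
          rw [Sylow.coe_subgroup_smul]; exact ⟨w, hR (Subgroup.mem_zpowers w), rfl⟩
        rw [hc] at h1; exact h1
      have hv : (c : G) * w * (c : G)⁻¹ ∈ (P : Subgroup G) := hmemP.2 ⟨(c * w * c⁻¹).2, hwR⟩
      have hvv : (c : G) * w * (c : G)⁻¹ * (c * w * (c : G)⁻¹) = z := by
        calc (c : G) * w * (c : G)⁻¹ * (c * w * (c : G)⁻¹) = c * (w * w) * (c : G)⁻¹ := by group
          _ = z := by rw [hwz, (hC _).1 c.2, mul_inv_cancel_right]
      set v := (c : G) * w * (c : G)⁻¹
      rcases hcover v hv with h | h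
      · rw [← hvv]; exact mul_mem h h
      · have hvz : v * z = z * v := (hPz v hv).symm
        have h' : v * z * (v * z) = z := by
          rw [show v * z * (v * z) = v * (z * v) * z by group, ← hvz, show v * (v * z) * z = v * v * (z * z) by group,
            hvv, hz2, mul_one]
        rw [← h']; exact mul_mem h h
    refine le_antisymm hTP fun x hx => ?_
    rcases hcover x hx with h | h
    · exact h
    · have := mul_mem h hzT
      rwa [mul_assoc, hz2, mul_one] at this
  · -- the normalizer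
    intro g hg
    have hgz : g * z * g⁻¹ = z := by
      refine hcentral _ ?_ ?_ ((Subgroup.mem_normalizer_iff.1 hg z).1 hzP) fun x hx => ?_
      · rw [show g * z * g⁻¹ * (g * z * g⁻¹) = g * (z * z) * g⁻¹ by group, hz2]; group
      · intro h; exact hz1 (by simpa using h)
      · have hx' : g⁻¹ * x * g ∈ (P : Subgroup G) := (Subgroup.mem_normalizer_iff.1 hg _).2 (by
          rwa [show g * (g⁻¹ * x * g) * g⁻¹ = x by group])
        calc x * (g * z * g⁻¹) = g * ((g⁻¹ * x * g) * z) * g⁻¹ := by group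
          _ = g * (z * (g⁻¹ * x * g)) * g⁻¹ := by rw [hPz _ hx']
          _ = g * z * g⁻¹ * x := by group
    have hgC : g ∈ C := (hC _).2 (by
      rw [mul_inv_eq_iff_eq_mul] at hgz; exact hgz)
    have hgn : π ⟨g, hgC⟩ ∈ Subgroup.normalizer ((Q : Subgroup (alternatingGroup X11)) : Set (alternatingGroup X11)) :=
      Subgroup.mem_normalizer_fintype fun q hq => by
        obtain ⟨d, rfl⟩ := hπ q
        rw [← map_inv, ← map_mul, ← map_mul]
        obtain ⟨h1, h2⟩ := hmemP.1 ((Subgroup.mem_normalizer_iff.1 hg (d : G)).1 (hmemP.2 ⟨d.2, hq⟩))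
        exact h2
    exact Subgroup.subset_closure (Or.inl (hmemP.2 ⟨hgC, hNQ hgn⟩))

/-- The 2-fusion system of a group isomorphic to the Lyons group is simple. -/
theorem isSimple_ly {H : Type*} [Group H] [Finite H] (hH : Cfsg.Spor.IsoLy H) (S : Sylow 2 H) :
    (Cfsg.groupFusionSystem (S : Subgroup H)).IsSimple 2 := by
  classical
  obtain ⟨e⟩ := hH
  haveI := Cfsg.Lib.LyReal.finite_ly
  haveI := Cfsg.Lib.LyReal.ly_simple
  obtain ⟨π, hπ, hker, htri⟩ := Cfsg.Lib.LyReal.exists_cover
  let χ : Fin 11 ≃ X11 := Fintype.equivOfCardEq (by simp)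
  have hsupp : (((Cfsg.Lib.LyReal.tri11 0 * Cfsg.Lib.LyReal.tri11 1 : alternatingGroup (Fin 11))) : Perm (Fin 11)).support.card = 4 := by
    decide +kernel
  have hsq : (((Cfsg.Lib.LyReal.tri11 0 * Cfsg.Lib.LyReal.tri11 1 : alternatingGroup (Fin 11))) : Perm (Fin 11)) ^ 2 = 1 := by
    decide +kernel
  refine isSimple_of_double_cover ?_ ?_ Cfsg.Lib.LyReal.tau Cfsg.Lib.LyReal.tau_order
    _ (fun x => Subgroup.mem_centralizer_singleton_iff)
    (χ.altCongrHom.toMonoidHom.comp π) (χ.altCongrHom.surjective.comp hπ) ?_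
    ⟨Cfsg.Lib.LyReal.triC 0 * Cfsg.Lib.LyReal.triC 1, ?_, ?_, ?_⟩ e.symm S
  · by_contra h
    push Not at h
    letI : CommGroup Cfsg.Spor.Ly := { (inferInstance : Group Cfsg.Spor.Ly) with mul_comm := h }
    have := IsSimpleGroup.prime_card (α := Cfsg.Spor.Ly)
    rw [Cfsg.Lib.LyReal.order_index.1] at this
    norm_num at this
  · rw [Cfsg.Lib.LyReal.order_index.1, show (51765179004000000 : ℕ) = 2 ^ 8 * 202207730484375 by norm_num,
      Nat.factorization_mul (by norm_num) (by norm_num), Finsupp.add_apply,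
      Nat.Prime.factorization_pow Nat.prime_two, Finsupp.single_eq_same,
      Nat.factorization_eq_zero_of_not_dvd (by norm_num : ¬ 2 ∣ 202207730484375)]
  · intro c
    show χ.altCongrHom (π c) = 1 ↔ _
    rw [MulEquiv.map_eq_one_iff, ← MonoidHom.mem_ker, hker]
    constructor
    · rintro ⟨k, hk⟩
      have hval : Cfsg.Lib.LyReal.tau ^ k = (c : Cfsg.Spor.Ly) := congrArg Subtype.val hk
      have ht2 : Cfsg.Lib.LyReal.tau ^ (2 : ℤ) = 1 := by
        rw [zpow_ofNat, ← Cfsg.Lib.LyReal.tau_order]; exact pow_orderOf_eq_one _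
      rcases Int.even_or_odd k with ⟨j, rfl⟩ | ⟨j, rfl⟩
      · left; rw [← hval, ← two_mul, zpow_mul, ht2, one_zpow]
      · right; rw [← hval, zpow_add, zpow_mul, ht2, one_zpow, one_mul, zpow_one]
    · rintro (h | h)
      · rw [show c = 1 from Subtype.ext h]; exact one_mem _
      · rw [show c = Cfsg.Lib.LyReal.tauC from Subtype.ext h]; exact Subgroup.mem_zpowers _
  · show (χ.altCongrHom (π _) : Perm X11) ^ 2 = 1
    rw [map_mul π, htri, htri]
    show (χ.permCongr _) ^ 2 = 1
    rw [← Equiv.permCongrHom_coe, ← map_pow, hsq, map_one]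
  · show (χ.altCongrHom (π _) : Perm X11).support.card = 4
    rw [map_mul π, htri, htri, ← hsupp]
    show (χ.permCongr _).support.card = _
    refine (Finset.card_bij (fun a _ => χ a) ?_ (fun a _ b _ h => χ.injective h) ?_).symm
    · intro a ha
      rw [Perm.mem_support] at ha ⊢
      simpa [Equiv.permCongr_apply] using ha
    · intro b hb
      refine ⟨χ.symm b, ?_, χ.apply_symm_apply b⟩
      rw [Perm.mem_support] at hb ⊢
      simp only [Equiv.permCongr_apply] at hb
      intro h
      exact hb (by rw [h, Equiv.apply_symm_apply])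
  · exact congrArg Subtype.val (Cfsg.Lib.LyReal.triC_pair (i := 0) (j := 1) (by decide))

end Cfsg.Lib.FusionSys.LyonsSimple
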