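import Mathlib.GroupTheory.GroupAction.Quotient
import Mathlib.GroupTheory.GroupAction.SubMulAction
import Mathlib.GroupTheory.Sylow
import Mathlib.Data.Fintype.Lattice
import Mathlib.GroupTheory.GroupAction.ConjAct
import Mathlib.Algebra.Group.Action.Sigma
import Mathlib.Algebra.Group.Action.Sum
import Mathlib.Data.Set.Card
import Mathlib.Data.Nat.Prime.Basic
import Mathlib.Algebra.BigOperators.Finprod

/-!
Marks of finite sets with a group action: Burnside's theorem that marks determine the set up to isomorphism,
and a congruence for the marks of the subgroups above a given one.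
-/

set_option autoImplicit false

namespace Cfsg.Lib.FusionSys

open MulAction

variable {G : Type*} [Group G]

/-- The number of points fixed by every element of `E`. -/
noncomputable def mark (X : Type*) [SMul G X] (E : Subgroup G) : ℕ :=
  Nat.card {x : X // ∀ e ∈ E, e • x = x}

theorem mark_pos_iff {X : Type*} [MulAction G X] [Finite X] {E : Subgroup G} :
    0 < mark X E ↔ ∃ x : X, E ≤ stabilizer G x := by
  rw [mark, Nat.card_pos_iff]
  constructor
  · rintro ⟨⟨x, hx⟩, -⟩
    exact ⟨x, fun e he => hx e he⟩
  · rintro ⟨x, hx⟩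
    exact ⟨⟨⟨x, fun e he => hx he⟩⟩, inferInstance⟩

theorem mark_congr {X Y : Type*} [MulAction G X] [MulAction G Y] (f : X ≃ Y)
    (hf : ∀ (g : G) (x : X), f (g • x) = g • f x) (E : Subgroup G) : mark X E = mark Y E := by
  refine Nat.card_congr (f.subtypeEquiv fun x => ?_)
  constructor
  · intro h e he
    rw [← hf, h e he]
  · intro h e he
    apply f.injective
    rw [hf, h e he]

theorem mark_sum {X Y : Type*} [MulAction G X] [MulAction G Y] [Finite X] [Finite Y]
    (E : Subgroup G) : mark (X ⊕ Y) E = mark X E + mark Y E := by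
  rw [mark, mark, mark, ← Nat.card_sum]
  refine Nat.card_congr
    ((Equiv.subtypeSum (p := fun z : X ⊕ Y => ∀ e ∈ E, e • z = z)).trans ?_)
  refine Equiv.sumCongr (Equiv.subtypeEquivRight fun x => ?_) (Equiv.subtypeEquivRight fun y => ?_)
  · simp [Sum.smul_inl]
  · simp [Sum.smul_inr]

/-- The complement of an orbit. -/
def orbitCompl (X : Type*) [MulAction G X] (x : X) : SubMulAction G X where
  carrier := (orbit G x)ᶜ
  smul_mem' g y hy h := hy (by simpa using mem_orbit_of_mem_orbit g⁻¹ h)

theorem mark_split {X : Type*} [MulAction G X] [Finite X] (x : X) (E : Subgroup G) :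
    mark X E = mark (orbit G x) E + mark (orbitCompl (G := G) X x) E := by
  classical
  rw [mark, mark, mark, ← Nat.card_sum]
  refine Nat.card_congr
    { toFun := fun y => if h : (y : X) ∈ orbit G x then Sum.inl ⟨⟨y, h⟩, fun e he =>
          Subtype.ext (y.2 e he)⟩ else Sum.inr ⟨⟨y, h⟩, fun e he => Subtype.ext (y.2 e he)⟩
      invFun := Sum.elim (fun y => ⟨y.1, fun e he => congrArg Subtype.val (y.2 e he)⟩)
        (fun y => ⟨y.1, fun e he => congrArg Subtype.val (y.2 e he)⟩)
      left_inv := fun y => by dsimp only; split_ifs <;> rfl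
      right_inv := fun y => by
        rcases y with ⟨⟨y, hy⟩, h⟩ | ⟨⟨y, hy⟩, h⟩
        · simp [hy]
        · have hy' : y ∉ orbit G x := hy
          simp [hy'] }

theorem exists_orbit_equiv {X Y : Type*} [MulAction G X] [MulAction G Y] {x : X} {y : Y}
    (h : stabilizer G x = stabilizer G y) :
    ∃ f : orbit G x ≃ orbit G y, ∀ (g : G) (z : orbit G x), f (g • z) = g • f z := by
  refine ⟨(orbitEquivQuotientStabilizer G x).trans
    ((Subgroup.quotientEquivOfEq h).trans (orbitEquivQuotientStabilizer G y).symm), fun g z => ?_⟩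
  obtain ⟨q, rfl⟩ := (orbitEquivQuotientStabilizer G x).symm.surjective z
  induction q using QuotientGroup.induction_on with
  | H a =>
    apply Subtype.ext
    have h1 : g • (orbitEquivQuotientStabilizer G x).symm (a : G ⧸ stabilizer G x) =
        (orbitEquivQuotientStabilizer G x).symm ((g * a : G) : G ⧸ stabilizer G x) := by
      apply Subtype.ext
      simp [orbitEquivQuotientStabilizer_symm_apply, mul_smul]
    rw [h1]
    simp only [Equiv.trans_apply, Equiv.apply_symm_apply]
    show (g * a) • y = g • (a • y)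
    exact mul_smul g a y

/-- Burnside: finite sets with the same marks are isomorphic. -/
theorem exists_equiv_of_marks [Finite G] :
    ∀ (n : ℕ) {X Y : Type*} [MulAction G X] [MulAction G Y] [Finite X] [Finite Y],
      Nat.card X ≤ n → (∀ E : Subgroup G, mark X E = mark Y E) →
      ∃ f : X ≃ Y, ∀ (g : G) (x : X), f (g • x) = g • f x := by
  intro n
  induction n with
  | zero =>
    intro X Y _ _ _ _ hX h
    have h0 := Nat.le_zero.1 hX
    have hX' : IsEmpty X := by
      rcases Nat.card_eq_zero.1 h0 with h1 | h1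
      · exact h1
      · exact (h1.not_finite inferInstance).elim
    have hY' : IsEmpty Y := by
      by_contra hne
      obtain ⟨y⟩ := not_isEmpty_iff.1 hne
      have h1 : 0 < mark Y (⊥ : Subgroup G) := mark_pos_iff.2 ⟨y, bot_le⟩
      rw [← h, mark_pos_iff] at h1
      exact hX'.false h1.choose
    exact ⟨Equiv.equivOfIsEmpty X Y, fun g x => isEmptyElim x⟩
  | succ n ih =>
    intro X Y _ _ _ _ hX h
    classical
    by_cases hX' : IsEmpty X
    · exact ih (by simp) h
    haveI : Nonempty X := not_isEmpty_iff.1 hX'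
    obtain ⟨x, hx⟩ := Finite.exists_max fun z : X => Nat.card (stabilizer G z)
    obtain ⟨y, hy⟩ : ∃ y : Y, stabilizer G x ≤ stabilizer G y := by
      rw [← mark_pos_iff, ← h, mark_pos_iff]
      exact ⟨x, le_rfl⟩
    have hst : stabilizer G x = stabilizer G y := by
      obtain ⟨x', hx'⟩ : ∃ x' : X, stabilizer G y ≤ stabilizer G x' := by
        rw [← mark_pos_iff, h, mark_pos_iff]
        exact ⟨y, le_rfl⟩
      exact Subgroup.eq_of_le_of_card_ge hy ((Subgroup.card_le_of_le hx').trans (hx x'))
    obtain ⟨f, hf⟩ := exists_orbit_equiv hst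
    haveI : Finite (orbitCompl (G := G) X x) := Finite.of_injective _ Subtype.val_injective
    haveI : Finite (orbitCompl (G := G) Y y) := Finite.of_injective _ Subtype.val_injective
    have hcard : Nat.card (orbitCompl (G := G) X x) < Nat.card X := by
      refine lt_of_le_of_ne (Nat.card_le_card_of_injective _ Subtype.val_injective) fun he => ?_
      obtain ⟨z, hz⟩ :=
        ((Subtype.val_injective (p := fun z => z ∈ orbitCompl (G := G) X x)).bijective_of_nat_card_le
          he.ge).2 x
      have h2 : (z : X) ∉ orbit G x := z.2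
      rw [hz] at h2
      exact h2 (mem_orbit_self x)
    obtain ⟨f', hf'⟩ := ih (X := orbitCompl (G := G) X x) (Y := orbitCompl (G := G) Y y)
      (by omega) (fun E => by
        have h1 := h E
        rw [mark_split x, mark_split y, mark_congr f hf] at h1
        omega)
    let F : X → Y := fun z => if hz : z ∈ orbit G x then (f ⟨z, hz⟩ : Y) else (f' ⟨z, hz⟩ : Y)
    let F' : Y → X := fun z =>
      if hz : z ∈ orbit G y then (f.symm ⟨z, hz⟩ : X) else (f'.symm ⟨z, hz⟩ : X)
    refine ⟨⟨F, F', fun z => ?_, fun z => ?_⟩, fun g z => ?_⟩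
    · by_cases hz : z ∈ orbit G x
      · simp only [F, F', dif_pos hz, dif_pos (f ⟨z, hz⟩).2, Subtype.coe_eta,
          Equiv.symm_apply_apply]
      · have h1 : (f' ⟨z, hz⟩ : Y) ∉ orbit G y := (f' ⟨z, hz⟩).2
        simp only [F, F', dif_neg hz, dif_neg h1]
        exact congrArg Subtype.val (f'.symm_apply_apply ⟨z, hz⟩)
    · by_cases hz : z ∈ orbit G y
      · simp only [F, F', dif_pos hz, dif_pos (f.symm ⟨z, hz⟩).2, Subtype.coe_eta,
          Equiv.apply_symm_apply]
      · have h1 : (f'.symm ⟨z, hz⟩ : X) ∉ orbit G x := (f'.symm ⟨z, hz⟩).2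
        simp only [F, F', dif_neg hz, dif_neg h1]
        exact congrArg Subtype.val (f'.apply_symm_apply ⟨z, hz⟩)
    · show F (g • z) = g • F z
      by_cases hz : z ∈ orbit G x
      · have hgz : g • z ∈ orbit G x := mem_orbit_of_mem_orbit g hz
        simp only [F, dif_pos hz, dif_pos hgz]
        exact congrArg Subtype.val (hf g ⟨z, hz⟩)
      · have hgz : g • z ∉ orbit G x := (orbitCompl (G := G) X x).smul_mem g hz
        simp only [F, dif_neg hz, dif_neg hgz]
        exact congrArg Subtype.val (hf' g ⟨z, hz⟩)

theorem mark_map_conj {X : Type*} [MulAction G X] (g : G) (E : Subgroup G) :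
    mark X (E.map (MulAut.conj g).toMonoidHom) = mark X E := by
  refine (Nat.card_congr ((MulAction.toPerm g : Equiv.Perm X).subtypeEquiv fun x => ?_)).symm
  constructor
  · rintro h _ ⟨e, he, rfl⟩
    show (g * e * g⁻¹) • g • x = g • x
    rw [← mul_smul, inv_mul_cancel_right, mul_smul, h e he]
  · intro h e he
    have h1 : (g * e * g⁻¹) • g • x = g • x := h _ ⟨e, he, rfl⟩
    rw [← mul_smul, inv_mul_cancel_right, mul_smul] at h1
    exact smul_left_cancel g h1

/-- Burnside's lemma inside a normalizer: the marks above `D` sum to a multiple of `|N|`. -/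
theorem card_dvd_sum_marks [Finite G] {X : Type*} [MulAction G X] [Finite X] {D N : Subgroup G}
    (hDN : D ≤ N) (hN : N ≤ Subgroup.normalizer (D : Set G)) :
    Nat.card N ∣ ∑ᶠ g : N, mark X (D ⊔ Subgroup.zpowers (g : G)) := by
  classical
  haveI := Fintype.ofFinite N
  rw [finsum_eq_sum_of_fintype]
  let Y : SubMulAction N X :=
    { carrier := {x | ∀ e ∈ D, e • x = x}
      smul_mem' := fun g x hx e he => by
        show e • (g : G) • x = (g : G) • x
        have h1 : (g : G)⁻¹ * e * (g : G) ∈ D :=
          (Subgroup.mem_normalizer_iff''.1 (hN g.2) e).1 he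
        have h2 := hx _ h1
        rw [mul_smul, mul_smul, inv_smul_eq_iff] at h2
        exact h2 }
  haveI : Finite Y := Finite.of_injective _ Subtype.val_injective
  haveI := Fintype.ofFinite Y
  haveI := Fintype.ofFinite (Quotient (orbitRel N Y))
  have h := sum_card_fixedBy_eq_card_orbits_mul_card_group N Y
  have heq : ∀ g : N, mark X (D ⊔ Subgroup.zpowers (g : G)) = Fintype.card (fixedBy Y g) := by
    intro g
    rw [← Nat.card_eq_fintype_card]
    refine Nat.card_congr
      { toFun := fun x => ⟨⟨x, fun e he => x.2 e (Subgroup.mem_sup_left he)⟩,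
          Subtype.ext (x.2 g (Subgroup.mem_sup_right (Subgroup.mem_zpowers _)))⟩
        invFun := fun x => ⟨x.1.1, fun e he => ?_⟩
        left_inv := fun x => rfl
        right_inv := fun x => rfl }
    have hle : D ⊔ Subgroup.zpowers (g : G) ≤ stabilizer G (x.1.1 : X) :=
      sup_le (fun e he => x.1.2 e he) (Subgroup.zpowers_le.2 (congrArg Subtype.val x.2))
    exact hle he
  simp only [heq]
  rw [h, Nat.card_eq_fintype_card]
  exact dvd_mul_left _ _

end Cfsg.Lib.FusionSys
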