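import Cfsg.Agent.Lib.FusionSys.SimpleTwoCentral

/-!
A variant of the criterion for the simplicity of a 2-fusion system in which only the square of each automorphism
has to act trivially on the Frattini quotient.
-/

set_option autoImplicit false

namespace Cfsg.Lib.FusionSys

open Cfsg Cfsg.FusionSystem
open scoped commutatorElement

variable {G : Type*} [Group G] [Finite G]

theorem isSimple_two_of_central_sq (S : Sylow 2 G) (hS : (S : Subgroup G) ≠ ⊥) (z : G)
    (hZ : ∀ x ∈ (S : Subgroup G), (∀ y ∈ (S : Subgroup G), x * y = y * x) → x = 1 ∨ x = z)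
    (hgen : ∀ T : Subgroup G, T ≤ (S : Subgroup G) → z ∈ T →
      (∀ x ∈ T, ∀ g : G, g * x * g⁻¹ ∈ (S : Subgroup G) → g * x * g⁻¹ ∈ T) → (S : Subgroup G) ≤ T)
    (haut : ∀ g ∈ Subgroup.normalizer ((S : Subgroup G) : Set G), ∀ x : (S : Subgroup G),
      x.1⁻¹ * (g * (g * x.1 * g⁻¹) * g⁻¹) ∈ (frattini (S : Subgroup G)).map (S : Subgroup G).subtype) :
    (groupFusionSystem (S : Subgroup G)).IsSimple 2 := by
  haveI : Fact (Nat.Prime 2) := ⟨Nat.prime_two⟩
  have hsat := isSaturated_groupFusionSystem S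
  refine isSimple_of_forall hsat hS ?_ ?_
  · intro T hT
    by_cases hT1 : T = ⊥
    · exact Or.inl hT1
    right
    have hcl : ∀ x ∈ T, ∀ g : G, g * x * g⁻¹ ∈ (S : Subgroup G) → g * x * g⁻¹ ∈ T :=
      fun x hx g hgx => conj_mem_of_stronglyClosed S hT hx hgx
    haveI hn : (T.subgroupOf (S : Subgroup G)).Normal := ⟨fun a ha g => by
      show ((g * a * g⁻¹ : (S : Subgroup G)) : G) ∈ T
      push_cast
      exact hcl _ ha _ (g * a * g⁻¹).2⟩
    have hne : T.subgroupOf (S : Subgroup G) ≠ ⊥ := by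
      rw [Ne, Subgroup.subgroupOf_eq_bot, disjoint_iff, inf_eq_left.2 hT.1]
      exact hT1
    obtain ⟨⟨x, hx⟩, hx1⟩ := Subgroup.ne_bot_iff_exists_ne_one.1
      (Cfsg.Lib.PGroup.inf_center_ne_bot S.2 hne)
    replace hx1 : (x : G) ≠ 1 := fun h => hx1 (Subtype.ext (Subtype.ext h))
    rcases hZ x x.2 (fun y hy => congrArg Subtype.val (Subgroup.mem_center_iff.1 hx.2 ⟨y, hy⟩).symm) with h | h
    · exact absurd h hx1
    · exact le_antisymm hT.1 (hgen T hT.1 (h ▸ hx.1) hcl)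
  · intro E _ hEi β hβ
    have hβ' := hβ
    rw [autGroup_groupFusionSystem _ le_rfl, mem_autInducedBy] at hβ'
    obtain ⟨g, -, hg⟩ := hβ'
    have hgN : g ∈ Subgroup.normalizer ((S : Subgroup G) : Set G) := Subgroup.mem_normalizer_fintype fun x hx => by
      show g * x * g⁻¹ ∈ (S : Subgroup G)
      rw [← hg ⟨x, hx⟩]
      exact (β _).2
    have hstab : β ^ 2 ∈ Cfsg.Lib.PGroup.frattiniStab (S : Subgroup G) := fun x => by
      obtain ⟨w, hw, hwe⟩ := haut g hgN x
      rw [← hg x, ← hg (β x)] at hwe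
      rw [pow_two, MulAut.mul_apply, show x⁻¹ * β (β x) = w from Subtype.ext hwe.symm]
      exact hw
    obtain ⟨k, hk⟩ := Cfsg.Lib.PGroup.isPGroup_frattiniStab S.2 ⟨β ^ 2, hstab⟩
    refine autGroup_pElement_mem hEi
      (isFullyAutomized_and_fc_of_fn S.2 hsat (isFullyNormalized_top _)).2 hβ (k := k + 1) ?_
    rw [pow_succ', pow_mul]
    exact congrArg Subtype.val hk

/-- The criterion only has to be verified for one Sylow subgroup. -/
theorem isSimple_two_of_central_conj_sq (P S : Sylow 2 G) (hP : (P : Subgroup G) ≠ ⊥) (z : G)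
    (hZ : ∀ x ∈ (P : Subgroup G), (∀ y ∈ (P : Subgroup G), x * y = y * x) → x = 1 ∨ x = z)
    (hgen : ∀ T : Subgroup G, T ≤ (P : Subgroup G) → z ∈ T →
      (∀ x ∈ T, ∀ g : G, g * x * g⁻¹ ∈ (P : Subgroup G) → g * x * g⁻¹ ∈ T) → (P : Subgroup G) ≤ T)
    (haut : ∀ g ∈ Subgroup.normalizer ((P : Subgroup G) : Set G), ∀ x : (P : Subgroup G),
      x.1⁻¹ * (g * (g * x.1 * g⁻¹) * g⁻¹) ∈ (frattini (P : Subgroup G)).map (P : Subgroup G).subtype) :
    (groupFusionSystem (S : Subgroup G)).IsSimple 2 := by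
  obtain ⟨c, hc⟩ := MulAction.exists_smul_eq G P S
  have hmap : (S : Subgroup G) = (P : Subgroup G).map (MulAut.conj c).toMonoidHom := by
    rw [← hc, Sylow.coe_subgroup_smul]; rfl
  have hin : ∀ {x : G}, x ∈ (S : Subgroup G) → c⁻¹ * x * c ∈ (P : Subgroup G) := fun {x} hx => by
    rw [hmap] at hx
    obtain ⟨y, hy, rfl⟩ := hx
    have h : c⁻¹ * (c * y * c⁻¹) * c = y := by group
    show c⁻¹ * (c * y * c⁻¹) * c ∈ (P : Subgroup G)
    rwa [h]
  have hout : ∀ {x : G}, x ∈ (P : Subgroup G) → c * x * c⁻¹ ∈ (S : Subgroup G) := fun {x} hx => by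
    rw [hmap]; exact ⟨x, hx, rfl⟩
  refine isSimple_two_of_central_sq S ?_ (c * z * c⁻¹) ?_ ?_ ?_
  · intro h
    refine hP (eq_bot_iff.2 fun x hx => ?_)
    have := hout hx
    rw [h, Subgroup.mem_bot] at this
    simpa using this
  · intro x hx hcom
    rcases hZ _ (hin hx) (fun y hy => by
      have := hcom _ (hout hy)
      calc c⁻¹ * x * c * y = c⁻¹ * (x * (c * y * c⁻¹)) * c := by group
        _ = c⁻¹ * ((c * y * c⁻¹) * x) * c := by rw [this]
        _ = y * (c⁻¹ * x * c) := by group) with h | h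
    · left
      calc x = c * (c⁻¹ * x * c) * c⁻¹ := by group
        _ = 1 := by rw [h]; group
    · right
      calc x = c * (c⁻¹ * x * c) * c⁻¹ := by group
        _ = c * z * c⁻¹ := by rw [h]
  · intro T hTS hzT hcl
    have h := hgen (T.comap (MulAut.conj c).toMonoidHom)
      (fun x hx => by simpa [mul_assoc] using hin (hTS hx)) hzT fun x hx g hgx => by
        show c * (g * x * g⁻¹) * c⁻¹ ∈ T
        have he : c * (g * x * g⁻¹) * c⁻¹ = (c * g * c⁻¹) * (c * x * c⁻¹) * (c * g * c⁻¹)⁻¹ := by group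
        rw [he]
        exact hcl _ hx _ (he ▸ hout hgx)
    intro x hx
    have h2 : c * (c⁻¹ * x * c) * c⁻¹ ∈ T := h (hin hx)
    simpa [mul_assoc] using h2
  · intro g hg x
    have hg' : c⁻¹ * g * c ∈ Subgroup.normalizer ((P : Subgroup G) : Set G) :=
      Subgroup.mem_normalizer_fintype fun y hy => by
        show c⁻¹ * g * c * y * (c⁻¹ * g * c)⁻¹ ∈ (P : Subgroup G)
        rw [show c⁻¹ * g * c * y * (c⁻¹ * g * c)⁻¹ = c⁻¹ * (g * (c * y * c⁻¹) * g⁻¹) * c by group]
        exact hin ((Subgroup.mem_normalizer_iff.1 hg _).1 (hout hy))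
    obtain ⟨w, hw, hwe⟩ := haut _ hg' ⟨_, hin x.2⟩
    let f : (P : Subgroup G) ≃* (S : Subgroup G) :=
      ((P : Subgroup G).equivMapOfInjective (MulAut.conj c).toMonoidHom (MulAut.conj c).injective).trans
        (MulEquiv.subgroupCongr hmap.symm)
    refine ⟨f w, frattini_le_map S.2 f ⟨w, hw, rfl⟩, ?_⟩
    show c * (w : G) * c⁻¹ = _
    change (w : G) = _ at hwe
    rw [hwe]
    group

end Cfsg.Lib.FusionSys
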