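import Cfsg.Agent.Lib.FusionSys.MathieuSimple
import Cfsg.Agent.Lib.FusionSys.SimpleTwoCentralSq

/-!
Automorphisms of the Sylow 2-subgroup of M22 square to the identity on the Frattini quotient; consequently every
group containing M22 with odd index has a simple 2-fusion system.
-/

set_option autoImplicit false
set_option linter.style.haveILetI false

namespace Cfsg.Lib.FusionSys.MathieuCert

open Cfsg Cfsg.Lib.Concrete
open scoped Pointwise

namespace Cert

/-- The intrinsic invariants of the cosets of the Frattini subgroup. -/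
def invOK (c : Cert) : Bool :=
  Nat.beq (c.n - c.m) 3 &&
  c.t.toList.all fun x =>
    (Nat.beq (x.2 >>> c.m) 4 || Nat.beq (pmul (pmul x.1 x.1) (pmul x.1 x.1)) pId) &&
    (Nat.beq (x.2 >>> c.m) 1 || Nat.beq (x.2 >>> c.m) 0 || !(Nat.beq (pmul x.1 x.1) pId) ||
      c.t.toList.all fun y => !(Nat.beq (pmul x.1 y.1) (pmul y.1 x.1)) || Nat.beq (pmul y.1 y.1) pId)

/-- Witnesses. -/
def witOK (c : Cert) (a b y : ℕ) : Bool :=
  (c.t.find a).isSome && (c.t.find b).isSome && (c.t.find y).isSome &&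
  Nat.beq (c.vOf a) 4 && !(Nat.beq (pmul (pmul a a) (pmul a a)) pId) &&
  Nat.beq (c.vOf b) 1 && Nat.beq (pmul b b) pId && Nat.beq (pmul b y) (pmul y b) && !(Nat.beq (pmul y y) pId)

attribute [local irreducible] pcode pmul toPerm prodL cnt orb area sig

variable {c : Cert} {K : Subgroup (Equiv.Perm GolayPt)} {ok : ℕ → Bool}
variable (hok : ∀ g p, g ∈ M24 → Rep g p → ok p = true → g ∈ K) (hgen : c.genOK ok = true)
  (htree : c.treeOK = true) (hclosed : c.closedOK = true) (hsq : c.sqOK = true)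
  (hinv : c.invOK = true) {a b y : ℕ} (hwit : c.witOK a b y = true)
  {X : Subgroup K} (hX : X = c.grp.subgroupOf K) (hX2 : IsPGroup 2 X)

include hok hgen htree hclosed hX in
theorem pcode_X (u w : X) : pmul (pcode u.1.1) (pcode w.1.1) = pcode (u * w : X).1.1 :=
  pcode_mul hok hgen htree hclosed (mem_X hX) (mem_X hX)

include hok hgen htree hclosed hX in
theorem pcode_X_inj {u w : X} (h : pcode u.1.1 = pcode w.1.1) : u = w :=
  Subtype.ext (Subtype.ext (pcode_inj hok hgen htree hclosed (mem_X hX) (mem_X hX) h))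

include hok hgen htree hclosed hX in
theorem vv_X_mul (u w : X) : vv c (u * w : X).1.1 = vv c u.1.1 ^^^ vv c w.1.1 :=
  vv_mul hok hgen htree hclosed (mem_X hX) (mem_X hX)

include hok hgen htree hclosed hinv hX in
theorem vv_X_lt (u : X) : vv c u.1.1 < 8 := by
  obtain ⟨e, he, -⟩ := key_of_mem hok hgen htree hclosed (mem_X hX (x := u))
  have hn : c.n - c.m = 3 := by
    simp only [invOK, Bool.and_eq_true, Nat.beq_eq] at hinv
    exact hinv.1
  have h1 := node_spec hok hgen htree he
  have h2 : vv c u.1.1 = e >>> c.m := by simp [vv, vOf, h1.2.2.2.2.2]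
  rw [h2, Nat.shiftRight_eq_div_pow, Nat.div_lt_iff_lt_mul (by positivity),
    show (8 : ℕ) = 2 ^ (c.n - c.m) by rw [hn]; norm_num, ← pow_add, Nat.sub_add_cancel (m_le hgen)]
  exact h1.2.2.2.1

include hok hgen htree hclosed hinv hX in
theorem vv_of_fourth (u : X) (h : (u * u) * (u * u) ≠ 1) : vv c u.1.1 = 4 := by
  obtain ⟨e, he, -⟩ := key_of_mem hok hgen htree hclosed (mem_X hX (x := u))
  simp only [invOK, Bool.and_eq_true, List.all_eq_true, Bool.or_eq_true, Nat.beq_eq] at hinv
  rcases (hinv.2 _ he).1 with h1 | h1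
  · rw [← h1]; simp [vv, vOf, (node_spec hok hgen htree he).2.2.2.2.2]
  · refine absurd (pcode_X_inj hok hgen htree hclosed hX ?_) h
    rw [← pcode_X hok hgen htree hclosed hX, ← pcode_X hok hgen htree hclosed hX, h1, pId_eq]
    rfl

include hok hgen htree hclosed hinv hX in
theorem vv_of_invol (u w : X) (hu : u * u = 1) (hc : u * w = w * u) (hw : w * w ≠ 1) :
    vv c u.1.1 = 1 ∨ vv c u.1.1 = 0 := by
  obtain ⟨e, he, -⟩ := key_of_mem hok hgen htree hclosed (mem_X hX (x := u))
  obtain ⟨e', he', -⟩ := key_of_mem hok hgen htree hclosed (mem_X hX (x := w))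
  have hv : vv c u.1.1 = e >>> c.m := by simp [vv, vOf, (node_spec hok hgen htree he).2.2.2.2.2]
  simp only [invOK, Bool.and_eq_true, List.all_eq_true, Bool.or_eq_true, Nat.beq_eq,
    Bool.not_eq_true'] at hinv
  rcases (hinv.2 _ he).2 with ((h1 | h1) | h1) | h1
  · exact Or.inl (hv.trans h1)
  · exact Or.inr (hv.trans h1)
  · rw [pcode_X hok hgen htree hclosed hX, hu, pId_eq] at h1
    exact absurd h1 (by simp)
  · rcases h1 _ he' with h2 | h2
    · rw [pcode_X hok hgen htree hclosed hX, pcode_X hok hgen htree hclosed hX, hc] at h2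
      exact absurd h2 (by simp)
    · refine absurd (pcode_X_inj hok hgen htree hclosed hX ?_) hw
      rw [← pcode_X hok hgen htree hclosed hX, h2, pId_eq]
      rfl

theorem xor_table : ∀ v < 8, ∀ w < 8, (v ∈ [0, 1, 4, 5] ∨ w ∈ [0, 1, 4, 5]) ∨ v ^^^ w ∈ [0, 1, 4, 5] := by
  decide

include hok hgen htree hclosed hsq hinv hwit hX hX2 in
/-- Every automorphism squares to the identity on the Frattini quotient. -/
theorem aut_sq_frattini (β : MulAut X) (x : X) : x⁻¹ * β (β x) ∈ frattini X := by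
  haveI : Fact (Nat.Prime 2) := ⟨Nat.prime_two⟩
  simp only [witOK, Bool.and_eq_true, Nat.beq_eq, Bool.not_eq_true'] at hwit
  obtain ⟨⟨⟨⟨⟨⟨⟨⟨ha, hb⟩, hy⟩, hav⟩, ha4⟩, hbv⟩, hb2⟩, hby⟩, hy2⟩ := hwit
  have hlift : ∀ {p : ℕ}, (c.t.find p).isSome = true → ∃ u : X, pcode u.1.1 = p := by
    intro p hp
    obtain ⟨e, he⟩ := Option.isSome_iff_exists.1 hp
    obtain ⟨-, h2, h3, -⟩ := node_spec hok hgen htree (KT.find_mem he)
    obtain ⟨u, hu⟩ := exists_lift hok hgen hX h3
    exact ⟨u, by rw [hu, h2]⟩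
  obtain ⟨A, hA⟩ := hlift ha
  obtain ⟨B, hB⟩ := hlift hb
  obtain ⟨Y, hY⟩ := hlift hy
  have hcong : ∀ u w : X, vv c u.1.1 = vv c w.1.1 → vv c (β u).1.1 = vv c (β w).1.1 := by
    intro u w huw
    have h1 : u⁻¹ * w ∈ frattini X := vv_frattini hok hgen htree hclosed hX hX2 hsq (by
      rw [vv_X_mul hok hgen htree hclosed hX, show (u⁻¹ : X).1.1 = u.1.1⁻¹ from rfl,
        vv_inv hok hgen htree hclosed (mem_X hX), huw, Nat.xor_self])
    have h2 := frattini_vv hok hgen htree hclosed hX (Cfsg.Lib.PGroup.apply_mem_frattini β h1)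
    rw [map_mul, map_inv, vv_X_mul hok hgen htree hclosed hX, show ((β u)⁻¹ : X).1.1 = (β u).1.1⁻¹ from rfl,
      vv_inv hok hgen htree hclosed (mem_X hX)] at h2
    exact Nat.xor_eq_zero_iff.1 h2
  have hv0 : ∀ u : X, vv c u.1.1 = 0 → vv c (β u).1.1 = 0 := by
    intro u hu
    rw [hcong u 1 (by rw [hu]; exact (vv_one hok hgen htree hclosed).symm), map_one]
    exact vv_one hok hgen htree hclosed
  have hvA : vv c A.1.1 = 4 := by rw [vv, hA]; exact hav
  have hβA : vv c (β A).1.1 = 4 := by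
    refine vv_of_fourth hok hgen htree hclosed hinv hX _ fun h1 => ?_
    rw [← map_mul, ← map_mul, map_eq_one_iff β β.injective] at h1
    rw [← hA, pcode_X hok hgen htree hclosed hX, pcode_X hok hgen htree hclosed hX, h1, pId_eq] at ha4
    exact absurd ha4 (by simp)
  have hvB : vv c B.1.1 = 1 := by rw [vv, hB]; exact hbv
  have hβB : vv c (β B).1.1 = 1 := by
    have hBB : B * B = 1 := pcode_X_inj hok hgen htree hclosed hX (by
      rw [← pcode_X hok hgen htree hclosed hX, hB, hb2, pId_eq]; rfl)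
    have hBY : B * Y = Y * B := pcode_X_inj hok hgen htree hclosed hX (by
      rw [← pcode_X hok hgen htree hclosed hX, ← pcode_X hok hgen htree hclosed hX, hB, hY, hby])
    refine (vv_of_invol hok hgen htree hclosed hinv hX (β B) (β Y) (by rw [← map_mul, hBB, map_one])
      (by rw [← map_mul, ← map_mul, hBY]) fun h1 => ?_).resolve_right fun h0 => ?_
    · rw [← map_mul, map_eq_one_iff β β.injective] at h1
      rw [← hY, pcode_X hok hgen htree hclosed hX, h1, pId_eq] at hy2
      exact absurd hy2 (by simp)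
    · have h1 : β B ∈ frattini X := vv_frattini hok hgen htree hclosed hX hX2 hsq h0
      have h2 := frattini_vv hok hgen htree hclosed hX (Cfsg.Lib.PGroup.apply_mem_frattini β.symm h1)
      rw [MulEquiv.symm_apply_apply, hvB] at h2
      exact one_ne_zero h2
  have hW : ∀ u : X, vv c u.1.1 ∈ [0, 1, 4, 5] → vv c (β u).1.1 = vv c u.1.1 := by
    intro u hu
    simp only [List.mem_cons, List.not_mem_nil, or_false] at hu
    rcases hu with h | h | h | h
    · rw [hv0 u h, h]
    · rw [hcong u B (h.trans hvB.symm), hβB, h]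
    · rw [hcong u A (h.trans hvA.symm), hβA, h]
    · rw [hcong u (A * B) (by rw [vv_X_mul hok hgen htree hclosed hX, hvA, hvB, h]; rfl), map_mul,
        vv_X_mul hok hgen htree hclosed hX, hβA, hβB, h]
      rfl
  refine vv_frattini hok hgen htree hclosed hX hX2 hsq ?_
  rw [vv_X_mul hok hgen htree hclosed hX, show (x⁻¹ : X).1.1 = x.1.1⁻¹ from rfl,
    vv_inv hok hgen htree hclosed (mem_X hX)]
  suffices h : vv c (β (β x)).1.1 = vv c x.1.1 by rw [h, Nat.xor_self]
  by_cases hx : vv c x.1.1 ∈ [0, 1, 4, 5]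
  · rw [hW (β x) (by rw [hW x hx]; exact hx), hW x hx]
  by_cases hx' : vv c (β x).1.1 ∈ [0, 1, 4, 5]
  · -- only elements of the plane go to the plane
    have h1 := hW (β x) hx'
    have h2 : (β x)⁻¹ * β (β x) ∈ frattini X := vv_frattini hok hgen htree hclosed hX hX2 hsq (by
      rw [vv_X_mul hok hgen htree hclosed hX, show ((β x)⁻¹ : X).1.1 = (β x).1.1⁻¹ from rfl,
        vv_inv hok hgen htree hclosed (mem_X hX), h1, Nat.xor_self])
    have h3 := frattini_vv hok hgen htree hclosed hX (Cfsg.Lib.PGroup.apply_mem_frattini β.symm h2)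
    rw [map_mul, map_inv, MulEquiv.symm_apply_apply, MulEquiv.symm_apply_apply, vv_X_mul hok hgen htree hclosed hX,
      show (x⁻¹ : X).1.1 = x.1.1⁻¹ from rfl, vv_inv hok hgen htree hclosed (mem_X hX), Nat.xor_eq_zero_iff] at h3
    exact absurd (h3 ▸ hx') hx
  have hd := ((xor_table _ (vv_X_lt hok hgen htree hclosed hinv hX (β x)) _
    (vv_X_lt hok hgen htree hclosed hinv hX x)).resolve_left (fun h => h.elim hx' hx))
  have h1 := hW (β x * x⁻¹) (by
    rw [vv_X_mul hok hgen htree hclosed hX, show (x⁻¹ : X).1.1 = x.1.1⁻¹ from rfl,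
      vv_inv hok hgen htree hclosed (mem_X hX)]
    exact hd)
  rw [map_mul, map_inv, vv_X_mul hok hgen htree hclosed hX, vv_X_mul hok hgen htree hclosed hX,
    show ((β x)⁻¹ : X).1.1 = (β x).1.1⁻¹ from rfl, show (x⁻¹ : X).1.1 = x.1.1⁻¹ from rfl,
    vv_inv hok hgen htree hclosed (mem_X hX), vv_inv hok hgen htree hclosed (mem_X hX)] at h1
  have h2 := congrArg (fun v => v ^^^ vv c (β x).1.1) h1
  simp only [Nat.xor_assoc, Nat.xor_self, Nat.xor_zero] at h2
  rw [h2, Nat.xor_comm (vv c x.1.1), ← Nat.xor_assoc, Nat.xor_self, Nat.zero_xor]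

/-- Groups containing `K` with odd index. -/
theorem isSimple_of_embedding {q q' : ℕ} (hcard : Nat.card K = 2 ^ c.n * q) (hq : Odd q)
    (hok : ∀ g p, g ∈ M24 → Rep g p → ok p = true → g ∈ K)
    (hgen : c.genOK ok = true) (htree : c.treeOK = true) (hclosed : c.closedOK = true)
    (hcenter : c.centerOK = true) (hder : c.derivOK ok = true) (hsq : c.sqOK = true)
    (hinv : c.invOK = true) (hwit : c.witOK a b y = true)
    {G : Type*} [Group G] [Finite G] (ι : K →* G) (hι : Function.Injective ι)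
    (hcardG : Nat.card G = 2 ^ c.n * q') (hq' : Odd q')
    (S : Sylow 2 G) : (groupFusionSystem (S : Subgroup G)).IsSimple 2 := by
  haveI : Fact (Nat.Prime 2) := ⟨Nat.prime_two⟩
  have hle := grp_le hok hgen
  have hfac : ∀ r : ℕ, Odd r → (2 ^ c.n * r).factorization 2 = c.n := by
    intro r hr
    rw [Nat.factorization_mul (by positivity) (by rintro rfl; simp at hr), Finsupp.add_apply,
      Nat.Prime.factorization_pow Nat.prime_two, Finsupp.single_eq_same,
      Nat.factorization_eq_zero_of_not_dvd (fun h => (Nat.not_odd_iff_even.2 (even_iff_two_dvd.2 h)) hr), add_zero]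
  have hcardX : Nat.card (c.grp.subgroupOf K) = 2 ^ c.n := by
    rw [Nat.card_congr (Subgroup.subgroupOfEquivOfLe hle).toEquiv, card_grp hok hgen htree hclosed]
  let Q : Sylow 2 G := Sylow.ofCard ((c.grp.subgroupOf K).map ι) (by
    rw [Subgroup.card_map_of_injective hι, hcardX, hcardG, hfac q' hq'])
  have hQ : (Q : Subgroup G) = (c.grp.subgroupOf K).map ι := Sylow.coe_ofCard _ _
  let P : Sylow 2 K := Sylow.ofCard (c.grp.subgroupOf K) (by rw [hcardX, hcard, hfac q hq])
  have hP : (P : Subgroup K) = c.grp.subgroupOf K := Sylow.coe_ofCard _ _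
  simp only [derivOK, Bool.and_eq_true] at hder
  obtain ⟨ze, hze⟩ := Option.isSome_iff_exists.1 hder.1.1
  obtain ⟨hzr, hzc, hzg, -⟩ := node_spec hok hgen htree (KT.find_mem hze)
  refine isSimple_two_of_central_conj_sq Q S ?_ (ι ⟨toPerm c.z, hle hzg⟩) ?_ ?_ ?_
  · intro h
    rw [hQ, Subgroup.map_eq_bot_iff_of_injective _ hι] at h
    rw [h, Subgroup.card_bot] at hcardX
    exact absurd hcardX (Nat.one_lt_two_pow (n_pos hgen).ne').ne
  · intro x₀ hx₀ hcom₀
    rw [hQ] at hx₀
    obtain ⟨x, hx, rfl⟩ := hx₀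
    suffices h : x = 1 ∨ x = ⟨toPerm c.z, hle hzg⟩ by
      rcases h with rfl | rfl
      · exact Or.inl (map_one ι)
      · exact Or.inr rfl
    have hcom : ∀ w ∈ (P : Subgroup K), x * w = w * x := fun w hw => hι (by
      rw [map_mul, map_mul]; exact hcom₀ _ (hQ ▸ ⟨w, hP ▸ hw, rfl⟩))
    replace hx : x ∈ (P : Subgroup K) := hP.symm ▸ hx
    rw [hP, Subgroup.mem_subgroupOf] at hx
    obtain ⟨e, he, hr⟩ := key_of_mem hok hgen htree hclosed hx
    simp only [centerOK, List.all_eq_true, Bool.or_eq_true, Bool.not_eq_true', Nat.beq_eq] at hcenter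
    have hall : c.gp.all (fun p => Nat.beq (pmul (pcode x.1) p) (pmul p (pcode x.1))) = true := by
      rw [List.all_eq_true]
      intro p hp
      obtain ⟨hpr, hpK⟩ := gp_rep hok hgen hp
      rw [Nat.beq_eq, pmul_eq_pcode hr hpr, pmul_eq_pcode hpr hr]
      exact congrArg pcode (congrArg Subtype.val (hcom ⟨_, hpK⟩ (by
        rw [hP, Subgroup.mem_subgroupOf]; exact gp_mem hp)))
    rcases hcenter (pcode x.1) (List.mem_map.2 ⟨_, he, rfl⟩) with (h | h) | h
    · rw [hall] at h; exact absurd h (by decide)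
    · left
      rw [pId_eq] at h
      exact Subtype.ext (pcode_inj hok hgen htree hclosed hx (one_mem _) h)
    · right
      rw [← hzc] at h
      exact Subtype.ext (pcode_inj hok hgen htree hclosed hx hzg h)
  · intro T₀ hTQ hzT₀ hcl₀
    let T : Subgroup K := T₀.comap ι
    have hzT : (⟨toPerm c.z, hle hzg⟩ : K) ∈ T := hzT₀
    have hcl : ∀ x ∈ T, ∀ g : K, g * x * g⁻¹ ∈ (P : Subgroup K) → g * x * g⁻¹ ∈ T := fun x hx g hgx => by
      show ι (g * x * g⁻¹) ∈ T₀
      rw [map_mul, map_mul, map_inv]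
      exact hcl₀ _ hx _ (hQ ▸ ⟨g * x * g⁻¹, hP ▸ hgx, by rw [map_mul, map_mul, map_inv]⟩)
    suffices h : (P : Subgroup K) ≤ T by
      rw [hQ]
      rintro _ ⟨x, hx, rfl⟩
      exact h (hP.symm ▸ hx)
    have hdv : ∀ k < c.deriv.length + 2, ∃ x ∈ T, Rep (x : Equiv.Perm GolayPt) (c.dv.getD k 0) := by
      intro k
      induction k using Nat.strong_induction_on with
      | _ k ih =>
        intro hk
        rcases k with _ | _ | k
        · exact ⟨1, one_mem T, by simpa [dv] using rep_one⟩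
        · exact ⟨_, hzT, by simpa [dv] using hzr⟩
        have hkl : k < c.deriv.length := by omega
        have h := List.all_eq_true.1 hder.2 k (List.mem_range.2 hkl)
        obtain ⟨d, hd⟩ : ∃ d, c.deriv.getD k (0, 0, 0, 0, 0) = d := ⟨_, rfl⟩
        obtain ⟨g, gi, i, j, p⟩ := d
        rw [hd] at h
        simp only [Bool.and_eq_true, Nat.blt_eq, Nat.beq_eq] at h
        obtain ⟨⟨⟨⟨⟨⟨⟨⟨he, hokg⟩, hi⟩, hj⟩, hp⟩, hc1⟩, hc2⟩, hc3⟩, heq⟩ := h
        obtain ⟨hgr, hgK⟩ := elem_mem hok he hokg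
        obtain ⟨ep, hep⟩ := Option.isSome_iff_exists.1 hp
        obtain ⟨hpr, -, hpg, -⟩ := node_spec hok hgen htree (KT.find_mem hep)
        obtain ⟨xi, hxi, hxir⟩ := ih i (by omega) (by omega)
        obtain ⟨xj, hxj, hxjr⟩ := ih j (by omega) (by omega)
        have h1 : toPerm g * ((xi : Equiv.Perm GolayPt) * xj) = toPerm p * toPerm g := by
          have r1 := hgr.mul (hxir.mul hxjr hc1) hc2
          rw [heq] at r1
          exact r1.ext (hpr.mul hgr hc3)
        have hmem : (⟨toPerm g, hgK⟩ : K) * (xi * xj) * (⟨toPerm g, hgK⟩ : K)⁻¹ = ⟨toPerm p, hle hpg⟩ := by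
          apply Subtype.ext
          show toPerm g * ((xi : Equiv.Perm GolayPt) * xj) * (toPerm g)⁻¹ = toPerm p
          rw [h1, mul_inv_cancel_right]
        refine ⟨⟨toPerm p, hle hpg⟩, ?_, ?_⟩
        · rw [← hmem]
          exact hcl _ (mul_mem hxi hxj) _ (by rw [hmem, hP, Subgroup.mem_subgroupOf]; exact hpg)
        · have : c.dv.getD (k + 2) 0 = p := by
            have h5 : c.deriv[k] = (g, gi, i, j, p) := by rw [← hd, List.getD_eq_getElem _ _ hkl]
            simp [dv, List.getD_eq_getElem?_getD, List.getElem?_eq_getElem hkl, h5]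
          rw [this]
          exact hpr
    have hgrp : c.grp ≤ T.map K.subtype := by
      rw [grp, Subgroup.closure_le]
      rintro _ ⟨p, hp, rfl⟩
      have hp' := List.all_eq_true.1 hder.1.2 p hp
      rw [List.contains_iff_mem] at hp'
      obtain ⟨k, hk, hkp⟩ := List.getElem_of_mem hp'
      obtain ⟨x, hx, hxr⟩ := hdv k (by simp [dv] at hk; omega)
      rw [List.getD_eq_getElem _ _ hk, hkp] at hxr
      exact ⟨x, hx, (toPerm_eq hxr).symm⟩
    intro x hx
    rw [hP, Subgroup.mem_subgroupOf] at hx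
    obtain ⟨y, hy, hye⟩ := hgrp hx
    rwa [← show y = x from Subtype.ext hye]
  · intro g hg x
    let f : ↥(c.grp.subgroupOf K) ≃* (Q : Subgroup G) :=
      ((c.grp.subgroupOf K).equivMapOfInjective ι hι).trans (MulEquiv.subgroupCongr hQ.symm)
    let γ : MulAut (Q : Subgroup G) := (Q : Subgroup G).normalizerMonoidHom ⟨g, hg⟩
    let β : MulAut ↥(c.grp.subgroupOf K) := (f.trans γ).trans f.symm
    have hX2 : IsPGroup 2 ↥(c.grp.subgroupOf K) := IsPGroup.of_card hcardX
    have h := aut_sq_frattini hok hgen htree hclosed hsq hinv hwit rfl hX2 β (f.symm x)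
    have h2 : β (β (f.symm x)) = f.symm (γ (γ x)) := by simp [β]
    rw [h2, ← map_inv, ← map_mul] at h
    refine ⟨x⁻¹ * γ (γ x), ?_, rfl⟩
    have h3 := frattini_le_map Q.2 f (Subgroup.mem_map_of_mem f.toMonoidHom h)
    simpa using h3

end Cert

theorem certM22_invOK : certM22.invOK = true := by decide +kernel

theorem certM22_witOK : certM22.witOK 959320275522569692541394552158164192 956990327872074034858731954558547648 963623962958345832780215681499564608 = true := by decide +kernel

/-- A group containing M22 with odd index has a simple 2-fusion system. -/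
theorem isSimple_of_sporM22 {G : Type*} [Group G] [Finite G] (ι : Spor.M22 →* G) (hι : Function.Injective ι)
    {q : ℕ} (hcardG : Nat.card G = 2 ^ 7 * q) (hq : Odd q) (S : Sylow 2 G) :
    (groupFusionSystem (S : Subgroup G)).IsSimple 2 :=
  Cert.isSimple_of_embedding (c := certM22) (K := Spor.M22)
    (ok := fun p => Nat.beq (pget p 23) 23 && Nat.beq (pget p 0) 0) (q := 3465)
    (by rw [card_sporM22]; decide +kernel) (by decide)
    (fun g p hg hr h => by
      rw [Bool.and_eq_true] at h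
      exact ⟨ok_M23 g p hg hr h.1, fix_of_pget hr (i := 0) (by decide) h.2⟩)
    certM22_genOK certM22_treeOK certM22_closedOK certM22_centerOK certM22_derivOK certM22_sqOK
    certM22_invOK certM22_witOK ι hι hcardG hq S

end Cfsg.Lib.FusionSys.MathieuCert
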