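import Cfsg.Agent.Lib.FusionSys.MathieuSimple
import Cfsg.Agent.Lib.PGroup.FrattiniStab

/-!
Sylow 2-subgroups of M24 are self-normalizing: read off the certificate for its 2-fusion system.
-/

set_option autoImplicit false
set_option linter.style.haveILetI false

namespace Cfsg.Lib.FusionSys.MathieuCert

open Cfsg Cfsg.Lib.Concrete
open scoped Pointwise

namespace Cert

attribute [local irreducible] pcode pmul toPerm prodL cnt orb area sig

variable {c : Cert} {K : Subgroup (Equiv.Perm GolayPt)} {ok : ℕ → Bool}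

/-- A normalizing element acts trivially on the Frattini quotient. -/
theorem normalizer_frattini (hok : ∀ g p, g ∈ M24 → Rep g p → ok p = true → g ∈ K)
    (hside : ∀ g ∈ K, g • mset c.side = mset c.side)
    (hgen : c.genOK ok = true) (htree : c.treeOK = true) (hclosed : c.closedOK = true)
    (hsq : c.sqOK = true) (haut : c.autOK = true) (P : Sylow 2 K)
    (hP : (P : Subgroup K) = c.grp.subgroupOf K) (gk : K) (hgk : gk ∈ Subgroup.normalizer ((P : Subgroup K) : Set K))
    (x : ↥(P : Subgroup K)) :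
    ∃ y ∈ frattini ↥(P : Subgroup K), (y : K) = (x : K)⁻¹ * (gk * x * gk⁻¹) := by
  haveI : Fact (Nat.Prime 2) := ⟨Nat.prime_two⟩
  have hle := grp_le hok hgen
  have hgN : ∀ h, h ∈ c.grp ↔ (gk : Equiv.Perm GolayPt) * h * (gk : Equiv.Perm GolayPt)⁻¹ ∈ c.grp := by
    rw [hP] at hgk
    intro h
    constructor
    · intro hh
      exact Subgroup.mem_subgroupOf.1 ((Subgroup.mem_normalizer_iff.1 hgk ⟨h, hle hh⟩).1
        (Subgroup.mem_subgroupOf.2 hh))
    · intro hh
      have hhK : h ∈ K := by
        have := K.mul_mem (K.mul_mem (K.inv_mem gk.2) (hle hh)) gk.2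
        simpa [mul_assoc] using this
      exact Subgroup.mem_subgroupOf.1 ((Subgroup.mem_normalizer_iff.1 hgk ⟨h, hhK⟩).2
        (Subgroup.mem_subgroupOf.2 hh))
  set g : Equiv.Perm GolayPt := gk.1 with hg
  have hgD := hside g gk.2
  have hX2 : IsPGroup 2 (P : Subgroup K) := P.2
  have hcl : ∀ h ∈ c.grp, g * h * g⁻¹ ∈ c.grp := fun h hh => (hgN h).1 hh
  have hcong : ∀ a ∈ c.grp, ∀ b ∈ c.grp, vv c a = vv c b → vv c (g * a * g⁻¹) = vv c (g * b * g⁻¹) := by
    intro a ha b hb hab
    obtain ⟨y, hy⟩ := exists_lift hok hgen hP (mul_mem (inv_mem ha) hb)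
    have hy0 : y ∈ frattini (P : Subgroup K) := vv_frattini hok hgen htree hclosed hP hX2 hsq (by
      rw [hy, vv_mul hok hgen htree hclosed (inv_mem ha) hb, vv_inv hok hgen htree hclosed ha, hab, Nat.xor_self])
    let f : MulAut (P : Subgroup K) := (P : Subgroup K).normalizerMonoidHom ⟨gk, hgk⟩
    have h0 := frattini_vv hok hgen htree hclosed hP (Cfsg.Lib.PGroup.apply_mem_frattini f hy0)
    change vv c (g * y.1.1 * g⁻¹) = 0 at h0
    rw [hy, show g * (a⁻¹ * b) * g⁻¹ = (g * a * g⁻¹)⁻¹ * (g * b * g⁻¹) by group,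
      vv_mul hok hgen htree hclosed (inv_mem (hcl a ha)) (hcl b hb), vv_inv hok hgen htree hclosed (hcl a ha)] at h0
    exact Nat.xor_eq_zero_iff.1 h0
  have hfix : ∀ h ∈ c.grp, vv c (g * h * g⁻¹) = vv c h := by
    intro h hh
    unfold Cert.grp at hh
    induction hh using Subgroup.closure_induction with
    | mem x hx =>
      obtain ⟨p, hp, rfl⟩ := hx
      obtain ⟨k, hk, rfl⟩ := List.getElem_of_mem hp
      have hk' : k < c.n := by rw [← gp_length hgen]; exact hk
      have hpk := gp_mem (c := c) (List.getElem_mem hk)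
      have hvk : vv c (toPerm c.gp[k]) = (1 <<< k) >>> c.m := by
        rw [← List.getD_eq_getElem _ 0 hk]; exact vv_gp hok hgen htree hclosed hk'
      by_cases hkm : k < c.m
      · have h0 : vv c (toPerm c.gp[k]) = vv c 1 := by
          rw [hvk, vv_one hok hgen htree hclosed, Nat.one_shiftLeft, Nat.shiftRight_eq_div_pow]
          exact Nat.div_eq_of_lt (Nat.pow_lt_pow_right (by norm_num) hkm)
        rw [hcong _ hpk _ (one_mem _) h0, mul_one, mul_inv_cancel, h0]
      simp only [autOK, Bool.and_eq_true, List.all_eq_true, List.mem_range, Bool.or_eq_true, Nat.blt_eq,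
        List.contains_iff_mem] at haut
      have hkw := (haut.1 k hk').resolve_left hkm
      obtain ⟨kw, hkwm, hkwe⟩ := List.mem_map.1 hkw
      obtain ⟨hw, hv⟩ := haut.2 kw hkwm
      rw [hkwe] at hw hv
      obtain ⟨ey, hey, -⟩ := key_of_mem hok hgen htree hclosed (hcl _ hpk)
      have hvy : vv c (g * toPerm c.gp[k] * g⁻¹) = ey >>> c.m := by
        simp [vv, vOf, (node_spec hok hgen htree hey).2.2.2.2.2]
      have hlt : ey >>> c.m < 2 ^ (c.n - c.m) := by
        rw [Nat.shiftRight_eq_div_pow, Nat.div_lt_iff_lt_mul (by positivity), ← pow_add,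
          Nat.sub_add_cancel (m_le hgen)]
        exact (node_spec hok hgen htree hey).2.2.2.1
      rcases hv _ hlt with hno | heq
      · exfalso
        rw [Bool.not_eq_true', List.all_eq_false] at hno
        obtain ⟨V, hV, hVn⟩ := hno
        obtain ⟨w, hwm, rfl⟩ := List.mem_map.1 hV
        obtain ⟨hws, hwv⟩ := hw w hwm
        obtain ⟨ew, hew⟩ := Option.isSome_iff_exists.1 hws
        obtain ⟨-, hwc, hwg, -⟩ := node_spec hok hgen htree (KT.find_mem hew)
        rw [Nat.beq_eq] at hwv
        have hvw : vv c (toPerm w) = vv c (toPerm c.gp[k]) := by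
          rw [hvk, vv, hwc]; exact hwv
        obtain ⟨ew', hew', -⟩ := key_of_mem hok hgen htree hclosed (hcl _ hwg)
        apply hVn
        rw [List.contains_iff_mem]
        refine List.mem_map.2 ⟨_, List.mem_filter.2 ⟨hew', ?_⟩, ?_⟩
        · rw [beq_iff_eq, sig_conj hok hgen htree hclosed hgN hgD hwg, hwc]
        · rw [← hvy, ← hcong _ hwg _ hpk hvw]
          simp [vv, vOf, (node_spec hok hgen htree hew').2.2.2.2.2]
      · rw [hvy, hvk]
        exact Nat.eq_of_beq_eq_true heq
    | one => rw [mul_one, mul_inv_cancel]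
    | mul a b ha hb iha ihb =>
      rw [show g * (a * b) * g⁻¹ = (g * a * g⁻¹) * (g * b * g⁻¹) by group,
        vv_mul hok hgen htree hclosed (hcl a ha) (hcl b hb), iha, ihb, vv_mul hok hgen htree hclosed ha hb]
    | inv a ha iha =>
      rw [show g * a⁻¹ * g⁻¹ = (g * a * g⁻¹)⁻¹ by group, vv_inv hok hgen htree hclosed (hcl a ha), iha,
        vv_inv hok hgen htree hclosed ha]
  have hxg := mem_X hP (x := x)
  obtain ⟨y, hy⟩ := exists_lift hok hgen hP (mul_mem (inv_mem hxg) (hcl _ hxg))
  refine ⟨y, vv_frattini hok hgen htree hclosed hP hX2 hsq ?_, Subtype.ext hy⟩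
  rw [hy, vv_mul hok hgen htree hclosed (inv_mem hxg) (hcl _ hxg), vv_inv hok hgen htree hclosed hxg, hfix _ hxg,
    Nat.xor_self]

variable (hok : ∀ g p, g ∈ M24 → Rep g p → ok p = true → g ∈ K) (hgen : c.genOK ok = true)
  (htree : c.treeOK = true) (hclosed : c.closedOK = true)

include hok hgen htree hclosed in
/-- A permutation of odd order centralizing the group, whose orbits have distinct sizes, is trivial. -/
theorem eq_one_of_centralizes
    (hsz : ((List.range 24).all fun i => (List.range 24).all fun j =>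
      !(Nat.beq (pcnt (c.orb i)) (pcnt (c.orb j))) || Nat.beq (c.orb i) (c.orb j)) = true)
    {u : Equiv.Perm GolayPt} (hu : ∀ h ∈ c.grp, u * h = h * u) (hodd : Odd (orderOf u)) : u = 1 := by
  refine Equiv.ext fun x => ?_
  have hsame : c.orb (gidx (u x)).val = c.orb (gidx x).val := by
    have hcard : pcnt (c.orb (gidx (u x)).val) = pcnt (c.orb (gidx x).val) := by
      rw [← mcnt_eq_pcnt, ← mcnt_eq_pcnt, ← mset_card, ← mset_card]
      refine (congrArg Finset.card ?_).trans (Finset.card_smul_finset u _)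
      ext y
      rw [mem_orb hok hgen htree hclosed (gidx (u x)).isLt, Finset.mem_smul_finset]
      simp only [mem_orb hok hgen htree hclosed (gidx x).isLt, Fin.eta, gpt_gidx]
      constructor
      · rintro ⟨h, hh, rfl⟩
        exact ⟨h x, ⟨h, hh, rfl⟩, by
          rw [Equiv.Perm.smul_def, ← Equiv.Perm.mul_apply, hu h hh, Equiv.Perm.mul_apply]⟩
      · rintro ⟨_, ⟨h, hh, rfl⟩, rfl⟩
        exact ⟨h, hh, by rw [Equiv.Perm.smul_def, ← Equiv.Perm.mul_apply, ← hu h hh, Equiv.Perm.mul_apply]⟩
    simp only [List.all_eq_true, List.mem_range, Bool.or_eq_true, Bool.not_eq_true', Nat.beq_eq] at hsz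
    rcases hsz _ (gidx (u x)).isLt _ (gidx x).isLt with h | h
    · rw [hcard] at h
      simp at h
    · exact h
  have hmem : u x ∈ mset (c.orb (gidx x).val) := by
    rw [← hsame]
    exact (mem_orb hok hgen htree hclosed (gidx (u x)).isLt).2 ⟨1, one_mem _, by simp [gpt_gidx]⟩
  obtain ⟨h, hh, hhx⟩ := (mem_orb hok hgen htree hclosed (gidx x).isLt).1 hmem
  simp only [Fin.eta, gpt_gidx] at hhx
  have hpow : ∀ k : ℕ, (u ^ k) x = (h ^ k) x := by
    intro k
    induction k with
    | zero => rfl
    | succ k ih =>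
      have hc : u * h ^ k = h ^ k * u := hu _ (pow_mem hh k)
      rw [pow_succ', Equiv.Perm.mul_apply, ih, ← Equiv.Perm.mul_apply, hc, Equiv.Perm.mul_apply, ← hhx,
        ← Equiv.Perm.mul_apply, ← pow_succ]
  have hN : (u ^ (2 ^ c.n)) x = x := by
    have h1 : (⟨h, hh⟩ : c.grp) ^ Nat.card c.grp = 1 := pow_card_eq_one'
    rw [hpow, ← card_grp hok hgen htree hclosed, show h ^ Nat.card c.grp = 1 from congrArg Subtype.val h1]
    rfl
  obtain ⟨m, hm⟩ := exists_pow_eq_self_of_coprime
    (Nat.Coprime.pow_left c.n (Nat.coprime_two_left.2 hodd) : (2 ^ c.n).Coprime (orderOf u))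
  rw [Equiv.Perm.one_apply]
  conv_lhs => rw [← hm]
  exact Equiv.Perm.pow_apply_eq_self_of_apply_eq_self hN m

/-- The normalizer of a Sylow 2-subgroup, from a certificate. -/
theorem normalizer_eq_of_cert {q : ℕ} (hcard : Nat.card K = 2 ^ c.n * q) (hq : Odd q)
    (hok : ∀ g p, g ∈ M24 → Rep g p → ok p = true → g ∈ K) (hside : ∀ g ∈ K, g • mset c.side = mset c.side)
    (hgen : c.genOK ok = true) (htree : c.treeOK = true) (hclosed : c.closedOK = true)
    (hsq : c.sqOK = true) (haut : c.autOK = true)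
    (hsz : ((List.range 24).all fun i => (List.range 24).all fun j =>
      !(Nat.beq (pcnt (c.orb i)) (pcnt (c.orb j))) || Nat.beq (c.orb i) (c.orb j)) = true)
    (S : Sylow 2 K) : Subgroup.normalizer ((S : Subgroup K) : Set K) = (S : Subgroup K) := by
  haveI : Fact (Nat.Prime 2) := ⟨Nat.prime_two⟩
  have hle := grp_le hok hgen
  have hcardX : Nat.card (c.grp.subgroupOf K) = 2 ^ (Nat.card K).factorization 2 := by
    rw [Nat.card_congr (Subgroup.subgroupOfEquivOfLe hle).toEquiv, card_grp hok hgen htree hclosed, hcard,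
      Nat.factorization_mul (by positivity) (by rintro rfl; simp at hq), Finsupp.add_apply,
      Nat.Prime.factorization_pow Nat.prime_two, Finsupp.single_eq_same,
      Nat.factorization_eq_zero_of_not_dvd (fun h => (Nat.not_odd_iff_even.2 (even_iff_two_dvd.2 h)) hq), add_zero]
  let P : Sylow 2 K := Sylow.ofCard (c.grp.subgroupOf K) hcardX
  have hP : (P : Subgroup K) = c.grp.subgroupOf K := Sylow.coe_ofCard _ hcardX
  have hN : Subgroup.normalizer ((P : Subgroup K) : Set K) = (P : Subgroup K) := by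
    refine P.3 (fun g => ?_) Subgroup.le_normalizer
    obtain ⟨gk, hgk⟩ := g
    let f : MulAut (P : Subgroup K) := (P : Subgroup K).normalizerMonoidHom ⟨gk, hgk⟩
    have hf : f ∈ Cfsg.Lib.PGroup.frattiniStab ↥(P : Subgroup K) := by
      intro x
      obtain ⟨y, hy, hye⟩ := normalizer_frattini hok hside hgen htree hclosed hsq haut P hP gk hgk x
      convert hy using 1
      exact Subtype.ext hye.symm
    obtain ⟨a, ha⟩ := Cfsg.Lib.PGroup.isPGroup_frattiniStab (Q := ↥(P : Subgroup K)) (p := 2) P.2 ⟨f, hf⟩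
    -- the odd part of `gk ^ 2 ^ a` is trivial
    set w : K := gk ^ 2 ^ a with hw
    obtain ⟨b, n', hn, hbn⟩ := Nat.exists_eq_two_pow_mul_odd (orderOf_pos w).ne'
    have hwc : ∀ h ∈ c.grp, (w : Equiv.Perm GolayPt) * h = h * (w : Equiv.Perm GolayPt) := by
      intro h hh
      obtain ⟨x, hx⟩ := exists_lift hok hgen hP hh
      have h1 : (f ^ 2 ^ a) x = x := by
        have h2 : f ^ 2 ^ a = 1 := congrArg Subtype.val ha
        rw [h2]; rfl
      have h3 : (P : Subgroup K).normalizerMonoidHom (⟨gk, hgk⟩ ^ 2 ^ a) x = x := by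
        rw [map_pow]; exact h1
      have h4 : (w : K) * x.1 * w⁻¹ = x.1 := congrArg Subtype.val h3
      have h5 : (w : K) * x.1 = x.1 * w := by
        conv_rhs => rw [← h4]
        simp [mul_assoc]
      have h6 := congrArg Subtype.val h5
      rw [← hx]
      exact h6
    have hu : ((w : Equiv.Perm GolayPt)) ^ 2 ^ b = 1 := by
      refine eq_one_of_centralizes hok hgen htree hclosed hsz (fun h hh => ?_) ?_
      · exact (Commute.pow_left (hwc h hh) _).eq
      · refine Odd.of_dvd_nat hn ?_
        rw [orderOf_dvd_iff_pow_eq_one, ← pow_mul, ← hbn]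
        exact congrArg Subtype.val (pow_orderOf_eq_one w)
    refine ⟨a + b, Subtype.ext ?_⟩
    show gk ^ 2 ^ (a + b) = 1
    rw [pow_add, pow_mul]
    exact Subtype.ext hu
  obtain ⟨g, rfl⟩ := MulAction.exists_smul_eq K P S
  ext x
  rw [Subgroup.mem_normalizer_iff]
  simp only [Sylow.coe_subgroup_smul, Subgroup.mem_pointwise_smul_iff_inv_smul_mem, MulAut.smul_def,
    MulAut.conj_inv_apply, MulAut.conj_apply]
  constructor
  · intro h
    rw [← hN, Subgroup.mem_normalizer_iff]
    intro y
    have := h (g * y * g⁻¹)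
    simpa [mul_assoc] using this
  · intro h
    have h' : g⁻¹ * x * g ∈ Subgroup.normalizer ((P : Subgroup K) : Set K) := Subgroup.le_normalizer h
    intro y
    have := Subgroup.mem_normalizer_iff.1 h' (g⁻¹ * y * g)
    simpa [mul_assoc] using this

end Cert

/-- Sylow 2-subgroups of M24 are self-normalizing. -/
theorem normalizer_sylow_M24 (S : Sylow 2 M24) :
    Subgroup.normalizer ((S : Subgroup M24) : Set M24) = (S : Subgroup M24) :=
  Cert.normalizer_eq_of_cert (c := certM24) (K := M24) (ok := fun _ => true) (q := 239085)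
    (by rw [card_M24]; decide +kernel) (by decide) (fun _ _ h _ _ => h) (fun g _ => smul_full g)
    certM24_genOK certM24_treeOK certM24_closedOK certM24_sqOK certM24_autOK (by decide +kernel) S

end Cfsg.Lib.FusionSys.MathieuCert
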