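import Cfsg.Agent.Lib.FusionSys.MathieuCert

/-!
Soundness of the certificates for the simplicity of the 2-fusion systems of the Mathieu groups.
-/

set_option autoImplicit false

namespace Cfsg.Lib.FusionSys.MathieuCert

open Cfsg Cfsg.Lib.Concrete
open scoped Pointwise

namespace Cert

attribute [local irreducible] pcode pmul toPerm prodL cnt orb area sig

variable {c : Cert} {K : Subgroup (Equiv.Perm GolayPt)} {ok : ℕ → Bool}
variable (hok : ∀ g p, g ∈ M24 → Rep g p → ok p = true → g ∈ K) (hgen : c.genOK ok = true)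
  (htree : c.treeOK = true) (hclosed : c.closedOK = true)

include hok hgen htree hclosed in
theorem rep_of_mem {h : Equiv.Perm GolayPt} (hh : h ∈ c.grp) : Rep h (pcode h) :=
  (key_of_mem hok hgen htree hclosed hh).choose_spec.2

include hok hgen htree hclosed in
theorem pcode_mul {a b : Equiv.Perm GolayPt} (ha : a ∈ c.grp) (hb : b ∈ c.grp) :
    pmul (pcode a) (pcode b) = pcode (a * b) :=
  pmul_eq_pcode (rep_of_mem hok hgen htree hclosed ha) (rep_of_mem hok hgen htree hclosed hb)

include hok hgen htree hclosed in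
theorem pcode_inj {a b : Equiv.Perm GolayPt} (ha : a ∈ c.grp) (hb : b ∈ c.grp) (h : pcode a = pcode b) :
    a = b := by
  have h1 := rep_of_mem hok hgen htree hclosed ha
  rw [h] at h1
  exact h1.ext (rep_of_mem hok hgen htree hclosed hb)

theorem gp_mem {p : ℕ} (hp : p ∈ c.gp) : toPerm p ∈ c.grp := Subgroup.subset_closure ⟨p, hp, rfl⟩

include hgen in
theorem gp_length : c.gp.length = c.n := by
  simp only [genOK, Bool.and_eq_true, Nat.beq_eq] at hgen
  simpa [gp] using hgen.1.1.2

include hgen in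
theorem m_le : c.m ≤ c.n := by
  simp only [genOK, Bool.and_eq_true, Nat.ble_eq] at hgen
  exact hgen.2

include hgen in
theorem n_pos : 0 < c.n := by
  simp only [genOK, Bool.and_eq_true, Nat.blt_eq] at hgen
  exact hgen.1.2

/-- The map to the Frattini quotient. -/
def vv (c : Cert) (g : Equiv.Perm GolayPt) : ℕ := c.vOf (pcode g)

include hok hgen htree hclosed in
theorem vv_node {p e : ℕ} (hx : (p, e) ∈ c.t.toList) : vv c (toPerm p) = e >>> c.m := by
  obtain ⟨-, h2, -, -, -, h6⟩ := node_spec hok hgen htree hx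
  simp [vv, vOf, h2, h6]

include hok hgen htree hclosed in
theorem vv_one : vv c 1 = 0 := by
  have h := hclosed
  simp only [closedOK, Bool.and_eq_true, beq_iff_eq] at h
  simp [vv, vOf, ← pId_eq, h.1]

include hok hgen htree hclosed in
theorem vv_step {h : Equiv.Perm GolayPt} (hh : h ∈ c.grp) {k : ℕ} (hk : k < c.n) :
    vv c (h * toPerm (c.gp.getD k 0)) = Nat.xor (vv c h) ((1 <<< k) >>> c.m) := by
  obtain ⟨e, he, -⟩ := key_of_mem hok hgen htree hclosed hh
  have hkl : k < c.gp.length := by rw [gp_length hgen]; exact hk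
  have hp : c.gp.getD k 0 ∈ c.gp := by rw [List.getD_eq_getElem _ _ hkl]; exact List.getElem_mem hkl
  have h' := hclosed
  simp only [closedOK, Bool.and_eq_true, List.all_eq_true, List.mem_range] at h'
  obtain ⟨hchk, hm⟩ := h'.2 _ he k hk
  have hmul : pmul (pcode h) (c.gp.getD k 0) = pcode (h * toPerm (c.gp.getD k 0)) :=
    pmul_eq_pcode (rep_of_mem hok hgen htree hclosed hh) (gp_rep hok hgen hp).1
  have hfe : c.t.find (pcode h) = some e := (node_spec hok hgen htree he).2.2.2.2.2
  rw [hmul] at hm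
  cases hf : c.t.find (pcode (h * toPerm (c.gp.getD k 0))) with
  | none => rw [hf] at hm; simp at hm
  | some e' =>
    simp only [hf, Nat.beq_eq] at hm
    simp only [vv, vOf, hf, hfe, Option.getD_some]
    exact hm

include hok hgen htree hclosed in
theorem vv_gp {k : ℕ} (hk : k < c.n) : vv c (toPerm (c.gp.getD k 0)) = (1 <<< k) >>> c.m := by
  have h := vv_step hok hgen htree hclosed (one_mem c.grp) hk
  rw [one_mul, vv_one hok hgen htree hclosed] at h
  rw [h]
  exact Nat.zero_xor _

include hok hgen htree hclosed in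
theorem vv_mul {a b : Equiv.Perm GolayPt} (ha : a ∈ c.grp) (hb : b ∈ c.grp) :
    vv c (a * b) = vv c a ^^^ vv c b := by
  suffices b ∈ c.grp ∧ ∀ h ∈ c.grp, vv c (h * b) = vv c h ^^^ vv c b from this.2 a ha
  unfold Cert.grp at hb
  induction hb using Subgroup.closure_induction with
  | mem x hx =>
    obtain ⟨p, hp, rfl⟩ := hx
    refine ⟨gp_mem hp, fun h hh => ?_⟩
    obtain ⟨k, hk, rfl⟩ := List.getElem_of_mem hp
    have hk' : k < c.n := by rw [← gp_length hgen]; exact hk
    rw [← List.getD_eq_getElem _ 0 hk, vv_step hok hgen htree hclosed hh hk',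
      vv_gp hok hgen htree hclosed hk']
    rfl
  | one =>
    exact ⟨one_mem _, fun h _ => by rw [mul_one, vv_one hok hgen htree hclosed, Nat.xor_zero]⟩
  | mul x y _ _ hx hy =>
    refine ⟨mul_mem hx.1 hy.1, fun h hh => ?_⟩
    rw [← mul_assoc, hy.2 _ (mul_mem hh hx.1), hx.2 h hh, hy.2 x hx.1, Nat.xor_assoc]
  | inv x _ hx =>
    refine ⟨inv_mem hx.1, fun h hh => ?_⟩
    have h1 := hx.2 x⁻¹ (inv_mem hx.1)
    rw [inv_mul_cancel, vv_one hok hgen htree hclosed] at h1
    have h2 := hx.2 (h * x⁻¹) (mul_mem hh (inv_mem hx.1))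
    rw [inv_mul_cancel_right] at h2
    rw [h2, Nat.xor_assoc, Nat.xor_comm (vv c x), ← h1, Nat.xor_zero]

include hok hgen htree hclosed in
theorem vv_inv {a : Equiv.Perm GolayPt} (ha : a ∈ c.grp) : vv c a⁻¹ = vv c a := by
  have h := vv_mul hok hgen htree hclosed ha (inv_mem ha)
  rw [mul_inv_cancel, vv_one hok hgen htree hclosed] at h
  exact (Nat.xor_eq_zero_iff.1 h.symm).symm

variable {X : Subgroup K} (hX : X = c.grp.subgroupOf K) (hX2 : IsPGroup 2 X) (hsq : c.sqOK = true)

include hX in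
theorem mem_X {x : X} : x.1.1 ∈ c.grp := by
  obtain ⟨x, hx⟩ := x
  exact Subgroup.mem_subgroupOf.1 (hX ▸ hx)

include hok hgen hX in
theorem exists_lift {h : Equiv.Perm GolayPt} (hh : h ∈ c.grp) : ∃ x : X, x.1.1 = h :=
  ⟨⟨⟨h, grp_le hok hgen hh⟩, hX ▸ Subgroup.mem_subgroupOf.2 hh⟩, rfl⟩

include hok hgen htree hclosed hX in
theorem frattini_vv {x : X} (hx : x ∈ frattini X) : vv c x.1.1 = 0 := by
  haveI : Fact (Nat.Prime 2) := ⟨Nat.prime_two⟩
  let N : Subgroup X :=
    { carrier := {y | vv c y.1.1 = 0}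
      one_mem' := vv_one hok hgen htree hclosed
      mul_mem' := fun {a b} ha hb => by
        show vv c (a.1.1 * b.1.1) = 0
        rw [vv_mul hok hgen htree hclosed (mem_X hX) (mem_X hX), show vv c a.1.1 = 0 from ha,
          show vv c b.1.1 = 0 from hb]
        rfl
      inv_mem' := fun {a} ha => by
        show vv c a.1.1⁻¹ = 0
        rw [vv_inv hok hgen htree hclosed (mem_X hX)]
        exact ha }
  refine (Cfsg.Lib.PGroup.frattini_le_of_commutator_le_of_pow_mem (N := N) (p := 2) ?_ fun y => ?_) hx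
  · rw [commutator_def, Subgroup.commutator_le]
    intro a _ b _
    show vv c (a.1.1 * b.1.1 * a.1.1⁻¹ * b.1.1⁻¹) = 0
    have ha := mem_X hX (x := a)
    have hb := mem_X hX (x := b)
    rw [vv_mul hok hgen htree hclosed (mul_mem (mul_mem ha hb) (inv_mem ha)) (inv_mem hb),
      vv_mul hok hgen htree hclosed (mul_mem ha hb) (inv_mem ha), vv_mul hok hgen htree hclosed ha hb,
      vv_inv hok hgen htree hclosed ha, vv_inv hok hgen htree hclosed hb, Nat.xor_comm (vv c a.1.1),
      Nat.xor_assoc (vv c b.1.1), Nat.xor_self, Nat.xor_zero, Nat.xor_self]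
  · show vv c (y ^ 2 : X).1.1 = 0
    rw [pow_two]
    show vv c (y.1.1 * y.1.1) = 0
    rw [vv_mul hok hgen htree hclosed (mem_X hX) (mem_X hX), Nat.xor_self]

include hok hgen htree hclosed hX hX2 hsq in
theorem vv_frattini {x : X} (hx : vv c x.1.1 = 0) : x ∈ frattini X := by
  haveI : Fact (Nat.Prime 2) := ⟨Nat.prime_two⟩
  let Φ : Subgroup (Equiv.Perm GolayPt) := (frattini X).map (K.subtype.comp X.subtype)
  suffices x.1.1 ∈ Φ by
    obtain ⟨y, hy, hye⟩ := this
    rwa [← show y = x from Subtype.ext (Subtype.ext hye)]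
  obtain ⟨e, he, hr⟩ := key_of_mem hok hgen htree hclosed (mem_X hX (x := x))
  obtain ⟨-, -, -, -, hprod, hfind⟩ := node_spec hok hgen htree he
  rw [toPerm_eq hr] at hprod
  rw [hprod]
  refine Subgroup.list_prod_mem _ fun g hg => ?_
  obtain ⟨a, ha, rfl⟩ := List.mem_map.1 hg
  obtain ⟨k, hk, hek⟩ := mem_sel ha
  have hkm : k < c.m := by
    by_contra hcon
    simp only [vv, vOf, hfind, Option.getD_some] at hx
    have h2 : (e >>> c.m).testBit (k - c.m) = true := by
      rw [Nat.testBit_shiftRight, Nat.add_sub_cancel' (not_lt.1 hcon)]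
      exact hek
    rw [hx, Nat.zero_testBit] at h2
    exact absurd h2 Bool.false_ne_true
  have ha' : c.gp.getD k 0 = a := by rw [List.getD_eq_getElem?_getD, hk]; rfl
  simp only [sqOK, List.all_eq_true, List.mem_range, Bool.and_eq_true, Nat.beq_eq] at hsq
  obtain ⟨⟨hmem, hokL⟩, hval⟩ := hsq k hkm
  rw [ha'] at hval
  have hsqmem : ∀ p ∈ c.sq.getD k [], Rep (toPerm p) p ∧ pcode (toPerm p) = p ∧ toPerm p ∈ c.grp := by
    intro p hp
    obtain ⟨e', he'⟩ := Option.isSome_iff_exists.1 (hmem p hp)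
    obtain ⟨h1, h2, h3, -⟩ := node_spec hok hgen htree (KT.find_mem he')
    exact ⟨h1, h2, h3⟩
  have hsq2 : ∀ b ∈ (c.sq.getD k []).map (fun p => pmul p p), ∃ h ∈ c.grp, Rep (h * h) b := by
    intro b hb
    obtain ⟨p, hp, rfl⟩ := List.mem_map.1 hb
    obtain ⟨h1, -, h3⟩ := hsqmem p hp
    exact ⟨_, h3, by rw [pmul_eq_pcode h1 h1]; exact rep_of_mem hok hgen htree hclosed (mul_mem h3 h3)⟩
  obtain ⟨hrL, -⟩ := rep_prodL (fun b hb => by obtain ⟨h, -, hh⟩ := hsq2 b hb; exact rep_toPerm hh) hokL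
  rw [hval] at hrL
  rw [toPerm_eq hrL]
  refine Subgroup.list_prod_mem _ fun g hg => ?_
  obtain ⟨b, hb, rfl⟩ := List.mem_map.1 hg
  obtain ⟨h, hh, hhr⟩ := hsq2 b hb
  rw [toPerm_eq hhr]
  obtain ⟨y, rfl⟩ := exists_lift hok hgen hX hh
  exact ⟨y ^ 2, Cfsg.Lib.PGroup.pow_mem_frattini hX2 y, by rw [pow_two]; rfl⟩

include hok hgen htree hclosed in
theorem mem_orb {i : ℕ} (hi : i < 24) {y : GolayPt} :
    y ∈ mset (c.orb i) ↔ ∃ h ∈ c.grp, h (gpt ⟨i, hi⟩) = y := by
  unfold orb
  rw [mem_mset, testBit_orMask]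
  constructor
  · rintro ⟨p, hp, -, hpy⟩
    obtain ⟨⟨q, e⟩, hx, rfl⟩ := List.mem_map.1 hp
    obtain ⟨h1, -, h3, -⟩ := node_spec hok hgen htree hx
    refine ⟨_, h3, gidx_injective (Fin.ext ?_)⟩
    rw [h1.apply, ← hpy]
  · rintro ⟨h, hh, rfl⟩
    obtain ⟨e, he, hr⟩ := key_of_mem hok hgen htree hclosed hh
    exact ⟨pcode h, List.mem_map.2 ⟨_, he, rfl⟩, rfl, (hr.apply ⟨i, hi⟩).symm⟩

theorem mem_area {l : ℕ × Bool} {x : GolayPt} :
    x ∈ mset (c.area l) ↔ pcnt (c.orb (gidx x).val) = l.1 ∧ c.side.testBit (gidx x).val = l.2 := by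
  unfold area
  rw [mem_mset, testBit_orMask]
  constructor
  · rintro ⟨i, -, h, hi⟩
    simp only [id_eq] at hi
    subst hi
    simpa using h
  · rintro ⟨h1, h2⟩
    exact ⟨_, mem_bits24.2 (gidx x).isLt, by simp [h1, h2], rfl⟩

variable {g : Equiv.Perm GolayPt} (hgN : ∀ h, h ∈ c.grp ↔ g * h * g⁻¹ ∈ c.grp)
  (hgD : g • mset c.side = mset c.side)

include hok hgen htree hclosed hgN hgD in
theorem smul_area (l : ℕ × Bool) : g • mset (c.area l) = mset (c.area l) := by
  have key : ∀ x : GolayPt, pcnt (c.orb (gidx (g x)).val) = pcnt (c.orb (gidx x).val) ∧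
      c.side.testBit (gidx (g x)).val = c.side.testBit (gidx x).val := by
    intro x
    refine ⟨?_, Bool.eq_iff_iff.2 ?_⟩
    · rw [← mcnt_eq_pcnt, ← mcnt_eq_pcnt, ← mset_card, ← mset_card]
      refine (congrArg Finset.card ?_).trans (Finset.card_smul_finset g _)
      ext y
      rw [mem_orb hok hgen htree hclosed (gidx (g x)).isLt, Finset.mem_smul_finset]
      simp only [mem_orb hok hgen htree hclosed (gidx x).isLt, Fin.eta, gpt_gidx]
      constructor
      · rintro ⟨h, hh, rfl⟩
        refine ⟨(g⁻¹ * h * g) x, ⟨_, (hgN _).2 ?_, rfl⟩, ?_⟩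
        · rwa [show g * (g⁻¹ * h * g) * g⁻¹ = h by group]
        · simp [Equiv.Perm.smul_def]
      · rintro ⟨_, ⟨h, hh, rfl⟩, rfl⟩
        exact ⟨_, (hgN h).1 hh, by simp [Equiv.Perm.smul_def]⟩
    · rw [← mem_mset, ← mem_mset]
      conv_lhs => rw [← hgD]
      exact Finset.smul_mem_smul_finset_iff g
  ext y
  obtain ⟨x, rfl⟩ := g.surjective y
  rw [mem_area, (key x).1, (key x).2, ← mem_area (c := c)]
  exact Finset.smul_mem_smul_finset_iff g

theorem cnt_eq {h : Equiv.Perm GolayPt} (hr : Rep h (pcode h)) (U : ℕ) :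
    cnt (pcode h) U = ((mset U).filter fun x => h x = x).card := by
  unfold cnt
  rw [← mcnt_eq_pcnt, ← mset_card]
  congr 1
  ext x
  rw [mem_mset, testBit_orMask, Finset.mem_filter, mem_mset]
  constructor
  · rintro ⟨i, hi, h', hix⟩
    simp only [id_eq] at hix
    subst hix
    simp only [Bool.and_eq_true, Nat.beq_eq] at h'
    exact ⟨h'.1, gidx_injective (Fin.ext ((hr x).trans h'.2))⟩
  · rintro ⟨h1, h2⟩
    refine ⟨_, mem_bits24.2 (gidx x).isLt, ?_, rfl⟩
    rw [h1, Bool.true_and, Nat.beq_eq, ← hr x, h2]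

include hok hgen htree hclosed hgN hgD in
theorem sig_conj {h : Equiv.Perm GolayPt} (hh : h ∈ c.grp) :
    sig c.areas (pcode (g * h * g⁻¹)) = sig c.areas (pcode h) := by
  have hh' := (hgN h).1 hh
  have key : ∀ w ∈ c.grp, ∀ U ∈ c.areas, cnt (pcode (g * w * g⁻¹)) U = cnt (pcode w) U := by
    intro w hw U hU
    obtain ⟨l, -, rfl⟩ := List.mem_map.1 hU
    rw [cnt_eq (rep_of_mem hok hgen htree hclosed ((hgN w).1 hw)), cnt_eq (rep_of_mem hok hgen htree hclosed hw)]
    refine (congrArg Finset.card ?_).trans (Finset.card_smul_finset g _)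
    ext y
    obtain ⟨x, rfl⟩ := g.surjective y
    rw [Finset.mem_filter, ← Equiv.Perm.smul_def g x, Finset.smul_mem_smul_finset_iff, Finset.mem_filter]
    conv_lhs => rw [← smul_area hok hgen htree hclosed hgN hgD l, Finset.smul_mem_smul_finset_iff]
    simp [Equiv.Perm.smul_def]
  have hsqr : ∀ w ∈ c.grp, pmul (pcode (g * w * g⁻¹)) (pcode (g * w * g⁻¹)) = pcode (g * (w * w) * g⁻¹) :=
    fun w hw => by
      rw [pcode_mul hok hgen htree hclosed ((hgN w).1 hw) ((hgN w).1 hw)]
      group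
  have h2 := mul_mem hh hh
  have h4 := mul_mem h2 h2
  have h8 := mul_mem h4 h4
  unfold sig
  simp only [hsqr _ hh, hsqr _ h2, hsqr _ h4, pcode_mul hok hgen htree hclosed hh hh,
    pcode_mul hok hgen htree hclosed h2 h2, pcode_mul hok hgen htree hclosed h4 h4]
  have hfm : ∀ (As : List ℕ) (f f' : ℕ → List ℕ), (∀ U ∈ As, f U = f' U) → As.flatMap f = As.flatMap f' := by
    intro As f f' H
    induction As with
    | nil => rfl
    | cons a As ih =>
      rw [List.flatMap_cons, List.flatMap_cons, H a (List.mem_cons_self ..),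
        ih fun U hU => H U (List.mem_cons_of_mem _ hU)]
  exact hfm _ _ _ fun U hU => by rw [key _ hh U hU, key _ h2 U hU, key _ h4 U hU, key _ h8 U hU]

/-- The soundness theorem. -/
theorem isSimple_of_cert {q : ℕ} (hcard : Nat.card K = 2 ^ c.n * q) (hq : Odd q)
    (hok : ∀ g p, g ∈ M24 → Rep g p → ok p = true → g ∈ K) (hside : ∀ g ∈ K, g • mset c.side = mset c.side)
    (hgen : c.genOK ok = true) (htree : c.treeOK = true) (hclosed : c.closedOK = true)
    (hcenter : c.centerOK = true) (hder : c.derivOK ok = true) (hsq : c.sqOK = true) (haut : c.autOK = true)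
    (S : Sylow 2 K) : (groupFusionSystem (S : Subgroup K)).IsSimple 2 := by
  haveI : Fact (Nat.Prime 2) := ⟨Nat.prime_two⟩
  have hle := grp_le hok hgen
  have hcardX : Nat.card (c.grp.subgroupOf K) = 2 ^ (Nat.card K).factorization 2 := by
    rw [Nat.card_congr (Subgroup.subgroupOfEquivOfLe hle).toEquiv, card_grp hok hgen htree hclosed, hcard,
      Nat.factorization_mul (by positivity) (by rintro rfl; simp at hq), Finsupp.add_apply,
      Nat.Prime.factorization_pow Nat.prime_two, Finsupp.single_eq_same,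
      Nat.factorization_eq_zero_of_not_dvd (fun h => (Nat.not_odd_iff_even.2 (even_iff_two_dvd.2 h)) hq), add_zero]
  let P : Sylow 2 K := Sylow.ofCard (c.grp.subgroupOf K) hcardX
  have hP : (P : Subgroup K) = c.grp.subgroupOf K := Sylow.coe_ofCard _ hcardX
  simp only [derivOK, Bool.and_eq_true] at hder
  obtain ⟨ze, hze⟩ := Option.isSome_iff_exists.1 hder.1.1
  obtain ⟨hzr, hzc, hzg, -⟩ := node_spec hok hgen htree (KT.find_mem hze)
  refine isSimple_two_of_central_conj P S ?_ ⟨toPerm c.z, hle hzg⟩ ?_ ?_ ?_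
  · intro h
    rw [hP] at h
    rw [h, Subgroup.card_bot] at hcardX
    have h2 := card_grp hok hgen htree hclosed
    rw [← Nat.card_congr (Subgroup.subgroupOfEquivOfLe hle).toEquiv, h, Subgroup.card_bot] at h2
    exact absurd h2 (Nat.one_lt_two_pow (n_pos hgen).ne').ne
  · intro x hx hcom
    rw [hP, Subgroup.mem_subgroupOf] at hx
    obtain ⟨e, he, hr⟩ := key_of_mem hok hgen htree hclosed hx
    simp only [centerOK, List.all_eq_true, Bool.or_eq_true, Bool.not_eq_true', Nat.beq_eq] at hcenter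
    have hall : c.gp.all (fun p => Nat.beq (pmul (pcode x.1) p) (pmul p (pcode x.1))) = true := by
      rw [List.all_eq_true]
      intro p hp
      obtain ⟨hpr, hpK⟩ := gp_rep hok hgen hp
      rw [Nat.beq_eq, pmul_eq_pcode hr hpr, pmul_eq_pcode hpr hr]
      exact congrArg pcode (congrArg Subtype.val (hcom ⟨_, hpK⟩ (by
        rw [hP, Subgroup.mem_subgroupOf]; exact gp_mem hp)))
    rcases hcenter (pcode x.1) (List.mem_map.2 ⟨_, he, rfl⟩) with (h | h) | h
    · rw [hall] at h; exact absurd h (by decide)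
    · left
      rw [pId_eq] at h
      exact Subtype.ext (pcode_inj hok hgen htree hclosed hx (one_mem _) h)
    · right
      rw [← hzc] at h
      exact Subtype.ext (pcode_inj hok hgen htree hclosed hx hzg h)
  · intro T hTP hzT hcl
    have hdv : ∀ k < c.deriv.length + 2, ∃ x ∈ T, Rep (x : Equiv.Perm GolayPt) (c.dv.getD k 0) := by
      intro k
      induction k using Nat.strong_induction_on with
      | _ k ih =>
        intro hk
        rcases k with _ | _ | k
        · exact ⟨1, one_mem T, by simpa [dv] using rep_one⟩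
        · exact ⟨_, hzT, by simpa [dv] using hzr⟩
        have hkl : k < c.deriv.length := by omega
        have h := List.all_eq_true.1 hder.2 k (List.mem_range.2 hkl)
        obtain ⟨d, hd⟩ : ∃ d, c.deriv.getD k (0, 0, 0, 0, 0) = d := ⟨_, rfl⟩
        obtain ⟨g, gi, i, j, p⟩ := d
        rw [hd] at h
        simp only [Bool.and_eq_true, Nat.blt_eq, Nat.beq_eq] at h
        obtain ⟨⟨⟨⟨⟨⟨⟨⟨he, hokg⟩, hi⟩, hj⟩, hp⟩, hc1⟩, hc2⟩, hc3⟩, heq⟩ := h
        obtain ⟨hgr, hgK⟩ := elem_mem hok he hokg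
        obtain ⟨ep, hep⟩ := Option.isSome_iff_exists.1 hp
        obtain ⟨hpr, -, hpg, -⟩ := node_spec hok hgen htree (KT.find_mem hep)
        obtain ⟨xi, hxi, hxir⟩ := ih i (by omega) (by omega)
        obtain ⟨xj, hxj, hxjr⟩ := ih j (by omega) (by omega)
        have h1 : toPerm g * ((xi : Equiv.Perm GolayPt) * xj) = toPerm p * toPerm g := by
          have r1 := hgr.mul (hxir.mul hxjr hc1) hc2
          rw [heq] at r1
          exact r1.ext (hpr.mul hgr hc3)
        have hmem : (⟨toPerm g, hgK⟩ : K) * (xi * xj) * (⟨toPerm g, hgK⟩ : K)⁻¹ = ⟨toPerm p, hle hpg⟩ := by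
          apply Subtype.ext
          show toPerm g * ((xi : Equiv.Perm GolayPt) * xj) * (toPerm g)⁻¹ = toPerm p
          rw [h1, mul_inv_cancel_right]
        refine ⟨⟨toPerm p, hle hpg⟩, ?_, ?_⟩
        · rw [← hmem]
          exact hcl _ (mul_mem hxi hxj) _ (by rw [hmem, hP, Subgroup.mem_subgroupOf]; exact hpg)
        · have : c.dv.getD (k + 2) 0 = p := by
            have h5 : c.deriv[k] = (g, gi, i, j, p) := by rw [← hd, List.getD_eq_getElem _ _ hkl]
            simp [dv, List.getD_eq_getElem?_getD, List.getElem?_eq_getElem hkl, h5]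
          rw [this]
          exact hpr
    have hgrp : c.grp ≤ T.map K.subtype := by
      rw [grp, Subgroup.closure_le]
      rintro _ ⟨p, hp, rfl⟩
      have hp' := List.all_eq_true.1 hder.1.2 p hp
      rw [List.contains_iff_mem] at hp'
      obtain ⟨k, hk, hkp⟩ := List.getElem_of_mem hp'
      obtain ⟨x, hx, hxr⟩ := hdv k (by simp [dv] at hk; omega)
      rw [List.getD_eq_getElem _ _ hk, hkp] at hxr
      exact ⟨x, hx, (toPerm_eq hxr).symm⟩
    intro x hx
    rw [hP, Subgroup.mem_subgroupOf] at hx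
    obtain ⟨y, hy, hye⟩ := hgrp hx
    rwa [← show y = x from Subtype.ext hye]
  · intro gk hgk x
    have hgN : ∀ h, h ∈ c.grp ↔ (gk : Equiv.Perm GolayPt) * h * (gk : Equiv.Perm GolayPt)⁻¹ ∈ c.grp := by
      rw [hP] at hgk
      intro h
      constructor
      · intro hh
        exact Subgroup.mem_subgroupOf.1 ((Subgroup.mem_normalizer_iff.1 hgk ⟨h, hle hh⟩).1
          (Subgroup.mem_subgroupOf.2 hh))
      · intro hh
        have hhK : h ∈ K := by
          have := K.mul_mem (K.mul_mem (K.inv_mem gk.2) (hle hh)) gk.2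
          simpa [mul_assoc] using this
        exact Subgroup.mem_subgroupOf.1 ((Subgroup.mem_normalizer_iff.1 hgk ⟨h, hhK⟩).2
          (Subgroup.mem_subgroupOf.2 hh))
    set g : Equiv.Perm GolayPt := gk.1 with hg
    have hgD := hside g gk.2
    have hX2 : IsPGroup 2 (P : Subgroup K) := P.2
    have hcl : ∀ h ∈ c.grp, g * h * g⁻¹ ∈ c.grp := fun h hh => (hgN h).1 hh
    have hcong : ∀ a ∈ c.grp, ∀ b ∈ c.grp, vv c a = vv c b → vv c (g * a * g⁻¹) = vv c (g * b * g⁻¹) := by
      intro a ha b hb hab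
      obtain ⟨y, hy⟩ := exists_lift hok hgen hP (mul_mem (inv_mem ha) hb)
      have hy0 : y ∈ frattini (P : Subgroup K) := vv_frattini hok hgen htree hclosed hP hX2 hsq (by
        rw [hy, vv_mul hok hgen htree hclosed (inv_mem ha) hb, vv_inv hok hgen htree hclosed ha, hab, Nat.xor_self])
      let f : MulAut (P : Subgroup K) := (P : Subgroup K).normalizerMonoidHom ⟨gk, hgk⟩
      have h0 := frattini_vv hok hgen htree hclosed hP (Cfsg.Lib.PGroup.apply_mem_frattini f hy0)
      change vv c (g * y.1.1 * g⁻¹) = 0 at h0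
      rw [hy, show g * (a⁻¹ * b) * g⁻¹ = (g * a * g⁻¹)⁻¹ * (g * b * g⁻¹) by group,
        vv_mul hok hgen htree hclosed (inv_mem (hcl a ha)) (hcl b hb), vv_inv hok hgen htree hclosed (hcl a ha)] at h0
      exact Nat.xor_eq_zero_iff.1 h0
    have hfix : ∀ h ∈ c.grp, vv c (g * h * g⁻¹) = vv c h := by
      intro h hh
      unfold Cert.grp at hh
      induction hh using Subgroup.closure_induction with
      | mem x hx =>
        obtain ⟨p, hp, rfl⟩ := hx
        obtain ⟨k, hk, rfl⟩ := List.getElem_of_mem hp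
        have hk' : k < c.n := by rw [← gp_length hgen]; exact hk
        have hpk := gp_mem (c := c) (List.getElem_mem hk)
        have hvk : vv c (toPerm c.gp[k]) = (1 <<< k) >>> c.m := by
          rw [← List.getD_eq_getElem _ 0 hk]; exact vv_gp hok hgen htree hclosed hk'
        by_cases hkm : k < c.m
        · have h0 : vv c (toPerm c.gp[k]) = vv c 1 := by
            rw [hvk, vv_one hok hgen htree hclosed, Nat.one_shiftLeft, Nat.shiftRight_eq_div_pow]
            exact Nat.div_eq_of_lt (Nat.pow_lt_pow_right (by norm_num) hkm)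
          rw [hcong _ hpk _ (one_mem _) h0, mul_one, mul_inv_cancel, h0]
        simp only [autOK, Bool.and_eq_true, List.all_eq_true, List.mem_range, Bool.or_eq_true, Nat.blt_eq,
          List.contains_iff_mem] at haut
        have hkw := (haut.1 k hk').resolve_left hkm
        obtain ⟨kw, hkwm, hkwe⟩ := List.mem_map.1 hkw
        obtain ⟨hw, hv⟩ := haut.2 kw hkwm
        rw [hkwe] at hw hv
        obtain ⟨ey, hey, -⟩ := key_of_mem hok hgen htree hclosed (hcl _ hpk)
        have hvy : vv c (g * toPerm c.gp[k] * g⁻¹) = ey >>> c.m := by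
          simp [vv, vOf, (node_spec hok hgen htree hey).2.2.2.2.2]
        have hlt : ey >>> c.m < 2 ^ (c.n - c.m) := by
          rw [Nat.shiftRight_eq_div_pow, Nat.div_lt_iff_lt_mul (by positivity), ← pow_add,
            Nat.sub_add_cancel (m_le hgen)]
          exact (node_spec hok hgen htree hey).2.2.2.1
        rcases hv _ hlt with hno | heq
        · exfalso
          rw [Bool.not_eq_true', List.all_eq_false] at hno
          obtain ⟨V, hV, hVn⟩ := hno
          obtain ⟨w, hwm, rfl⟩ := List.mem_map.1 hV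
          obtain ⟨hws, hwv⟩ := hw w hwm
          obtain ⟨ew, hew⟩ := Option.isSome_iff_exists.1 hws
          obtain ⟨-, hwc, hwg, -⟩ := node_spec hok hgen htree (KT.find_mem hew)
          rw [Nat.beq_eq] at hwv
          have hvw : vv c (toPerm w) = vv c (toPerm c.gp[k]) := by
            rw [hvk, vv, hwc]; exact hwv
          obtain ⟨ew', hew', -⟩ := key_of_mem hok hgen htree hclosed (hcl _ hwg)
          apply hVn
          rw [List.contains_iff_mem]
          refine List.mem_map.2 ⟨_, List.mem_filter.2 ⟨hew', ?_⟩, ?_⟩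
          · rw [beq_iff_eq, sig_conj hok hgen htree hclosed hgN hgD hwg, hwc]
          · rw [← hvy, ← hcong _ hwg _ hpk hvw]
            simp [vv, vOf, (node_spec hok hgen htree hew').2.2.2.2.2]
        · rw [hvy, hvk]
          exact Nat.eq_of_beq_eq_true heq
      | one => rw [mul_one, mul_inv_cancel]
      | mul a b ha hb iha ihb =>
        rw [show g * (a * b) * g⁻¹ = (g * a * g⁻¹) * (g * b * g⁻¹) by group,
          vv_mul hok hgen htree hclosed (hcl a ha) (hcl b hb), iha, ihb, vv_mul hok hgen htree hclosed ha hb]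
      | inv a ha iha =>
        rw [show g * a⁻¹ * g⁻¹ = (g * a * g⁻¹)⁻¹ by group, vv_inv hok hgen htree hclosed (hcl a ha), iha,
          vv_inv hok hgen htree hclosed ha]
    have hxg := mem_X hP (x := x)
    obtain ⟨y, hy⟩ := exists_lift hok hgen hP (mul_mem (inv_mem hxg) (hcl _ hxg))
    refine ⟨y, vv_frattini hok hgen htree hclosed hP hX2 hsq ?_, Subtype.ext hy⟩
    rw [hy, vv_mul hok hgen htree hclosed (inv_mem hxg) (hcl _ hxg), vv_inv hok hgen htree hclosed hxg, hfix _ hxg,
      Nat.xor_self]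

end Cert

end Cfsg.Lib.FusionSys.MathieuCert
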