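import Cfsg.Agent.Lib.FusionSys.MathieuCertM12
import Cfsg.Agent.Lib.FusionSys.MathieuCertSimple

/-!
The checks of the certificate for M12.
-/

set_option autoImplicit false
set_option maxHeartbeats 0

namespace Cfsg.Lib.FusionSys.MathieuCert

open Cfsg Cfsg.Lib.Concrete

theorem certM12_genOK : certM12.genOK (fun p => Nat.beq (pimg p 340831) 340831) = true := by decide +kernel

theorem certM12_treeOK : certM12.treeOK = true := by decide +kernel

theorem certM12_closedOK : certM12.closedOK = true := by decide +kernel

theorem certM12_centerOK : certM12.centerOK = true := by decide +kernel

theorem certM12_derivOK : certM12.derivOK (fun p => Nat.beq (pimg p 340831) 340831) = true := by decide +kernel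

theorem certM12_sqOK : certM12.sqOK = true := by decide +kernel

theorem certM12_autOK : certM12.autOK = true := by decide +kernel

end Cfsg.Lib.FusionSys.MathieuCert
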