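import Cfsg.Agent.Lib.FusionSys.MathieuCertM22
import Cfsg.Agent.Lib.FusionSys.MathieuCertSimple

/-!
The checks of the certificate for M22.
-/

set_option autoImplicit false
set_option maxHeartbeats 0

namespace Cfsg.Lib.FusionSys.MathieuCert

open Cfsg Cfsg.Lib.Concrete

theorem certM22_genOK : certM22.genOK (fun p => Nat.beq (pget p 23) 23 && Nat.beq (pget p 0) 0) = true := by decide +kernel

theorem certM22_treeOK : certM22.treeOK = true := by decide +kernel

theorem certM22_closedOK : certM22.closedOK = true := by decide +kernel

theorem certM22_centerOK : certM22.centerOK = true := by decide +kernel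

theorem certM22_derivOK : certM22.derivOK (fun p => Nat.beq (pget p 23) 23 && Nat.beq (pget p 0) 0) = true := by decide +kernel

theorem certM22_sqOK : certM22.sqOK = true := by decide +kernel

theorem certM22_autOK : certM22.autOK = true := by decide +kernel

end Cfsg.Lib.FusionSys.MathieuCert
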