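import Cfsg.Agent.Lib.FusionSys.MathieuCertM23
import Cfsg.Agent.Lib.FusionSys.MathieuCertSimple

/-!
The checks of the certificate for M23.
-/

set_option autoImplicit false
set_option maxHeartbeats 0

namespace Cfsg.Lib.FusionSys.MathieuCert

open Cfsg Cfsg.Lib.Concrete

theorem certM23_genOK : certM23.genOK (fun p => Nat.beq (pget p 23) 23) = true := by decide +kernel

theorem certM23_treeOK : certM23.treeOK = true := by decide +kernel

theorem certM23_closedOK : certM23.closedOK = true := by decide +kernel

theorem certM23_centerOK : certM23.centerOK = true := by decide +kernel

theorem certM23_derivOK : certM23.derivOK (fun p => Nat.beq (pget p 23) 23) = true := by decide +kernel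

theorem certM23_sqOK : certM23.sqOK = true := by decide +kernel

theorem certM23_autOK : certM23.autOK = true := by decide +kernel

end Cfsg.Lib.FusionSys.MathieuCert
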