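import Cfsg.Agent.Lib.FusionSys.MathieuCertM24
import Cfsg.Agent.Lib.FusionSys.MathieuCertSimple

/-!
The checks of the certificate for M24.
-/

set_option autoImplicit false
set_option maxHeartbeats 0

namespace Cfsg.Lib.FusionSys.MathieuCert

open Cfsg Cfsg.Lib.Concrete

theorem certM24_genOK : certM24.genOK (fun _ => true) = true := by decide +kernel

theorem certM24_treeOK : certM24.treeOK = true := by decide +kernel

theorem certM24_closedOK : certM24.closedOK = true := by decide +kernel

theorem certM24_centerOK : certM24.centerOK = true := by decide +kernel

theorem certM24_derivOK : certM24.derivOK (fun _ => true) = true := by decide +kernel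

theorem certM24_sqOK : certM24.sqOK = true := by decide +kernel

theorem certM24_autOK : certM24.autOK = true := by decide +kernel

end Cfsg.Lib.FusionSys.MathieuCert
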