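import Cfsg.Agent.Lib.FusionSys.MathieuCertSimple
import Cfsg.Agent.Lib.FusionSys.MathieuCheckM24
import Cfsg.Agent.Lib.FusionSys.MathieuCheckM23
import Cfsg.Agent.Lib.FusionSys.MathieuCheckM22
import Cfsg.Agent.Lib.FusionSys.MathieuCheckM12

/-!
The 2-fusion systems of the Mathieu groups of degree 12, 22, 23 and 24 are simple.
-/

set_option autoImplicit false

namespace Cfsg.Lib.FusionSys.MathieuCert

open Cfsg Cfsg.Lib.Concrete
open scoped Pointwise

theorem smul_full (g : Equiv.Perm GolayPt) : g • mset 16777215 = mset 16777215 := by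
  rw [mset_full]; exact Finset.smul_finset_univ

theorem fix_of_pget {g : Equiv.Perm GolayPt} {p : ℕ} (hr : Rep g p) {i : Fin 24} {x : GolayPt} (hx : gpt i = x)
    (h : Nat.beq (pget p i.val) i.val = true) : g x = x :=
  hx ▸ hr.apply_eq (Nat.eq_of_beq_eq_true h)

theorem ok_M23 (g : Equiv.Perm GolayPt) (p : ℕ) (hg : g ∈ M24) (hr : Rep g p)
    (h : Nat.beq (pget p 23) 23 = true) : g ∈ Spor.M23 :=
  ⟨hg, fix_of_pget hr (i := 23) (by decide) h⟩

theorem isSimple_M24 (S : Sylow 2 M24) : (groupFusionSystem (S : Subgroup M24)).IsSimple 2 :=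
  Cert.isSimple_of_cert (c := certM24) (K := M24) (ok := fun _ => true) (q := 239085)
    (by rw [card_M24]; decide +kernel) (by decide) (fun _ _ h _ _ => h) (fun g _ => smul_full g)
    certM24_genOK certM24_treeOK certM24_closedOK certM24_centerOK certM24_derivOK certM24_sqOK certM24_autOK S

theorem isSimple_sporM23_fusion (S : Sylow 2 Spor.M23) : (groupFusionSystem (S : Subgroup Spor.M23)).IsSimple 2 :=
  Cert.isSimple_of_cert (c := certM23) (K := Spor.M23) (ok := fun p => Nat.beq (pget p 23) 23) (q := 79695)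
    (by rw [card_sporM23]; decide +kernel) (by decide) ok_M23 (fun g _ => smul_full g)
    certM23_genOK certM23_treeOK certM23_closedOK certM23_centerOK certM23_derivOK certM23_sqOK certM23_autOK S

theorem isSimple_sporM22_fusion (S : Sylow 2 Spor.M22) : (groupFusionSystem (S : Subgroup Spor.M22)).IsSimple 2 :=
  Cert.isSimple_of_cert (c := certM22) (K := Spor.M22)
    (ok := fun p => Nat.beq (pget p 23) 23 && Nat.beq (pget p 0) 0) (q := 3465)
    (by rw [card_sporM22]; decide +kernel) (by decide)
    (fun g p hg hr h => by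
      rw [Bool.and_eq_true] at h
      exact ⟨ok_M23 g p hg hr h.1, fix_of_pget hr (i := 0) (by decide) h.2⟩)
    (fun g _ => smul_full g)
    certM22_genOK certM22_treeOK certM22_closedOK certM22_centerOK certM22_derivOK certM22_sqOK certM22_autOK S

theorem isSimple_sporM12_fusion (S : Sylow 2 Spor.M12) : (groupFusionSystem (S : Subgroup Spor.M12)).IsSimple 2 :=
  Cert.isSimple_of_cert (c := certM12) (K := Spor.M12) (ok := fun p => Nat.beq (pimg p 340831) 340831) (q := 1485)
    (by rw [card_sporM12]; decide +kernel) (by decide)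
    (fun g p hg hr h => ⟨hg, MulAction.mem_stabilizer_iff.2 (by
      rw [squareDodecad_eq, hr.smul_mset, Nat.eq_of_beq_eq_true h])⟩)
    (fun g hg => by
      have h := MulAction.mem_stabilizer_iff.1 hg.2
      rw [squareDodecad_eq] at h
      exact h)
    certM12_genOK certM12_treeOK certM12_closedOK certM12_centerOK certM12_derivOK certM12_sqOK certM12_autOK S

end Cfsg.Lib.FusionSys.MathieuCert
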