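import Cfsg.Agent.Lib.FusionSys.Saturation
import Cfsg.Agent.Lib.FusionSys.CubePlane
import Cfsg.Agent.Lib.FusionSys.Alperin
import Cfsg.Agent.Lib.PGroup.MaxClassLayers

/-!
# Automorphisms of `γ_{n-4}` in a fusion system over a group of maximal class

An automorphism of the system with a forbidden sign pattern on the flag of `γ_{n-4}` would extend
to the whole group.
-/

set_option autoImplicit false
set_option linter.unusedSectionVars false

namespace Cfsg.Lib.FusionSys.MaxClassFlag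

open Cfsg Cfsg.FusionSystem
open Cfsg.Lib.PGroup Cfsg.Lib.PGroup.MaxClass Cfsg.Lib.PGroup.Uniform
open scoped commutatorElement

variable {p : ℕ} [hp : Fact p.Prime]
variable {Ω : Type*} [Group Ω] {S : Subgroup Ω}

local notation:max "γ[" k "]" => (Subgroup.lowerCentralSeries (⊤ : Subgroup _) k)

/-- The last term of order `p ^ 3` of the series, in the ambient group. -/
def top3 (S : Subgroup Ω) (n : ℕ) : Subgroup Ω :=
  (γ[n - 4] : Subgroup ↥S).map S.subtype

theorem top3_le (n : ℕ) : top3 S n ≤ S := Subgroup.map_subtype_le _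

/-- The inclusion into `S`. -/
def incl (S : Subgroup Ω) (n : ℕ) : top3 S n →* ↥S := Subgroup.inclusion (top3_le n)

theorem incl_injective (n : ℕ) : Function.Injective (incl S n) := Subgroup.inclusion_injective (top3_le n)

theorem mem_top3 {n : ℕ} (x : ↥S) : (x : Ω) ∈ top3 S n ↔ x ∈ (γ[n - 4] : Subgroup ↥S) :=
  Subgroup.mem_map_iff_mem S.subtype_injective

theorem incl_mem {n : ℕ} (v : top3 S n) : incl S n v ∈ (γ[n - 4] : Subgroup ↥S) :=
  (mem_top3 (incl S n v)).1 v.2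

theorem conj_mem_top3 {n : ℕ} : ∀ g ∈ S, ∀ x ∈ top3 S n, g * x * g⁻¹ ∈ top3 S n := by
  intro g hg x hx
  exact (mem_top3 (⟨g, hg⟩ * ⟨x, top3_le n hx⟩ * ⟨g, hg⟩⁻¹)).2
    ((inferInstance : (γ[n - 4] : Subgroup ↥S).Normal).conj_mem _ ((mem_top3 ⟨x, top3_le n hx⟩).1 hx) _)

theorem normalizerIn_top3 (n : ℕ) : normalizerIn S (top3 S n) = S := le_antisymm (normalizerIn_le _)
  fun g hg => ⟨hg, by
    refine Subgroup.mem_normalizer_iff.2 fun x => ⟨conj_mem_top3 g hg x, fun hx => ?_⟩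
    simpa [mul_assoc] using conj_mem_top3 g⁻¹ (inv_mem hg) _ hx⟩

/-- `a` acts on `γ_k / γ_{k+1}` inside `γ_{n-4}` as the power `i`. -/
def LayerT (S : Subgroup Ω) (n : ℕ) (a : MulAut (top3 S n)) (k : ℕ) (i : ℤ) : Prop :=
  ∀ v : top3 S n, incl S n v ∈ (γ[k] : Subgroup ↥S) →
    ((incl S n v) ^ i)⁻¹ * incl S n (a v) ∈ (γ[k + 1] : Subgroup ↥S)

theorem isFullyNormalized_top3 [Finite S] (F : FusionSystem S) (n : ℕ) :
    F.IsFullyNormalized (top3 S n) :=
  ⟨top3_le n, fun Q _ => by rw [normalizerIn_top3]; exact card_le_of_le (normalizerIn_le Q)⟩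

variable [Finite S] {n : ℕ} (h : IsMax p ↥S n)
include h

theorem top3_comm (h5 : 5 ≤ n) (a b : top3 S n) : Commute a b :=
  incl_injective n (by
    rw [map_mul, map_mul]
    exact Layers.gamma_abelian h h5 _ (incl_mem a) _ (incl_mem b))

theorem pres_of_layer {a : MulAut (top3 S n)} {k : ℕ} {i : ℤ} (ha : LayerT S n a k i) :
    ∀ v, incl S n v ∈ (γ[k] : Subgroup ↥S) → incl S n (a v) ∈ (γ[k] : Subgroup ↥S) := by
  intro v hv
  have h1 := mul_mem (zpow_mem hv i)
    (Subgroup.lowerCentralSeries_antitone (⊤ : Subgroup ↥S) (Nat.le_succ k) (ha v hv))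
  rwa [mul_inv_cancel_left] at h1

theorem surj_of_pres {a : MulAut (top3 S n)} {k : ℕ}
    (ha : ∀ v, incl S n v ∈ (γ[k] : Subgroup ↥S) → incl S n (a v) ∈ (γ[k] : Subgroup ↥S))
    {v : top3 S n} (hv : incl S n v ∈ (γ[k] : Subgroup ↥S)) :
    ∃ q, incl S n q ∈ (γ[k] : Subgroup ↥S) ∧ a q = v := by
  haveI := finite_of_le (top3_le (S := S) n)
  set K : Subgroup (top3 S n) := (γ[k] : Subgroup ↥S).comap (incl S n)
  have heq : K.map a.toMonoidHom = K := Subgroup.eq_of_le_of_card_ge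
    (by rintro _ ⟨q, hq, rfl⟩; exact ha q hq)
    (Subgroup.card_map_of_injective a.injective).ge
  obtain ⟨q, hq, hqv⟩ : v ∈ K.map a.toMonoidHom := heq.symm ▸ hv
  exact ⟨q, hq, hqv⟩

theorem eq_one_of_deep {k : ℕ} {v : top3 S n} (hk : n - 1 ≤ k)
    (hv : incl S n v ∈ (γ[k] : Subgroup ↥S)) : v = 1 := by
  refine incl_injective n ?_
  rw [gamma_eq_bot h hk, Subgroup.mem_bot] at hv
  rw [hv, map_one]

/-- The unipotent automorphisms of the flag. -/
def uni (A : Subgroup (MulAut (top3 S n))) : Subgroup A where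
  carrier := {r | ∀ k, n - 4 ≤ k → LayerT S n r k 1}
  one_mem' := fun k _ v _ => by simp
  mul_mem' := by
    intro r s hr hs k hk v hv
    have h1 := hs k hk v hv
    have h2 := hr k hk _ (pres_of_layer h (hs k hk) v hv)
    rw [zpow_one] at h1 h2 ⊢
    have := mul_mem h1 h2
    rwa [mul_assoc, mul_inv_cancel_left] at this
  inv_mem' := by
    intro r hr k hk v hv
    obtain ⟨q, hq, rfl⟩ := surj_of_pres h (pres_of_layer h (hr k hk)) hv
    have h1 := inv_mem (hr k hk q hq)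
    rw [zpow_one, mul_inv_rev, inv_inv] at h1
    rw [zpow_one, InvMemClass.coe_inv, MulAut.inv_apply_self]
    exact h1

theorem isPGroup_uni (hp2 : p ≠ 2) (h5 : 5 ≤ n) (A : Subgroup (MulAut (top3 S n))) :
    IsPGroup p (uni h A) := by
  rintro ⟨r, hr⟩
  refine ⟨1, Subtype.ext (Subtype.ext (MulEquiv.ext fun v => ?_))⟩
  simp only [pow_one, SubgroupClass.coe_pow, OneMemClass.coe_one, MulAut.one_apply]
  set y := v⁻¹ * (r : MulAut (top3 S n)) v with hy
  set z' := y⁻¹ * (r : MulAut (top3 S n)) y with hz'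
  have hry : (r : MulAut (top3 S n)) v = v * y := (mul_inv_cancel_left _ _).symm
  have hrz : (r : MulAut (top3 S n)) y = y * z' := (mul_inv_cancel_left _ _).symm
  have hy3 : incl S n y ∈ (γ[n - 3] : Subgroup ↥S) := by
    have := hr (n - 4) le_rfl v (incl_mem v)
    rw [zpow_one, ← map_inv, ← map_mul, show n - 4 + 1 = n - 3 by omega] at this
    exact this
  have hz2 : incl S n z' ∈ (γ[n - 2] : Subgroup ↥S) := by
    have := hr (n - 3) (by omega) y hy3
    rw [zpow_one, ← map_inv, ← map_mul, show n - 3 + 1 = n - 2 by omega] at this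
    exact this
  have hrfix : (r : MulAut (top3 S n)) z' = z' := by
    have := hr (n - 2) (by omega) z' hz2
    rw [zpow_one, ← map_inv, ← map_mul] at this
    exact (inv_mul_eq_one.1 (eq_one_of_deep h (by omega) this)).symm
  have hk : ∀ k : ℕ, ((r : MulAut (top3 S n)) ^ k) v = v * y ^ k * z' ^ k.choose 2 := by
    intro k
    induction k with
    | zero => simp
    | succ k ih =>
      rw [pow_succ', MulAut.mul_apply, ih, map_mul, map_mul, map_pow, map_pow, hry, hrz, hrfix,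
        (top3_comm h h5 y z').mul_pow, show (k + 1).choose 2 = k + k.choose 2 by
          rw [Nat.choose_succ_succ', Nat.choose_one_right], pow_add z', pow_succ' y]
      simp only [mul_assoc]
  have hpow : ∀ q : top3 S n, incl S n q ∈ (γ[n - 3] : Subgroup ↥S) → q ^ p = 1 := fun q hq =>
    incl_injective n (by
      rw [map_pow, map_one]
      have := hp.out.two_le
      exact Degree.pow_eq_one h hp2 (k := n - 3) (by omega) (by omega) hq)
  obtain ⟨l, hl⟩ := hp.out.dvd_choose_self two_ne_zero (lt_of_le_of_ne hp.out.two_le (Ne.symm hp2))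
  rw [hk, hpow y hy3, hl, pow_mul, hpow z' (Subgroup.lowerCentralSeries_antitone _ (by omega) hz2),
    one_pow, mul_one, mul_one]

/-- No automorphism of the system has a forbidden sign pattern on the flag. -/
theorem of_auto (hp2 : p ≠ 2) (hS : IsPGroup p ↥S) (h5 : 5 ≤ n) {F : FusionSystem S} (hF : F.IsSaturated p)
    (a : MulAut (top3 S n)) (haA : a ∈ F.autGroup (top3 S n)) (ha1 : LayerT S n a (n - 4) 1)
    (ha2 : (LayerT S n a (n - 3) 1 ∧ LayerT S n a (n - 2) (-1)) ∨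
      (LayerT S n a (n - 3) (-1) ∧ LayerT S n a (n - 2) 1 ∧
        twoCent ↥S (n - 3) ≠ twoCent ↥S 1)) : False := by
  have hTS : top3 S n ≤ S := top3_le n
  haveI := finite_of_le hTS
  set A := F.autGroup (top3 S n) with hA
  obtain ⟨hfc, -, RT, hRT⟩ := isFullyAutomized_and_fc_of_fn hS hF (isFullyNormalized_top3 F n)
  have hmemRT : ∀ r : A, r ∈ (RT : Subgroup A) ↔
      (r : MulAut (top3 S n)) ∈ autInducedBy S (top3 S n) := fun r =>
    (SetLike.ext_iff.1 hRT r).trans Subgroup.mem_subgroupOf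
  have hRU : (RT : Subgroup A) ≤ uni h A := by
    intro r hr k _ v hv
    rw [hmemRT] at hr
    obtain ⟨g, hg, hgr⟩ := mem_autInducedBy.1 hr
    have h1 := mem_gamma_succ (inv_mem hv) ⟨g, hg⟩
    rw [commutatorElement_def, inv_inv] at h1
    rw [zpow_one, show incl S n ((r : MulAut (top3 S n)) v) = ⟨g, hg⟩ * incl S n v * (⟨g, hg⟩ : ↥S)⁻¹ from
      Subtype.ext (hgr v)]
    simpa [mul_assoc] using h1
  have hUeq : uni h A = (RT : Subgroup A) := RT.is_maximal' (isPGroup_uni h hp2 h5 A) hRU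
  have hapres : ∀ k, n - 4 ≤ k → ∀ v, incl S n v ∈ (γ[k] : Subgroup ↥S) →
      incl S n (a v) ∈ (γ[k] : Subgroup ↥S) := by
    intro k hk v hv
    rcases Nat.lt_or_ge k (n - 1) with hlt | hge
    swap
    · rw [eq_one_of_deep h hge hv, map_one, map_one]; exact one_mem _
    rcases (show k = n - 4 ∨ k = n - 3 ∨ k = n - 2 by omega) with rfl | rfl | rfl
    · exact incl_mem _
    · rcases ha2 with ⟨hA, -⟩ | ⟨hA, -⟩ <;> exact pres_of_layer h hA v hv
    · rcases ha2 with ⟨-, hA⟩ | ⟨-, hA, -⟩ <;> exact pres_of_layer h hA v hv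
  have hUn : ∀ r ∈ uni h A, (⟨a, haA⟩ : A) * r * (⟨a, haA⟩ : A)⁻¹ ∈ uni h A := by
    intro r hr k hk v hv
    obtain ⟨q, hq, rfl⟩ := surj_of_pres h (hapres k hk) hv
    have h1 := hr k hk q hq
    rw [zpow_one, ← map_inv, ← map_mul] at h1
    have h2 := hapres (k + 1) (by omega) _ h1
    rw [map_mul, map_inv, map_mul, map_inv] at h2
    rw [zpow_one]
    show (incl S n (a q))⁻¹ * incl S n (a ((r : MulAut (top3 S n)) (a⁻¹ (a q)))) ∈ _
    rw [MulAut.inv_apply_self]
    exact h2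
  have hTrec := isReceptive_of_fc hS hF hfc
  obtain ⟨Φ, hΦ, hΦe⟩ := IsReceptive_ext hTrec ((mem_autGroup hTS).1 haA) (N := S) (fun g hg => by
    have hgN : g ∈ Subgroup.normalizer (top3 S n : Set Ω) :=
      ((normalizerIn_top3 (S := S) n).symm ▸ hg : g ∈ normalizerIn S (top3 S n)).2
    set cg : A := ⟨conjAut (top3 S n) hgN, autInducedBy_le_autGroup hTS (conjAut_mem_autInducedBy hgN hg)⟩
    have hcg : cg ∈ (RT : Subgroup A) := by
      exact (hmemRT cg).2 (conjAut_mem_autInducedBy hgN hg)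
    have h1 := hUn cg (hUeq.symm ▸ hcg)
    rw [hUeq, hmemRT] at h1
    obtain ⟨g', hg', hgr⟩ := mem_autInducedBy.1 h1
    refine ⟨hg, hgN, g', hg', fun x y hxy => ?_⟩
    rw [← hgr (a x)]
    show _ = ((a (conjAut (top3 S n) hgN (a⁻¹ (a x))) : top3 S n) : Ω)
    rw [MulAut.inv_apply_self, show conjAut (top3 S n) hgN x = y from Subtype.ext (by rw [coe_conjAut, hxy])])
  have hΦr : Φ.range = S := range_eq_of_card_le hΦ le_rfl (fun x => hom_mem hΦ x) le_rfl
  set φ : MulAut ↥S := homIso hΦ hΦr with hφ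
  have htr : ∀ (k : ℕ) (i : ℤ), n - 4 ≤ k → LayerT S n a k i → Layers.Layer φ k i := by
    intro k i hk hL x hx
    set v : top3 S n := ⟨(x : Ω), (mem_top3 x).2 (Subgroup.lowerCentralSeries_antitone _ hk hx)⟩
    have hv : incl S n v = x := Subtype.ext rfl
    have h1 := hL v (hv ▸ hx)
    rwa [hv, show incl S n (a v) = φ x from Subtype.ext (hΦe _ _ x.2).symm] at h1
  refine Layers.no_auto h hp2 h5 φ (htr _ _ le_rfl ha1) ?_
  rcases ha2 with ⟨h2, h3⟩ | ⟨h2, h3, hne⟩
  · exact Or.inl ⟨htr _ _ (by omega) h2, htr _ _ (by omega) h3⟩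
  · exact Or.inr ⟨htr _ _ (by omega) h2, htr _ _ (by omega) h3, hne⟩

theorem exists_gen_last : ∃ zT : top3 S n, zT ≠ 1 ∧ incl S n zT ∈ (γ[n - 2] : Subgroup ↥S) ∧
    ∀ v, incl S n v ∈ (γ[n - 2] : Subgroup ↥S) → ∃ i : ℤ, zT ^ i = v := by
  have hn := h.three
  obtain ⟨z, hz, hz1⟩ := (Subgroup.bot_or_exists_ne_one _).resolve_left h.below
  have hz' : z ∉ (γ[n - 2 + 1] : Subgroup ↥S) := fun hc => hz1 (by
    rwa [gamma_eq_bot h (by omega), Subgroup.mem_bot] at hc)
  refine ⟨⟨(z : Ω), (mem_top3 z).2 (Subgroup.lowerCentralSeries_antitone _ (show n - 4 ≤ n - 2 by omega) hz)⟩,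
    fun hh => hz1 (congrArg (incl S n) hh), hz, fun v hv => ?_⟩
  have hsz := sup_zpowers h (show 1 ≤ n - 2 by omega) hz hz'
  rw [show (γ[n - 2 + 1] : Subgroup ↥S) = ⊥ from gamma_eq_bot h (by omega), sup_bot_eq] at hsz
  obtain ⟨i, hi⟩ := (hsz ▸ hv : incl S n v ∈ Subgroup.zpowers z)
  exact ⟨i, incl_injective n (by rw [map_zpow]; exact hi)⟩

/-- Transvection centre in the centre of `S`. -/
theorem false_of_central (hp2 : p ≠ 2) (hS : IsPGroup p ↥S) (h5 : 5 ≤ n) {F : FusionSystem S}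
    (hF : F.IsSaturated p) (η : MulAut (top3 S n)) (hη : η ∈ F.autGroup (top3 S n))
    (W : Subgroup (top3 S n)) (hWexp : ∀ v ∈ W, v ^ p = 1) (hWη : ∀ v ∈ W, η v ∈ W)
    (hdisp : ∀ v, v⁻¹ * η v ∈ W) (w : top3 S n) (hw1 : w ≠ 1)
    (hw : incl S n w ∈ (γ[n - 2] : Subgroup ↥S)) (hηw : η w = w⁻¹)
    (hdec : ∀ v ∈ W, ∃ (i : ℕ) (c : top3 S n), v = w ^ i * c ∧ η v = (w ^ i)⁻¹ * c) : False := by
  set π := (QuotientGroup.mk' (γ[n - 2] : Subgroup ↥S)).comp (incl S n) with hπ
  have hπw : π w = 1 := (QuotientGroup.eq_one_iff _).2 hw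
  have hπE : ∀ v ∈ W, π (η v) = π v := by
    intro v hv
    obtain ⟨i, c, e1, e2⟩ := hdec v hv
    rw [e2, e1, map_mul, map_mul, map_inv, map_pow, hπw, one_pow, inv_one]
  have hkE : ∀ (k : ℕ), ∀ v ∈ W, π ((η ^ k) v) = π v := by
    intro k
    induction k with
    | zero => intro v _; simp
    | succ k ih => intro v hv; rw [pow_succ, MulAut.mul_apply, ih _ (hWη v hv), hπE v hv]
  have hk : ∀ (k : ℕ) (v : top3 S n), π ((η ^ k) v) = π v * π (v⁻¹ * η v) ^ k := by
    intro k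
    induction k with
    | zero => intro v; simp
    | succ k ih =>
      intro v
      rw [pow_succ η, MulAut.mul_apply]
      conv_lhs => rw [← mul_inv_cancel_left v (η v)]
      rw [map_mul (η ^ k), map_mul π, ih, hkE k _ (hdisp v), mul_assoc, ← pow_succ]
  have hpp : ∀ v, π ((η ^ p) v) = π v := by
    intro v
    rw [hk, ← map_pow, hWexp _ (hdisp v), map_one, mul_one]
  obtain ⟨zT, hz1, hz, hZgen⟩ := exists_gen_last h
  have hn := h.three
  have hzp : zT ^ p = 1 := incl_injective n (by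
    rw [map_pow, map_one]
    exact Degree.pow_eq_one h hp2 (k := n - 2) (by omega) (by have := hp.out.two_le; omega) hz)
  obtain ⟨iw, hiw⟩ := hZgen w hw
  have hηz : η zT = zT⁻¹ := by
    obtain ⟨l, hl⟩ := CubePlane.mem_line hzp (⟨iw, hiw⟩ : w ∈ Subgroup.zpowers zT) hw1
    rw [← show w ^ l = zT from hl, map_zpow, hηw, inv_zpow]
  have hkz : ∀ k : ℕ, Odd k → (η ^ k) zT = zT⁻¹ := by
    rintro k ⟨r, rfl⟩
    induction r with
    | zero => rw [Nat.mul_zero, zero_add, pow_one, hηz]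
    | succ r ih =>
      rw [show 2 * (r + 1) + 1 = 2 * r + 1 + 1 + 1 by ring, pow_succ η, MulAut.mul_apply, hηz, map_inv,
        pow_succ η, MulAut.mul_apply, hηz, map_inv, ih, inv_inv]
  refine of_auto h hp2 hS h5 hF (η ^ p) (pow_mem hη p) (fun v _ => ?_)
    (Or.inl ⟨fun v _ => ?_, fun v hv => ?_⟩)
  · rw [zpow_one]
    refine Subgroup.lowerCentralSeries_antitone _ (show n - 4 + 1 ≤ n - 2 by omega) ?_
    exact QuotientGroup.eq.1 (hpp v).symm
  · rw [zpow_one, show n - 3 + 1 = n - 2 by omega]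
    exact QuotientGroup.eq.1 (hpp v).symm
  · obtain ⟨i, rfl⟩ := hZgen v hv
    rw [map_zpow (η ^ p), hkz p (hp.out.odd_of_ne_two hp2), map_zpow, map_zpow, map_inv, zpow_neg_one,
      inv_inv, inv_zpow, mul_inv_cancel]
    exact one_mem _

/-- Transvection centre outside the centre of `S`. -/
theorem false_of_exceptional (hp2 : p ≠ 2) (hS : IsPGroup p ↥S) (h5 : 5 ≤ n) {F : FusionSystem S}
    (hF : F.IsSaturated p) (hne : twoCent ↥S (n - 3) ≠ twoCent ↥S 1)
    (η : MulAut (top3 S n)) (hη : η ∈ F.autGroup (top3 S n))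
    (hpres : ∀ v, incl S n v ∈ (γ[n - 3] : Subgroup ↥S) → incl S n (η v) ∈ (γ[n - 3] : Subgroup ↥S))
    (hdisp : ∀ v, incl S n (v⁻¹ * η v) ∈ (γ[n - 3] : Subgroup ↥S))
    (w : top3 S n) (hw : incl S n w ∈ (γ[n - 3] : Subgroup ↥S))
    (hw' : incl S n w ∉ (γ[n - 2] : Subgroup ↥S))
    (C : Subgroup (top3 S n)) (hC : Nat.card C ≤ p) (hCη : ∀ c ∈ C, η c = c)
    (hdec : ∀ v, incl S n v ∈ (γ[n - 3] : Subgroup ↥S) →
      ∃ (i : ℕ) (c : top3 S n), c ∈ C ∧ v = w ^ i * c ∧ η v = (w ^ i)⁻¹ * c) : False := by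
  have hn := h.three
  have hTS : top3 S n ≤ S := top3_le n
  haveI := finite_of_le hTS
  obtain ⟨zT, hz1, hz, hZgen⟩ := exists_gen_last h
  have hcomm := top3_comm h h5
  have hzp : zT ^ p = 1 := incl_injective n (by
    rw [map_pow, map_one]
    exact Degree.pow_eq_one h hp2 (k := n - 2) (by omega) (by have := hp.out.two_le; omega) hz)
  have hwp : w ^ p = 1 := incl_injective n (by
    rw [map_pow, map_one]
    exact Degree.pow_eq_one h hp2 (k := n - 3) (by omega) (by have := hp.out.two_le; omega) hw)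
  have hw1 : w ≠ 1 := fun hh => hw' (by rw [hh, map_one]; exact one_mem _)
  obtain ⟨g, hg⟩ : ∃ g : ↥S, g ∉ twoCent ↥S (n - 3) := by
    by_contra hall
    push Not at hall
    have h1 := index_twoCent h (k := n - 3) (by omega) (by omega)
    rw [show twoCent ↥S (n - 3) = ⊤ from eq_top_iff.2 fun x _ => hall x, Subgroup.index_top] at h1
    exact hp.out.ne_one h1.symm
  have hgN : (g : Ω) ∈ Subgroup.normalizer (top3 S n : Set Ω) :=
    ((normalizerIn_top3 (S := S) n).symm ▸ g.2 : (g : Ω) ∈ normalizerIn S (top3 S n)).2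
  set τ : MulAut (top3 S n) := conjAut (top3 S n) hgN with hτ
  have hτA : τ ∈ F.autGroup (top3 S n) := autInducedBy_le_autGroup hTS (conjAut_mem_autInducedBy hgN g.2)
  have hιτ : ∀ v, incl S n (τ v) = g * incl S n v * g⁻¹ := fun v => Subtype.ext rfl
  have hτz : τ zT = zT := incl_injective n (by
    rw [hιτ, Degree.mem_last_central h hz g, mul_inv_cancel_right])
  set cw := ⁅g, incl S n w⁆ with hcw
  have hcwZ : cw ∈ (γ[n - 2] : Subgroup ↥S) := by
    rw [hcw, ← commutatorElement_inv, show n - 2 = n - 3 + 1 by omega]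
    exact inv_mem (mem_gamma_succ hw g)
  obtain ⟨q₀, hq₀⟩ := hZgen ⟨(cw : Ω), (mem_top3 cw).2
    (Subgroup.lowerCentralSeries_antitone _ (show n - 4 ≤ n - 2 by omega) hcwZ)⟩ hcwZ
  have hq₀p : ¬ (p : ℤ) ∣ q₀ := by
    rintro ⟨c, rfl⟩
    refine hg (mem_twoCent.2 (comm_level h (k := n - 3) (by omega) hw ?_ ?_))
    · rw [show n - 3 + 1 = n - 2 by omega]; exact hw'
    · rw [zpow_mul, zpow_natCast, hzp, one_zpow] at hq₀
      rw [← commutatorElement_inv, ← hcw, show cw = 1 from Subtype.ext (congrArg Subtype.val hq₀).symm,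
        inv_one]
      exact one_mem _
  have hτw : τ w = w * zT ^ q₀ := by
    refine incl_injective n ?_
    rw [hιτ, map_mul, hq₀]
    show _ = incl S n w * cw
    rw [Degree.mem_last_central h hcwZ (incl S n w), hcw, commutatorElement_def, inv_mul_cancel_right]
  have hτk : ∀ k : ℕ, (τ ^ k) zT = zT ∧ (τ ^ k) w = w * zT ^ (q₀ * k) := by
    intro k
    induction k with
    | zero => simp
    | succ k ih =>
      refine ⟨by rw [pow_succ', MulAut.mul_apply, ih.1, hτz], ?_⟩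
      rw [pow_succ', MulAut.mul_apply, ih.2, map_mul, map_zpow, hτz, hτw, mul_assoc, ← zpow_add]
      congr 2
      push_cast
      ring
  have hz3 : incl S n zT ∈ (γ[n - 3] : Subgroup ↥S) :=
    Subgroup.lowerCentralSeries_antitone _ (by omega) hz
  obtain ⟨i, c, hcC, e1, e2⟩ := hdec zT hz3
  -- an automorphism carrying the centre into the fixed line
  obtain ⟨μ, hμA, hμ3, hμC⟩ : ∃ μ ∈ F.autGroup (top3 S n),
      (∀ v, incl S n v ∈ (γ[n - 3] : Subgroup ↥S) → incl S n (μ v) ∈ (γ[n - 3] : Subgroup ↥S)) ∧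
      μ zT ∈ C := by
    by_cases hi : p ∣ i
    · refine ⟨1, one_mem _, fun v hv => hv, ?_⟩
      obtain ⟨r, rfl⟩ := hi
      rw [pow_mul, hwp, one_pow, one_mul] at e1
      rw [MulAut.one_apply, e1]; exact hcC
    · have hunit : ((2 * (i : ℤ) * q₀ : ℤ) : ZMod p) ≠ 0 := by
        rw [Ne, ZMod.intCast_zmod_eq_zero_iff_dvd]
        have hpI := Nat.prime_iff_prime_int.1 hp.out
        intro hd
        rcases hpI.dvd_mul.1 hd with hd | hd
        · rcases hpI.dvd_mul.1 hd with hd | hd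
          · have := Int.le_of_dvd two_pos hd
            have := hp.out.two_le
            omega
          · exact hi (Int.natCast_dvd_natCast.1 hd)
        · exact hq₀p hd
      obtain ⟨k, hk⟩ : ∃ k : ℕ, (p : ℤ) ∣ 2 * (i : ℤ) * q₀ * k + 1 := by
        refine ⟨(-((2 * (i : ℤ) * q₀ : ℤ) : ZMod p)⁻¹).val, ?_⟩
        rw [← ZMod.intCast_zmod_eq_zero_iff_dvd]
        push_cast at hunit ⊢
        rw [ZMod.natCast_zmod_val, mul_neg, mul_inv_cancel₀ hunit, neg_add_cancel]
      refine ⟨τ ^ k * η, mul_mem (pow_mem hτA k) hη, fun v hv => ?_, ?_⟩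
      · rw [MulAut.mul_apply]
        have h1 := hpres v hv
        clear hk
        induction k with
        | zero => simpa using h1
        | succ k ih =>
          rw [pow_succ', MulAut.mul_apply, hιτ]
          exact (inferInstance : (γ[n - 3] : Subgroup ↥S).Normal).conj_mem _ ih g
      · set m : ℤ := 1 - 2 * i * q₀ * k with hm
        have e3 : η zT = zT * (w ^ (2 * i))⁻¹ := by
          rw [e2, e1, two_mul, pow_add, mul_inv_rev, (hcomm (w ^ i) c).eq, mul_assoc c, mul_inv_cancel_left]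
          exact (hcomm _ _).eq
        have e4 : (τ ^ k * η) zT = zT ^ m * w ^ (-((2 * i : ℕ) : ℤ)) := by
          rw [MulAut.mul_apply, e3, map_mul, map_inv, map_pow, (hτk k).1, (hτk k).2,
            (hcomm w (zT ^ (q₀ * k))).mul_pow, mul_inv_rev, ← mul_assoc]
          rw [zpow_neg, zpow_natCast]
          congr 1
          rw [← zpow_natCast (zT ^ (q₀ * k)), ← zpow_mul, ← zpow_neg, ← zpow_one_add, hm]
          congr 1
          push_cast
          ring
        have e5 : zT ^ m * w ^ (-((2 * i : ℕ) : ℤ)) = c ^ m := by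
          rw [e1, (hcomm (w ^ i) c).mul_zpow, (hcomm ((w ^ i) ^ m) (c ^ m)).eq, mul_assoc, mul_eq_left,
            ← zpow_natCast w i, ← zpow_mul, ← zpow_add]
          refine orderOf_dvd_iff_zpow_eq_one.1 ?_
          rw [orderOf_eq_prime hwp hw1]
          refine dvd_trans hk (Dvd.intro (-(i : ℤ)) ?_)
          rw [hm]; push_cast; ring
        rw [e4, e5]
        exact C.zpow_mem hcC m
  have hCline : ∀ q ∈ C, q ∈ Subgroup.zpowers (μ zT) := by
    intro q hq
    have heq := Subgroup.eq_of_le_of_card_ge (Subgroup.zpowers_le.2 hμC) (hC.trans_eq (by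
      rw [Nat.card_zpowers, orderOf_eq_prime (by rw [← map_pow, hzp, map_one])
        (fun hh => hz1 ((MulEquiv.map_eq_one_iff _).1 hh))]))
    exact heq ▸ hq
  have hμinv : ∀ v, incl S n v ∈ (γ[n - 3] : Subgroup ↥S) →
      incl S n (μ⁻¹ v) ∈ (γ[n - 3] : Subgroup ↥S) := by
    intro v hv
    obtain ⟨q, hq, rfl⟩ := surj_of_pres h hμ3 hv
    rw [MulAut.inv_apply_self]; exact hq
  refine of_auto h hp2 hS h5 hF (μ⁻¹ * η * μ) (mul_mem (mul_mem (inv_mem hμA) hη) hμA) (fun v _ => ?_)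
    (Or.inr ⟨fun v hv => ?_, fun v hv => ?_, hne⟩)
  · rw [zpow_one, MulAut.mul_apply, MulAut.mul_apply, show n - 4 + 1 = n - 3 by omega]
    have h2 := hμinv _ (hdisp (μ v))
    rwa [map_mul μ⁻¹, map_inv μ⁻¹, MulAut.inv_apply_self, map_mul, map_inv] at h2
  · rw [zpow_neg_one, inv_inv, MulAut.mul_apply, MulAut.mul_apply, show n - 3 + 1 = n - 2 by omega]
    obtain ⟨a, b, hbC, f1, f2⟩ := hdec (μ v) (hμ3 v hv)
    obtain ⟨l, hl⟩ := hCline _ hbC
    have hb : b = μ zT ^ l := hl.symm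
    have h3 : v * μ⁻¹ (η (μ v)) = zT ^ (l + l) := by
      refine μ.injective ?_
      rw [map_mul, MulAut.apply_inv_self, f2, f1, map_zpow, zpow_add, ← hb, (hcomm (w ^ a) b).eq,
        mul_assoc, mul_inv_cancel_left]
    rw [← map_mul, h3, map_zpow]
    exact zpow_mem hz _
  · obtain ⟨l, rfl⟩ := hZgen v hv
    rw [zpow_one, map_zpow (μ⁻¹ * η * μ), MulAut.mul_apply, MulAut.mul_apply, hCη _ hμC,
      MulAut.inv_apply_self, inv_mul_cancel]
    exact one_mem _

end Cfsg.Lib.FusionSys.MaxClassFlag
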