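import Cfsg.Agent.Lib.FusionSys.PlaneAction

/-!
# Groups of automorphisms of an abelian group with a Sylow `p`-subgroup generated by a transvection
-/

set_option autoImplicit false

namespace Cfsg.Lib.FusionSys.Transvection

open Subgroup

variable {p : ℕ} [hp : Fact p.Prime] {G : Type*} [Group G] (hcomm : ∀ a b : G, a * b = b * a)
variable (A : Subgroup (MulAut G)) (u : A) (e : G)

/-- The hypotheses: `u` is a transvection with centre `⟨e⟩` and every `p`-subgroup of `A` has order at most `p`. -/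
structure Data (p : ℕ) {G : Type*} [Group G] (A : Subgroup (MulAut G)) (u : A) (e : G) : Prop where
  comm : ∀ a b : G, a * b = b * a
  ep : e ^ p = 1
  e1 : e ≠ 1
  ue : (u : MulAut G) e = e
  disp : ∀ x, ∃ i : ℕ, (u : MulAut G) x = x * e ^ i
  ne_one : u ≠ 1
  small : ∀ Q : Subgroup A, IsPGroup p Q → Nat.card Q ≤ p
  move : ∃ a : A, (a : MulAut G) e ∉ zpowers e

variable {A u e} [Finite G]

omit hp [Finite G] in
theorem inv_app (β : MulAut G) (x : G) : β⁻¹ (β x) = x := by
  rw [← MulAut.mul_apply, inv_mul_cancel, MulAut.one_apply]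

theorem pow_apply (h : Data p A u e) (x : G) {i : ℕ} (hx : (u : MulAut G) x = x * e ^ i) (n : ℕ) :
    ((u ^ n : A) : MulAut G) x = x * e ^ (i * n) := by
  induction n with
  | zero => simp
  | succ n ih =>
    rw [pow_succ', Subgroup.coe_mul, MulAut.mul_apply, ih, map_mul, map_pow, h.ue, hx, mul_assoc,
      ← pow_add]
    ring_nf

theorem pow_p (h : Data p A u e) : u ^ p = 1 := by
  refine Subtype.ext (MulEquiv.ext fun x => ?_)
  obtain ⟨i, hi⟩ := h.disp x
  rw [pow_apply h x hi, pow_mul', h.ep, one_pow, mul_one]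
  simp

theorem conj_pow_p (h : Data p A u e) (α : A) : (α * u * α⁻¹) ^ p = 1 := by
  rw [conj_pow, pow_p h, mul_one, mul_inv_cancel]

include hp in
theorem eq_of_commute (h : Data p A u e) [Finite A] {w : A} (hw : w ^ p = 1) (hc : Commute u w) :
    ∃ i : ℕ, u ^ i = w := by
  have hcl : ∀ a ∈ ({u, w} : Set A), ∀ b ∈ ({u, w} : Set A), a * b = b * a := by
    rintro _ (rfl | rfl) _ (rfl | rfl)
    exacts [rfl, hc.eq, hc.eq.symm, rfl]
  haveI := isMulCommutative_closure hcl
  have hpg : IsPGroup p (closure ({u, w} : Set A)) := by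
    rintro ⟨x, hx⟩
    refine ⟨1, Subtype.ext ?_⟩
    rw [SubgroupClass.coe_pow, pow_one, Subgroup.coe_one]
    show x ^ p = 1
    refine closure_induction (p := fun x _ => x ^ p = 1) ?_ (one_pow p) ?_ ?_ hx
    · rintro _ (rfl | rfl)
      exacts [pow_p h, hw]
    · intro a b ha hb h1 h2
      have hab : Commute a b := congrArg Subtype.val (IsMulCommutative.is_comm.comm
        (⟨a, ha⟩ : closure ({u, w} : Set A)) ⟨b, hb⟩)
      rw [hab.mul_pow, h1, h2, mul_one]
    · intro a _ h1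
      rw [inv_pow, h1, inv_one]
  have hle : zpowers u ≤ closure ({u, w} : Set A) := zpowers_le.mpr (subset_closure (Or.inl rfl))
  have heq := eq_of_le_of_card_ge hle (by
    rw [Nat.card_zpowers, orderOf_eq_prime (pow_p h) h.ne_one]
    exact h.small _ hpg)
  exact mem_powers_iff_mem_zpowers.mpr
    (heq.ge (subset_closure (Or.inr rfl)) : w ∈ zpowers u)

/-- The conjugate `α u α⁻¹` is a transvection with centre `⟨α e⟩`. -/
theorem conj_disp (h : Data p A u e) (α : A) (x : G) :
    ∃ i : ℕ, ((α * u * α⁻¹ : A) : MulAut G) x = x * (α : MulAut G) e ^ i := by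
  obtain ⟨i, hi⟩ := h.disp ((α : MulAut G)⁻¹ x)
  refine ⟨i, ?_⟩
  rw [Subgroup.coe_mul, Subgroup.coe_mul, MulAut.mul_apply, MulAut.mul_apply, InvMemClass.coe_inv, hi,
    map_mul, map_pow, ← MulAut.mul_apply, mul_inv_cancel, MulAut.one_apply]

omit hp in
theorem conj_fix (α : A) (x : G) :
    ((α * u * α⁻¹ : A) : MulAut G) x = x ↔
      (u : MulAut G) ((α : MulAut G)⁻¹ x) = (α : MulAut G)⁻¹ x := by
  rw [Subgroup.coe_mul, Subgroup.coe_mul, MulAut.mul_apply, MulAut.mul_apply, InvMemClass.coe_inv]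
  constructor
  · intro h
    have h2 := congrArg (⇑((α : MulAut G)⁻¹)) h
    rwa [inv_app] at h2
  · intro h
    rw [h, ← MulAut.mul_apply, mul_inv_cancel, MulAut.one_apply]

theorem zpow_line (h : Data p A u e) {x : G} (hx : x ^ p = 1) (hx1 : x ≠ 1)
    {y : G} (hy : y ∈ zpowers x) (hy1 : y ≠ 1) [hpr : Fact p.Prime] : x ∈ zpowers y := by
  have _ := h
  obtain ⟨j, rfl⟩ := mem_powers_iff_mem_zpowers.mpr hy |>.imp fun j hj => hj.symm
  have hj : ¬ p ∣ j := fun ⟨t, ht⟩ => hy1 (by show x ^ j = 1; rw [ht, pow_mul, hx, one_pow])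
  exact Plane.mem_of_pow_mem (k := 1) (by rwa [pow_one]) hj (mem_zpowers _)

include hp in
/-- A conjugate of `u` with centre inside the fixed subgroup of `u` has the same centre. -/
theorem key (h : Data p A u e) [Finite A] (α : A) (hα : (u : MulAut G) ((α : MulAut G) e) = (α : MulAut G) e) :
    (α : MulAut G) e ∈ zpowers e := by
  set e' := (α : MulAut G) e with he'
  have he'1 : e' ≠ 1 := fun h1 => h.e1 ((α : MulAut G).map_eq_one_iff.mp h1)
  have he'p : e' ^ p = 1 := by rw [he', ← map_pow, h.ep, map_one]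
  set v := α * u * α⁻¹ with hv
  obtain ⟨m, hm⟩ := conj_disp h α e
  -- the conjugate of `u` by `v`
  by_cases hve : (v : MulAut G) e = e
  · have hc : Commute u v := by
      refine Subtype.ext (MulEquiv.ext fun x => ?_)
      obtain ⟨i, hi⟩ := h.disp x
      obtain ⟨j, hj⟩ := conj_disp h α x
      show (u : MulAut G) ((v : MulAut G) x) = (v : MulAut G) ((u : MulAut G) x)
      rw [hi, hj, map_mul, map_mul, map_pow, map_pow, hα, hve, hi, hj, mul_assoc, mul_assoc,
        h.comm (e ^ i)]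
    obtain ⟨i, hi⟩ := eq_of_commute h (conj_pow_p h α) hc
    obtain ⟨x, hx⟩ : ∃ x, (v : MulAut G) x ≠ x := by
      by_contra hne
      push Not at hne
      exact h.ne_one (conj_eq_one_iff.mp (Subtype.ext (MulEquiv.ext hne) : v = 1))
    obtain ⟨j, hj⟩ := conj_disp h α x
    obtain ⟨k, hk⟩ := h.disp x
    have h1 : e' ^ j = e ^ (k * i) := by
      have h2 := pow_apply h x hk i
      rw [hi, hj] at h2
      exact mul_left_cancel h2
    have hj1 : e' ^ j ≠ 1 := fun h1 => hx (by rw [hj, h1, mul_one])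
    exact zpowers_le.mpr (h1 ▸ pow_mem (mem_zpowers e) _)
      (zpow_line h he'p he'1 (pow_mem (mem_zpowers e') j) hj1)
  · -- otherwise a second transvection with the same axis appears
    set w := v * u * v⁻¹ with hw
    have hc : Commute u w := by
      refine Subtype.ext (MulEquiv.ext fun x => ?_)
      obtain ⟨i, hi⟩ := h.disp x
      obtain ⟨j, hj⟩ := conj_disp h v x
      have hfe : (w : MulAut G) e = e := by
        refine (conj_fix v e).mpr ?_
        obtain ⟨k, hk⟩ := conj_disp h α ((v : MulAut G)⁻¹ e)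
        have h1 : (v : MulAut G) ((v : MulAut G)⁻¹ e) = e := by
          rw [← MulAut.mul_apply, mul_inv_cancel, MulAut.one_apply]
        rw [h1] at hk
        rw [eq_mul_inv_of_mul_eq hk.symm, map_mul, map_inv, map_pow, h.ue, hα]
      have hfv : (u : MulAut G) ((v : MulAut G) e) = (v : MulAut G) e := by
        rw [hm, map_mul, map_pow, h.ue, hα]
      show (u : MulAut G) ((w : MulAut G) x) = (w : MulAut G) ((u : MulAut G) x)
      rw [hi, hj, map_mul, map_mul, map_pow, map_pow, hfv, hfe, hi, hj, mul_assoc, mul_assoc,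
        h.comm (e ^ i)]
    obtain ⟨i, hi⟩ := eq_of_commute h (conj_pow_p h v) hc
    exfalso
    obtain ⟨x, hx⟩ : ∃ x, (w : MulAut G) x ≠ x := by
      by_contra hne
      push Not at hne
      exact h.ne_one (conj_eq_one_iff.mp (Subtype.ext (MulEquiv.ext hne) : w = 1))
    obtain ⟨j, hj⟩ := conj_disp h v x
    obtain ⟨k, hk⟩ := h.disp x
    have h1 : (v : MulAut G) e ^ j = e ^ (k * i) := by
      have h2 := pow_apply h x hk i
      rw [hi, hj] at h2
      exact mul_left_cancel h2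
    have hj1 : (v : MulAut G) e ^ j ≠ 1 := fun h1 => hx (by rw [hj, h1, mul_one])
    have h3 : (v : MulAut G) e ∈ zpowers e := zpowers_le.mpr (h1 ▸ pow_mem (mem_zpowers e) _)
      (zpow_line h (by rw [← map_pow, h.ep, map_one])
        (fun h1 => h.e1 ((v : MulAut G).map_eq_one_iff.mp h1))
        (pow_mem (mem_zpowers _) j) hj1)
    have h4 : e' ^ m ∈ zpowers e := by
      rw [← inv_mul_cancel_left e (e' ^ m), ← hm]
      exact mul_mem (inv_mem (mem_zpowers e)) h3
    have h5 : e' ^ m ≠ 1 := fun h5 => hve (by rw [hm, h5, mul_one])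
    have h6 : e' ∈ zpowers e :=
      zpowers_le.mpr h4 (zpow_line h he'p he'1 (pow_mem (mem_zpowers e') m) h5)
    have h7 : e ∈ zpowers e' := zpow_line h h.ep h.e1 h6 he'1
    obtain ⟨t, ht⟩ := h7
    apply hve
    have h8 : (v : MulAut G) e' = e' := by
      refine (conj_fix α e').mpr ?_
      rw [he', inv_app, h.ue]
    rw [← (show e' ^ t = e from ht), map_zpow, h8]

include hp in
/-- An automorphism preserving the centre normalises `⟨u⟩`. -/
theorem conj_eq_pow (h : Data p A u e) [Finite A] (β : A) (hβ : (β : MulAut G) e ∈ zpowers e) :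
    ∃ i : ℕ, u ^ i = β * u * β⁻¹ := by
  refine eq_of_commute h (conj_pow_p h β) ?_
  have he' : (β : MulAut G) e ≠ 1 := fun h1 => h.e1 ((β : MulAut G).map_eq_one_iff.mp h1)
  have hfix : (u : MulAut G) ((β : MulAut G) e) = (β : MulAut G) e := by
    obtain ⟨n, hn⟩ := hβ
    rw [← (show e ^ n = _ from hn), map_zpow, h.ue]
  have hbe : ((β * u * β⁻¹ : A) : MulAut G) e = e := by
    obtain ⟨n, hn⟩ := zpow_line h h.ep h.e1 hβ he'
    refine (conj_fix β e).mpr ?_
    rw [← (show (β : MulAut G) e ^ n = e from hn), map_zpow, inv_app, map_zpow, h.ue]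
  refine Subtype.ext (MulEquiv.ext fun x => ?_)
  obtain ⟨i, hi⟩ := h.disp x
  obtain ⟨j, hj⟩ := conj_disp h β x
  show (u : MulAut G) (((β * u * β⁻¹ : A) : MulAut G) x) =
    ((β * u * β⁻¹ : A) : MulAut G) ((u : MulAut G) x)
  rw [hi, hj, map_mul, map_mul, map_pow, map_pow, hfix, hbe, hi, hj, mul_assoc, mul_assoc,
    h.comm (e ^ i)]

include hp in
/-- The plane and the fixed subgroup of all transvections. -/
theorem exists_decomp (h : Data p A u e) [Finite A] :
    ∃ (u' : A) (f : G) (C : Subgroup G),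
      f ^ p = 1 ∧ (u : MulAut G) f = e * f ∧ (u' : MulAut G) f = f ∧ (u' : MulAut G) e = e * f ∧
      (∀ c ∈ C, (u : MulAut G) c = c ∧ (u' : MulAut G) c = c) ∧
      (∀ x, (u : MulAut G) x = x → ∃ i : ℕ, ∃ c ∈ C, x = e ^ i * c) ∧
      (∀ x, ∃ i j : ℕ, ∃ c ∈ C, x = e ^ i * f ^ j * c) ∧
      (∀ i j : ℕ, e ^ i * f ^ j ∈ C → p ∣ i ∧ p ∣ j) ∧
      (∀ β : A, ∀ c ∈ C, (β : MulAut G) c ∈ C) ∧
      ∀ β : A, ∀ i j : ℕ, ∃ i' j' : ℕ, (β : MulAut G) (e ^ i * f ^ j) = e ^ i' * f ^ j' := by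
  obtain ⟨a, ha⟩ := h.move
  set f₀ := (a : MulAut G) e with hf₀
  have hf₀p : f₀ ^ p = 1 := by rw [hf₀, ← map_pow, h.ep, map_one]
  obtain ⟨k, hk⟩ := h.disp f₀
  have hpk : ¬ p ∣ k := fun ⟨t, ht⟩ => ha (key h a (by rw [← hf₀, hk, ht, pow_mul, h.ep, one_pow, mul_one]))
  obtain ⟨s, hs⟩ := Plane.exists_mul_modEq hpk 1
  set f := f₀ ^ s with hf
  have huf : (u : MulAut G) f = e * f := by
    rw [hf, map_pow, hk, (show Commute _ _ from h.comm _ _).mul_pow, ← pow_mul,
      Plane.pow_eq_pow_of_modEq h.ep hs, pow_one, h.comm]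
  have hfp : f ^ p = 1 := by rw [hf, ← pow_mul, mul_comm, pow_mul, hf₀p, one_pow]
  have hf₀f : f₀ ∈ zpowers f := by
    refine Plane.mem_of_pow_mem (k := 1) (m := s) (by rwa [pow_one]) ?_ (mem_zpowers f)
    rintro ⟨t, rfl⟩
    have h0 : k * (p * t) ≡ 0 [MOD p] := Nat.modEq_zero_iff_dvd.mpr (dvd_mul_of_dvd_right (dvd_mul_right p t) k)
    exact hp.out.one_lt.ne' (Nat.dvd_one.mp (Nat.modEq_zero_iff_dvd.mp (hs.symm.trans h0)))
  set v₀ := a * u * a⁻¹ with hv₀
  have hv₀f : (v₀ : MulAut G) f = f := by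
    refine (conj_fix a f).mpr ?_
    rw [hf, map_pow, hf₀, inv_app,
      map_pow, h.ue]
  obtain ⟨c₀, hc₀⟩ : ∃ c : ℕ, (v₀ : MulAut G) e = e * f ^ c := by
    obtain ⟨i, hi⟩ := conj_disp h a e
    obtain ⟨n, hn⟩ := mem_powers_iff_mem_zpowers.mpr hf₀f
    exact ⟨n * i, by rw [hi, ← hf₀, ← (show f ^ n = f₀ from hn), ← pow_mul]⟩
  have hpc : ¬ p ∣ c₀ := by
    rintro ⟨t, rfl⟩
    rw [pow_mul, hfp, one_pow, mul_one] at hc₀
    have h1 := (conj_fix a e).mp hc₀
    obtain ⟨n, hn⟩ := zpow_line h h.ep h.e1 (key h a⁻¹ (by simpa using h1))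
      (fun h2 => h.e1 (((a⁻¹ : A) : MulAut G).map_eq_one_iff.mp h2))
    apply ha
    refine ⟨n, ?_⟩
    have h3 := congrArg (a : MulAut G) hn
    simp only [map_zpow] at h3
    rw [← MulAut.mul_apply, InvMemClass.coe_inv, mul_inv_cancel, MulAut.one_apply] at h3
    exact h3
  obtain ⟨r, hr⟩ := Plane.exists_mul_modEq hpc 1
  set u' := v₀ ^ r with hu'
  have hv₀pow : ∀ n : ℕ, ((v₀ ^ n : A) : MulAut G) e = e * f ^ (c₀ * n) := by
    intro n
    induction n with
    | zero => simp
    | succ n ih =>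
      rw [pow_succ', Subgroup.coe_mul, MulAut.mul_apply, ih, map_mul, map_pow, hv₀f, hc₀, mul_assoc,
        ← pow_add]
      ring_nf
  have hu'e : (u' : MulAut G) e = e * f := by
    rw [hu', hv₀pow, Plane.pow_eq_pow_of_modEq hfp hr, pow_one]
  have hpowfix : ∀ (x : G), (v₀ : MulAut G) x = x → ∀ n : ℕ, ((v₀ ^ n : A) : MulAut G) x = x := by
    intro x hx n
    induction n with
    | zero => simp
    | succ n ih => rw [pow_succ', Subgroup.coe_mul, MulAut.mul_apply, ih, hx]
  have hu'f : (u' : MulAut G) f = f := hpowfix f hv₀f r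
  let C : Subgroup G :=
    { carrier := {x | (u : MulAut G) x = x ∧ (v₀ : MulAut G) x = x}
      one_mem' := ⟨map_one _, map_one _⟩
      mul_mem' := fun {x y} hx hy => ⟨by rw [map_mul, hx.1, hy.1], by rw [map_mul, hx.2, hy.2]⟩
      inv_mem' := fun {x} hx => ⟨by rw [map_inv, hx.1], by rw [map_inv, hx.2]⟩ }
  have hCfix : ∀ c ∈ C, (u : MulAut G) c = c ∧ (u' : MulAut G) c = c :=
    fun c hc => ⟨hc.1, hpowfix c hc.2 r⟩
  have hfixdec : ∀ x, (u : MulAut G) x = x → ∃ i : ℕ, ∃ c ∈ C, x = e ^ i * c := by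
    intro x hx
    obtain ⟨i, hi⟩ := conj_disp h a x
    obtain ⟨n, hn⟩ := mem_powers_iff_mem_zpowers.mpr hf₀f
    rw [← hf₀, ← (show f ^ n = f₀ from hn), ← pow_mul] at hi
    obtain ⟨m, hm⟩ := Plane.exists_mul_modEq hpc (n * i)
    refine ⟨m, (e ^ m)⁻¹ * x, ⟨by rw [map_mul, map_inv, map_pow, h.ue, hx], ?_⟩, (mul_inv_cancel_left _ _).symm⟩
    rw [map_mul, map_inv, map_pow, hc₀, (show Commute _ _ from h.comm _ _).mul_pow, ← pow_mul, hi,
      Plane.pow_eq_pow_of_modEq hfp hm, mul_inv_rev, h.comm (f ^ (n * i))⁻¹, h.comm x, mul_assoc,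
      inv_mul_cancel_left]
  have hdec : ∀ x, ∃ i j : ℕ, ∃ c ∈ C, x = e ^ i * f ^ j * c := by
    intro x
    obtain ⟨j, hj⟩ := h.disp x
    obtain ⟨i, c, hc, hx⟩ := hfixdec (x * (f ^ j)⁻¹) (by
      rw [map_mul, map_inv, map_pow, huf, hj, (show Commute e f from h.comm _ _).mul_pow, mul_inv_rev,
        h.comm (f ^ j)⁻¹, ← mul_assoc, mul_inv_cancel_right])
    exact ⟨i, j, c, hc, by rw [mul_assoc, h.comm (f ^ j) c, ← mul_assoc, ← hx, inv_mul_cancel_right]⟩
  have hmeet : ∀ i j : ℕ, e ^ i * f ^ j ∈ C → p ∣ i ∧ p ∣ j := by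
    rintro i j ⟨h1, h2⟩
    have hf1 : f ≠ 1 := fun hh => h.e1 (by rw [hh, map_one, mul_one] at huf; exact huf.symm)
    rw [map_mul, map_pow, map_pow, h.ue, huf, (show Commute e f from h.comm _ _).mul_pow,
      mul_left_cancel_iff, mul_eq_right] at h1
    rw [map_mul, map_pow, map_pow, hc₀, hv₀f, (show Commute _ _ from h.comm _ _).mul_pow, mul_assoc,
      mul_left_cancel_iff, mul_eq_right, ← pow_mul] at h2
    have hj : p ∣ j := orderOf_eq_prime h.ep h.e1 ▸ orderOf_dvd_of_pow_eq_one h1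
    have hci : p ∣ c₀ * i := orderOf_eq_prime hfp hf1 ▸ orderOf_dvd_of_pow_eq_one h2
    exact ⟨(hp.out.dvd_mul.mp hci).resolve_left hpc, hj⟩
  -- every transvection centre lies in the plane, every axis contains `C`
  have hall : ∀ β : A, (∃ i j : ℕ, (β : MulAut G) e = e ^ i * f ^ j) ∧
      ∀ c ∈ C, (u : MulAut G) ((β : MulAut G)⁻¹ c) = (β : MulAut G)⁻¹ c := by
    intro β
    by_cases hβ : (β : MulAut G) e ∈ zpowers e
    · refine ⟨?_, fun c hc => ?_⟩
      · obtain ⟨n, hn⟩ := mem_powers_iff_mem_zpowers.mpr hβ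
        exact ⟨n, 0, by rw [pow_zero, mul_one]; exact hn.symm⟩
      · obtain ⟨i, hi⟩ := conj_eq_pow h β hβ
        have h1 : ((u ^ i : A) : MulAut G) c = c := by
          rw [pow_apply h c (i := 0) (by rw [hc.1, pow_zero, mul_one]), zero_mul, pow_zero, mul_one]
        rw [hi] at h1
        exact (conj_fix β c).mp h1
    · set e' := (β : MulAut G) e with he'
      have he'p : e' ^ p = 1 := by rw [he', ← map_pow, h.ep, map_one]
      set w := β * u * β⁻¹ with hw
      -- a nontrivial element of the plane fixed by `w`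
      obtain ⟨i, j, hij, hfix⟩ : ∃ i j : ℕ, ¬ (p ∣ i ∧ p ∣ j) ∧
          (w : MulAut G) (e ^ i * f ^ j) = e ^ i * f ^ j := by
        obtain ⟨m₁, hm₁⟩ := conj_disp h β e
        obtain ⟨m₂, hm₂⟩ := conj_disp h β f
        rw [← he', ← hw] at hm₁ hm₂
        have hw' : ∀ i j : ℕ, (w : MulAut G) (e ^ i * f ^ j) = e ^ i * f ^ j * e' ^ (m₁ * i + m₂ * j) := by
          intro i j
          rw [map_mul, map_pow, map_pow, hm₁, hm₂, (show Commute _ _ from h.comm _ _).mul_pow,
            (show Commute _ _ from h.comm _ _).mul_pow, ← pow_mul e', ← pow_mul e', pow_add,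
            mul_assoc (e ^ i), mul_assoc (e ^ i), ← mul_assoc (e' ^ (m₁ * i)), h.comm (e' ^ (m₁ * i)),
            mul_assoc (f ^ j)]
        by_cases hm : p ∣ m₁
        · obtain ⟨t, rfl⟩ := hm
          exact ⟨1, 0, fun hh => hp.out.one_lt.ne' (Nat.dvd_one.mp hh.1),
            by rw [hw', mul_one, mul_zero, add_zero, pow_mul, he'p, one_pow, mul_one]⟩
        · obtain ⟨i, hi⟩ := Plane.exists_mul_modEq hm (m₂ * (p - 1))
          refine ⟨i, 1, fun hh => hp.out.one_lt.ne' (Nat.dvd_one.mp hh.2), ?_⟩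
          rw [hw', mul_one, pow_add, Plane.pow_eq_pow_of_modEq he'p hi, ← pow_add, ← Nat.mul_succ,
            Nat.succ_eq_add_one, Nat.sub_add_cancel hp.out.one_le, mul_comm m₂, pow_mul, he'p, one_pow,
            mul_one]
      have hj : ¬ p ∣ j := by
        intro hj
        obtain ⟨t, rfl⟩ := hj
        have hi : ¬ p ∣ i := fun hi => hij ⟨hi, dvd_mul_right p t⟩
        rw [pow_mul f, hfp, one_pow, mul_one] at hfix
        have he : (w : MulAut G) e = e := by
          obtain ⟨m, hm⟩ := Plane.exists_mul_modEq hi 1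
          conv_lhs => rw [← pow_one e, ← Plane.pow_eq_pow_of_modEq h.ep hm, pow_mul, map_pow, hfix, ← pow_mul,
            Plane.pow_eq_pow_of_modEq h.ep hm, pow_one]
        have h1 := key h β⁻¹ (by simpa using (conj_fix β e).mp he)
        apply hβ
        obtain ⟨n, hn⟩ := zpow_line h h.ep h.e1 h1 (fun h2 => h.e1 (((β⁻¹ : A) : MulAut G).map_eq_one_iff.mp h2))
        refine ⟨n, ?_⟩
        have h3 := congrArg (β : MulAut G) hn
        simp only [map_zpow] at h3
        rw [← MulAut.mul_apply, InvMemClass.coe_inv, mul_inv_cancel, MulAut.one_apply] at h3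
        exact h3
      obtain ⟨m, hm⟩ := Plane.exists_mul_modEq hj 1
      set γ := u ^ (i * m) * a with hγ
      have hγe : (γ : MulAut G) e = e ^ (i * m * k) * f₀ := by
        rw [hγ, Subgroup.coe_mul, MulAut.mul_apply, ← hf₀, pow_apply h f₀ hk, h.comm]
        ring_nf
      -- `γ e` is a multiple of the fixed element
      have hpow : (γ : MulAut G) e ^ s = e ^ (i * m) * f := by
        rw [hγe, (show Commute _ _ from h.comm _ _).mul_pow, ← hf, ← pow_mul]
        congr 1
        refine Plane.pow_eq_pow_of_modEq h.ep ?_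
        have h1 := hs.mul_left (i * m)
        rwa [mul_one, ← mul_assoc] at h1
      have hfix' : (w : MulAut G) (e ^ (i * m) * f) = e ^ (i * m) * f := by
        have h1 : (e ^ i * f ^ j) ^ m = e ^ (i * m) * f := by
          rw [(show Commute _ _ from h.comm _ _).mul_pow, ← pow_mul, ← pow_mul,
            Plane.pow_eq_pow_of_modEq hfp hm, pow_one]
        rw [← h1, map_pow, hfix]
      have hγp : ((γ : MulAut G) e) ^ p = 1 := by rw [← map_pow, h.ep, map_one]
      have hfixγ : (w : MulAut G) ((γ : MulAut G) e) = (γ : MulAut G) e := by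
        obtain ⟨s', hs'⟩ := Plane.exists_mul_modEq (c := s) (fun hsd => by
          have h0 : k * s ≡ 0 [MOD p] :=
            Nat.modEq_zero_iff_dvd.mpr (dvd_mul_of_dvd_right hsd k)
          exact hp.out.one_lt.ne' (Nat.dvd_one.mp (Nat.modEq_zero_iff_dvd.mp (hs.symm.trans h0)))) 1
        conv_lhs => rw [← pow_one ((γ : MulAut G) e), ← Plane.pow_eq_pow_of_modEq hγp hs', pow_mul, hpow,
          map_pow, hfix', ← hpow, ← pow_mul, Plane.pow_eq_pow_of_modEq hγp hs', pow_one]
      have hδ : ((β⁻¹ * γ : A) : MulAut G) e ∈ zpowers e := by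
        refine key h _ ?_
        rw [Subgroup.coe_mul, MulAut.mul_apply, InvMemClass.coe_inv]
        exact (conj_fix β _).mp hfixγ
      obtain ⟨n, hn⟩ := zpow_line h h.ep h.e1 hδ
        (fun h2 => h.e1 (((β⁻¹ * γ : A) : MulAut G).map_eq_one_iff.mp h2))
      refine ⟨?_, fun c hc => ?_⟩
      · have h3 : (γ : MulAut G) e ^ n = e' := by
          have h4 := congrArg (β : MulAut G) hn
          simp only [map_zpow] at h4
          rw [← MulAut.mul_apply, ← Subgroup.coe_mul, mul_inv_cancel_left] at h4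
          exact h4
        obtain ⟨s₀, hs₀⟩ := mem_powers_iff_mem_zpowers.mpr hf₀f
        rw [hγe, ← (show f ^ s₀ = f₀ from hs₀)] at h3
        obtain ⟨n', hn'⟩ := mem_powers_iff_mem_zpowers.mpr
          (⟨n, h3⟩ : e' ∈ zpowers (e ^ (i * m * k) * f ^ s₀))
        refine ⟨i * m * k * n', s₀ * n', ?_⟩
        rw [← (show (e ^ (i * m * k) * f ^ s₀) ^ n' = e' from hn'),
          (show Commute _ _ from h.comm _ _).mul_pow, ← pow_mul, ← pow_mul]
      · -- the axis of `w` is the axis of the conjugate of `v₀`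
        obtain ⟨t, ht⟩ := conj_eq_pow h (β⁻¹ * γ) hδ
        have h5 : ((γ * u * γ⁻¹ : A) : MulAut G) c = c := by
          refine (conj_fix γ c).mpr ?_
          have h6 := (conj_fix a c).mp hc.2
          have h7 : (γ : MulAut G)⁻¹ c = (a : MulAut G)⁻¹ c := by
            rw [hγ, Subgroup.coe_mul, mul_inv_rev, MulAut.mul_apply]
            congr 1
            refine ((u ^ (i * m) : A) : MulAut G).injective ?_
            rw [← MulAut.mul_apply, mul_inv_cancel, MulAut.one_apply,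
              pow_apply h c (i := 0) (by rw [hc.1, pow_zero, mul_one]), zero_mul, pow_zero, mul_one]
          rw [h7, h6]
        have h8 : γ * u * γ⁻¹ = (β * u * β⁻¹) ^ t := by
          rw [conj_pow, ht]; group
        have hcop : Nat.Coprime t p := by
          refine (hp.out.coprime_iff_not_dvd.mpr fun hdvd => h.ne_one ?_).symm
          obtain ⟨q, rfl⟩ := hdvd
          rw [pow_mul, pow_p h, one_pow] at ht
          exact conj_eq_one_iff.mp ht.symm
        obtain ⟨t', ht'⟩ := Plane.exists_mul_modEq ((hp.out.coprime_iff_not_dvd).mp hcop.symm) 1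
        have h9 : β * u * β⁻¹ = (γ * u * γ⁻¹) ^ t' := by
          rw [h8, ← pow_mul, Plane.pow_eq_pow_of_modEq (conj_pow_p h β) ht', pow_one]
        refine (conj_fix β c).mp ?_
        rw [h9]
        clear h9 ht'
        induction t' with
        | zero => simp
        | succ n ih => rw [pow_succ', Subgroup.coe_mul, MulAut.mul_apply, ih, h5]
  have hplane : ∀ β : A, ∀ i j : ℕ, ∃ i' j' : ℕ, (β : MulAut G) (e ^ i * f ^ j) = e ^ i' * f ^ j' := by
    intro β i j
    obtain ⟨i₁, j₁, h1⟩ := (hall β).1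
    obtain ⟨i₂, j₂, h2⟩ := (hall (β * a)).1
    rw [Subgroup.coe_mul, MulAut.mul_apply, ← hf₀] at h2
    refine ⟨i₁ * i + i₂ * (s * j), j₁ * i + j₂ * (s * j), ?_⟩
    have h3 : (β : MulAut G) f = (e ^ i₂ * f ^ j₂) ^ s := by rw [← h2, ← map_pow]
    rw [map_mul, map_pow, map_pow, h1, h3, ← pow_mul (e ^ i₂ * f ^ j₂),
      (show Commute _ _ from h.comm _ _).mul_pow, (show Commute _ _ from h.comm _ _).mul_pow,
      ← pow_mul e, ← pow_mul e, ← pow_mul f, ← pow_mul f, pow_add, pow_add]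
    exact Commute.mul_mul_mul_comm (h.comm _ _) _ _
  refine ⟨u', f, C, hfp, huf, hu'f, hu'e, hCfix, hfixdec, hdec, hmeet, fun β c hc => ⟨?_, ?_⟩, hplane⟩
  · have := (hall β⁻¹).2 c hc
    simpa using this
  · refine (conj_fix a _).mpr ?_
    have := (hall (β⁻¹ * a)).2 c hc
    simpa [mul_inv_rev, MulAut.mul_apply] using this

end Cfsg.Lib.FusionSys.Transvection
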