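import Cfsg.Agent.Lib.FusionSys.CubePlane
import Cfsg.Agent.Lib.FusionSys.TransvectionPlane
import Cfsg.Agent.Lib.FusionSys.MaxClassFlag
import Cfsg.Agent.Lib.PGroup.MaxClassLayers
import Cfsg.Agent.Lib.Solv.Nilpotent

/-!
# Elementary abelian essential subgroups of order `p ^ 3` in groups of maximal class

There are none over a group of maximal class of order at least `p ^ 5`, `p` odd.
-/

set_option autoImplicit false
set_option linter.unusedSectionVars false

namespace Cfsg.Lib.FusionSys.MaxClassCube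

open Cfsg Cfsg.FusionSystem
open Cfsg.Lib.PGroup Cfsg.Lib.PGroup.MaxClass Cfsg.Lib.PGroup.Uniform
open scoped commutatorElement

variable {p : ℕ} [hp : Fact p.Prime]

local notation:max "γ[" k "]" => (Subgroup.lowerCentralSeries (⊤ : Subgroup _) k)

/-- The ambient form of the hypotheses. -/
theorem isMax_of_hyp {Ω : Type*} [Group Ω] {S : Subgroup Ω} [Finite S] (hS : IsPGroup p ↥S) {n : ℕ}
    (hn : Nat.card S = p ^ n) (h3 : 3 ≤ n) (hmax : Subgroup.lowerCentralSeries S (n - 2) ≠ ⊥) :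
    IsMax p ↥S n := by
  haveI := hS.isNilpotent
  refine ⟨hn, h3, Subgroup.lowerCentralSeries_eq_bot_iff_nilpotencyClass_le.2
    (Cfsg.Lib.Solv.nilpotencyClass_le_of_card_eq_pow n hn (by omega)), fun hb => hmax ?_⟩
  rw [← Subgroup.top_subtype_lowerCentralSeries, hb, Subgroup.map_bot]

/-- A `p`-element normalizing `D` and permuting the powers of `x` modulo `D` fixes `x` modulo `D`. -/
theorem unip {Ω : Type*} [Group Ω] {D : Subgroup Ω} {s x : Ω} (hD : ∀ d ∈ D, s * d * s⁻¹ ∈ D)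
    (hxD : x ∉ D) (hxp : x ^ p ∈ D) (hnorm : ∀ d ∈ D, x * d * x⁻¹ ∈ D)
    {a : ℕ} (ha : (x ^ a)⁻¹ * (s * x * s⁻¹) ∈ D) {r : ℕ} (hr : s ^ (p ^ r) = 1) : a ≡ 1 [MOD p] := by
  have hnormpow : ∀ (k : ℕ), ∀ d ∈ D, x ^ k * d * (x ^ k)⁻¹ ∈ D := by
    intro k
    induction k with
    | zero => intro d hd; simpa using hd
    | succ k ih =>
      intro d hd
      rw [pow_succ', mul_inv_rev]
      have := hnorm _ (ih d hd)
      simpa [mul_assoc] using this
  have hpow : ∀ k : ℕ, ∀ m : ℕ, (x ^ (a * m))⁻¹ * (s * x ^ m * s⁻¹) ∈ D → ∀ d ∈ D,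
      (x ^ (a * m))⁻¹ * (s * (x ^ m * d) * s⁻¹) ∈ D := by
    intro _ m hm d hd
    have := mul_mem hm (hD d hd)
    convert this using 1
    group
  have hm : ∀ m : ℕ, (x ^ (a * m))⁻¹ * (s * x ^ m * s⁻¹) ∈ D := by
    intro m
    induction m with
    | zero => simp
    | succ m ih =>
      -- `s x^(m+1) s⁻¹ = (s x s⁻¹) (s x^m s⁻¹)`
      set u := (x ^ a)⁻¹ * (s * x * s⁻¹)
      set v := (x ^ (a * m))⁻¹ * (s * x ^ m * s⁻¹)
      have e : (x ^ (a * (m + 1)))⁻¹ * (s * x ^ (m + 1) * s⁻¹) =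
          ((x ^ (a * m))⁻¹ * u * x ^ (a * m)) * v := by
        simp only [u, v]
        rw [show a * (m + 1) = a + a * m by ring, pow_add, pow_succ' x m]
        group
      rw [e]
      refine mul_mem ?_ ih
      by_contra hne
      have h1 : ∀ k : ℕ, (x ^ k)⁻¹ * u * x ^ k ∈ D := by
        intro k
        have h2 := hnormpow (p * k - k) u ha
        have hxk : x ^ (p * k - k) = x ^ (p * k) * (x ^ k)⁻¹ := by
          rw [eq_mul_inv_iff_mul_eq, ← pow_add,
            Nat.sub_add_cancel (Nat.le_mul_of_pos_left k hp.out.pos)]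
        rw [hxk] at h2
        have hd : x ^ (p * k) ∈ D := by rw [pow_mul]; exact pow_mem hxp k
        have h3 := mul_mem (mul_mem (inv_mem hd) h2) hd
        convert h3 using 1
        group
      exact hne (h1 (a * m))
  have hit : ∀ k : ℕ, (x ^ (a ^ k))⁻¹ * (s ^ k * x * (s ^ k)⁻¹) ∈ D := by
    intro k
    induction k with
    | zero => simp
    | succ k ih =>
      set d := (x ^ (a ^ k))⁻¹ * (s ^ k * x * (s ^ k)⁻¹)
      have h1 := hpow 0 (a ^ k) (hm _) d ih
      rw [← pow_succ'] at h1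
      convert h1 using 1
      simp only [d]
      rw [pow_succ' s k]
      group
  have h1 := hit (p ^ r)
  rw [hr, one_mul, inv_one, mul_one] at h1
  have h2 : (x : Ω) ^ ((1 : ℤ) - (a ^ (p ^ r) : ℕ)) ∈ D := by
    have : (x ^ a ^ p ^ r)⁻¹ * x = x ^ ((1 : ℤ) - (a ^ (p ^ r) : ℕ)) := by
      rw [sub_eq_neg_add, zpow_add, zpow_neg, zpow_natCast, zpow_one]
    rwa [← this]
  have h3 : (p : ℤ) ∣ (1 : ℤ) - (a ^ (p ^ r) : ℕ) := by
    by_contra hnd
    obtain ⟨u, v, huv⟩ := (Nat.prime_iff_prime_int.1 hp.out).coprime_iff_not_dvd.2 hnd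
    apply hxD
    rw [← zpow_one x, ← huv, zpow_add, mul_comm u, mul_comm v, zpow_mul, zpow_mul, zpow_natCast]
    exact mul_mem (zpow_mem hxp u) (zpow_mem h2 v)
  have h4 : ((a ^ (p ^ r) : ℕ) : ZMod p) = 1 := by
    have := (ZMod.intCast_zmod_eq_zero_iff_dvd _ p).2 h3
    push_cast at this
    push_cast
    exact (sub_eq_zero.1 this).symm
  rw [Nat.cast_pow, ZMod.pow_card_pow] at h4
  exact (ZMod.natCast_eq_natCast_iff a 1 p).1 (by rw [h4, Nat.cast_one])

variable {Ω : Type*} [Group Ω] {S : Subgroup Ω} [Finite S]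

/-- No essential subgroup is elementary abelian of order `p ^ 3`. -/
theorem cube_false (hp2 : p ≠ 2) (hS : IsPGroup p ↥S) {n : ℕ} (h : IsMax p ↥S n) (h5 : 5 ≤ n)
    {F : FusionSystem S} (hF : F.IsSaturated p) {E : Subgroup Ω} (hE : F.IsEssential p E)
    (hab : ∀ a b : E, a * b = b * a) (hexp : ∀ a : E, a ^ p = 1) (hcard : Nat.card E = p ^ 3) :
    False := by
  classical
  have hES := hE.1.1
  haveI := finite_of_le hES
  have hcS : centralizerIn S E ≤ E := hE.1.2 E (isConj_refl F hES)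
  set E' := E.subgroupOf S with hE'
  have hE'card : Nat.card E' = p ^ 3 := by
    rw [hE', Nat.card_congr (Subgroup.subgroupOfEquivOfLe hES).toEquiv, hcard]
  have hab' : ∀ a ∈ E', ∀ b ∈ E', a * b = b * a := fun a ha b hb =>
    Subtype.ext (congrArg Subtype.val (hab ⟨(a : Ω), ha⟩ ⟨(b : Ω), hb⟩) :)
  have hcentral : ∀ x : ↥S, (∀ a ∈ E', a * x = x * a) → x ∈ E' := fun x hx =>
    hcS (mem_centralizerIn.2 ⟨x.2, fun a ha =>
      (congrArg Subtype.val (hx ⟨a, hES ha⟩ ha)).symm⟩)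
  have hbot : ∀ {k : ℕ} {x : ↥S}, n - 1 ≤ k → x ∈ γ[k] → x = 1 := fun {k x} hk hx => by
    rwa [gamma_eq_bot h hk, Subgroup.mem_bot] at hx
  -- the centre
  have hZE : (γ[n - 2] : Subgroup ↥S) ≤ E' := fun z hz =>
    hcentral z fun a _ => Degree.mem_last_central h hz a
  obtain ⟨z, hz, hz1⟩ := (Subgroup.bot_or_exists_ne_one _).resolve_left h.below
  set zE : E := ⟨(z : Ω), hZE hz⟩ with hzE
  have hNle : Nat.card (normalizerIn S E) ≤ p ^ 4 :=
    CubePlane.card_normalizerIn_le hS hF hE hab hexp hcard zE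
      (fun hh => hz1 (Subtype.ext (by simpa [hzE] using congrArg Subtype.val hh)))
      (fun g hg => congrArg Subtype.val (Degree.mem_last_central h hz ⟨g, hg⟩))
  -- `γ_{n-4}` normalizes `E`
  have hdich := Layers.le_twoCent_of_abelian h hp2 h5 hab' hE'card.ge
  have hDeg := Degree.twoCent_eq h hp2
  have hZ2E : E' ≤ twoCent ↥S (n - 3) → (γ[n - 3] : Subgroup ↥S) ≤ E' := by
    intro hle u hu
    refine hcentral u fun a ha => ?_
    have h1 := hbot (k := n - 3 + 2) (by omega) (mem_twoCent.1 (hle ha) u hu)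
    exact (commutatorElement_eq_one_iff_mul_comm.1 h1).symm
  have hcomm : ∀ t ∈ (γ[n - 4] : Subgroup ↥S), ∀ a ∈ E', ⁅t, a⁆ ∈ E' := by
    intro t ht a ha
    rcases hdich with hP | hM
    · have h1 := hP ha
      rw [← hDeg (n - 4) (by omega) (by omega)] at h1
      have h2 := mem_twoCent.1 h1 t ht
      rw [show n - 4 + 2 = n - 2 by omega] at h2
      exact hZE h2
    · have h2 := mem_gamma_succ ht a
      rw [show n - 4 + 1 = n - 3 by omega] at h2
      exact hZ2E hM h2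
  set T := (γ[n - 4] : Subgroup ↥S).map S.subtype with hT
  have hTS : T ≤ S := Subgroup.map_subtype_le _
  haveI := finite_of_le hTS
  have hTcard : Nat.card T = p ^ 3 := by
    rw [hT, Subgroup.card_map_of_injective S.subtype_injective, card_gamma h _ (by omega) (by omega)]
    congr 1
    omega
  have hTmem : ∀ x : ↥S, (x : Ω) ∈ T ↔ x ∈ γ[n - 4] := fun x =>
    Subgroup.mem_map_iff_mem S.subtype_injective
  have hTnorm : ∀ g ∈ S, ∀ x ∈ T, g * x * g⁻¹ ∈ T := by
    intro g hg x hx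
    exact (hTmem (⟨g, hg⟩ * ⟨x, hTS hx⟩ * ⟨g, hg⟩⁻¹)).2
      ((inferInstance : (γ[n - 4] : Subgroup ↥S).Normal).conj_mem _ ((hTmem ⟨x, hTS hx⟩).1 hx) _)
  have hTab : ∀ a ∈ T, ∀ b ∈ T, a * b = b * a := fun a ha b hb => congrArg Subtype.val
    (Layers.gamma_abelian h h5 ⟨a, hTS ha⟩ ((hTmem _).1 ha) ⟨b, hTS hb⟩ ((hTmem _).1 hb))
  have hNT : normalizerIn S T = S := le_antisymm (normalizerIn_le T) fun g hg => ⟨hg, by
    refine Subgroup.mem_normalizer_iff.2 fun x => ⟨hTnorm g hg x, fun hx => ?_⟩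
    simpa [mul_assoc] using hTnorm g⁻¹ (inv_mem hg) _ hx⟩
  have hTfn : F.IsFullyNormalized T :=
    ⟨hTS, fun Q _ => by rw [hNT]; exact card_le_of_le (normalizerIn_le Q)⟩
  have hbig : p ^ 4 < p ^ n := Nat.pow_lt_pow_right hp.out.one_lt (by omega)
  have hTE : ¬ F.IsConj E T := fun hc => by
    have h1 := hE.2.1.2 T hc
    rw [hNT, h.card] at h1
    omega
  have hTN : T ≤ normalizerIn S E := by
    intro g hg
    refine ⟨hTS hg, Subgroup.mem_normalizer_fintype fun x hx => ?_⟩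
    have h1 : (⁅(⟨g, hTS hg⟩ : ↥S), ⟨x, hES hx⟩⁆ : ↥S) ∈ E' := hcomm _ ((hTmem _).1 hg) _ hx
    have h2 := E.mul_mem h1 hx
    simpa [commutatorElement_def, mul_assoc] using h2
  have hTnle : ¬ T ≤ E := fun hle => hTE (by
    rw [eq_of_le_of_card_le hES hle (hcard.trans hTcard.symm).le]; exact isConj_refl F hES)
  -- the normalizer
  set N := normalizerIn S E with hN
  have hNS : N ≤ S := normalizerIn_le E
  haveI := finite_of_le hNS
  have hsup : Nat.card ↥(E ⊔ T) = p ^ 4 ∧ Nat.card ↥(E ⊓ T) = p ^ 2 := by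
    set T' := (γ[n - 4] : Subgroup ↥S) with hT'
    have hT'card : Nat.card T' = p ^ 3 := by
      rw [hT', card_gamma h _ (by omega) (by omega)]; congr 1; omega
    have e1 : Nat.card ↥(E' ⊔ T') = Nat.card ↥(E ⊔ T) := by
      rw [hT, ← Subgroup.card_map_of_injective (K := E' ⊔ T') S.subtype_injective, Subgroup.map_sup,
        Subgroup.map_subgroupOf_eq_of_le hES]
    have e2 : Nat.card ↥(E' ⊓ T') = Nat.card ↥(E ⊓ T) := by
      rw [hT, ← Subgroup.card_map_of_injective (K := E' ⊓ T') S.subtype_injective,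
        Subgroup.map_inf _ _ _ S.subtype_injective, Subgroup.map_subgroupOf_eq_of_le hES]
    obtain ⟨i, hi⟩ := IsPGroup.iff_card.1 ((isPGroup h).to_subgroup (E' ⊔ T'))
    have h4 : Nat.card ↥(E' ⊔ T') ≤ p ^ 4 := by
      rw [e1]
      exact (Subgroup.card_le_of_le (sup_le (le_normalizerIn hES) hTN)).trans hNle
    have hlt : T' < E' ⊔ T' := lt_of_le_of_ne le_sup_right fun e => hTnle (by
      have hle : E' ≤ T' := e ▸ le_sup_left
      have heq := Subgroup.eq_of_le_of_card_ge hle (by rw [hT'card, hE'card])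
      intro x hx
      have : (⟨x, hTS hx⟩ : ↥S) ∈ E' := heq ▸ (hTmem _).1 hx
      exact this)
    have h34 := Cfsg.Lib.Fusion.card_lt_card_of_lt hlt
    rw [hT'card, hi] at h34
    rw [hi] at h4
    have := (Nat.pow_lt_pow_iff_right hp.out.one_lt).1 h34
    have := (Nat.pow_le_pow_iff_right hp.out.one_lt).1 h4
    obtain rfl : i = 4 := by omega
    refine ⟨e1 ▸ hi, ?_⟩
    rw [← e2]
    have hA := Cfsg.Lib.Core.card_mul_relIndex (le_sup_right : T' ≤ E' ⊔ T')
    rw [Subgroup.relIndex_sup_right, hT'card, hi, pow_succ p 3] at hA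
    have hrel := Nat.eq_of_mul_eq_mul_left (pow_pos hp.out.pos 3) hA
    have hB := Cfsg.Lib.Core.card_mul_relIndex (inf_le_left : E' ⊓ T' ≤ E')
    rw [Subgroup.inf_relIndex_left, hrel, hE'card, pow_succ p 2] at hB
    exact Nat.eq_of_mul_eq_mul_right hp.out.pos hB
  have hNeq : E ⊔ T = N :=
    eq_of_le_of_card_le hNS (sup_le (le_normalizerIn hES) hTN) (hNle.trans hsup.1.ge)
  have hNcard : Nat.card N = p ^ 4 := hNeq ▸ hsup.1
  -- the plane `W = E ∩ T`
  set W := T.subgroupOf E with hW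
  have hWcard : Nat.card W = p ^ 2 := by
    rw [hW, ← hsup.2, ← Subgroup.card_map_of_injective E.subtype_injective, Subgroup.subgroupOf_map_subtype,
      inf_comm]
  have hWidx : W.index = p := by
    have h1 := W.card_mul_index
    rw [hWcard, hcard, pow_succ p 2] at h1
    exact Nat.eq_of_mul_eq_mul_left (pow_pos hp.out.pos 2) h1
  haveI hWn : W.Normal := ⟨fun a ha g => by rwa [hab g a, mul_inv_cancel_right]⟩
  obtain ⟨t, htT, htE⟩ := SetLike.not_le_iff_exists.1 hTnle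
  have htN : t ∈ N := hTN htT
  obtain ⟨e₀, he₀⟩ : ∃ e₀ : E, e₀ ∉ W := by
    by_contra hall
    push Not at hall
    rw [show W = ⊤ from eq_top_iff.2 fun v _ => hall v, Subgroup.index_top] at hWidx
    exact hp.out.ne_one hWidx.symm
  set A := F.autGroup E with hA
  set u : A := ⟨conjAut E htN.2, autInducedBy_le_autGroup hES (conjAut_mem_autInducedBy htN.2 htN.1)⟩ with hu
  have huW : ∀ v ∈ W, (u : MulAut E) v = v := fun v hv => Subtype.ext (by
    show t * (v : Ω) * t⁻¹ = v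
    rw [hTab t htT v hv, mul_inv_cancel_right])
  have hu1 : u ≠ 1 := fun hh => htE (hcS (mem_centralizerIn.2 ⟨hTS htT, fun x hx => commute_of_conj_eq
    (congrArg (fun a : A => (((a : MulAut E) ⟨x, hx⟩ : E) : Ω)) hh)⟩))
  set w := e₀⁻¹ * (u : MulAut E) e₀ with hw
  have hue₀ : (u : MulAut E) e₀ = e₀ * w := (mul_inv_cancel_left _ _).symm
  set tS : ↥S := ⟨t, hTS htT⟩ with htS
  set eS : ↥S := ⟨(e₀ : Ω), hES e₀.2⟩ with heS
  have hwcoe : (w : Ω) = ((⁅eS⁻¹, tS⁆ : ↥S) : Ω) := by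
    rw [hw]
    show (e₀ : Ω)⁻¹ * (t * (e₀ : Ω) * t⁻¹) = _
    simp [commutatorElement_def, htS, heS, mul_assoc]
  have hwlev : (⁅eS⁻¹, tS⁆ : ↥S) ∈ γ[n - 3] := by
    rw [← commutatorElement_inv, show n - 3 = n - 4 + 1 by omega]
    exact inv_mem (mem_gamma_succ ((hTmem tS).1 htT) _)
  have hwW : w ∈ W := by
    show (w : Ω) ∈ T
    rw [hwcoe]
    exact (hTmem _).2 (Subgroup.lowerCentralSeries_antitone _ (show n - 4 ≤ n - 3 by omega) hwlev)
  have hWsup : W ⊔ Subgroup.zpowers e₀ = ⊤ := sup_zpowers_eq_top_of_index (p := p) hWidx he₀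
  have hdec : ∀ v : E, ∃ a ∈ W, ∃ i : ℤ, v = a * e₀ ^ i := by
    intro v
    obtain ⟨a, ha, _, ⟨i, rfl⟩, rfl⟩ := Subgroup.mem_sup_of_normal_left.1
      (hWsup.symm ▸ Subgroup.mem_top v : v ∈ W ⊔ Subgroup.zpowers e₀)
    exact ⟨a, ha, i, rfl⟩
  have hw1 : w ≠ 1 := by
    intro hh
    refine hu1 (Subtype.ext (MulEquiv.ext fun v => ?_))
    obtain ⟨a, ha, i, rfl⟩ := hdec v
    show (u : MulAut E) _ = _
    rw [map_mul, map_zpow, huW a ha, hue₀, hh, mul_one]
    rfl
  have hfixu : ∀ v, (u : MulAut E) v = v → v ∈ W := by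
    intro v hv
    obtain ⟨a, ha, i, rfl⟩ := hdec v
    rw [map_mul, map_zpow, huW a ha, hue₀, mul_right_inj, (show Commute e₀ w from hab _ _).mul_zpow,
      mul_eq_left] at hv
    have hdvd : (p : ℤ) ∣ i := by
      rw [← orderOf_eq_prime (hexp w) hw1]
      exact orderOf_dvd_iff_zpow_eq_one.2 hv
    obtain ⟨j, rfl⟩ := hdvd
    rw [zpow_mul, zpow_natCast, hexp, one_zpow, mul_one]
    exact ha
  obtain ⟨-, R₀, hR₀⟩ := (isFullyAutomized_and_fc_of_fn hS hF hE.2.1).2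
  obtain ⟨-, -, -, hO, -, -⟩ := RankTwo.basic hS hF hE
  have hRcard : Nat.card (R₀ : Subgroup A) ≤ p := by
    set f := RankTwo.cA F hES
    have h1 := f.ker.card_mul_index
    rw [Subgroup.index_ker] at h1
    replace h1 := h1.trans hNcard
    have h2 : p ^ 3 ≤ Nat.card f.ker := by
      rw [← hcard]
      refine Nat.card_le_card_of_injective
        (fun v : E => (⟨⟨(v : Ω), le_normalizerIn hES v.2⟩, ?_⟩ : f.ker))
        fun a b hh => Subtype.ext (congrArg (fun q : f.ker => ((q : N) : Ω)) hh)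
      refine Subtype.ext (MulEquiv.ext fun x => Subtype.ext ?_)
      rw [RankTwo.coe_cA]
      show (v : Ω) * (x : Ω) * (v : Ω)⁻¹ = x
      have := congrArg Subtype.val (hab v x)
      simp only [Subgroup.coe_mul] at this
      rw [this, mul_inv_cancel_right]
    have h3 : (R₀ : Subgroup A) ≤ f.range := by
      intro r hr
      rw [hR₀, Subgroup.mem_subgroupOf] at hr
      obtain ⟨g, hg, hgr⟩ := mem_autInducedBy.1 hr
      refine ⟨⟨g, hg, mem_normalizer_of_aut hgr⟩, Subtype.ext (MulEquiv.ext fun x => Subtype.ext ?_)⟩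
      rw [RankTwo.coe_cA, hgr]
    refine (Subgroup.card_le_of_le h3).trans ?_
    refine Nat.le_of_mul_le_mul_left ?_ (pow_pos hp.out.pos 3)
    calc p ^ 3 * Nat.card f.range ≤ Nat.card f.ker * Nat.card f.range := Nat.mul_le_mul h2 le_rfl
      _ = p ^ 3 * p := by rw [h1, pow_succ]
  have hdisp : ∀ v, ∃ i : ℕ, (u : MulAut E) v = v * w ^ i := by
    intro v
    obtain ⟨a, ha, i, rfl⟩ := hdec v
    obtain ⟨k, hk⟩ := mem_powers_iff_mem_zpowers.2 (⟨i, rfl⟩ : w ^ i ∈ Subgroup.zpowers w)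
    refine ⟨k, ?_⟩
    rw [map_mul, map_zpow, huW a ha, hue₀, (show Commute e₀ w from hab _ _).mul_zpow,
      show w ^ k = w ^ i from hk, mul_assoc]
  have hsmall : ∀ Q : Subgroup A, IsPGroup p Q → Nat.card Q ≤ p := by
    intro Q hQ
    obtain ⟨P₀, hP₀⟩ := hQ.exists_le_sylow
    exact (Subgroup.card_le_of_le hP₀).trans (by
      rw [P₀.card_eq_multiplicity, ← R₀.card_eq_multiplicity]; exact hRcard)
  have hmove : ∃ a : A, (a : MulAut E) w ∉ Subgroup.zpowers w := by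
    by_contra hall
    push Not at hall
    let K : Subgroup A :=
      { carrier := {a | (a : MulAut E) w = w ∧ ∀ v, v⁻¹ * (a : MulAut E) v ∈ Subgroup.zpowers w}
        one_mem' := by simp
        mul_mem' := by
          rintro a b ⟨ha, ha'⟩ ⟨hb, hb'⟩
          refine ⟨by rw [Subgroup.coe_mul, MulAut.mul_apply, hb, ha], fun v => ?_⟩
          obtain ⟨j, hj⟩ := hb' v
          rw [Subgroup.coe_mul, MulAut.mul_apply, ← mul_inv_cancel_left v ((b : MulAut E) v), map_mul,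
            ← show w ^ j = _ from hj, map_zpow, ha, ← mul_assoc]
          exact mul_mem (ha' v) ⟨j, rfl⟩
        inv_mem' := by
          rintro a ⟨ha, ha'⟩
          refine ⟨by rw [InvMemClass.coe_inv]; conv_lhs => rw [← ha, MulAut.inv_apply_self],
            fun v => ?_⟩
          have h1 := inv_mem (ha' (((a⁻¹ : A) : MulAut E) v))
          rw [InvMemClass.coe_inv, MulAut.apply_inv_self, mul_inv_rev, inv_inv] at h1
          rwa [InvMemClass.coe_inv] }
    haveI hKn : K.Normal := by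
      refine ⟨fun a ha g => ?_⟩
      obtain ⟨i, hi⟩ := hall g⁻¹
      have hg1 : ∀ v, (g : MulAut E) (((g⁻¹ : A) : MulAut E) v) = v := fun v => by
        rw [InvMemClass.coe_inv, MulAut.apply_inv_self]
      refine ⟨?_, fun v => ?_⟩
      · show (g : MulAut E) ((a : MulAut E) (((g⁻¹ : A) : MulAut E) w)) = w
        rw [← show w ^ i = _ from hi, map_zpow, ha.1, show w ^ i = _ from hi, hg1]
      · show v⁻¹ * (g : MulAut E) ((a : MulAut E) (((g⁻¹ : A) : MulAut E) v)) ∈ _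
        obtain ⟨j, hj⟩ := ha.2 (((g⁻¹ : A) : MulAut E) v)
        rw [← mul_inv_cancel_left (((g⁻¹ : A) : MulAut E) v) ((a : MulAut E) _),
          ← show w ^ j = _ from hj, map_mul, hg1, inv_mul_cancel_left, map_zpow]
        exact zpow_mem (hall g) j
    have hKp : IsPGroup p K := by
      rintro ⟨a, ha⟩
      refine ⟨1, Subtype.ext (Subtype.ext (MulEquiv.ext fun v => ?_))⟩
      simp only [pow_one, SubgroupClass.coe_pow, OneMemClass.coe_one, MulAut.one_apply]
      obtain ⟨j, hj⟩ := ha.2 v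
      have hk : ∀ k : ℕ, ((a : MulAut E) ^ k) v = v * (w ^ j) ^ k := by
        intro k
        induction k with
        | zero => simp
        | succ k ih =>
          rw [pow_succ', MulAut.mul_apply, ih, map_mul, map_pow, map_zpow, ha.1, pow_succ', ← mul_assoc v]
          congr 1
          rw [show w ^ j = v⁻¹ * (a : MulAut E) v from hj, mul_inv_cancel_left]
      rw [hk, hexp, mul_one]
    obtain ⟨y, hy⟩ := hO K hKn hKp (show u ∈ K from ⟨huW w hwW, fun v => by
      obtain ⟨i, hi⟩ := hdisp v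
      rw [hi, inv_mul_cancel_left]
      exact Subgroup.npow_mem_zpowers w i⟩)
    refine hu1 (Subtype.ext (MulEquiv.ext fun v => ?_))
    show (u : MulAut E) v = v
    rw [← show MulAut.conj y = (u : MulAut E) from hy]
    show y * v * y⁻¹ = v
    rw [hab y v, mul_inv_cancel_right]
  have hData : Transvection.Data p A u w := ⟨hab, hexp w, hw1, huW w hwW, hdisp, hu1, hsmall, hmove⟩
  obtain ⟨u', f, C, hfp, huf, hu'f, hu'w, hCfix, hfixdec, hdec3, hmeet, -, -⟩ :=
    Transvection.exists_decomp hData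
  have hCW : ∀ c ∈ C, c ∈ W := fun c hc => hfixu c (hCfix c hc).1
  -- the diagonal automorphism
  set j : A := u * u'⁻¹ * u with hj
  have huw : (u : MulAut E) w = w := huW w hwW
  have hu'inv_w : ((u'⁻¹ : A) : MulAut E) w = w * f⁻¹ := by
    rw [InvMemClass.coe_inv]
    refine (u' : MulAut E).injective ?_
    rw [MulAut.apply_inv_self, map_mul, map_inv, hu'f, hu'w, mul_inv_cancel_right]
  have hu'inv_f : ((u'⁻¹ : A) : MulAut E) f = f := by
    rw [InvMemClass.coe_inv]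
    refine (u' : MulAut E).injective ?_
    rw [MulAut.apply_inv_self, hu'f]
  have hjw : (j : MulAut E) w = f⁻¹ := by
    rw [hj, Subgroup.coe_mul, Subgroup.coe_mul, MulAut.mul_apply, MulAut.mul_apply, huw, hu'inv_w, map_mul,
      map_inv, huw, huf, mul_inv_rev, hab f⁻¹, mul_inv_cancel_left]
  have hjf : (j : MulAut E) f = w := by
    rw [hj, Subgroup.coe_mul, Subgroup.coe_mul, MulAut.mul_apply, MulAut.mul_apply, huf, map_mul, hu'inv_w,
      hu'inv_f, inv_mul_cancel_right, huw]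
  set d : A := j * j with hd
  have hdw : (d : MulAut E) w = w⁻¹ := by
    rw [hd, Subgroup.coe_mul, MulAut.mul_apply, hjw, map_inv, hjf]
  have hdf : (d : MulAut E) f = f⁻¹ := by
    rw [hd, Subgroup.coe_mul, MulAut.mul_apply, hjf, hjw]
  have hdc : ∀ c ∈ C, (d : MulAut E) c = c := by
    intro c hc
    have hjc : (j : MulAut E) c = c := by
      have h1 : ((u'⁻¹ : A) : MulAut E) c = c := by
        rw [InvMemClass.coe_inv]
        conv_lhs => rw [← (hCfix c hc).2, MulAut.inv_apply_self]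
      rw [hj, Subgroup.coe_mul, Subgroup.coe_mul, MulAut.mul_apply, MulAut.mul_apply, (hCfix c hc).1, h1,
        (hCfix c hc).1]
    rw [hd, Subgroup.coe_mul, MulAut.mul_apply, hjc, hjc]
  have hdu : ∀ v, (d : MulAut E) ((u : MulAut E) v) = (u : MulAut E) ((d : MulAut E) v) := by
    intro v
    obtain ⟨i, k, c, hc, rfl⟩ := hdec3 v
    simp only [map_mul, map_pow, map_inv, huw, huf, hdw, hdf, hdc c hc, (hCfix c hc).1]
    rw [show (w * f)⁻¹ = w⁻¹ * f⁻¹ by rw [mul_inv_rev, hab]]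
  have hdfix : ∀ v ∈ W, (d : MulAut E) v ∈ W := fun v hv => hfixu _ (by rw [← hdu, huW v hv])
  -- the extension to the normalizer
  have hdA : IsoIn F (d : MulAut E) := (mem_autGroup hES).1 d.2
  have hrec := isReceptive_of_fc hS hF (isFullyAutomized_and_fc_of_fn hS hF hE.2.1).1
  have hNext : ∀ g ∈ N, ∀ v : E, ∀ hv : g * (v : Ω) * g⁻¹ ∈ E,
      ((d : MulAut E) ⟨_, hv⟩ : Ω) = g * ((d : MulAut E) v : Ω) * g⁻¹ := by
    intro g hg
    let K : Subgroup Ω :=
      { carrier := {g | g ∈ Subgroup.normalizer (E : Set Ω) ∧ ∀ v : E, ∀ hv : g * (v : Ω) * g⁻¹ ∈ E,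
          ((d : MulAut E) ⟨_, hv⟩ : Ω) = g * ((d : MulAut E) v : Ω) * g⁻¹}
        one_mem' := ⟨one_mem _, fun v hv => by simp⟩
        mul_mem' := by
          rintro a b ⟨haN, ha⟩ ⟨hbN, hb⟩
          refine ⟨mul_mem haN hbN, fun v hv => ?_⟩
          have h1 := (Subgroup.mem_normalizer_iff.1 hbN v).1 v.2
          have h2 := ha ⟨_, h1⟩ ((Subgroup.mem_normalizer_iff.1 haN _).1 h1)
          rw [hb v h1] at h2
          simp only [mul_inv_rev] at h2 ⊢
          have e : (⟨a * b * (v : Ω) * (b⁻¹ * a⁻¹), by simpa [mul_inv_rev] using hv⟩ : E) =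
              ⟨a * (b * (v : Ω) * b⁻¹) * a⁻¹, (Subgroup.mem_normalizer_iff.1 haN _).1 h1⟩ :=
            Subtype.ext (by simp [mul_assoc])
          rw [e, h2]
          simp [mul_assoc]
        inv_mem' := by
          rintro a ⟨haN, ha⟩
          refine ⟨inv_mem haN, fun v hv => ?_⟩
          have h2 := ha ⟨_, hv⟩ ((Subgroup.mem_normalizer_iff.1 haN _).1 hv)
          have e : (⟨a * (a⁻¹ * (v : Ω) * a⁻¹⁻¹) * a⁻¹, (Subgroup.mem_normalizer_iff.1 haN _).1 hv⟩ : E) = v :=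
            Subtype.ext (by simp [mul_assoc])
          rw [e] at h2
          rw [h2]
          simp [mul_assoc] }
    suffices hle : N ≤ K from fun v hv => (hle hg).2 v hv
    rw [← hNeq]
    refine sup_le (fun x hx => ⟨Subgroup.le_normalizer hx, fun v hv => ?_⟩) ?_
    · have hxv : ∀ q : E, x * (q : Ω) * x⁻¹ = q := fun q => by
        have := congrArg Subtype.val (hab ⟨x, hx⟩ q)
        simp only [Subgroup.coe_mul] at this
        rw [this, mul_inv_cancel_right]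
      rw [hxv ((d : MulAut E) v), show (⟨x * (v : Ω) * x⁻¹, hv⟩ : E) = v from Subtype.ext (hxv v)]
    · -- `T = W⟨t⟩`
      intro x hx
      have hxs : x ∈ (W.map E.subtype) ⊔ Subgroup.zpowers t := by
        have hle : W.map E.subtype ⊔ Subgroup.zpowers t ≤ T :=
          sup_le (by rw [hW, Subgroup.subgroupOf_map_subtype]; exact inf_le_left) (Subgroup.zpowers_le.2 htT)
        have heq : W.map E.subtype ⊔ Subgroup.zpowers t = T := by
          refine eq_of_le_of_card_le hTS hle ?_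
          haveI := finite_of_le (hle.trans hTS)
          obtain ⟨i, hi⟩ := IsPGroup.iff_card.1 (hS.to_le (hle.trans hTS))
          have hlt : W.map E.subtype < W.map E.subtype ⊔ Subgroup.zpowers t :=
            lt_of_le_of_ne le_sup_left fun e => htE (by
              have := (e.symm ▸ Subgroup.mem_sup_right (Subgroup.mem_zpowers t) : t ∈ W.map E.subtype)
              exact Subgroup.map_subtype_le _ this)
          rw [hTcard, hi]
          refine Nat.pow_le_pow_right hp.out.pos ?_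
          by_contra hi2
          refine hlt.ne (eq_of_le_of_card_le (hle.trans hTS) le_sup_left ?_)
          rw [hi, Subgroup.card_map_of_injective E.subtype_injective, hWcard]
          exact Nat.pow_le_pow_right hp.out.pos (by omega)
        rw [heq]; exact hx
      refine (sup_le ?_ (Subgroup.zpowers_le.2 ⟨htN.2, fun v hv => ?_⟩) : _ ≤ K) hxs
      · rintro _ ⟨q, hq, rfl⟩
        refine ⟨Subgroup.le_normalizer q.2, fun v hv => ?_⟩
        have hxv : ∀ r : E, (q : Ω) * (r : Ω) * (q : Ω)⁻¹ = r := fun r => by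
          have := congrArg Subtype.val (hab q r)
          simp only [Subgroup.coe_mul] at this
          rw [this, mul_inv_cancel_right]
        show _ = (q : Ω) * ((d : MulAut E) v : Ω) * (q : Ω)⁻¹
        rw [hxv ((d : MulAut E) v)]
        exact congrArg (fun r : E => (((d : MulAut E) r : E) : Ω)) (Subtype.ext (hxv v) : (⟨_, hv⟩ : E) = v)
      · exact congrArg Subtype.val (hdu v)
  obtain ⟨ψ, hψ, hψe⟩ := IsReceptive_ext hrec hdA (N := N) (fun g hg =>
    ⟨hg.1, hg.2, g, hg.1, fun x y hxy => by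
      have hy : y = ⟨_, (Subgroup.mem_normalizer_iff.1 hg.2 x).1 x.2⟩ := Subtype.ext hxy
      rw [hy]
      exact hNext g hg x _⟩)
  have hψmap := map_subgroupOf_eq (e := (d : MulAut E)) (le_normalizerIn hES) hψe
  have hψv : ∀ x, ψ x ∈ N := fun x => ⟨hom_mem hψ x, hψmap ▸ map_mem_normalizer ψ x x.2.2⟩
  have hψr : ψ.range = N := range_eq_of_card_le hψ hNS hψv le_rfl
  set Ψ : MulAut N := homIso hψ hψr with hΨ
  have hΨe : ∀ (v : E), ((Ψ ⟨(v : Ω), le_normalizerIn hES v.2⟩ : N) : Ω) = ((d : MulAut E) v : Ω) :=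
    fun v => (coe_homIso hψ hψr _).trans (hψe v v.2 _)
  set t' : Ω := ((Ψ ⟨t, htN⟩ : N) : Ω) with ht'
  have ht'E : t⁻¹ * t' ∈ E := by
    have htS' : t' ∈ S := hNS (Ψ ⟨t, htN⟩).2
    refine hcS (mem_centralizerIn.2 ⟨mul_mem (inv_mem (hTS htT)) htS', fun x hx => ?_⟩)
    set v := ((d : MulAut E))⁻¹ ⟨x, hx⟩ with hv
    have hdv : ((d : MulAut E) v : Ω) = x := by rw [hv, MulAut.apply_inv_self]
    have h1 : (⟨t, htN⟩ : N) * ⟨(v : Ω), le_normalizerIn hES v.2⟩ * (⟨t, htN⟩ : N)⁻¹ =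
        ⟨(((u : MulAut E) v : E) : Ω), le_normalizerIn hES ((u : MulAut E) v).2⟩ := Subtype.ext rfl
    have h2 := congrArg (fun q : N => ((Ψ q : N) : Ω)) h1
    simp only [map_mul, map_inv, Subgroup.coe_mul, Subgroup.coe_inv, hΨe] at h2
    rw [← ht', hdv, hdu, show (((u : MulAut E) ((d : MulAut E) v) : E) : Ω) = t * ((d : MulAut E) v : Ω) * t⁻¹ from rfl,
      hdv] at h2
    calc t⁻¹ * t' * x = t⁻¹ * (t' * x * t'⁻¹) * t' := by group
      _ = x * (t⁻¹ * t') := by rw [h2]; group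
  -- `Ψ` preserves `T`
  have ht'T : t' ∈ T := by
    by_contra hne
    set T₁ := T.subgroupOf N with hT₁
    have hTN' : T ≤ N := hTN
    -- an element of `S` moving `E` inside `N`
    obtain ⟨s, hsN', hsN⟩ := SetLike.exists_of_lt (lt_normalizerIn hS (lt_of_le_of_ne hNS fun e => by
      rw [e, h.card] at hNcard
      have := Nat.pow_right_injective hp.out.two_le hNcard
      omega))
    have hsS : s ∈ S := hsN'.1
    obtain ⟨r, hr⟩ := hS ⟨s, hsS⟩
    have hr' : s ^ p ^ r = 1 := by simpa using congrArg Subtype.val hr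
    have hdecN : ∀ x ∈ N, ∃ (a : ℕ) (m : Ω), m ∈ T ∧ x = (e₀ : Ω) ^ a * m := by
      intro x hx
      haveI : (T.subgroupOf N).Normal := ⟨fun q hq g => hTnorm g g.2.1 _ hq⟩
      have hx' : (⟨x, hx⟩ : N) ∈ E.subgroupOf N ⊔ T.subgroupOf N := by
        rw [← Subgroup.subgroupOf_sup (le_normalizerIn hES) hTN, hNeq, Subgroup.subgroupOf_self]
        exact Subgroup.mem_top _
      obtain ⟨q, hq, m, hm, hqm⟩ := Subgroup.mem_sup_of_normal_right.1 hx'
      obtain ⟨a, ha, i, hqi⟩ := hdec ⟨(q : Ω), hq⟩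
      obtain ⟨k, hk⟩ := mem_powers_iff_mem_zpowers.2 (⟨i, rfl⟩ : e₀ ^ i ∈ Subgroup.zpowers e₀)
      refine ⟨k, (a : Ω) * (m : Ω), T.mul_mem ha hm, ?_⟩
      have h1 : (⟨(q : Ω), hq⟩ : E) = e₀ ^ k * a := by
        rw [hqi, hab a]
        exact congrArg (fun b => b * a) hk.symm
      have h2 := congrArg Subtype.val h1
      simp only [Subgroup.coe_mul, SubgroupClass.coe_pow] at h2
      rw [← show (q : Ω) * (m : Ω) = x from congrArg Subtype.val hqm, h2, mul_assoc]
    have heT : (e₀ : Ω) ∉ T := he₀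
    have hep : (e₀ : Ω) ^ p = 1 := by simpa using congrArg Subtype.val (hexp e₀)
    -- the image of `e₀`
    obtain ⟨a, m, hm, hse⟩ := hdecN (s * e₀ * s⁻¹)
      ((Subgroup.mem_normalizer_iff.1 hsN'.2 _).1 (le_normalizerIn hES e₀.2))
    have ha1 := unip (p := p) (fun d hd => hTnorm s hsS d hd) heT (hep ▸ one_mem T)
      (fun d hd => hTnorm _ (hES e₀.2) d hd) (a := a) (by rw [hse, inv_mul_cancel_left]; exact hm) hr'
    rw [show (e₀ : Ω) ^ a = (e₀ : Ω) from (pow_eq_pow_of_modEq ha1 hep).trans (pow_one _)] at hse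
    -- conjugates of `E` by powers of `s`
    have hW' : ∀ q ∈ W, ∀ x ∈ N, x * (q : Ω) = (q : Ω) * x := by
      intro q hq x hx
      obtain ⟨a, m, hm, rfl⟩ := hdecN x hx
      have h1 : (e₀ : Ω) ^ a * (q : Ω) = (q : Ω) * (e₀ : Ω) ^ a := by
        have := congrArg Subtype.val (hab (e₀ ^ a) q)
        simpa using this
      rw [mul_assoc, hTab m hm q hq, ← mul_assoc, h1, mul_assoc]
    have hWE : ∀ x ∈ T, (∀ v ∈ N, v * x = x * v) → x ∈ E := fun x hx hc =>
      hcS (mem_centralizerIn.2 ⟨hTS hx, fun v hv => (hc v (le_normalizerIn hES hv)).symm⟩)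
    have hsW : ∀ q : Ω, q ∈ E → q ∈ T → s * q * s⁻¹ ∈ E := by
      intro q hqE hqT
      refine hWE _ (hTnorm s hsS q hqT) fun v hv => ?_
      have hv' : s⁻¹ * v * s ∈ N := (Subgroup.mem_normalizer_iff''.1 hsN'.2 v).1 hv
      have := hW' ⟨q, hqE⟩ hqT _ hv'
      calc v * (s * q * s⁻¹) = s * (s⁻¹ * v * s * q) * s⁻¹ := by group
        _ = s * (q * (s⁻¹ * v * s)) * s⁻¹ := by rw [this]
        _ = _ := by group
    have hmW : m ∉ E := by
      intro hmE
      refine hsN ⟨hsS, Subgroup.mem_normalizer_fintype fun x hx => ?_⟩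
      obtain ⟨q, hq, i, hqi⟩ := hdec ⟨x, hx⟩
      have hxe : x = (q : Ω) * (e₀ : Ω) ^ i := by simpa using congrArg Subtype.val hqi
      rw [SetLike.mem_coe, hxe, show s * ((q : Ω) * (e₀ : Ω) ^ i) * s⁻¹ =
        (s * (q : Ω) * s⁻¹) * (s * (e₀ : Ω) * s⁻¹) ^ i by rw [conj_zpow]; group]
      exact E.mul_mem (hsW _ q.2 hq) (E.zpow_mem (hse ▸ E.mul_mem e₀.2 hmE) i)
    -- `s` fixes `T / W`
    set W₀ := E ⊓ T with hW₀
    have hsupT : ∀ y : Ω, y ∈ T → y ∉ E → ∀ x ∈ T, ∃ (k : ℕ) (q : Ω), q ∈ W₀ ∧ x = y ^ k * q := by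
      intro y hy hyE x hx
      have hidx : (W₀.subgroupOf T).index = p := by
        have h1 := (W₀.subgroupOf T).card_mul_index
        rw [Nat.card_congr (Subgroup.subgroupOfEquivOfLe (inf_le_right : W₀ ≤ T)).toEquiv, hsup.2, hTcard,
          pow_succ p 2] at h1
        exact Nat.eq_of_mul_eq_mul_left (pow_pos hp.out.pos 2) h1
      haveI : (W₀.subgroupOf T).Normal := ⟨fun q hq g => by
        have : g * q * g⁻¹ = q := by
          rw [show g * q = q * g from Subtype.ext (hTab g g.2 q q.2), mul_inv_cancel_right]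
        rwa [this]⟩
      obtain ⟨q, hq, _, ⟨i, rfl⟩, hqi⟩ := Subgroup.mem_sup_of_normal_left.1
        ((sup_zpowers_eq_top_of_index (p := p) hidx (t := (⟨y, hy⟩ : T)) (fun hh => hyE hh.1)).symm ▸
          Subgroup.mem_top (⟨x, hx⟩ : T))
      obtain ⟨k, hk⟩ := mem_powers_iff_mem_zpowers.2
        (⟨i, rfl⟩ : (⟨y, hy⟩ : T) ^ i ∈ Subgroup.zpowers (⟨y, hy⟩ : T))
      refine ⟨k, q, hq, ?_⟩
      have hqi' : q * (⟨y, hy⟩ : T) ^ k = ⟨x, hx⟩ := by
        rw [show (⟨y, hy⟩ : T) ^ k = ⟨y, hy⟩ ^ i from hk]; exact hqi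
      have h2 := congrArg Subtype.val hqi'
      simp only [Subgroup.coe_mul, SubgroupClass.coe_pow] at h2
      exact h2.symm.trans (hTab _ q.2 _ (T.pow_mem hy k))
    have hsW₀ : ∀ q ∈ W₀, s * q * s⁻¹ ∈ W₀ := fun q hq => ⟨hsW q hq.1 hq.2, hTnorm s hsS q hq.2⟩
    have hmp : m ^ p ∈ W₀ := by
      have hmN : m ∈ N := hTN hm
      refine ⟨?_, T.pow_mem hm p⟩
      haveI : (E.subgroupOf N).Normal := ⟨fun q hq g => (Subgroup.mem_normalizer_iff.1 g.2.2 _).1 hq⟩
      have h1 := (E.subgroupOf N).card_mul_index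
      rw [Nat.card_congr (Subgroup.subgroupOfEquivOfLe (le_normalizerIn hES)).toEquiv, hcard, hNcard,
        pow_succ p 3] at h1
      have h2 := Subgroup.pow_index_mem (E.subgroupOf N) ⟨m, hmN⟩
      rw [Nat.eq_of_mul_eq_mul_left (pow_pos hp.out.pos 3) h1] at h2
      exact h2
    obtain ⟨b, q, hq, hsm⟩ := hsupT m hm hmW _ (hTnorm s hsS m hm)
    have hb1 := unip (p := p) hsW₀ (fun hh => hmW hh.1) hmp
      (fun d hd => by rwa [hTab m hm d hd.2, mul_inv_cancel_right]) (a := b)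
      (by rw [hsm, inv_mul_cancel_left]; exact hq) hr'
    have hsm' : m⁻¹ * (s * m * s⁻¹) ∈ W₀ := by
      rw [hsm]
      obtain ⟨c, hc⟩ := hb1.symm.dvd
      have : m⁻¹ * (m ^ b * q) = (m ^ p) ^ c * q := by
        rw [← zpow_natCast m b, ← mul_assoc, ← zpow_neg_one, ← zpow_add, ← zpow_natCast m p, ← zpow_mul]
        congr 2
      rw [this]
      exact mul_mem (zpow_mem hmp c) hq
    -- `t' = t e` with `e ∈ E ∖ W`; a conjugate of `E` contains it
    set e : Ω := t⁻¹ * t' with he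
    have heW : e ∉ T := fun hh => hne (by
      have := T.mul_mem htT hh
      rwa [he, mul_inv_cancel_left] at this)
    obtain ⟨q₁, hq₁, i₁, hqi₁⟩ := hdec ⟨e, ht'E⟩
    obtain ⟨k₁, hk₁⟩ := mem_powers_iff_mem_zpowers.2 (⟨i₁, rfl⟩ : e₀ ^ i₁ ∈ Subgroup.zpowers e₀)
    have hee : e = (q₁ : Ω) * (e₀ : Ω) ^ k₁ := by
      have h1 := congrArg Subtype.val hqi₁
      rw [show e₀ ^ i₁ = e₀ ^ k₁ from hk₁.symm] at h1
      simpa using h1
    have hpk : ¬ p ∣ k₁ := fun ⟨c, hc⟩ => heW (by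
      rw [hee, hc, pow_mul, hep, one_pow, mul_one]; exact hq₁)
    obtain ⟨k₂, q₂, hq₂, htm⟩ := hsupT m hm hmW t htT
    have hconj : ∀ l : ℕ, ∃ q ∈ W₀, s ^ l * (e₀ : Ω) * (s ^ l)⁻¹ = (e₀ : Ω) * m ^ l * q := by
      intro l
      induction l with
      | zero => exact ⟨1, one_mem _, by simp⟩
      | succ l ih =>
        obtain ⟨q, hq, hl⟩ := ih
        set qm := m⁻¹ * (s * m * s⁻¹) with hqm
        have hqm' : s * m * s⁻¹ = m * qm := (mul_inv_cancel_left _ _).symm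
        refine ⟨qm ^ l * (s * q * s⁻¹), mul_mem (pow_mem hsm' l) (hsW₀ q hq), ?_⟩
        rw [pow_succ', mul_inv_rev]
        calc s * s ^ l * (e₀ : Ω) * ((s ^ l)⁻¹ * s⁻¹) = s * (s ^ l * (e₀ : Ω) * (s ^ l)⁻¹) * s⁻¹ := by group
          _ = s * ((e₀ : Ω) * m ^ l * q) * s⁻¹ := by rw [hl]
          _ = (s * (e₀ : Ω) * s⁻¹) * (s * m * s⁻¹) ^ l * (s * q * s⁻¹) := by rw [conj_pow]; group
          _ = _ := by
            rw [hse, hqm', (show Commute m qm from hTab m hm qm hsm'.2).mul_pow, pow_succ']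
            group
    obtain ⟨kinv, hkinv⟩ := Plane.exists_mul_modEq hpk k₂
    obtain ⟨q₃, hq₃, hl⟩ := hconj kinv
    set Q : Subgroup Ω := E.map (MulAut.conj (s ^ kinv)).toMonoidHom with hQ
    have hQconj : F.IsConj E Q := ⟨conjHom E (s ^ kinv), F.conj_mem hES (pow_mem hsS _), by
      rw [hQ, conjHom, MonoidHom.range_comp, Subgroup.range_subtype]⟩
    have hsWl : ∀ (l : ℕ), ∀ q ∈ W₀, s ^ l * q * (s ^ l)⁻¹ ∈ W₀ := by
      intro l
      induction l with
      | zero => intro q hq; simpa using hq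
      | succ l ih =>
        intro q hq
        have := hsW₀ _ (ih q hq)
        rw [pow_succ', mul_inv_rev]
        simpa [mul_assoc] using this
    have hW₀Q : W₀ ≤ Q := by
      have heq : W₀.map (MulAut.conj (s ^ kinv)).toMonoidHom = W₀ := by
        haveI := finite_of_le (inf_le_right.trans hTS : W₀ ≤ S)
        refine eq_of_le_of_card_le (inf_le_right.trans hTS) (by rintro _ ⟨q, hq, rfl⟩; exact hsWl _ q hq) ?_
        rw [Subgroup.card_map_of_injective (MulAut.conj (s ^ kinv)).injective]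
      rw [← heq]
      exact Subgroup.map_mono inf_le_left
    have hnew : (e₀ : Ω) * m ^ kinv ∈ Q := by
      have h1 : s ^ kinv * (e₀ : Ω) * (s ^ kinv)⁻¹ ∈ Q := ⟨e₀, e₀.2, rfl⟩
      rw [hl] at h1
      have := Q.mul_mem h1 (Q.inv_mem (hW₀Q hq₃))
      rwa [mul_inv_cancel_right] at this
    -- `t'` lies in `Q`
    have ht'Q : t' ∈ Q := by
      have heN : (e₀ : Ω) ∈ N := le_normalizerIn hES e₀.2
      have hmN : m ∈ N := hTN hm
      haveI : (W₀.subgroupOf N).Normal := ⟨fun x hx g => by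
        have h1 : g * x * g⁻¹ = x := Subtype.ext (by
          show (g : Ω) * (x : Ω) * (g : Ω)⁻¹ = x
          rw [hW' ⟨(x : Ω), hx.1⟩ hx.2 g g.2, mul_inv_cancel_right])
        rwa [h1]⟩
      have hcardq : Nat.card (N ⧸ W₀.subgroupOf N) = p ^ 2 := by
        have h1 := (W₀.subgroupOf N).card_mul_index
        rw [Nat.card_congr (Subgroup.subgroupOfEquivOfLe
          (inf_le_left.trans (le_normalizerIn hES) : W₀ ≤ N)).toEquiv, hsup.2, hNcard,
          show p ^ 4 = p ^ 2 * p ^ 2 by rw [← pow_add]] at h1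
        exact Nat.eq_of_mul_eq_mul_left (pow_pos hp.out.pos 2) h1
      set π := QuotientGroup.mk' (W₀.subgroupOf N) with hπ
      have hπ1 : ∀ (x : Ω) (hx : x ∈ N), x ∈ W₀ → π ⟨x, hx⟩ = 1 := fun x hx hxW =>
        (QuotientGroup.eq_one_iff _).2 hxW
      have hπc : ∀ a b, Commute (π a) (π b) := fun a b =>
        IsPGroup.commutative_of_card_eq_prime_sq hcardq (π a) (π b)
      have hπm : π ⟨m, hmN⟩ ^ p = 1 := by
        rw [← map_pow]; exact (QuotientGroup.eq_one_iff _).2 hmp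
      have hq₁N : (q₁ : Ω) ∈ N := le_normalizerIn hES q₁.2
      have hq₂N : q₂ ∈ N := le_normalizerIn hES hq₂.1
      have ht'N : t' ∈ N := (Ψ ⟨t, htN⟩).2
      have e1 : (⟨t', ht'N⟩ : N) = ⟨m, hmN⟩ ^ k₂ * ⟨q₂, hq₂N⟩ * (⟨(q₁ : Ω), hq₁N⟩ * ⟨(e₀ : Ω), heN⟩ ^ k₁) :=
        Subtype.ext (by
          simp only [Subgroup.coe_mul, SubgroupClass.coe_pow]
          rw [← htm, ← hee, he, mul_inv_cancel_left])
      have e2 : π ⟨t', ht'N⟩ = π ((⟨(e₀ : Ω), heN⟩ * ⟨m, hmN⟩ ^ kinv) ^ k₁) := by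
        rw [e1, map_mul, map_mul, map_mul, hπ1 q₂ hq₂N hq₂, hπ1 _ hq₁N ⟨q₁.2, hq₁⟩, mul_one, one_mul,
          map_pow, map_pow, map_pow, map_mul, map_pow, ((hπc _ _).pow_right kinv).mul_pow, ← pow_mul,
          mul_comm kinv, Plane.pow_eq_pow_of_modEq hπm hkinv]
        exact ((hπc _ _).pow_pow _ _).eq
      have h1 : ((⟨t', ht'N⟩ : N)⁻¹ * (⟨(e₀ : Ω), heN⟩ * ⟨m, hmN⟩ ^ kinv) ^ k₁ : N) ∈ W₀.subgroupOf N :=
        QuotientGroup.eq.1 e2
      have h2 := hW₀Q h1
      change t'⁻¹ * ((e₀ : Ω) * m ^ kinv) ^ k₁ ∈ Q at h2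
      have h3 := Q.mul_mem (pow_mem hnew k₁) (Q.inv_mem h2)
      rwa [mul_inv_rev, inv_inv, mul_inv_cancel_left] at h3
    have hψT : F.IsConj T Q := by
      have hres : ψ.comp (Subgroup.inclusion hTN) ∈ F.Hom T := restrict_mem hψ hTN
      refine ⟨_, hres, ?_⟩
      have hQS : Q ≤ S := (isConj_le hQconj).2
      refine eq_of_le_of_card_le hQS ?_ (by rw [card_range hres, hTcard, ← card_eq_of_isConj hQconj, hcard])
      rintro _ ⟨⟨x, hx⟩, rfl⟩
      obtain ⟨k, q, hq, rfl⟩ := hsupT t htT htE x hx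
      have e : (Subgroup.inclusion hTN ⟨_, hx⟩ : N) = ⟨t, htN⟩ ^ k * ⟨q, le_normalizerIn hES hq.1⟩ :=
        Subtype.ext (by simp)
      rw [MonoidHom.comp_apply, e, map_mul, map_pow, show ψ ⟨t, htN⟩ = t' from (coe_homIso hψ hψr _).symm,
        hψe q hq.1]
      exact Q.mul_mem (pow_mem ht'Q k) (hW₀Q ⟨((d : MulAut E) _).2, hdfix ⟨q, hq.1⟩ hq.2⟩)
    exact hTE (isConj_trans hQconj (isConj_symm hψT))
  -- the automorphism of `T`
  set W₀ := E ⊓ T with hW₀
  have hTgen : ∀ x ∈ T, ∃ (k : ℤ) (q : Ω), q ∈ W₀ ∧ x = t ^ k * q := by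
    intro x hx
    have hidx : (W₀.subgroupOf T).index = p := by
      have h1 := (W₀.subgroupOf T).card_mul_index
      rw [Nat.card_congr (Subgroup.subgroupOfEquivOfLe (inf_le_right : W₀ ≤ T)).toEquiv, hsup.2, hTcard,
        pow_succ p 2] at h1
      exact Nat.eq_of_mul_eq_mul_left (pow_pos hp.out.pos 2) h1
    haveI : (W₀.subgroupOf T).Normal := ⟨fun q hq g => by
      have : g * q * g⁻¹ = q := by
        rw [show g * q = q * g from Subtype.ext (hTab g g.2 q q.2), mul_inv_cancel_right]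
      rwa [this]⟩
    obtain ⟨q, hq, _, ⟨i, rfl⟩, hqi⟩ := Subgroup.mem_sup_of_normal_left.1
      ((sup_zpowers_eq_top_of_index (p := p) hidx (t := (⟨t, htT⟩ : T)) (fun hh => htE hh.1)).symm ▸
        Subgroup.mem_top (⟨x, hx⟩ : T))
    refine ⟨i, q, hq, ?_⟩
    have h2 : (q : Ω) * t ^ i = x := by simpa using congrArg Subtype.val hqi
    exact h2.symm.trans (hTab _ q.2 _ (T.zpow_mem htT i))
  have hψq : ∀ (q : Ω) (hq : q ∈ W₀), ψ ⟨q, hTN hq.2⟩ = (((d : MulAut E) ⟨q, hq.1⟩ : E) : Ω) :=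
    fun q hq => hψe q hq.1 _
  have hdW₀ : ∀ (q : Ω) (hq : q ∈ W₀), (((d : MulAut E) ⟨q, hq.1⟩ : E) : Ω) ∈ W₀ :=
    fun q hq => ⟨((d : MulAut E) _).2, hdfix ⟨q, hq.1⟩ hq.2⟩
  have hψt : ψ ⟨t, htN⟩ = t' := (coe_homIso hψ hψr _).symm
  have hψT : ∀ x : T, ψ (Subgroup.inclusion hTN x) ∈ T := by
    rintro ⟨x, hx⟩
    obtain ⟨k, q, hq, rfl⟩ := hTgen x hx
    have e : (Subgroup.inclusion hTN ⟨_, hx⟩ : N) = ⟨t, htN⟩ ^ k * ⟨q, hTN hq.2⟩ := Subtype.ext (by simp)
    rw [e, map_mul, map_zpow, hψt, hψq q hq]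
    exact T.mul_mem (T.zpow_mem ht'T k) (hdW₀ q hq).2
  set res := ψ.comp (Subgroup.inclusion hTN) with hres'
  have hres : res ∈ F.Hom T := restrict_mem hψ hTN
  have hresr : res.range = T := range_eq_of_card_le hres hTS hψT le_rfl
  set η : MulAut T := homIso hres hresr with hη
  have hηA : η ∈ F.autGroup T := (mem_autGroup hTS).2 (isoIn_homIso hres hresr)
  have hηdisp : ∀ v : T, ((v : Ω)⁻¹ * (η v : Ω)) ∈ W₀ := by
    rintro ⟨x, hx⟩
    obtain ⟨k, q, hq, rfl⟩ := hTgen x hx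
    have e : (Subgroup.inclusion hTN ⟨_, hx⟩ : N) = ⟨t, htN⟩ ^ k * ⟨q, hTN hq.2⟩ := Subtype.ext (by simp)
    show _⁻¹ * res ⟨_, hx⟩ ∈ _
    rw [hres', MonoidHom.comp_apply, e, map_mul, map_zpow, hψt, hψq q hq,
      show t' = t * (t⁻¹ * t') from (mul_inv_cancel_left _ _).symm]
    have hetT : t⁻¹ * t' ∈ T := T.mul_mem (T.inv_mem htT) ht'T
    rw [(show Commute t (t⁻¹ * t') from hTab _ htT _ hetT).mul_zpow, mul_inv_rev, mul_assoc q⁻¹,
      mul_assoc (t ^ k), inv_mul_cancel_left]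
    exact W₀.mul_mem (W₀.inv_mem hq) (W₀.mul_mem (W₀.zpow_mem ⟨ht'E, hetT⟩ k) (hdW₀ q hq))
  have hηq : ∀ (v : T) (hv : (v : Ω) ∈ E),
      (η v : Ω) = (((d : MulAut E) ⟨v, hv⟩ : E) : Ω) := fun v hv => hψe v hv _
  -- the centre of the transvection
  set WT := (W₀.subgroupOf T) with hWT
  set wT : T := ⟨(w : Ω), hwW⟩ with hwT
  have hιw : MaxClassFlag.incl S n wT = ⁅eS⁻¹, tS⁆ := Subtype.ext hwcoe
  have hwT1 : wT ≠ 1 := fun hh => hw1 (Subtype.ext (congrArg Subtype.val hh :))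
  have hηw : η wT = wT⁻¹ := Subtype.ext (by
    rw [hηq wT w.2]
    show (((d : MulAut E) w : E) : Ω) = ((w : Ω))⁻¹
    rw [hdw, Subgroup.coe_inv])
  have hdecT : ∀ v : T, (v : Ω) ∈ E → ∃ (i : ℕ) (c : E) (hc : c ∈ C), v = wT ^ i * ⟨(c : Ω), hCW c hc⟩ ∧
      η v = (wT ^ i)⁻¹ * ⟨(c : Ω), hCW c hc⟩ := by
    intro v hv
    obtain ⟨i, c, hc, hvc⟩ := hfixdec ⟨v, hv⟩ (huW _ v.2)
    refine ⟨i, c, hc, Subtype.ext (by simpa using congrArg Subtype.val hvc), Subtype.ext ?_⟩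
    rw [hηq v hv, hvc, map_mul, map_pow, hdw, hdc c hc]
    simp [hwT]
  have hηE : ∀ v : T, (v : Ω) ∈ E → η v ∈ WT := fun v hv => by
    rw [hWT, Subgroup.mem_subgroupOf]
    exact ⟨by rw [hηq v hv]; exact ((d : MulAut E) _).2, (η v).2⟩
  by_cases hwZ : (⁅eS⁻¹, tS⁆ : ↥S) ∈ γ[n - 2]
  · refine MaxClassFlag.false_of_central h hp2 hS h5 hF η hηA WT (fun v hv => ?_)
      (fun v hv => hηE v hv.1) (fun v => ?_) wT hwT1 (hιw ▸ hwZ) hηw (fun v hv => ?_)
    · exact Subtype.ext (by simpa using congrArg Subtype.val (hexp ⟨(v : Ω), hv.1⟩))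
    · exact hηdisp v
    · obtain ⟨i, c, hc, e1, e2⟩ := hdecT v hv.1
      exact ⟨i, _, e1, e2⟩
  have hnP : ¬ E' ≤ twoCent ↥S 1 := fun hle => hwZ (by
    have h1 := hle (show eS⁻¹ ∈ E' from E'.inv_mem e₀.2)
    rw [← hDeg (n - 4) (by omega) (by omega)] at h1
    have h2 := mem_twoCent.1 h1 tS ((hTmem tS).1 htT)
    rw [show n - 4 + 2 = n - 2 by omega] at h2
    rw [← commutatorElement_inv]
    exact inv_mem h2)
  have hM := hdich.resolve_left hnP
  have hne : twoCent ↥S (n - 3) ≠ twoCent ↥S 1 := fun e => hnP (e ▸ hM)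
  have hW3 : ∀ v : T, (v : Ω) ∈ E ↔ MaxClassFlag.incl S n v ∈ γ[n - 3] := by
    have heq : (γ[n - 3] : Subgroup ↥S).map S.subtype = W₀ := by
      haveI := finite_of_le (inf_le_right.trans hTS : W₀ ≤ S)
      refine eq_of_le_of_card_le (inf_le_right.trans hTS) (le_inf ?_ ?_) ?_
      · rintro _ ⟨q, hq, rfl⟩; exact hZ2E hM hq
      · exact Subgroup.map_mono (Subgroup.lowerCentralSeries_antitone _ (show n - 4 ≤ n - 3 by omega))
      · rw [hsup.2, Subgroup.card_map_of_injective S.subtype_injective, card_gamma h _ (by omega) (by omega),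
          show n - 1 - (n - 3) = 2 by omega]
    intro v
    have : (v : Ω) ∈ W₀ ↔ MaxClassFlag.incl S n v ∈ γ[n - 3] := by
      rw [← heq]; exact Subgroup.mem_map_iff_mem S.subtype_injective (x := MaxClassFlag.incl S n v)
    rw [← this]
    exact ⟨fun hv => ⟨hv, v.2⟩, fun hv => hv.1⟩
  set CT : Subgroup T := (C.map E.subtype).subgroupOf T with hCT
  have hCTcard : Nat.card CT ≤ p := by
    have hlt : C < W := lt_of_le_of_ne hCW fun e => by
      have h1 := hmeet 1 0 (by rw [pow_one, pow_zero, mul_one]; exact e ▸ hwW)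
      exact hp.out.one_lt.ne' (Nat.dvd_one.1 h1.1)
    have hle : C.map E.subtype ≤ T := by
      rintro _ ⟨c, hc, rfl⟩; exact hCW c hc
    rw [hCT, Nat.card_congr (Subgroup.subgroupOfEquivOfLe hle).toEquiv,
      Subgroup.card_map_of_injective E.subtype_injective]
    obtain ⟨r, hr⟩ := IsPGroup.iff_card.1 ((hS.to_le hES).to_subgroup C)
    have h1 := Cfsg.Lib.Fusion.card_lt_card_of_lt hlt
    rw [hr, hWcard] at h1
    rw [hr]
    have := (Nat.pow_lt_pow_iff_right hp.out.one_lt).1 h1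
    exact le_of_le_of_eq (Nat.pow_le_pow_right hp.out.pos (show r ≤ 1 by omega)) (pow_one p)
  refine MaxClassFlag.false_of_exceptional h hp2 hS h5 hF hne η hηA
    (fun v hv => (hW3 _).1 (hηE v ((hW3 v).2 hv)).1)
    (fun v => (hW3 _).1 (hηdisp v).1)
    wT (hιw ▸ hwlev) (hιw ▸ hwZ) CT hCTcard ?_ ?_
  · intro x hx
    obtain ⟨c, hc, hcx⟩ := hx
    refine Subtype.ext ?_
    have hxE : (x : Ω) ∈ E := by
      rw [show (x : Ω) = (c : Ω) from hcx.symm]
      exact c.2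
    refine (hηq x hxE).trans ?_
    rw [show (⟨(x : Ω), hxE⟩ : E) = c from Subtype.ext hcx.symm, hdc c hc]
    exact hcx
  · intro v hv
    obtain ⟨i, c, hc, e1, e2⟩ := hdecT v ((hW3 v).2 hv)
    exact ⟨i, _, ⟨c, hc, rfl⟩, e1, e2⟩

end Cfsg.Lib.FusionSys.MaxClassCube
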