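import Cfsg.Agent.Lib.FusionSys.MathieuAutSylow
import Cfsg.Agent.Lib.Concrete.LeechSimpleGroups

/-!
M22 inside the McLaughlin group, and the order of the latter.
-/

set_option autoImplicit false

namespace Cfsg.Lib.FusionSys.McL

open Cfsg Cfsg.Lib.Concrete MulAction

/-- The short vector `-(u + v)` completing the triangle. -/
noncomputable def wL : leechLattice := -(Spor.leechU + Spor.leechV)

theorem wL_coe : (wL : GolayPt → ℤ) = fun p => -(Spor.vecU p + Spor.vecV p) := rfl

theorem wL_norm : sqNorm (wL : GolayPt → ℤ) = 32 := by rw [wL_coe]; decide +kernel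

theorem wL_dot : dotInt ((Spor.leechU : leechLattice) : GolayPt → ℤ) (wL : GolayPt → ℤ) = -8 := by
  rw [wL_coe]
  show dotInt Spor.vecU _ = -8
  decide +kernel

theorem mem_McL_iff (g : Equiv.Perm leechLattice) :
    g ∈ Spor.McL ↔ g ∈ (stabilizer Co0 Spor.leechU ⊓ stabilizer Co0 wL).map Co0.subtype := by
  constructor
  · rintro ⟨⟨hg, hv⟩, hu⟩
    refine ⟨⟨g, hg⟩, ⟨hu, ?_⟩, rfl⟩
    show g wL = wL
    change g Spor.leechU = Spor.leechU at hu
    change g Spor.leechV = Spor.leechV at hv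
    have hneg := map_neg (AddMonoidHom.mk' (fun a => g a) hg.1) (Spor.leechU + Spor.leechV)
    have hadd := hg.1 Spor.leechU Spor.leechV
    rw [hu, hv] at hadd
    show g (-(Spor.leechU + Spor.leechV)) = _
    exact hneg.trans (by rw [AddMonoidHom.mk'_apply, hadd]; rfl)
  · rintro ⟨k, ⟨hu, hw⟩, rfl⟩
    refine ⟨⟨k.2, ?_⟩, hu⟩
    show (k : Equiv.Perm leechLattice) Spor.leechV = Spor.leechV
    change (k : Equiv.Perm leechLattice) Spor.leechU = Spor.leechU at hu
    change (k : Equiv.Perm leechLattice) wL = wL at hw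
    have h1 : Spor.leechV = -(wL + Spor.leechU) := by unfold wL; abel
    have hneg := map_neg (AddMonoidHom.mk' (fun a => (k : Equiv.Perm leechLattice) a) k.2.1) (wL + Spor.leechU)
    have hadd := k.2.1 wL Spor.leechU
    rw [hu, hw] at hadd
    rw [h1]
    exact hneg.trans (by rw [AddMonoidHom.mk'_apply, hadd])

theorem card_sporMcL : Nat.card Spor.McL = 898128000 := by
  rw [show Spor.McL = (stabilizer Co0 Spor.leechU ⊓ stabilizer Co0 wL).map Co0.subtype from
    Subgroup.ext mem_McL_iff, Subgroup.card_map_of_injective Co0.subtype_injective,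
    card_mcl _ _ leechU_norm' wL_norm wL_dot]

theorem permHom_mem_McL (σ : Spor.M22) :
    ((permHom ⟨σ.1, σ.2.1.1⟩ : Co0) : Equiv.Perm leechLattice) ∈ Spor.McL := by
  have h0 : σ.1 none = none := σ.2.1.2
  have h1 : σ.1 (some 0) = some 0 := σ.2.2
  refine ⟨⟨(permHom ⟨σ.1, σ.2.1.1⟩ : Co0).2, ?_⟩, ?_⟩
  · show permHom ⟨σ.1, σ.2.1.1⟩ • Spor.leechV = Spor.leechV
    refine (permHom_fix_iff _ _).2 fun p => ?_
    show (if σ.1 p = none then (-5 : ℤ) else -1) = if p = none then (-5 : ℤ) else -1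
    exact if_congr ⟨fun h => σ.1.injective (h.trans h0.symm), fun h => h ▸ h0⟩ rfl rfl
  · show permHom ⟨σ.1, σ.2.1.1⟩ • Spor.leechU = Spor.leechU
    refine (permHom_fix_iff _ _).2 fun p => ?_
    show (if σ.1 p = none ∨ σ.1 p = some 0 then (4 : ℤ) else 0) = if p = none ∨ p = some 0 then (4 : ℤ) else 0
    exact if_congr ⟨fun h => h.imp (fun h => σ.1.injective (h.trans h0.symm))
      (fun h => σ.1.injective (h.trans h1.symm)),
      fun h => h.imp (fun (h : p = none) => h ▸ h0) (fun (h : p = some 0) => h ▸ h1)⟩ rfl rfl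

/-- M22 inside the McLaughlin group. -/
noncomputable def emb : Spor.M22 →* Spor.McL :=
  MonoidHom.mk' (fun σ => ⟨_, permHom_mem_McL σ⟩) fun σ τ => Subtype.ext (by
    show ((permHom ⟨(σ * τ).1, (σ * τ).2.1.1⟩ : Co0) : Equiv.Perm leechLattice) = _
    rw [show (⟨(σ * τ).1, (σ * τ).2.1.1⟩ : M24) = ⟨σ.1, σ.2.1.1⟩ * ⟨τ.1, τ.2.1.1⟩ from rfl, map_mul]
    rfl)

theorem emb_injective : Function.Injective emb := fun σ τ h => by
  have h1 := permHom_injective (Subtype.ext (congrArg Subtype.val h :))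
  exact Subtype.ext (congrArg Subtype.val h1 :)

/-- The 2-fusion system of the McLaughlin group is simple. -/
theorem isSimple_fusion {G : Type*} [Group G] [Finite G] (hG : Spor.IsoMcL G) (S : Sylow 2 G) :
    (groupFusionSystem (S : Subgroup G)).IsSimple 2 := by
  obtain ⟨e⟩ := hG
  refine MathieuCert.isSimple_of_sporM22 (e.symm.toMonoidHom.comp emb) (e.symm.injective.comp emb_injective)
    (q := 7016625) ?_ (by decide) S
  rw [Nat.card_congr e.toEquiv, card_sporMcL]
  norm_num

end Cfsg.Lib.FusionSys.McL
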