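import Cfsg.Agent.Lib.FusionSys.GoodRestrict
import Cfsg.Agent.Lib.Fusion.Tate
import Cfsg.Agent.Lib.FusionSys.Factor

/-!
The automizers of the meet of two normal subsystems.
-/

set_option autoImplicit false
set_option linter.style.haveILetI false
set_option maxHeartbeats 800000

namespace Cfsg.Lib.FusionSys

open Cfsg Cfsg.FusionSystem
open scoped commutatorElement

variable {Ω : Type*} [Group Ω] {S T₁ T₂ : Subgroup Ω} {F : FusionSystem S} {E₁ : FusionSystem T₁}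
  {E₂ : FusionSystem T₂} {p : ℕ}

/-- The data of two normal subsystems. -/
structure MeetCtx (F : FusionSystem S) (E₁ : FusionSystem T₁) (E₂ : FusionSystem T₂) (p : ℕ) : Prop where
  pS : IsPGroup p S
  norm₁ : E₁.IsNormalIn F p
  norm₂ : E₂.IsNormalIn F p

namespace MeetCtx

variable (c : MeetCtx F E₁ E₂ p)
include c

theorem sat : F.IsSaturated p := c.norm₁.1.2.1

theorem sat₁ : E₁.IsSaturated p := c.norm₁.1.1

theorem sat₂ : E₂.IsSaturated p := c.norm₂.1.1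

theorem inv₁ : E₁.IsInvariantIn F := c.norm₁.1.2.2

theorem inv₂ : E₂.IsInvariantIn F := c.norm₂.1.2.2

theorem closed : F.StronglyClosed (T₁ ⊓ T₂) :=
  ⟨inf_le_left.trans c.inv₁.2.1.1, fun R hR φ hφ x => ⟨c.inv₁.2.1.2 R (hR.trans inf_le_left) φ hφ x,
    c.inv₂.2.1.2 R (hR.trans inf_le_right) φ hφ x⟩⟩

theorem closed₁ : E₁.StronglyClosed (T₁ ⊓ T₂) :=
  stronglyClosed_of_subsystem c.inv₁.1 c.closed inf_le_left

theorem closed₂ : E₂.StronglyClosed (T₁ ⊓ T₂) :=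
  stronglyClosed_of_subsystem c.inv₂.1 c.closed inf_le_right

/-- The automorphisms good in the system and in both subsystems. -/
noncomputable def hGood (Q : Subgroup Ω) : Subgroup (MulAut Q) :=
  goodIn F F c.closed Q ⊓ goodIn F E₁ c.closed₁ Q ⊓ goodIn F E₂ c.closed₂ Q

/-- The subgroup generated by the good automorphisms of order prime to `p`. -/
noncomputable def aGen (Q : Subgroup Ω) : Subgroup (MulAut Q) :=
  Subgroup.closure {a | a ∈ c.hGood Q ∧ (orderOf a).Coprime p}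

/-- The automizer of the meet. -/
noncomputable def kGen (Q : Subgroup Ω) : Subgroup (MulAut Q) :=
  Subgroup.closure ({a | a ∈ c.hGood Q ∧ (orderOf a).Coprime p} ∪
    {a | ∃ (Q'' : Subgroup Ω) (e : Q'' ≃* Q), IsoIn F e ∧ ∃ x ∈ autInducedBy (T₁ ⊓ T₂) Q'', MulAut.congr e x = a})

theorem congr_mem_hGood {Q R : Subgroup Ω} {e : Q ≃* R} (he : IsoIn F e) {a : MulAut Q} (ha : a ∈ c.hGood Q) :
    MulAut.congr e a ∈ c.hGood R :=
  ⟨⟨congr_mem_goodIn he ha.1.1, congr_mem_goodIn he ha.1.2⟩, congr_mem_goodIn he ha.2⟩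

theorem congr_mem_aGen {Q R : Subgroup Ω} {e : Q ≃* R} (he : IsoIn F e) {a : MulAut Q} (ha : a ∈ c.aGen Q) :
    MulAut.congr e a ∈ c.aGen R := by
  have h : (c.aGen Q).map (MulAut.congr e).toMonoidHom ≤ c.aGen R := by
    rw [aGen, MonoidHom.map_closure, Subgroup.closure_le]
    rintro _ ⟨a, ⟨ha, hcop⟩, rfl⟩
    exact Subgroup.subset_closure ⟨c.congr_mem_hGood he ha, by
      show (orderOf (MulAut.congr e a)).Coprime p
      rwa [MulEquiv.orderOf_eq]⟩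
  exact h ⟨a, ha, rfl⟩

theorem congr_mem_kGen {Q R : Subgroup Ω} {e : Q ≃* R} (he : IsoIn F e) {a : MulAut Q} (ha : a ∈ c.kGen Q) :
    MulAut.congr e a ∈ c.kGen R := by
  have h : (c.kGen Q).map (MulAut.congr e).toMonoidHom ≤ c.kGen R := by
    rw [kGen, MonoidHom.map_closure, Subgroup.closure_le]
    rintro _ ⟨a, ⟨ha, hcop⟩ | ⟨Q'', f, hf, x, hx, rfl⟩, rfl⟩
    · exact Subgroup.subset_closure (Or.inl ⟨c.congr_mem_hGood he ha, by
        show (orderOf (MulAut.congr e a)).Coprime p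
        rwa [MulEquiv.orderOf_eq]⟩)
    · exact Subgroup.subset_closure (Or.inr ⟨Q'', f.trans e, hf.trans he, x, hx,
        MulEquiv.ext fun y => by simp [MulAut.congr]⟩)
  exact h ⟨a, ha, rfl⟩

theorem aGen_le_hGood (Q : Subgroup Ω) : c.aGen Q ≤ c.hGood Q :=
  (Subgroup.closure_le _).2 fun _ h => h.1

theorem aGen_le_kGen (Q : Subgroup Ω) : c.aGen Q ≤ c.kGen Q :=
  Subgroup.closure_mono Set.subset_union_left

theorem autInducedBy_le_kGen {Q : Subgroup Ω} (hQ : Q ≤ S) : autInducedBy (T₁ ⊓ T₂) Q ≤ c.kGen Q :=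
  fun x hx => Subgroup.subset_closure (Or.inr ⟨Q, MulEquiv.refl Q, isoIn_refl F hQ, x, hx,
    MulEquiv.ext fun _ => rfl⟩)

variable [Finite S] [Fact p.Prime]

theorem hGood_le_autGroup {Q : Subgroup Ω} (hQ : Q ≤ T₁ ⊓ T₂) :
    c.hGood Q ≤ F.autGroup Q ⊓ E₁.autGroup Q ⊓ E₂.autGroup Q := fun _ h =>
  ⟨⟨goodIn_le_autGroup (isInvariantIn_self F) (hQ.trans c.closed.1) h.1.1,
    goodIn_le_autGroup c.inv₁ (hQ.trans inf_le_left) h.1.2⟩,
    goodIn_le_autGroup c.inv₂ (hQ.trans inf_le_right) h.2⟩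

theorem kGen_le_hGood {Q : Subgroup Ω} (hQ : Q ≤ T₁ ⊓ T₂) : c.kGen Q ≤ c.hGood Q := by
  refine (Subgroup.closure_le _).2 ?_
  rintro a (⟨ha, -⟩ | ⟨Q'', e, he, x, hx, rfl⟩)
  · exact ha
  have hQ'' : Q'' ≤ T₁ ⊓ T₂ := fun y hy => by
    have h := stronglyClosed_apply_mem c.closed he.symm (x := e ⟨y, hy⟩) (hQ (e ⟨y, hy⟩).2)
    simpa using h
  refine c.congr_mem_hGood he ?_
  obtain ⟨t, ht, hte⟩ := mem_autInducedBy.1 hx
  have hn := mem_normalizer_of_aut hte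
  rw [show x = conjAut Q'' hn from MulEquiv.ext fun y => Subtype.ext (hte y)]
  exact ⟨⟨conjAut_mem_goodIn c.pS c.sat (isInvariantIn_self F) c.closed (hQ''.trans c.closed.1) ht hn,
    conjAut_mem_goodIn c.pS c.sat₁ c.inv₁ c.closed (hQ''.trans inf_le_left) ht hn⟩,
    conjAut_mem_goodIn c.pS c.sat₂ c.inv₂ c.closed (hQ''.trans inf_le_right) ht hn⟩

theorem kGen_le_autGroup {Q : Subgroup Ω} (hQ : Q ≤ T₁ ⊓ T₂) : c.kGen Q ≤ F.autGroup Q :=
  fun _ h => (c.hGood_le_autGroup hQ (c.kGen_le_hGood hQ h)).1.1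

/-- A `p`-element of the automizer in a subsystem induced by `S` is induced by its subgroup. -/
theorem mem_autInducedBy_sub {T : Subgroup Ω} {E : FusionSystem T} (hEs : E.IsSaturated p)
    (hEi : E.IsInvariantIn F) {Q : Subgroup Ω} (hQT : Q ≤ T) (hQ : F.IsFullyNormalized Q) {x : MulAut Q}
    (hx : x ∈ E.autGroup Q) (hxS : x ∈ autInducedBy S Q) : x ∈ autInducedBy T Q := by
  have hTS := hEi.2.1.1
  haveI := finite_of_le hTS
  haveI := finite_of_le hQT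
  haveI : Finite (MulAut Q) := Finite.of_injective (fun f => (f : Q → Q)) DFunLike.coe_injective
  obtain ⟨-, -, R, hR⟩ := isFullyAutomized_and_fc_of_fn (c.pS.to_le hTS) hEs
    (isFullyNormalized_of_invariant c.pS c.sat hEi.1 hEi.2.1 hQT hQ)
  let X : Subgroup (E.autGroup Q) := (autInducedBy S Q).subgroupOf (E.autGroup Q)
  have hX : IsPGroup p X := fun g => by
    obtain ⟨k, hk⟩ := isPGroup_autInducedBy (P := Q) c.pS ⟨_, g.2⟩
    exact ⟨k, Subtype.ext (Subtype.ext (congrArg Subtype.val hk :))⟩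
  have hle : (R : Subgroup (E.autGroup Q)) ≤ X := by
    rw [hR]
    exact fun a ha => autInducedBy_mono hTS ha
  have h := R.3 hX hle
  have h2 : (⟨x, hx⟩ : E.autGroup Q) ∈ (R : Subgroup (E.autGroup Q)) := h ▸ hxS
  rwa [hR, Subgroup.mem_subgroupOf] at h2

theorem aGen_inf_le_aux {Q : Subgroup Ω} (hQc : UCentric F (T₁ ⊓ T₂) Q) (hQ : F.IsFullyNormalized Q)
    (hW : F.IsFullyNormalized (Q ⊔ centralizerIn S Q)) :
    c.aGen Q ⊓ autInducedBy S Q ≤ autInducedBy (T₁ ⊓ T₂) Q := by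
  classical
  have hS := c.pS
  have hQS := hQ.1
  have hQU := hQc.1
  haveI := finite_of_le hQS
  haveI : Finite (MulAut Q) := Finite.of_injective (fun f => (f : Q → Q)) DFunLike.coe_injective
  obtain ⟨hfc, -, R, hR⟩ := isFullyAutomized_and_fc_of_fn hS c.sat hQ
  set W := Q ⊔ centralizerIn S Q with hWdef
  have hWS : W ≤ S := hW.1
  haveI := finite_of_le hWS
  haveI : Finite (MulAut W) := Finite.of_injective (fun f => (f : W → W)) DFunLike.coe_injective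
  obtain ⟨hWfc, -, RW, hRW⟩ := isFullyAutomized_and_fc_of_fn hS c.sat hW
  have hWrec := isReceptive_of_fc hS c.sat hWfc
  let H : Subgroup (F.autGroup Q) := (c.hGood Q).subgroupOf (F.autGroup Q)
  haveI : H.Normal := ⟨fun a ha g => c.congr_mem_hGood ((mem_autGroup hQS).1 g.2) ha⟩
  obtain ⟨RH, hRH⟩ := exists_sylow_of_normal R H
  -- a conjugate of an induced automorphism
  have key : ∀ (x₀ : MulAut Q), x₀ ∈ c.hGood Q → x₀ ∈ autInducedBy S Q → ∀ u ∈ c.hGood Q,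
      u * x₀ * u⁻¹ ∈ autInducedBy S Q → x₀⁻¹ * (u * x₀ * u⁻¹) ∈ autInducedBy (T₁ ⊓ T₂) Q := by
    intro x₀ hx hxS u hu hyS
    set y := u * x₀ * u⁻¹ with hy
    have hy' : y ∈ c.hGood Q := mul_mem (mul_mem hu hx) (inv_mem hu)
    have hxE := c.hGood_le_autGroup hQU hx
    have hyE := c.hGood_le_autGroup hQU hy'
    obtain ⟨t₁, ht₁, hte₁⟩ := mem_autInducedBy.1
      (c.mem_autInducedBy_sub c.sat₁ c.inv₁ (hQU.trans inf_le_left) hQ hxE.1.2 hxS)
    obtain ⟨t₂, ht₂, hte₂⟩ := mem_autInducedBy.1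
      (c.mem_autInducedBy_sub c.sat₂ c.inv₂ (hQU.trans inf_le_right) hQ hxE.2 hxS)
    obtain ⟨s₁, hs₁, hse₁⟩ := mem_autInducedBy.1
      (c.mem_autInducedBy_sub c.sat₁ c.inv₁ (hQU.trans inf_le_left) hQ hyE.1.2 hyS)
    obtain ⟨s₂, hs₂, hse₂⟩ := mem_autInducedBy.1
      (c.mem_autInducedBy_sub c.sat₂ c.inv₂ (hQU.trans inf_le_right) hQ hyE.2 hyS)
    have ht₁S := c.inv₁.2.1.1 ht₁
    have ht₂S := c.inv₂.2.1.1 ht₂
    have hs₁S := c.inv₁.2.1.1 hs₁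
    have hs₂S := c.inv₂.2.1.1 hs₂
    have hdiff : ∀ (a b : Ω) (x : MulAut Q), a ∈ S → b ∈ S → (∀ q : Q, (x q : Ω) = a * q * a⁻¹) →
        (∀ q : Q, (x q : Ω) = b * q * b⁻¹) → a⁻¹ * b ∈ centralizerIn S Q := by
      intro a b x ha hb he he'
      refine mem_centralizerIn.2 ⟨S.mul_mem (S.inv_mem ha) hb, fun q hq => ?_⟩
      have h := (he ⟨q, hq⟩).symm.trans (he' ⟨q, hq⟩)
      change a * q * a⁻¹ = b * q * b⁻¹ at h
      calc a⁻¹ * b * q = a⁻¹ * (b * q * b⁻¹) * b := by group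
        _ = q * (a⁻¹ * b) := by rw [← h]; group
    have hc₀ := hdiff t₂ t₁ x₀ ht₂S ht₁S hte₂ hte₁
    have hc₁ := hdiff s₂ s₁ y hs₂S hs₁S hse₂ hse₁
    set c₀ := t₂⁻¹ * t₁ with hc₀def
    set c₁ := s₂⁻¹ * s₁ with hc₁def
    have hnW : ∀ g ∈ S, g ∈ Subgroup.normalizer (Q : Set Ω) → g ∈ Subgroup.normalizer (W : Set Ω) := by
      intro g hgS hgQ
      refine normalizer_inf_le ⟨hgQ, Subgroup.mem_normalizer_iff.2 fun z => ?_⟩
      have k : ∀ g ∈ S, g ∈ Subgroup.normalizer (Q : Set Ω) → ∀ z ∈ centralizerIn S Q,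
          g * z * g⁻¹ ∈ centralizerIn S Q := by
        intro g hgS hgQ z hz
        refine mem_centralizerIn.2 ⟨S.mul_mem (S.mul_mem hgS (centralizerIn_le Q hz)) (S.inv_mem hgS),
          fun q hq => ?_⟩
        have h1 := (mem_centralizerIn.1 hz).2 _ ((Subgroup.mem_normalizer_iff''.1 hgQ q).1 hq)
        calc g * z * g⁻¹ * q = g * (z * (g⁻¹ * q * g)) * g⁻¹ := by group
          _ = g * (g⁻¹ * q * g * z) * g⁻¹ := by rw [h1]
          _ = q * (g * z * g⁻¹) := by group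
      refine ⟨k g hgS hgQ z, fun h => ?_⟩
      have := k g⁻¹ (S.inv_mem hgS) (inv_mem hgQ) _ h
      simpa [mul_assoc] using this
    have ht₁W := hnW t₁ ht₁S (mem_normalizer_of_aut hte₁)
    have hs₁W := hnW s₁ hs₁S (mem_normalizer_of_aut hse₁)
    have hugood : u ∈ goodAut c.closed Q hfc.1 := by
      have h := hu.1.1
      rwa [goodIn_eq hS c.sat (isInvariantIn_self F) c.closed hfc] at h
    obtain ⟨ψ₀, hψ₀, hψe⟩ := hugood
    set γ : MulAut W := ψ₀ * conjAut W ht₁W * ψ₀⁻¹ with hγdef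
    set cs : MulAut W := conjAut W hs₁W with hcs
    have hγF : γ ∈ F.autGroup W := mul_mem (mul_mem hψ₀.1.1
      (autInducedBy_le_autGroup hWS (conjAut_mem_autInducedBy _ ht₁S))) (inv_mem hψ₀.1.1)
    have hcsF : cs ∈ F.autGroup W := autInducedBy_le_autGroup hWS (conjAut_mem_autInducedBy _ hs₁S)
    have hγQ : ∀ q : W, (q : Ω) ∈ Q → (γ q : Ω) = (cs q : Ω) := by
      intro q hq
      let q' : Q := ⟨q, hq⟩
      have hpre : ψ₀⁻¹ q = Subgroup.inclusion le_sup_left (u⁻¹ q') := by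
        have h : ψ₀ (Subgroup.inclusion le_sup_left (u⁻¹ q')) = q :=
          Subtype.ext ((hψe _).trans (congrArg Subtype.val (MulAut.apply_inv_self _ u q')))
        conv_lhs => rw [← h]
        exact MulAut.inv_apply_self _ _ _
      rw [hγdef, MulAut.mul_apply, MulAut.mul_apply, hpre,
        show conjAut W ht₁W (Subgroup.inclusion le_sup_left (u⁻¹ q')) =
          Subgroup.inclusion le_sup_left (x₀ (u⁻¹ q')) from Subtype.ext (hte₁ _).symm, hψe]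
      exact hse₁ q'
    -- modulo either factor
    have hj₁ : NearMod T₁ 1 (cs⁻¹ * γ) := by
      haveI : (T₁.subgroupOf S).Normal :=
        Subgroup.normal_subgroupOf_of_le_normalizer (stronglyClosed_le_normalizer c.inv₁.2.1)
      let π : S →* S ⧸ T₁.subgroupOf S := QuotientGroup.mk' _
      intro x
      rw [one_mul, inv_one, mul_one, MulAut.mul_apply]
      set w := cs⁻¹ (γ x)
      have hw : cs w = γ x := MulAut.apply_inv_self _ _ _
      have e1 : π (Subgroup.inclusion hWS w) = π (Subgroup.inclusion hWS (γ x)) := by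
        rw [← hw, show Subgroup.inclusion hWS (cs w) = ⟨s₁, hs₁S⟩ * Subgroup.inclusion hWS w * ⟨s₁, hs₁S⟩⁻¹ from
          Subtype.ext rfl, map_mul, map_mul, map_inv, show π ⟨s₁, hs₁S⟩ = 1 from (QuotientGroup.eq_one_iff _).2 hs₁,
          one_mul, inv_one, mul_one]
      have hconj : ∀ z : W, ((z⁻¹ * conjAut W ht₁W z : W) : Ω) ∈ T₁ := fun z => by
        show (z : Ω)⁻¹ * (t₁ * z * t₁⁻¹) ∈ T₁
        rw [show (z : Ω)⁻¹ * (t₁ * z * t₁⁻¹) = ((z : Ω)⁻¹ * t₁ * z) * t₁⁻¹ by group]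
        have h := stronglyClosed_conj_mem c.inv₁.2.1 (S.inv_mem (hWS z.2)) ht₁
        rw [inv_inv] at h
        exact T₁.mul_mem h (T₁.inv_mem ht₁)
      have e2 : π (Subgroup.inclusion hWS (γ x)) = π (Subgroup.inclusion hWS x) := by
        set z := ψ₀⁻¹ x with hz
        have h1 := stronglyClosed_aut_mem c.inv₁.2.1 hψ₀.1.1 hWS (hconj z)
        rw [show γ x = ψ₀ z * ψ₀ (z⁻¹ * conjAut W ht₁W z) by
          rw [← map_mul, mul_inv_cancel_left, hz]; rfl, map_mul, map_mul,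
          show π (Subgroup.inclusion hWS (ψ₀ (z⁻¹ * conjAut W ht₁W z))) = 1 from (QuotientGroup.eq_one_iff _).2 h1,
          mul_one, hz, MulAut.apply_inv_self]
      exact (QuotientGroup.eq (s := T₁.subgroupOf S)).1 (e1.trans e2).symm
    have hc₀W : c₀ ∈ W := Subgroup.mem_sup_right hc₀
    have hc₁W : c₁ ∈ W := Subgroup.mem_sup_right hc₁
    have hj₂ : NearMod T₂ ((⟨c₁, hc₁W⟩ : W)⁻¹ * ⟨c₀, hc₀W⟩) (cs⁻¹ * γ) := by
      haveI : (T₂.subgroupOf S).Normal :=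
        Subgroup.normal_subgroupOf_of_le_normalizer (stronglyClosed_le_normalizer c.inv₂.2.1)
      let π : S →* S ⧸ T₂.subgroupOf S := QuotientGroup.mk' _
      let πW : W →* S ⧸ T₂.subgroupOf S := π.comp (Subgroup.inclusion hWS)
      intro x
      rw [MulAut.mul_apply]
      set w := cs⁻¹ (γ x)
      have hw : cs w = γ x := MulAut.apply_inv_self _ _ _
      have et : π ⟨t₁, ht₁S⟩ = πW ⟨c₀, hc₀W⟩ :=
        (QuotientGroup.eq.2 (show ((⟨c₀, hWS hc₀W⟩ : S)⁻¹ * ⟨t₁, ht₁S⟩ : S) ∈ T₂.subgroupOf S from by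
          show (t₂⁻¹ * t₁)⁻¹ * t₁ ∈ T₂
          rw [show (t₂⁻¹ * t₁)⁻¹ * t₁ = t₁⁻¹ * t₂ * t₁⁻¹⁻¹ by group]
          exact stronglyClosed_conj_mem c.inv₂.2.1 (S.inv_mem ht₁S) ht₂)).symm
      have es : π ⟨s₁, hs₁S⟩ = πW ⟨c₁, hc₁W⟩ :=
        (QuotientGroup.eq.2 (show ((⟨c₁, hWS hc₁W⟩ : S)⁻¹ * ⟨s₁, hs₁S⟩ : S) ∈ T₂.subgroupOf S from by
          show c₁⁻¹ * s₁ ∈ T₂
          rw [hc₁def, show (s₂⁻¹ * s₁)⁻¹ * s₁ = s₁⁻¹ * s₂ * s₁⁻¹⁻¹ by group]
          exact stronglyClosed_conj_mem c.inv₂.2.1 (S.inv_mem hs₁S) hs₂)).symm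
      have hψπ : πW (ψ₀ ⟨c₀, hc₀W⟩) = πW ⟨c₀, hc₀W⟩ :=
        (QuotientGroup.eq.2 (show (((⟨c₀, hWS hc₀W⟩ : S))⁻¹ * ⟨_, hWS (ψ₀ ⟨c₀, hc₀W⟩).2⟩ : S) ∈
          T₂.subgroupOf S from (hψ₀.2 ⟨c₀, hc₀W⟩ hc₀).2)).symm
      have e1 : πW (γ x) = πW ⟨c₁, hc₁W⟩ * πW w * (πW ⟨c₁, hc₁W⟩)⁻¹ := by
        rw [← hw, ← es, ← map_inv]
        show _ = π _ * π (Subgroup.inclusion hWS w) * π _
        rw [← map_mul, ← map_mul]
        exact congrArg π (Subtype.ext rfl)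
      have e2 : πW (γ x) = πW ⟨c₀, hc₀W⟩ * πW x * (πW ⟨c₀, hc₀W⟩)⁻¹ := by
        set z := ψ₀⁻¹ x with hz
        have h0 : πW (conjAut W ht₁W z) = πW (⟨c₀, hc₀W⟩ * z * ⟨c₀, hc₀W⟩⁻¹) := by
          rw [map_mul, map_mul, map_inv, ← et, ← map_inv]
          show _ = π _ * π (Subgroup.inclusion hWS z) * π _
          rw [← map_mul, ← map_mul]
          exact congrArg π (Subtype.ext rfl)
        have h1 : πW (ψ₀ (conjAut W ht₁W z)) = πW (ψ₀ (⟨c₀, hc₀W⟩ * z * ⟨c₀, hc₀W⟩⁻¹)) := by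
          have hd : ((((conjAut W ht₁W z)⁻¹ * (⟨c₀, hc₀W⟩ * z * ⟨c₀, hc₀W⟩⁻¹) : W)) : Ω) ∈ T₂ := by
            have := QuotientGroup.eq.1 h0
            exact this
          have h2 := stronglyClosed_aut_mem c.inv₂.2.1 hψ₀.1.1 hWS hd
          refine QuotientGroup.eq.2 ?_
          rw [map_mul, map_inv] at h2
          exact h2
        show πW (ψ₀ (conjAut W ht₁W z)) = _
        rw [h1, map_mul, map_mul, map_mul, map_mul, map_inv, map_inv, hψπ, hz, MulAut.apply_inv_self]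
      suffices h : πW ((⟨c₁, hc₁W⟩ : W)⁻¹ * ⟨c₀, hc₀W⟩ * x * ((⟨c₁, hc₁W⟩ : W)⁻¹ * ⟨c₀, hc₀W⟩)⁻¹) = πW w from
        (show (Subgroup.inclusion hWS ((⟨c₁, hc₁W⟩ : W)⁻¹ * ⟨c₀, hc₀W⟩ * x *
          ((⟨c₁, hc₁W⟩ : W)⁻¹ * ⟨c₀, hc₀W⟩)⁻¹))⁻¹ * Subgroup.inclusion hWS w ∈ T₂.subgroupOf S from
          QuotientGroup.eq.1 h)
      rw [map_mul, map_mul, map_inv, map_mul, map_inv]
      have h3 := e1.symm.trans e2
      calc (πW ⟨c₁, hc₁W⟩)⁻¹ * πW ⟨c₀, hc₀W⟩ * πW x * ((πW ⟨c₁, hc₁W⟩)⁻¹ * πW ⟨c₀, hc₀W⟩)⁻¹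
          = (πW ⟨c₁, hc₁W⟩)⁻¹ * (πW ⟨c₀, hc₀W⟩ * πW x * (πW ⟨c₀, hc₀W⟩)⁻¹) * πW ⟨c₁, hc₁W⟩ := by group
        _ = πW w := by rw [← h3]; group
    let j : F.autGroup W := ⟨cs⁻¹ * γ, mul_mem (inv_mem hcsF) hγF⟩
    have hj : j ∈ nearAut c.inv₁.2.1 c.inv₂.2.1 hWS := by
      refine mem_nearAut.2 ⟨fun q hq => ?_, ⟨_, hj₁⟩, ⟨_, hj₂⟩⟩
      have hqQ : (q : Ω) ∈ Q := by
        obtain ⟨a, ha, b, hb, he⟩ := exists_mul_of_mem_sup_centralizer q.2
        rw [he]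
        refine Q.mul_mem ha (hQc.self c.closed (mem_centralizerIn.2 ⟨?_, (mem_centralizerIn.1 hb).2⟩))
        have := (T₁ ⊓ T₂).mul_mem ((T₁ ⊓ T₂).inv_mem (hQU ha)) hq
        rwa [he, inv_mul_cancel_left] at this
      show (cs⁻¹ * γ) q = q
      rw [MulAut.mul_apply, show γ q = cs q from Subtype.ext (hγQ q hqQ), MulAut.inv_apply_self]
    have hjR := (nearAut_le_sylow hS c.inv₁.2.1 c.inv₂.2.1 hWS RW).2 hj
    have hγS : γ ∈ autInducedBy S W := by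
      have hcR : (⟨cs, hcsF⟩ : F.autGroup W) ∈ (RW : Subgroup (F.autGroup W)) := by
        rw [hRW]; exact conjAut_mem_autInducedBy _ hs₁S
      have := mul_mem hcR hjR
      rw [show (⟨cs, hcsF⟩ : F.autGroup W) * j = ⟨γ, hγF⟩ from Subtype.ext (mul_inv_cancel_left _ _),
        hRW] at this
      exact this
    obtain ⟨s, hs, hse⟩ := mem_autInducedBy.1 hγS
    have hψhom : W.subtype.comp ψ₀.toMonoidHom ∈ F.Hom W := (mem_autGroup hWS).1 hψ₀.1.1
    have hψr : (W.subtype.comp ψ₀.toMonoidHom).range = W := by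
      ext z
      exact ⟨fun ⟨x, hx⟩ => hx ▸ (ψ₀ x).2, fun hz => ⟨ψ₀⁻¹ ⟨z, hz⟩, by simp⟩⟩
    obtain ⟨ε, hε, hεe⟩ := hWrec.2 W _ hψhom hψr
    let N := extender S W (W.subtype.comp ψ₀.toMonoidHom)
    have ht₁N : t₁ ∈ N := mem_extender_of ht₁S ht₁W hs fun x hx => by
      show ((ψ₀ ⟨t₁ * (x : Ω) * t₁⁻¹, hx⟩ : W) : Ω) = s * ((ψ₀ x : W) : Ω) * s⁻¹
      rw [← hse (ψ₀ x), hγdef, MulAut.mul_apply, MulAut.mul_apply, MulAut.inv_apply_self]
      exact congrArg (fun z : W => ((ψ₀ z : W) : Ω)) (Subtype.ext rfl)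
    have hWN : W ≤ N := le_extender hWS (hom_mem hψhom)
    set τ : N := ⟨t₁, ht₁N⟩
    set d := t₁⁻¹ * ε τ with hd
    have hdT₁ : d ∈ T₁ := T₁.mul_mem (T₁.inv_mem ht₁) (stronglyClosed_apply_mem c.inv₁.2.1 hε (x := τ) ht₁)
    have hdT₂ : d ∈ T₂ := by
      set τ₂ : N := τ * (⟨c₀, hWN hc₀W⟩ : N)⁻¹
      have hτ₂ : (τ₂ : Ω) = t₂ := by
        show t₁ * c₀⁻¹ = t₂
        rw [hc₀def]; group
      have h1 := stronglyClosed_apply_mem c.inv₂.2.1 hε (x := τ₂) (hτ₂.symm ▸ ht₂)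
      have h2 : ε τ = ε τ₂ * ε ⟨c₀, hWN hc₀W⟩ := by rw [← map_mul, inv_mul_cancel_right]
      have h3 := (hψ₀.2 ⟨c₀, hc₀W⟩ hc₀).2
      have e3 : ε ⟨c₀, hWN hc₀W⟩ = ((ψ₀ ⟨c₀, hc₀W⟩ : W) : Ω) := hεe c₀ hc₀W (hWN hc₀W)
      rw [← e3] at h3
      have alg : ∀ A B C D : Ω, (B * D)⁻¹ * (A * C) = D⁻¹ * (B⁻¹ * A) * D⁻¹⁻¹ * (D⁻¹ * C) :=
        fun _ _ _ _ => by group
      have e4 := alg (ε τ₂) t₂ (ε ⟨c₀, hWN hc₀W⟩) c₀
      rw [show t₂ * c₀ = t₁ from mul_inv_cancel_left _ _] at e4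
      rw [hd, h2, e4]
      exact T₂.mul_mem (stronglyClosed_conj_mem c.inv₂.2.1 (S.inv_mem (hWS hc₀W))
        (T₂.mul_mem (T₂.inv_mem ht₂) h1)) h3
    refine mem_autInducedBy.2 ⟨d, ⟨hdT₁, hdT₂⟩, fun q => ?_⟩
    have hyq : (y q : Ω) = ε τ * q * (ε τ)⁻¹ := by
      have hu' : ∀ r : Q, ε ⟨r, hWN (Subgroup.mem_sup_left r.2)⟩ = (u r : Ω) := fun r =>
        (hεe r (Subgroup.mem_sup_left r.2) _).trans (hψe r)
      rw [hy, MulAut.mul_apply, MulAut.mul_apply, ← hu' (x₀ (u⁻¹ q))]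
      rw [show (⟨((x₀ (u⁻¹ q) : Q) : Ω), _⟩ : N) =
        τ * ⟨_, hWN (Subgroup.mem_sup_left (u⁻¹ q).2)⟩ * τ⁻¹ from Subtype.ext (hte₁ _), map_mul, map_mul,
        map_inv, hu', MulAut.apply_inv_self]
    have hinv : ∀ r : Q, ((x₀⁻¹ r : Q) : Ω) = t₁⁻¹ * r * t₁ := fun r => by
      have h := hte₁ (x₀⁻¹ r)
      rw [MulAut.apply_inv_self] at h
      rw [h]; group
    rw [MulAut.mul_apply, hinv, hyq, hd]
    group
  -- the focal subgroup
  intro a ha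
  have hsub : c.aGen Q ≤ (pResidual p H).map ((F.autGroup Q).subtype.comp H.subtype) := by
    refine (Subgroup.closure_le _).2 fun b hb => ?_
    refine ⟨⟨⟨b, (c.hGood_le_autGroup hQU hb.1).1.1⟩, hb.1⟩, Subgroup.subset_closure ?_, rfl⟩
    show (orderOf _).Coprime p
    rw [← Subgroup.orderOf_coe, ← Subgroup.orderOf_coe]
    exact hb.2
  obtain ⟨b, hb, rfl⟩ := hsub ha.1
  have hbR : b ∈ (RH : Subgroup H) := by
    rw [hRH, Subgroup.mem_subgroupOf, hR]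
    exact ha.2
  have hfoc := Cfsg.Lib.Fusion.pResidual_inf_le_focal RH ⟨hb, hbR⟩
  refine (?_ : (RH : Subgroup H).focalSubgroup ≤
    (autInducedBy (T₁ ⊓ T₂) Q).comap ((F.autGroup Q).subtype.comp H.subtype)) hfoc
  rw [Subgroup.focalSubgroup_def, Subgroup.closure_le]
  rintro z ⟨hxu, x, hx, u, rfl⟩
  have hmem : ∀ w : H, w ∈ (RH : Subgroup H) → ((w : F.autGroup Q) : MulAut Q) ∈ autInducedBy S Q := fun w hw => by
    rwa [hRH, Subgroup.mem_subgroupOf, hR] at hw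
  have hux : u * x⁻¹ * u⁻¹ ∈ (RH : Subgroup H) := by
    have := mul_mem (inv_mem hx) hxu
    rwa [show x⁻¹ * ⁅x, u⁆ = u * x⁻¹ * u⁻¹ by rw [commutatorElement_def]; group] at this
  have h := key _ (inv_mem x.2) (hmem x⁻¹ (inv_mem hx)) _ u.2 (hmem _ hux)
  refine Subgroup.mem_comap.2 ?_
  show (((⁅x, u⁆ : H) : F.autGroup Q) : MulAut Q) ∈ _
  rw [show (⁅x, u⁆ : H) = (x⁻¹)⁻¹ * (u * x⁻¹ * u⁻¹) by rw [commutatorElement_def]; group]
  exact h

/-- Induced good automorphisms of order generated prime to `p` come from the meet. -/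
theorem aGen_inf_le {Q : Subgroup Ω} (hQc : UCentric F (T₁ ⊓ T₂) Q) (hQ : F.IsFullyNormalized Q) :
    c.aGen Q ⊓ autInducedBy S Q ≤ autInducedBy (T₁ ⊓ T₂) Q := by
  obtain ⟨μ, hμ, hμv, hQ₁, hW⟩ := exists_fn_pos c.pS c.sat hQ.1
  have hQN : Q ≤ normalizerIn S Q := le_normalizerIn hQ.1
  set Q₁ := img μ hQN
  set g := homIso (restrict_mem hμ hQN) (rfl : _ = Q₁) with hg
  have hgF : IsoIn F g := isoIn_homIso _ rfl
  rintro a ⟨ha, haS⟩
  obtain ⟨s, hs, hse⟩ := mem_autInducedBy.1 haS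
  have hsN : s ∈ normalizerIn S Q := ⟨hs, mem_normalizer_of_aut hse⟩
  have hval : ∀ (r : Ω) (hr : r ∈ normalizerIn S Q) (x : Q) (hx : r * (x : Ω) * r⁻¹ ∈ Q),
      μ ⟨r, hr⟩ * (g x : Ω) * (μ ⟨r, hr⟩)⁻¹ = (g ⟨_, hx⟩ : Ω) := by
    intro r hr x hx
    show μ ⟨r, hr⟩ * μ (Subgroup.inclusion hQN x) * (μ ⟨r, hr⟩)⁻¹ = μ (Subgroup.inclusion hQN ⟨_, hx⟩)
    rw [← map_inv, ← map_mul, ← map_mul]
    exact congrArg μ (Subtype.ext rfl)
  have ha₁ : MulAut.congr g a ∈ autInducedBy S Q₁ := by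
    refine mem_autInducedBy.2 ⟨μ ⟨s, hsN⟩, hom_mem hμ _, fun y => ?_⟩
    obtain ⟨x, rfl⟩ := g.surjective y
    rw [show MulAut.congr g a (g x) = g (a x) by simp [MulAut.congr], hval s hsN x (hse x ▸ (a x).2)]
    exact congrArg (fun z : Q => (g z : Ω)) (Subtype.ext (hse x))
  obtain ⟨v, hv, hve⟩ := mem_autInducedBy.1
    (c.aGen_inf_le_aux (hQc.of_conj c.closed (isConj_iff.2 ⟨g, hgF⟩)) hQ₁ hW ⟨c.congr_mem_aGen hgF ha, ha₁⟩)
  have hr := range_eq_normalizerIn hQ (isConj_iff.2 ⟨g, hgF⟩) hμ hμv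
  obtain ⟨v₀, hv₀⟩ := hr.ge ⟨c.closed.1 hv, mem_normalizer_of_aut hve⟩
  have hv₀U : (v₀ : Ω) ∈ T₁ ⊓ T₂ := by
    obtain ⟨ρ, hρ, hρe⟩ := F.inv_mem hμ
    have h := stronglyClosed_apply_mem c.closed hρ (x := ⟨μ v₀, v₀, rfl⟩) (hv₀.symm ▸ hv)
    rwa [hρe] at h
  refine mem_autInducedBy.2 ⟨v₀, hv₀U, fun x => ?_⟩
  have hx : (v₀ : Ω) * x * (v₀ : Ω)⁻¹ ∈ Q := (Subgroup.mem_normalizer_iff.1 v₀.2.2 x).1 x.2
  have h1 := hve (g x)
  rw [show MulAut.congr g a (g x) = g (a x) by simp [MulAut.congr], ← hv₀, hval v₀ v₀.2 x hx] at h1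
  exact congrArg Subtype.val (g.injective (Subtype.ext h1) : a x = ⟨_, hx⟩)

/-- A conjugation in the automizer fixing `Q` is induced by `Q`. -/
theorem conjAut_aGen_cent {Q M : Subgroup Ω} (hQ : UCentric F (T₁ ⊓ T₂) Q) (hQM : Q ≤ M) (hMU : M ≤ T₁ ⊓ T₂)
    {x : Ω} (hx : x ∈ centralizerIn S Q) (hn : x ∈ Subgroup.normalizer (M : Set Ω))
    (hA : conjAut M hn ∈ c.aGen M) : ∃ z ∈ Q, ∀ y ∈ M, z⁻¹ * x * y = y * (z⁻¹ * x) := by
  have hMS : M ≤ S := hMU.trans c.closed.1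
  obtain ⟨M', hMM', hM'⟩ := exists_isFullyNormalized F hMS
  obtain ⟨hfc, hfa⟩ := isFullyAutomized_and_fc_of_fn c.pS c.sat hM'
  obtain ⟨μ, hμ, hμv, hμM⟩ := exists_normalizer_map c.pS hfa (isReceptive_of_fc c.pS c.sat hfc) hMM'
  have hMN : M ≤ normalizerIn S M := le_normalizerIn hMS
  have himg : img μ hMN = M' := by
    rw [← hμM]
    ext y
    exact ⟨fun ⟨z, hz⟩ => ⟨Subgroup.inclusion hMN z, z.2, hz⟩, fun ⟨z, hz, hzy⟩ => ⟨⟨(z : Ω), hz⟩, hzy⟩⟩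
  set g := homIso (restrict_mem hμ hMN) himg with hg
  have hgF : IsoIn F g := isoIn_homIso _ himg
  have hQN : Q ≤ normalizerIn S M := hQM.trans hMN
  set Q' := img μ hQN with hQ'
  have hQ'c : UCentric F (T₁ ⊓ T₂) Q' := hQ.of_conj c.closed ⟨_, restrict_mem hμ hQN, rfl⟩
  have hM'c : UCentric F (T₁ ⊓ T₂) M' :=
    (hQ.mono hQM hMU).of_conj c.closed (isConj_iff.2 ⟨g, hgF⟩)
  let x' : normalizerIn S M := ⟨x, centralizerIn_le Q hx, hn⟩
  have hxS : MulAut.congr g (conjAut M hn) = conjAut M' (hμv x').2 := by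
    refine MulEquiv.ext fun y => Subtype.ext ?_
    obtain ⟨w, rfl⟩ := g.surjective y
    rw [show MulAut.congr g (conjAut M hn) (g w) = g (conjAut M hn w) by simp [MulAut.congr], coe_conjAut]
    show μ (Subgroup.inclusion hMN (conjAut M hn w)) = μ x' * μ (Subgroup.inclusion hMN w) * (μ x')⁻¹
    rw [← map_inv, ← map_mul, ← map_mul]
    exact congrArg μ (Subtype.ext rfl)
  have h := c.aGen_inf_le hM'c hM' ⟨c.congr_mem_aGen hgF hA,
    hxS ▸ conjAut_mem_autInducedBy _ (hμv x').1⟩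
  obtain ⟨t, ht, hte⟩ := mem_autInducedBy.1 h
  have hd : ∀ y ∈ M', t⁻¹ * μ x' * y = y * (t⁻¹ * μ x') := by
    intro y hy
    have h1 := hte ⟨y, hy⟩
    rw [hxS, coe_conjAut] at h1
    calc t⁻¹ * μ x' * y = t⁻¹ * (μ x' * y * (μ x')⁻¹) * μ x' := by group
      _ = y * (t⁻¹ * μ x') := by rw [h1]; group
  have hQ'M' : Q' ≤ M' := by
    rw [← himg]
    rintro _ ⟨q, rfl⟩
    exact ⟨⟨(q : Ω), hQM q.2⟩, rfl⟩
  have htQ : t ∈ Q' := by
    refine hQ'c.self c.closed (mem_centralizerIn.2 ⟨ht, fun q hq => ?_⟩)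
    have h1 := hd q (hQ'M' hq)
    have h2 : μ x' * q = q * μ x' := by
      obtain ⟨r, rfl⟩ := hq
      show μ x' * μ (Subgroup.inclusion hQN r) = μ (Subgroup.inclusion hQN r) * μ x'
      rw [← map_mul, ← map_mul]
      exact congrArg μ (Subtype.ext ((mem_centralizerIn.1 hx).2 r r.2))
    calc t * q = t * (q * (t⁻¹ * μ x')) * (μ x')⁻¹ * t := by group
      _ = μ x' * q * (μ x')⁻¹ * t := by rw [← h1]; group
      _ = q * t := by rw [h2]; group
  obtain ⟨z, hz⟩ := htQ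
  refine ⟨z, z.2, fun y hy => ?_⟩
  have h1 := hd _ (himg.le ⟨⟨y, hy⟩, rfl⟩)
  change (μ.comp (Subgroup.inclusion hQN)) z = t at hz
  rw [← hz] at h1
  change (μ (Subgroup.inclusion hQN z))⁻¹ * μ x' * μ (Subgroup.inclusion hMN ⟨y, hy⟩) =
    μ (Subgroup.inclusion hMN ⟨y, hy⟩) * ((μ (Subgroup.inclusion hQN z))⁻¹ * μ x') at h1
  rw [← map_inv, ← map_mul, ← map_mul, ← map_mul] at h1
  exact congrArg Subtype.val (F.injective_of_mem hμ h1)

/-- The conjugates of the induced automorphisms lie in the product with the `p'`-part. -/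
theorem kGen_conj {Q : Subgroup Ω} (hQc : UCentric F (T₁ ⊓ T₂) Q) (hQ : F.IsFullyNormalized Q)
    (g x : F.autGroup Q) (hx : x ∈ (autInducedBy (T₁ ⊓ T₂) Q).subgroupOf (F.autGroup Q)) :
    g * x * g⁻¹ ∈ (c.aGen Q).subgroupOf (F.autGroup Q) ⊔
      (autInducedBy (T₁ ⊓ T₂) Q).subgroupOf (F.autGroup Q) := by
  classical
  have hS := c.pS
  have hQS := hQ.1
  have hQU := hQc.1
  haveI := finite_of_le hQS
  haveI : Finite (MulAut Q) := Finite.of_injective (fun f => (f : Q → Q)) DFunLike.coe_injective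
  obtain ⟨hfc, hfaQ⟩ := isFullyAutomized_and_fc_of_fn hS c.sat hQ
  obtain ⟨R, hR⟩ := hfaQ.2
  have hrec := isReceptive_of_fc hS c.sat hfc
  have hXF : autInducedBy (T₁ ⊓ T₂) Q ≤ F.autGroup Q :=
    (autInducedBy_mono c.closed.1).trans (autInducedBy_le_autGroup hQS)
  have hAF : c.aGen Q ≤ F.autGroup Q := (c.aGen_le_kGen Q).trans (c.kGen_le_autGroup hQU)
  let A : Subgroup (F.autGroup Q) := (c.aGen Q).subgroupOf (F.autGroup Q)
  let X : Subgroup (F.autGroup Q) := (autInducedBy (T₁ ⊓ T₂) Q).subgroupOf (F.autGroup Q)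
  haveI : A.Normal := ⟨fun a ha g => c.congr_mem_aGen ((mem_autGroup hQS).1 g.2) ha⟩
  let H : Subgroup (F.autGroup Q) := (c.hGood Q).subgroupOf (F.autGroup Q)
  haveI : H.Normal := ⟨fun a ha g => c.congr_mem_hGood ((mem_autGroup hQS).1 g.2) ha⟩
  obtain ⟨a, haN, l, hl, rfl⟩ := exists_normalizer_factor R H g
  obtain ⟨RH, hRH⟩ := exists_sylow_of_normal R H
  obtain ⟨r, hr, m, hm, hlm⟩ := Cfsg.Lib.Fusion.exists_mul_of_sylow RH ⟨l, hl⟩
  have hm' : (m : F.autGroup Q) ∈ A := by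
    refine (?_ : (pResidual p H).map H.subtype ≤ A) ⟨m, hm, rfl⟩
    rw [pResidual, MonoidHom.map_closure, Subgroup.closure_le]
    rintro _ ⟨w, hw, rfl⟩
    refine Subgroup.subset_closure ⟨w.2, ?_⟩
    show (orderOf ((w : F.autGroup Q) : MulAut Q)).Coprime p
    rw [Subgroup.orderOf_coe, Subgroup.orderOf_coe]
    exact hw
  have hl' : l = (r : F.autGroup Q) * m := congrArg Subtype.val hlm
  rw [hRH, Subgroup.mem_subgroupOf, hR, Subgroup.mem_subgroupOf] at hr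
  obtain ⟨t, ht, hte⟩ := mem_autInducedBy.1 (show (x : MulAut Q) ∈ autInducedBy (T₁ ⊓ T₂) Q from hx)
  obtain ⟨s, hs, hse⟩ := mem_autInducedBy.1 hr
  set x' : F.autGroup Q := (r : F.autGroup Q) * x * (r : F.autGroup Q)⁻¹ with hx'
  have hx'X : x' ∈ X := by
    refine mem_autInducedBy.2 ⟨s * t * s⁻¹, stronglyClosed_conj_mem c.closed hs ht, fun q => ?_⟩
    rw [hx', Subgroup.coe_subtype, Subgroup.coe_mul, Subgroup.coe_mul, Subgroup.coe_inv, MulAut.mul_apply, MulAut.mul_apply, hse,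
      hte]
    set w := ((r : F.autGroup Q) : MulAut Q)⁻¹ q with hw
    rw [show (q : Ω) = s * w * s⁻¹ by rw [← hse, hw, MulAut.apply_inv_self]]
    group
  obtain ⟨t', ht', hte'⟩ := mem_autInducedBy.1 hx'X
  have hx'H : x' ∈ H := by
    refine c.kGen_le_hGood hQU (c.autInducedBy_le_kGen hQS hx'X)
  have hx'R : x' ∈ (R : Subgroup (F.autGroup Q)) ⊓ H :=
    ⟨by rw [hR]; exact autInducedBy_mono c.closed.1 hx'X, hx'H⟩
  have hax : a * x' * a⁻¹ ∈ X := by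
    have h1 : a * x' * a⁻¹ ∈ (R : Subgroup (F.autGroup Q)) := ((Subgroup.mem_normalizer_iff.1 haN _).1 hx'R).1
    rw [hR, Subgroup.mem_subgroupOf] at h1
    obtain ⟨h, hh, hhe⟩ := mem_autInducedBy.1 h1
    have hi := (mem_autGroup hQS).1 a.2
    obtain ⟨ψ, hψ, hψe⟩ := hrec.2 Q _ hi (by
      ext y
      exact ⟨fun ⟨z, hz⟩ => hz ▸ ((a : MulAut Q) z).2,
        fun hy => ⟨(a : MulAut Q)⁻¹ ⟨y, hy⟩, by simp⟩⟩)
    have ht'E : t' ∈ extender S Q (Q.subtype.comp (a : MulAut Q).toMonoidHom) := by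
      refine mem_extender_of (c.closed.1 ht') (mem_normalizer_of_aut hte') hh fun z hz => ?_
      show (((a : MulAut Q) ⟨t' * (z : Ω) * t'⁻¹, hz⟩ : Q) : Ω) = h * ((a : MulAut Q) z : Ω) * h⁻¹
      rw [← hhe, Subgroup.coe_mul, Subgroup.coe_mul, Subgroup.coe_inv, MulAut.mul_apply, MulAut.mul_apply,
        MulAut.inv_apply_self]
      exact congrArg (fun w : Q => (((a : MulAut Q) w : Q) : Ω)) (Subtype.ext (hte' z).symm)
    refine mem_autInducedBy.2 ⟨ψ ⟨t', ht'E⟩, stronglyClosed_apply_mem c.closed hψ (x := ⟨t', ht'E⟩) ht',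
      fun z => ?_⟩
    rw [Subgroup.coe_subtype, Subgroup.coe_mul, Subgroup.coe_mul, Subgroup.coe_inv, MulAut.mul_apply, MulAut.mul_apply]
    set w := (a : MulAut Q)⁻¹ z with hw
    have hwE : (w : Ω) ∈ extender S Q (Q.subtype.comp (a : MulAut Q).toMonoidHom) :=
      le_extender hQS (hom_mem hi) w.2
    have hzw : (z : Ω) = ψ ⟨w, hwE⟩ := by
      rw [hψe _ w.2]
      show (z : Ω) = ((a : MulAut Q) w : Ω)
      rw [hw, MulAut.apply_inv_self]
    rw [hzw, ← map_inv, ← map_mul, ← map_mul]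
    exact ((hψe _ (((x' : F.autGroup Q) : MulAut Q) w).2
      ((hte' w).symm ▸ Subgroup.mul_mem _ (Subgroup.mul_mem _ ht'E hwE) (Subgroup.inv_mem _ ht'E))).symm.trans
        (congrArg ψ (Subtype.ext (hte' w))))
  have hm1 : m.1 * x * (m.1)⁻¹ * x⁻¹ ∈ A := by
    have : x * (m.1)⁻¹ * x⁻¹ ∈ A := Subgroup.Normal.conj_mem inferInstance _ (inv_mem hm') x
    simpa [mul_assoc] using mul_mem hm' this
  set y := m.1 * x * (m.1)⁻¹ * x⁻¹
  rw [show a * l * x * (a * l)⁻¹ = ((a * (r : F.autGroup Q)) * y * (a * (r : F.autGroup Q))⁻¹) *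
    (a * x' * a⁻¹) by rw [hl', hx']; simp only [y]; group]
  exact mul_mem (Subgroup.mem_sup_left (Subgroup.Normal.conj_mem inferInstance _ hm1 _))
    (Subgroup.mem_sup_right hax)

/-- For a fully normalized subgroup the automizer is the product of its `p'`-part and the induced part, with
the latter as a Sylow subgroup. -/
theorem kGen_fn {Q : Subgroup Ω} (hQc : UCentric F (T₁ ⊓ T₂) Q) (hQ : F.IsFullyNormalized Q) :
    (∀ k ∈ c.kGen Q, ∃ a ∈ c.aGen Q, ∃ x ∈ autInducedBy (T₁ ⊓ T₂) Q, k = a * x) ∧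
      ∃ P : Sylow p (c.kGen Q), (P : Subgroup (c.kGen Q)) = (autInducedBy (T₁ ⊓ T₂) Q).subgroupOf (c.kGen Q) := by
  classical
  have hS := c.pS
  have hQS := hQ.1
  have hQU := hQc.1
  haveI := finite_of_le hQS
  haveI : Finite (MulAut Q) := Finite.of_injective (fun f => (f : Q → Q)) DFunLike.coe_injective
  obtain ⟨hfc, hfaQ⟩ := isFullyAutomized_and_fc_of_fn hS c.sat hQ
  obtain ⟨R, hR⟩ := hfaQ.2
  have hrec := isReceptive_of_fc hS c.sat hfc
  have hXF : autInducedBy (T₁ ⊓ T₂) Q ≤ F.autGroup Q :=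
    (autInducedBy_mono c.closed.1).trans (autInducedBy_le_autGroup hQS)
  have hAF : c.aGen Q ≤ F.autGroup Q := (c.aGen_le_kGen Q).trans (c.kGen_le_autGroup hQU)
  let A : Subgroup (F.autGroup Q) := (c.aGen Q).subgroupOf (F.autGroup Q)
  let X : Subgroup (F.autGroup Q) := (autInducedBy (T₁ ⊓ T₂) Q).subgroupOf (F.autGroup Q)
  haveI : A.Normal := ⟨fun a ha g => c.congr_mem_aGen ((mem_autGroup hQS).1 g.2) ha⟩
  let H : Subgroup (F.autGroup Q) := (c.hGood Q).subgroupOf (F.autGroup Q)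
  haveI : H.Normal := ⟨fun a ha g => c.congr_mem_hGood ((mem_autGroup hQS).1 g.2) ha⟩
  have hconj : ∀ (g : F.autGroup Q), ∀ x ∈ X, g * x * g⁻¹ ∈ A ⊔ X := fun g x hx => c.kGen_conj hQc hQ g x hx
  have hdec : ∀ k ∈ c.kGen Q, ∃ a ∈ c.aGen Q, ∃ x ∈ autInducedBy (T₁ ⊓ T₂) Q, k = a * x := by
    intro k hk
    have hle : c.kGen Q ≤ (A ⊔ X).map (F.autGroup Q).subtype := by
      refine (Subgroup.closure_le _).2 ?_
      rintro b (hb | ⟨Q'', e, he, x, hx, rfl⟩)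
      · exact ⟨⟨b, hAF (Subgroup.subset_closure hb)⟩, Subgroup.mem_sup_left (Subgroup.subset_closure hb), rfl⟩
      · have hQ''S : Q'' ≤ S := he.le_left
        obtain ⟨μ, hμ, hμv, hμQ⟩ := exists_normalizer_map hS hfaQ hrec (isConj_iff.2 ⟨e, he⟩)
        have hQN : Q'' ≤ normalizerIn S Q'' := le_normalizerIn hQ''S
        have himg : img μ hQN = Q := Subgroup.ext fun y => by
          constructor
          · rintro ⟨z, hz⟩
            exact hμQ.le ⟨Subgroup.inclusion hQN z, z.2, hz⟩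
          · intro hy
            obtain ⟨z, hz, hzy⟩ := hμQ.ge hy
            exact ⟨⟨(z : Ω), hz⟩, hzy⟩
        obtain ⟨g, hgF, hgv⟩ : ∃ g : Q'' ≃* Q, IsoIn F g ∧ ∀ w, (g w : Ω) = μ (Subgroup.inclusion hQN w) :=
          ⟨_, isoIn_homIso (restrict_mem hμ hQN) himg, fun _ => rfl⟩
        obtain ⟨t, ht, hte⟩ := mem_autInducedBy.1 hx
        let t' : normalizerIn S Q'' := ⟨t, c.closed.1 ht, mem_normalizer_of_aut hte⟩
        have hgx : MulAut.congr g x ∈ autInducedBy (T₁ ⊓ T₂) Q := by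
          refine mem_autInducedBy.2 ⟨μ t', stronglyClosed_apply_mem c.closed hμ (x := t') ht, fun y => ?_⟩
          obtain ⟨w, rfl⟩ := g.surjective y
          rw [show MulAut.congr g x (g w) = g (x w) by simp [MulAut.congr]]
          rw [hgv, hgv, ← map_inv, ← map_mul, ← map_mul]
          exact congrArg μ (Subtype.ext (hte w))
        let β : F.autGroup Q := ⟨g.symm.trans e, (mem_autGroup hQS).2 (hgF.symm.trans he)⟩
        let x₁ : F.autGroup Q := ⟨MulAut.congr g x, hXF hgx⟩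
        refine Subgroup.mem_map.2 ⟨β * x₁ * β⁻¹, hconj β x₁ (Subgroup.mem_subgroupOf.2 hgx), ?_⟩
        refine MulEquiv.ext fun y => ?_
        show e (g.symm (g (x (g.symm (g (e.symm y)))))) = e (x (e.symm y))
        rw [MulEquiv.symm_apply_apply, MulEquiv.symm_apply_apply]
    obtain ⟨k', hk', rfl⟩ := hle hk
    obtain ⟨a, ha, x, hx, rfl⟩ := Subgroup.mem_sup_of_normal_left.1 hk'
    exact ⟨a, ha, x, hx, rfl⟩
  refine ⟨hdec, ?_⟩
  let K : Subgroup (F.autGroup Q) := (c.kGen Q).subgroupOf (F.autGroup Q)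
  haveI : K.Normal := ⟨fun a ha g => c.congr_mem_kGen ((mem_autGroup hQS).1 g.2) ha⟩
  obtain ⟨RK, hRK⟩ := exists_sylow_of_normal R K
  let eq := Subgroup.subgroupOfEquivOfLe (c.kGen_le_autGroup hQU)
  refine ⟨RK.comapOfInjective eq.symm.toMonoidHom eq.symm.injective
    (by rw [MonoidHom.range_eq_top.2 eq.symm.surjective]; exact le_top), ?_⟩
  ext ⟨k, hk⟩
  show eq.symm ⟨k, hk⟩ ∈ (RK : Subgroup _) ↔ _
  rw [hRK, Subgroup.mem_subgroupOf, hR, Subgroup.mem_subgroupOf, Subgroup.mem_subgroupOf]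
  show k ∈ autInducedBy S Q ↔ k ∈ autInducedBy (T₁ ⊓ T₂) Q
  refine ⟨fun hkS => ?_, fun h => autInducedBy_mono c.closed.1 h⟩
  obtain ⟨a, ha, x, hx, rfl⟩ := hdec k hk
  have haS : a ∈ autInducedBy S Q := by
    have := mul_mem hkS (inv_mem (autInducedBy_mono c.closed.1 hx))
    rwa [mul_inv_cancel_right] at this
  exact mul_mem (c.aGen_inf_le hQc hQ ⟨ha, haS⟩) hx

/-- Elements of the automizer of order prime to `p` lie in its `p'`-part. -/
theorem mem_aGen_of_coprime {Q : Subgroup Ω} (hQc : UCentric F (T₁ ⊓ T₂) Q) {k : MulAut Q} (hk : k ∈ c.kGen Q)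
    (hcop : (orderOf k).Coprime p) : k ∈ c.aGen Q := by
  obtain ⟨Q', hQQ', hQ'⟩ := exists_isFullyNormalized F (hQc.1.trans c.closed.1)
  obtain ⟨e, he⟩ := isConj_iff.1 hQQ'
  have hQ'c := hQc.of_conj c.closed hQQ'
  obtain ⟨a, ha, x, hx, hax⟩ := (c.kGen_fn hQ'c hQ').1 _ (c.congr_mem_kGen he hk)
  obtain ⟨j, hj⟩ := isPGroup_autInducedBy (P := Q') (c.pS.to_le c.closed.1) ⟨x, hx⟩
  have hAF : c.aGen Q' ≤ F.autGroup Q' := (c.aGen_le_kGen Q').trans (c.kGen_le_autGroup hQ'c.1)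
  have hxF : x ∈ F.autGroup Q' := c.kGen_le_autGroup hQ'c.1 (c.autInducedBy_le_kGen hQ'.1 hx)
  haveI : ((c.aGen Q').subgroupOf (F.autGroup Q')).Normal :=
    ⟨fun a ha g => c.congr_mem_aGen ((mem_autGroup hQ'.1).1 g.2) ha⟩
  have h := mem_of_coprime_mod (p := p) (N := (c.aGen Q').subgroupOf (F.autGroup Q')) (a := ⟨a, hAF ha⟩)
    (b := ⟨_, c.kGen_le_autGroup hQ'c.1 (c.congr_mem_kGen he hk)⟩) (d := ⟨x, hxF⟩) (k := j) ha
    (by rw [Subgroup.orderOf_mk, MulEquiv.orderOf_eq]; exact hcop)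
    (Subtype.ext (congrArg Subtype.val hj :)) (Subtype.ext hax)
  have h2 := c.congr_mem_aGen he.symm h
  convert h2 using 1
  exact MulEquiv.ext fun y => by simp [MulAut.congr]

theorem hGood_restr {Q M : Subgroup Ω} (hQ : UCentric F (T₁ ⊓ T₂) Q) (hQM : Q ≤ M) (hMU : M ≤ T₁ ⊓ T₂)
    (hn : M ≤ Subgroup.normalizer (Q : Set Ω)) {e : MulAut M} (he : e ∈ c.aGen M)
    (hcop : (orderOf e).Coprime p) {b : MulAut Q}
    (hb : ∀ x : Q, (b x : Ω) = (e (Subgroup.inclusion hQM x) : Ω)) : b ∈ c.hGood Q :=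
  ⟨⟨restr_good c.pS c.sat (isInvariantIn_self F) c.closed c.aGen (fun he _ ha => c.congr_mem_aGen he ha)
      (fun M _ => (c.aGen_le_hGood M).trans (inf_le_left.trans inf_le_left))
      (fun _ _ hQ hQM hMU _ _ hx hn hA => c.conjAut_aGen_cent hQ hQM hMU hx hn hA) hQ hQM hMU hn he hcop hb,
    restr_good c.pS c.sat₁ c.inv₁ c.closed c.aGen (fun he _ ha => c.congr_mem_aGen he ha)
      (fun M _ => (c.aGen_le_hGood M).trans (inf_le_left.trans inf_le_right))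
      (fun _ _ hQ hQM hMU _ _ hx hn hA => c.conjAut_aGen_cent hQ hQM hMU
        (inf_le_inf_right _ c.inv₁.2.1.1 hx) hn hA) hQ hQM hMU hn he hcop hb⟩,
    restr_good c.pS c.sat₂ c.inv₂ c.closed c.aGen (fun he _ ha => c.congr_mem_aGen he ha)
      (fun M _ => (c.aGen_le_hGood M).trans inf_le_right)
      (fun _ _ hQ hQM hMU _ _ hx hn hA => c.conjAut_aGen_cent hQ hQM hMU
        (inf_le_inf_right _ c.inv₂.2.1.1 hx) hn hA) hQ hQM hMU hn he hcop hb⟩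

/-- Good automorphisms of order prime to `p` extend to good ones. -/
theorem hGood_ext {Q M : Subgroup Ω} (hQ : UCentric F (T₁ ⊓ T₂) Q) (hQM : Q ≤ M) (hMU : M ≤ T₁ ⊓ T₂)
    (hn : M ≤ Subgroup.normalizer (Q : Set Ω)) {b : MulAut Q} (hb : b ∈ c.hGood Q)
    (hcop : (orderOf b).Coprime p)
    (hM : ∀ m ∈ M, ∃ m' ∈ M, ∀ (x : Q) (hx : m * (x : Ω) * m⁻¹ ∈ Q),
      (b ⟨_, hx⟩ : Ω) = m' * (b x : Ω) * m'⁻¹) :
    ∃ e ∈ c.aGen M, (orderOf e).Coprime p ∧ ∀ x : Q, (e (Subgroup.inclusion hQM x) : Ω) = (b x : Ω) := by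
  have hMS := hMU.trans c.closed.1
  haveI := finite_of_le hMS
  obtain ⟨e, he, hec, heb⟩ :=
    exists_good_ext c.pS c.sat (isInvariantIn_self F) c.closed hQ hQM hMU hn hb.1.1 hcop hM
  have heF := goodIn_le_autGroup (isInvariantIn_self F) hMS he
  have key : ∀ {T : Subgroup Ω} {G : FusionSystem T} (hG : G.IsInvariantIn F) (hUG : G.StronglyClosed (T₁ ⊓ T₂)),
      (∃ e' ∈ goodIn F G hUG M, (orderOf e').Coprime p ∧
        ∀ x : Q, (e' (Subgroup.inclusion hQM x) : Ω) = (b x : Ω)) → e ∈ goodIn F G hUG M := by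
    rintro T G hG hUG ⟨e', he', -, he'b⟩
    have he'F : e' ∈ F.autGroup M :=
      (mem_autGroup hMS).2 (hG.1 _ ((mem_autGroup (hMU.trans hUG.1)).1
        (goodIn_le_autGroup hG (hMU.trans hUG.1) he')))
    obtain ⟨k, hk⟩ := isPElement_of_fix c.pS c.closed.1 hQM hMU hn (hQ.self c.closed) (d := e'⁻¹ * e)
      fun x hx => by
        have h : e' x = e x := Subtype.ext ((he'b ⟨x, hx⟩).trans (heb ⟨x, hx⟩).symm)
        rw [MulAut.mul_apply, ← h, MulAut.inv_apply_self]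
    haveI : ((goodIn F G hUG M).subgroupOf (F.autGroup M)).Normal :=
      ⟨fun a ha g => goodIn_conj hMS ha g.2⟩
    exact mem_of_coprime_mod (p := p) (N := (goodIn F G hUG M).subgroupOf (F.autGroup M)) (a := ⟨e', he'F⟩)
      (b := ⟨e, heF⟩) (d := ⟨e'⁻¹ * e, mul_mem (inv_mem he'F) heF⟩) (k := k) he'
      (by rw [Subgroup.orderOf_mk]; exact hec) (Subtype.ext hk) (Subtype.ext (mul_inv_cancel_left e' e).symm)
  exact ⟨e, Subgroup.subset_closure ⟨⟨⟨he,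
    key c.inv₁ c.closed₁ (exists_good_ext c.pS c.sat₁ c.inv₁ c.closed hQ hQM hMU hn hb.1.2 hcop hM)⟩,
    key c.inv₂ c.closed₂ (exists_good_ext c.pS c.sat₂ c.inv₂ c.closed hQ hQM hMU hn hb.2 hcop hM)⟩, hec⟩,
    hec, heb⟩

/-- The decomposition into powers of order prime to `p` and of `p`-power order. -/
theorem exists_pow_parts {G : Type*} [Group G] [Finite G] (g : G) :
    ∃ i j : ℕ, g = g ^ i * g ^ j ∧ (orderOf (g ^ i)).Coprime p ∧ ∃ k, orderOf (g ^ j) = p ^ k := by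
  obtain ⟨u, v, hv, huv⟩ := Nat.exists_eq_pow_mul_and_not_dvd (orderOf_pos g).ne' p
    (Fact.out : p.Prime).ne_one
  have hcop : v.Coprime p := ((Fact.out : p.Prime).coprime_iff_not_dvd.2 hv).symm
  obtain ⟨i, hi₁, hi₂⟩ := Nat.chineseRemainder ((hcop.symm.pow_left u) : (p ^ u).Coprime v) 0 1
  obtain ⟨j, hj₁, hj₂⟩ := Nat.chineseRemainder ((hcop.symm.pow_left u) : (p ^ u).Coprime v) 1 0
  have hij : i + j ≡ 1 [MOD p ^ u * v] :=
    (Nat.modEq_and_modEq_iff_modEq_mul (hcop.symm.pow_left u)).1 ⟨by simpa using hi₁.add hj₁, by simpa using hi₂.add hj₂⟩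
  refine ⟨i, j, ?_, ?_, ?_⟩
  · rw [← pow_add]
    conv_lhs => rw [← pow_one g]
    exact (pow_eq_pow_iff_modEq.2 (by rwa [huv])).symm
  · refine Nat.Coprime.coprime_dvd_left (orderOf_dvd_of_pow_eq_one ?_) hcop
    obtain ⟨q, hq⟩ := Nat.modEq_zero_iff_dvd.1 hi₁
    rw [← pow_mul, hq, mul_right_comm, ← huv, pow_mul, pow_orderOf_eq_one, one_pow]
  · obtain ⟨k, -, hk⟩ := (Nat.dvd_prime_pow Fact.out).1 (orderOf_dvd_of_pow_eq_one (x := g ^ j) (n := p ^ u) (by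
      obtain ⟨q, hq⟩ := Nat.modEq_zero_iff_dvd.1 hj₂
      rw [← pow_mul, hq, mul_comm, ← mul_assoc, ← huv, pow_mul, pow_orderOf_eq_one, one_pow]))
    exact ⟨k, hk⟩

/-- The automizers restrict to stable self-centralizing subgroups. -/
theorem kGen_restr {Q M : Subgroup Ω} (hQ : UCentric F (T₁ ⊓ T₂) Q) (hQM : Q ≤ M) (hMU : M ≤ T₁ ⊓ T₂)
    (hn : M ≤ Subgroup.normalizer (Q : Set Ω)) {k : MulAut M} (hk : k ∈ c.kGen M) {b : MulAut Q}
    (hb : ∀ x : Q, (b x : Ω) = (k (Subgroup.inclusion hQM x) : Ω)) : b ∈ c.kGen Q := by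
  have hMS := hMU.trans c.closed.1
  haveI := finite_of_le hMS
  haveI := finite_of_le (hQM.trans hMS)
  haveI : Finite (MulAut M) := Finite.of_injective (fun f => (f : M → M)) DFunLike.coe_injective
  have hpow : ∀ (n : ℕ) (x : Q), ((b ^ n) x : Ω) = ((k ^ n) (Subgroup.inclusion hQM x) : Ω) :=
    aut_pow_agree hQM hb
  obtain ⟨i, j, hg, hi, l, hl⟩ := exists_pow_parts (c := c) k
  have hb' : b = b ^ i * b ^ j := MulEquiv.ext fun x => Subtype.ext (by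
    rw [← pow_add, hb, hpow, pow_add, ← hg])
  rw [hb']
  refine mul_mem ?_ ?_
  · refine Subgroup.subset_closure (Or.inl ⟨c.hGood_restr hQ hQM hMU hn
      (c.mem_aGen_of_coprime (hQ.mono hQM hMU) (pow_mem hk i) hi) hi (hpow i), ?_⟩)
    exact Nat.Coprime.coprime_dvd_left
      (orderOf_dvd_of_pow_eq_one (aut_pow_eq_one hQM (hpow i) (pow_orderOf_eq_one _))) hi
  · have hMc := hQ.mono hQM hMU
    obtain ⟨M', hMM', hM'⟩ := exists_isFullyNormalized F hMS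
    obtain ⟨e, he⟩ := isConj_iff.1 hMM'
    have hM'c := hMc.of_conj c.closed hMM'
    haveI := finite_of_le hM'.1
    haveI : Finite (MulAut M') := Finite.of_injective (fun f => (f : M' → M')) DFunLike.coe_injective
    obtain ⟨-, P, hP⟩ := c.kGen_fn hM'c hM'
    let a : c.kGen M' := ⟨_, c.congr_mem_kGen he (pow_mem hk j)⟩
    have hp : IsPGroup p (Subgroup.zpowers a) :=
      IsPGroup.iff_card.2 ⟨l, by rw [Nat.card_zpowers, ← Subgroup.orderOf_coe, MulEquiv.orderOf_eq]; exact hl⟩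
    obtain ⟨P', hP'⟩ := hp.exists_le_sylow
    obtain ⟨r, hr⟩ := MulAction.exists_smul_eq (c.kGen M') P' P
    have hmem : r * a * r⁻¹ ∈ (P : Subgroup (c.kGen M')) := by
      rw [← hr, Sylow.coe_subgroup_smul]
      exact Subgroup.smul_mem_pointwise_smul _ (MulAut.conj r) _ (hP' (Subgroup.mem_zpowers a))
    rw [hP, Subgroup.mem_subgroupOf] at hmem
    obtain ⟨t, ht, hte⟩ := mem_autInducedBy.1 hmem
    have hrF := (mem_autGroup hM'.1).1 (c.kGen_le_autGroup hM'c.1 r.2)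
    let f : M ≃* M' := e.trans (r : MulAut M')
    have hf : IsoIn F f := he.trans hrF
    have hfk : ∀ x : M, (f ((k ^ j) x) : Ω) = t * (f x : Ω) * t⁻¹ := fun x => by
      rw [← hte (f x)]
      show (((r : MulAut M') (e ((k ^ j) x))) : Ω) =
        (((r : MulAut M') ((e ((k ^ j) (e.symm ((r : MulAut M')⁻¹ ((r : MulAut M') (e x)))))))) : Ω)
      rw [show (r : MulAut M')⁻¹ ((r : MulAut M') (e x)) = e x from (r : MulAut M').symm_apply_apply _,
        MulEquiv.symm_apply_apply]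
    have hQr := restrict_mem hf hQM
    set Q' := ((M'.subtype.comp f.toMonoidHom).comp (Subgroup.inclusion hQM)).range with hQ'
    set g := homIso hQr (rfl : _ = Q') with hgdef
    have hgF : IsoIn F g := isoIn_homIso _ rfl
    have hgx : MulAut.congr g (b ^ j) ∈ autInducedBy (T₁ ⊓ T₂) Q' := by
      refine mem_autInducedBy.2 ⟨t, ht, fun y => ?_⟩
      obtain ⟨x, rfl⟩ := g.surjective y
      rw [show MulAut.congr g (b ^ j) (g x) = g ((b ^ j) x) by simp [MulAut.congr]]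
      refine Eq.trans ?_ (hfk (Subgroup.inclusion hQM x))
      exact congrArg (fun z : M => (f z : Ω)) (Subtype.ext (hpow j x))
    have h := c.congr_mem_kGen hgF.symm (c.autInducedBy_le_kGen hgF.le_right hgx)
    convert h using 1
    exact MulEquiv.ext fun y => by simp [MulAut.congr]

end MeetCtx

end Cfsg.Lib.FusionSys
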