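import Cfsg.Agent.Lib.FusionSys.MeetRec

/-!
Extendable automorphisms of a self-centralizing member with largest normalizer lie in the automizer.
-/

set_option autoImplicit false
set_option linter.style.haveILetI false
set_option maxHeartbeats 800000

namespace Cfsg.Lib.FusionSys

open Cfsg Cfsg.FusionSystem
open scoped Pointwise

variable {Ω : Type*} [Group Ω] {S T₁ T₂ : Subgroup Ω} {F : FusionSystem S} {E₁ : FusionSystem T₁}
  {E₂ : FusionSystem T₂} {p : ℕ}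

namespace MeetCtx

variable (c : MeetCtx F E₁ E₂ p)
include c
variable [Finite S] [Fact p.Prime]

theorem autGroup_level_le {n : ℕ} (R : Subgroup Ω) :
    (c.meetSys n).autGroup R ≤ (c.meetSys 0).autGroup R :=
  Subgroup.closure_mono fun _ ha => c.meetSys_mono (Nat.zero_le n) R ha

/-- Automorphisms extending into the normalizer lie in the automizer. -/
theorem extGen_le_kGen {n : ℕ} {Qd : Subgroup Ω} (hQ : UCentric F (T₁ ⊓ T₂) Qd) (hn : Nat.card Qd = n)
    (hup : ∀ R : Subgroup Ω, UCentric F (T₁ ⊓ T₂) R → n < Nat.card R →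
      (c.meetSys 0).autGroup R ≤ c.kGen R)
    (hgood : GoodAbove (c.meetSys n) p Qd)
    (htop : ∀ A, (c.meetSys n).IsConj Qd A → ToP (c.meetSys n) Qd A) :
    ∀ (m : ℕ) (R : Subgroup Ω) (α : MulAut Qd), Nat.card ↥(T₁ ⊓ T₂) ≤ Nat.card R + m → Qd < R →
      R ≤ normalizerIn (T₁ ⊓ T₂) Qd →
      ExtIso (c.meetSys n) R (normalizerIn (T₁ ⊓ T₂) Qd) (α : Qd ≃* Qd) → α ∈ c.kGen Qd := by
  haveI := finite_of_le c.closed.1
  have hS := c.pS.to_le c.closed.1
  set N := normalizerIn (T₁ ⊓ T₂) Qd with hNdef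
  have hNU : N ≤ T₁ ⊓ T₂ := normalizerIn_le Qd
  haveI := finite_of_le hNU
  intro m
  induction m using Nat.strong_induction_on with
  | _ m ih =>
  intro R α hm hQR hRN hext
  have hRU : R ≤ T₁ ⊓ T₂ := hRN.trans hNU
  haveI := finite_of_le hRU
  have hRn : R ≤ Subgroup.normalizer (Qd : Set Ω) := hRN.trans inf_le_right
  have hcard : n < Nat.card R := by
    rw [← hn]
    by_contra hh
    exact hQR.ne (Subgroup.eq_of_le_of_card_ge hQR.le (not_lt.1 hh))
  rcases lt_or_eq_of_le hRN with hlt | heq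
  swap
  · -- the whole normalizer
    subst heq
    obtain ⟨hQN, ψ, hψ, hv, hψe⟩ := hext
    let β : MulAut N := homIso hψ (range_eq_of_card_le hψ hNU hv le_rfl)
    have hβ : β ∈ (c.meetSys 0).autGroup N :=
      c.autGroup_level_le N ((mem_autGroup hNU).2 (isoIn_homIso hψ _))
    exact c.kGen_restr hQ hQN hNU hRn (hup N (hQ.mono hQN hNU) hcard hβ) fun x => (hψe x x.2 (hQN x.2)).symm
  obtain ⟨-, ψ, hψ, hψv, hψe⟩ := id hext
  obtain ⟨R', E, hE, -, hR', -, -, hEv⟩ := exists_image_iso (A := R) hψ le_rfl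
  have hR'N : R' ≤ N := by
    rw [hR']
    rintro _ ⟨x, -, rfl⟩
    exact hψv x
  have hc : ∀ a : Qd, ((α a : Qd) : Ω) = (E ⟨a, hQR.le a.2⟩ : Ω) := fun a => by
    rw [hEv]
    exact (hψe a a.2 _).symm
  have hQR' : Qd ≤ R' := by
    intro y hy
    have := (E ⟨_, hQR.le ((α : Qd ≃* Qd).symm ⟨y, hy⟩).2⟩).2
    rwa [← hc, MulEquiv.apply_symm_apply] at this
  have hcR' : Nat.card R = Nat.card R' := Nat.card_congr E.toEquiv
  have hR'lt : R' < N := lt_of_le_of_ne hR'N fun h => by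
    subst h
    exact hlt.ne (Subgroup.eq_of_le_of_card_ge hRN hcR'.ge)
  set T' := normalizerIn N R' with hT'def
  have hR'T : R' < T' := lt_normalizerIn (hS.to_le hNU) hR'lt
  have hcT' : Nat.card R < Nat.card T' := by
    haveI : Finite T' := finite_of_le ((normalizerIn_le R').trans hNU)
    rw [hcR']
    by_contra hh
    exact hR'T.ne (Subgroup.eq_of_le_of_card_ge hR'T.le (not_lt.1 hh))
  obtain ⟨R₀, hR₀, hfa, hrec⟩ := hgood R hRU (by omega)
  have hR'R₀ : (c.meetSys n).IsConj R' R₀ :=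
    isConj_trans (isConj_symm (isConj_iff.2 ⟨E, hE.isoIn⟩)) hR₀
  obtain ⟨Ps, f₁, g₁, hPsR, hst, hf₁, hg₁, hg₁c⟩ := exists_good_move (A := Qd) hS hfa hrec hR'R₀
    hQR' hR'T.le (le_inf ((normalizerIn_le R').trans hNU) inf_le_right)
    ((normalizerIn_le R').trans inf_le_right)
  obtain ⟨χ, hχ⟩ := htop Ps (isConj_iff.2 ⟨f₁, hf₁.isoIn⟩)
  have hT'U : Nat.card T' ≤ Nat.card ↥(T₁ ⊓ T₂) := card_le_of_le ((normalizerIn_le R').trans hNU)
  have hμ : (f₁.trans χ : MulAut Qd) ∈ c.kGen Qd :=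
    ih (Nat.card ↥(T₁ ⊓ T₂) - Nat.card T') (by omega)
      T' _ (by omega) (lt_of_le_of_lt hQR' hR'T) (normalizerIn_le R')
      ((hf₁.mono hf₁.1 le_rfl inf_le_right).trans hχ)
  -- the move of `R`
  let Θ : R ≃* R₀ := E.trans g₁
  have hΘ : IsoIn (c.meetSys n) Θ := hE.isoIn.trans hg₁.isoIn
  let θ : Qd ≃* Ps := (α : Qd ≃* Qd).trans f₁
  have hθ : IsoIn (c.meetSys n) θ := hext.isoIn.trans hf₁.isoIn
  have hθc : ∀ a : Qd, (θ a : Ω) = (Θ ⟨a, hQR.le a.2⟩ : Ω) := fun a => by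
    show (f₁ (α a) : Ω) = (g₁ (E ⟨a, hQR.le a.2⟩) : Ω)
    rw [hg₁c]
    exact congrArg (fun z : R' => (g₁ z : Ω)) (Subtype.ext (hc a))
  have hR₀U : R₀ ≤ T₁ ⊓ T₂ := hrec.1
  haveI := finite_mulAut_of_le hR₀U
  set K₀ := stabAut (c.meetSys n) R₀ Ps with hK₀def
  obtain ⟨W, hW⟩ := hst
  set Rp := normalizerIn N R with hRpdef
  have hRRp : R < Rp := lt_normalizerIn (hS.to_le hNU) hlt
  have hRpN : Rp ≤ N := normalizerIn_le R
  have hx : ∀ g (hg : g ∈ Rp), MulAut.congr Θ (conjAut R hg.2) ∈ K₀ := by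
    intro g hg
    refine ⟨congr_mem_autGroup hΘ (autInducedBy_le_autGroup hRU
      (conjAut_mem_autInducedBy hg.2 (hNU hg.1))), fun x => ?_⟩
    obtain ⟨r, rfl⟩ := Θ.surjective x
    rw [show MulAut.congr Θ (conjAut R hg.2) (Θ r) = Θ (conjAut R hg.2 r) by simp [MulAut.congr],
      ← mem_iff_of_compat Θ θ hQR.le hθc, ← mem_iff_of_compat Θ θ hQR.le hθc, coe_conjAut]
    exact Subgroup.mem_normalizer_iff.1 hg.1.2 _
  let τ : Rp →* K₀ :=
    { toFun := fun g => ⟨_, hx g g.2⟩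
      map_one' := Subtype.ext (by
        show MulAut.congr Θ (conjAut R _) = 1
        rw [show conjAut R (show (1 : Ω) ∈ Subgroup.normalizer (R : Set Ω) from Subgroup.one_mem _) = 1
          from map_one R.normalizerMonoidHom, map_one])
      map_mul' := fun a b => Subtype.ext (by
        show MulAut.congr Θ (conjAut R _) = _
        rw [conjAut_mul a.2.2 b.2.2, map_mul]
        rfl) }
  have hRpp : IsPGroup p Rp := hS.to_le (hRpN.trans hNU)
  obtain ⟨W', hW'⟩ := ((hRpp.to_subgroup ⊤).map τ).exists_le_sylow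
  obtain ⟨k, hk⟩ := MulAction.exists_smul_eq K₀ W' W
  let γ : R ≃* R₀ := Θ.trans (k : MulAut R₀)
  have hγ : ExtIso (c.meetSys n) Rp (normalizerIn (T₁ ⊓ T₂) R₀) γ := by
    refine exists_extIso_of_receptive hrec (hΘ.trans ((mem_autGroup hR₀U).1 k.2.1)) hRRp.le
      (le_inf (hRpN.trans hNU) inf_le_right) fun g hg => ?_
    have h1 : k * τ ⟨g, hg⟩ * k⁻¹ ∈ (W : Subgroup K₀) := by
      rw [← hk, Sylow.coe_subgroup_smul]
      exact Subgroup.smul_mem_pointwise_smul _ (MulAut.conj k) _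
        (hW' ⟨⟨g, hg⟩, Subgroup.mem_top _, rfl⟩)
    rw [hW, Subgroup.mem_subgroupOf] at h1
    convert h1 using 1
    exact MulEquiv.ext fun x => rfl
  let ρk : MulAut Ps := restrAut hPsR k
  let θ' : Qd ≃* Ps := θ.trans ρk
  have hθR : ExtIso (c.meetSys n) Rp (normalizerIn (T₁ ⊓ T₂) Ps) θ' := by
    have h1 := hγ.restrict (e := θ') hQR.le fun a => by
      show ((restrAut hPsR k (θ a) : Ps) : Ω) = ((k : MulAut R₀) (Θ ⟨a, hQR.le a.2⟩) : Ω)
      rw [coe_restrAut]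
      exact congrArg (fun z : R₀ => ((k : MulAut R₀) z : Ω)) (Subtype.ext (hθc a))
    exact (h1.normalizes (hRpN.trans inf_le_right)).mono h1.1 le_rfl inf_le_right
  have hαμ : (θ'.trans χ : MulAut Qd) ∈ c.kGen Qd := by
    have hcRp : Nat.card R < Nat.card Rp := by
      haveI := finite_of_le (hRpN.trans hNU)
      by_contra hh
      exact hRRp.ne (Subgroup.eq_of_le_of_card_ge hRRp.le (not_lt.1 hh))
    have := card_le_of_le (hRpN.trans hNU)
    exact ih (Nat.card ↥(T₁ ⊓ T₂) - Nat.card Rp) (by omega) Rp _ (by omega) (hQR.trans hRRp) hRpN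
      (hθR.trans hχ)
  -- the correction at `R₀`
  have hFR₀ : F.IsConj R' R₀ := c.isConj_sub hR'R₀
  have hR₀c : UCentric F (T₁ ⊓ T₂) R₀ := (hQ.mono hQR' (hR'N.trans hNU)).of_conj c.closed hFR₀
  have hcR₀ : n < Nat.card R₀ := by rw [← card_eq_of_isConj hR₀]; exact hcard
  have hR₀n : R₀ ≤ Subgroup.normalizer (Ps : Set Ω) :=
    normalizes_of_compat g₁ f₁ hQR' hPsR hg₁c (hR'N.trans inf_le_right)
  have hPsc : UCentric F (T₁ ⊓ T₂) Ps :=
    hQ.of_conj c.closed (c.isConj_sub (isConj_iff.2 ⟨f₁, hf₁.isoIn⟩))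
  have hρk : ρk ∈ c.kGen Ps := c.kGen_restr hPsc hPsR hR₀U hR₀n
    (hup R₀ hR₀c hcR₀ (c.autGroup_level_le R₀ k.2.1)) fun x => coe_restrAut hPsR k x
  have hχF : IsoIn F χ := c.meetSys_sub n _ hχ.isoIn
  have h := mul_mem (mul_mem (inv_mem hμ) (c.congr_mem_kGen hχF (inv_mem hρk))) hαμ
  convert h using 1
  refine MulEquiv.ext fun x => ?_
  show α x = f₁.symm (χ.symm (χ (ρk⁻¹ (χ.symm (χ (ρk (f₁ (α x))))))))
  rw [MulEquiv.symm_apply_apply, MulEquiv.symm_apply_apply, MulAut.inv_apply_self, MulEquiv.symm_apply_apply]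

end MeetCtx

end Cfsg.Lib.FusionSys
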