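import Cfsg.Agent.Lib.FusionSys.MeetExtGen
import Cfsg.Agent.Lib.FusionSys.Inner

/-!
The system generated by the good automorphisms is saturated.
-/

set_option autoImplicit false
set_option linter.style.haveILetI false
set_option maxHeartbeats 800000

namespace Cfsg.Lib.FusionSys

open Cfsg Cfsg.FusionSystem

variable {Ω : Type*} [Group Ω] {S T₁ T₂ : Subgroup Ω} {F : FusionSystem S} {E₁ : FusionSystem T₁}
  {E₂ : FusionSystem T₂} {p : ℕ}

namespace MeetCtx

variable (c : MeetCtx F E₁ E₂ p)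
include c
variable [Finite S] [Fact p.Prime]

theorem bigIso_level {n : ℕ} {R A B : Subgroup Ω} (hn : Nat.card R = n)
    (hlt : n < Nat.card ↥(T₁ ⊓ T₂)) (e : A ≃* B) (he : IsoIn (c.meetSys n) e)
    (hA : (c.meetSys n).IsConj R A) : BigIso (c.meetSys n) e := by
  haveI := finite_of_le c.closed.1
  refine bigIso_of_generated {M | n < Nat.card M} (fun M hM M' hM' => ?_) (fun E hE => ?_) ?_ (hn ▸ hlt) e he hA
  · show n < Nat.card M'
    rw [← card_eq_of_isConj hM']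
    exact hM
  · exact c.meetSys_le fun M hM hcard a ha =>
      (mem_autGroup hM.1).2 (hE M hcard ((mem_autGroup hM.1).1 (c.gen_meetSys n M hM hcard ha)))
  · show ¬ n < Nat.card R
    omega

/-- At self-centralizing classes of a level the automizer of a member with largest normalizer is the expected one. -/
theorem uCentric_level {n : ℕ}
    (hup : ∀ R : Subgroup Ω, R ≤ T₁ ⊓ T₂ → n < Nat.card R → GoodClass (c.meetSys 0) p R ∧
      (UCentric F (T₁ ⊓ T₂) R → (c.meetSys 0).autGroup R ≤ c.kGen R))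
    (hgood : ∀ R : Subgroup Ω, R ≤ T₁ ⊓ T₂ → Nat.card R = n → GoodAbove (c.meetSys n) p R)
    {Qd : Subgroup Ω} (hQ : UCentric F (T₁ ⊓ T₂) Qd) (hn : Nat.card Qd = n) (hmax : c.UMax Qd) :
    (c.meetSys 0).autGroup Qd ≤ c.kGen Qd ∧
      ∀ A, (c.meetSys 0).IsConj Qd A → ToP (c.meetSys 0) Qd A := by
  haveI := finite_of_le c.closed.1
  have hS := c.pS.to_le c.closed.1
  suffices h : (c.meetSys n).autGroup Qd ≤ c.kGen Qd ∧
      ∀ A, (c.meetSys n).IsConj Qd A → ToP (c.meetSys n) Qd A by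
    refine ⟨fun β hβ => ?_, fun A hA => ?_⟩
    · obtain ⟨a, ha, ψ, hψ, hψe⟩ := (c.meetSys_level n ((mem_autGroup hQ.1).1 hβ)).2 hn
      have hr : ψ.range = Qd := Subgroup.ext fun y =>
        ⟨fun ⟨x, hx⟩ => by
          rw [← hx, show x = a (a⁻¹ x) from (MulAut.apply_inv_self _ a x).symm, ← hψe]
          exact (β _).2,
        fun hy => ⟨a (β⁻¹ ⟨y, hy⟩), by
          rw [← hψe]
          exact congrArg Subtype.val (MulAut.apply_inv_self _ β ⟨y, hy⟩)⟩⟩
      have hb : β = (homIso hψ hr : MulAut Qd) * a := MulEquiv.ext fun x => Subtype.ext (hψe x)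
      rw [hb]
      refine mul_mem (h.1 ((mem_autGroup hQ.1).2 (isoIn_homIso hψ hr))) ?_
      rcases ha with rfl | ⟨-, ha⟩
      · exact one_mem _
      · exact c.aGen_le_kGen Qd ha
    · obtain ⟨e, hA, ψ, hψ, hv, he⟩ := h.2 A (c.isConj_level hn.ge hA)
      exact ⟨e, hA, ψ, c.meetSys_mono (Nat.zero_le n) _ hψ, hv, he⟩
  rcases lt_or_eq_of_le (card_le_of_le hQ.1 : Nat.card Qd ≤ Nat.card ↥(T₁ ⊓ T₂)) with hlt | heq
  swap
  · have hQU : Qd = T₁ ⊓ T₂ := eq_of_le_of_card_le le_rfl hQ.1 heq.ge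
    subst hQU
    constructor
    · intro β hβ
      have hin : c.meetSys n ≤ innerFusionSystem (T₁ ⊓ T₂) := c.meetSys_le fun M hM hcard => by
        have := card_le_of_le hM.1
        omega
      obtain ⟨-, g, hg, hge⟩ := hin _ ((mem_autGroup le_rfl).1 hβ)
      exact c.autInducedBy_le_kGen c.closed.1 (mem_autInducedBy.2 ⟨g, hg, hge⟩)
    · intro A hA
      obtain rfl := eq_top_of_isConj hA
      exact ⟨MulEquiv.refl _, extIso_refl _ (normalizerIn_le _) (le_normalizerIn le_rfl)⟩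
  have hbig : ∀ (A B : Subgroup Ω) (e : A ≃* B), IsoIn (c.meetSys n) e → (c.meetSys n).IsConj Qd A →
      BigIso (c.meetSys n) e := fun A B e he hA => c.bigIso_level hn (hn ▸ hlt) e he hA
  have hclass : ∀ A, (c.meetSys n).IsConj Qd A → ToP (c.meetSys n) Qd A := fun A hA =>
    toP_of_isConj hS (hgood Qd hQ.1 hn) hbig (fun A hA => hmax A (c.isConj_sub hA)) hA
  refine ⟨(autGroup_le_closure_extGen hS hclass hbig hQ.1).trans ((Subgroup.closure_le _).2 ?_), hclass⟩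
  rintro α ⟨R, h1, h2, h3⟩
  exact c.extGen_le_kGen hQ hn (fun R hR hcard => (hup R hR.1 hcard).2 hR) (hgood Qd hQ.1 hn) hclass
    _ R α (Nat.le_add_left _ _) h1 h2 h3

/-- The step of the downward induction. -/
theorem meet_step {n : ℕ}
    (hup : ∀ R : Subgroup Ω, R ≤ T₁ ⊓ T₂ → n < Nat.card R → GoodClass (c.meetSys 0) p R ∧
      (UCentric F (T₁ ⊓ T₂) R → (c.meetSys 0).autGroup R ≤ c.kGen R))
    {R : Subgroup Ω} (hR : R ≤ T₁ ⊓ T₂) (hn : Nat.card R = n) :
    GoodClass (c.meetSys 0) p R ∧ (UCentric F (T₁ ⊓ T₂) R → (c.meetSys 0).autGroup R ≤ c.kGen R) := by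
  haveI := finite_of_le c.closed.1
  have hS := c.pS.to_le c.closed.1
  have hgood : ∀ R : Subgroup Ω, R ≤ T₁ ⊓ T₂ → Nat.card R = n → GoodAbove (c.meetSys n) p R := by
    intro R _ hn M hM hcard
    rw [hn] at hcard
    exact goodClass_congr hM
      (fun A hA => c.meetSys_hom_eq (Or.inl (by rwa [← card_eq_of_isConj hA])))
      (fun M' _ hc => (c.meetSys_hom_eq (Or.inl (lt_of_lt_of_le hcard hc))).subset) (hup M hM hcard).1
  by_cases hc : UCentric F (T₁ ⊓ T₂) R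
  · obtain ⟨Qd, hQd, hmax⟩ := c.exists_uMax_conj hR
    have hQdc : UCentric F (T₁ ⊓ T₂) Qd := hc.of_conj c.closed (c.isConj_sub hQd)
    obtain ⟨hK, htop⟩ := c.uCentric_level hup hgood hQdc ((card_eq_of_isConj hQd).symm.trans hn) hmax
    refine ⟨⟨Qd, hQd, ⟨hQdc.1, ?_⟩, c.isReceptive_meet hQdc hmax hK htop⟩, fun _ β hβ => ?_⟩
    · haveI := finite_of_le hQdc.1
      obtain ⟨P, hP⟩ := c.sylow_of_uMax hQdc hmax
      have heq : (c.meetSys 0).autGroup Qd = c.kGen Qd :=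
        le_antisymm hK (c.kGen_le_of_gen hQdc hmax (c.gen_meetSys 0 Qd hQdc Nat.card_pos))
      rw [heq]
      exact ⟨P, hP⟩
    · obtain ⟨e, he⟩ := isConj_iff.1 hQd
      have h2 := c.congr_mem_kGen (c.meetSys_sub 0 _ he.symm : IsoIn F e.symm)
        (hK (congr_mem_autGroup he hβ))
      convert h2 using 1
      exact MulEquiv.ext fun x => by simp [MulAut.congr]
  refine ⟨?_, fun h => absurd h hc⟩
  have hlt : n < Nat.card ↥(T₁ ⊓ T₂) := by
    refine lt_of_le_of_ne (hn ▸ card_le_of_le hR) fun h => hc ?_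
    rw [eq_of_le_of_card_le le_rfl hR (by omega)]
    exact c.uCentric_top
  have hclass : ∀ A, (c.meetSys 0).IsConj R A → (c.meetSys 0).Hom A = (c.meetSys n).Hom A := fun A hA =>
    c.meetSys_hom_eq (Or.inr ⟨(card_eq_of_isConj hA).symm.trans hn, fun h =>
      hc (h.of_conj c.closed (isConj_symm (c.isConj_sub hA)))⟩)
  refine goodClass_congr hR (fun A hA => (hclass A hA).symm) (fun M _ _ => c.meetSys_mono (Nat.zero_le n) M) ?_
  -- the classes outside are those of the level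
  have hsub : ∀ {A B}, (c.meetSys n).IsConj A B → (c.meetSys 0).IsConj A B := by
    rintro A B ⟨φ, hφ, hr⟩
    exact ⟨φ, c.meetSys_mono (Nat.zero_le n) A hφ, hr⟩
  obtain ⟨P₁, hP₁, hmax₁⟩ := exists_max_conj (F := c.meetSys n) hR
    (fun Q => Nat.card (normalizerIn (T₁ ⊓ T₂) Q)) (fun Q _ => card_le_of_le (normalizerIn_le Q))
  have facts : ∀ Pm, (c.meetSys n).IsConj R Pm →
      (∀ A, (c.meetSys n).IsConj R A →
        Nat.card (normalizerIn (T₁ ⊓ T₂) A) ≤ Nat.card (normalizerIn (T₁ ⊓ T₂) Pm)) →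
      GoodAbove (c.meetSys n) p Pm ∧
        (∀ (A B : Subgroup Ω) (e : A ≃* B), IsoIn (c.meetSys n) e → (c.meetSys n).IsConj Pm A →
          BigIso (c.meetSys n) e) ∧
        (∀ A, (c.meetSys n).IsConj Pm A →
          Nat.card (normalizerIn (T₁ ⊓ T₂) A) ≤ Nat.card (normalizerIn (T₁ ⊓ T₂) Pm)) ∧
        (∀ A, (c.meetSys n).IsConj Pm A → ToP (c.meetSys n) Pm A) := by
    intro Pm hPm hmax
    have hg := hgood Pm (isConj_le hPm).2 ((card_eq_of_isConj hPm).symm.trans hn)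
    have hb : ∀ (A B : Subgroup Ω) (e : A ≃* B), IsoIn (c.meetSys n) e → (c.meetSys n).IsConj Pm A →
        BigIso (c.meetSys n) e := fun A B e he hA => c.bigIso_level hn hlt e he (isConj_trans hPm hA)
    have hm : ∀ A, (c.meetSys n).IsConj Pm A →
        Nat.card (normalizerIn (T₁ ⊓ T₂) A) ≤ Nat.card (normalizerIn (T₁ ⊓ T₂) Pm) :=
      fun A hA => hmax A (isConj_trans hPm hA)
    exact ⟨hg, hb, hm, fun A hA => toP_of_isConj hS hg hb hm hA⟩
  obtain ⟨hg₁, hb₁, hm₁, hc₁⟩ := facts P₁ hP₁ hmax₁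
  have hP₁U : P₁ ≤ T₁ ⊓ T₂ := (isConj_le hP₁).2
  have hlt₁ : P₁ < coreNorm (c.meetSys n) p P₁ := by
    refine lt_coreNorm hS hc₁ hP₁U (Or.inl fun hcen => hc ?_)
    have hcen0 : (c.meetSys 0).IsCentric P₁ := ⟨hcen.1, fun Q hQ => hcen.2 Q
      (c.isConj_level (by rw [← card_eq_of_isConj hP₁]; omega) hQ)⟩
    exact (c.uCentric_of_centric hcen0).of_conj c.closed (isConj_symm (c.isConj_sub hP₁))
  obtain ⟨Pm, hconj, hle, hL⟩ := exists_good_coreNorm hS hg₁ hP₁U hlt₁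
  obtain ⟨-, hrec, hst⟩ := hL hm₁
  have hPm : (c.meetSys n).IsConj R Pm := isConj_trans hP₁ hconj
  obtain ⟨hg, hb, -, hcl⟩ := facts Pm hPm fun A hA => (hmax₁ A hA).trans hle
  have hPmU : Pm ≤ T₁ ⊓ T₂ := (isConj_le hPm).2
  obtain ⟨hfa, hr⟩ := good_of_coreNorm hS hcl hPmU
    (fun α hα => extIso_coreNorm_of_mem hS hg hcl hb hPmU hα) hrec hst
  exact ⟨Pm, hPm, hfa, hr⟩

theorem meet_all : ∀ (m : ℕ) (R : Subgroup Ω), R ≤ T₁ ⊓ T₂ →
    Nat.card ↥(T₁ ⊓ T₂) ≤ Nat.card R + m →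
    GoodClass (c.meetSys 0) p R ∧ (UCentric F (T₁ ⊓ T₂) R → (c.meetSys 0).autGroup R ≤ c.kGen R) := by
  haveI := finite_of_le c.closed.1
  intro m
  induction m using Nat.strong_induction_on with
  | _ m ih =>
    intro R hR hm
    refine c.meet_step (fun M hM hcard => ?_) hR rfl
    have := card_le_of_le hM
    exact ih (Nat.card ↥(T₁ ⊓ T₂) - Nat.card M) (by omega) M hM (by omega)

theorem isSaturated_meet : (c.meetSys 0).IsSaturated p := fun R hR =>
  (c.meet_all _ R hR (Nat.le_add_left _ _)).1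

theorem autGroup_meet_le {R : Subgroup Ω} (hR : UCentric F (T₁ ⊓ T₂) R) :
    (c.meetSys 0).autGroup R ≤ c.kGen R :=
  (c.meet_all _ R hR.1 (Nat.le_add_left _ _)).2 hR

end MeetCtx

end Cfsg.Lib.FusionSys
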