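import Cfsg.Agent.Lib.FusionSys.MeetSystem
import Cfsg.Agent.Lib.FusionSys.SatFamily

/-!
Receptivity at the members of a self-centralizing class with largest normalizer, and the comparison of the
classes of the levels.
-/

set_option autoImplicit false
set_option linter.style.haveILetI false
set_option maxHeartbeats 800000

namespace Cfsg.Lib.FusionSys

open Cfsg Cfsg.FusionSystem

variable {Ω : Type*} [Group Ω] {S T₁ T₂ : Subgroup Ω} {F : FusionSystem S} {E₁ : FusionSystem T₁}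
  {E₂ : FusionSystem T₂} {p : ℕ}

/-- A class with the same maps has a fully automized receptive member in both systems. -/
theorem goodClass_congr {V : Subgroup Ω} {D D' : FusionSystem V} {R : Subgroup Ω} [Finite V] (hR : R ≤ V)
    (heq : ∀ A, D.IsConj R A → D'.Hom A = D.Hom A)
    (hext : ∀ M : Subgroup Ω, M ≤ V → Nat.card R ≤ Nat.card M → D'.Hom M ⊆ D.Hom M)
    (h : GoodClass D' p R) : GoodClass D p R := by
  obtain ⟨Q, ⟨φ, hφ, hr⟩, ⟨hQV, hfa⟩, -, hrec⟩ := h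
  rw [heq R (isConj_refl D hR)] at hφ
  have hQ : D.IsConj R Q := ⟨φ, hφ, hr⟩
  refine ⟨Q, hQ, ⟨hQV, ?_⟩, hQV, fun A ψ hψ hrA => ?_⟩
  · have h1 : D'.autGroup Q = D.autGroup Q := by
      unfold FusionSystem.autGroup
      rw [heq Q hQ]
    rwa [h1] at hfa
  · have hA : D.IsConj R A := isConj_trans hQ (isConj_symm ⟨ψ, hψ, hrA⟩)
    obtain ⟨χ, hχ, hχe⟩ := hrec A ψ (by rwa [heq A hA]) hrA
    refine ⟨χ, hext _ (hom_le hχ) ?_ hχ, hχe⟩
    haveI := finite_of_le (hom_le hχ)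
    rw [card_eq_of_isConj hA]
    exact Nat.card_le_card_of_injective _ (Subgroup.inclusion_injective (le_extender (hom_le hψ) (hom_mem hψ)))

/-- An automorphism carrying `A` to `B` carries the normalizer of `A` onto that of `B`. -/
theorem card_normalizerIn_le_of_aut {V A B : Subgroup Ω} [Finite V] (α : MulAut V) (hA : A ≤ V)
    (hmap : ∀ x : V, (x : Ω) ∈ A ↔ ((α x : V) : Ω) ∈ B) :
    Nat.card (normalizerIn V B) ≤ Nat.card (normalizerIn V A) := by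
  haveI := finite_of_le (normalizerIn_le (S := V) A)
  haveI := finite_of_le hA
  have hn : ∀ t : normalizerIn V B, ((α⁻¹ ⟨(t : Ω), t.2.1⟩ : V) : Ω) ∈ normalizerIn V A := by
    intro t
    refine ⟨(α⁻¹ _).2, Subgroup.mem_normalizer_fintype (S := (A : Set Ω)) fun y hy => ?_⟩
    set s := α⁻¹ ⟨(t : Ω), t.2.1⟩ with hs
    refine (hmap (s * ⟨y, hA hy⟩ * s⁻¹)).2 ?_
    rw [map_mul, map_mul, map_inv, hs, MulAut.apply_inv_self]
    exact (Subgroup.mem_normalizer_iff.1 t.2.2 _).1 ((hmap ⟨y, hA hy⟩).1 hy)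
  refine Nat.card_le_card_of_injective (fun t => (⟨_, hn t⟩ : normalizerIn V A)) fun a b hab => ?_
  have h1 : α⁻¹ ⟨(a : Ω), a.2.1⟩ = α⁻¹ ⟨(b : Ω), b.2.1⟩ :=
    Subtype.ext (congrArg (fun z : normalizerIn V A => (z : Ω)) hab :)
  exact Subtype.ext (congrArg (fun z : V => (z : Ω)) (α⁻¹.injective h1) :)

/-- The inner automorphisms are carried onto themselves. -/
theorem inn_le_map_conj {Q : Subgroup Ω} {X : Subgroup (MulAut Q)} (hX : Inn Q ≤ X) (b : MulAut Q) :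
    Inn Q ≤ X.map (MulAut.conj b).toMonoidHom := by
  rintro _ ⟨q, rfl⟩
  refine ⟨MulAut.conj (b⁻¹ q), hX ⟨_, rfl⟩, MulEquiv.ext fun x => ?_⟩
  show b (b⁻¹ q * b⁻¹ x * (b⁻¹ q)⁻¹) = q * x * q⁻¹
  rw [map_mul, map_mul, map_inv, MulAut.apply_inv_self, MulAut.apply_inv_self]

namespace MeetCtx

variable (c : MeetCtx F E₁ E₂ p)
include c
variable [Finite S] [Fact p.Prime]

theorem isConj_sub {n : ℕ} {R A : Subgroup Ω} (h : (c.meetSys n).IsConj R A) : F.IsConj R A := by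
  obtain ⟨φ, hφ, hr⟩ := h
  exact ⟨φ, c.meetSys_sub n R hφ, hr⟩

theorem uCentric_top : UCentric F (T₁ ⊓ T₂) (T₁ ⊓ T₂) := by
  refine ⟨le_rfl, fun Q hQ => ?_⟩
  haveI := finite_of_le c.closed.1
  obtain ⟨φ, hφ, rfl⟩ := id hQ
  have hle : φ.range ≤ T₁ ⊓ T₂ := by
    rintro _ ⟨x, rfl⟩
    exact stronglyClosed_apply_mem c.closed hφ x.2
  rw [eq_of_le_of_card_le c.closed.1 hle (card_eq_of_isConj hQ).le]
  exact centralizerIn_le _

/-- Every class of the meet has a member with largest normalizer in the intersection among all conjugates. -/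
theorem exists_uMax_conj {R : Subgroup Ω} (hR : R ≤ T₁ ⊓ T₂) :
    ∃ Qd, (c.meetSys 0).IsConj R Qd ∧ c.UMax Qd := by
  obtain ⟨Q', hQ', hfn⟩ := exists_isFullyNormalized F (hR.trans c.closed.1)
  obtain ⟨φ, hφ, hr⟩ := id hQ'
  haveI := finite_of_le c.closed.1
  have hQ'U : Q' ≤ T₁ ⊓ T₂ := by
    rw [← hr]
    rintro _ ⟨x, rfl⟩
    exact stronglyClosed_apply_mem c.closed hφ (hR x.2)
  have hmax := c.uMax_of_fn c.sat (isInvariantIn_self F) c.closed.1 hQ'U hfn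
  obtain ⟨α, hα, φ₀, hφ₀, he⟩ := c.frattini_meet c.sat (isInvariantIn_self F) c.closed.1 hR hφ
  refine ⟨φ₀.range, ⟨φ₀, hφ₀, rfl⟩, fun Q'' hQ'' => ?_⟩
  have h1 := hmax Q'' (isConj_trans (isConj_symm hQ')
    (isConj_trans (c.isConj_sub ⟨φ₀, hφ₀, rfl⟩) hQ''))
  refine h1.trans (card_normalizerIn_le_of_aut α (range_le hφ₀) fun x => ?_)
  rw [← hr]
  constructor
  · rintro ⟨r, hx⟩
    exact ⟨r, by rw [he r (hom_mem hφ₀ r)]; exact congrArg (fun z : ↥(T₁ ⊓ T₂) => (α z : Ω)) (Subtype.ext hx)⟩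
  · rintro ⟨r, hx⟩
    refine ⟨r, ?_⟩
    rw [he r (hom_mem hφ₀ r)] at hx
    exact congrArg Subtype.val (α.injective (Subtype.ext hx))

/-- Centric subgroups of the meet contain their centralizer in the intersection for all conjugates. -/
theorem uCentric_of_centric {R : Subgroup Ω} (h : (c.meetSys 0).IsCentric R) : UCentric F (T₁ ⊓ T₂) R := by
  refine ⟨h.1, ?_⟩
  rintro _ ⟨φ, hφ, rfl⟩ y hy
  obtain ⟨α, hα, φ₀, hφ₀, he⟩ := c.frattini_meet c.sat (isInvariantIn_self F) c.closed.1 h.1 hφ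
  obtain ⟨hyU, hyc⟩ := mem_centralizerIn.1 hy
  set z := α⁻¹ ⟨y, hyU⟩ with hz
  have hzc : (z : Ω) ∈ centralizerIn (T₁ ⊓ T₂) φ₀.range := by
    refine mem_centralizerIn.2 ⟨z.2, ?_⟩
    rintro _ ⟨x, rfl⟩
    refine congrArg Subtype.val (show z * ⟨φ₀ x, hom_mem hφ₀ x⟩ = ⟨φ₀ x, hom_mem hφ₀ x⟩ * z from ?_)
    apply α.injective
    rw [map_mul, map_mul, hz, MulAut.apply_inv_self]
    refine Subtype.ext ?_
    show y * _ = _ * y
    rw [← he]
    exact hyc _ ⟨x, rfl⟩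
  obtain ⟨x, hx⟩ := h.2 _ ⟨φ₀, hφ₀, rfl⟩ hzc
  refine ⟨x, ?_⟩
  rw [he x (hom_mem hφ₀ x), show (⟨φ₀ x, hom_mem hφ₀ x⟩ : ↥(T₁ ⊓ T₂)) = z from Subtype.ext hx, hz,
    MulAut.apply_inv_self]

/-- The classes at a level agree with those of the meet. -/
theorem isConj_level {n : ℕ} {R A : Subgroup Ω} (hn : n ≤ Nat.card R) (h : (c.meetSys 0).IsConj R A) :
    (c.meetSys n).IsConj R A := by
  obtain ⟨φ, hφ, rfl⟩ := h
  rcases lt_or_eq_of_le hn with hlt | heq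
  · exact ⟨φ, (c.meetSys_level n hφ).1 hlt, rfl⟩
  · obtain ⟨a, -, ψ, hψ, hψe⟩ := (c.meetSys_level n hφ).2 heq.symm
    exact ⟨ψ, hψ, Subgroup.ext fun y => ⟨fun ⟨x, hx⟩ => ⟨a⁻¹ x, by rw [hψe, MulAut.apply_inv_self, hx]⟩,
      fun ⟨x, hx⟩ => ⟨a x, by rw [← hψe, hx]⟩⟩⟩

/-- A coprime automorphism of the automizer normalizing induced automorphisms extends to their elements. -/
theorem extIso_coprime {Qd : Subgroup Ω} (hQ : UCentric F (T₁ ⊓ T₂) Qd) {X : Subgroup (MulAut Qd)}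
    (hI : Inn Qd ≤ X) (hX : X ≤ autInducedBy (T₁ ⊓ T₂) Qd) {b : MulAut Qd} (hb : b ∈ c.kGen Qd)
    (hcop : (orderOf b).Coprime p) (hbX : ∀ k ∈ X, b * k * b⁻¹ ∈ X) :
    ExtIso (c.meetSys 0) (nK (T₁ ⊓ T₂) Qd X) (nK (T₁ ⊓ T₂) Qd X) (b : Qd ≃* Qd) := by
  set M := nK (T₁ ⊓ T₂) Qd X with hM
  have hMU : M ≤ T₁ ⊓ T₂ := nK_le X
  have hQM : Qd ≤ M := fun g hg => mem_nK.2 ⟨hQ.1 hg, MulAut.conj ⟨g, hg⟩, hI ⟨_, rfl⟩, fun q => rfl⟩
  have hMn : M ≤ Subgroup.normalizer (Qd : Set Ω) := fun g hg => nK_normalizes hg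
  obtain ⟨e, he, -, hev⟩ := c.hGood_ext hQ hQM hMU hMn
    (c.aGen_le_hGood Qd (c.mem_aGen_of_coprime hQ hb hcop)) hcop fun m hm => by
      obtain ⟨hmU, k, hk, hke⟩ := mem_nK.1 hm
      have hk' := hbX k hk
      obtain ⟨m', hm', hme⟩ := mem_autInducedBy.1 (hX hk')
      refine ⟨m', mem_nK.2 ⟨hm', _, hk', hme⟩, fun x hx => ?_⟩
      rw [← hme (b x), show (⟨_, hx⟩ : Qd) = k x from Subtype.ext (hke x).symm, MulAut.mul_apply,
        MulAut.mul_apply, MulAut.inv_apply_self]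
  have hMc := hQ.mono hQM hMU
  haveI := finite_of_le (hMU.trans c.closed.1)
  refine ⟨hQM, _, (mem_autGroup hMU).1 (c.gen_meetSys 0 M hMc Nat.card_pos he), fun x => (e x).2,
    fun x hx hT => hev ⟨x, hx⟩⟩

omit [Finite S] [Fact p.Prime] in
/-- An automorphism induced by the intersection extends by conjugation. -/
theorem extIso_induced {Qd T : Subgroup Ω} (hQT : Qd ≤ T) (hT : T ≤ T₁ ⊓ T₂) {b : MulAut Qd}
    (hb : b ∈ autInducedBy (T₁ ⊓ T₂) Qd) : ExtIso (c.meetSys 0) T (T₁ ⊓ T₂) (b : Qd ≃* Qd) := by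
  obtain ⟨g, hg, hge⟩ := mem_autInducedBy.1 hb
  exact ⟨hQT, _, (c.meetSys 0).conj_mem hT hg,
    fun x => mul_mem (mul_mem hg (hT x.2)) (inv_mem hg), fun x hx hT' => (hge ⟨x, hx⟩).symm⟩

omit [Finite S] [Fact p.Prime] in
/-- Values of an extension induce the transported automorphisms. -/
theorem extIso_into_pre {Qd T U' : Subgroup Ω} {b : MulAut Qd} {X : Subgroup (MulAut Qd)}
    (h : ExtIso (c.meetSys 0) T U' (b : Qd ≃* Qd)) (hT : T ≤ nK (T₁ ⊓ T₂) Qd X) :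
    ExtIso (c.meetSys 0) T (nK (T₁ ⊓ T₂) Qd (X.map (MulAut.conj b).toMonoidHom)) (b : Qd ≃* Qd) := by
  obtain ⟨hQT, ψ, hψ, -, he⟩ := h
  refine ⟨hQT, ψ, hψ, fun t => ?_, he⟩
  obtain ⟨-, k, hk, hke⟩ := mem_nK.1 (hT t.2)
  refine mem_nK.2 ⟨hom_mem hψ t, b * k * b⁻¹, ⟨k, hk, rfl⟩, fun q => ?_⟩
  obtain ⟨w, rfl⟩ := (b : Qd ≃* Qd).surjective q
  rw [MulAut.mul_apply, MulAut.mul_apply, MulAut.inv_apply_self]
  have h1 := he _ (k w).2 (hQT (k w).2)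
  rw [← h1, show (⟨((k w : Qd) : Ω), hQT (k w).2⟩ : T) = t * ⟨(w : Ω), hQT w.2⟩ * t⁻¹ from
    Subtype.ext (hke w), map_mul, map_mul, map_inv, he _ w.2]

/-- Elements of the automizer extend as far as they carry induced automorphisms to induced ones. -/
theorem extIso_conj_induced {Qd : Subgroup Ω} (hQ : UCentric F (T₁ ⊓ T₂) Qd) (hmax : c.UMax Qd) :
    ∀ (m : ℕ) (X : Subgroup (MulAut Qd)) (b : MulAut Qd),
      Nat.card (autInducedBy (T₁ ⊓ T₂) Qd) ≤ Nat.card X + m → Inn Qd ≤ X →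
      X ≤ autInducedBy (T₁ ⊓ T₂) Qd → b ∈ c.kGen Qd →
      X.map (MulAut.conj b).toMonoidHom ≤ autInducedBy (T₁ ⊓ T₂) Qd →
      ExtIso (c.meetSys 0) (nK (T₁ ⊓ T₂) Qd X) (T₁ ⊓ T₂) (b : Qd ≃* Qd) := by
  set P := autInducedBy (T₁ ⊓ T₂) Qd with hPdef
  have hQS := hQ.1.trans c.closed.1
  haveI := finite_of_le hQS
  haveI : Finite (MulAut Qd) := Finite.of_injective (fun f => (f : Qd → Qd)) DFunLike.coe_injective
  have hPp : IsPGroup p P := isPGroup_autInducedBy (c.pS.to_le c.closed.1)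
  have hPK : P ≤ c.kGen Qd := c.autInducedBy_le_kGen hQS
  obtain ⟨W, hW⟩ := c.sylow_of_uMax hQ hmax
  intro m
  induction m using Nat.strong_induction_on with
  | _ m ih =>
  intro X b hm hI hX hb hbX
  have hQX : Qd ≤ nK (T₁ ⊓ T₂) Qd X := fun g hg =>
    mem_nK.2 ⟨hQ.1 hg, MulAut.conj ⟨g, hg⟩, hI ⟨_, rfl⟩, fun q => rfl⟩
  have hcard : ∀ (Y : Subgroup (MulAut Qd)) (a : MulAut Qd),
      Nat.card (Y.map (MulAut.conj a).toMonoidHom) = Nat.card Y := fun Y a =>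
    Nat.card_congr (Subgroup.equivMapOfInjective Y _ (MulAut.conj a).injective).toEquiv.symm
  haveI := finite_of_le c.closed.1
  rcases lt_or_eq_of_le hX with hlt | heq
  swap
  · -- the automorphism normalizes the Sylow subgroup
    have hnorm : X.map (MulAut.conj b).toMonoidHom = X := Subgroup.eq_of_le_of_card_ge (hbX.trans heq.ge) (hcard X b).ge
    have hbn : b ∈ Subgroup.normalizer (X : Set (MulAut Qd)) :=
      Subgroup.mem_normalizer_fintype fun k hk => hnorm.le ⟨k, hk, rfl⟩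
    obtain ⟨i, j, hij, hi, l, hl⟩ := exists_pow_parts (c := c) b
    have hjP : b ^ j ∈ X := by
      let y : c.kGen Qd := ⟨b ^ j, pow_mem hb j⟩
      have hy : IsPGroup p (Subgroup.zpowers y) :=
        IsPGroup.iff_card.2 ⟨l, by rw [Nat.card_zpowers, ← Subgroup.orderOf_coe]; exact hl⟩
      have hyn : y ∈ Subgroup.normalizer ((W : Subgroup (c.kGen Qd)) : Set (c.kGen Qd)) := by
        refine Subgroup.mem_normalizer_fintype fun k hk => ?_
        rw [SetLike.mem_coe, hW, Subgroup.mem_subgroupOf, ← hPdef, ← heq] at hk ⊢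
        exact (Subgroup.mem_normalizer_iff.1 (pow_mem hbn j) _).1 hk
      have h1 : y ∈ Subgroup.zpowers y ⊓ (W : Subgroup (c.kGen Qd)) :=
        hy.inf_normalizer_sylow W ▸ (⟨Subgroup.mem_zpowers y, hyn⟩ :
          y ∈ Subgroup.zpowers y ⊓ Subgroup.normalizer ((W : Subgroup (c.kGen Qd)) : Set (c.kGen Qd)))
      have h2 : y ∈ (W : Subgroup (c.kGen Qd)) := h1.2
      rwa [hW, Subgroup.mem_subgroupOf, ← hPdef, ← heq] at h2
    have hjmap : X.map (MulAut.conj (b ^ j)).toMonoidHom = X := by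
      refine Subgroup.eq_of_le_of_card_ge ?_ (hcard X _).ge
      rintro _ ⟨k, hk, rfl⟩
      exact mul_mem (mul_mem hjP hk) (inv_mem hjP)
    have e1 := c.extIso_into_pre (c.extIso_induced hQX (nK_le X) (hX hjP)) le_rfl
    rw [hjmap] at e1
    have e2 := c.extIso_coprime hQ hI hX (pow_mem hb i) hi fun k hk =>
      (Subgroup.mem_normalizer_iff.1 (pow_mem hbn i) k).1 hk
    refine ((e1.trans e2).mono hQX le_rfl (nK_le X)).congr fun x => ?_
    show b x = (b ^ i) ((b ^ j) x)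
    rw [← MulAut.mul_apply, ← hij]
  -- a proper subgroup of the induced automorphisms
  let K : Subgroup (MulAut Qd) := c.kGen Qd
  let NX : Subgroup (MulAut Qd) := K ⊓ Subgroup.normalizer (X : Set (MulAut Qd))
  set Y := normalizerIn P X with hYdef
  have hXY : X < Y := lt_normalizerIn hPp hlt
  have hXYc : Nat.card X < Nat.card Y := by
    by_contra hh
    exact hXY.ne (Subgroup.eq_of_le_of_card_ge hXY.le (not_lt.1 hh))
  have hYN : Y ≤ NX := le_inf ((normalizerIn_le X).trans hPK) inf_le_right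
  have hNXK : NX ≤ K := inf_le_left
  obtain ⟨S₁, hS₁⟩ := ((hPp.to_le (normalizerIn_le X)).comap_subtype : IsPGroup p (Y.subgroupOf NX)).exists_le_sylow
  -- carry the Sylow subgroup of the normalizer into the induced automorphisms
  obtain ⟨W', hW'⟩ := ((S₁.isPGroup'.map NX.subtype).comap_subtype :
    IsPGroup p (((S₁ : Subgroup NX).map NX.subtype).subgroupOf K)).exists_le_sylow
  obtain ⟨j, hj⟩ := MulAction.exists_smul_eq K W' W
  have hjS : ∀ s : NX, s ∈ (S₁ : Subgroup NX) → (j : MulAut Qd) * s * (j : MulAut Qd)⁻¹ ∈ P := by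
    intro s hs
    have h1 : j * ⟨s, hNXK s.2⟩ * j⁻¹ ∈ (W : Subgroup K) := by
      rw [← hj, Sylow.coe_subgroup_smul]
      exact Subgroup.smul_mem_pointwise_smul _ (MulAut.conj j) _ (hW' ⟨s, hs, rfl⟩)
    rw [hW, Subgroup.mem_subgroupOf] at h1
    exact h1
  set X₂ := X.map (MulAut.conj (j : MulAut Qd)).toMonoidHom with hX₂def
  have hI₂ : Inn Qd ≤ X₂ := inn_le_map_conj hI _
  have hYP : Y.map (MulAut.conj (j : MulAut Qd)).toMonoidHom ≤ P := by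
    rintro _ ⟨y, hy, rfl⟩
    exact hjS ⟨y, hYN hy⟩ (hS₁ hy)
  have hX₂P : X₂ ≤ P := (Subgroup.map_mono hXY.le).trans hYP
  have hQX₂ : Qd ≤ nK (T₁ ⊓ T₂) Qd X₂ := fun g hg =>
    mem_nK.2 ⟨hQ.1 hg, MulAut.conj ⟨g, hg⟩, hI₂ ⟨_, rfl⟩, fun q => rfl⟩
  have hnKmono : ∀ {A B : Subgroup (MulAut Qd)}, A ≤ B → nK (T₁ ⊓ T₂) Qd A ≤ nK (T₁ ⊓ T₂) Qd B :=
    fun h g hg => by
      obtain ⟨hgU, k, hk, hke⟩ := mem_nK.1 hg
      exact mem_nK.2 ⟨hgU, k, h hk, hke⟩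
  have hmlt : ∀ {Z : Subgroup (MulAut Qd)}, Nat.card Y ≤ Nat.card Z → Z ≤ P →
      ∃ m' < m, Nat.card P ≤ Nat.card Z + m' := fun {Z} hZ hZP => by
    have := Subgroup.card_le_of_le hZP
    exact ⟨Nat.card P - Nat.card Z, by omega, by omega⟩
  have ej : ExtIso (c.meetSys 0) (nK (T₁ ⊓ T₂) Qd X) (nK (T₁ ⊓ T₂) Qd X₂) ((j : MulAut Qd) : Qd ≃* Qd) := by
    obtain ⟨m', hm', hm''⟩ := hmlt le_rfl (normalizerIn_le X)
    exact c.extIso_into_pre ((ih m' hm' Y _ hm'' (hI.trans hXY.le) (normalizerIn_le X) j.2 hYP).mono hQX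
      (hnKmono hXY.le) le_rfl) le_rfl
  -- the normalizer of the transported subgroup
  set X' := X.map (MulAut.conj b).toMonoidHom with hX'def
  have hX'lt : X' < P := lt_of_le_of_ne hbX fun h => by
    have := Subgroup.card_le_of_le hXY.le
    have h2 := hcard X b
    rw [← hX'def, h] at h2
    exact absurd (Subgroup.eq_of_le_of_card_ge hX (by omega)) hlt.ne
  set Y' := normalizerIn P X' with hY'def
  have hXY' : X' < Y' := lt_normalizerIn hPp hX'lt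
  have hXY'c : Nat.card X < Nat.card Y' := by
    rw [← hcard X b]
    by_contra hh
    exact hXY'.ne (Subgroup.eq_of_le_of_card_ge hXY'.le (not_lt.1 hh))
  let Y₀ := Y'.map (MulAut.conj b⁻¹).toMonoidHom
  have hY₀ : Y₀ ≤ NX := by
    rintro _ ⟨y, hy, rfl⟩
    refine ⟨(c.kGen Qd).mul_mem ((c.kGen Qd).mul_mem ((c.kGen Qd).inv_mem hb) (hPK hy.1)) (by simpa using hb), ?_⟩
    refine Subgroup.mem_normalizer_fintype fun k hk => ?_
    obtain ⟨k', hk', hke⟩ := (Subgroup.mem_normalizer_iff.1 hy.2 _).1 ⟨k, hk, rfl⟩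
    change (b⁻¹ * y * b⁻¹⁻¹) * k * (b⁻¹ * y * b⁻¹⁻¹)⁻¹ ∈ X
    rw [show (b⁻¹ * y * b⁻¹⁻¹) * k * (b⁻¹ * y * b⁻¹⁻¹)⁻¹ = b⁻¹ * (y * (b * k * b⁻¹) * y⁻¹) * b by group]
    change b * k' * b⁻¹ = y * (b * k * b⁻¹) * y⁻¹ at hke
    rw [← hke]
    simpa [mul_assoc] using hk'
  obtain ⟨S', hS'⟩ := (((hPp.to_le (normalizerIn_le X')).map _).comap_subtype :
    IsPGroup p (Y₀.subgroupOf NX)).exists_le_sylow
  obtain ⟨r, hr⟩ := MulAction.exists_smul_eq NX S' S₁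
  -- the part normalizing the transported subgroup
  have eg : ExtIso (c.meetSys 0) (nK (T₁ ⊓ T₂) Qd X₂) (nK (T₁ ⊓ T₂) Qd X₂)
      (((j : MulAut Qd) * r * (j : MulAut Qd)⁻¹ : MulAut Qd) : Qd ≃* Qd) := by
    have hU : nK (T₁ ⊓ T₂) Qd X₂ ≤ T₁ ⊓ T₂ := nK_le X₂
    let G₀ : Subgroup NX :=
      { carrier := {s | ExtIso (c.meetSys 0) (nK (T₁ ⊓ T₂) Qd X₂) (nK (T₁ ⊓ T₂) Qd X₂)
          (((j : MulAut Qd) * s * (j : MulAut Qd)⁻¹ : MulAut Qd) : Qd ≃* Qd)}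
        one_mem' := (extIso_refl (c.meetSys 0) hU hQX₂).congr fun x => by simp
        mul_mem' := fun {s t} hs ht => (ht.trans hs).congr fun x => by simp
        inv_mem' := fun {s} hs => (hs.symm_of_card hU le_rfl).congr fun x => by
          rw [MulEquiv.eq_symm_apply]
          simp }
    have hX₂n : ∀ s : NX, ∀ k ∈ X₂,
        ((j : MulAut Qd) * s * (j : MulAut Qd)⁻¹) * k * ((j : MulAut Qd) * s * (j : MulAut Qd)⁻¹)⁻¹ ∈ X₂ := by
      rintro s _ ⟨k, hk, rfl⟩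
      refine ⟨(s : MulAut Qd) * k * (s : MulAut Qd)⁻¹, (Subgroup.mem_normalizer_iff.1 s.2.2 k).1 hk, ?_⟩
      show (j : MulAut Qd) * ((s : MulAut Qd) * k * (s : MulAut Qd)⁻¹) * (j : MulAut Qd)⁻¹ =
        ((j : MulAut Qd) * s * (j : MulAut Qd)⁻¹) * ((j : MulAut Qd) * k * (j : MulAut Qd)⁻¹) *
          ((j : MulAut Qd) * s * (j : MulAut Qd)⁻¹)⁻¹
      group
    have h1 : (S₁ : Subgroup NX) ⊔ pResidual p NX ≤ G₀ := by
      refine sup_le (fun s hs => ?_) ((Subgroup.closure_le _).2 fun s hs => ?_)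
      · have hsP := hjS s hs
        have h2 := c.extIso_into_pre (c.extIso_induced hQX₂ hU hsP) le_rfl
        have h3 : X₂.map (MulAut.conj ((j : MulAut Qd) * s * (j : MulAut Qd)⁻¹)).toMonoidHom ≤ X₂ := by
          rintro _ ⟨k, hk, rfl⟩
          exact hX₂n s k hk
        exact h2.mono hQX₂ le_rfl (hnKmono h3)
      · refine c.extIso_coprime hQ hI₂ hX₂P (mul_mem (mul_mem j.2 (hNXK s.2)) (inv_mem j.2)) ?_ (hX₂n s)
        rw [show (j : MulAut Qd) * s * (j : MulAut Qd)⁻¹ = MulAut.conj (j : MulAut Qd) s from rfl,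
          MulEquiv.orderOf_eq, Subgroup.orderOf_coe]
        exact hs
    rw [Cfsg.Lib.Fusion.sylow_sup_pResidual S₁] at h1
    exact h1 (Subgroup.mem_top r)
  -- back from the transported subgroup
  set k₂ : MulAut Qd := (j : MulAut Qd) * r * b⁻¹ with hk₂def
  set Z := Y'.map (MulAut.conj k₂).toMonoidHom with hZdef
  have hZP : Z ≤ P := by
    rintro _ ⟨y, hy, rfl⟩
    have h2 : r * ⟨_, hY₀ ⟨y, hy, rfl⟩⟩ * r⁻¹ ∈ (S₁ : Subgroup NX) := by
      rw [← hr, Sylow.coe_subgroup_smul]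
      exact Subgroup.smul_mem_pointwise_smul _ (MulAut.conj r) _ (hS' (Subgroup.mem_subgroupOf.2 ⟨y, hy, rfl⟩))
    have h3 := hjS _ h2
    show k₂ * y * k₂⁻¹ ∈ P
    convert h3 using 1
    show k₂ * y * k₂⁻¹ = (j : MulAut Qd) * ((r : MulAut Qd) * (b⁻¹ * y * b⁻¹⁻¹) * (r : MulAut Qd)⁻¹) *
      (j : MulAut Qd)⁻¹
    rw [hk₂def]
    group
  have hX₂Z : X₂ ≤ Z := by
    rintro _ ⟨k, hk, rfl⟩
    have h2 := (Subgroup.mem_normalizer_iff''.1 r.2.2 k).1 hk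
    refine ⟨b * ((r : MulAut Qd)⁻¹ * k * r) * b⁻¹, hXY'.le ⟨_, h2, rfl⟩, ?_⟩
    show k₂ * (b * ((r : MulAut Qd)⁻¹ * k * r) * b⁻¹) * k₂⁻¹ = (j : MulAut Qd) * k * (j : MulAut Qd)⁻¹
    rw [hk₂def]
    group
  have hk₂K : k₂ ∈ K := mul_mem (mul_mem j.2 (hNXK r.2)) (inv_mem hb)
  have hZb : Z.map (MulAut.conj k₂⁻¹).toMonoidHom ≤ P := by
    rintro _ ⟨_, ⟨y, hy, rfl⟩, rfl⟩
    show k₂⁻¹ * (k₂ * y * k₂⁻¹) * k₂⁻¹⁻¹ ∈ P
    simpa [mul_assoc] using hy.1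
  have ek : ExtIso (c.meetSys 0) (nK (T₁ ⊓ T₂) Qd X₂) (T₁ ⊓ T₂) ((k₂⁻¹ : MulAut Qd) : Qd ≃* Qd) := by
    obtain ⟨m', hm', hm''⟩ : ∃ m' < m, Nat.card P ≤ Nat.card Z + m' := by
      have h2 := Subgroup.card_le_of_le hZP
      have h3 := hcard Y' k₂
      exact ⟨Nat.card P - Nat.card Z, by rw [← hZdef] at h3; omega, by omega⟩
    exact (ih m' hm' Z _ hm'' (hI₂.trans hX₂Z) hZP (inv_mem hk₂K) hZb).mono hQX₂ (hnKmono hX₂Z) le_rfl
  refine ((ej.trans eg).trans ek).congr fun x => ?_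
  show b x = k₂⁻¹ (((j : MulAut Qd) * r * (j : MulAut Qd)⁻¹) ((j : MulAut Qd) x))
  rw [← MulAut.mul_apply, ← MulAut.mul_apply, hk₂def]
  congr 1
  group

/-- A member with largest normalizer, with the automizer of the meet and reached by all members, is receptive. -/
theorem isReceptive_meet {Qd : Subgroup Ω} (hQ : UCentric F (T₁ ⊓ T₂) Qd) (hmax : c.UMax Qd)
    (hK : (c.meetSys 0).autGroup Qd ≤ c.kGen Qd)
    (htop : ∀ A, (c.meetSys 0).IsConj Qd A → ToP (c.meetSys 0) Qd A) : (c.meetSys 0).IsReceptive Qd := by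
  haveI := finite_of_le c.closed.1
  refine ⟨hQ.1, fun A φ hφ hr => ?_⟩
  let e₀ := homIso hφ hr
  have he₀ : IsoIn (c.meetSys 0) e₀ := isoIn_homIso hφ hr
  obtain ⟨χ, hχ⟩ := htop A (isConj_symm (isConj_iff.2 ⟨e₀, he₀⟩))
  let b : MulAut Qd := χ.symm.trans e₀
  have hb : b ∈ c.kGen Qd := hK ((mem_autGroup hQ.1).2 (hχ.isoIn.symm.trans he₀))
  set P := autInducedBy (T₁ ⊓ T₂) Qd with hPdef
  let X : Subgroup (MulAut Qd) := P ⊓ P.comap (MulAut.conj b).toMonoidHom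
  have hI : Inn Qd ≤ X := fun k hk => ⟨inn_le_autInducedBy hQ.1 hk, by
    show (MulAut.conj b) k ∈ P
    refine inn_le_autInducedBy (S := T₁ ⊓ T₂) hQ.1 ?_
    obtain ⟨q, rfl⟩ := hk
    exact ⟨b q, MulEquiv.ext fun x => by simp⟩⟩
  have hext := c.extIso_conj_induced hQ hmax _ X b (Nat.le_add_left _ _) hI inf_le_left hb
    (Subgroup.map_le_iff_le_comap.2 inf_le_right)
  obtain ⟨hAN, ψ, hψ, hv, hψe⟩ := hχ
  have hle : extender (T₁ ⊓ T₂) A φ ≤ normalizerIn (T₁ ⊓ T₂) A := extender_le φ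
  have hAS : A ≤ T₁ ⊓ T₂ := hom_le hφ
  have h1 : ExtIso (c.meetSys 0) (extender (T₁ ⊓ T₂) A φ) (nK (T₁ ⊓ T₂) Qd X) χ := by
    refine ⟨le_extender hAS (hom_mem hφ), ψ.comp (Subgroup.inclusion hle), restrict_mem hψ hle, fun t => ?_,
      fun x hx hT => hψe x hx (hle hT)⟩
    obtain ⟨htS, htN, h, hhS, hh⟩ := mem_extender.1 t.2
    set v := ψ (Subgroup.inclusion hle t) with hvdef
    have hvn := hv (Subgroup.inclusion hle t)
    refine mem_nK.2 ⟨hvn.1, conjAut Qd hvn.2, ⟨conjAut_mem_autInducedBy _ hvn.1, ?_⟩, fun q => rfl⟩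
    show (MulAut.conj b) (conjAut Qd hvn.2) ∈ P
    refine mem_autInducedBy.2 ⟨h, hhS, fun q => ?_⟩
    obtain ⟨a, rfl⟩ := e₀.surjective q
    have hta : (t : Ω) * (a : Ω) * (t : Ω)⁻¹ ∈ A := (Subgroup.mem_normalizer_iff.1 htN a).1 a.2
    show ((e₀ (χ.symm (conjAut Qd hvn.2 ((e₀.symm.trans χ) (e₀ a))))) : Ω) = _
    rw [MulEquiv.trans_apply, MulEquiv.symm_apply_apply]
    have h3 : conjAut Qd hvn.2 (χ a) = χ ⟨_, hta⟩ := Subtype.ext (by
      show v * (χ a : Ω) * v⁻¹ = _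
      rw [hvdef, ← hψe _ a.2 (hAN a.2), ← map_inv, ← map_mul, ← map_mul]
      exact hψe _ hta _)
    rw [h3, MulEquiv.symm_apply_apply]
    exact hh a hta
  obtain ⟨-, ψ', hψ', -, hψ'e⟩ := (h1.trans hext).congr (e' := e₀) fun x => by simp [b]
  exact ⟨ψ', hψ', fun x hx hT => hψ'e x hx hT⟩

end MeetCtx

end Cfsg.Lib.FusionSys
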