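import Cfsg.Agent.Lib.FusionSys.MeetBase

/-!
The system generated by the good automorphisms: levels, invariance and the factorization of the maps.
-/

set_option autoImplicit false
set_option linter.style.haveILetI false
set_option maxHeartbeats 800000

namespace Cfsg.Lib.FusionSys

open Cfsg Cfsg.FusionSystem

variable {Ω : Type*} [Group Ω] {S T₁ T₂ : Subgroup Ω} {F : FusionSystem S} {E₁ : FusionSystem T₁}
  {E₂ : FusionSystem T₂} {p : ℕ}

namespace MeetCtx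

variable (c : MeetCtx F E₁ E₂ p)
include c

/-- The maps common to both subsystems on their intersection. -/
def boundSys (_c : MeetCtx F E₁ E₂ p) : FusionSystem (T₁ ⊓ T₂) where
  Hom P := {φ | P ≤ T₁ ⊓ T₂ ∧ (∀ x, φ x ∈ T₁ ⊓ T₂) ∧ φ ∈ E₁.Hom P ∧ φ ∈ E₂.Hom P}
  le_of_mem h := ⟨h.1, h.2.1⟩
  injective_of_mem h := E₁.injective_of_mem h.2.2.1
  conj_mem := fun hP hg => ⟨hP, fun x => mul_mem (mul_mem hg (hP x.2)) (inv_mem hg),
    E₁.conj_mem (hP.trans inf_le_left) hg.1, E₂.conj_mem (hP.trans inf_le_right) hg.2⟩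
  comp_mem := fun hφ hψ h => ⟨hφ.1, fun _ => hψ.2.1 _, E₁.comp_mem hφ.2.2.1 hψ.2.2.1 h,
    E₂.comp_mem hφ.2.2.2 hψ.2.2.2 h⟩
  inv_mem := by
    rintro P φ ⟨hP, hv, h₁, h₂⟩
    obtain ⟨ψ, hψ, hψe⟩ := E₁.inv_mem h₁
    obtain ⟨χ, hχ, hχe⟩ := E₂.inv_mem h₂
    refine ⟨ψ, ⟨?_, ?_, hψ, hom_congr hχ ?_⟩, hψe⟩
    · rintro _ ⟨x, rfl⟩
      exact hv x
    · rintro ⟨_, x, rfl⟩
      rw [hψe]
      exact hP x.2
    · rintro ⟨_, x, rfl⟩
      exact (hψe x).trans (hχe x).symm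

/-- `G` contains the generators above `n`. -/
def Gen (n : ℕ) (G : FusionSystem (T₁ ⊓ T₂)) : Prop :=
  ∀ R : Subgroup Ω, UCentric F (T₁ ⊓ T₂) R → n < Nat.card R → c.aGen R ≤ G.autGroup R

/-- The least system containing the generators above `n`. -/
noncomputable def meetSys (n : ℕ) : FusionSystem (T₁ ⊓ T₂) where
  Hom P := {φ | φ ∈ c.boundSys.Hom P ∧ ∀ G : FusionSystem (T₁ ⊓ T₂), c.Gen n G → φ ∈ G.Hom P}
  le_of_mem h := c.boundSys.le_of_mem h.1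
  injective_of_mem h := c.boundSys.injective_of_mem h.1
  conj_mem := fun hP hg => ⟨c.boundSys.conj_mem hP hg, fun G _ => G.conj_mem hP hg⟩
  comp_mem := fun hφ hψ h => ⟨c.boundSys.comp_mem hφ.1 hψ.1 h,
    fun G hG => G.comp_mem (hφ.2 G hG) (hψ.2 G hG) h⟩
  inv_mem := by
    rintro P φ hφ
    obtain ⟨ψ, hψ, hψe⟩ := c.boundSys.inv_mem hφ.1
    refine ⟨ψ, ⟨hψ, fun G hG => ?_⟩, hψe⟩
    obtain ⟨χ, hχ, hχe⟩ := G.inv_mem (hφ.2 G hG)
    refine hom_congr hχ ?_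
    rintro ⟨_, x, rfl⟩
    exact (hψe x).trans (hχe x).symm

theorem meetSys_le {n : ℕ} {G : FusionSystem (T₁ ⊓ T₂)} (hG : c.Gen n G) : c.meetSys n ≤ G :=
  fun _ _ h => h.2 G hG

variable [Finite S] [Fact p.Prime]

theorem gen_boundSys (n : ℕ) : c.Gen n c.boundSys := by
  intro R hR _ a ha
  obtain ⟨⟨-, h₁⟩, h₂⟩ := c.hGood_le_autGroup hR.1 (c.aGen_le_hGood R ha)
  exact (mem_autGroup hR.1).2 ⟨hR.1, fun x => hR.1 (a x).2, (mem_autGroup (hR.1.trans inf_le_left)).1 h₁,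
    (mem_autGroup (hR.1.trans inf_le_right)).1 h₂⟩

theorem gen_meetSys (n : ℕ) : c.Gen n (c.meetSys n) := fun R hR hn a ha =>
  (mem_autGroup hR.1).2 ⟨(mem_autGroup hR.1).1 (c.gen_boundSys n R hR hn ha),
    fun _ hG => (mem_autGroup hR.1).1 (hG R hR hn ha)⟩

theorem meetSys_mono {m n : ℕ} (h : m ≤ n) : c.meetSys n ≤ c.meetSys m :=
  c.meetSys_le fun R hR hn => c.gen_meetSys m R hR (lt_of_le_of_lt h hn)

theorem meetSys_sub₁ (n : ℕ) : (c.meetSys n).IsSubsystemOf E₁ := fun _ _ h => h.1.2.2.1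

theorem meetSys_sub₂ (n : ℕ) : (c.meetSys n).IsSubsystemOf E₂ := fun _ _ h => h.1.2.2.2

theorem meetSys_sub (n : ℕ) : (c.meetSys n).IsSubsystemOf F := fun P _ h => c.inv₁.1 P h.1.2.2.1

/-- Above `n` the generators at smaller subgroups change nothing, and at `n` they only compose. -/
theorem meetSys_level (n : ℕ) {M : Subgroup Ω} {φ : M →* Ω} (hφ : φ ∈ (c.meetSys 0).Hom M) :
    (n < Nat.card M → φ ∈ (c.meetSys n).Hom M) ∧
      (Nat.card M = n → ∃ a : MulAut M, (a = 1 ∨ UCentric F (T₁ ⊓ T₂) M ∧ a ∈ c.aGen M) ∧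
        ∃ ψ ∈ (c.meetSys n).Hom M, ∀ x, φ x = ψ (a x)) := by
  haveI := finite_of_le c.closed.1
  let Z : FusionSystem (T₁ ⊓ T₂) :=
    { Hom := fun M => {φ | φ ∈ c.boundSys.Hom M ∧ (n < Nat.card M → φ ∈ (c.meetSys n).Hom M) ∧
        (Nat.card M = n → ∃ a : MulAut M, (a = 1 ∨ UCentric F (T₁ ⊓ T₂) M ∧ a ∈ c.aGen M) ∧
          ∃ ψ ∈ (c.meetSys n).Hom M, ∀ x, φ x = ψ (a x))}
      le_of_mem := fun h => c.boundSys.le_of_mem h.1
      injective_of_mem := fun h => c.boundSys.injective_of_mem h.1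
      conj_mem := fun hP hg => ⟨c.boundSys.conj_mem hP hg, fun _ => (c.meetSys n).conj_mem hP hg,
        fun _ => ⟨1, Or.inl rfl, _, (c.meetSys n).conj_mem hP hg, fun _ => rfl⟩⟩
      comp_mem := by
        rintro P Q φ χ ⟨hφ, hφ₁, hφ₂⟩ ⟨hχ, hχ₁, hχ₂⟩ h
        haveI := finite_of_le (hom_le hχ)
        have hcard : Nat.card P ≤ Nat.card Q := by
          rw [← card_range hφ]
          exact Nat.card_le_card_of_injective _
            (Subgroup.inclusion_injective (by rintro _ ⟨x, rfl⟩; exact h x : φ.range ≤ Q))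
        refine ⟨c.boundSys.comp_mem hφ hχ h, fun hn => (c.meetSys n).comp_mem (hφ₁ hn) (hχ₁ (by omega)) h,
          fun hn => ?_⟩
        obtain ⟨a, ha, ψ, hψ, hψe⟩ := hφ₂ hn
        have hψv : ∀ x, ψ x ∈ Q := fun x => by
          have := h (a⁻¹ x)
          rwa [hψe, MulAut.apply_inv_self] at this
        rcases Nat.lt_or_ge n (Nat.card Q) with hlt | hge
        · refine ⟨a, ha, _, (c.meetSys n).comp_mem hψ (hχ₁ hlt) hψv, fun x => ?_⟩
          exact congrArg χ (Subtype.ext (hψe x))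
        obtain ⟨a', ha', ψ', hψ', hψ'e⟩ := hχ₂ (by omega)
        have hr : ψ.range = Q := by
          refine eq_of_le_of_card_le (hom_le hχ) (by rintro _ ⟨x, rfl⟩; exact hψv x) ?_
          rw [card_range hψ]; omega
        set e := homIso hψ hr with he
        set a'' := MulAut.congr e.symm a' with ha''
        have he' : IsoIn F e := c.meetSys_sub n _ (isoIn_homIso hψ hr)
        have hcase : a'' = 1 ∨ UCentric F (T₁ ⊓ T₂) P ∧ a'' ∈ c.aGen P := by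
          rcases ha' with rfl | ⟨hQc, ha'⟩
          · exact Or.inl (map_one _)
          · exact Or.inr ⟨hQc.of_conj c.closed (isConj_iff.2 ⟨e.symm, he'.symm⟩),
              c.congr_mem_aGen he'.symm ha'⟩
        refine ⟨a'' * a, ?_, _, (c.meetSys n).comp_mem hψ hψ' hψv, fun x => ?_⟩
        · rcases hcase with h1 | ⟨hPc, h1⟩
          · rw [h1, one_mul]; exact ha
          · rcases ha with rfl | ⟨-, ha⟩
            · rw [mul_one]; exact Or.inr ⟨hPc, h1⟩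
            · exact Or.inr ⟨hPc, mul_mem h1 ha⟩
        · show χ ⟨φ x, h x⟩ = ψ' ⟨ψ (a'' (a x)), hψv _⟩
          rw [hψ'e]
          refine congrArg ψ' (Subtype.ext ?_)
          show ((a' ⟨φ x, h x⟩ : Q) : Ω) = (e (e.symm (a' (e (a x)))) : Ω)
          rw [MulEquiv.apply_symm_apply]
          exact congrArg (fun z : Q => (a' z : Ω)) (Subtype.ext (hψe x))
      inv_mem := by
        rintro P φ ⟨hφ, hφ₁, hφ₂⟩
        obtain ⟨ρ, hρ, hρe⟩ := c.boundSys.inv_mem hφ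
        have hc := card_range hφ
        refine ⟨ρ, ⟨hρ, fun hn => ?_, fun hn => ?_⟩, hρe⟩
        · obtain ⟨χ, hχ, hχe⟩ := (c.meetSys n).inv_mem (hφ₁ (by omega))
          refine hom_congr hχ ?_
          rintro ⟨_, x, rfl⟩
          exact (hρe x).trans (hχe x).symm
        obtain ⟨a, ha, ψ, hψ, hψe⟩ := hφ₂ (by omega)
        have hr : ψ.range = φ.range := by
          ext y
          exact ⟨fun ⟨x, hx⟩ => ⟨a⁻¹ x, by rw [hψe, MulAut.apply_inv_self, hx]⟩,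
            fun ⟨x, hx⟩ => ⟨a x, (hψe x).symm.trans hx⟩⟩
        set e := homIso hψ hr with he
        have heM := isoIn_homIso hψ hr
        have he' : IsoIn F e := c.meetSys_sub n _ heM
        refine ⟨MulAut.congr e a⁻¹, ?_, _, heM.symm, ?_⟩
        · rcases ha with rfl | ⟨hPc, ha⟩
          · exact Or.inl (by rw [inv_one, map_one])
          · exact Or.inr ⟨hPc.of_conj c.closed (isConj_iff.2 ⟨e, he'⟩), c.congr_mem_aGen he' (inv_mem ha)⟩
        · rintro ⟨_, x, rfl⟩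
          have h2 : e.symm ⟨φ x, x, rfl⟩ = a x := by
            rw [MulEquiv.symm_apply_eq]
            exact Subtype.ext (hψe x)
          show ρ ⟨φ x, x, rfl⟩ = ((e.symm (e (a⁻¹ (e.symm ⟨φ x, x, rfl⟩))) : P) : Ω)
          rw [MulEquiv.symm_apply_apply, h2, MulAut.inv_apply_self]
          exact hρe x }
  have hZ : c.Gen 0 Z := by
    intro R hR _ a ha
    haveI := finite_of_le (hR.1.trans c.closed.1)
    have hb := (mem_autGroup hR.1).1 (c.gen_boundSys 0 R hR Nat.card_pos.ne'.bot_lt ha)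
    refine (mem_autGroup hR.1).2 ⟨hb, fun hn => (mem_autGroup hR.1).1 (c.gen_meetSys n R hR hn ha), fun _ => ?_⟩
    exact ⟨a, Or.inr ⟨hR, ha⟩, R.subtype, subtype_mem _ hR.1, fun _ => rfl⟩
  exact (c.meetSys_le hZ M hφ).2

theorem meetSys_hom_eq {n : ℕ} {M : Subgroup Ω}
    (hM : n < Nat.card M ∨ (Nat.card M = n ∧ ¬ UCentric F (T₁ ⊓ T₂) M)) :
    (c.meetSys 0).Hom M = (c.meetSys n).Hom M := by
  refine Set.Subset.antisymm (fun φ hφ => ?_) (c.meetSys_mono (Nat.zero_le n) M)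
  rcases hM with h | ⟨h, hU⟩
  · exact (c.meetSys_level n hφ).1 h
  · obtain ⟨a, ha, ψ, hψ, hψe⟩ := (c.meetSys_level n hφ).2 h
    rcases ha with rfl | ⟨hc, -⟩
    · exact hom_congr hψ hψe
    · exact absurd hc hU

/-- The automorphisms of the intersection carry the system to itself. -/
theorem meetSys_transport {P : Subgroup Ω} (hP : P ≤ T₁ ⊓ T₂) {φ : P →* Ω} (hφ : φ ∈ (c.meetSys 0).Hom P)
    {α : MulAut ↥(T₁ ⊓ T₂)} (hα : α ∈ F.autGroup (T₁ ⊓ T₂)) :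
    ∃ χ ∈ (c.meetSys 0).Hom (autImage α P), ∀ (x : P) (hx : ((α ⟨x, hP x.2⟩ : ↥(T₁ ⊓ T₂)) : Ω) ∈ autImage α P),
      χ ⟨_, hx⟩ = ((α ⟨φ x, hom_mem hφ x⟩ : ↥(T₁ ⊓ T₂)) : Ω) := by
  haveI := finite_of_le c.closed.1
  set D := c.meetSys 0
  let Z : FusionSystem (T₁ ⊓ T₂) :=
    { Hom := fun P => {φ | φ ∈ D.Hom P ∧ ∀ α ∈ F.autGroup (T₁ ⊓ T₂), ∃ χ ∈ D.Hom (autImage α P),
        ∀ (x : P) (hxU : (x : Ω) ∈ T₁ ⊓ T₂) (hx : ((α ⟨x, hxU⟩ : ↥(T₁ ⊓ T₂)) : Ω) ∈ autImage α P)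
          (hy : φ x ∈ T₁ ⊓ T₂), χ ⟨_, hx⟩ = ((α ⟨φ x, hy⟩ : ↥(T₁ ⊓ T₂)) : Ω)}
      le_of_mem := fun h => D.le_of_mem h.1
      injective_of_mem := fun h => D.injective_of_mem h.1
      conj_mem := fun {P g} hP hg => ⟨D.conj_mem hP hg, fun α _ => ⟨_,
        D.conj_mem (autImage_le α P) (α ⟨g, hg⟩).2, fun x hxU hx hy => by
          show ((α ⟨g, hg⟩ : ↥(T₁ ⊓ T₂)) : Ω) * ((α ⟨x, hxU⟩ : ↥(T₁ ⊓ T₂)) : Ω) *
            ((α ⟨g, hg⟩ : ↥(T₁ ⊓ T₂)) : Ω)⁻¹ = _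
          rw [← Subgroup.coe_inv, ← Subgroup.coe_mul, ← Subgroup.coe_mul, ← map_inv, ← map_mul, ← map_mul]
          rfl⟩⟩
      comp_mem := by
        rintro P Q φ ψ ⟨hφ, hφt⟩ ⟨hψ, hψt⟩ h
        refine ⟨D.comp_mem hφ hψ h, fun α hα => ?_⟩
        obtain ⟨χ, hχ, hχe⟩ := hφt α hα
        obtain ⟨η, hη, hηe⟩ := hψt α hα
        have hv : ∀ y, χ y ∈ autImage α Q := by
          rintro ⟨_, x, hx, rfl⟩
          refine ⟨⟨φ ⟨_, hx⟩, hom_mem hφ _⟩, h ⟨_, hx⟩, ?_⟩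
          exact (hχe ⟨_, hx⟩ x.2 ⟨x, hx, rfl⟩ (hom_mem hφ _)).symm
        refine ⟨_, D.comp_mem hχ hη hv, fun x hxU hx hy => ?_⟩
        have hq : ((α ⟨φ x, hom_mem hφ x⟩ : ↥(T₁ ⊓ T₂)) : Ω) ∈ autImage α Q :=
          ⟨⟨φ x, hom_mem hφ x⟩, h x, rfl⟩
        exact (congrArg η (Subtype.ext (hχe x hxU hx (hom_mem hφ x)))).trans
          (hηe ⟨φ x, h x⟩ (hom_mem hφ x) hq hy)
      inv_mem := by
        rintro P φ ⟨hφ, hφt⟩
        obtain ⟨ψ, hψ, hψe⟩ := D.inv_mem hφ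
        refine ⟨ψ, ⟨hψ, fun α hα => ?_⟩, hψe⟩
        obtain ⟨χ, hχ, hχe⟩ := hφt α hα
        obtain ⟨η, hη, hηe⟩ := D.inv_mem hχ
        have hle : autImage α φ.range ≤ χ.range := by
          rintro _ ⟨y, ⟨x, hx⟩, rfl⟩
          have hxU : (x : Ω) ∈ T₁ ⊓ T₂ := hom_le hφ x.2
          refine ⟨⟨_, ⟨⟨(x : Ω), hxU⟩, x.2, rfl⟩⟩, (hχe x hxU _ (hom_mem hφ x)).trans ?_⟩
          exact congrArg (fun z : ↥(T₁ ⊓ T₂) => (α z : Ω)) (Subtype.ext hx)
        refine ⟨_, restrict_mem hη hle, ?_⟩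
        rintro ⟨_, x, rfl⟩ hxU hx hy
        have hxU' : (x : Ω) ∈ T₁ ⊓ T₂ := hom_le hφ x.2
        have hxI : ((α ⟨x, hxU'⟩ : ↥(T₁ ⊓ T₂)) : Ω) ∈ autImage α P := ⟨⟨(x : Ω), hxU'⟩, x.2, rfl⟩
        refine ((congrArg η (Subtype.ext ?_)).trans (hηe ⟨_, hxI⟩)).trans ?_
        · exact (hχe x hxU' hxI (hom_mem hφ x)).symm
        · exact congrArg (fun z : ↥(T₁ ⊓ T₂) => (α z : Ω)) (Subtype.ext (hψe x).symm) }
  have hZ : c.Gen 0 Z := by
    intro R hR hn a ha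
    have haD := (mem_autGroup hR.1).1 (c.gen_meetSys 0 R hR hn ha)
    refine (mem_autGroup hR.1).2 ⟨haD, fun α hα => ?_⟩
    have hαF := (mem_autGroup c.closed.1).1 hα
    have hr : (((T₁ ⊓ T₂).subtype.comp α.toMonoidHom).comp (Subgroup.inclusion hR.1)).range = autImage α R := by
      ext y
      exact ⟨fun ⟨x, hx⟩ => ⟨Subgroup.inclusion hR.1 x, x.2, hx⟩,
        fun ⟨t, ht, hx⟩ => ⟨⟨(t : Ω), ht⟩, hx⟩⟩
    set g := homIso (restrict_mem hαF hR.1) hr with hg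
    have hgF : IsoIn F g := isoIn_homIso _ hr
    have hR' := hR.of_conj c.closed (isConj_iff.2 ⟨g, hgF⟩)
    haveI := finite_of_le (hR'.1.trans c.closed.1)
    refine ⟨_, (mem_autGroup hR'.1).1 (c.gen_meetSys 0 _ hR' Nat.card_pos (c.congr_mem_aGen hgF ha)),
      fun x hxU hx hy => ?_⟩
    have hgx : g x = ⟨_, hx⟩ := Subtype.ext rfl
    show (g (a (g.symm ⟨_, hx⟩)) : Ω) = _
    rw [← hgx, MulEquiv.symm_apply_apply]
    rfl
  obtain ⟨χ, hχ, hχe⟩ := (c.meetSys_le hZ P hφ).2 α hα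
  exact ⟨χ, hχ, fun x hx => hχe x (hP x.2) hx (hom_mem hφ x)⟩

/-- `Q` has largest normalizer in the intersection among its conjugates. -/
def UMax (_c : MeetCtx F E₁ E₂ p) (Q : Subgroup Ω) : Prop :=
  ∀ Q' : Subgroup Ω, F.IsConj Q Q' →
    Nat.card (normalizerIn (T₁ ⊓ T₂) Q') ≤ Nat.card (normalizerIn (T₁ ⊓ T₂) Q)

/-- Conjugation by the normalizer in the intersection. -/
def conjU (_c : MeetCtx F E₁ E₂ p) (Q : Subgroup Ω) : normalizerIn (T₁ ⊓ T₂) Q →* MulAut Q where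
  toFun g := conjAut Q g.2.2
  map_one' := MulEquiv.ext fun x => Subtype.ext (by simp)
  map_mul' a b := MulEquiv.ext fun x => Subtype.ext (by
    show (a : Ω) * (b : Ω) * x * ((a : Ω) * b)⁻¹ = (a : Ω) * ((b : Ω) * x * (b : Ω)⁻¹) * (a : Ω)⁻¹
    group)

omit [Finite S] [Fact p.Prime] in
theorem range_conjU (Q : Subgroup Ω) : (c.conjU Q).range = autInducedBy (T₁ ⊓ T₂) Q := by
  ext a
  constructor
  · rintro ⟨g, rfl⟩
    exact conjAut_mem_autInducedBy _ g.2.1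
  · intro ha
    obtain ⟨t, ht, hte⟩ := mem_autInducedBy.1 ha
    exact ⟨⟨t, ht, mem_normalizer_of_aut hte⟩, MulEquiv.ext fun x => Subtype.ext (hte x).symm⟩

theorem card_autInducedBy_mul (Q : Subgroup Ω) :
    Nat.card (autInducedBy (T₁ ⊓ T₂) Q) * Nat.card (centralizerIn (T₁ ⊓ T₂) Q) =
      Nat.card (normalizerIn (T₁ ⊓ T₂) Q) := by
  have h := Subgroup.card_mul_index (c.conjU Q).ker
  rw [Subgroup.index_ker, ← c.range_conjU Q] at *
  rw [← h, mul_comm]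
  refine congrArg (· * _) (Nat.card_congr ?_)
  exact
    { toFun := fun x => ⟨⟨(x : Ω), centralizerIn_le_normalizerIn Q x.2⟩, MonoidHom.mem_ker.2 (MulEquiv.ext fun q =>
        Subtype.ext (conj_eq_of_commute ((mem_centralizerIn.1 x.2).2 q q.2)))⟩
      invFun := fun g => ⟨(g.1 : Ω), mem_centralizerIn.2 ⟨g.1.2.1, fun q hq => commute_of_conj_eq
        (congrArg (fun f : MulAut Q => (f ⟨q, hq⟩ : Ω)) (MonoidHom.mem_ker.1 g.2))⟩⟩
      left_inv := fun x => rfl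
      right_inv := fun g => rfl }

theorem card_centralizer_eq {Q Q' : Subgroup Ω} (hQ : UCentric F (T₁ ⊓ T₂) Q) (h : F.IsConj Q Q') :
    Nat.card (centralizerIn (T₁ ⊓ T₂) Q) = Nat.card (centralizerIn (T₁ ⊓ T₂) Q') := by
  have key : ∀ {A B : Subgroup Ω} {e : A ≃* B}, IsoIn F e → UCentric F (T₁ ⊓ T₂) A → B ≤ T₁ ⊓ T₂ →
      Nat.card (centralizerIn (T₁ ⊓ T₂) A) ≤ Nat.card (centralizerIn (T₁ ⊓ T₂) B) := by
    intro A B e he hA hB
    haveI := finite_of_le ((centralizerIn_le (S := T₁ ⊓ T₂) B).trans c.closed.1)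
    refine Nat.card_le_card_of_injective (fun z : centralizerIn (T₁ ⊓ T₂) A =>
      (⟨(e ⟨z, hA.self c.closed z.2⟩ : Ω), mem_centralizerIn.2 ⟨hB (e _).2, fun y hy => ?_⟩⟩ :
        centralizerIn (T₁ ⊓ T₂) B)) fun a b hab => ?_
    · obtain ⟨x, hx⟩ := e.surjective ⟨y, hy⟩
      rw [show y = (e x : Ω) by rw [hx], ← Subgroup.coe_mul, ← Subgroup.coe_mul, ← map_mul, ← map_mul]
      exact congrArg (fun w : A => (e w : Ω)) (Subtype.ext ((mem_centralizerIn.1 z.2).2 x x.2))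
    · have h2 := e.injective (Subtype.ext (congrArg (fun w : centralizerIn (T₁ ⊓ T₂) B => (w : Ω)) hab :))
      exact Subtype.ext (congrArg (fun w : A => (w : Ω)) h2 :)
  obtain ⟨e, he⟩ := isConj_iff.1 h
  have hQ' := hQ.of_conj c.closed h
  exact le_antisymm (key he hQ hQ'.1) (key he.symm hQ' hQ.1)

/-- At a member with largest normalizer the induced automorphisms form a Sylow subgroup of the automizer. -/
theorem sylow_of_uMax {Q : Subgroup Ω} (hQ : UCentric F (T₁ ⊓ T₂) Q) (hmax : c.UMax Q) :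
    ∃ P : Sylow p (c.kGen Q), (P : Subgroup (c.kGen Q)) = (autInducedBy (T₁ ⊓ T₂) Q).subgroupOf (c.kGen Q) := by
  have hQS := hQ.1.trans c.closed.1
  haveI := finite_of_le hQS
  haveI : Finite (MulAut Q) := Finite.of_injective (fun f => (f : Q → Q)) DFunLike.coe_injective
  obtain ⟨Q', hQQ', hQ'⟩ := exists_isFullyNormalized F hQS
  have hQ'c := hQ.of_conj c.closed hQQ'
  obtain ⟨e, he⟩ := isConj_iff.1 hQQ'
  haveI := finite_of_le hQ'.1
  haveI : Finite (MulAut Q') := Finite.of_injective (fun f => (f : Q' → Q')) DFunLike.coe_injective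
  obtain ⟨-, P', hP'⟩ := c.kGen_fn hQ'c hQ'
  have hle := c.autInducedBy_le_kGen hQS
  refine exists_sylow_eq ((isPGroup_autInducedBy (c.pS.to_le c.closed.1)).comap_subtype) ?_
  have hcard : Nat.card (c.kGen Q) ≤ Nat.card (c.kGen Q') :=
    Nat.card_le_card_of_injective (fun k : c.kGen Q => (⟨_, c.congr_mem_kGen he k.2⟩ : c.kGen Q'))
      fun a b h => Subtype.ext ((MulAut.congr e).injective (congrArg Subtype.val h))
  have hcard' : Nat.card (c.kGen Q') ≤ Nat.card (c.kGen Q) :=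
    Nat.card_le_card_of_injective (fun k : c.kGen Q' => (⟨_, c.congr_mem_kGen he.symm k.2⟩ : c.kGen Q))
      fun a b h => Subtype.ext ((MulAut.congr e.symm).injective (congrArg Subtype.val h))
  rw [le_antisymm hcard hcard', ← P'.card_eq_multiplicity, hP',
    Nat.card_congr (Subgroup.subgroupOfEquivOfLe (c.autInducedBy_le_kGen hQ'.1)).toEquiv,
    Nat.card_congr (Subgroup.subgroupOfEquivOfLe hle).toEquiv]
  have h1 := c.card_autInducedBy_mul Q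
  have h2 := c.card_autInducedBy_mul Q'
  rw [← c.card_centralizer_eq hQ hQQ'] at h2
  haveI := finite_of_le ((centralizerIn_le (S := T₁ ⊓ T₂) Q).trans c.closed.1)
  have h3 := hmax Q' hQQ'
  rw [← h1, ← h2] at h3
  exact Nat.le_of_mul_le_mul_right h3 Nat.card_pos

/-- The automizer lies in every system with the generators at the subgroup. -/
theorem kGen_le_of_gen {Q : Subgroup Ω} (hQ : UCentric F (T₁ ⊓ T₂) Q) (hmax : c.UMax Q)
    {G : FusionSystem (T₁ ⊓ T₂)} (hG : c.aGen Q ≤ G.autGroup Q) : c.kGen Q ≤ G.autGroup Q := by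
  intro k hk
  have hQS := hQ.1.trans c.closed.1
  haveI := finite_of_le hQS
  haveI : Finite (MulAut Q) := Finite.of_injective (fun f => (f : Q → Q)) DFunLike.coe_injective
  obtain ⟨P, hP⟩ := c.sylow_of_uMax hQ hmax
  have h1 : (P : Subgroup (c.kGen Q)) ⊔ pResidual p (c.kGen Q) ≤ (G.autGroup Q).subgroupOf (c.kGen Q) := by
    refine sup_le ?_ ((Subgroup.closure_le _).2 fun x hx => ?_)
    · rw [hP]
      exact fun x hx => autInducedBy_le_autGroup hQ.1 hx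
    · refine hG (c.mem_aGen_of_coprime hQ x.2 ?_)
      show (orderOf (x : MulAut Q)).Coprime p
      rw [Subgroup.orderOf_coe]
      exact hx
  rw [Cfsg.Lib.Fusion.sylow_sup_pResidual P] at h1
  exact h1 (Subgroup.mem_top (⟨k, hk⟩ : c.kGen Q))

/-- Fully normalized subgroups of an invariant system have largest normalizer in the intersection. -/
theorem uMax_of_fn {V : Subgroup Ω} {G : FusionSystem V} (hGs : G.IsSaturated p) (hG : G.IsInvariantIn F)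
    (hU : T₁ ⊓ T₂ ≤ V) {Q : Subgroup Ω} (hQU : Q ≤ T₁ ⊓ T₂) (hQ : G.IsFullyNormalized Q) : c.UMax Q := by
  rintro _ ⟨φ, hφ, rfl⟩
  have hVS := hG.2.1.1
  haveI := finite_of_le hVS
  obtain ⟨α, hα, φ₀, hφ₀, he⟩ := hG.2.2.2 Q (hQU.trans hU) φ hφ
  obtain ⟨hfc, hfa⟩ := isFullyAutomized_and_fc_of_fn (c.pS.to_le hVS) hGs hQ
  obtain ⟨μ, hμ, hμv, -⟩ := exists_normalizer_map (c.pS.to_le hVS) hfa
    (isReceptive_of_fc (c.pS.to_le hVS) hGs hfc) (isConj_symm ⟨φ₀, hφ₀, rfl⟩)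
  have hαi : V.subtype.comp (α⁻¹).toMonoidHom ∈ F.Hom V := (mem_autGroup hVS).1 (inv_mem hα)
  have hmem : ∀ t : normalizerIn (T₁ ⊓ T₂) φ.range,
      ((α⁻¹ ⟨(t : Ω), hU t.2.1⟩ : V) : Ω) ∈ normalizerIn V φ₀.range ∧
      ((α⁻¹ ⟨(t : Ω), hU t.2.1⟩ : V) : Ω) ∈ T₁ ⊓ T₂ := by
    intro t
    refine ⟨⟨(α⁻¹ _).2, ?_⟩, stronglyClosed_apply_mem c.closed hαi (x := ⟨(t : Ω), hU t.2.1⟩) t.2.1⟩
    haveI := finite_of_le (range_le hφ₀)
    refine Subgroup.mem_normalizer_fintype (S := (φ₀.range : Set Ω)) fun y hy => ?_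
    obtain ⟨x, rfl⟩ := hy
    obtain ⟨x', hx'⟩ := (Subgroup.mem_normalizer_iff.1 t.2.2 (φ x)).1 ⟨x, rfl⟩
    refine ⟨x', ?_⟩
    have h1 : α ⟨φ₀ x', hom_mem hφ₀ x'⟩ =
        ⟨(t : Ω), hU t.2.1⟩ * α ⟨φ₀ x, hom_mem hφ₀ x⟩ * ⟨(t : Ω), hU t.2.1⟩⁻¹ := Subtype.ext (by
      show _ = (t : Ω) * (α ⟨φ₀ x, hom_mem hφ₀ x⟩ : Ω) * (t : Ω)⁻¹
      rw [← he, ← he]
      exact hx')
    have h2 := congrArg (fun z => ((α⁻¹ z : V) : Ω)) h1
    simp only [map_mul, map_inv, MulAut.inv_apply_self, Subgroup.coe_mul, Subgroup.coe_inv] at h2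
    exact h2
  haveI := finite_of_le ((normalizerIn_le (S := T₁ ⊓ T₂) Q).trans c.closed.1)
  refine Nat.card_le_card_of_injective (fun t : normalizerIn (T₁ ⊓ T₂) φ.range =>
    (⟨μ ⟨_, (hmem t).1⟩, stronglyClosed_apply_mem c.closed (hG.1 _ hμ) (x := ⟨_, (hmem t).1⟩) (hmem t).2,
      (hμv _).2⟩ : normalizerIn (T₁ ⊓ T₂) Q)) fun a b hab => ?_
  have h1 := G.injective_of_mem hμ (congrArg (fun z : normalizerIn (T₁ ⊓ T₂) Q => (z : Ω)) hab :)
  have h2 : α⁻¹ ⟨(a : Ω), hU a.2.1⟩ = α⁻¹ ⟨(b : Ω), hU b.2.1⟩ :=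
    Subtype.ext (congrArg (fun z : normalizerIn V φ₀.range => (z : Ω)) h1 :)
  exact Subtype.ext (congrArg (fun z : V => (z : Ω)) (α⁻¹.injective h2) :)

/-- A fully normalized subgroup containing its centralizer in the intersection has the same for all conjugates. -/
theorem uCentric_of_fn {V : Subgroup Ω} {G : FusionSystem V} (hGs : G.IsSaturated p) (hG : G.IsInvariantIn F)
    (hU : T₁ ⊓ T₂ ≤ V) {Q : Subgroup Ω} (hQU : Q ≤ T₁ ⊓ T₂) (hQ : G.IsFullyNormalized Q)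
    (hC : centralizerIn (T₁ ⊓ T₂) Q ≤ Q) : UCentric F (T₁ ⊓ T₂) Q := by
  refine ⟨hQU, ?_⟩
  rintro _ ⟨φ, hφ, rfl⟩
  have hVS := hG.2.1.1
  haveI := finite_of_le hVS
  obtain ⟨α, hα, φ₀, hφ₀, he⟩ := hG.2.2.2 Q (hQU.trans hU) φ hφ
  obtain ⟨hfc, hfa⟩ := isFullyAutomized_and_fc_of_fn (c.pS.to_le hVS) hGs hQ
  obtain ⟨μ, hμ, hμv, hμQ⟩ := exists_normalizer_map (c.pS.to_le hVS) hfa
    (isReceptive_of_fc (c.pS.to_le hVS) hGs hfc) (isConj_symm ⟨φ₀, hφ₀, rfl⟩)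
  have hαi : V.subtype.comp (α⁻¹).toMonoidHom ∈ F.Hom V := (mem_autGroup hVS).1 (inv_mem hα)
  intro y hy
  obtain ⟨hyU, hyc⟩ := mem_centralizerIn.1 hy
  set z := α⁻¹ ⟨y, hU hyU⟩
  have hzU : (z : Ω) ∈ T₁ ⊓ T₂ := stronglyClosed_apply_mem c.closed hαi (x := ⟨y, hU hyU⟩) hyU
  have hzc : ∀ x, (z : Ω) * φ₀ x = φ₀ x * z := fun x => by
    have h1 := hyc (φ x) ⟨x, rfl⟩
    rw [he x (hom_mem hφ₀ x)] at h1
    have h2 := congrArg (fun w => ((α⁻¹ w : V) : Ω)) (Subtype.ext h1 :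
      (⟨y, hU hyU⟩ : V) * α ⟨φ₀ x, hom_mem hφ₀ x⟩ = α ⟨φ₀ x, hom_mem hφ₀ x⟩ * ⟨y, hU hyU⟩)
    simpa only [map_mul, MulAut.inv_apply_self, Subgroup.coe_mul] using h2
  have hzN : (z : Ω) ∈ normalizerIn V φ₀.range := centralizerIn_le_normalizerIn _
    (mem_centralizerIn.2 ⟨z.2, by rintro _ ⟨x, rfl⟩; exact hzc x⟩)
  have hzQ : μ ⟨z, hzN⟩ ∈ Q := by
    refine hC (mem_centralizerIn.2 ⟨stronglyClosed_apply_mem c.closed (hG.1 _ hμ) (x := ⟨_, hzN⟩) hzU,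
      fun q hq => ?_⟩)
    obtain ⟨w, ⟨x, hx⟩, rfl⟩ := hμQ.ge hq
    rw [← map_mul, ← map_mul]
    refine congrArg μ (Subtype.ext ?_)
    show (z : Ω) * w = w * z
    rw [show ((w : Ω)) = φ₀ x from hx.symm]
    exact hzc x
  obtain ⟨w, ⟨x, hx⟩, hw⟩ := hμQ.ge hzQ
  have hwz : (w : Ω) = z := congrArg Subtype.val (G.injective_of_mem hμ hw)
  refine ⟨x, ?_⟩
  rw [he x (hom_mem hφ₀ x), show (⟨φ₀ x, hom_mem hφ₀ x⟩ : V) = z from Subtype.ext (hx.trans hwz)]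
  exact congrArg Subtype.val (MulAut.apply_inv_self _ α _)

omit [Finite S] [Fact p.Prime] in
/-- Conjugation by a member of a subgroup times its centralizer is induced by the subgroup. -/
theorem conj_sup_centralizer {V Q : Subgroup Ω} (hQS : Q ≤ V) {g : Ω}
    (hg : g ∈ Q ⊔ centralizerIn (T₁ ⊓ T₂) Q) (hn : g ∈ Subgroup.normalizer (Q : Set Ω)) (b : MulAut Q) :
    b * conjAut Q hn * b⁻¹ ∈ autInducedBy V Q := by
  obtain ⟨q, hq, z, hz, rfl⟩ := exists_mul_of_mem_sup_centralizer hg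
  refine mem_autInducedBy.2 ⟨(b ⟨q, hq⟩ : Q), hQS (b ⟨q, hq⟩).2, fun x => ?_⟩
  rw [MulAut.mul_apply, MulAut.mul_apply]
  set w := b⁻¹ x with hw
  rw [show conjAut Q hn w = ⟨q, hq⟩ * w * ⟨q, hq⟩⁻¹ from Subtype.ext (by
    rw [coe_conjAut]
    show q * z * (w : Ω) * (q * z)⁻¹ = q * (w : Ω) * q⁻¹
    rw [mul_inv_rev, ← mul_assoc, mul_assoc q z, (mem_centralizerIn.1 hz).2 w w.2, ← mul_assoc,
      mul_inv_cancel_right]), map_mul, map_mul, map_inv, hw, MulAut.apply_inv_self]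
  rfl

/-- The automorphisms normalizing the Sylow part of the automizer carry induced maps to induced ones. -/
theorem conj_normalizer_induced {V : Subgroup Ω} {G : FusionSystem V} (hG : G.IsInvariantIn F)
    (hU : T₁ ⊓ T₂ ≤ V) {Q : Subgroup Ω} (hQV : Q ≤ V) {R : Sylow p (G.autGroup Q)}
    (hR : (R : Subgroup (G.autGroup Q)) = (autInducedBy V Q).subgroupOf (G.autGroup Q)) {a : G.autGroup Q}
    (haN : a ∈ Subgroup.normalizer (((R : Subgroup (G.autGroup Q)) ⊓ (c.kGen Q).subgroupOf (G.autGroup Q) :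
      Subgroup (G.autGroup Q)) : Set (G.autGroup Q))) {g : Ω} (hg : g ∈ normalizerIn (T₁ ⊓ T₂) Q) :
    (a : MulAut Q) * conjAut Q hg.2 * (a : MulAut Q)⁻¹ ∈ autInducedBy V Q := by
  have hcV : conjAut Q hg.2 ∈ autInducedBy V Q := conjAut_mem_autInducedBy hg.2 (hU hg.1)
  have hcA : conjAut Q hg.2 ∈ G.autGroup Q := autInducedBy_le_autGroup hQV hcV
  have h1 : (⟨_, hcA⟩ : G.autGroup Q) ∈ (R : Subgroup (G.autGroup Q)) := by
    rw [hR]; exact hcV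
  have h2 : (⟨_, hcA⟩ : G.autGroup Q) ∈ (c.kGen Q).subgroupOf (G.autGroup Q) :=
    c.autInducedBy_le_kGen (hQV.trans hG.2.1.1) (conjAut_mem_autInducedBy hg.2 hg.1)
  have h3 := ((Subgroup.mem_normalizer_iff.1 haN _).1 ⟨h1, h2⟩).1
  rw [hR] at h3
  exact h3

/-- The automorphisms of a fully normalized subgroup factor through the meet. -/
theorem factors_meet {V : Subgroup Ω} {G : FusionSystem V} (hGs : G.IsSaturated p) (hG : G.IsInvariantIn F)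
    (hU : T₁ ⊓ T₂ ≤ V) {Q : Subgroup Ω} (hQ : G.IsFullyNormalized Q) (hlt : Q < T₁ ⊓ T₂)
    (hIH : ∀ M : Subgroup Ω, M ≤ T₁ ⊓ T₂ → Nat.card Q < Nat.card M → ∀ φ ∈ G.Hom M,
      Factors G (c.meetSys 0) φ) {β : MulAut Q} (hβ : β ∈ G.autGroup Q) :
    Factors G (c.meetSys 0) (Q.subtype.comp β.toMonoidHom) := by
  have hVS := hG.2.1.1
  haveI := finite_of_le hVS
  have hV := c.pS.to_le hVS
  have hQU := hlt.le
  have hQV := hQ.1
  haveI := finite_of_le hQV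
  haveI : Finite (MulAut Q) := Finite.of_injective (fun f => (f : Q → Q)) DFunLike.coe_injective
  haveI := finite_of_le c.closed.1
  by_cases hC : centralizerIn (T₁ ⊓ T₂) Q ≤ Q
  swap
  · have hM : Q ⊔ centralizerIn (T₁ ⊓ T₂) Q ≤ normalizerIn (T₁ ⊓ T₂) Q :=
      sup_le (le_normalizerIn hQU) (centralizerIn_le_normalizerIn Q)
    exact factors_of_induced hV hGs hU hQ hM (lt_of_le_of_ne le_sup_left fun h => hC (le_sup_right.trans h.ge)) hIH hβ
      fun g hg => c.conj_sup_centralizer hQV hg (hM hg).2 β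
  have hQc := c.uCentric_of_fn hGs hG hU hQU hQ hC
  have hmax := c.uMax_of_fn hGs hG hU hQU hQ
  have hKD : c.kGen Q ≤ (c.meetSys 0).autGroup Q :=
    c.kGen_le_of_gen hQc hmax (c.gen_meetSys 0 Q hQc Nat.card_pos)
  obtain ⟨-, -, R, hR⟩ := isFullyAutomized_and_fc_of_fn hV hGs hQ
  haveI : ((c.kGen Q).subgroupOf (G.autGroup Q)).Normal := ⟨fun k hk g => c.congr_mem_kGen
    (hG.1 _ ((mem_autGroup hQV).1 g.2) : IsoIn F (g : MulAut Q)) hk⟩
  obtain ⟨a, haN, l, hl, hal⟩ := exists_normalizer_factor R ((c.kGen Q).subgroupOf (G.autGroup Q)) ⟨β, hβ⟩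
  obtain ⟨α, hα, φ₁, hφ₁, he₁⟩ : Factors G (c.meetSys 0) (Q.subtype.comp (a : MulAut Q).toMonoidHom) :=
    factors_of_induced hV hGs hU hQ le_rfl (lt_normalizerIn (c.pS.to_le c.closed.1) hlt) hIH a.2
      fun g hg => c.conj_normalizer_induced hG hU hQV hR haN hg
  refine ⟨α, hα, _, (c.meetSys 0).comp_mem ((mem_autGroup hQU).1 (hKD hl)) hφ₁
    (fun x => ((l : MulAut Q) x).2), fun x hx => ?_⟩
  refine Eq.trans ?_ (he₁ ((l : MulAut Q) x) hx)
  show ((β x : Q) : Ω) = _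
  rw [show β = (a : MulAut Q) * (l : MulAut Q) from congrArg Subtype.val hal]
  rfl

/-- Every map of an invariant saturated system between subgroups of the intersection factors through the
meet. -/
theorem frattini_meet {V : Subgroup Ω} {G : FusionSystem V} (hGs : G.IsSaturated p) (hG : G.IsInvariantIn F)
    (hU : T₁ ⊓ T₂ ≤ V) {P : Subgroup Ω} (hP : P ≤ T₁ ⊓ T₂)
    {φ : P →* Ω} (hφ : φ ∈ G.Hom P) : Factors G (c.meetSys 0) φ := by
  have hVS := hG.2.1.1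
  haveI := finite_of_le hVS
  refine frattini_of_aut (c.pS.to_le hVS) hGs (stronglyClosed_of_subsystem hG.1 c.closed hU)
    (fun hPT φ hφ α hα => c.meetSys_transport hPT hφ
      ((mem_autGroup c.closed.1).2 (hG.1 _ ((mem_autGroup hU).1 hα))))
    (fun Q hQ hlt hIH β hβ => ?_) _ P hP (Nat.le_add_left _ _) φ hφ
  exact c.factors_meet hGs hG hU hQ hlt hIH hβ

theorem isInvariantIn_meet {V : Subgroup Ω} {G : FusionSystem V} (hGs : G.IsSaturated p)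
    (hG : G.IsInvariantIn F) (hU : T₁ ⊓ T₂ ≤ V) (hD : (c.meetSys 0).IsSubsystemOf G) :
    (c.meetSys 0).IsInvariantIn G := by
  refine ⟨hD, stronglyClosed_of_subsystem hG.1 c.closed hU, fun P hP φ hφ α hα => ?_,
    fun P hP φ hφ => c.frattini_meet hGs hG hU hP hφ⟩
  obtain ⟨χ, hχ, hχe⟩ := c.meetSys_transport hP hφ
    ((mem_autGroup c.closed.1).2 (hG.1 _ ((mem_autGroup hU).1 hα)))
  exact ⟨χ, hχ, fun x _ hx => hχe x hx⟩

end MeetCtx

end Cfsg.Lib.FusionSys
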