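import Cfsg.Agent.Lib.FusionSys.PPowerNormal
import Cfsg.Agent.Lib.FusionSys.Tate
import Cfsg.Prelude.Def_FusionReduction

/-!
The residual limit is unique; subsystems of `p`-power index have the same residual limit.
-/

set_option autoImplicit false
set_option linter.style.haveILetI false

namespace Cfsg.Lib.FusionSys

open Cfsg Cfsg.FusionSystem

variable {Ω : Type*} [Group Ω] {p : ℕ} [Fact p.Prime]

theorem system_eq_of_hom {S : Subgroup Ω} {F G : FusionSystem S} (h : ∀ P, F.Hom P = G.Hom P) : F = G := by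
  have hh : F.Hom = G.Hom := funext h
  cases F; cases G; congr

theorem base_eq_of_hom {S T : Subgroup Ω} {F : FusionSystem S} {G : FusionSystem T}
    (h : ∀ P, F.Hom P = G.Hom P) : S = T :=
  le_antisymm (hom_le (by rw [← h]; exact subtype_mem F le_rfl : S.subtype ∈ G.Hom S))
    (hom_le (by rw [h]; exact subtype_mem G le_rfl : T.subtype ∈ F.Hom T))

theorem isSubsystemOf_refl {S : Subgroup Ω} (F : FusionSystem S) : F.IsSubsystemOf F :=
  fun _ _ h => h

theorem pResidual_unique {S U V : Subgroup Ω} [Finite S] (hS : IsPGroup p S) {F : FusionSystem S}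
    {D₁ : FusionSystem U} {D₂ : FusionSystem V} (hUV : U = V) (h₁ : D₁.IsSaturated p)
    (hi₁ : D₁.HasPPowerIndexIn F p) (h₂ : D₂.IsSaturated p) (hi₂ : D₂.HasPPowerIndexIn F p)
    (P : Subgroup Ω) : D₁.Hom P = D₂.Hom P :=
  Set.Subset.antisymm (subsystem_le_of_pPower hS h₁ hi₁.1 hUV.le hi₂ P)
    (subsystem_le_of_pPower hS h₂ hi₂.1 hUV.ge hi₁ P)

theorem hom_le_base {S T : Subgroup Ω} {F : FusionSystem S} {D : FusionSystem T} (h : D.IsSubsystemOf F) :
    T ≤ S := hom_le (h T (subtype_mem D le_rfl))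

theorem stable_limit_eq {T S₁ : Subgroup Ω} {L : FusionSystem T} {G : FusionSystem S₁}
    (h : L.IsResidualLimitOf G p) :
    ∀ {S : Subgroup Ω} [Finite S], IsPGroup p S → ∀ (F : FusionSystem S), F.IsSaturated p →
      F.hyperfocalSubgroup p = S → F.IsPPrimeResidual p F → (∀ P, G.Hom P = F.Hom P) →
      ∀ P, L.Hom P = F.Hom P := by
  have hp : p.Prime := Fact.out
  induction h with
  | stable G p _ _ => intro S _ _ F _ _ _ hGF; exact hGF
  | @step S₁ L G p D D' hD hD' _ ih =>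
    intro S _ hS F hF hhyp hres hGF
    haveI := Fact.mk hp
    obtain rfl := base_eq_of_hom hGF
    obtain rfl := system_eq_of_hom hGF
    have key : ∀ (U : Subgroup Ω), U = S₁ → ∀ D D' : FusionSystem U, D.IsSaturated p →
        D.HasPPowerIndexIn G p → D.IsPPrimeResidual p D' → ∀ P, D'.Hom P = G.Hom P := by
      intro U hU D₀ D₀' hDs hDi hD₀'
      subst hU
      have hDG : D₀ = G := system_eq_of_hom fun P =>
        Set.Subset.antisymm (hDi.1 P) (subsystem_le_of_pPower hS hF (isSubsystemOf_refl G) le_rfl hDi P)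
      subst hDG
      exact fun P => Set.Subset.antisymm (hD₀'.2.2 _ hres.1 hres.2.1 P) (hres.2.2 _ hD₀'.1 hD₀'.2.1 P)
    exact ih hp hS G hF hhyp hres (key _ hhyp D D' hD.1 hD.2 hD')

theorem residualLimit_unique {T S : Subgroup Ω} {L : FusionSystem T} {F : FusionSystem S} [Finite S]
    (hS : IsPGroup p S) (hF : F.IsSaturated p) (h : L.IsResidualLimitOf F p) :
    ∀ {T' : Subgroup Ω} {L' : FusionSystem T'}, L'.IsResidualLimitOf F p → ∀ P, L.Hom P = L'.Hom P := by
  have hp : p.Prime := Fact.out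
  have hfin : Finite S := inferInstance
  induction h with
  | stable F p hhyp hres =>
    intro T' L' h' P
    haveI := Fact.mk hp
    exact (stable_limit_eq h' hS F hF hhyp hres (fun _ => rfl) P).symm
  | @step S₁ L F p D D' hD hD' hL ih =>
    intro T' L' h'
    haveI := Fact.mk hp
    haveI : Finite S₁ := hfin
    have hle : F.hyperfocalSubgroup p ≤ S₁ := hyperfocal_le F
    cases h' with
    | stable _ _ hhyp hres =>
      exact stable_limit_eq (FusionSystem.IsResidualLimitOf.step F p D D' hD hD' hL) hS F hF hhyp hres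
        fun _ => rfl
    | step _ _ D₂ D₂' hD₂ hD₂' hL₂ =>
      have hDD : D = D₂ := system_eq_of_hom (pResidual_unique hS rfl hD.1 hD.2 hD₂.1 hD₂.2)
      subst hDD
      have hDD' : D' = D₂' := system_eq_of_hom fun P =>
        Set.Subset.antisymm (hD'.2.2 _ hD₂'.1 hD₂'.2.1 P) (hD₂'.2.2 _ hD'.1 hD'.2.1 P)
      subst hDD'
      exact ih (hS.to_le hle) hD'.1 hp (finite_of_le hle) hL₂

theorem hyperfocal_eq_of_pPower {S T : Subgroup Ω} [Finite S] (hS : IsPGroup p S) {F : FusionSystem S}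
    {E : FusionSystem T} (hsc : F.StronglyClosed T) (hidx : E.HasPPowerIndexIn F p) :
    E.hyperfocalSubgroup p = F.hyperfocalSubgroup p := by
  have hTS : T ≤ S := hsc.1
  haveI := finite_of_le hTS
  refine le_antisymm ?_ ?_
  · refine hyperfocal_le_of_coprime fun P hP α hα hc x => ?_
    exact mem_hyperfocal_of_coprime (hP.trans hTS)
      ((mem_autGroup (hP.trans hTS)).2 (hidx.1 P ((mem_autGroup hP).1 hα))) hc x
  refine hyperfocal_le_of_coprime fun P hP α hα hc x => ?_
  haveI := finite_of_le hP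
  have hr0 : ∀ y : P, (y : Ω)⁻¹ * (α y : Ω) ∈ T := fun y =>
    hidx.2.1 (mem_hyperfocal_of_coprime hP hα hc y)
  have hPT : P ⊓ T ≤ T := inf_le_right
  haveI := finite_of_le (hPT.trans hTS)
  have hm : (P.subtype.comp α.toMonoidHom).comp (Subgroup.inclusion (inf_le_left : P ⊓ T ≤ P)) ∈
      F.Hom (P ⊓ T) := restrict_mem ((mem_autGroup hP).1 hα) inf_le_left
  have hv : ∀ y : ↥(P ⊓ T), ((α ⟨y, y.2.1⟩ : P) : Ω) ∈ P ⊓ T := fun y =>
    ⟨(α _).2, hsc.2 _ hPT _ hm y⟩
  let e : MulAut ↥(P ⊓ T) := homIso hm (range_eq_of_card_le hm (hPT.trans hTS) hv le_rfl)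
  have hval : ∀ (i : ℕ) (y : ↥(P ⊓ T)), (((e ^ i) y : ↥(P ⊓ T)) : Ω) = ((α ^ i) ⟨y, y.2.1⟩ : P) := by
    intro i
    induction i with
    | zero => intro y; simp
    | succ i ih =>
      intro y
      rw [pow_succ', pow_succ', MulAut.mul_apply, MulAut.mul_apply]
      exact congrArg (fun z : P => (α z : Ω)) (Subtype.ext (ih y))
  have hord : (orderOf e).Coprime p := Nat.Coprime.coprime_dvd_left (orderOf_dvd_of_pow_eq_one
    (MulEquiv.ext fun y => Subtype.ext (by rw [hval, pow_orderOf_eq_one]; rfl))) hc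
  have heF : e ∈ F.autGroup (P ⊓ T) := (mem_autGroup (hPT.trans hTS)).2 (isoIn_homIso _ _)
  have heE : e ∈ E.autGroup (P ⊓ T) := hidx.2.2 _ hPT
    ⟨⟨e, heF⟩, Cfsg.Lib.Fusion.mem_pResidual_of_coprime (by rwa [← Subgroup.orderOf_coe]), rfl⟩
  set L := E.hyperfocalSubgroup p with hL
  set r := (x : Ω)⁻¹ * (α x : Ω) with hr
  have hrP : r ∈ P := P.mul_mem (P.inv_mem x.2) (α x).2
  have key : ∀ i : ℕ, (r ^ i)⁻¹ * ((x : Ω)⁻¹ * ((α ^ i) x : Ω)) ∈ L := by
    intro i
    induction i with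
    | zero => simp
    | succ i ih =>
      set z := (x : Ω)⁻¹ * ((α ^ i) x : Ω) with hz
      have hzT : z ∈ P ⊓ T := by
        refine ⟨P.mul_mem (P.inv_mem x.2) ((α ^ i) x).2, ?_⟩
        have h1 : r ^ i ∈ T := T.pow_mem (hr0 x) i
        have h2 : (r ^ i)⁻¹ * z ∈ T :=
          (hyperfocal_le E : L ≤ T) ih
        have := T.mul_mem h1 h2
        rwa [mul_inv_cancel_left] at this
      have h3 := mem_hyperfocal_of_coprime hPT heE hord ⟨z, hzT⟩
      have h4 : ((α ⟨z, hzT.1⟩ : P) : Ω) = (α x : Ω)⁻¹ * ((α ^ (i + 1)) x : Ω) := by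
        rw [show (⟨z, hzT.1⟩ : P) = x⁻¹ * (α ^ i) x from rfl, map_mul, map_inv, pow_succ',
          MulAut.mul_apply]
        rfl
      have h5 : (x : Ω)⁻¹ * ((α ^ (i + 1)) x : Ω) = r * ((α ⟨z, hzT.1⟩ : P) : Ω) := by
        rw [h4, hr, mul_assoc, mul_inv_cancel_left]
      have h6 : z⁻¹ * ((α ⟨z, hzT.1⟩ : P) : Ω) ∈ L := h3
      have := L.mul_mem ih h6
      rw [h5, pow_succ', mul_inv_rev, mul_assoc, inv_mul_cancel_left]
      rwa [mul_assoc, mul_inv_cancel_left] at this
  have hfin := key (orderOf α)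
  rw [pow_orderOf_eq_one, MulAut.one_apply, inv_mul_cancel, mul_one] at hfin
  have hrm : r ^ orderOf α ∈ L := by
    have := L.inv_mem hfin
    rwa [inv_inv] at this
  obtain ⟨k, hk⟩ := (hS.to_le hP) ⟨r, hrP⟩
  have hco : (orderOf α).Coprime (orderOf r) := by
    have hd : orderOf r ∣ p ^ k := orderOf_dvd_of_pow_eq_one (congrArg Subtype.val hk)
    exact Nat.Coprime.coprime_dvd_right hd (Nat.Coprime.pow_right k hc)
  obtain ⟨j, hj⟩ := exists_pow_eq_self_of_coprime hco
  rw [← hj]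
  exact L.pow_mem hrm j

theorem limit_of_pPower {S T V : Subgroup Ω} [Finite S] (hS : IsPGroup p S) {F : FusionSystem S}
    (hF : F.IsSaturated p) {E : FusionSystem T} (hsc : F.StronglyClosed T) (hE : E.IsSaturated p)
    (hidx : E.HasPPowerIndexIn F p) {L : FusionSystem V} (hL : L.IsResidualLimitOf E p)
    {U : Subgroup Ω} {L' : FusionSystem U} (hL' : L'.IsResidualLimitOf F p) :
    ∀ P, L'.Hom P = L.Hom P := by
  haveI := finite_of_le hsc.1
  cases hL' with
  | stable _ _ hhyp hres =>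
    obtain rfl : T = S := le_antisymm hsc.1 (hhyp.ge.trans hidx.2.1)
    have hEF : E = F := system_eq_of_hom fun P =>
      Set.Subset.antisymm (hidx.1 P) (subsystem_le_of_pPower hS hF (isSubsystemOf_refl F) le_rfl hidx P)
    subst hEF
    exact fun P => (stable_limit_eq hL hS E hE hhyp hres (fun _ => rfl) P).symm
  | step _ _ D D' hD hD' hL' =>
    have heq := hyperfocal_eq_of_pPower hS hsc hidx
    have hDE : D.IsSubsystemOf E := subsystem_le_of_pPower hS hD.1 hD.2.1 hidx.2.1 hidx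
    have hDres : ∀ P : Subgroup Ω, P ≤ F.hyperfocalSubgroup p →
        (pResidual p (E.autGroup P)).map (E.autGroup P).subtype ≤ D.autGroup P := by
      intro P hP
      have hPT : P ≤ T := hP.trans hidx.2.1
      refine le_trans ?_ (hD.2.2.2 P hP)
      rw [Subgroup.map_le_iff_le_comap, pResidual, Subgroup.closure_le]
      intro a ha
      refine ⟨⟨a, (mem_autGroup (hPT.trans hsc.1)).2 (hidx.1 P ((mem_autGroup hPT).1 a.2))⟩,
        Cfsg.Lib.Fusion.mem_pResidual_of_coprime ?_, rfl⟩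
      rw [Subgroup.orderOf_mk, Subgroup.orderOf_coe]
      exact ha
    have key : ∀ (W : Subgroup Ω), W = E.hyperfocalSubgroup p → ∀ D D' : FusionSystem W,
        D.IsSaturated p → D.IsSubsystemOf E →
        (∀ P : Subgroup Ω, P ≤ W → (pResidual p (E.autGroup P)).map (E.autGroup P).subtype ≤ D.autGroup P) →
        D.IsPPrimeResidual p D' → L'.IsResidualLimitOf D' p → L'.IsResidualLimitOf E p := by
      intro W hW D D' h1 h2 h3 h4 h5
      subst hW
      exact FusionSystem.IsResidualLimitOf.step E p D D' ⟨h1, h2, le_rfl, h3⟩ h4 h5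
    exact residualLimit_unique (hS.to_le hsc.1) hE (key _ heq.symm D D' hD.1 hDE hDres hD' hL') hL

end Cfsg.Lib.FusionSys
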