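import Cfsg.Agent.Lib.FusionSys.Transport

/-!
Transport of centres, simple, quasisimple systems and components.
-/

set_option autoImplicit false

namespace Cfsg.Lib.FusionSys

open Cfsg Cfsg.FusionSystem

namespace SIso

variable {Ω Ω' : Type*} [Group Ω] [Group Ω'] {S : Subgroup Ω} {S' : Subgroup Ω'} {i : SIso S S'}
variable {U : Subgroup Ω} {U' : Subgroup Ω'} {F : FusionSystem U} {F' : FusionSystem U'}

theorem exists_mapsTo_eq [Finite S] (i : SIso S S') (hU : U ≤ S) (F : FusionSystem U)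
    (hU' : U' = i.img U) : ∃ F' : FusionSystem U', i.MapsTo F F' := by
  subst hU'
  exact exists_mapsTo i hU F

theorem MapsTo.isSimple [Finite S] {p : ℕ} [Fact p.Prime] (hS : IsPGroup p S) (h : i.MapsTo F F')
    (hs : F.IsSimple p) : F'.IsSimple p := by
  obtain ⟨hsat, hne, hall⟩ := hs
  refine ⟨h.isSaturated hS hsat, fun hbot => hne ?_, fun T' E' hn => ?_⟩
  · rw [← i.symm_img_img h.le, ← h.eq, hbot, i.symm.img_bot]
  · have hT' : T' ≤ S' := hn.1.2.2.2.1.1.trans h.symm.le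
    haveI : Finite S' := Finite.of_surjective (fun x : S => (⟨i.toFun x, i.map_mem x x.2⟩ : S'))
      fun y => ⟨⟨i.invFun y, i.inv_map_mem y y.2⟩, Subtype.ext (i.right_inv y y.2)⟩
    have hS' : IsPGroup p S' := IsPGroup.of_surjective hS (i.hom.codRestrict S' fun x => i.map_mem x x.2)
      fun y => ⟨⟨i.invFun y, i.inv_map_mem y y.2⟩, Subtype.ext (i.right_inv y y.2)⟩
    obtain ⟨E, hE⟩ := exists_mapsTo i.symm hT' E'
    have hEn := hE.isNormalIn hS' h.symm hn
    rcases hall _ E hEn with h0 | ⟨hT, hHom⟩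
    · left
      rw [← i.img_symm_img hT', h0, i.img_bot]
    · right
      have hT2 : T' = U' := by rw [← i.img_symm_img hT', hT, ← h.eq]
      refine ⟨hT2, fun P' => Set.Subset.antisymm (hn.1.2.2.1 P') fun φ' hφ' => ?_⟩
      obtain ⟨P, hP, rfl⟩ := i.exists_img h.le ((hom_le hφ').trans h.eq.le)
      obtain ⟨φ, hφ, hr⟩ := h.bwd_img (hP.trans h.le) hφ'
      rw [← hHom] at hφ
      exact MapsTo.mem_fwd (i := i) hE.symm hφ hr

theorem MapsTo.isCentral (h : i.MapsTo F F') {Q : Subgroup Ω} (hQ : F.IsCentral Q) :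
    F'.IsCentral (i.img Q) := by
  refine ⟨h.eq ▸ i.img_mono hQ.1, fun P' φ' hφ' => ?_⟩
  obtain ⟨P, hP, rfl⟩ := i.exists_img h.le ((hom_le hφ').trans h.eq.le)
  obtain ⟨φ, hφ, hr⟩ := h.bwd_img (hP.trans h.le) hφ'
  obtain ⟨ψ, hψ, hψP, hψQ⟩ := hQ.2 P φ hφ
  obtain ⟨ψ', hψ', hrψ⟩ := h.fwd_eq hψ (i.img_sup (hP.trans h.le) (hQ.1.trans h.le))
  refine ⟨ψ', hψ', ?_, ?_⟩
  · rintro ⟨y, hy⟩
    obtain ⟨x, hx, -, rfl⟩ := i.mem_img.1 hy
    exact (hrψ x (Subgroup.mem_sup_left hx) _).trans ((congrArg i.toFun (hψP ⟨x, hx⟩)).trans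
      (hr x hx hy).symm)
  · rintro ⟨y, hy⟩
    obtain ⟨x, hx, -, rfl⟩ := i.mem_img.1 hy
    exact (hrψ x (Subgroup.mem_sup_right hx) _).trans (congrArg i.toFun (hψQ ⟨x, hx⟩))

theorem center_le' (F : FusionSystem U) : F.center ≤ U := sSup_le fun _ hQ => hQ.1

theorem MapsTo.center_le_symm_img (h : i.MapsTo F F') : F.center ≤ i.symm.img F'.center :=
  sSup_le fun Q hQ => (i.symm_img_img (hQ.1.trans h.le)).ge.trans
    (i.symm.img_mono (le_sSup (h.isCentral hQ)))

theorem MapsTo.img_center (h : i.MapsTo F F') : i.img F.center = F'.center := by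
  refine le_antisymm ?_ ?_
  · refine (i.img_mono h.center_le_symm_img).trans ?_
    rw [i.img_symm_img ((center_le' F').trans h.symm.le)]
  · exact h.symm.center_le_symm_img

theorem MapsTo.hyperfocal_le (h : i.MapsTo F F') (p : ℕ) :
    F.hyperfocalSubgroup p ≤ i.symm.img (F'.hyperfocalSubgroup p) := by
  refine (Subgroup.closure_le _).2 ?_
  rintro _ ⟨P, ⟨α, hαF⟩, x, hP, hα, rfl⟩
  have hPS := hP.trans h.le
  let g : F.autGroup P →* F'.autGroup (i.img P) :=
    ((MulAut.congr (i.imgEquiv hPS)).toMonoidHom.comp (F.autGroup P).subtype).codRestrict _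
      fun a => (h.mem_autGroup_iff hP a).2 a.2
  have hg : g ⟨α, hαF⟩ ∈ pResidual p (F'.autGroup (i.img P)) := by
    refine Subgroup.closure_induction (p := fun a _ => g a ∈ pResidual p (F'.autGroup (i.img P)))
      (fun a ha => Subgroup.subset_closure ?_) (by rw [_root_.map_one]; exact one_mem _)
      (fun a b _ _ ha hb => by rw [_root_.map_mul]; exact mul_mem ha hb)
      (fun a _ ha => by rw [_root_.map_inv]; exact inv_mem ha) hα
    exact Nat.Coprime.coprime_dvd_left (orderOf_map_dvd g a) ha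
  have hxS : (x : Ω) ∈ S := hPS x.2
  have hy : (x : Ω)⁻¹ * ((α x : P) : Ω) ∈ S := S.mul_mem (S.inv_mem hxS) (hPS (α x).2)
  refine i.symm.mem_img.2 ⟨i.toFun ((x : Ω)⁻¹ * ((α x : P) : Ω)), ?_, i.map_mem _ hy,
    i.symm_apply hy⟩
  refine Subgroup.subset_closure ⟨i.img P, g ⟨α, hαF⟩, ⟨i.toFun x, i.apply_mem_img hPS x.2⟩,
    h.eq ▸ i.img_mono hP, hg, ?_⟩
  rw [i.map_mul _ (S.inv_mem hxS) _ (hPS (α x).2), i.map_inv hxS]
  exact congrArg ((i.toFun (x : Ω))⁻¹ * ·) (congr_apply hPS α x _).symm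

theorem MapsTo.hyperfocal_eq (h : i.MapsTo F F') {p : ℕ} (hf : F.hyperfocalSubgroup p = U) :
    F'.hyperfocalSubgroup p = U' := by
  have h2 : F'.hyperfocalSubgroup p ≤ U' := by
    refine (Subgroup.closure_le _).2 ?_
    rintro _ ⟨P, α, x, hP, -, rfl⟩
    exact U'.mul_mem (U'.inv_mem (hP x.2)) (hP (((α : MulAut P) x).2))
  refine le_antisymm h2 ?_
  have h1 := i.img_mono (h.hyperfocal_le p)
  rw [hf, i.img_symm_img (h2.trans h.symm.le), ← h.eq] at h1
  exact h1

/-- A `MulEquiv` of groups as an isomorphism of the top subgroups. -/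
def ofTop {G G' : Type*} [Group G] [Group G'] (e : G ≃* G') : SIso (⊤ : Subgroup G) (⊤ : Subgroup G') where
  toFun := e
  invFun := e.symm
  map_mem _ _ := trivial
  inv_map_mem _ _ := trivial
  left_inv x _ := e.symm_apply_apply x
  right_inv y _ := e.apply_symm_apply y
  map_mul x _ y _ := e.map_mul x y

theorem MapsTo.quasisimple [Finite S] {p : ℕ} [Fact p.Prime] (hS : IsPGroup p S) (h : i.MapsTo F F')
    (hq : F.Quasisimple p) : F'.Quasisimple p := by
  obtain ⟨hsat, hhyp, hsimp⟩ := hq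
  refine ⟨h.isSaturated hS hsat, h.hyperfocal_eq hhyp, ?_⟩
  obtain rfl := h.eq
  intro E' hE'
  obtain ⟨-, -, -, hiff'⟩ := hE'
  haveI := finite_of_le h.le
  have hmap : (F.center.subgroupOf U).map (i.imgEquiv h.le : U →* i.img U) =
      F'.center.subgroupOf (i.img U) := by
    ext y
    constructor
    · rintro ⟨x, hx, rfl⟩
      rw [Subgroup.mem_subgroupOf, ← h.img_center]
      exact i.apply_mem_img ((center_le' F).trans h.le) hx
    · intro hy
      obtain ⟨y, hyU⟩ := y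
      obtain ⟨x, hx, hxS, rfl⟩ := i.mem_img.1 hyU
      have hy' : i.toFun x ∈ F'.center := hy
      rw [← h.img_center, i.apply_mem_img_iff hxS] at hy'
      exact ⟨⟨x, hx⟩, hy', rfl⟩
  set q := QuotientGroup.congr (F.center.subgroupOf U) (F'.center.subgroupOf (i.img U))
    (i.imgEquiv h.le) hmap with hqdef
  have hqmk : ∀ x : U, q (QuotientGroup.mk' (F.center.subgroupOf U) x) =
      QuotientGroup.mk' (F'.center.subgroupOf (i.img U)) (i.imgEquiv h.le x) :=
    fun x => QuotientGroup.congr_mk _ _ _ hmap x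
  let j := ofTop q
  haveI : Finite (i.img U) := Finite.of_equiv U (i.imgEquiv h.le).toEquiv
  obtain ⟨E, hE⟩ := exists_mapsTo_eq j.symm (U := ⊤) (U' := ⊤) le_rfl E' j.symm.img_top.symm
  have hjE : j.MapsTo E E' := hE.symm
  have hpre : ∀ P : Subgroup (U ⧸ F.center.subgroupOf U),
      preimageAlong (QuotientGroup.mk' (F'.center.subgroupOf (i.img U))) (j.img P) =
        i.img (preimageAlong (QuotientGroup.mk' (F.center.subgroupOf U)) P) := by
    intro P
    ext y
    rw [mem_preimageAlong]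
    constructor
    · rintro ⟨hy, hm⟩
      obtain ⟨x, hx, hxS, rfl⟩ := i.mem_img.1 hy
      refine i.mem_img.2 ⟨x, mem_preimageAlong.2 ⟨hx, ?_⟩, hxS, rfl⟩
      refine (j.apply_mem_img_iff (x := QuotientGroup.mk' _ (⟨x, hx⟩ : U)) trivial).1 ?_
      show q _ ∈ j.img P
      rw [hqmk]
      exact hm
    · intro hy
      obtain ⟨x, hx, hxS, rfl⟩ := i.mem_img.1 hy
      obtain ⟨hxU, hm⟩ := mem_preimageAlong.1 hx
      refine ⟨i.apply_mem_img h.le hxU, ?_⟩
      have := j.apply_mem_img (P := P) le_top hm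
      change q _ ∈ j.img P at this
      rwa [hqmk] at this
  have hfac : F.IsFactorSystem F.center (QuotientGroup.mk' (F.center.subgroupOf U)) E := by
    refine ⟨center_le' F, fun s => QuotientGroup.eq_one_iff s,
      MonoidHom.range_eq_top.2 (QuotientGroup.mk'_surjective _), fun P φ => ⟨fun hφ => ?_, ?_⟩⟩
    · refine ⟨le_top, ?_⟩
      obtain ⟨φ', hφ', hr⟩ := hjE.fwd hφ
      obtain ⟨-, φ₀', hφ₀', hind⟩ := (hiff' _ _).1 hφ'
      obtain ⟨_, _, hP', he⟩ := hind
      have hex0 : ∀ (R : Subgroup Ω'),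
          R = i.img (preimageAlong (QuotientGroup.mk' (F.center.subgroupOf U)) P) →
          ∀ ψ : R →* Ω', ψ ∈ F'.Hom R →
          ∃ φ₀ ∈ F.Hom (preimageAlong (QuotientGroup.mk' (F.center.subgroupOf U)) P), i.Rel φ₀ ψ := by
        intro R hR ψ hψ
        subst hR
        exact h.bwd_img (preimageAlong_le.trans h.le) hψ
      have hex := hex0 _ (hpre P) φ₀' hφ₀'
      obtain ⟨φ₀, hφ₀, hr₀⟩ := hex
      refine ⟨φ₀, hφ₀, preimageAlong_le, hom_mem hφ₀,
        fun x => (mem_preimageAlong.1 x.2).2, fun x => ?_⟩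
      obtain ⟨hxU, hxP⟩ := mem_preimageAlong.1 x.2
      have hx' : i.toFun x ∈ preimageAlong (QuotientGroup.mk' (F'.center.subgroupOf (i.img U))) (j.img P) := by
        rw [hpre P]
        exact i.apply_mem_img (preimageAlong_le.trans h.le) x.2
      apply q.injective
      refine Eq.trans (hr _ hxP (j.apply_mem_img le_top hxP)).symm ?_
      refine Eq.trans ?_ ((he ⟨i.toFun x, hx'⟩).trans ?_)
      · exact congrArg φ' (Subtype.ext (hqmk ⟨x, hxU⟩))
      · rw [hqmk]
        exact congrArg _ (Subtype.ext (hr₀ x x.2 hx'))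
    · rintro ⟨hP, φ₀, hφ₀, hind⟩
      obtain ⟨_, _, hP0, he⟩ := hind
      obtain ⟨φ', hr⟩ := j.exists_rel hP φ fun _ => trivial
      refine hjE.mem_bwd le_top (fun _ => trivial) ((hiff' _ _).2 ⟨le_top, ?_⟩) hr
      obtain ⟨φ₀', hφ₀', hr₀⟩ := h.fwd_eq hφ₀ (hpre P).symm
      refine ⟨φ₀', hφ₀', preimageAlong_le, hom_mem hφ₀', fun x => (mem_preimageAlong.1 x.2).2, ?_⟩
      rintro ⟨y, hy⟩
      have hy2 := hy
      rw [hpre P] at hy2
      obtain ⟨x, hx, hxS, rfl⟩ := i.mem_img.1 hy2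
      have hxP := hP0 ⟨x, hx⟩
      obtain ⟨hxU, -⟩ := mem_preimageAlong.1 hx
      have hh := hr _ hxP (j.apply_mem_img le_top hxP)
      refine Eq.trans ?_ (hh.trans ?_)
      · exact congrArg φ' (Subtype.ext (hqmk ⟨x, hxU⟩).symm)
      show q _ = _
      rw [he ⟨x, hx⟩, hqmk]
      exact congrArg _ (Subtype.ext (hr₀ x hx hy).symm)
  exact hjE.isSimple ((hS.to_le h.le).to_quotient _ |>.to_subgroup ⊤) (hsimp E hfac)

theorem MapsTo.isComponentIn [Finite S] {p : ℕ} [Fact p.Prime] (hS : IsPGroup p S) (hF : i.MapsTo F F')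
    {T : Subgroup Ω} {T' : Subgroup Ω'} {C : FusionSystem T} {C' : FusionSystem T'}
    (h : i.MapsTo C C') (hc : C.IsComponentIn F p) : C'.IsComponentIn F' p :=
  ⟨MapsTo.isSubnormalIn hS hc.1 h hF, h.quasisimple hS hc.2⟩

end SIso

end Cfsg.Lib.FusionSys
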