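import Cfsg.Agent.Lib.FusionSys.Transport
import Cfsg.Agent.Lib.FusionSys.TransportSimple
import Cfsg.Agent.Lib.FusionSys.ResidualLimitUnique
import Cfsg.Agent.Lib.FusionSys.PPrimeResidual
import Cfsg.Agent.Lib.FusionSys.Hyperfocal
import Cfsg.Agent.Lib.FusionSys.Model

/-!
Residual subsystems in models: `O^{p'}` and `O^p` of a system with a model `G` are realized by `O^{p'}(G)` and
`O^p` of it.
-/

set_option autoImplicit false
set_option linter.style.haveILetI false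

universe u v

namespace Cfsg.Lib.FusionSys

open Cfsg Cfsg.FusionSystem

variable {Ω : Type u} [Group Ω] {S : Subgroup Ω} {F : FusionSystem S} {p : ℕ}
variable {G : Type v} [Group G] {ι : S →* G}

/-- An injective homomorphism out of a subgroup realizes a system. -/
theorem exists_realized (ι : S →* G) (hι : Function.Injective ι) :
    ∃ F : FusionSystem S, F.IsRealizedBy ι := by
  refine ⟨{ Hom := fun P => {φ | ∃ (hP : P ≤ S) (hv : ∀ x : P, φ x ∈ S), ∃ g : G,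
              ∀ x : P, ι ⟨φ x, hv x⟩ = g * ι ⟨x, hP x.2⟩ * g⁻¹}
            le_of_mem := fun h => ⟨h.1, h.2.1⟩
            injective_of_mem := ?_
            conj_mem := ?_
            comp_mem := ?_
            inv_mem := ?_ }, hι, fun P hP φ hv => ⟨fun ⟨_, _, h⟩ => h, fun h => ⟨hP, hv, h⟩⟩⟩
  · rintro P φ ⟨hP, hv, g, hg⟩ a b hab
    have h1 := (hg a).symm.trans ((congrArg ι (Subtype.ext hab)).trans (hg b))
    exact Subtype.ext (congrArg (fun z : S => (z : Ω)) (hι (mul_left_cancel (mul_right_cancel h1))) :)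
  · intro P g hP hg
    refine ⟨hP, fun x => S.mul_mem (S.mul_mem hg (hP x.2)) (S.inv_mem hg), ι ⟨g, hg⟩, fun x => ?_⟩
    rw [← map_inv, ← map_mul, ← map_mul]
    rfl
  · rintro P Q φ ψ ⟨hP, hv, g, hg⟩ ⟨hQ, hw, k, hk⟩ h
    refine ⟨hP, fun x => hw _, k * g, fun x => ?_⟩
    refine (hk ⟨φ x, h x⟩).trans ?_
    rw [show (⟨((⟨φ x, h x⟩ : Q) : Ω), hQ (h x)⟩ : S) = ⟨φ x, hv x⟩ from rfl, hg x, mul_inv_rev]
    simp only [mul_assoc]
  · rintro P φ ⟨hP, hv, g, hg⟩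
    have hinj : Function.Injective φ := fun a b hab =>
      Subtype.ext (congrArg (fun z : S => (z : Ω)) (hι (mul_left_cancel (mul_right_cancel
        ((hg a).symm.trans ((congrArg ι (Subtype.ext hab)).trans (hg b))) ))) :)
    let e := MonoidHom.ofInjective hinj
    have he : ∀ x : P, e.symm ⟨φ x, x, rfl⟩ = x := fun x => by
      rw [MulEquiv.symm_apply_eq]; rfl
    refine ⟨P.subtype.comp e.symm.toMonoidHom, ⟨?_, fun y => hP (e.symm y).2, g⁻¹, ?_⟩,
      fun x => congrArg Subtype.val (he x)⟩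
    · rintro _ ⟨x, rfl⟩
      exact hv x
    · rintro ⟨_, x, rfl⟩
      show ι ⟨((e.symm ⟨φ x, x, rfl⟩ : P) : Ω), _⟩ = g⁻¹ * ι ⟨φ x, _⟩ * g⁻¹⁻¹
      rw [hg x, show (⟨((e.symm ⟨φ x, x, rfl⟩ : P) : Ω), hP (e.symm ⟨φ x, x, rfl⟩).2⟩ : S) = ⟨x, hP x.2⟩
        from Subtype.ext (congrArg (fun z : P => (z : Ω)) (he x) :)]
      group

/-- The hyperfocal subgroup of a realized system. -/
theorem hyperfocal_realized [Finite S] [Finite G] [Fact p.Prime] (hr : F.IsRealizedBy ι)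
    (hT : ∃ T : Sylow p G, (T : Subgroup G) = ι.range) (x : S) :
    (x : Ω) ∈ F.hyperfocalSubgroup p ↔ ι x ∈ pResidual p G := by
  obtain ⟨T, hT⟩ := hT
  let e : S ≃* (T : Subgroup G) := (MonoidHom.ofInjective hr.1).trans (MulEquiv.subgroupCongr hT.symm)
  let i := SIso.ofEquiv e
  have hi : ∀ s : S, i.toFun s = ι s := fun s => SIso.ofEquiv_apply e s
  have hmaps : i.MapsTo F (groupFusionSystem (T : Subgroup G)) := by
    refine ⟨le_rfl, i.img_top.symm, fun {P} {φ} hφ => ?_, fun {P'} {φ'} hφ' => ?_⟩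
    · have hP := hom_le hφ
      obtain ⟨φ', hr'⟩ := i.exists_rel hP φ (hom_mem hφ)
      obtain ⟨g, hg⟩ := exists_of_realized hr hφ
      refine ⟨φ', ⟨i.img_le P, fun y => ?_, g, fun y => ?_⟩, hr'⟩
      · obtain ⟨y, hy⟩ := y
        obtain ⟨a, ha, -, rfl⟩ := i.mem_img.1 hy
        rw [hr' a ha hy]
        exact i.map_mem _ (hom_mem hφ _)
      · obtain ⟨y, hy⟩ := y
        obtain ⟨a, ha, haS, rfl⟩ := i.mem_img.1 hy
        rw [hr' a ha hy, hi ⟨φ ⟨a, ha⟩, hom_mem hφ _⟩, hg ⟨a, ha⟩]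
        show _ = g * i.toFun a * g⁻¹
        rw [hi ⟨a, haS⟩]
    · obtain ⟨hP', hv, g, hg⟩ := hφ'
      obtain ⟨P, hP, rfl⟩ := i.exists_img (le_refl S) (P' := P') (by rw [i.img_top]; exact hP')
      obtain ⟨φ, hr'⟩ := i.symm.exists_rel hP' φ' hv
      refine ⟨φ, ?_, hr'⟩
      revert φ hr'
      rw [i.symm_img_img hP]
      intro φ hr'
      have hsym : ∀ a : P, φ a = i.symm.toFun (φ' ⟨i.toFun a, i.apply_mem_img hP a.2⟩) := by
        intro a
        have h := hr' (i.toFun a) (i.apply_mem_img hP a.2)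
          (by rw [i.symm_apply (hP a.2)]; exact a.2)
        exact (congrArg φ (Subtype.ext (i.symm_apply (hP a.2)).symm)).trans h
      have hvS : ∀ a : P, φ a ∈ S := fun a => by rw [hsym a]; exact i.symm.map_mem _ (hv _)
      refine (hr.2 P hP φ hvS).2 ⟨g, fun a => ?_⟩
      rw [← hi ⟨φ a, hvS a⟩, ← hi ⟨a, hP a.2⟩]
      show i.toFun (φ a) = g * i.toFun a * g⁻¹
      rw [hsym a, i.apply_symm (hv _)]
      exact hg _
  rw [← hi x]
  have heq := hyperfocal_group_eq T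
  constructor
  · intro hx
    obtain ⟨y, hy, -, hyx⟩ := i.symm.mem_img.1 (hmaps.hyperfocal_le p hx)
    rw [heq] at hy
    rw [← hyx, i.apply_symm hy.1]
    exact hy.2
  · intro hx
    have h := hmaps.symm.hyperfocal_le p (heq.ge ⟨i.map_mem _ x.2, hx⟩)
    exact (i.apply_mem_img_iff x.2).1 h

theorem centralizer_pCore_le_normal [Finite G] [Fact p.Prime]
    (hC : Subgroup.centralizer (pCore p G : Set G) ≤ pCore p G) (N : Subgroup G) [N.Normal] :
    Subgroup.centralizer (pCore p N : Set N) ≤ pCore p N := by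
  set Q := pCore p G
  have hQn : Q.Normal := by infer_instance
  have hQp : IsPGroup p Q := Cfsg.Lib.Core.pCore_isPGroup p G
  have hR : ∀ r : N, (r : G) ∈ Q → r ∈ pCore p N := fun r hr => by
    obtain ⟨r', hr', he⟩ := Cfsg.Lib.Core.inf_pCore_le (p := p) N ⟨hr, r.2⟩
    rwa [show r' = r from Subtype.ext he] at hr'
  refine Cfsg.Lib.Core.le_pCore ?_
  rintro ⟨c, hc⟩
  let α : MulAut Q := MulAut.conjNormal (H := Q) (c : G)
  have hα : ∀ (m : ℕ) (q : Q), (((α ^ m) q : Q) : G) = (c : G) ^ m * q * ((c : G) ^ m)⁻¹ := by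
    intro m
    induction m with
    | zero => intro q; simp
    | succ m ih =>
      intro q
      rw [pow_succ', MulAut.mul_apply]
      show (c : G) * _ * (c : G)⁻¹ = _
      rw [ih, pow_succ']
      group
  haveI : Finite Q := inferInstance
  obtain ⟨e, he⟩ := IsPGroup.iff_card.1 hQp
  have hfix : ∀ q : Q, (q : G) ∈ N → α q = q := by
    intro q hq
    apply Subtype.ext
    show (c : G) * q * (c : G)⁻¹ = q
    have h := (Subgroup.mem_centralizer_iff.1 hc) ⟨q, hq⟩ (hR _ q.2)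
    have h2 : (q : G) * c = c * q := congrArg Subtype.val h
    rw [← h2, mul_inv_cancel_right]
  have h3 := pow_eq_one_of_stabilizes (P := Q) (α := α)
    (D := fun i => if i = 0 then ⊥ else if i = 1 then Q ⊓ N else Q) (n := 2) rfl rfl ?_ ?_
  · have hmem : (c : G) ^ (Nat.card Q) ^ 2 ∈ Q := hC (Subgroup.mem_centralizer_iff.2 fun q hq => by
      have h := hα ((Nat.card Q) ^ 2) ⟨q, hq⟩
      rw [h3, MulAut.one_apply] at h
      exact eq_mul_inv_iff_mul_eq.1 h)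
    obtain ⟨j, hj⟩ := hQp ⟨_, hmem⟩
    refine ⟨e * 2 + j, Subtype.ext (Subtype.ext ?_)⟩
    have h4 : ((c : G) ^ (Nat.card Q) ^ 2) ^ p ^ j = 1 := congrArg Subtype.val hj
    rw [he, ← pow_mul, ← pow_mul, ← pow_add] at h4
    exact h4
  · intro i _ x hx
    match i with
    | 0 =>
      have : x = 1 := Subtype.ext (Subgroup.mem_bot.1 hx)
      simp [this]
    | 1 =>
      have hxN : (x : G) ∈ Q ⊓ N := hx
      rw [hfix x hxN.2]
      exact hx
    | (k + 2) => exact (α x).2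
  · intro i hi x hx
    match i with
    | 0 =>
      have hxN : (x : G) ∈ Q ⊓ N := hx
      show (x : G)⁻¹ * (α x : G) ∈ (⊥ : Subgroup G)
      rw [hfix x hxN.2, inv_mul_cancel]
      exact Subgroup.one_mem _
    | 1 =>
      refine ⟨Q.mul_mem (Q.inv_mem x.2) (α x).2, ?_⟩
      show (x : G)⁻¹ * ((c : G) * x * (c : G)⁻¹) ∈ N
      have h := (inferInstance : N.Normal).conj_mem _ c.2 (x : G)⁻¹
      rw [inv_inv] at h
      have := N.mul_mem h (N.inv_mem c.2)
      rwa [show (x : G)⁻¹ * c * x * (c : G)⁻¹ = (x : G)⁻¹ * ((c : G) * x * (c : G)⁻¹) by group] at this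
    | (k + 2) => omega

/-- The subgroup generated by the `p`-elements. -/
def pElems (p : ℕ) (G : Type v) [Group G] : Subgroup G :=
  Subgroup.closure {g : G | ∃ k : ℕ, orderOf g = p ^ k}

instance pElems_normal : (pElems p G).Normal :=
  ⟨fun n hn g => by
    have : (pElems p G).map (MulAut.conj g).toMonoidHom ≤ pElems p G := by
      rw [Subgroup.map_le_iff_le_comap]
      refine (Subgroup.closure_le _).2 fun a ha => Subgroup.subset_closure ?_
      obtain ⟨k, hk⟩ := ha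
      exact ⟨k, by rw [← hk]; exact MulEquiv.orderOf_eq (MulAut.conj g) a⟩
    exact this ⟨n, hn, rfl⟩⟩

theorem sylow_le_pElems [Fact p.Prime] (T : Sylow p G) : (T : Subgroup G) ≤ pElems p G := fun g hg =>
  Subgroup.subset_closure (by
    obtain ⟨k, hk⟩ := IsPGroup.iff_orderOf.1 T.isPGroup' ⟨g, hg⟩
    exact ⟨k, by rwa [Subgroup.orderOf_mk] at hk⟩)

theorem conj_pow_of_realized [Finite S] {P : Subgroup Ω} (hP : P ≤ S) {α : MulAut P} {g : G}
    (hg : ∀ x : P, ι ⟨(α x : Ω), hP (α x).2⟩ = g * ι ⟨x, hP x.2⟩ * g⁻¹) :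
    ∀ (j : ℕ) (x : P), ι ⟨((α ^ j) x : Ω), hP ((α ^ j) x).2⟩ = g ^ j * ι ⟨x, hP x.2⟩ * (g ^ j)⁻¹ := by
  intro j
  induction j with
  | zero => intro x; simp
  | succ j ih =>
    intro x
    rw [pow_succ' g, mul_inv_rev,
      show g * g ^ j * ι ⟨x, hP x.2⟩ * ((g ^ j)⁻¹ * g⁻¹) =
        g * (g ^ j * ι ⟨x, hP x.2⟩ * (g ^ j)⁻¹) * g⁻¹ by simp only [mul_assoc], ← ih x, ← hg]
    refine congrArg ι (Subtype.ext ?_)
    show ((α ^ (j + 1)) x : Ω) = _
    rw [pow_succ', MulAut.mul_apply]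

/-- `O^{p'}` of a system with model `G` is realized by `O^{p'}(G)`. -/
theorem pPrimeResidual_model [Finite S] [Fact p.Prime] (hS : IsPGroup p S) (hM : F.IsModel p G ι)
    {E : FusionSystem S} (hE : F.IsPPrimeResidual p E) :
    ∃ hι : ∀ x, ι x ∈ pElems p G, E.IsModel p (pElems p G) (ι.codRestrict _ hι) := by
  obtain ⟨hfin, hr, hT, hC⟩ := id hM
  haveI := hfin
  obtain ⟨T, hT'⟩ := id hT
  set K := pElems p G with hK
  have hι : ∀ x, ι x ∈ K := fun x => sylow_le_pElems T (hT'.ge ⟨x, rfl⟩)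
  set κ := ι.codRestrict K hι with hκ
  have hκinj : Function.Injective κ := fun a b h => hr.1 (congrArg Subtype.val h)
  have hTK : ∃ T₀ : Sylow p K, (T₀ : Subgroup K) = κ.range := by
    refine ⟨T.subtype (sylow_le_pElems T), ?_⟩
    rw [Sylow.coe_subtype, hT']
    ext y
    exact ⟨fun ⟨x, hx⟩ => ⟨x, Subtype.ext hx⟩, fun ⟨x, hx⟩ => ⟨x, congrArg Subtype.val hx⟩⟩
  obtain ⟨E₀, hr₀⟩ := exists_realized κ hκinj
  have hE₀sat : E₀.IsSaturated p := isSaturated_of_realized hr₀ hTK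
  have hsub : E₀.IsSubsystemOf F := by
    intro P φ hφ
    obtain ⟨k, hk⟩ := exists_of_realized hr₀ hφ
    exact (hr.2 P (hom_le hφ) φ (hom_mem hφ)).2 ⟨k, fun x => congrArg Subtype.val (hk x)⟩
  have hidx : E₀.HasPrimeToPIndexIn F p := by
    refine ⟨hsub, fun P hP => ?_⟩
    rw [Subgroup.map_le_iff_le_comap, Subgroup.closure_le]
    rintro ⟨α, hα⟩ ⟨k, hk⟩
    rw [Subgroup.orderOf_mk] at hk
    obtain ⟨g, hg⟩ := exists_of_realized hr ((mem_autGroup hP).1 hα)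
    obtain ⟨u, v, hv, huv⟩ := Nat.exists_eq_pow_mul_and_not_dvd (orderOf_pos g).ne' p
      (Fact.out : p.Prime).ne_one
    obtain ⟨s, hs⟩ := exists_pow_eq_self_of_coprime (x := α) (n := v) (by
      rw [hk]
      exact Nat.Coprime.pow_right k ((Fact.out : p.Prime).coprime_iff_not_dvd.2 hv).symm)
    have hmem : g ^ (v * s) ∈ K := by
      refine Subgroup.subset_closure ?_
      obtain ⟨j, -, hj⟩ := (Nat.dvd_prime_pow Fact.out).1
        (orderOf_dvd_of_pow_eq_one (x := g ^ (v * s)) (n := p ^ u) (by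
          rw [← pow_mul, show v * s * p ^ u = p ^ u * v * s by ring, ← huv, pow_mul, pow_orderOf_eq_one, one_pow]))
      exact ⟨j, hj⟩
    refine (mem_autGroup hP).2 ((hr₀.2 P hP _ fun x => hP (α x).2).2 ⟨⟨_, hmem⟩, fun x => Subtype.ext ?_⟩)
    show ι ⟨(α x : Ω), _⟩ = g ^ (v * s) * ι ⟨x, _⟩ * (g ^ (v * s))⁻¹
    have h := conj_pow_of_realized hP hg (v * s) x
    rw [← h]
    refine congrArg ι (Subtype.ext ?_)
    show (α x : Ω) = ((α ^ (v * s)) x : Ω)
    rw [pow_mul, hs]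
  have hEE₀ : E.IsSubsystemOf E₀ := hE.2.2 E₀ hE₀sat hidx
  -- the other inclusion
  set Q := ((pCore p G).comap ι).map S.subtype with hQdef
  have hQn := isNormal_pCore_preimage hr hT
  have hQc : F.IsCentric Q := isCentric_pCore_preimage hM
  have hQS : Q ≤ S := hQn.1
  haveI := finite_of_le hQS
  have hQmem : ∀ x : S, (x : Ω) ∈ Q ↔ ι x ∈ pCore p G := fun x =>
    ⟨fun ⟨y, hy, hyx⟩ => by rwa [show y = x from Subtype.ext hyx] at hy, fun h => ⟨x, h, rfl⟩⟩
  have hcoreS : pCore p G ≤ ι.range := hT' ▸ Cfsg.Lib.Core.pCore_le_sylow T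
  have hact : ∀ k : G, k ∈ K → ∃ a : MulAut Q, a ∈ E.autGroup Q ∧
      ∀ x : Q, ι ⟨(a x : Ω), hQS (a x).2⟩ = k * ι ⟨x, hQS x.2⟩ * k⁻¹ := by
    intro k hk
    refine Subgroup.closure_induction (p := fun k _ => ∃ a : MulAut Q, a ∈ E.autGroup Q ∧
      ∀ x : Q, ι ⟨(a x : Ω), hQS (a x).2⟩ = k * ι ⟨x, hQS x.2⟩ * k⁻¹) ?_ ⟨1, one_mem _, fun x => by simp⟩
      ?_ ?_ hk
    · rintro g ⟨m, hm⟩
      obtain ⟨φ, hφ, he⟩ := exists_hom_of_realized hr hQS g (fun x => hcoreS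
        ((inferInstance : (pCore p G).Normal).conj_mem _ ((hQmem ⟨x, hQS x.2⟩).1 x.2) g))
      have hv : ∀ x, φ x ∈ Q := fun x => (hQmem ⟨φ x, hom_mem hφ x⟩).2 (by
        rw [he x]; exact (inferInstance : (pCore p G).Normal).conj_mem _ ((hQmem ⟨x, hQS x.2⟩).1 x.2) g)
      let a : MulAut Q := homIso hφ (range_eq_of_card_le hφ hQS hv le_rfl)
      have haF : a ∈ F.autGroup Q := (mem_autGroup hQS).2 (isoIn_homIso _ _)
      have ha1 : a ^ p ^ m = 1 := by
        refine MulEquiv.ext fun x => Subtype.ext ?_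
        have h := conj_pow_of_realized (α := a) hQS (fun x => he x) (p ^ m) x
        rw [← hm, pow_orderOf_eq_one, one_mul, inv_one, mul_one, hm] at h
        exact (congrArg (fun z : S => (z : Ω)) (hr.1 h) :)
      obtain ⟨j, -, hj⟩ := (Nat.dvd_prime_pow Fact.out).1 (orderOf_dvd_of_pow_eq_one ha1)
      exact ⟨a, hE.2.1.2 Q hQS ⟨⟨a, haF⟩, Subgroup.subset_closure ⟨j, by rwa [Subgroup.orderOf_mk]⟩, rfl⟩,
        fun x => he x⟩
    · rintro g₁ g₂ _ _ ⟨a, ha, hae⟩ ⟨b, hb, hbe⟩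
      refine ⟨a * b, mul_mem ha hb, fun x => ?_⟩
      refine Eq.trans (congrArg ι (Subtype.ext rfl)) ((hae (b x)).trans ?_)
      rw [hbe x]
      group
    · rintro g₁ _ ⟨a, ha, hae⟩
      refine ⟨a⁻¹, inv_mem ha, fun x => ?_⟩
      have h := hae (a⁻¹ x)
      have h2 : (⟨((a (a⁻¹ x) : Q) : Ω), hQS (a (a⁻¹ x)).2⟩ : S) = ⟨x, hQS x.2⟩ :=
        Subtype.ext (congrArg (fun z : Q => (z : Ω)) (MulAut.apply_inv_self Q a x) :)
      rw [h2] at h
      rw [h]
      group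
  have hEF := hE.2.1.1
  have hQE : E.IsCentric Q := ⟨hQS, fun R ⟨χ, hχ, hχr⟩ => hQc.2 R ⟨χ, hEF _ hχ, hχr⟩⟩
  have hE₀E : E₀.IsSubsystemOf E := by
    intro P φ hφ
    have hP := hom_le hφ
    obtain ⟨k, hk⟩ := exists_of_realized hr₀ hφ
    have hkφ : ∀ x : P, ι ⟨φ x, hom_mem hφ x⟩ = (k : G) * ι ⟨x, hP x.2⟩ * (k : G)⁻¹ := fun x =>
      congrArg Subtype.val (hk x)
    obtain ⟨a, ha, hae⟩ := hact k k.2
    have hPQ : P ⊔ Q ≤ S := sup_le hP hQS
    haveI := finite_of_le hPQ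
    have har : (Q.subtype.comp a.toMonoidHom).range = Q := by
      ext y
      exact ⟨fun ⟨x, hx⟩ => hx ▸ (a x).2, fun hy => ⟨a⁻¹ ⟨y, hy⟩, by
        show ((a (a⁻¹ ⟨y, hy⟩) : Q) : Ω) = y
        rw [MulAut.apply_inv_self]⟩⟩
    have haE := (mem_autGroup hQS).1 ha
    obtain ⟨ψ₀, hψ₀, hψ₀e⟩ :=
      (isReceptive_of_fc hS hE.1 (isFullyCentralized_of_isCentric hQE)).2 Q _ haE har
    have hle : P ⊔ Q ≤ extender S Q (Q.subtype.comp a.toMonoidHom) := by
      refine sup_le (fun g hg => ?_) (le_extender hQS fun x => hQS (a x).2)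
      refine mem_extender_of (hP hg) (stronglyClosed_le_normalizer (isNormal_stronglyClosed hQn) (hP hg))
        (hom_mem hφ ⟨g, hg⟩) fun x hx => ?_
      refine congrArg Subtype.val (hr.1 ?_ : (⟨(a ⟨g * x * g⁻¹, hx⟩ : Ω), hQS (a _).2⟩ : S) =
        ⟨φ ⟨g, hg⟩, hom_mem hφ _⟩ * ⟨(a x : Ω), hQS (a x).2⟩ * ⟨φ ⟨g, hg⟩, hom_mem hφ _⟩⁻¹)
      rw [hae, map_mul, map_mul, map_inv, hkφ, hae,
        show (⟨((⟨g * x * g⁻¹, hx⟩ : Q) : Ω), hQS hx⟩ : S) = ⟨g, hP hg⟩ * ⟨x, hQS x.2⟩ * ⟨g, hP hg⟩⁻¹ from rfl,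
        map_mul, map_mul, map_inv]
      group
    have hψ := restrict_mem hψ₀ hle
    set ψ := ψ₀.comp (Subgroup.inclusion hle)
    obtain ⟨χ, hχ, hχe⟩ := exists_hom_of_realized hr hPQ (k : G) (by
      intro x
      have h1 : P ⊔ Q ≤ ((ι.range.comap (MulAut.conj (k : G)).toMonoidHom).comap ι).map S.subtype := by
        refine sup_le (fun y hy => ⟨⟨y, hP hy⟩, ⟨_, hkφ ⟨y, hy⟩⟩, rfl⟩)
          (fun y hy => ⟨⟨y, hQS hy⟩, hcoreS ?_, rfl⟩)
        exact (inferInstance : (pCore p G).Normal).conj_mem _ ((hQmem ⟨y, hQS hy⟩).1 hy) _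
      obtain ⟨y, hy, hyx⟩ := h1 x.2
      rw [show y = ⟨x, hPQ x.2⟩ from Subtype.ext hyx] at hy
      exact hy)
    obtain ⟨z, hzQ, -, hz⟩ := centric_ext_unique hS (isSaturated_of_realized hr hT) hQc le_sup_right (hEF _ hψ) hχ (by
      intro x hx
      refine congrArg Subtype.val (hr.1 ?_ : (⟨ψ x, hom_mem hψ x⟩ : S) = ⟨χ x, hom_mem hχ x⟩)
      rw [hχe x]
      refine Eq.trans (congrArg ι (Subtype.ext ?_)) (hae ⟨x, hx⟩)
      exact hψ₀e x hx (hle x.2))
    have hχE : χ ∈ E.Hom (P ⊔ Q) := comp_mem' (E.conj_mem hPQ (hPQ z.2)) hψ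
      (fun y => (P ⊔ Q).mul_mem ((P ⊔ Q).mul_mem z.2 y.2) ((P ⊔ Q).inv_mem z.2)) hz
    refine hom_congr (restrict_mem hχE le_sup_left) fun x => ?_
    refine congrArg Subtype.val (hr.1 ?_ : (⟨φ x, hom_mem hφ x⟩ : S) =
      ⟨χ (Subgroup.inclusion le_sup_left x), hom_mem hχ _⟩)
    rw [hkφ x, hχe]
    rfl
  have heq : E₀ = E := system_eq_of_hom fun P => Set.Subset.antisymm (hE₀E P) (hEE₀ P)
  subst heq
  exact ⟨hι, inferInstance, hr₀, hTK, centralizer_pCore_le_normal hC K⟩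

/-- `O^p` of a system with model `G` is realized by `O^p(G)`. -/
theorem exists_pResidual_model [Finite S] [Fact p.Prime] (hS : IsPGroup p S) (hM : F.IsModel p G ι) :
    ∃ (D : FusionSystem (F.hyperfocalSubgroup p)), F.IsPResidual p D ∧
      ∃ ι' : F.hyperfocalSubgroup p →* pResidual p G, D.IsModel p (pResidual p G) ι' := by
  obtain ⟨hfin, hr, hT, hC⟩ := id hM
  haveI := hfin
  obtain ⟨T₀, hT'⟩ := id hT
  have hTS : F.hyperfocalSubgroup p ≤ S := hyperfocal_le F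
  haveI := finite_of_le hTS
  set L := pResidual p G with hLdef
  have hmem : ∀ x : F.hyperfocalSubgroup p, ι (Subgroup.inclusion hTS x) ∈ L := fun x =>
    (hyperfocal_realized hr hT _).1 x.2
  set κ := (ι.comp (Subgroup.inclusion hTS)).codRestrict L hmem with hκ
  have hκinj : Function.Injective κ := fun a b h =>
    Subgroup.inclusion_injective hTS (hr.1 (congrArg Subtype.val h))
  haveI hLn : L.Normal := inferInstance
  have hTL : ∃ R : Sylow p L, (R : Subgroup L) = κ.range := by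
    obtain ⟨R, hR⟩ := exists_sylow_of_normal T₀ L
    refine ⟨R, ?_⟩
    rw [hR, hT']
    ext y
    constructor
    · rintro ⟨x, hx⟩
      exact ⟨⟨x, (hyperfocal_realized hr hT x).2 (hx ▸ y.2)⟩, Subtype.ext hx⟩
    · rintro ⟨x, hx⟩
      exact ⟨_, congrArg Subtype.val hx⟩
  obtain ⟨D, hrD⟩ := exists_realized κ hκinj
  refine ⟨D, ⟨isSaturated_of_realized hrD hTL, ?_, le_rfl, fun P hP => ?_⟩, κ, inferInstance, hrD, hTL,
    centralizer_pCore_le_normal hC L⟩
  · intro P φ hφ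
    obtain ⟨l, hl⟩ := exists_of_realized hrD hφ
    exact (hr.2 P ((hom_le hφ).trans hTS) φ fun x => hTS (hom_mem hφ x)).2
      ⟨l, fun x => congrArg Subtype.val (hl x)⟩
  · have hPS := hP.trans hTS
    rw [Subgroup.map_le_iff_le_comap, pResidual, Subgroup.closure_le]
    rintro ⟨α, hα⟩ hc
    have hc' : (orderOf α).Coprime p := by
      have := hc
      rwa [Set.mem_setOf_eq, Subgroup.orderOf_mk] at this
    obtain ⟨g, hg⟩ := exists_of_realized hr ((mem_autGroup hPS).1 hα)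
    obtain ⟨u, v, hv, huv⟩ := Nat.exists_eq_pow_mul_and_not_dvd (orderOf_pos g).ne' p
      (Fact.out : p.Prime).ne_one
    obtain ⟨s, hs⟩ := exists_pow_eq_self_of_coprime (x := α) (n := p ^ u)
      (Nat.Coprime.pow_left u hc'.symm)
    have hmemg : g ^ (p ^ u * s) ∈ L := by
      refine Cfsg.Lib.Fusion.mem_pResidual_of_coprime (Nat.Coprime.coprime_dvd_left
        (orderOf_dvd_of_pow_eq_one (x := g ^ (p ^ u * s)) (n := v) ?_)
        ((Fact.out : p.Prime).coprime_iff_not_dvd.2 hv).symm)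
      rw [← pow_mul, show p ^ u * s * v = p ^ u * v * s by ring, ← huv, pow_mul, pow_orderOf_eq_one, one_pow]
    refine (mem_autGroup hP).2 ((hrD.2 P hP _ fun x => hP (α x).2).2 ⟨⟨_, hmemg⟩, fun x => Subtype.ext ?_⟩)
    show ι ⟨(α x : Ω), _⟩ = g ^ (p ^ u * s) * ι ⟨x, _⟩ * (g ^ (p ^ u * s))⁻¹
    have h := conj_pow_of_realized hPS hg (p ^ u * s) x
    rw [← h]
    refine congrArg ι (Subtype.ext ?_)
    show (α x : Ω) = ((α ^ (p ^ u * s)) x : Ω)
    rw [pow_mul, hs]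

end Cfsg.Lib.FusionSys
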