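import Cfsg.Agent.Lib.FusionSys.NilpotentTwo

/-!
A system whose automizers of characteristic subgroups are `p`-groups is inner.
-/

set_option autoImplicit false
set_option linter.style.haveILetI false

universe u v

namespace Cfsg.Lib.FusionSys

open Cfsg Cfsg.FusionSystem

variable {Ω : Type u} [Group Ω] {S : Subgroup Ω} {F : FusionSystem S} {p : ℕ} {Q : Subgroup Ω}

theorem char_of_forall {U : Subgroup Ω}
    (h : ∀ (α : MulAut S) (x : S), (x : Ω) ∈ U → (α x : Ω) ∈ U) :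
    (U.subgroupOf S).Characteristic :=
  Subgroup.characteristic_iff_le_comap.2 fun α x hx => h α x hx

theorem apply_mem_of_char {U : Subgroup Ω} (hU : (U.subgroupOf S).Characteristic)
    (α : MulAut S) {x : S} (hx : (x : Ω) ∈ U) : (α x : Ω) ∈ U :=
  Subgroup.characteristic_iff_le_comap.1 hU α hx

theorem char_sup_centralizerIn (hQS : Q ≤ S) (hQ : (Q.subgroupOf S).Characteristic) :
    ((Q ⊔ centralizerIn S Q).subgroupOf S).Characteristic := by
  refine Subgroup.characteristic_iff_le_comap.2 fun α => ?_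
  rw [Subgroup.subgroupOf_sup hQS (centralizerIn_le Q), sup_le_iff]
  refine ⟨fun x hx => Subgroup.mem_sup_left (apply_mem_of_char hQ α hx), fun x hx => ?_⟩
  refine Subgroup.mem_sup_right (Subgroup.mem_subgroupOf.2 (mem_centralizerIn.2 ⟨(α x).2, fun y hy => ?_⟩))
  have h1 : ((α⁻¹ ⟨y, hQS hy⟩ : S) : Ω) ∈ Q := apply_mem_of_char hQ α⁻¹ hy
  have h2 : x * α⁻¹ ⟨y, hQS hy⟩ = α⁻¹ ⟨y, hQS hy⟩ * x :=
    Subtype.ext ((mem_centralizerIn.1 (Subgroup.mem_subgroupOf.1 hx)).2 _ h1)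
  have h3 := congrArg α h2
  rw [map_mul, map_mul, MulAut.apply_inv_self] at h3
  exact congrArg Subtype.val h3

theorem char_preimage (hQ : (Q.subgroupOf S).Characteristic) [(Q.subgroupOf S).Normal]
    {V : Subgroup (S ⧸ Q.subgroupOf S)}
    (hV : (V.subgroupOf (⊤ : Subgroup (S ⧸ Q.subgroupOf S))).Characteristic) :
    ((preimageAlong (QuotientGroup.mk' (Q.subgroupOf S)) V).subgroupOf S).Characteristic := by
  refine char_of_forall fun α x hx => ?_
  obtain ⟨hxS, hxV⟩ := mem_preimageAlong.1 hx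
  refine mem_preimageAlong.2 ⟨(α x).2, ?_⟩
  have hmap : (Q.subgroupOf S).map α.toMonoidHom = Q.subgroupOf S :=
    Subgroup.characteristic_iff_map_eq.1 hQ α
  let β := QuotientGroup.congr (Q.subgroupOf S) (Q.subgroupOf S) α hmap
  have hβV : ∀ y ∈ V, β y ∈ V := fun y hy =>
    apply_mem_of_char hV ((Subgroup.topEquiv.trans β).trans Subgroup.topEquiv.symm)
      (x := ⟨y, Subgroup.mem_top y⟩) hy
  exact hβV _ hxV

theorem exists_char_constrained [Finite S] [Fact p.Prime] {X : Type v} [Group X] {I : Type*}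
    (W : I → ∀ (Q : Type u) [Group Q], Subgroup Q)
    (ih : ∀ n, NilLift p X W n)
    (hW1 : ∀ i (Q : Type u) [Group Q] [Finite Q], IsPGroup p Q → Nontrivial Q → W i Q ≠ ⊥)
    (hW2 : ∀ i (Q R : Type u) [Group Q] [Group R] [Finite Q], IsPGroup p Q →
      ∀ φ : Q ≃* R, (W i Q).map φ.toMonoidHom = W i R)
    (hS : IsPGroup p S) (hF : F.IsSaturated p) (hfree : F.IsSectionFree p X)
    (hni : ¬ F ≤ innerFusionSystem S) :
    ∃ Q : Subgroup Ω, Q ≤ S ∧ Q ≠ ⊥ ∧ (Q.subgroupOf S).Characteristic ∧ NonNilAt F p Q ∧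
      centralizerIn S Q ≤ Q := by
  obtain ⟨i, hi⟩ := ih _ Ω S hS le_rfl F hF hfree hni
  have hWc := functorOf_char (W i) (hW2 i) S hS
  have hS1 : S ≠ ⊥ := by
    intro h
    refine hni (le_inner_of_autGroup hS hF fun P hP => ?_)
    have hPS : P ≤ S := by
      rcases hP with rfl | h'
      exacts [le_rfl, h'.2.1.1]
    intro a
    refine ⟨0, Subtype.ext (MulEquiv.ext fun x => ?_)⟩
    have hx : x = 1 := Subtype.ext (Subgroup.mem_bot.1 (h.le (hPS x.2)))
    simp [hx]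
  obtain ⟨Q, hQS, ⟨hQ1, hQc, hQnil⟩, hmax⟩ := exists_max_normal
    (fun U : Subgroup Ω => U ≠ ⊥ ∧ (U.subgroupOf S).Characteristic ∧ NonNilAt F p U)
    ⟨_, hWc.1, functorOf_ne_bot (W i) (hW1 i) S hS hS1, hWc.2, hi⟩
  have hQn : S ≤ Subgroup.normalizer (Q : Set Ω) := fun g hg =>
    le_normalizer_of_char hQS hQc (Subgroup.le_normalizer hg)
  refine ⟨Q, hQS, hQ1, hQc, hQnil, centralizerIn_le_of_max W (ih (Nat.card S)) hW1 hW2 hS
    (Nat.le_succ _) hF hfree hQS hQn hQ1 hQnil (fun U => (U.subgroupOf S).Characteristic)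
    (fun V hV _ hVc hQV hne hnil => ?_) (char_sup_centralizerIn hQS hQc) fun i => ?_⟩
  · haveI := finite_of_le hV
    have h1 := hmax V hV ⟨fun h => hQ1 (le_bot_iff.1 (hQV.trans h.le)), hVc, hnil⟩
    exact hne (Subgroup.eq_of_le_of_card_ge hQV h1).symm
  · exact char_preimage hQc
      (functorOf_char (W i) (hW2 i) _ ((hS.to_quotient _).to_subgroup _)).2

/-- A centric normal subgroup with a non-inner normalizer has a non-`p`-group automizer. -/
theorem not_isPGroup_autGroup_of_nonNil [Finite S] [Fact p.Prime] (hS : IsPGroup p S)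
    (hF : F.IsSaturated p) (hQS : Q ≤ S) (hQn : S ≤ Subgroup.normalizer (Q : Set Ω))
    (hnil : NonNilAt F p Q) (hc : centralizerIn S Q ≤ Q) : ¬ IsPGroup p (F.autGroup Q) := by
  intro hA
  obtain ⟨E, hE, hEs, hEF, hEQ, -⟩ := exists_normalizerPart.{u, 0} (F := F) hS hF hQS hQn
  obtain ⟨L, hLg, ι, hL, -⟩ := exists_constrained_model.{u, 0} hS hEs hEQ hc
  haveI := hL.1
  obtain ⟨T, hT⟩ := id hL.2.2.1
  have hQs := imageOf_normal hL hEQ
  have hLp : IsPGroup p L := by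
    intro g
    obtain ⟨k, hk⟩ := hA ⟨modelAut ι hL.2.1.1 hQS hQs g, by
      obtain ⟨ψ, hψ, hψe⟩ := exists_hom_of_realized hL.2.1 hQS g fun x => by
        obtain ⟨y, -, hy⟩ := hQs.conj_mem _ ⟨⟨x, hQS x.2⟩, x.2, rfl⟩ g
        exact ⟨y, hy⟩
      refine (mem_autGroup hQS).2 (hom_congr (hEF _ hψ) fun x => ?_)
      exact congrArg Subtype.val (hL.2.1.1 ((modelAut_spec ι hL.2.1.1 hQS hQs g x).trans (hψe x).symm))⟩
    have hcent : g ^ p ^ k ∈ Subgroup.centralizer (imageOf ι Q : Set L) := by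
      rw [← modelAut_eq_one_iff ι hL.2.1.1 hQS hQs, map_pow]
      exact congrArg Subtype.val hk
    obtain ⟨z, -, hz⟩ := centralizer_imageOf_le hL hEQ hc hcent
    obtain ⟨j, hj⟩ := hS z
    refine ⟨k + j, ?_⟩
    rw [pow_add, pow_mul, ← hz, ← map_pow, hj, map_one]
  refine not_le_inner_of_nonNilAt hS hE hnil fun P φ hφ => ?_
  obtain ⟨g, hg⟩ := exists_of_realized hL.2.1 hφ
  have htop : (T : Subgroup L) = ⊤ := (T.3 (hLp.to_subgroup ⊤) le_top).symm
  obtain ⟨s, rfl⟩ : g ∈ ι.range := hT ▸ htop ▸ trivial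
  refine ⟨hom_le hφ, (s : Ω), s.2, fun x => ?_⟩
  have h1 := hL.2.1.1 ((hg x).trans (by rw [← map_inv, ← map_mul, ← map_mul] :
    ι s * ι ⟨x, hom_le hφ x.2⟩ * (ι s)⁻¹ = ι (s * ⟨x, hom_le hφ x.2⟩ * s⁻¹)))
  exact congrArg Subtype.val h1

theorem le_inner_of_char_autGroup [Finite S] [Fact p.Prime] (hS : IsPGroup p S)
    (hF : F.IsSaturated p) (hp : p ≠ 2 ∨ F.IsSectionFree p (Equiv.Perm (Fin 4)))
    (h : ∀ Q : Subgroup Ω, Q ≤ S → Q ≠ ⊥ → (Q.subgroupOf S).Characteristic →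
      IsPGroup p (F.autGroup Q)) : F ≤ innerFusionSystem S := by
  by_contra hni
  have key : ∃ Q : Subgroup Ω, Q ≤ S ∧ Q ≠ ⊥ ∧ (Q.subgroupOf S).Characteristic ∧ NonNilAt F p Q ∧
      centralizerIn S Q ≤ Q := by
    by_cases h2 : p = 2
    · subst h2
      exact exists_char_constrained (thompsonFamily 2) nilLift_two thompsonFamily_ne_bot
        (fun b Q R _ _ _ _ φ => thompsonFamily_map b Q R φ) hS hF (hp.resolve_left fun h => h rfl) hni
    · exact exists_char_constrained (thompsonFamily p) (nilLift_odd h2) thompsonFamily_ne_bot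
        (fun b Q R _ _ _ _ φ => thompsonFamily_map b Q R φ) hS hF (isSectionFree_int F) hni
  obtain ⟨Q, hQS, hQ1, hQc, hnil, hc⟩ := key
  exact not_isPGroup_autGroup_of_nonNil hS hF hQS
    (fun g hg => le_normalizer_of_char hQS hQc (Subgroup.le_normalizer hg)) hnil hc (h Q hQS hQ1 hQc)

end Cfsg.Lib.FusionSys
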