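import Cfsg.Agent.Lib.FusionSys.NilpotentStronglyClosed
import Cfsg.Agent.Lib.Local.GlaubermanMaximalSylow

/-!
The axiomatic nilpotency criterion for fusion systems, `p` odd.
-/

set_option autoImplicit false
set_option linter.style.haveILetI false

universe u

namespace Cfsg.Lib.FusionSys

open Cfsg Cfsg.FusionSystem Cfsg.Lib.Local
open scoped commutatorElement

variable {Ω : Type u} [Group Ω] {S : Subgroup Ω} {F : FusionSystem S} {p : ℕ}

theorem mem_familyInf {G : Type u} [Group G] {𝒜 : Set (Subgroup G)} {Q : Subgroup G} {x : G} :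
    x ∈ GlaubermanZJ.familyInf 𝒜 Q ↔ ∀ A ∈ 𝒜, A ≤ Q → x ∈ A := by
  simp only [GlaubermanZJ.familyInf, Subgroup.mem_iInf, Set.mem_setOf_eq, and_imp]

/-- The normal `p`-complement criterion at the intersection of a conjugation family. -/
theorem le_inner_of_family [Fact p.Prime] [Finite S] (hp : p ≠ 2) (hS : IsPGroup p S)
    (hF : F.IsSaturated p) (𝒜 : Set (Subgroup Ω))
    (h𝒜 : ∀ A ∈ 𝒜, A ≤ S ∧ IsMulCommutative A) (hne : 𝒜.Nonempty)
    (hinv : ∀ Q : Subgroup Ω, Q ≤ S → (∃ A ∈ 𝒜, A ≤ Q) → ∀ α ∈ F.autGroup Q, ∀ x : Q,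
      (x : Ω) ∈ GlaubermanZJ.familyInf 𝒜 Q →
        (((α : MulAut Q) x : Q) : Ω) ∈ GlaubermanZJ.familyInf 𝒜 Q)
    (hrep : ∀ B : Subgroup Ω, B ≤ S → ⁅⁅B, B⁆, B⁆ = ⊥ →
      (∃ A ∈ 𝒜, ⁅B, B⁆ ≤ A ∧ ¬ B ≤ A) →
        ∃ A ∈ 𝒜, ⁅B, B⁆ ≤ A ∧ ¬ B ≤ A ∧ B ≤ Subgroup.normalizer (A : Set Ω))
    (hZn : S ≤ Subgroup.normalizer ((⨅ A ∈ 𝒜, A : Subgroup Ω) : Set Ω))
    (h : ∀ N : FusionSystem (normalizerIn S (⨅ A ∈ 𝒜, A)),
      F.IsNormalizerSystem (⨅ A ∈ 𝒜, A) N →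
        ∀ P : Subgroup Ω, N.Hom P = (innerFusionSystem (normalizerIn S (⨅ A ∈ 𝒜, A))).Hom P) :
    F ≤ innerFusionSystem S := by
  by_contra hni
  obtain ⟨Q₁, E, L, _, ι, hEF, hEQ, hc, hL, hnp⟩ := exists_nonNil_model hp hS hF hni
  haveI := hL.1
  obtain ⟨T, hT⟩ := id hL.2.2.1
  have hinj := hL.2.1.1
  set Z : Subgroup Ω := ⨅ A ∈ 𝒜, A with hZ
  obtain ⟨A₁, hA₁⟩ := hne
  have hZS : Z ≤ S := (iInf₂_le (f := fun (A : Subgroup Ω) (_ : A ∈ 𝒜) => A) A₁ hA₁).trans (h𝒜 A₁ hA₁).1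
  obtain ⟨N, hN⟩ := exists_normalizerSystem F hZS
  have hNp := isPGroup_normalizer_of_not_nonNilAt hS hEF hEQ hc hL hZS hZn
    (not_nonNilAt_of_system hS hN (h N hN))
  obtain ⟨M, hTM, hMp, hMc, hMst⟩ := GlaubermanZJ.exists_pStable_overgroup hp T hL.2.2.2 hnp
  -- the family in `M`
  let j : S →* M := ι.codRestrict M fun s => hTM (hT.ge ⟨s, rfl⟩)
  have hj : Function.Injective j := fun a b hab => hinj (congrArg Subtype.val hab)
  have hrange : ((T.subtype hTM : Sylow p M) : Subgroup M) = j.range := by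
    rw [Sylow.coe_subtype]
    ext ⟨y, hy⟩
    rw [Subgroup.mem_subgroupOf, hT, MonoidHom.mem_range, MonoidHom.mem_range]
    exact ⟨fun ⟨s, hs⟩ => ⟨s, Subtype.ext hs⟩, fun ⟨s, hs⟩ => ⟨s, congrArg Subtype.val hs⟩⟩
  let 𝒜₀ : Set (Subgroup S) := {A₀ | A₀.map S.subtype ∈ 𝒜}
  let 𝒜' : Set (Subgroup M) := Subgroup.map j '' 𝒜₀
  have hback : ∀ A ∈ 𝒜, A.subgroupOf S ∈ 𝒜₀ := fun A hA => by
    show (A.subgroupOf S).map S.subtype ∈ 𝒜
    rwa [Subgroup.map_subgroupOf_eq_of_le (h𝒜 A hA).1]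
  have key : ∀ (Q₀ : Subgroup S) (s : S), j s ∈ GlaubermanZJ.familyInf 𝒜' (Q₀.map j) ↔
      (s : Ω) ∈ GlaubermanZJ.familyInf 𝒜 (Q₀.map S.subtype) := by
    intro Q₀ s
    rw [mem_familyInf, mem_familyInf]
    constructor
    · intro hs A hA hAQ
      have h1 := hs _ ⟨_, hback A hA, rfl⟩ (Subgroup.map_mono (fun x hx => by
        obtain ⟨y, hy, hyx⟩ := hAQ hx
        rwa [← S.subtype_injective hyx]))
      exact (Subgroup.mem_map_iff_mem hj).1 h1
    · rintro hs _ ⟨A₀, hA₀, rfl⟩ hAQ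
      obtain ⟨y, hy, hys⟩ := hs _ hA₀ (Subgroup.map_mono
        ((Subgroup.map_le_map_iff_of_injective hj).1 hAQ))
      exact ⟨y, hy, by rw [S.subtype_injective hys]⟩
  obtain ⟨A₂, hA₂, hA₂le⟩ : ∃ A' ∈ 𝒜', A' ≤ j.range :=
    ⟨_, ⟨_, hback A₁ hA₁, rfl⟩, by rw [MonoidHom.range_eq_map]; exact Subgroup.map_mono le_top⟩
  have hpre : ∀ Q' : Subgroup M, Q' ≤ j.range → (Q'.comap j).map j = Q' := fun Q' h =>
    Subgroup.map_comap_eq_self h
  have hn : (GlaubermanZJ.familyInf 𝒜' ((T.subtype hTM : Sylow p M) : Subgroup M)).Normal := by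
    refine GlaubermanZJ.familyInf_normal hMc hMst (T.subtype hTM) 𝒜' ?_ ⟨A₂, hA₂⟩ ?_ ?_
    · rintro _ ⟨A₀, hA₀, rfl⟩
      refine ⟨by rw [hrange, MonoidHom.range_eq_map]; exact Subgroup.map_mono le_top, ?_⟩
      haveI := (h𝒜 _ hA₀).2
      refine ⟨⟨?_⟩⟩
      rintro ⟨_, a, ha, rfl⟩ ⟨_, b, hb, rfl⟩
      refine Subtype.ext ?_
      show j a * j b = j b * j a
      rw [← map_mul, ← map_mul]
      congr 1
      have hab := congrArg Subtype.val
        (mul_comm' (⟨(a : Ω), a, ha, rfl⟩ : A₀.map S.subtype) ⟨(b : Ω), b, hb, rfl⟩)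
      exact Subtype.ext hab
    · intro Q' hQ' hex g hg
      rw [hrange] at hQ'
      set Q₀ := Q'.comap j with hQ₀
      have hQ₀' : Q₀.map j = Q' := hpre Q' hQ'
      have hexΩ : ∃ A ∈ 𝒜, A ≤ Q₀.map S.subtype := by
        obtain ⟨_, ⟨A₀, hA₀, rfl⟩, hle⟩ := hex
        exact ⟨_, hA₀, Subgroup.map_mono (Subgroup.map_le_iff_le_comap.1 hle)⟩
      have hQS : Q₀.map S.subtype ≤ S := Subgroup.map_subtype_le _
      have hQmem : ∀ x : Q₀.map S.subtype, ι ⟨x, hQS x.2⟩ ∈ Q'.map M.subtype := by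
        rintro ⟨_, s, hs, rfl⟩
        exact ⟨j s, hs, rfl⟩
      have hgQ : (g : L) ∈ Subgroup.normalizer ((Q'.map M.subtype : Subgroup L) : Set L) :=
        Subgroup.le_normalizer_map M.subtype ⟨g, hg, rfl⟩
      obtain ⟨φ, hφ, hφe⟩ := exists_hom_of_realized hL.2.1 hQS (g : L) fun x => by
        obtain ⟨y, hy, hye⟩ := (Subgroup.mem_normalizer_iff.1 hgQ _).1 (hQmem x)
        rw [← hye]
        obtain ⟨s, hs⟩ := hQ' hy
        exact ⟨s, congrArg Subtype.val hs⟩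
      have hφQ : ∀ x, φ x ∈ Q₀.map S.subtype := fun x => by
        obtain ⟨y, hy, hye⟩ := (Subgroup.mem_normalizer_iff.1 hgQ _).1 (hQmem x)
        refine ⟨⟨φ x, hom_mem hφ x⟩, ?_, rfl⟩
        show j ⟨φ x, hom_mem hφ x⟩ ∈ Q'
        have h1 : j ⟨φ x, hom_mem hφ x⟩ = y := Subtype.ext ((hφe x).trans hye.symm)
        rwa [h1]
      haveI := finite_of_le hQS
      have hr : φ.range = Q₀.map S.subtype := range_eq_of_card_le hφ hQS hφQ le_rfl
      have hα := (mem_autGroup hQS).2 (isoIn_homIso (hEF _ hφ) hr)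
      refine (Subgroup.mem_normalizer_iff.2 fun y => ?_)
      have hstep : ∀ y ∈ GlaubermanZJ.familyInf 𝒜' Q',
          g * y * g⁻¹ ∈ GlaubermanZJ.familyInf 𝒜' Q' := by
        intro y hy
        obtain ⟨A', hA', hAQ⟩ := hex
        have hyQ : y ∈ Q' := hAQ (mem_familyInf.1 hy A' hA' hAQ)
        obtain ⟨s, rfl⟩ := hQ' hyQ
        rw [← hQ₀', key] at hy
        have h1 := hinv _ hQS hexΩ _ hα ⟨(s : Ω), s, hyQ, rfl⟩ hy
        rw [coe_homIso] at h1
        have h2 : g * j s * g⁻¹ = j ⟨φ ⟨(s : Ω), s, hyQ, rfl⟩, hom_mem hφ _⟩ :=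
          Subtype.ext (hφe ⟨(s : Ω), s, hyQ, rfl⟩).symm
        rw [h2, ← hQ₀', key]
        exact h1
      have himg : (GlaubermanZJ.familyInf 𝒜' Q').map (MulAut.conj g).toMonoidHom =
          GlaubermanZJ.familyInf 𝒜' Q' := by
        refine Subgroup.eq_of_le_of_card_ge ?_
          (Subgroup.card_map_of_injective (MulAut.conj g).injective).ge
        rintro _ ⟨z, hz, rfl⟩
        exact hstep z hz
      refine ⟨hstep y, fun hy => ?_⟩
      rw [← himg] at hy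
      obtain ⟨z, hz, hze⟩ := hy
      have hzy : z = y := (MulAut.conj g).injective hze
      rwa [← hzy]
    · intro B' hBn hB' hcl hex
      rw [hrange] at hB'
      set B₀ := B'.comap j with hB₀
      have hB₀' : B₀.map j = B' := hpre B' hB'
      have hcomm : ⁅B₀.map S.subtype, B₀.map S.subtype⁆ = ⁅B₀, B₀⁆.map S.subtype :=
        (Subgroup.map_commutator _ _ _).symm
      have hB₀c : ⁅⁅B₀, B₀⁆, B₀⁆ = ⊥ := by
        refine Subgroup.map_injective hj ?_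
        rw [Subgroup.map_commutator, Subgroup.map_commutator, hB₀', Subgroup.map_bot,
          Subgroup.commutator_eq_bot_iff_le_centralizer]
        exact fun x hx => Subgroup.mem_centralizer_iff.2 fun y hy => (hcl x hx y hy).eq.symm
      obtain ⟨_, ⟨A₀, hA₀, rfl⟩, hle, hnle⟩ := hex
      rw [← hB₀', ← Subgroup.map_commutator, Subgroup.map_le_map_iff_of_injective hj] at hle
      rw [← hB₀', Subgroup.map_le_map_iff_of_injective hj] at hnle
      obtain ⟨A, hA, h1, h2, h3⟩ := hrep (B₀.map S.subtype) (Subgroup.map_subtype_le _)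
        (by rw [hcomm, ← Subgroup.map_commutator, hB₀c, Subgroup.map_bot])
        ⟨_, hA₀, by rw [hcomm]; exact Subgroup.map_mono hle,
          fun h => hnle ((Subgroup.map_le_map_iff_of_injective S.subtype_injective).1 h)⟩
      refine ⟨_, ⟨_, hback A hA, rfl⟩, ?_, fun h => h2 ?_, ?_⟩
      · rw [← hB₀', ← Subgroup.map_commutator]
        refine Subgroup.map_mono fun x hx => ?_
        exact h1 (hcomm.ge ⟨x, hx, rfl⟩)
      · rw [← hB₀', Subgroup.map_le_map_iff_of_injective hj] at h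
        rintro _ ⟨x, hx, rfl⟩
        exact h hx
      · rw [← hB₀']
        refine le_trans (Subgroup.map_mono ?_) (Subgroup.le_normalizer_map j)
        intro x hx
        refine Subgroup.mem_normalizer_iff.2 fun y => ?_
        exact Subgroup.mem_normalizer_iff.1 (h3 ⟨x, hx, rfl⟩) (y : Ω)
  -- `M` normalizes the image of `Z`
  refine hMp ?_
  have himg : GlaubermanZJ.familyInf 𝒜' ((T.subtype hTM : Sylow p M) : Subgroup M) =
      (imageOf ι Z).subgroupOf M := by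
    rw [hrange, MonoidHom.range_eq_map]
    ext y
    constructor
    · intro hy
      obtain ⟨A', hA', hle⟩ : ∃ A' ∈ 𝒜', A' ≤ (⊤ : Subgroup S).map j :=
        ⟨A₂, hA₂, by rwa [← MonoidHom.range_eq_map]⟩
      obtain ⟨s, -, rfl⟩ := hle (mem_familyInf.1 hy A' hA' hle)
      rw [key, mem_familyInf] at hy
      refine ⟨s, ?_, rfl⟩
      show (s : Ω) ∈ Z
      rw [hZ, Subgroup.mem_iInf]
      exact fun A => Subgroup.mem_iInf.2 fun hA => hy A hA (by
        rw [← MonoidHom.range_eq_map, Subgroup.range_subtype]; exact (h𝒜 A hA).1)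
    · rintro ⟨s, hs, hsy⟩
      obtain rfl : j s = y := Subtype.ext hsy
      rw [key, mem_familyInf]
      exact fun A hA _ => Subgroup.mem_iInf.1 (Subgroup.mem_iInf.1 hs A) hA
  rw [himg] at hn
  have hZM : imageOf ι Z ≤ M := by
    rintro _ ⟨s, -, rfl⟩
    exact hTM (hT.ge ⟨s, rfl⟩)
  exact hNp.to_le fun g hg => Subgroup.mem_normalizer_fintype fun x hx =>
    hn.conj_mem ⟨x, hZM hx⟩ hx ⟨g, hg⟩

end Cfsg.Lib.FusionSys
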