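import Cfsg.Agent.Lib.FusionSys.NilpotentOdd
import Cfsg.Agent.Lib.FusionSys.GroupModel
import Cfsg.Agent.Lib.FusionSys.FailureTwo
import Cfsg.Agent.Lib.Fusion.Alperin

/-!
Thompson's normal `p`-complement theorem for `p = 2` without sections isomorphic to the symmetric
group on four letters, and its lift to fusion systems.
-/

set_option autoImplicit false
set_option linter.style.haveILetI false

universe u v

namespace Cfsg.Lib.FusionSys

open Cfsg Cfsg.FusionSystem

/-- If the fusion system of a group is the inner one then the group has a normal `p`-complement. -/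
theorem hasNormalPComplement_of_inner {p : ℕ} [Fact p.Prime] {G : Type u} [Group G] [Finite G]
    (P : Sylow p G) (h : groupFusionSystem (P : Subgroup G) ≤ innerFusionSystem (P : Subgroup G)) :
    HasNormalPComplement p G := by
  refine (Cfsg.Lib.Fusion.frobenius P).2 fun Q hQ g hg hco => ?_
  have hα : conjAut Q hg ∈ (groupFusionSystem (P : Subgroup G)).autGroup Q := by
    rw [autGroup_groupFusionSystem _ hQ]
    exact conjAut_mem_autInducedBy hg (Subgroup.mem_top g)
  obtain ⟨k, hk⟩ := isPGroup_autGroup_of_le_inner P.isPGroup' h hQ ⟨_, hα⟩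
  have hk' : conjAut Q hg ^ p ^ k = 1 := congrArg Subtype.val hk
  have hord : conjAut Q hg ^ orderOf g = 1 := MulEquiv.ext fun x => Subtype.ext (by
    rw [aut_pow_apply (coe_conjAut Q hg) (orderOf g) x, pow_orderOf_eq_one]
    simp)
  have h1 : conjAut Q hg = 1 := orderOf_eq_one_iff.1 (Nat.eq_one_of_dvd_coprimes
    (hco.pow_right k) (orderOf_dvd_of_pow_eq_one hord) (orderOf_dvd_of_pow_eq_one hk'))
  refine Subgroup.mem_centralizer_iff.2 fun x hx => ?_
  have h2 := coe_conjAut Q hg ⟨x, hx⟩
  rw [h1] at h2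
  exact eq_mul_inv_iff_mul_eq.1 h2

theorem functorOf_map {p : ℕ} [Fact p.Prime] (W : ∀ (Q : Type u) [Group Q], Subgroup Q)
    (hW2 : ∀ (Q R : Type u) [Group Q] [Group R] [Finite Q], IsPGroup p Q →
      ∀ φ : Q ≃* R, (W Q).map φ.toMonoidHom = W R)
    {G H : Type u} [Group G] [Group H] (f : G →* H) (hf : Function.Injective f) (T : Subgroup G)
    [Finite T] (hT : IsPGroup p T) : (functorOf W T).map f = functorOf W (T.map f) := by
  rw [functorOf, functorOf, ← hW2 T (T.map f) hT (T.equivMapOfInjective f hf), Subgroup.map_map,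
    Subgroup.map_map]
  rfl

/-- An automorphism of an abelian `2`-group of odd order fixing the involutions is trivial. -/
theorem eq_self_of_fix_involutions {G : Type u} [Group G] {g : G} {m : ℕ} (hm : Odd m)
    (hg : g ^ m = 1) (Z : Subgroup G) (hZ : IsPGroup 2 Z)
    (hZc : ∀ a ∈ Z, ∀ b ∈ Z, a * b = b * a) (hinv : ∀ z ∈ Z, g * z * g⁻¹ ∈ Z)
    (hfix : ∀ z ∈ Z, z * z = 1 → g * z * g⁻¹ = z) : ∀ z ∈ Z, g * z * g⁻¹ = z := by
  suffices ∀ (k : ℕ), ∀ z ∈ Z, z ^ 2 ^ k = 1 → g * z * g⁻¹ = z by
    intro z hz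
    obtain ⟨k, hk⟩ := hZ ⟨z, hz⟩
    exact this k z hz (congrArg Subtype.val hk)
  intro k
  induction k with
  | zero =>
    intro z _ h
    rw [pow_zero, pow_one] at h
    simp [h]
  | succ k ih =>
    intro z hz h
    have hsq : g * (z * z) * g⁻¹ = z * z := ih _ (Z.mul_mem hz hz) (by
      rw [← pow_two, ← pow_mul, ← pow_succ']; exact h)
    set d := z⁻¹ * (g * z * g⁻¹) with hd
    have hdZ : d ∈ Z := Z.mul_mem (Z.inv_mem hz) (hinv z hz)
    have hd2 : d * d = 1 := by
      have h1 : g * z * g⁻¹ * (g * z * g⁻¹) = z * z := by rw [← hsq]; group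
      calc d * d = z⁻¹ * (g * z * g⁻¹ * z⁻¹) * (g * z * g⁻¹) := by rw [hd]; group
        _ = z⁻¹ * (z⁻¹ * (g * z * g⁻¹)) * (g * z * g⁻¹) := by
            rw [hZc _ (hinv z hz) _ (Z.inv_mem hz)]
        _ = z⁻¹ * z⁻¹ * (g * z * g⁻¹ * (g * z * g⁻¹)) := by group
        _ = 1 := by rw [h1]; group
    have hdfix := hfix d hdZ hd2
    have hpow : ∀ n : ℕ, g ^ n * z * (g ^ n)⁻¹ = z * d ^ n := by
      intro n
      induction n with
      | zero => simp
      | succ n ihn =>
        have h5 : g * d ^ n * g⁻¹ = d ^ n := by rw [← conj_pow, hdfix]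
        calc g ^ (n + 1) * z * (g ^ (n + 1))⁻¹ = g * (g ^ n * z * (g ^ n)⁻¹) * g⁻¹ := by
              rw [pow_succ']; group
          _ = g * z * g⁻¹ * (g * d ^ n * g⁻¹) := by rw [ihn]; group
          _ = z * d * d ^ n := by
              rw [h5, show z * d = g * z * g⁻¹ from mul_inv_cancel_left z _]
          _ = z * d ^ (n + 1) := by rw [pow_succ', mul_assoc]
    have h5 := hpow m
    rw [hg] at h5
    obtain ⟨j, rfl⟩ := hm
    rw [pow_succ, pow_mul, pow_two, hd2, one_pow, one_mul, one_mul, inv_one, mul_one] at h5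
    calc g * z * g⁻¹ = z * d := (mul_inv_cancel_left z _).symm
      _ = z := h5.symm

theorem isPGroup_two_of_local {n : ℕ}
    (ih : NilLift.{u} 2 (Equiv.Perm (Fin 4)) (thompsonFamily 2) n) :
    ∀ (N : ℕ) (L : Type u) [Group L] [Finite L] (P : Sylow 2 L), Nat.card L ≤ N →
      Nat.card (P : Subgroup L) ≤ n + 1 →
      Subgroup.centralizer ((pCore 2 L : Subgroup L) : Set L) ≤ pCore 2 L →
      ¬ Involves (Equiv.Perm (Fin 4)) L →
      (∀ i, IsPGroup 2 ↥(Subgroup.normalizer
        (functorOf (thompsonFamily 2 i) (P : Subgroup L) : Set L))) → IsPGroup 2 L := by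
  haveI : Fact (Nat.Prime 2) := ⟨Nat.prime_two⟩
  have hW2 : ∀ i (Q R : Type u) [Group Q] [Group R] [Finite Q], IsPGroup 2 Q → ∀ φ : Q ≃* R,
      (thompsonFamily 2 i Q).map φ.toMonoidHom = thompsonFamily 2 i R :=
    fun b Q R _ _ _ _ φ => thompsonFamily_map b Q R φ
  intro N
  induction N with
  | zero =>
    intro L _ _ P hN
    exact absurd (Nat.card_pos (α := L)) (by omega)
  | succ N ihN =>
    intro L _ _ P hN hPn hC hfree hloc
    have hP2 : IsPGroup 2 (P : Subgroup L) := P.isPGroup'
    have hsub : ∀ M : Subgroup L, (P : Subgroup L) ≤ M → M ≠ ⊤ → IsPGroup 2 M := by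
      intro M hPM hM
      have hPmap : ((P.subtype hPM : Sylow 2 M) : Subgroup M).map M.subtype = (P : Subgroup L) := by
        rw [Sylow.coe_subtype, Subgroup.map_subgroupOf_eq_of_le hPM]
      have hQP : pCore 2 L ≤ M := (Cfsg.Lib.Core.pCore_le_sylow P).trans hPM
      have hQM : (pCore 2 L).subgroupOf M ≤ pCore 2 M :=
        Cfsg.Lib.Core.le_pCore' inferInstance
          ((Cfsg.Lib.Core.pCore_isPGroup 2 L).comap_of_injective M.subtype M.subtype_injective)
      refine ihN M (P.subtype hPM) ?_ ?_ ?_ ?_ fun i => ?_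
      · have := Cfsg.Lib.Core.lt_card_of_ne_top hM
        omega
      · rw [← Subgroup.card_map_of_injective M.subtype_injective, hPmap]
        exact hPn
      · intro c hc
        refine hQM (Subgroup.mem_subgroupOf.2 (hC (Subgroup.mem_centralizer_iff.2 fun x hx => ?_)))
        exact congrArg Subtype.val
          (Subgroup.mem_centralizer_iff.1 hc (⟨x, hQP hx⟩ : M) (hQM hx))
      · exact fun h => hfree (involves_of_injective M.subtype_injective h)
      · rintro ⟨g, hg⟩
        have h1 : (g : L) ∈ Subgroup.normalizer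
            (functorOf (thompsonFamily 2 i) (P : Subgroup L) : Set L) := by
          have h2 := Subgroup.le_normalizer_map M.subtype ⟨g, hg, rfl⟩
          rwa [functorOf_map (thompsonFamily 2 i) (hW2 i) M.subtype M.subtype_injective _
            (P.subtype hPM).isPGroup', hPmap] at h2
        obtain ⟨k, hk⟩ := hloc i ⟨_, h1⟩
        exact ⟨k, Subtype.ext (Subtype.ext ((congrArg Subtype.val hk : _) : (g : L) ^ 2 ^ k = 1))⟩
    have hQp : IsPGroup 2 (pCore 2 L) := Cfsg.Lib.Core.pCore_isPGroup 2 L
    have hQP : pCore 2 L ≤ (P : Subgroup L) := Cfsg.Lib.Core.pCore_le_sylow P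
    set Q := pCore 2 L with hQdef
    by_cases hQ : Q = ⊥
    · intro g
      have hg : g ∈ Q := hC (Subgroup.mem_centralizer_iff.2 fun x hx => by
        rw [hQ] at hx
        simp [Subgroup.mem_bot.1 hx])
      rw [hQ, Subgroup.mem_bot] at hg
      exact ⟨0, by simp [hg]⟩
    haveI hQn : Q.Normal := by rw [hQdef]; infer_instance
    set π := QuotientGroup.mk' Q
    have hπ : Function.Surjective π := QuotientGroup.mk'_surjective Q
    have hker : π.ker = Q := QuotientGroup.ker_mk' Q
    set P' := P.mapSurjective hπ with hP'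
    have hP'eq : (P' : Subgroup (L ⧸ Q)) = (P : Subgroup L).map π := Sylow.coe_mapSurjective hπ P
    have hcard : Nat.card (P' : Subgroup (L ⧸ Q)) ≤ n := by
      have hlt : Nat.card (P' : Subgroup (L ⧸ Q)) < Nat.card (P : Subgroup L) := by
        rw [hP'eq]
        refine lt_of_le_of_ne (Nat.card_le_card_of_surjective _ (π.subgroupMap_surjective _)) ?_
        intro he
        refine hQ ((Subgroup.eq_bot_iff_forall Q).2 fun x hx => ?_)
        have hinj : Function.Injective (π.subgroupMap (P : Subgroup L)) :=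
          ((Nat.bijective_iff_surjective_and_card _).2
            ⟨π.subgroupMap_surjective _, he.symm⟩).1
        have h1 : π.subgroupMap (P : Subgroup L) ⟨x, hQP hx⟩ =
            π.subgroupMap (P : Subgroup L) 1 := Subtype.ext
          (((QuotientGroup.eq_one_iff x).2 hx).trans (map_one π).symm)
        exact congrArg Subtype.val (hinj h1)
      omega
    have hfree' : ¬ Involves (Equiv.Perm (Fin 4)) (L ⧸ Q) := fun h =>
      hfree (involves_of_surjective hπ h)
    have hinner : groupFusionSystem (P' : Subgroup (L ⧸ Q)) ≤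
        innerFusionSystem (P' : Subgroup (L ⧸ Q)) := by
      by_contra hni
      obtain ⟨i, R, α, ⟨hα, hR, -, ψ, ⟨-, -, g, hg⟩, hψe, hψU⟩, hne⟩ :=
        ih (L ⧸ Q) (P' : Subgroup (L ⧸ Q)) P'.isPGroup' hcard _ (isSaturated_groupFusionSystem P')
          (isSectionFree_groupFusionSystem P' hfree') hni
      have hWc := functorOf_char (thompsonFamily 2 i) (hW2 i) (P' : Subgroup (L ⧸ Q)) P'.isPGroup'
      set U := functorOf (thompsonFamily 2 i) (P' : Subgroup (L ⧸ Q))
      have hP'ne : (P' : Subgroup (L ⧸ Q)) ≠ ⊥ := by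
        intro h
        refine hne 0 (MulEquiv.ext fun x => ?_)
        have hx : x = 1 := Subtype.ext (Subgroup.mem_bot.1 (h.le (hR x.2).1))
        simp [hx]
      have hUne : U ≠ ⊥ := functorOf_ne_bot (thompsonFamily 2 i) (thompsonFamily_ne_bot i) _
        P'.isPGroup' hP'ne
      have hgU : g ∈ Subgroup.normalizer (U : Set (L ⧸ Q)) := by
        refine Subgroup.mem_normalizer_fintype fun x hx => ?_
        show g * x * g⁻¹ ∈ U
        rw [← hg ⟨x, Subgroup.mem_sup_right hx⟩]
        exact hψU.le (mem_map_subgroupOf.2 ⟨x, _, hx, rfl⟩)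
      have hPV : (P : Subgroup L) ≤ Subgroup.normalizer ((U.comap π : Subgroup L) : Set L) := by
        intro x hx
        rw [← Subgroup.comap_normalizer_eq_of_surjective U hπ, Subgroup.mem_comap]
        refine le_normalizer_of_char hWc.1 hWc.2 (Subgroup.le_normalizer ?_)
        rw [hP'eq]
        exact ⟨x, hx, rfl⟩
      have hM : Subgroup.normalizer ((U.comap π : Subgroup L) : Set L) ≠ ⊤ := by
        intro htop
        have hn : (U.comap π).Normal := Subgroup.normalizer_eq_top_iff.1 htop
        have hp : IsPGroup 2 (U.comap π) := IsPGroup.comap_of_ker_isPGroup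
          (P'.isPGroup'.to_le hWc.1) π (by rw [hker]; exact hQp)
        have hle : U.comap π ≤ Q := Cfsg.Lib.Core.le_pCore' hn hp
        refine hUne (le_bot_iff.1 fun y hy => ?_)
        obtain ⟨x, rfl⟩ := hπ y
        exact Subgroup.mem_bot.2 ((QuotientGroup.eq_one_iff x).2 (hle hy))
      obtain ⟨g', rfl⟩ := hπ g
      have hg' : g' ∈ Subgroup.normalizer ((U.comap π : Subgroup L) : Set L) := by
        rw [← Subgroup.comap_normalizer_eq_of_surjective U hπ]
        exact hgU
      obtain ⟨k, hk⟩ := hsub _ hPV hM ⟨g', hg'⟩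
      have hk' : g' ^ 2 ^ k = 1 := congrArg Subtype.val hk
      refine hne k (MulEquiv.ext fun x => Subtype.ext ?_)
      rw [aut_pow_apply (g := π g') (fun z => (hψe z).symm.trans (hg (Subgroup.inclusion le_sup_left z)))
        (2 ^ k) x, ← map_pow, hk', map_one]
      simp
    obtain ⟨K, hKn, hKc⟩ := (Cfsg.Lib.Fusion.hasNormalPComplement_iff_exists P').1
      (hasNormalPComplement_of_inner P' hinner)
    have hKodd : ¬ 2 ∣ Nat.card K := fun h => (Nat.prime_two.coprime_iff_not_dvd).1
      (Cfsg.Lib.Fusion.coprime_card_of_complement hKc).symm h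
    by_contra hnot
    -- the involutions of the centre of `Q`
    have hVc : ∀ a b : L, a ∈ Q → b ∈ Q → (∀ q ∈ Q, a * q = q * a) → a * b = b * a :=
      fun a b _ hb h => h b hb
    let V : Subgroup L :=
      { carrier := {x | x ∈ Q ∧ (∀ q ∈ Q, x * q = q * x) ∧ x * x = 1}
        one_mem' := ⟨Q.one_mem, fun q _ => by simp, one_mul 1⟩
        mul_mem' := fun {a b} ha hb => ⟨Q.mul_mem ha.1 hb.1,
          fun q hq => (Commute.mul_left (ha.2.1 q hq) (hb.2.1 q hq)).eq, by
            rw [mul_assoc a b, ← mul_assoc b a b, ← ha.2.1 b hb.1, mul_assoc a b b, hb.2.2, mul_one,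
              ha.2.2]⟩
        inv_mem' := fun {a} ha => by
          rw [inv_eq_of_mul_eq_one_right ha.2.2]; exact ha }
    have hVn : V.Normal := ⟨fun x hx g => by
      refine ⟨hQn.conj_mem x hx.1 g, fun q hq => ?_, ?_⟩
      · have h1 := hQn.conj_mem q hq g⁻¹
        rw [inv_inv] at h1
        calc g * x * g⁻¹ * q = g * (x * (g⁻¹ * q * g)) * g⁻¹ := by group
          _ = g * (g⁻¹ * q * g * x) * g⁻¹ := by rw [hx.2.1 _ h1]
          _ = q * (g * x * g⁻¹) := by group
      · calc g * x * g⁻¹ * (g * x * g⁻¹) = g * (x * x) * g⁻¹ := by group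
          _ = 1 := by rw [hx.2.2]; simp⟩
    haveI := hVn
    have hVQ : V ≤ Q := fun x hx => hx.1
    let ρ : L →* MulAut V := MulAut.conjNormal
    have hρ : ∀ (g : L) (v : V), (ρ g v : L) = g * v * g⁻¹ := fun g v => MulAut.conjNormal_apply g v
    have hρker : ∀ g : L, ρ g = 1 ↔ g ∈ Subgroup.centralizer (V : Set L) := by
      intro g
      rw [Subgroup.mem_centralizer_iff]
      constructor
      · intro h x hx
        have h1 := hρ g ⟨x, hx⟩
        rw [h] at h1
        exact eq_mul_inv_iff_mul_eq.1 h1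
      · intro h
        refine MulEquiv.ext fun v => Subtype.ext ?_
        rw [hρ, MulAut.one_apply, ← h v v.2, mul_inv_cancel_right]
    haveI hCn : (Subgroup.centralizer (V : Set L)).Normal := Subgroup.normal_centralizer (H := V)
    have hQCV : Q ≤ Subgroup.centralizer (V : Set L) := fun q hq =>
      Subgroup.mem_centralizer_iff.2 fun x hx => hx.2.1 q hq
    have hCV : Subgroup.centralizer (V : Set L) ≤ Q := by
      by_cases htop : Subgroup.centralizer (V : Set L) ⊔ (P : Subgroup L) = ⊤
      · refine absurd ?_ hnot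
        -- odd elements centralize the centre of the Sylow subgroup
        intro g
        obtain ⟨i, m, hm, hord⟩ := Nat.exists_eq_pow_mul_and_not_dvd (orderOf_pos g).ne' 2 (by norm_num)
        refine ⟨i, ?_⟩
        set x := g ^ 2 ^ i
        have hxm : x ^ m = 1 := by rw [← pow_mul, ← hord, pow_orderOf_eq_one]
        have hodd : Odd m := Nat.odd_iff.2 (Nat.two_dvd_ne_zero.1 hm)
        have hxC : x ∈ Subgroup.centralizer (V : Set L) := by
          have hidx : IsPGroup 2 (L ⧸ Subgroup.centralizer (V : Set L)) := by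
            refine hP2.of_surjective
              ((QuotientGroup.mk' (Subgroup.centralizer (V : Set L))).comp (P : Subgroup L).subtype) ?_
            rw [← MonoidHom.range_eq_top, MonoidHom.range_comp, Subgroup.range_subtype]
            rw [← Subgroup.map_top_of_surjective _ (QuotientGroup.mk'_surjective
              (Subgroup.centralizer (V : Set L))), ← htop, Subgroup.map_sup,
              QuotientGroup.map_mk'_self, bot_sup_eq]
          obtain ⟨j, hj⟩ := hidx (QuotientGroup.mk x)
          have hm' : (QuotientGroup.mk x : L ⧸ Subgroup.centralizer (V : Set L)) ^ m = 1 := by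
            rw [← QuotientGroup.mk_pow, hxm, QuotientGroup.mk_one]
          refine (QuotientGroup.eq_one_iff x).1 (orderOf_eq_one_iff.1 (Nat.eq_one_of_dvd_coprimes
            ((Nat.coprime_two_left.2 hodd).pow_left j) (orderOf_dvd_of_pow_eq_one hj)
            (orderOf_dvd_of_pow_eq_one hm')))
        set Z := Q ⊓ Subgroup.centralizer (Q : Set L)
        have hZmem : ∀ z, z ∈ Z ↔ z ∈ Q ∧ ∀ q ∈ Q, z * q = q * z := fun z => by
          rw [Subgroup.mem_inf, Subgroup.mem_centralizer_iff]
          exact ⟨fun h => ⟨h.1, fun q hq => (h.2 q hq).symm⟩,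
            fun h => ⟨h.1, fun q hq => (h.2 q hq).symm⟩⟩
        have hZn : Z.Normal := by
          haveI : (Subgroup.centralizer (Q : Set L)).Normal := Subgroup.normal_centralizer (H := Q)
          infer_instance
        have hfix := eq_self_of_fix_involutions hodd hxm Z (hQp.to_le inf_le_left)
          (fun a ha b hb => ((hZmem a).1 ha).2 b hb.1) (fun z hz => hZn.conj_mem z hz x)
          (fun z hz h2 => by
            have hzV : z ∈ V := ⟨((hZmem z).1 hz).1, ((hZmem z).1 hz).2, h2⟩
            rw [← Subgroup.mem_centralizer_iff.1 hxC z hzV, mul_inv_cancel_right])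
        have hxN : x ∈ Subgroup.normalizer
            (functorOf (thompsonFamily 2 false) (P : Subgroup L) : Set L) := by
          have h1 : functorOf (thompsonFamily 2 false) (P : Subgroup L) =
              (P : Subgroup L) ⊓ Subgroup.centralizer ((P : Subgroup L) : Set L) :=
            Cfsg.Lib.Core.center_map_eq_inf_centralizer _
          rw [h1]
          refine Subgroup.centralizer_le_normalizer _ (Subgroup.mem_centralizer_iff.2 fun z hz => ?_)
          obtain ⟨hzP, hzc⟩ := hz
          have hzQ : z ∈ Q := hC (Subgroup.mem_centralizer_iff.2 fun q hq =>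
            Subgroup.mem_centralizer_iff.1 hzc q (hQP hq))
          exact (eq_mul_inv_iff_mul_eq.1 (hfix z ((hZmem z).2 ⟨hzQ, fun q hq =>
            (Subgroup.mem_centralizer_iff.1 hzc q (hQP hq)).symm⟩)).symm)
        obtain ⟨j, hj⟩ := hloc false ⟨x, hxN⟩
        have hj' : x ^ 2 ^ j = 1 := congrArg Subtype.val hj
        exact orderOf_eq_one_iff.1 (Nat.eq_one_of_dvd_coprimes
          ((Nat.coprime_two_left.2 hodd).pow_left j) (orderOf_dvd_of_pow_eq_one hj')
          (orderOf_dvd_of_pow_eq_one hxm))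
      · exact Cfsg.Lib.Core.le_pCore' hCn ((hsub _ le_sup_right htop).to_le le_sup_left)
    -- a largest elementary abelian subgroup outside `Q`
    obtain ⟨A, hA, hAQ⟩ : ∃ A ∈ maxElementaryAbelianSubgroups 2 (P : Subgroup L),
        ¬ A.map (P : Subgroup L).subtype ≤ Q := by
      by_contra hh
      push Not at hh
      refine hnot ?_
      have htop : Subgroup.normalizer
          (functorOf (thompsonFamily 2 true) (P : Subgroup L) : Set L) = ⊤ := by
        rw [eq_top_iff]
        intro g _
        refine Cfsg.Lib.Fusion.le_normalizer_of_conj_mem fun x hx => ?_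
        change x ∈ (sSup (maxElementaryAbelianSubgroups 2 (P : Subgroup L))).map
          (P : Subgroup L).subtype at hx
        show g * x * g⁻¹ ∈ (thompsonSubgroup 2 (P : Subgroup L)).map (P : Subgroup L).subtype
        suffices hle : (sSup (maxElementaryAbelianSubgroups 2 (P : Subgroup L))).map
            (P : Subgroup L).subtype ≤ ((thompsonSubgroup 2 (P : Subgroup L)).map
              (P : Subgroup L).subtype).comap (MulAut.conj g).toMonoidHom from hle hx
        rw [Subgroup.map_le_iff_le_comap, sSup_le_iff]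
        intro B hB
        rw [← Subgroup.map_le_iff_le_comap, ← Subgroup.map_le_iff_le_comap]
        set B' := (B.map (P : Subgroup L).subtype).map (MulAut.conj g).toMonoidHom
        have hB'P : B' ≤ (P : Subgroup L) := by
          rintro _ ⟨y, hy, rfl⟩
          exact hQP (hQn.conj_mem y (hh B hB hy) g)
        have hmem : B'.subgroupOf (P : Subgroup L) ∈
            maxElementaryAbelianSubgroups 2 (P : Subgroup L) := by
          refine ⟨Cfsg.Lib.Thompson.isEA_subgroupOf (Cfsg.Lib.Thompson.isEA_map _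
            (Cfsg.Lib.Thompson.isEA_map _ hB.1)) _, fun C hC => (hB.2 C hC).trans ?_⟩
          rw [Nat.card_congr (Subgroup.subgroupOfEquivOfLe hB'P).toEquiv,
            Subgroup.card_map_of_injective (MulAut.conj g).injective,
            Subgroup.card_map_of_injective (P : Subgroup L).subtype_injective]
        calc B' = (B'.subgroupOf (P : Subgroup L)).map (P : Subgroup L).subtype :=
              (Subgroup.map_subgroupOf_eq_of_le hB'P).symm
          _ ≤ _ := Subgroup.map_mono (le_sSup hmem)
      intro g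
      obtain ⟨k, hk⟩ := hloc true ⟨g, by rw [htop]; trivial⟩
      exact ⟨k, congrArg Subtype.val hk⟩
    set A₁ := A.map (P : Subgroup L).subtype
    have hA₁P : A₁ ≤ (P : Subgroup L) := Subgroup.map_subtype_le _
    have hA₁EA : IsElementaryAbelian 2 A₁ := Cfsg.Lib.Thompson.isEA_map _ hA.1
    -- the offender inequality
    have hoff : Nat.card V ≤ Nat.card (A₁.map ρ) *
        Nat.card (fixedOf ((A₁.map ρ : Subgroup (MulAut V)) : Set (MulAut V))) := by
      set B₁ := A₁ ⊓ Q
      have hX : IsElementaryAbelian 2 (B₁ ⊔ V : Subgroup L) := by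
        have hcl : B₁ ⊔ V = Subgroup.closure ((B₁ : Set L) ∪ (V : Set L)) := by
          rw [Subgroup.closure_union, Subgroup.closure_eq, Subgroup.closure_eq]
        rw [hcl]
        refine Cfsg.Lib.Thompson.isEA_closure ?_ ?_
        · rintro a (ha | ha) b (hb | hb)
          · exact Cfsg.Lib.Thompson.isEA_commute hA₁EA ha.1 hb.1
          · exact ((hb.2.1 a ha.2)).symm
          · exact ha.2.1 b hb.2
          · exact ha.2.1 b hb.1
        · rintro a (ha | ha)
          · exact hA₁EA.2 a ha.1
          · rw [pow_two]; exact ha.2.2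
      have hXP : B₁ ⊔ V ≤ (P : Subgroup L) := sup_le (inf_le_left.trans hA₁P) (hVQ.trans hQP)
      have hmax : Nat.card ↥(B₁ ⊔ V) ≤ Nat.card A₁ := by
        rw [← Nat.card_congr (Subgroup.subgroupOfEquivOfLe hXP).toEquiv,
          Subgroup.card_map_of_injective (P : Subgroup L).subtype_injective]
        exact hA.2 _ (Cfsg.Lib.Thompson.isEA_subgroupOf hX _)
      have hB₁ : Nat.card B₁ = Nat.card (ρ.subgroupMap A₁).ker := by
        refine Nat.card_congr
          { toFun := fun b => ⟨⟨b, b.2.1⟩, Subtype.ext ((hρker b).2 (hQCV b.2.2))⟩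
            invFun := fun a => ⟨(a : A₁), (a : A₁).2, hCV ((hρker _).1 (congrArg Subtype.val a.2))⟩
            left_inv := fun b => rfl
            right_inv := fun a => rfl }
      have hAcard : Nat.card A₁ = Nat.card B₁ * Nat.card (A₁.map ρ) := by
        rw [hB₁, ← Subgroup.card_mul_index (ρ.subgroupMap A₁).ker, Subgroup.index_ker,
          MonoidHom.range_eq_top.2 (ρ.subgroupMap_surjective A₁), Subgroup.card_top]
      have hfix : Nat.card ↥(B₁ ⊓ V) ≤
          Nat.card (fixedOf ((A₁.map ρ : Subgroup (MulAut V)) : Set (MulAut V))) := by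
        refine Nat.card_le_card_of_injective
          (fun x => ⟨⟨x, x.2.2⟩, ?_⟩) fun a b h => Subtype.ext ?_
        · rintro _ ⟨a, ha, rfl⟩
          refine Subtype.ext ((hρ a _).trans ?_)
          show a * (x : L) * a⁻¹ = x
          rw [Cfsg.Lib.Thompson.isEA_commute hA₁EA ha x.2.1.1, mul_inv_cancel_right]
        · exact congrArg (fun z : fixedOf ((A₁.map ρ : Subgroup (MulAut V)) : Set (MulAut V)) =>
            ((z : V) : L)) h
      have hprod : Nat.card ↥(B₁ ⊔ V) * Nat.card ↥(B₁ ⊓ V) = Nat.card B₁ * Nat.card V := by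
        have h1 := Subgroup.relIndex_mul_relIndex V (B₁ ⊔ V) (B₁ ⊔ V) le_sup_right le_rfl
        have e1 : Nat.card ↥(B₁ ⊔ V) = V.relIndex (B₁ ⊔ V) * Nat.card V := by
          rw [← Nat.card_congr (Subgroup.subgroupOfEquivOfLe (le_sup_right : V ≤ B₁ ⊔ V)).toEquiv,
            Subgroup.relIndex, mul_comm, Subgroup.card_mul_index]
        have e2 : Nat.card B₁ = V.relIndex B₁ * Nat.card ↥(B₁ ⊓ V) := by
          rw [inf_comm, ← Nat.card_congr (Subgroup.subgroupOfEquivOfLe
              (inf_le_right : V ⊓ B₁ ≤ B₁)).toEquiv, ← Subgroup.inf_relIndex_right V B₁,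
            Subgroup.relIndex, mul_comm, Subgroup.card_mul_index]
        rw [e1, Subgroup.relIndex_sup_right, e2]
        ring
      have h0 : 0 < Nat.card B₁ := Nat.card_pos
      refine Nat.le_of_mul_le_mul_left ?_ h0
      calc Nat.card B₁ * Nat.card V = Nat.card ↥(B₁ ⊔ V) * Nat.card ↥(B₁ ⊓ V) := hprod.symm
        _ ≤ Nat.card A₁ * Nat.card (fixedOf ((A₁.map ρ : Subgroup (MulAut V)) : Set (MulAut V))) :=
            Nat.mul_le_mul hmax hfix
        _ = _ := by rw [hAcard, mul_assoc]
    -- the image of the normal complement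
    let ρ' : L ⧸ Q →* MulAut V := QuotientGroup.lift Q ρ fun q hq => (hρker q).2 (hQCV hq)
    have hρ' : Function.Injective ρ' := by
      rw [injective_iff_map_eq_one]
      intro y hy
      obtain ⟨x, rfl⟩ := hπ y
      exact (QuotientGroup.eq_one_iff x).2 (hCV ((hρker x).1 hy))
    have hAne : A₁.map ρ ≠ ⊥ := by
      intro h
      refine hAQ fun a ha => hCV ((hρker a).1 ?_)
      exact Subgroup.mem_bot.1 (h.le ⟨a, ha, rfl⟩)
    have hAimg : A₁.map ρ ≤ Subgroup.normalizer ((K.map ρ' : Subgroup (MulAut V)) : Set (MulAut V)) := by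
      rintro _ ⟨a, -, rfl⟩
      refine Subgroup.le_normalizer_map ρ' ⟨π a, ?_, rfl⟩
      rw [Subgroup.normalizer_eq_top]
      trivial
    have hfaith : ∀ a ∈ A₁.map ρ, (∀ k ∈ K.map ρ', a * k = k * a) → a = 1 := by
      rintro _ ⟨a, ha, rfl⟩ hak
      have haK : π a ∈ Subgroup.centralizer (K : Set (L ⧸ Q)) := by
        rw [Subgroup.mem_centralizer_iff]
        intro k hk
        refine hρ' ?_
        rw [map_mul, map_mul]
        exact (hak (ρ' k) ⟨k, hk, rfl⟩).symm
      haveI := hKn
      haveI : (Subgroup.centralizer (K : Set (L ⧸ Q))).Normal :=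
        Subgroup.normal_centralizer (H := K)
      set D := Subgroup.centralizer (K : Set (L ⧸ Q)) ⊓ (P' : Subgroup (L ⧸ Q))
      have hDn : D.Normal := by
        rw [← Subgroup.normalizer_eq_top_iff, eq_top_iff, ← hKc.sup_eq_top, sup_le_iff]
        refine ⟨?_, ?_⟩
        · intro k hk
          refine Cfsg.Lib.Fusion.le_normalizer_of_conj_mem fun d hd => ?_
          have h1 := Subgroup.mem_centralizer_iff.1 hd.1 k hk
          rw [show k * d * k⁻¹ = d by rw [h1, mul_inv_cancel_right]]
          exact hd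
        · intro y hy
          refine Cfsg.Lib.Fusion.le_normalizer_of_conj_mem fun d hd => ?_
          exact ⟨Subgroup.Normal.conj_mem inferInstance d hd.1 y,
            Subgroup.mul_mem _ (Subgroup.mul_mem _ hy hd.2) (Subgroup.inv_mem _ hy)⟩
      have hle : D.comap π ≤ Q := Cfsg.Lib.Core.le_pCore' (hDn.comap π)
        (IsPGroup.comap_of_ker_isPGroup (P'.isPGroup'.to_le inf_le_right) π (by rw [hker]; exact hQp))
      have haD : a ∈ D.comap π := ⟨haK, hP'eq ▸ ⟨a, hA₁P ha, rfl⟩⟩
      exact (hρker a).2 (hQCV (hle haD))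
    have hKodd' : ¬ 2 ∣ Nat.card (K.map ρ') := by
      rw [Subgroup.card_map_of_injective hρ']; exact hKodd
    have hEA := Cfsg.Lib.Thompson.isEA_map ρ hA₁EA
    obtain ⟨_, ⟨b, hb, rfl⟩, _, ⟨k', hk', rfl⟩, hy1, hy3⟩ := exists_order_three
      (fun a b => Subtype.ext (a.2.2.1 b (hVQ b.2)))
      (fun v => Subtype.ext v.2.2.2)
      (A₁.map ρ) (K.map ρ') (fun a ha a' ha' => Cfsg.Lib.Thompson.isEA_commute hEA ha ha')
      (fun a ha => by rw [← pow_two]; exact hEA.2 a ha) hAne hAimg hKodd' hfaith hoff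
    obtain ⟨k, rfl⟩ := hπ k'
    have hsq : b * b = 1 := by rw [← pow_two]; exact hA₁EA.2 b hb
    change ρ b * (ρ k * ρ b * (ρ k)⁻¹) ≠ 1 at hy1
    change (ρ b * (ρ k * ρ b * (ρ k)⁻¹)) ^ 3 = 1 at hy3
    rw [← map_inv, ← map_mul, ← map_mul, ← map_mul] at hy1 hy3
    rw [← map_pow] at hy3
    exact hfree (involves_perm_four V hVn (fun a ha c hc => ha.2.1 c (hVQ hc))
      (fun v hv => hv.2.2) (hQp.to_le hCV) b k hsq (fun h => hy1 ((hρker _).2 h)) ((hρker _).1 hy3))

theorem nilLift_two : ∀ n, NilLift.{u} 2 (Equiv.Perm (Fin 4)) (thompsonFamily 2) n :=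
  haveI : Fact (Nat.Prime 2) := ⟨Nat.prime_two⟩
  nilLift_rec (thompsonFamily 2) thompsonFamily_ne_bot
    (fun b Q R _ _ _ _ φ => thompsonFamily_map b Q R φ)
    fun _ ih L _ _ P hPn hC hfree hloc =>
      isPGroup_two_of_local ih (Nat.card L) L P le_rfl hPn hC hfree hloc

/-- The lift in both cases: `p` odd, or no section isomorphic to the symmetric group on four
letters. -/
theorem exists_constrained_nonNil' {p : ℕ} [Fact p.Prime] {Ω : Type u} [Group Ω] {S : Subgroup Ω}
    [Finite S] (hS : IsPGroup p S) {F : FusionSystem S} (hF : F.IsSaturated p)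
    (hp : p ≠ 2 ∨ F.IsSectionFree p (Equiv.Perm (Fin 4))) (hni : ¬ F ≤ innerFusionSystem S) :
    ∃ Q : Subgroup Ω, Q ≤ S ∧ S ≤ Subgroup.normalizer (Q : Set Ω) ∧ Q ≠ ⊥ ∧ NonNilAt F p Q ∧
      centralizerIn S Q ≤ Q := by
  by_cases h2 : p = 2
  · subst h2
    exact exists_constrained_nonNil (thompsonFamily 2) (nilLift_two (Nat.card S))
      thompsonFamily_ne_bot (fun b Q R _ _ _ _ φ => thompsonFamily_map b Q R φ) hS (Nat.le_succ _)
      hF (hp.resolve_left fun h => h rfl) hni
  · exact exists_constrained_nonNil (thompsonFamily p) (nilLift_odd h2 (Nat.card S))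
      thompsonFamily_ne_bot (fun b Q R _ _ _ _ φ => thompsonFamily_map b Q R φ) hS (Nat.le_succ _)
      hF (isSectionFree_int F) hni

end Cfsg.Lib.FusionSys
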