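import Cfsg.Agent.Lib.FusionSys.NilpotentTwo
import Cfsg.Agent.Lib.FusionSys.NilpotentOdd
import Cfsg.Agent.Lib.Local.GlaubermanComplement

/-!
The Glauberman–Thompson criterion for fusion systems, `p` odd.
-/

set_option autoImplicit false
set_option linter.style.haveILetI false

universe u

namespace Cfsg.Lib.FusionSys

open Cfsg Cfsg.FusionSystem Cfsg.Lib.Local

variable {p : ℕ}

/-- `Z(J(Q))` inside `Q`, as a family with one member. -/
def zjFamily (_ : Unit) (Q : Type u) [Group Q] : Subgroup Q :=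
  centerThompsonAOf (⊤ : Subgroup Q)

theorem zjFamily_map [Fact p.Prime] (i : Unit) (Q R : Type u) [Group Q] [Group R] [Finite Q]
    (_hQ : IsPGroup p Q) (φ : Q ≃* R) : (zjFamily i Q).map φ.toMonoidHom = zjFamily i R := by
  rw [zjFamily, GlaubermanZJ.map_centerThompsonAOf' φ.toMonoidHom ⊤ φ.injective.injOn,
    Subgroup.map_top_of_surjective _ φ.surjective]
  rfl

theorem zjFamily_ne_bot [Fact p.Prime] (i : Unit) (Q : Type u) [Group Q] [Finite Q]
    (hQ : IsPGroup p Q) (hnt : Nontrivial Q) : zjFamily i Q ≠ ⊥ := by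
  refine GlaubermanZJ.centerThompsonAOf_ne_bot (p := p) (hQ.to_subgroup ⊤) ?_
  rw [← Subgroup.nontrivial_iff_ne_bot]
  exact Subgroup.topEquiv.toEquiv.nontrivial

theorem functorOf_zjFamily {G : Type u} [Group G] (T : Subgroup G) [Finite T] :
    functorOf (zjFamily ()) T = centerThompsonAOf T := by
  rw [functorOf, zjFamily, GlaubermanZJ.map_centerThompsonAOf' T.subtype ⊤ T.subtype_injective.injOn,
    ← MonoidHom.range_eq_map, Subgroup.range_subtype]

theorem nilLift_zj [Fact p.Prime] (hp : p ≠ 2) :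
    ∀ n, NilLift.{u} p (Multiplicative ℤ) zjFamily n := by
  refine nilLift zjFamily zjFamily_ne_bot zjFamily_map fun L _ _ P hC _ hN => ?_
  refine isPGroup_of_complement hC (GlaubermanZJ.complement_of_centerThompsonA hp P ?_)
  have h := hN ()
  rw [functorOf_zjFamily] at h
  exact Cfsg.Lib.Fusion.hasNormalPComplement_of_isPGroup h

/-- An inner normalizer system has no automorphism of order not a power of `p`. -/
theorem not_nonNilAt_of_system {Ω : Type u} [Group Ω] {S U : Subgroup Ω} [Finite S]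
    [Fact p.Prime] (hS : IsPGroup p S) {F : FusionSystem S} {N : FusionSystem (normalizerIn S U)}
    (hN : F.IsNormalizerSystem U N)
    (hi : ∀ P : Subgroup Ω, N.Hom P = (innerFusionSystem (normalizerIn S U)).Hom P) :
    ¬ NonNilAt F p U := by
  rintro ⟨P, α, hα, hne⟩
  haveI := finite_of_le (normalizerIn_le (S := S) U)
  have hαN : P.subtype.comp α.toMonoidHom ∈ N.Hom P := by rw [hN P]; exact hα
  have hP := hom_le hαN
  obtain ⟨k, hk⟩ := isPGroup_autGroup_of_le_inner (hS.to_le (normalizerIn_le U))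
    (fun Q φ hφ => (hi Q).le hφ) hP ⟨α, (mem_autGroup hP).2 hαN⟩
  exact hne k (congrArg Subtype.val hk)

theorem le_inner_of_zj [Fact p.Prime] (hp : p ≠ 2) {Ω : Type u} [Group Ω] {S : Subgroup Ω}
    [Finite S] (hS : IsPGroup p S) {F : FusionSystem S} (hF : F.IsSaturated p)
    (h : ∀ N : FusionSystem (normalizerIn S (centerThompsonAOf S)),
      F.IsNormalizerSystem (centerThompsonAOf S) N →
        ∀ P : Subgroup Ω, N.Hom P = (innerFusionSystem (normalizerIn S (centerThompsonAOf S))).Hom P) :
    F ≤ innerFusionSystem S := by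
  by_contra hni
  obtain ⟨i, hi⟩ := nilLift_zj hp (Nat.card S) Ω S hS le_rfl F hF (isSectionFree_int F) hni
  rw [functorOf_zjFamily] at hi
  obtain ⟨N, hN⟩ := exists_normalizerSystem F
    (inf_le_left.trans (Subgroup.map_subtype_le _) : centerThompsonAOf S ≤ S)
  exact not_nonNilAt_of_system hS hN (h N hN) hi

end Cfsg.Lib.FusionSys

namespace Cfsg.Lib.FusionSys

open Cfsg Cfsg.FusionSystem

/-- The normalizer system at a subgroup normalized by `S` of the inner system is inner. -/
theorem normalizerSystem_inner {Ω : Type u} [Group Ω] {S U : Subgroup Ω}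
    (hU : S ≤ Subgroup.normalizer (U : Set Ω)) {F : FusionSystem S}
    (h : ∀ P : Subgroup Ω, F.Hom P = (innerFusionSystem S).Hom P)
    {N : FusionSystem (normalizerIn S U)} (hN : F.IsNormalizerSystem U N) :
    ∀ P : Subgroup Ω, N.Hom P = (innerFusionSystem (normalizerIn S U)).Hom P := fun P => by
  refine Set.Subset.antisymm (fun φ hφ => ?_) (innerFusionSystem_le N P)
  have hφ' : φ ∈ F.normalizerHom U P := hN P ▸ hφ
  have h1 := hφ'.1
  rw [h] at h1
  obtain ⟨-, g, hg, he⟩ := h1
  exact ⟨hφ'.2.1, g, ⟨hg, hU hg⟩, he⟩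

theorem le_normalizer_centerThompsonAOf {p : ℕ} [Fact p.Prime] {Ω : Type u} [Group Ω]
    {S : Subgroup Ω} [Finite S] (hS : IsPGroup p S) :
    S ≤ Subgroup.normalizer (centerThompsonAOf S : Set Ω) := by
  have h := functorOf_char (zjFamily ()) (zjFamily_map (p := p) ()) S hS
  rw [functorOf_zjFamily] at h
  exact Subgroup.le_normalizer.trans (le_normalizer_of_char h.1 h.2)

end Cfsg.Lib.FusionSys
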