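import Cfsg.Agent.Lib.FusionSys.GoodCover
import Cfsg.Agent.Lib.FusionSys.QuadraticControl

/-!
# Adjusting an element by the centre of `T`

For `E` normal in `F` over `T`, `c ∈ C_S(T)` and `Q ≤ T` weakly closed in `F` and centric in `E`, some
`z ∈ Z(T)` makes `c z` centralized by `Aut_E(T)` and by `Aut_E(Q)`: average over a Sylow subgroup on `T`,
then over the group generated by the lifts of order prime to `p` on `Q` and those coming from `T`.
-/

set_option autoImplicit false
set_option linter.style.haveILetI false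

namespace Cfsg.Lib.FusionSys

open Cfsg Cfsg.FusionSystem
open scoped Pointwise IsMulCommutative

variable {Ω : Type*} [Group Ω] {S T : Subgroup Ω} {F : FusionSystem S} {E : FusionSystem T} {p : ℕ}

theorem shift_cocycle_eq {A : Type*} [CommGroup A] (a b e f z : A) :
    a * b * e / z = a * f / z * (b * e / f) := by
  rw [div_mul_div_comm, div_eq_div_iff_mul_eq_mul]
  ac_rfl

/-- The index of a subgroup supplementing a normal one. -/
theorem index_eq_relIndex_of_sup_eq_top {G : Type*} [Group G] [Finite G] (B L : Subgroup G) [B.Normal]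
    (h : B ⊔ L = ⊤) : L.index = L.relIndex B := by
  have h1 : B.index = B.relIndex L := by
    rw [← Subgroup.relIndex_top_right, ← h, Subgroup.relIndex_sup_left]
  have h2 := L.card_mul_index
  have h3 := B.card_mul_index
  have h4 := (B.subgroupOf L).card_mul_index
  have h5 := (L.subgroupOf B).card_mul_index
  have e1 : Nat.card (B.subgroupOf L) = Nat.card (B ⊓ L : Subgroup G) :=
    ((Subgroup.card_map_of_injective L.subtype_injective).symm.trans
      (by rw [Subgroup.subgroupOf_map_subtype]))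
  have e2 : Nat.card (L.subgroupOf B) = Nat.card (B ⊓ L : Subgroup G) :=
    ((Subgroup.card_map_of_injective B.subtype_injective).symm.trans
      (by rw [Subgroup.subgroupOf_map_subtype, inf_comm]))
  show L.index = (L.subgroupOf B).index
  rw [e1] at h4
  rw [e2] at h5
  rw [h1, show B.relIndex L = (B.subgroupOf L).index from rfl] at h3
  refine Nat.eq_of_mul_eq_mul_left (Nat.card_pos (α := (B ⊓ L : Subgroup G))) ?_
  refine Nat.eq_of_mul_eq_mul_left (Nat.card_pos (α := L)) ?_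
  rw [h5]
  calc Nat.card L * (Nat.card (B ⊓ L : Subgroup G) * L.index)
      = Nat.card (B ⊓ L : Subgroup G) * (Nat.card L * L.index) := by ring
    _ = Nat.card (B ⊓ L : Subgroup G) * (Nat.card B * (B.subgroupOf L).index) := by rw [h2, h3]
    _ = Nat.card B * (Nat.card (B ⊓ L : Subgroup G) * (B.subgroupOf L).index) := by ring
    _ = Nat.card L * Nat.card B := by rw [h4, mul_comm]

/-- A lift fixing `c z` shows that its restriction centralizes `c z`. -/
theorem liftRes_mem_centralizer_shift {hT : F.StronglyClosed T} {P : Subgroup Ω} {hP : P ≤ T} {c : Ω}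
    {hcS : c ∈ S} (hcC : c ∈ centralizerIn S T) (hZ : centralizerIn T P ≤ P)
    (hsub : E.IsSubsystemOf F) (z : Subgroup.center P)
    (hzT : c * ((z : P) : Ω) ∈ centralizerIn S T)
    {C : FusionSystem (centralizerIn S (Subgroup.zpowers (c * ((z : P) : Ω))))}
    (hC : F.IsCentralizerSystem (Subgroup.zpowers (c * ((z : P) : Ω))) C)
    (β : liftGroup F E hT P hP c hcS) (h : liftDisp hcC hZ β * liftAct β z = z) :
    liftRes β ∈ C.autGroup P := by
  have hX : Subgroup.zpowers (c * ((z : P) : Ω)) ≤ centralizerIn S T := Subgroup.zpowers_le.2 hzT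
  have hPC : P ≤ centralizerIn S (Subgroup.zpowers (c * ((z : P) : Ω))) := hP.trans (le_centralizerIn_of_le hT.1 hX)
  have hWS : P ⊔ Subgroup.zpowers c ≤ S := sup_le (hP.trans hT.1) (Subgroup.zpowers_le.2 hcS)
  have hle : P ⊔ Subgroup.zpowers (c * ((z : P) : Ω)) ≤ P ⊔ Subgroup.zpowers c :=
    sup_le le_sup_left (Subgroup.zpowers_le.2 (mul_mem (Subgroup.mem_sup_right (Subgroup.mem_zpowers c))
      (Subgroup.mem_sup_left (z : P).2)))
  refine (mem_autGroup hPC).2 (show _ ∈ C.Hom P from ?_)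
  rw [hC]
  refine mem_centralizerHom_of_ext hsub hT.1 hX ((mem_autGroup hP).1 (liftRes_mem β))
    ⟨_, restrict_mem ((mem_autGroup hWS).1 β.2.1.1) hle, fun _ => rfl, fun x => ?_⟩
  set cW : ↥(P ⊔ Subgroup.zpowers c) := ⟨c, Subgroup.mem_sup_right (Subgroup.mem_zpowers c)⟩
  have hfix : (((β : MulAut ↥(P ⊔ Subgroup.zpowers c)) (cW * Subgroup.inclusion le_sup_left (z : P)) : _) : Ω)
      = (c * ((z : P) : Ω)) := by
    have h1 := congrArg (fun w : Subgroup.center P => ((w : P) : Ω)) h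
    simp only [Subgroup.coe_mul, coe_liftDisp, coe_liftAct] at h1
    rw [map_mul, Subgroup.coe_mul]
    conv_rhs => rw [← h1]
    group
    rfl
  obtain ⟨n, hn⟩ := x.2
  show (((β : MulAut ↥(P ⊔ Subgroup.zpowers c))
    (Subgroup.inclusion hle (Subgroup.inclusion le_sup_right x)) : _) : Ω) = x
  rw [show (Subgroup.inclusion hle (Subgroup.inclusion le_sup_right x) : ↥(P ⊔ Subgroup.zpowers c)) =
    (cW * Subgroup.inclusion le_sup_left (z : P)) ^ n from
      Subtype.ext (by rw [Subgroup.coe_zpow]; exact hn.symm), map_zpow, Subgroup.coe_zpow, hfix]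
  exact hn

set_option maxHeartbeats 1000000 in
theorem exists_central_fix [Finite S] [Fact p.Prime] (hS : IsPGroup p S) (hE : E.IsNormalIn F p)
    {Q : Subgroup Ω} (hQT : Q ≤ T) (hwc : F.WeaklyClosed Q) (hQc : E.IsCentric Q) {c : Ω}
    (hcC : c ∈ centralizerIn S T) :
    ∃ z ∈ T ⊓ Subgroup.centralizer (T : Set Ω),
      ∀ C : FusionSystem (centralizerIn S (Subgroup.zpowers (c * z))),
        F.IsCentralizerSystem (Subgroup.zpowers (c * z)) C →
          E.autGroup T ≤ C.autGroup T ∧ E.autGroup Q ≤ C.autGroup Q := by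
  classical
  have hEs := hE.1.1
  have hEi := hE.1.2.2
  have hT : F.StronglyClosed T := hEi.2.1
  have hTS := hT.1
  have hQS := hQT.trans hTS
  have hcS : c ∈ S := centralizerIn_le T hcC
  haveI := finite_of_le hTS
  have hTp : IsPGroup p T := hS.to_le hTS
  have hWTS : T ⊔ Subgroup.zpowers c ≤ S := sup_le hTS (Subgroup.zpowers_le.2 hcS)
  have hWQS : Q ⊔ Subgroup.zpowers c ≤ S := sup_le hQS (Subgroup.zpowers_le.2 hcS)
  haveI := finite_of_le hWTS
  haveI := finite_of_le hWQS
  haveI := finite_of_le hQS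
  haveI : Finite (MulAut ↥(T ⊔ Subgroup.zpowers c)) := Finite.of_injective
    (fun f => (f : ↥(T ⊔ Subgroup.zpowers c) → ↥(T ⊔ Subgroup.zpowers c))) DFunLike.coe_injective
  haveI : Finite (MulAut ↥(Q ⊔ Subgroup.zpowers c)) := Finite.of_injective
    (fun f => (f : ↥(Q ⊔ Subgroup.zpowers c) → ↥(Q ⊔ Subgroup.zpowers c))) DFunLike.coe_injective
  haveI : Finite (MulAut Q) := Finite.of_injective (fun f => (f : Q → Q)) DFunLike.coe_injective
  haveI : Finite (MulAut T) := Finite.of_injective (fun f => (f : T → T)) DFunLike.coe_injective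
  have hTc : E.IsCentric T := ⟨le_rfl, fun R hR => by
    rw [eq_top_of_isConj hR]
    exact centralizerIn_le _⟩
  have hZT : centralizerIn T T ≤ T := centralizerIn_le T
  have hZQ : centralizerIn T Q ≤ Q := hQc.2 Q (isConj_refl E hQT)
  -- the lifts on `T`
  set UT := dispSub hcC hZT (F := F) (E := E) (hT := hT) (hP := le_refl T) (hcS := hcS) with hUT
  let GT := liftGroup F E hT T le_rfl c hcS
  obtain ⟨-, -, RT, hRT⟩ := isFullyAutomized_and_fc_of_fn hTp hEs (isFullyNormalized_top E)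
  let resT : GT →* E.autGroup T := MonoidHom.codRestrict liftRes _ liftRes_mem
  have hresT : Function.Surjective resT := fun a => by
    obtain ⟨β, hβ⟩ := exists_lift hS hE hTc hcC a.2 (hT := hT) (hP := le_refl T) (hcS := hcS)
    exact ⟨β, Subtype.ext hβ⟩
  set MT := (RT : Subgroup (E.autGroup T)).comap resT
  have hMTi : ¬ p ∣ MT.index := by
    rw [Subgroup.index_comap_of_surjective _ hresT]
    exact RT.not_dvd_index
  have hMTU : ∀ k ∈ MT, liftDisp hcC hZT k ∈ UT := by
    intro k hk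
    change resT k ∈ (RT : Subgroup (E.autGroup T)) at hk
    rw [hRT, Subgroup.mem_subgroupOf] at hk
    obtain ⟨t, ht, hte⟩ := mem_autInducedBy.1 hk
    have hn : t ∈ Subgroup.normalizer (T : Set Ω) := Subgroup.le_normalizer ht
    obtain ⟨β, hβ, hβe⟩ := conjAut_mem_liftGroup hcC ht hn (F := F) (E := E) (hT := hT) (hP := le_refl T)
      (hcS := hcS)
    have hβd : liftDisp hcC hZT β = 1 := by
      apply Subtype.ext; apply Subtype.ext
      rw [coe_liftDisp, hβe]
      show c⁻¹ * (t * c * t⁻¹) = 1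
      rw [conj_eq_of_commute ((mem_centralizerIn.1 hcC).2 t ht).symm, inv_mul_cancel]
    have hker : liftRes (β⁻¹ * k) = 1 := by
      rw [map_mul, map_inv, hβ, inv_mul_eq_one]
      exact (MulEquiv.ext fun x => Subtype.ext (hte x)).symm
    rw [show k = β * (β⁻¹ * k) from (mul_inv_cancel_left β k).symm, liftDisp_mul, hβd, one_mul]
    exact dispSub_invariant hcC hZT β ⟨_, hker, rfl⟩
  have hAT : IsPGroup p (Subgroup.center T) := hTp.to_subgroup _
  obtain ⟨z, hz⟩ := QuadraticControl.exists_average (liftAct : GT →* MulAut (Subgroup.center T))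
    (liftDisp hcC hZT) (fun g h => liftDisp_mul hcC hZT g h) hAT MT hMTi UT
    (fun g x hx => dispSub_invariant hcC hZT g hx) hMTU
  -- those fixing `c z`
  let LT : Subgroup GT :=
    { carrier := {β | liftDisp hcC hZT β * liftAct β z = z}
      one_mem' := by
        show liftDisp hcC hZT 1 * liftAct (1 : GT) z = z
        rw [liftDisp_one, map_one, MulAut.one_apply, one_mul]
      mul_mem' := by
        intro a b ha hb
        show liftDisp hcC hZT (a * b) * liftAct (a * b) z = z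
        rw [liftDisp_mul, map_mul liftAct a b, MulAut.mul_apply, mul_assoc, ← map_mul,
          show liftDisp hcC hZT b * liftAct b z = z from hb]
        exact ha
      inv_mem' := by
        intro a ha
        show liftDisp hcC hZT a⁻¹ * liftAct a⁻¹ z = z
        have h := liftDisp_mul hcC hZT a a⁻¹
        rw [mul_inv_cancel, liftDisp_one] at h
        apply (liftAct a).injective
        rw [map_mul, ← MulAut.mul_apply, ← map_mul, mul_inv_cancel, map_one, MulAut.one_apply]
        have ha' : liftDisp hcC hZT a * liftAct a z = z := ha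
        calc liftAct a (liftDisp hcC hZT a⁻¹) * z
            = liftAct a (liftDisp hcC hZT a⁻¹) * (liftDisp hcC hZT a * liftAct a z) := by rw [ha']
          _ = (liftDisp hcC hZT a * liftAct a (liftDisp hcC hZT a⁻¹)) * liftAct a z := by
            rw [← mul_assoc]
            exact congrArg (· * _) (mul_comm (G := Subgroup.center T) _ _)
          _ = liftAct a z := by rw [← h, one_mul] }
  have hLTcov : ∀ a ∈ E.autGroup T, ∃ β ∈ LT, liftRes β = a := by
    intro a ha
    obtain ⟨β, hβ⟩ := exists_lift hS hE hTc hcC ha (hT := hT) (hP := le_refl T) (hcS := hcS)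
    obtain ⟨k, hk, hkd⟩ := dispSub_invariant hcC hZT β⁻¹ (inv_mem (hz β))
    refine ⟨β * k, ?_, by rw [map_mul, hk, mul_one, hβ]⟩
    show liftDisp hcC hZT (β * k) * liftAct (β * k) z = z
    rw [liftDisp_mul, hkd, ← MulAut.mul_apply, ← map_mul, mul_inv_cancel, map_one, MulAut.one_apply,
      map_mul liftAct β k, show liftAct k = 1 by rw [liftAct, MonoidHom.comp_apply, hk, map_one],
      mul_one, inv_div]
    exact ((mul_right_comm (G := Subgroup.center T) _ _ _).trans
      (mul_div_cancel (G := Subgroup.center T) _ _))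
  -- on `Q`
  let GQ := liftGroup F E hT Q hQT c hcS
  have hle : Q ⊔ Subgroup.zpowers c ≤ T ⊔ Subgroup.zpowers c := sup_le_sup_right hQT _
  have hzQ : ((z : T) : Ω) ∈ Q := hZQ (mem_centralizerIn.2 ⟨(z : T).2, fun y hy =>
    (congrArg Subtype.val (Subgroup.mem_center_iff.1 z.2 ⟨y, hQT hy⟩)).symm⟩)
  set z' : Subgroup.center Q := ⟨⟨_, hzQ⟩, Subgroup.mem_center_iff.2 fun y =>
    Subtype.ext (congrArg Subtype.val (Subgroup.mem_center_iff.1 z.2 ⟨(y : Ω), hQT y.2⟩) :)⟩ with hz'
  have hrestr : ∀ β : GT, ∃ γ : GQ, ∀ x, (((γ : MulAut ↥(Q ⊔ Subgroup.zpowers c)) x : _) : Ω) =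
      (((β : MulAut ↥(T ⊔ Subgroup.zpowers c)) (Subgroup.inclusion hle x) : _) : Ω) := by
    intro β
    have hres := restrict_mem ((mem_autGroup hWTS).1 β.2.1.1) hle
    have hQim : ∀ q : Q, (((β : MulAut ↥(T ⊔ Subgroup.zpowers c))
        (Subgroup.inclusion hle (Subgroup.inclusion le_sup_left q)) : _) : Ω) ∈ Q := fun q =>
      (hwc.2 _ (restrict_mem hres le_sup_left)).le ⟨q, rfl⟩
    have hv : ∀ x : ↥(Q ⊔ Subgroup.zpowers c),
        (((β : MulAut ↥(T ⊔ Subgroup.zpowers c)) (Subgroup.inclusion hle x) : _) : Ω) ∈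
          Q ⊔ Subgroup.zpowers c := by
      refine hom_mem_of_sup (f := ((T ⊔ Subgroup.zpowers c).subtype.comp
        (β : MulAut ↥(T ⊔ Subgroup.zpowers c)).toMonoidHom).comp (Subgroup.inclusion hle))
        (fun x hx => Subgroup.mem_sup_left (hQim ⟨(x : Ω), hx⟩)) fun x hx => ?_
      obtain ⟨n, hn⟩ := hx
      show (((β : MulAut ↥(T ⊔ Subgroup.zpowers c)) (Subgroup.inclusion hle x) : _) : Ω) ∈ _
      rw [show Subgroup.inclusion hle x = (⟨c, Subgroup.mem_sup_right (Subgroup.mem_zpowers c)⟩ :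
          ↥(T ⊔ Subgroup.zpowers c)) ^ n from Subtype.ext (by rw [Subgroup.coe_zpow]; exact hn.symm),
        map_zpow, Subgroup.coe_zpow]
      refine zpow_mem ?_ n
      obtain ⟨d, hd⟩ := disp_mem hcC hZT β
      have hdQ : ((d : T) : Ω) ∈ Q := hZQ (mem_centralizerIn.2 ⟨(d : T).2, fun y hy =>
        (congrArg Subtype.val (Subgroup.mem_center_iff.1 d.2 ⟨y, hQT hy⟩)).symm⟩)
      have h2 := mul_mem (Subgroup.mem_sup_right (S := Q) (Subgroup.mem_zpowers c))
        (Subgroup.mem_sup_left (T := Subgroup.zpowers c) hdQ)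
      rwa [hd, mul_inv_cancel_left] at h2
    obtain ⟨θ, hθ, hθe⟩ := exists_aut_restrict hWTS β.2.1.1 hle hv
    have hstab : ∀ x : ↥(Q ⊔ Subgroup.zpowers c), (x : Ω) ∈ Q ↔ ((θ x : _) : Ω) ∈ Q := by
      intro x
      refine ⟨fun hx => by rw [hθe]; exact hQim ⟨(x : Ω), hx⟩, fun hx => ?_⟩
      have h := stronglyClosed_apply_mem hT ((mem_autGroup hWQS).1 (inv_mem hθ)) (x := θ x) (hQT hx)
      obtain ⟨q, hq⟩ := (hwc.2 _ (restrict_mem ((mem_autGroup hWQS).1 hθ) le_sup_left)).ge hx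
      have : Subgroup.inclusion le_sup_left q = x := θ.injective (Subtype.ext hq)
      rw [← this]
      exact q.2
    have hr := restrict_mem ((mem_autGroup le_rfl).1 (liftRes_mem β)) hQT
    obtain ⟨a, ha, hae⟩ := exists_aut_of_hom hr (fun q => hQim q)
    refine ⟨⟨θ, ⟨hθ, hstab⟩, ⟨a, ha, fun q => (hθe _).trans (hae q).symm⟩, ?_⟩, hθe⟩
    rw [hθe]
    exact β.2.2.2
  have hfixLQ : ∀ β ∈ LT, ∀ γ : GQ, (∀ x, (((γ : MulAut ↥(Q ⊔ Subgroup.zpowers c)) x : _) : Ω) =
      (((β : MulAut ↥(T ⊔ Subgroup.zpowers c)) (Subgroup.inclusion hle x) : _) : Ω)) →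
      liftDisp hcC hZQ γ * liftAct γ z' = z' := by
    intro β hβ γ hγ
    have h := congrArg (fun w : Subgroup.center T => ((w : T) : Ω)) (show _ = z from hβ)
    simp only [Subgroup.coe_mul, coe_liftDisp, coe_liftAct] at h
    apply Subtype.ext; apply Subtype.ext
    simp only [Subgroup.coe_mul, coe_liftDisp, coe_liftAct, hγ]
    exact h
  let LQ : Subgroup GQ :=
    { carrier := {γ | ∃ β ∈ LT, ∀ x, (((γ : MulAut ↥(Q ⊔ Subgroup.zpowers c)) x : _) : Ω) =
        (((β : MulAut ↥(T ⊔ Subgroup.zpowers c)) (Subgroup.inclusion hle x) : _) : Ω)}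
      one_mem' := ⟨1, one_mem _, fun _ => rfl⟩
      mul_mem' := by
        rintro γ γ' ⟨β, hβ, he⟩ ⟨β', hβ', he'⟩
        refine ⟨β * β', mul_mem hβ hβ', fun x => ?_⟩
        rw [Subgroup.coe_mul, MulAut.mul_apply, he]
        exact congrArg (fun w => (((β : MulAut ↥(T ⊔ Subgroup.zpowers c)) w : _) : Ω))
          (Subtype.ext (he' x))
      inv_mem' := by
        rintro γ ⟨β, hβ, he⟩
        refine ⟨β⁻¹, inv_mem hβ, fun x => ?_⟩
        have h := he ((γ : MulAut ↥(Q ⊔ Subgroup.zpowers c))⁻¹ x)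
        rw [MulAut.apply_inv_self] at h
        have h2 : (β : MulAut ↥(T ⊔ Subgroup.zpowers c)) (Subgroup.inclusion hle
            ((γ : MulAut ↥(Q ⊔ Subgroup.zpowers c))⁻¹ x)) = Subgroup.inclusion hle x := Subtype.ext h.symm
        rw [Subgroup.coe_inv, Subgroup.coe_inv, ← h2, MulAut.inv_apply_self]
        rfl }
  set CL := conjLifts F E hT Q hQT c hcS with hCL
  have hCLLQ : CL ≤ LQ := by
    rintro γ ⟨t, ht, hγ⟩
    obtain ⟨β, -, hβe⟩ := conjAut_mem_liftGroup hcC ht (Subgroup.le_normalizer ht) (F := F) (E := E)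
      (hT := hT) (hP := le_refl T) (hcS := hcS)
    refine ⟨β, ?_, fun x => (hγ x).trans (hβe (Subgroup.inclusion hle x)).symm⟩
    apply Subtype.ext; apply Subtype.ext
    simp only [Subgroup.coe_mul, coe_liftDisp, coe_liftAct, hβe]
    show c⁻¹ * (t * c * t⁻¹) * (t * ((z : T) : Ω) * t⁻¹) = _
    rw [conj_eq_of_commute ((mem_centralizerIn.1 hcC).2 t ht).symm, inv_mul_cancel, one_mul,
      conj_eq_of_commute (congrArg Subtype.val (Subgroup.mem_center_iff.1 z.2 ⟨t, ht⟩) :)]
  obtain ⟨K, hKC, hKi, hKp⟩ := exists_goodCover hS hE hwc hQc hcC (hT := hT) (hQT := hQT) (hcS := hcS)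
  let gens : Set GQ := {γ | liftRes γ ∈ pElemAut E p Q ∧ ∃ m : ℕ, m.Coprime p ∧ γ ^ m = 1}
  set B := Subgroup.closure gens ⊔ CL with hBdef
  have hBK : B ≤ K := sup_le ((Subgroup.closure_le _).2 fun γ ⟨hγ, m, hm, hγm⟩ => hKp γ hγ m hm hγm) hKC
  have hBi : ¬ p ∣ CL.relIndex B := fun h =>
    hKi (h.trans (Dvd.intro _ (Subgroup.relIndex_mul_relIndex _ _ _ le_sup_right hBK)))
  have hnorm : ∀ l ∈ LQ, ∀ b ∈ B, l * b * l⁻¹ ∈ B := by
    intro l hl
    suffices h : B.map (MulAut.conj l).toMonoidHom ≤ B from fun b hb => h ⟨b, hb, rfl⟩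
    rw [hBdef, Subgroup.map_sup, MonoidHom.map_closure, ← hBdef]
    refine sup_le ((Subgroup.closure_le _).2 ?_) ?_
    · rintro _ ⟨γ, ⟨hγ, m, hm, hγm⟩, rfl⟩
      refine Subgroup.mem_sup_left (Subgroup.subset_closure ⟨?_, m, hm, by
        rw [← map_pow, hγm, map_one]⟩)
      show liftRes (l * γ * l⁻¹) ∈ pElemAut E p Q
      rw [map_mul, map_mul, map_inv]
      have hsub : (pElemAut E p Q).map (MulAut.conj (liftRes l)).toMonoidHom ≤ pElemAut E p Q := by
        rw [pElemAut, MonoidHom.map_closure, Subgroup.closure_le]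
        rintro _ ⟨a, ⟨ha, k, hk⟩, rfl⟩
        exact Subgroup.subset_closure ⟨mul_mem (mul_mem (liftRes_mem l) ha) (inv_mem (liftRes_mem l)), k,
          by rw [← hk]; exact MulEquiv.orderOf_eq (MulAut.conj (liftRes l)) a⟩
      exact hsub ⟨_, hγ, rfl⟩
    · rintro _ ⟨γ, ⟨t, ht, hγ⟩, rfl⟩
      obtain ⟨β, -, hβe⟩ := hl
      refine Subgroup.mem_sup_right ⟨(((β : MulAut ↥(T ⊔ Subgroup.zpowers c))
        ⟨t, Subgroup.mem_sup_left ht⟩ : _) : Ω), (β.2.1.2 _).1 ht, fun x => ?_⟩
      show (((l : MulAut ↥(Q ⊔ Subgroup.zpowers c)) ((γ : MulAut ↥(Q ⊔ Subgroup.zpowers c))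
        ((l : MulAut ↥(Q ⊔ Subgroup.zpowers c))⁻¹ x)) : _) : Ω) = _
      set y := (l : MulAut ↥(Q ⊔ Subgroup.zpowers c))⁻¹ x with hy
      have hx : (x : Ω) = (((β : MulAut ↥(T ⊔ Subgroup.zpowers c)) (Subgroup.inclusion hle y) : _) : Ω) := by
        rw [← hβe, hy, MulAut.apply_inv_self]
      rw [hβe, hx, ← Subgroup.coe_inv, ← Subgroup.coe_mul, ← Subgroup.coe_mul, ← map_inv, ← map_mul,
        ← map_mul]
      exact congrArg (fun w => (((β : MulAut ↥(T ⊔ Subgroup.zpowers c)) w : _) : Ω))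
        (Subtype.ext (hγ y))
  -- average over the group generated by both
  set L₂ := B ⊔ LQ with hL₂
  haveI hBn : (B.subgroupOf L₂).Normal := by
    have hLN : LQ ≤ Subgroup.normalizer (B : Set GQ) := fun l hl =>
      Subgroup.mem_normalizer_fintype (S := (B : Set GQ)) fun b hb => hnorm l hl b hb
    exact Subgroup.normal_subgroupOf_of_le_normalizer (sup_le Subgroup.le_normalizer hLN)
  have hMi : ¬ p ∣ (LQ.subgroupOf L₂).index := by
    have htop : B.subgroupOf L₂ ⊔ LQ.subgroupOf L₂ = ⊤ := by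
      rw [← Subgroup.subgroupOf_sup le_sup_left le_sup_right]
      exact Subgroup.subgroupOf_self L₂
    rw [index_eq_relIndex_of_sup_eq_top _ _ htop, Subgroup.relIndex_subgroupOf le_sup_left]
    exact fun h => hBi (h.trans (Subgroup.relIndex_dvd_of_le_left _ hCLLQ))
  let σ₂ : L₂ →* MulAut (Subgroup.center Q) := (liftAct : GQ →* _).comp L₂.subtype
  let δ₂ : L₂ → Subgroup.center Q := fun g =>
    liftDisp hcC hZQ (g : GQ) * liftAct (g : GQ) z' / z'
  have hδ₂ : ∀ g h, δ₂ (g * h) = δ₂ g * σ₂ g (δ₂ h) := by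
    intro g h
    show liftDisp hcC hZQ ((g : GQ) * (h : GQ)) * liftAct ((g : GQ) * (h : GQ)) z' / z' =
      liftDisp hcC hZQ (g : GQ) * liftAct (g : GQ) z' / z' *
        liftAct (g : GQ) (liftDisp hcC hZQ (h : GQ) * liftAct (h : GQ) z' / z')
    rw [liftDisp_mul, map_mul liftAct, MulAut.mul_apply, map_div, map_mul]
    generalize liftDisp hcC hZQ (g : GQ) = a
    generalize liftAct (g : GQ) (liftDisp hcC hZQ (h : GQ)) = b
    generalize liftAct (g : GQ) (liftAct (h : GQ) z') = e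
    generalize liftAct (g : GQ) z' = f
    exact shift_cocycle_eq _ _ _ _ _
  obtain ⟨w, hw⟩ := QuadraticControl.exists_average σ₂ δ₂ hδ₂ ((hTp.to_le hQT).to_subgroup _)
    (LQ.subgroupOf L₂) hMi ⊥ (fun g x hx => by rw [Subgroup.mem_bot.1 hx, map_one]; exact one_mem _)
    fun g hg => by
      obtain ⟨β, hβ, he⟩ := hg
      rw [Subgroup.mem_bot]
      exact div_eq_one.2 (hfixLQ β hβ _ he)
  have hw' : ∀ g ∈ L₂, liftDisp hcC hZQ g * liftAct g (z' * w) = z' * w := by
    intro g hg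
    have h := Subgroup.mem_bot.1 (hw ⟨g, hg⟩)
    change liftDisp hcC hZQ g * liftAct g z' / z' * liftAct g w / w = 1 at h
    rw [div_eq_one, div_mul_eq_mul_div, div_eq_iff_eq_mul] at h
    rw [map_mul, ← mul_assoc, h, mul_comm]
  have hwfix : ∀ g ∈ LQ, liftAct g w = w := by
    intro g hg
    obtain ⟨β, hβ, he⟩ := hg
    have h := hw' g (Subgroup.mem_sup_right ⟨β, hβ, he⟩)
    rw [map_mul, ← mul_assoc, hfixLQ β hβ _ he] at h
    exact mul_left_cancel h
  have hwT : ∀ t ∈ T, ((w : Q) : Ω) * t = t * ((w : Q) : Ω) := by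
    intro t ht
    obtain ⟨γ, -, hγe⟩ := conjAut_mem_liftGroup hcC ht
      ((hTS.trans (le_normalizer_of_weaklyClosed hwc)) ht) (F := F) (E := E) (hT := hT) (hP := hQT)
      (hcS := hcS)
    have h := congrArg (fun v : Subgroup.center Q => ((v : Q) : Ω)) (hwfix γ (hCLLQ ⟨t, ht, hγe⟩))
    simp only [coe_liftAct, hγe] at h
    exact (commute_of_conj_eq h).symm
  set wT : Subgroup.center T := ⟨⟨_, hQT (w : Q).2⟩, Subgroup.mem_center_iff.2 fun y =>
    Subtype.ext (hwT y y.2).symm⟩ with hwTdef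
  refine ⟨((z * wT : Subgroup.center T) : T), ⟨((z * wT : Subgroup.center T) : T).2,
    Subgroup.mem_centralizer_iff.2 fun y hy =>
      congrArg Subtype.val (Subgroup.mem_center_iff.1 (z * wT).2 ⟨y, hy⟩)⟩, fun C hC => ?_⟩
  have hc'T : c * (((z * wT : Subgroup.center T) : T) : Ω) ∈ centralizerIn S T :=
    mul_mem hcC (mem_centralizerIn.2 ⟨hTS ((z * wT : Subgroup.center T) : T).2, fun y hy =>
      (congrArg Subtype.val (Subgroup.mem_center_iff.1 (z * wT).2 ⟨y, hy⟩)).symm⟩)
  have hfT : E.autGroup T ≤ C.autGroup T := by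
    intro a ha
    obtain ⟨β, hβ, rfl⟩ := hLTcov a ha
    obtain ⟨γ, hγ⟩ := hrestr β
    refine liftRes_mem_centralizer_shift hcC hZT hEi.1 (z * wT) hc'T hC β ?_
    have hwβ : liftAct β wT = wT := by
      have h := congrArg (fun v : Subgroup.center Q => ((v : Q) : Ω)) (hwfix γ ⟨β, hβ, hγ⟩)
      simp only [coe_liftAct, hγ] at h
      exact Subtype.ext (Subtype.ext h)
    rw [map_mul, hwβ, ← mul_assoc, show liftDisp hcC hZT β * liftAct β z = z from hβ]
  refine ⟨hfT, ?_⟩
  have hQn : F.IsFullyNormalized Q := ⟨hQS, by rintro R ⟨φ, hφ, rfl⟩; rw [hwc.2 φ hφ]⟩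
  have hQnE := isFullyNormalized_of_invariant hS hE.1.2.1 hEi.1 hT hQT hQn
  obtain ⟨hfcE, -, R, hR⟩ := isFullyAutomized_and_fc_of_fn hTp hEs hQnE
  have hrec := isReceptive_of_fc hTp hEs hfcE
  let H : Subgroup (E.autGroup Q) := (pElemAut E p Q).subgroupOf (E.autGroup Q)
  haveI : H.Normal := ⟨fun x hx g => by
    have hsub : (pElemAut E p Q).map (MulAut.conj (g : MulAut Q)).toMonoidHom ≤ pElemAut E p Q := by
      rw [pElemAut, MonoidHom.map_closure, Subgroup.closure_le]
      rintro _ ⟨a, ⟨ha, k, hk⟩, rfl⟩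
      exact Subgroup.subset_closure ⟨mul_mem (mul_mem g.2 ha) (inv_mem g.2), k,
        by rw [← hk]; exact MulEquiv.orderOf_eq (MulAut.conj (g : MulAut Q)) a⟩
    exact hsub ⟨_, hx, rfl⟩⟩
  have hRH : (R : Subgroup (E.autGroup Q)) ≤ H := by
    intro x hx
    obtain ⟨k, hk⟩ := IsPGroup.iff_orderOf.1 R.2 ⟨x, hx⟩
    exact Subgroup.subset_closure ⟨x.2, k, by
      rw [Subgroup.orderOf_mk] at hk
      rwa [Subgroup.coe_subtype, Subgroup.orderOf_coe]⟩
  let RH : Sylow p H := R.subtype hRH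
  have hmap : (RH : Subgroup H).map H.subtype = (R : Subgroup (E.autGroup Q)) := by
    rw [Sylow.coe_subtype]
    exact Subgroup.map_subgroupOf_eq_of_le hRH
  have hall : (⊤ : Subgroup (E.autGroup Q)) ≤ (C.autGroup Q).subgroupOf (E.autGroup Q) := by
    rw [← closure_pPrime_union_normalizer H RH, Subgroup.closure_le]
    rintro x (⟨hxH, hxc⟩ | hxN)
    · obtain ⟨β, hβ⟩ := exists_lift hS hE hQc hcC x.2 (hT := hT) (hP := hQT) (hcS := hcS)
      obtain ⟨u, v, hv, huv⟩ := Nat.exists_eq_pow_mul_and_not_dvd (orderOf_pos β).ne' p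
        (Fact.out : p.Prime).ne_one
      obtain ⟨k, hk⟩ := exists_pow_eq_self_of_coprime (x := x) (n := p ^ u)
        ((Nat.Coprime.pow_right u hxc).symm)
      have hres : liftRes (β ^ (p ^ u * k)) = (x : MulAut Q) := by
        rw [map_pow, hβ, pow_mul, ← Subgroup.coe_pow, ← Subgroup.coe_pow, hk]
      have hgen : β ^ (p ^ u * k) ∈ L₂ := Subgroup.mem_sup_left (Subgroup.mem_sup_left
        (Subgroup.subset_closure ⟨by rw [hres]; exact hxH, v,
          ((Fact.out : p.Prime).coprime_iff_not_dvd.2 hv).symm, by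
            rw [← pow_mul, mul_right_comm, ← huv, pow_mul, pow_orderOf_eq_one, one_pow]⟩))
      show (x : MulAut Q) ∈ C.autGroup Q
      rw [← hres]
      exact liftRes_mem_centralizer_shift hcC hZQ hEi.1 (z' * w) hc'T hC _ (hw' _ hgen)
    · show (x : MulAut Q) ∈ C.autGroup Q
      rw [hmap] at hxN
      have hφ : Q.subtype.comp (x : MulAut Q).toMonoidHom ∈ E.Hom Q := (mem_autGroup hQT).1 x.2
      have hr : (Q.subtype.comp (x : MulAut Q).toMonoidHom).range = Q := by
        ext y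
        exact ⟨fun ⟨q, hq⟩ => hq ▸ ((x : MulAut Q) q).2,
          fun hy => ⟨(x : MulAut Q)⁻¹ ⟨y, hy⟩, by simp⟩⟩
      obtain ⟨ψ, hψ, hψe⟩ := hrec.2 Q _ hφ hr
      have hTle : T ≤ extender T Q (Q.subtype.comp (x : MulAut Q).toMonoidHom) := by
        intro t ht
        have hn : t ∈ Subgroup.normalizer (Q : Set Ω) := hTS.trans (le_normalizer_of_weaklyClosed hwc) ht
        have hg : (⟨conjAut Q hn, autInducedBy_le_autGroup hQT (conjAut_mem_autInducedBy hn ht)⟩ :
            E.autGroup Q) ∈ (R : Subgroup (E.autGroup Q)) := by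
          rw [hR]
          exact conjAut_mem_autInducedBy hn ht
        have h := (Subgroup.mem_normalizer_iff.1 hxN _).1 hg
        rw [hR] at h
        obtain ⟨u, hu, hue⟩ := mem_autInducedBy.1 h
        refine mem_extender_of ht hn hu fun q hq => ?_
        show (((x : MulAut Q) ⟨t * q * t⁻¹, hq⟩ : Q) : Ω) = u * (((x : MulAut Q) q : Q) : Ω) * u⁻¹
        rw [← hue]
        show _ = (((x : MulAut Q) (conjAut Q hn ((x : MulAut Q)⁻¹ ((x : MulAut Q) q)))) : Ω)
        rw [MulAut.inv_apply_self]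
        rfl
      have hψT := restrict_mem hψ hTle
      obtain ⟨α, hα, hαe⟩ := exists_aut_of_hom hψT (fun y => hom_mem hψT y)
      have hTC : T ≤ centralizerIn S (Subgroup.zpowers (c * (((z * wT : Subgroup.center T) : T) : Ω))) :=
        le_centralizerIn_of_le hTS (Subgroup.zpowers_le.2 hc'T)
      refine (mem_autGroup (hQT.trans hTC)).2
        (hom_congr (restrict_mem ((mem_autGroup hTC).1 (hfT hα)) hQT) fun q => ?_)
      exact ((hαe ⟨(q : Ω), hQT q.2⟩).trans (hψe (q : Ω) q.2 _)).symm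
  exact fun a ha => hall (Subgroup.mem_top (⟨a, ha⟩ : E.autGroup Q))

end Cfsg.Lib.FusionSys
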