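import Cfsg.Agent.Lib.FusionSys.ConstrainedLocal
import Cfsg.Agent.Lib.FusionSys.TransportAlong
import Cfsg.Agent.Lib.FusionSys.NormalizerModel

/-!
Normalizer systems of conjugate fully normalized subgroups are isomorphic.
-/

set_option autoImplicit false
set_option linter.style.haveILetI false

namespace Cfsg.Lib.FusionSys

open Cfsg Cfsg.FusionSystem

universe u

variable {Ω : Type u} [Group Ω] {S U U' : Subgroup Ω} {F : FusionSystem S} {p : ℕ}

namespace SIso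

theorem MapsTo.isNormal {T T' : Subgroup Ω} {i : SIso T T'} {E : FusionSystem T} {E' : FusionSystem T'}
    (h : i.MapsTo E E') {Q : Subgroup Ω} (hQ : E.IsNormal Q) : E'.IsNormal (i.img Q) := by
  refine ⟨(i.img_mono hQ.1).trans h.eq.ge, fun P' φ' hφ' => ?_⟩
  obtain ⟨P, hP, rfl⟩ := i.exists_img h.le ((hom_le hφ').trans h.eq.le)
  obtain ⟨φ, hφ, hr⟩ := h.bwd_img (hP.trans h.le) hφ'
  obtain ⟨ψ, hψ, hψP, hψQ⟩ := hQ.2 P φ hφ
  obtain ⟨ψ', hψ', hrψ⟩ := h.fwd_eq hψ (i.img_sup (hP.trans h.le) (hQ.1.trans h.le))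
  refine ⟨ψ', hψ', ?_, ?_⟩
  · rintro ⟨y, hy⟩
    obtain ⟨x, hx, -, rfl⟩ := i.mem_img.1 hy
    exact (hrψ x (Subgroup.mem_sup_left hx) _).trans ((congrArg i.toFun (hψP ⟨x, hx⟩)).trans
      (hr x hx hy).symm)
  · ext z
    rw [mem_map_subgroupOf, i.mem_img]
    constructor
    · rintro ⟨y, hy, hyQ, rfl⟩
      obtain ⟨x, hx, -, rfl⟩ := i.mem_img.1 hyQ
      exact ⟨_, hψQ.le ⟨⟨x, Subgroup.mem_sup_right hx⟩, hx, rfl⟩, h.le (hom_mem hψ _),
        (hrψ x (Subgroup.mem_sup_right hx) hy).symm⟩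
    · rintro ⟨w, hw, -, rfl⟩
      obtain ⟨x, hx, hxQ, rfl⟩ := mem_map_subgroupOf.1 (hψQ.ge hw)
      exact ⟨i.toFun x, Subgroup.mem_sup_right (i.apply_mem_img (hQ.1.trans h.le) hxQ),
        i.apply_mem_img (hQ.1.trans h.le) hxQ, hrψ x hx _⟩

theorem MapsTo.isConstrained [Finite S] [Fact p.Prime] (hS : IsPGroup p S) {T T' : Subgroup Ω}
    (hT : T ≤ S) (hT' : T' ≤ S) {i : SIso T T'} {E : FusionSystem T} {E' : FusionSystem T'}
    (h : i.MapsTo E E') (hE : E.IsConstrained p) : E'.IsConstrained p := by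
  haveI := finite_of_le hT
  haveI := finite_of_le hT'
  rw [isConstrained_iff_core (h.isSaturated (hS.to_le hT) hE.1)]
  have h1 : i.img E.core ≤ E'.core := le_sSup (h.isNormal (isNormal_core E))
  have hcT : E.core ≤ T := (isNormal_core E).1
  calc centralizerIn T' E'.core ≤ centralizerIn T' (i.img E.core) := centralizerIn_anti h1
    _ = centralizerIn (i.img T) (i.img E.core) := by rw [i.img_top]
    _ = i.img (centralizerIn T E.core) := (i.img_centralizerIn le_rfl hcT).symm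
    _ ≤ _ := (i.img_mono (centralizerIn_core_le hE)).trans h1

end SIso

theorem exists_rel_normalizer (hU : U ≤ S) {N : FusionSystem (normalizerIn S U)}
    (hN : F.IsNormalizerSystem U N) (hU' : U' ≤ S) {N' : FusionSystem (normalizerIn S U')}
    (hN' : F.IsNormalizerSystem U' N') (i : SIso (normalizerIn S U) (normalizerIn S U'))
    {e : ↥(normalizerIn S U) ≃* ↥(normalizerIn S U')} (he : IsoIn F e)
    (hie : ∀ x : ↥(normalizerIn S U), i.toFun x = e x) (hiU : i.img U = U')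
    {P : Subgroup Ω} {φ : P →* Ω} (hφ : φ ∈ N.Hom P) :
    ∃ φ' ∈ N'.Hom (i.img P), i.Rel φ φ' := by
  have hUn : U ≤ normalizerIn S U := le_normalizerIn hU
  have hP : P ≤ normalizerIn S U := hom_le hφ
  rw [hN] at hφ
  obtain ⟨-, -, hv, ψ, hψ, hψe, hψU⟩ := hφ
  have hPU : P ⊔ U ≤ normalizerIn S U := sup_le hP hUn
  have hψv : ∀ x, ψ x ∈ normalizerIn S U := by
    intro x
    have : (⊤ : Subgroup ↥(P ⊔ U)) ≤ (normalizerIn S U).comap ψ := by
      rw [← (show P.subgroupOf (P ⊔ U) ⊔ U.subgroupOf (P ⊔ U) = ⊤ by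
        rw [← Subgroup.subgroupOf_sup le_sup_left le_sup_right, Subgroup.subgroupOf_self])]
      refine sup_le (fun c hc => ?_) fun y hy => hUn (hψU.le ⟨y, hy, rfl⟩)
      show ψ c ∈ normalizerIn S U
      rw [show ψ c = φ ⟨c, hc⟩ from hψe ⟨c, hc⟩]
      exact hv ⟨c, hc⟩
    exact this (Subgroup.mem_top x)
  have hle : i.img (P ⊔ U) ≤ normalizerIn S U' := i.img_le _
  obtain ⟨ψ', hr⟩ := i.exists_rel hPU ψ hψv
  -- the transported map is a composite of maps of `F`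
  have hsym : ∀ y : ↥(i.img (P ⊔ U)), ((e.symm (Subgroup.inclusion hle y) : ↥(normalizerIn S U)) : Ω) ∈
      P ⊔ U := by
    rintro ⟨y, hy⟩
    obtain ⟨x, hx, hxN, rfl⟩ := i.mem_img.1 hy
    rw [show e.symm (Subgroup.inclusion hle ⟨i.toFun x, hy⟩) = ⟨x, hxN⟩ from
      e.symm_apply_eq.2 (Subtype.ext (hie ⟨x, hxN⟩))]
    exact hx
  have h1 := F.comp_mem (restrict_mem he.symm hle) hψ hsym
  have h2 := F.comp_mem h1 he fun x => hψv _
  have hψ'F : ψ' ∈ F.Hom (i.img (P ⊔ U)) := by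
    refine hom_congr h2 ?_
    rintro ⟨y, hy⟩
    obtain ⟨x, hx, hxN, rfl⟩ := i.mem_img.1 hy
    rw [hr x hx hy]
    show i.toFun (ψ ⟨x, hx⟩) = ((e ⟨ψ ⟨_, _⟩, _⟩ : ↥(normalizerIn S U')) : Ω)
    rw [← hie]
    refine congrArg i.toFun (congrArg ψ (Subtype.ext ?_))
    exact (congrArg (fun w : ↥(normalizerIn S U) => (w : Ω))
      (e.symm_apply_eq.2 (Subtype.ext (hie ⟨x, hxN⟩) :
        (⟨i.toFun x, hle hy⟩ : ↥(normalizerIn S U')) = e ⟨x, hxN⟩))).symm
  have hinc : i.img P ≤ i.img (P ⊔ U) := i.img_mono le_sup_left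
  obtain ⟨φ', hr'⟩ := i.exists_rel hP φ hv
  refine ⟨φ', ?_, hr'⟩
  have heq : ∀ y : ↥(i.img P), φ' y = ψ' (Subgroup.inclusion hinc y) := by
    rintro ⟨y, hy⟩
    obtain ⟨x, hx, -, rfl⟩ := i.mem_img.1 hy
    rw [hr' x hx hy, show Subgroup.inclusion hinc ⟨i.toFun x, hy⟩ = ⟨i.toFun x, hinc hy⟩ from rfl,
      hr x (Subgroup.mem_sup_left hx) (hinc hy)]
    exact congrArg i.toFun (hψe ⟨x, hx⟩).symm
  have himg : i.img P ⊔ U' = i.img (P ⊔ U) := by rw [i.img_sup hP hUn, hiU]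
  rw [hN']
  refine ⟨hom_congr (restrict_mem hψ'F hinc) heq, i.img_le _, ?_, ψ'.comp (Subgroup.inclusion himg.le),
    restrict_mem hψ'F himg.le, fun y => (heq y).symm, ?_⟩
  · rintro ⟨y, hy⟩
    obtain ⟨x, hx, -, rfl⟩ := i.mem_img.1 hy
    rw [hr' x hx hy]
    exact i.map_mem _ (hv _)
  · ext z
    rw [mem_map_subgroupOf]
    constructor
    · rintro ⟨y, hy, hyU, rfl⟩
      obtain ⟨x, hx, hxN, rfl⟩ := i.mem_img.1 (hiU.ge hyU)
      show ψ' ⟨i.toFun x, himg.le hy⟩ ∈ U'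
      rw [hr x (Subgroup.mem_sup_right hx) (himg.le hy)]
      refine hiU.le ?_
      exact i.mem_img.2 ⟨_, hψU.le ⟨⟨x, Subgroup.mem_sup_right hx⟩, hx, rfl⟩, hψv _, rfl⟩
    · intro hz
      obtain ⟨w, hw, -, rfl⟩ := i.mem_img.1 (hiU.ge hz)
      obtain ⟨x, hx, hxU, rfl⟩ := mem_map_subgroupOf.1 (hψU.ge hw)
      have hxN := hUn hxU
      have hxU' : i.toFun x ∈ U' := hiU.le (i.mem_img.2 ⟨x, hxU, hxN, rfl⟩)
      refine ⟨i.toFun x, Subgroup.mem_sup_right hxU', hxU', ?_⟩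
      exact hr x hx (himg.le (Subgroup.mem_sup_right hxU'))

/-- If the normalizer system of a fully normalized conjugate is constrained, so is the normalizer system. -/
theorem isConstrained_normalizer_of_conj [Finite S] [Fact p.Prime] (hS : IsPGroup p S)
    (hU : F.IsFullyNormalized U) {χ : ↥(normalizerIn S U) →* Ω} (hχ : χ ∈ F.Hom (normalizerIn S U))
    (hχU : (U.subgroupOf (normalizerIn S U)).map χ = U') (hr : χ.range = normalizerIn S U')
    {N : FusionSystem (normalizerIn S U)} (hN : F.IsNormalizerSystem U N)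
    {N' : FusionSystem (normalizerIn S U')} (hN' : F.IsNormalizerSystem U' N')
    (hc : N'.IsConstrained p) : N.IsConstrained p := by
  have hUn : U ≤ normalizerIn S U := le_normalizerIn hU.1
  have hU' : U' ≤ S := by rw [← hχU]; rintro _ ⟨x, -, rfl⟩; exact hom_mem hχ x
  set e := homIso hχ hr
  have he : IsoIn F e := isoIn_homIso hχ hr
  set i := SIso.ofEquiv e
  have hie : ∀ x : ↥(normalizerIn S U), i.toFun x = e x := SIso.ofEquiv_apply e
  have hie' : ∀ y : ↥(normalizerIn S U'), i.symm.toFun y = e.symm y := SIso.ofEquiv_symm_apply e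
  have hiU : i.img U = U' := by
    refine Eq.trans ?_ hχU
    ext y
    rw [i.mem_img, mem_map_subgroupOf]
    constructor
    · rintro ⟨x, hx, hxN, rfl⟩
      exact ⟨x, hxN, hx, (hie ⟨x, hxN⟩).symm⟩
    · rintro ⟨x, hxN, hx, rfl⟩
      exact ⟨x, hx, hxN, hie ⟨x, hxN⟩⟩
  have hiU' : i.symm.img U' = U := (congrArg i.symm.img hiU).symm.trans (i.symm_img_img hUn)
  have hmap : i.symm.MapsTo N' N :=
    ⟨le_rfl, i.symm.img_top.symm,
      fun hφ => exists_rel_normalizer hU' hN' hU.1 hN i.symm he.symm hie' hiU' hφ,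
      fun hφ => exists_rel_normalizer hU.1 hN hU' hN' i he hie hiU hφ⟩
  exact hmap.isConstrained hS (normalizerIn_le U') (normalizerIn_le U) hc

end Cfsg.Lib.FusionSys
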