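import Cfsg.Agent.Lib.FusionSys.InvariantNormalClosure
import Cfsg.Agent.Lib.Fusion.Parts

/-!
Centric subgroups meeting an invariant subsystem in a subgroup that is not centric in it.
-/

set_option autoImplicit false
set_option linter.style.haveILetI false

namespace Cfsg.Lib.FusionSys

open Cfsg Cfsg.FusionSystem

variable {Ω : Type*} [Group Ω] {S : Subgroup Ω} {F : FusionSystem S} {p : ℕ}

/-- The automorphisms trivial on `P ∩ T` and on the quotient by it lie in the `p`-core. -/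
theorem mem_pCore_of_stab [Finite S] [Fact p.Prime] (hS : IsPGroup p S) {T : Subgroup Ω}
    (hT : F.StronglyClosed T) {P : Subgroup Ω} (hPS : P ≤ S) {a : MulAut P} (ha : a ∈ F.autGroup P)
    (h1 : ∀ x : P, (x : Ω)⁻¹ * ((a x : P) : Ω) ∈ T) (h2 : ∀ x : P, (x : Ω) ∈ T → a x = x) :
    a ∈ (pCore p (F.autGroup P)).map (F.autGroup P).subtype := by
  haveI := finite_of_le hPS
  haveI : Finite (MulAut P) := Finite.of_injective (fun f => (f : P → P)) DFunLike.coe_injective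
  have hinv : ∀ (b : F.autGroup P) (x : P), (x : Ω) ∈ T → (((b : MulAut P) x : P) : Ω) ∈ T :=
    fun b x hx => stronglyClosed_aut_mem hT b.2 hPS hx
  let C : Subgroup (F.autGroup P) :=
    { carrier := {b | (∀ x : P, (x : Ω)⁻¹ * (((b : MulAut P) x : P) : Ω) ∈ T) ∧
        ∀ x : P, (x : Ω) ∈ T → (b : MulAut P) x = x}
      one_mem' := ⟨fun x => by simp, fun x _ => rfl⟩
      mul_mem' := fun {b c} ⟨hb1, hb2⟩ ⟨hc1, hc2⟩ => ⟨fun x => by
        have := T.mul_mem (hc1 x) (hb1 ((c : MulAut P) x))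
        rw [mul_assoc, mul_inv_cancel_left] at this
        exact this, fun x hx => by
        show (b : MulAut P) ((c : MulAut P) x) = x
        rw [hc2 x hx, hb2 x hx]⟩
      inv_mem' := fun {b} ⟨hb1, hb2⟩ => ⟨fun x => by
        have := hb1 ((b : MulAut P)⁻¹ x)
        rw [MulAut.apply_inv_self] at this
        simpa using T.inv_mem this, fun x hx => by
        have := hb2 ((b : MulAut P)⁻¹ x) (hinv b⁻¹ x hx)
        rw [MulAut.apply_inv_self] at this
        exact this.symm⟩ }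
  have hCn : C.Normal := ⟨fun n ⟨hn1, hn2⟩ b => ⟨fun x => by
      have h3 := hinv b _ (show (((((b : MulAut P)⁻¹ x)⁻¹ * (n : MulAut P) ((b : MulAut P)⁻¹ x) : P)) : Ω) ∈ T
        from hn1 ((b : MulAut P)⁻¹ x))
      rw [map_mul, map_inv, MulAut.apply_inv_self] at h3
      exact h3, fun x hx => by
      show (b : MulAut P) ((n : MulAut P) ((b : MulAut P)⁻¹ x)) = x
      have h4 := hn2 ((b : MulAut P)⁻¹ x) (hinv b⁻¹ x hx)
      rw [h4, MulAut.apply_inv_self]⟩⟩
  have hCp : IsPGroup p C := by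
    refine Cfsg.Lib.Local.isPGroup_of_forall_coprime fun b hb hcop => ?_
    refine Subtype.ext (MulEquiv.ext fun x => ?_)
    refine eq_one_of_coprime_fix (hS.to_le hPS) (by rwa [Subgroup.orderOf_coe]) ?_
    exact hb.2 _ (hb.1 x)
  exact ⟨⟨a, ha⟩, Cfsg.Lib.Fusion.le_pCore hCn hCp ⟨h1, h2⟩, rfl⟩

theorem not_centric_inter [Finite S] [Fact p.Prime] (hS : IsPGroup p S) (hF : F.IsSaturated p)
    {T : Subgroup Ω} {E : FusionSystem T} (hsub : E.IsSubsystemOf F) (hT : F.StronglyClosed T)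
    {P : Subgroup Ω} (hP : F.IsCentric P) (hPT : ¬ E.IsCentric (P ⊓ T)) :
    (∃ φ ∈ F.Hom P, ∃ x ∈ S ⊓ Subgroup.normalizer (φ.range : Set Ω), x ∉ φ.range ∧
      ∃ α ∈ ((pCore p ↥(F.autGroup φ.range)).map (F.autGroup φ.range).subtype : Subgroup (MulAut ↥φ.range)),
        ∀ y : ↥φ.range, ((α y : ↥φ.range) : Ω) = x * (y : Ω) * x⁻¹) ∧ ¬ F.IsRadical p P := by
  have hPS := hP.1
  have hTn : S ≤ Subgroup.normalizer (T : Set Ω) := stronglyClosed_le_normalizer hT
  obtain ⟨U', hUc, hfa, hrec, μ, hμ, hμv, hμmap⟩ :=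
    exists_fa_receptive_map hS hF ((inf_le_left : P ⊓ T ≤ P).trans hPS)
  have hPN : P ≤ normalizerIn S (P ⊓ T) := fun x hx => ⟨hPS hx,
    Subgroup.inf_normalizer_le_normalizer_inf ⟨Subgroup.le_normalizer hx, hTn (hPS hx)⟩⟩
  set φ := μ.comp (Subgroup.inclusion hPN) with hφdef
  have hφ : φ ∈ F.Hom P := restrict_mem hμ hPN
  have hRS : φ.range ≤ S := range_le hφ
  obtain ⟨ψ, hψ, -, hψe⟩ := exists_inv hφ rfl
  have hU' : φ.range ⊓ T = U' := by
    rw [← hμmap]
    ext y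
    rw [mem_map_subgroupOf]
    constructor
    · rintro ⟨⟨x, rfl⟩, hy⟩
      refine ⟨x, hPN x.2, ⟨x.2, ?_⟩, rfl⟩
      have := hT.2 (φ.range ⊓ T) inf_le_right _ (restrict_mem hψ inf_le_left) ⟨φ x, ⟨x, rfl⟩, hy⟩
      exact (congrArg (· ∈ T) (hψe x ⟨x, rfl⟩)).mp this
    · rintro ⟨z, hz, hzP, rfl⟩
      exact ⟨⟨⟨z, hzP.1⟩, rfl⟩, hT.2 (P ⊓ T) inf_le_right _
        (restrict_mem hφ inf_le_left) ⟨z, hzP⟩⟩
  have hnot : ¬ centralizerIn T U' ≤ U' := by
    intro hle
    refine hPT ⟨inf_le_right, ?_⟩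
    rintro R ⟨σ, hσ, rfl⟩ c hc
    have hRT : σ.range ≤ T := range_le hσ
    obtain ⟨ν, hν, -, hνmap⟩ := exists_normalizer_map hS hfa hrec
      (isConj_trans (isConj_symm ⟨σ, hsub _ hσ, rfl⟩) hUc)
    have hcN : c ∈ normalizerIn S σ.range :=
      centralizerIn_le_normalizerIn _ ⟨hT.1 hc.1, hc.2⟩
    have h1 : ν ⟨c, hcN⟩ ∈ centralizerIn T U' := by
      refine ⟨hT.2 (normalizerIn S σ.range ⊓ T) inf_le_right _
        (restrict_mem hν inf_le_left) ⟨c, hcN, hc.1⟩, ?_⟩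
      rw [← hνmap]
      exact map_mem_centralizer ν ⟨c, hcN⟩ fun x hx => ((Subgroup.mem_centralizer_iff.1 hc.2) x hx).symm
    have h2 := hle h1
    rw [← hνmap, mem_map_subgroupOf] at h2
    obtain ⟨z, hz, hzR, he⟩ := h2
    have hzc : z = c := congrArg Subtype.val (F.injective_of_mem hν he)
    rw [← hzc]
    exact hzR
  have hUn : φ.range ≤ Subgroup.normalizer (U' : Set Ω) := by
    rintro _ ⟨x, rfl⟩
    exact (hμv _).2
  have hDn : φ.range ≤ Subgroup.normalizer (centralizerIn T U' : Set Ω) := fun g hg =>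
    Subgroup.inf_normalizer_le_normalizer_inf ⟨hTn (hRS hg),
      (Subgroup.normal_subgroupOf_iff_le_normalizer (Subgroup.centralizer_le_normalizer _)).1
        inferInstance (hUn hg)⟩
  have hDle : centralizerIn T U' ≤ S := inf_le_left.trans hT.1
  have hnot' : ¬ centralizerIn T U' ≤ φ.range := fun h => hnot fun x hx => hU'.le ⟨h hx, hx.1⟩
  -- an element of `C_T(U')` normalizing the image outside it
  have hlt : φ.range < φ.range ⊔ centralizerIn T U' := left_lt_sup.2 hnot'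
  haveI := finite_of_le (sup_le hRS hDle)
  obtain ⟨g, ⟨hg, hgN⟩, hgP⟩ :=
    SetLike.exists_of_lt (lt_normalizerIn (hS.to_le (sup_le hRS hDle)) hlt)
  have hg' : g ∈ ((φ.range ⊔ centralizerIn T U' : Subgroup Ω) : Set Ω) := hg
  rw [Subgroup.coe_mul_of_left_le_normalizer_right _ _ hDn] at hg'
  obtain ⟨u, hu, t, ht, rfl⟩ := Set.mem_mul.1 hg'
  have htN : t ∈ Subgroup.normalizer (φ.range : Set Ω) := by
    have := Subgroup.mul_mem _ (Subgroup.inv_mem _ (Subgroup.le_normalizer hu)) hgN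
    rwa [inv_mul_cancel_left] at this
  have htP : t ∉ φ.range := fun h => hgP (φ.range.mul_mem hu h)
  have htS : t ∈ S := hDle ht
  have hcA : conjAut φ.range htN ∈ F.autGroup φ.range :=
    autInducedBy_le_autGroup hRS (conjAut_mem_autInducedBy htN htS)
  have hc1 : ∀ y : φ.range, (y : Ω)⁻¹ * ((conjAut φ.range htN y : φ.range) : Ω) ∈ T := fun y => by
    show (y : Ω)⁻¹ * (t * y * t⁻¹) ∈ T
    have := T.mul_mem (stronglyClosed_conj_mem hT (S.inv_mem (hRS y.2)) ht.1) (T.inv_mem ht.1)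
    simpa [mul_assoc] using this
  have hc2 : ∀ y : φ.range, (y : Ω) ∈ T → conjAut φ.range htN y = y := fun y hy =>
    Subtype.ext (conj_eq_of_commute
      ((Subgroup.mem_centralizer_iff.1 ht.2) y (hU'.le ⟨y.2, hy⟩)).symm)
  refine ⟨⟨φ, hφ, t, ⟨htS, htN⟩, htP, _, mem_pCore_of_stab hS hT hRS hcA hc1 hc2, fun y => rfl⟩,
    fun hrad => ?_⟩
  let e := homIso hφ (rfl : φ.range = φ.range)
  have he : IsoIn F e := isoIn_homIso hφ rfl
  have heT : ∀ x : P, (x : Ω) ∈ T → ((e x : φ.range) : Ω) ∈ T := fun x hx =>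
    hT.2 (P ⊓ T) inf_le_right _ (restrict_mem hφ inf_le_left) ⟨x, x.2, hx⟩
  have heT' : ∀ y : φ.range, (y : Ω) ∈ T → ((e.symm y : P) : Ω) ∈ T := fun y hy =>
    hT.2 (φ.range ⊓ T) inf_le_right _ (restrict_mem he.symm inf_le_left) ⟨y, y.2, hy⟩
  have h0 := mem_pCore_of_stab hS hT hPS (congr_mem_autGroup he.symm hcA) (fun x => ?_) (fun x hx => ?_)
  · rw [hrad.2] at h0
    obtain ⟨z, hz⟩ := h0
    refine htP ?_
    have hmem : conjAut φ.range htN ∈ Inn φ.range := ⟨e z, MulEquiv.ext fun y => ?_⟩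
    · exact mem_of_conjAut_mem_inn (hP.2 _ ⟨φ, hφ, rfl⟩) hRS htS (fun y => rfl) hmem
    · have h3 : z * e.symm y * z⁻¹ = e.symm (conjAut φ.range htN (e (e.symm y))) :=
        DFunLike.congr_fun hz (e.symm y)
      rw [MulEquiv.apply_symm_apply] at h3
      show e z * y * (e z)⁻¹ = _
      rw [← MulEquiv.apply_symm_apply e (conjAut φ.range htN y), ← h3, map_mul, map_mul, map_inv,
        MulEquiv.apply_symm_apply]
  · show (x : Ω)⁻¹ * ((e.symm (conjAut φ.range htN (e x)) : P) : Ω) ∈ T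
    have h4 := heT' _ (show ((((e x)⁻¹ * conjAut φ.range htN (e x)) : φ.range) : Ω) ∈ T from hc1 (e x))
    rwa [map_mul, map_inv, MulEquiv.symm_apply_apply] at h4
  · show e.symm (conjAut φ.range htN (e x)) = x
    rw [hc2 _ (heT x hx), MulEquiv.symm_apply_apply]

end Cfsg.Lib.FusionSys
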