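import Cfsg.Agent.Lib.FusionSys.Normal
import Cfsg.Agent.Lib.FusionSys.Saturation
import Cfsg.Agent.Lib.PGroup.OmegaTwo

/-!
# A strongly closed subgroup is normal when its subgroup of elements of order `p` has a series of
strongly closed subgroups centralized by it (`p` odd); the case of at most `p ^ 2` such elements
-/

set_option autoImplicit false

namespace Cfsg.Lib.FusionSys

open Cfsg Cfsg.FusionSystem
open scoped commutatorElement

variable {Ω : Type*} [Group Ω] {S : Subgroup Ω} {F : FusionSystem S}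

/-- Restriction of an automorphism of `R` to the trace of an invariant set, with all its powers. -/
theorem exists_restrict_pow {R : Subgroup Ω} (X : Subgroup Ω) [Finite R] (a : MulAut R)
    (h : ∀ x : R, (x : Ω) ∈ X → (a x : Ω) ∈ X) :
    ∃ b : MulAut (R ⊓ X : Subgroup Ω), ∀ (n : ℕ) (x : (R ⊓ X : Subgroup Ω)),
      (((b ^ n) x : (R ⊓ X : Subgroup Ω)) : Ω) = ((a ^ n) ⟨x, x.2.1⟩ : Ω) := by
  haveI : Finite (R ⊓ X : Subgroup Ω) :=
    Finite.of_injective _ (Subgroup.inclusion_injective (inf_le_left : R ⊓ X ≤ R))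
  let f : (R ⊓ X : Subgroup Ω) →* (R ⊓ X : Subgroup Ω) :=
    { toFun := fun x => ⟨a ⟨x, x.2.1⟩, (a ⟨x, x.2.1⟩).2, h _ x.2.2⟩
      map_one' := Subtype.ext (by
        show ((a (1 : R) : R) : Ω) = 1
        rw [map_one, OneMemClass.coe_one])
      map_mul' := fun x y => Subtype.ext (by
        show ((a (⟨x, x.2.1⟩ * ⟨y, y.2.1⟩ : R) : R) : Ω) = _
        rw [map_mul]; rfl) }
  have hinj : Function.Injective f := fun x y hxy => by
    have h1 : a ⟨x, x.2.1⟩ = a ⟨y, y.2.1⟩ :=
      Subtype.ext (congrArg (fun z : (R ⊓ X : Subgroup Ω) => (z : Ω)) hxy)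
    exact Subtype.ext (congrArg (fun z : R => (z : Ω)) (a.injective h1))
  refine ⟨MulEquiv.ofBijective f ⟨hinj, Finite.surjective_of_injective hinj⟩, fun n => ?_⟩
  induction n with
  | zero => intro x; rfl
  | succ n ih =>
    intro x
    rw [pow_succ, MulAut.mul_apply, ih, pow_succ, MulAut.mul_apply]
    rfl

/-- For odd `p`: a strongly closed subgroup whose elements of order `p` lie in a member of a series of
strongly closed subgroups centralized by it lies in all centric radical subgroups. -/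
theorem le_of_omega_series [Finite S] {p : ℕ} [Fact p.Prime] (hp2 : p ≠ 2) (hS : IsPGroup p S)
    {P R : Subgroup Ω} (hP : F.StronglyClosed P) (Z : ℕ → Subgroup Ω) (m : ℕ) (hZ0 : Z 0 = ⊥)
    (hZm : ∀ x ∈ P, x ^ p = 1 → x ∈ Z m) (hZs : ∀ i, i ≤ m → F.StronglyClosed (Z i))
    (hZc : ∀ i, i < m → ∀ g ∈ P, ∀ y ∈ Z (i + 1), ⁅g, y⁆ ∈ Z i)
    (hc : F.IsCentric R) (hrad : F.IsRadical p R) : P ≤ R := by
  have hp := (Fact.out : p.Prime)
  have hRS := hc.1
  haveI := finite_of_le hRS
  have hPn := stronglyClosed_le_normalizer hP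
  let B : Subgroup (F.autGroup R) :=
    { carrier := {a | (∀ i, i < m → ∀ x : R, (x : Ω) ∈ Z (i + 1) →
          (x : Ω)⁻¹ * ((a : MulAut R) x : Ω) ∈ Z i) ∧
        ∀ x : R, (x : Ω)⁻¹ * ((a : MulAut R) x : Ω) ∈ P}
      one_mem' := ⟨fun i _ x _ => by simp, fun x => by simp⟩
      mul_mem' := fun {a b} ha hb => by
        have hmul : ∀ x : R, ((a * b : F.autGroup R) : MulAut R) x =
            (a : MulAut R) x * (a : MulAut R) (x⁻¹ * (b : MulAut R) x) := fun x => by
          rw [Subgroup.coe_mul, MulAut.mul_apply, ← map_mul, mul_inv_cancel_left]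
        refine ⟨fun i hi x hx => ?_, fun x => ?_⟩
        · rw [hmul, Subgroup.coe_mul, ← mul_assoc]
          exact (Z i).mul_mem (ha.1 i hi x hx)
            (stronglyClosed_aut_mem (hZs i hi.le) a.2 hRS (hb.1 i hi x hx))
        · rw [hmul, Subgroup.coe_mul, ← mul_assoc]
          exact P.mul_mem (ha.2 x) (stronglyClosed_aut_mem hP a.2 hRS (hb.2 x))
      inv_mem' := fun {a} ha => by
        have h2 : ∀ x : R, (a : MulAut R) (((a⁻¹ : F.autGroup R) : MulAut R) x) = x := fun x => by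
          simp [MulAut.inv_apply]
        refine ⟨fun i hi x hx => ?_, fun x => ?_⟩
        · have h1 := ha.1 i hi (((a⁻¹ : F.autGroup R) : MulAut R) x)
            (stronglyClosed_aut_mem (hZs (i + 1) hi) (a⁻¹).2 hRS hx)
          rw [h2] at h1
          simpa using (Z i).inv_mem h1
        · have h1 := ha.2 (((a⁻¹ : F.autGroup R) : MulAut R) x)
          rw [h2] at h1
          simpa using P.inv_mem h1 }
  haveI : B.Normal := by
    refine ⟨fun a ha b => ?_⟩
    have h1 : ∀ x : R, ((b * a * b⁻¹ : F.autGroup R) : MulAut R) x =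
        x * (b : MulAut R) ((((b⁻¹ : F.autGroup R) : MulAut R) x)⁻¹ *
          (a : MulAut R) (((b⁻¹ : F.autGroup R) : MulAut R) x)) := fun x => by
      simp only [Subgroup.coe_mul, Subgroup.coe_inv, MulAut.mul_apply, map_mul, map_inv,
        MulAut.inv_apply, MulEquiv.apply_symm_apply, mul_inv_cancel_left]
    refine ⟨fun i hi x hx => ?_, fun x => ?_⟩
    · rw [h1, Subgroup.coe_mul, inv_mul_cancel_left]
      exact stronglyClosed_aut_mem (hZs i hi.le) b.2 hRS
        (ha.1 i hi _ (stronglyClosed_aut_mem (hZs (i + 1) hi) (b⁻¹).2 hRS hx))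
    · rw [h1, Subgroup.coe_mul, inv_mul_cancel_left]
      exact stronglyClosed_aut_mem hP b.2 hRS (ha.2 _)
  have hBp : IsPGroup p B := by
    intro b
    haveI : Finite (MulAut R) := Finite.of_injective (fun a : MulAut R => (a : R → R))
      DFunLike.coe_injective
    obtain ⟨k, n, hn, hkn⟩ :=
      Nat.exists_eq_pow_mul_and_not_dvd (orderOf_pos b).ne' p hp.ne_one
    refine ⟨k, ?_⟩
    set c : B := b ^ p ^ k with hc'
    set γ : MulAut R := ((c : F.autGroup R) : MulAut R) with hγ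
    have hco : (orderOf γ).Coprime p := by
      have h1 : orderOf γ ∣ n := orderOf_dvd_of_pow_eq_one (by
        rw [hγ, ← SubmonoidClass.coe_pow, ← SubmonoidClass.coe_pow, hc', ← pow_mul, ← hkn,
          pow_orderOf_eq_one]; rfl)
      exact Nat.Coprime.coprime_dvd_left h1 ((hp.coprime_iff_not_dvd).mpr hn).symm
    -- an automorphism of a subgroup of `R` of coprime order with `p`-power order is trivial
    have hkill : ∀ {Q : Subgroup Ω} (β : MulAut Q), Q ≤ R → orderOf β ∣ orderOf γ →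
        (∃ N, β ^ p ^ N = 1) → β = 1 := by
      rintro Q β - hd ⟨N, hN⟩
      exact orderOf_eq_one_iff.mp (Nat.eq_one_of_dvd_coprimes (hco.pow_right N)
        hd (orderOf_dvd_of_pow_eq_one hN))
    have hfixm : ∀ x : R, (x : Ω) ∈ Z m → γ x = x := by
      obtain ⟨β, hβ⟩ := exists_restrict_pow (Z m) γ
        fun x hx => stronglyClosed_aut_mem (hZs m le_rfl) (c : F.autGroup R).2 hRS hx
      haveI : Finite (R ⊓ Z m : Subgroup Ω) := finite_of_le (inf_le_left.trans hRS)
      have hd : orderOf β ∣ orderOf γ := orderOf_dvd_of_pow_eq_one (MulEquiv.ext fun x => Subtype.ext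
        (by rw [hβ, pow_orderOf_eq_one]; rfl))
      have hβ1 : β = 1 := by
        refine hkill β inf_le_left hd ?_
        obtain ⟨e, he⟩ := IsPGroup.iff_card.mp
          (hS.to_le (inf_le_left.trans hRS) : IsPGroup p (R ⊓ Z m : Subgroup Ω))
        refine ⟨e * m, ?_⟩
        have h3 := pow_eq_one_of_stabilizes (P := (R ⊓ Z m : Subgroup Ω))
          (D := fun i => R ⊓ Z i) (n := m) (by simp [hZ0]) rfl (α := β) ?_ ?_
        · rwa [he, ← pow_mul] at h3
        · intro i hi x hx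
          refine ⟨(β x).2.1, ?_⟩
          have := hβ 1 x
          rw [pow_one, pow_one] at this
          rw [this]
          exact stronglyClosed_aut_mem (hZs i hi) (c : F.autGroup R).2 hRS hx.2
        · intro i hi x hx
          refine ⟨R.mul_mem (R.inv_mem hx.1) (β x).2.1, ?_⟩
          have := hβ 1 x
          rw [pow_one, pow_one] at this
          rw [this]
          exact c.2.1 i hi ⟨x, x.2.1⟩ hx.2
      intro x hx
      have h4 := hβ 1 ⟨x, x.2, hx⟩
      rw [pow_one, pow_one, hβ1, MulAut.one_apply] at h4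
      exact Subtype.ext h4.symm
    have hfixP : ∀ x : R, (x : Ω) ∈ P → γ x = x := by
      obtain ⟨β, hβ⟩ := exists_restrict_pow P γ
        fun x hx => stronglyClosed_aut_mem hP (c : F.autGroup R).2 hRS hx
      haveI : Finite (R ⊓ P : Subgroup Ω) := finite_of_le (inf_le_left.trans hRS)
      have hd : orderOf β ∣ orderOf γ := orderOf_dvd_of_pow_eq_one (MulEquiv.ext fun x => Subtype.ext
        (by rw [hβ, pow_orderOf_eq_one]; rfl))
      have hβ1 : β = 1 := by
        refine Cfsg.Lib.PGroup.mulAut_eq_one_of_fix_omega hp2 (hS.to_le (inf_le_left.trans hRS))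
          (Nat.Coprime.coprime_dvd_left hd hco) fun x hx => Subtype.ext ?_
        have h4 := hβ 1 x
        rw [pow_one, pow_one] at h4
        rw [h4, hfixm ⟨x, x.2.1⟩ (hZm x x.2.2 (by
          rw [← SubmonoidClass.coe_pow, hx, OneMemClass.coe_one]))]
      intro x hx
      have h4 := hβ 1 ⟨x, x.2, hx⟩
      rw [pow_one, pow_one, hβ1, MulAut.one_apply] at h4
      exact Subtype.ext h4.symm
    have hγ1 : γ = 1 := by
      refine hkill γ le_rfl dvd_rfl ?_
      obtain ⟨e, he⟩ := IsPGroup.iff_card.mp (hS.to_le hRS)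
      refine ⟨e * 2, ?_⟩
      have h3 := pow_eq_one_of_stabilizes (P := R)
        (D := fun i => if i = 0 then ⊥ else if i = 1 then R ⊓ P else R) (n := 2) rfl rfl (α := γ) ?_ ?_
      · rwa [he, ← pow_mul] at h3
      · intro i _ x hx
        match i with
        | 0 =>
          have : x = 1 := Subtype.ext (Subgroup.mem_bot.1 hx)
          simp [this]
        | 1 => exact ⟨(γ x).2, stronglyClosed_aut_mem hP (c : F.autGroup R).2 hRS hx.2⟩
        | j + 2 => exact (γ x).2
      · intro i hi x hx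
        match i with
        | 0 =>
          simp [hfixP x hx.2]
        | 1 => exact ⟨R.mul_mem (R.inv_mem x.2) (γ x).2, c.2.2 x⟩
        | j + 2 => omega
    exact Subtype.ext (Subtype.ext hγ1)
  have hle := Cfsg.Lib.Core.le_pCore (p := p) hBp
  have hNQ : ∀ g ∈ P, g ∈ Subgroup.normalizer (R : Set Ω) → g ∈ R := by
    intro g hg hgN
    have hgS : g ∈ S := hP.1 hg
    have hα : conjAut R hgN ∈ F.autGroup R :=
      autInducedBy_le_autGroup hRS (conjAut_mem_autInducedBy hgN hgS)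
    refine mem_of_conjAut_mem_inn (α := conjAut R hgN) (hc.2 R (isConj_refl F hRS)) hRS hgS
      (fun _ => rfl) ?_
    rw [← hrad.2]
    refine ⟨⟨_, hα⟩, hle ⟨fun i hi x hx => ?_, fun x => ?_⟩, rfl⟩
    · show (x : Ω)⁻¹ * (conjAut R hgN x : Ω) ∈ Z i
      rw [coe_conjAut]
      have h2 := (Z i).inv_mem (hZc i hi g hg (x : Ω)⁻¹ ((Z (i + 1)).inv_mem hx))
      simpa [commutatorElement_def, mul_assoc] using h2
    · show (x : Ω)⁻¹ * (conjAut R hgN x : Ω) ∈ P
      rw [coe_conjAut]
      have h1 : (x : Ω)⁻¹ * g * (x : Ω) ∈ P :=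
        (Subgroup.mem_normalizer_iff''.1 (hPn (hRS x.2)) g).1 hg
      simpa [mul_assoc] using P.mul_mem h1 (P.inv_mem hg)
  intro q hq
  by_contra hqR
  haveI := finite_of_le (sup_le hRS hP.1)
  have hlt : R < R ⊔ P :=
    lt_of_le_of_ne le_sup_left fun h => hqR (h ▸ Subgroup.mem_sup_right hq)
  obtain ⟨y, hy, hyR⟩ :=
    SetLike.exists_of_lt (lt_normalizerIn (hS.to_le (sup_le hRS hP.1)) hlt)
  have h1 : y ∈ ((R ⊔ P : Subgroup Ω) : Set Ω) := hy.1
  rw [Subgroup.coe_mul_of_left_le_normalizer_right _ _ (hRS.trans hPn)] at h1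
  obtain ⟨a, ha, b, hb, rfl⟩ := h1
  apply hyR
  refine R.mul_mem ha (hNQ b hb ?_)
  have h2 := Subgroup.mul_mem _ (Subgroup.inv_mem _ (Subgroup.le_normalizer ha)) hy.2
  simpa using h2

theorem isNormal_of_omega_series [Finite S] {p : ℕ} [Fact p.Prime] (hp2 : p ≠ 2)
    (hS : IsPGroup p S) (hF : F.IsSaturated p)
    {P : Subgroup Ω} (hP : F.StronglyClosed P) (Z : ℕ → Subgroup Ω) (m : ℕ) (hZ0 : Z 0 = ⊥)
    (hZm : ∀ x ∈ P, x ^ p = 1 → x ∈ Z m) (hZs : ∀ i, i ≤ m → F.StronglyClosed (Z i))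
    (hZc : ∀ i, i < m → ∀ g ∈ P, ∀ y ∈ Z (i + 1), ⁅g, y⁆ ∈ Z i) : F.IsNormal P :=
  isNormal_of_stronglyClosed hS hF hP
    fun _ hc hr => le_of_omega_series hp2 hS hP Z m hZ0 hZm hZs hZc hc hr

/-- For odd `p` a strongly closed subgroup whose elements of order dividing `p` form a commutative
subgroup of order at most `p ^ 2` is normal. -/
theorem isNormal_of_omega_small [Finite S] {p : ℕ} [Fact p.Prime] (hp2 : p ≠ 2)
    (hS : IsPGroup p S) (hF : F.IsSaturated p) {P : Subgroup Ω} (hP : F.StronglyClosed P)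
    {E : Subgroup Ω} (hE : ∀ x, x ∈ E ↔ x ∈ P ∧ x ^ p = 1)
    (hEc : ∀ x ∈ E, ∀ y ∈ E, x * y = y * x) (hcard : Nat.card E ≤ p ^ 2) : F.IsNormal P := by
  have hp := (Fact.out : p.Prime)
  have hPS := hP.1
  have hEP : E ≤ P := fun x hx => ((hE x).1 hx).1
  have hES : E ≤ S := hEP.trans hPS
  haveI := finite_of_le hES
  haveI := finite_of_le hPS
  have hEs : F.StronglyClosed E := by
    refine ⟨hES, fun T hT φ hφ x => (hE _).2 ⟨hP.2 T (hT.trans hEP) φ hφ x, ?_⟩⟩
    rw [← map_pow, show x ^ p = 1 from Subtype.ext ((hE _).1 (hT x.2)).2, map_one]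
  have hPn := stronglyClosed_le_normalizer hP
  by_cases hcen : ∀ g ∈ P, ∀ y ∈ E, g * y = y * g
  · refine isNormal_of_omega_series hp2 hS hF hP (fun i => if i = 0 then ⊥ else E) 1 (by simp)
      (fun x hx hxp => by simpa using (hE x).2 ⟨hx, hxp⟩) ?_ ?_
    · intro i _
      show F.StronglyClosed (if i = 0 then ⊥ else E)
      split_ifs
      exacts [stronglyClosed_bot F, hEs]
    · intro i hi g hg y hy
      obtain rfl : i = 0 := by omega
      simp only [Nat.zero_add, one_ne_zero, if_false] at hy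
      simp [commutatorElement_def, hcen g hg y hy]
  push_neg at hcen
  obtain ⟨g₀, hg₀, e₀, he₀, hne₀⟩ := hcen
  -- the central part of `E`
  set Z₁ := E ⊓ Subgroup.centralizer (P : Set Ω) with hZ₁
  have hZ₁E : Z₁ ≤ E := inf_le_left
  have hZ₁c : ∀ z ∈ Z₁, ∀ g ∈ P, g * z = z * g := fun z hz => Subgroup.mem_centralizer_iff.1 hz.2
  -- a series in the upper central series of `P`
  obtain ⟨W, m, hW0, hWm, hWmono, hWchar, hWc⟩ := exists_series_of_nilpotent hS hPS
  have hEn : ∀ g ∈ P, ∀ y ∈ E, g * y * g⁻¹ ∈ E := fun g hg y hy =>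
    stronglyClosed_conj_mem hEs (hPS hg) hy
  have hcomE : ∀ g ∈ P, ∀ y ∈ E, ⁅g, y⁆ ∈ E := fun g hg y hy => by
    rw [commutatorElement_def]
    exact E.mul_mem (hEn g hg y hy) (E.inv_mem hy)
  have hordp : ∀ x ∈ E, x ≠ 1 → orderOf x = p := fun x hx hx1 =>
    orderOf_eq_prime ((hE x).1 hx).2 hx1
  have hEp : IsPGroup p E := hS.to_le hES
  have hne : ¬ E ≤ Subgroup.centralizer (P : Set Ω) := fun h =>
    hne₀ (Subgroup.mem_centralizer_iff.1 (h he₀) g₀ hg₀)
  have hlt : Z₁ < E := lt_of_le_of_ne hZ₁E fun h => hne (h ▸ inf_le_right)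
  have hbase : ∀ (i : ℕ) (Y : Subgroup Ω), Y ≤ E → (∀ g ∈ P, ∀ y ∈ W (i + 1), ⁅g, y⁆ ∈ W i) →
      E ⊓ W i ≤ Y → ∀ g ∈ P, ∀ y ∈ E ⊓ W (i + 1), ⁅g, y⁆ ∈ Y := fun i Y _ h hY g hg y hy =>
    hY ⟨hcomE g hg y hy.1, h g hg y hy.2⟩
  have hZ₁ne : Z₁ ≠ ⊥ := by
    intro hb
    have : ∀ i, E ⊓ W i = ⊥ := by
      intro i
      induction i with
      | zero => simp [hW0]
      | succ i ih =>
        rw [eq_bot_iff]
        refine le_trans (b := Z₁) (fun y hy => ⟨hy.1, Subgroup.mem_centralizer_iff.2 fun g hg => ?_⟩) hb.le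
        exact commutatorElement_eq_one_iff_mul_comm.1 (Subgroup.mem_bot.1
          (hbase i ⊥ bot_le (hWc i) ih.le g hg y hy))
    have h1 := this m
    rw [hWm, inf_eq_left.2 hEP] at h1
    exact hne (h1 ▸ bot_le)
  obtain ⟨a, ha⟩ := IsPGroup.iff_card.mp hEp
  haveI := finite_of_le (hZ₁E.trans hES)
  obtain ⟨b, hb⟩ := IsPGroup.iff_card.mp (hS.to_le (hZ₁E.trans hES) : IsPGroup p Z₁)
  haveI := finite_of_le (hZ₁E.trans hES)
  have hab : b < a := by
    by_contra hab
    refine hlt.ne (Subgroup.eq_of_le_of_card_ge hZ₁E ?_)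
    rw [ha, hb]; exact Nat.pow_le_pow_right hp.pos (by omega)
  have ha2 : a ≤ 2 := (Nat.pow_le_pow_iff_right hp.one_lt).1 (ha ▸ hcard)
  have hb0 : b ≠ 0 := fun h => hZ₁ne (Subgroup.card_eq_one.1 (by rw [hb, h, pow_zero]))
  have hcE : Nat.card E = p ^ 2 := by rw [ha]; congr 1; omega
  have hcZ : Nat.card Z₁ = p := by
    rw [hb, show b = 1 by omega, pow_one]
  have hbetween' : ∀ Y : Subgroup Ω, Z₁ ≤ Y → Y ≤ E → Y = Z₁ ∨ Y = E := by
    intro Y h1 h2
    haveI := finite_of_le (h2.trans hES)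
    obtain ⟨c, hc⟩ := IsPGroup.iff_card.mp (hS.to_le (h2.trans hES) : IsPGroup p Y)
    have h3 : c ≤ 2 := (Nat.pow_le_pow_iff_right hp.one_lt).1 (by
      rw [← hc, ← hcE]; exact Subgroup.card_le_of_le h2)
    have h4 : 1 ≤ c := (Nat.pow_le_pow_iff_right hp.one_lt).1 (by
      rw [← hc, pow_one, ← hcZ]; exact Subgroup.card_le_of_le h1)
    rcases (show c = 1 ∨ c = 2 by omega) with rfl | rfl
    · exact Or.inl (Subgroup.eq_of_le_of_card_ge h1 (by rw [hc, hcZ, pow_one])).symm
    · exact Or.inr (Subgroup.eq_of_le_of_card_ge h2 (by rw [hc, hcE]))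
  have hcom1 : ∀ g ∈ P, ∀ y ∈ E, ⁅g, y⁆ ∈ Z₁ := by
    classical
    have hex : ∃ i, E ≤ W i := ⟨m, hWm ▸ hEP⟩
    obtain ⟨i, hi⟩ : ∃ i, Nat.find hex = i + 1 := by
      refine ⟨Nat.find hex - 1, ?_⟩
      have h0 : Nat.find hex ≠ 0 := fun h => by
        have h1 : E ≤ W 0 := h ▸ Nat.find_spec hex
        rw [hW0] at h1
        exact hne (h1.trans bot_le)
      omega
    have hle : E ≤ W (i + 1) := hi ▸ Nat.find_spec hex
    have hnle : ¬ E ≤ W i := Nat.find_min hex (by omega)
    have hY : E ⊓ W i ≤ Z₁ := by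
      refine le_inf inf_le_left ?_
      haveI := finite_of_le ((inf_le_left : E ⊓ W i ≤ E).trans hES)
      obtain ⟨c, hc⟩ := IsPGroup.iff_card.mp
        (hS.to_le (inf_le_left.trans hES) : IsPGroup p (E ⊓ W i : Subgroup Ω))
      have h3 : c < 2 := by
        by_contra h
        refine hnle (inf_eq_left.1 (Subgroup.eq_of_le_of_card_ge inf_le_left ?_))
        rw [hc, hcE]; exact Nat.pow_le_pow_right hp.pos (by omega)
      rcases (show c = 0 ∨ c = 1 by omega) with rfl | rfl
      · rw [Subgroup.card_eq_one.1 (hc.trans (pow_zero p))]; exact bot_le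
      · have hYP : E ⊓ W i ≤ P := inf_le_left.trans hEP
        haveI : ((E ⊓ W i).subgroupOf P).Normal := by
          refine ⟨fun y hy g => ⟨hEn g g.2 _ hy.1, ?_⟩⟩
          have h5 : (W i).subgroupOf P = ((W i).subgroupOf P).comap (MulAut.conj g).toMonoidHom :=
            ((hWchar i).2.fixed (MulAut.conj g)).symm
          have h6 : y ∈ (W i).subgroupOf P := hy.2
          rw [h5] at h6
          exact h6
        have h7 := Cfsg.Lib.PGroup.le_center_of_card_eq_prime (hS.to_le hPS)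
          (N := (E ⊓ W i).subgroupOf P)
          (by rw [Nat.card_congr (Subgroup.subgroupOfEquivOfLe hYP).toEquiv, hc, pow_one])
        intro y hy
        refine Subgroup.mem_centralizer_iff.2 fun g hg => ?_
        exact congrArg Subtype.val
          (Subgroup.mem_center_iff.1 (h7 (show (⟨y, hYP hy⟩ : P) ∈ _ from hy)) ⟨g, hg⟩)
    intro g hg y hy
    exact hbase i Z₁ hZ₁E (hWc i) hY g hg y ⟨hy, hle hy⟩
  have hZ₁s : F.StronglyClosed Z₁ := by
    refine ⟨hZ₁E.trans hES, fun T hT φ hφ x => ?_⟩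
    by_contra hxZ
    set z : Ω := (x : Ω) with hz
    set e : Ω := φ x with he
    have hzZ : z ∈ Z₁ := hT x.2
    have heE : e ∈ E := hEs.2 T (hT.trans hZ₁E) φ hφ x
    have hz1 : z ≠ 1 := fun h => hxZ (by
      show φ x ∈ Z₁
      rw [show x = 1 from Subtype.ext h, map_one]; exact one_mem _)
    have he1 : e ≠ 1 := fun h => hxZ (show φ x ∈ Z₁ by rw [← he, h]; exact one_mem _)
    have hzz : Subgroup.zpowers z = Z₁ :=
      Subgroup.eq_of_le_of_card_ge (Subgroup.zpowers_le.2 hzZ)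
        (by rw [hcZ, Nat.card_zpowers, hordp z (hZ₁E hzZ) hz1])
    -- `S` centralizes `z`
    have hSn : ∀ s ∈ S, ∀ w ∈ Z₁, s * w * s⁻¹ ∈ Z₁ := fun s hs w hw =>
      ⟨stronglyClosed_conj_mem hEs hs hw.1, Subgroup.mem_centralizer_iff.2 fun g hg => by
        have h1 := hZ₁c w hw (s⁻¹ * g * s⁻¹⁻¹)
          (stronglyClosed_conj_mem hP (S.inv_mem hs) hg)
        calc g * (s * w * s⁻¹) = s * ((s⁻¹ * g * s⁻¹⁻¹) * w) * s⁻¹ := by group
          _ = s * w * s⁻¹ * g := by rw [h1]; group⟩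
    have hSz : ∀ s ∈ S, s * z = z * s := by
      haveI : (Z₁.subgroupOf S).Normal :=
        ⟨fun w hw g => hSn g g.2 (w : Ω) hw⟩
      have h7 := Cfsg.Lib.PGroup.le_center_of_card_eq_prime hS (N := Z₁.subgroupOf S)
        (by rw [Nat.card_congr (Subgroup.subgroupOfEquivOfLe (hZ₁E.trans hES)).toEquiv, hcZ])
      intro s hs
      exact congrArg Subtype.val (Subgroup.mem_center_iff.1
        (h7 (show (⟨z, hES (hZ₁E hzZ)⟩ : S) ∈ Z₁.subgroupOf S from hzZ)) ⟨s, hs⟩)
    -- extend the map from `⟨e⟩` back to `⟨z⟩` to an automorphism of `E`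
    have hzS : Subgroup.zpowers z ≤ S := Subgroup.zpowers_le.2 (hES (hZ₁E hzZ))
    have hφz := restrict_mem hφ (Subgroup.zpowers_le.2 x.2)
    have hr : (φ.comp (Subgroup.inclusion (Subgroup.zpowers_le.2 x.2))).range = Subgroup.zpowers e := by
      ext y
      constructor
      · rintro ⟨⟨w, hw⟩, rfl⟩
        obtain ⟨i, rfl⟩ := Subgroup.mem_zpowers_iff.1 hw
        exact Subgroup.mem_zpowers_iff.2 ⟨i, (map_zpow φ x i).symm⟩
      · intro hy
        obtain ⟨i, rfl⟩ := Subgroup.mem_zpowers_iff.1 hy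
        exact ⟨⟨z ^ i, zpow_mem (Subgroup.mem_zpowers z) i⟩, map_zpow φ x i⟩
    obtain ⟨χ, hχ, hχr, hχi⟩ := exists_inv hφz hr
    have hfc : F.IsFullyCentralized (Subgroup.zpowers z) := by
      haveI := finite_of_le (centralizerIn_le (S := S) (Subgroup.zpowers z))
      refine ⟨hzS, fun Q _ => Subgroup.card_le_of_le ?_⟩
      refine (centralizerIn_le Q).trans fun s hs => mem_centralizerIn.2 ⟨hs, ?_⟩
      intro w hw
      obtain ⟨i, rfl⟩ := Subgroup.mem_zpowers_iff.1 hw
      exact ((show Commute s z from hSz s hs).zpow_right i).eq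
    obtain ⟨ψ, hψ, hψe⟩ := (isReceptive_of_fc hS hF hfc).2 _ χ hχ hχr
    have hNle : E ≤ extender S (Subgroup.zpowers e) χ := by
      intro g hg
      have hcom : ∀ w ∈ Subgroup.zpowers e, g * w = w * g := fun w hw => by
        obtain ⟨i, rfl⟩ := Subgroup.mem_zpowers_iff.1 hw
        exact ((show Commute g e from hEc g hg e heE).zpow_right i).eq
      refine mem_extender_of (h := 1) (hES hg) ?_ S.one_mem fun w hw => ?_
      · haveI := finite_of_le (Subgroup.zpowers_le.2 (hES heE) : Subgroup.zpowers e ≤ S)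
        refine Subgroup.mem_normalizer_fintype fun w hw => ?_
        show g * w * g⁻¹ ∈ Subgroup.zpowers e
        rw [conj_eq_of_commute (hcom w hw)]
        exact hw
      · rw [one_mul, inv_one, mul_one]
        exact congrArg χ (Subtype.ext (conj_eq_of_commute (hcom w w.2)))
    have hαh := restrict_mem hψ hNle
    have hαr : (ψ.comp (Subgroup.inclusion hNle)).range = E :=
      range_eq_of_card_le hαh hES (fun w => hEs.2 E le_rfl _ hαh w) le_rfl
    let α : MulAut E := homIso hαh hαr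
    have hα : α ∈ F.autGroup E := (mem_autGroup hES).2 (isoIn_homIso hαh hαr)
    let zE : E := ⟨z, hZ₁E hzZ⟩
    let eE : E := ⟨e, heE⟩
    have hαe : α eE = zE := by
      apply Subtype.ext
      show ψ ⟨e, hNle heE⟩ = z
      rw [hψe e (Subgroup.mem_zpowers e) (hNle heE)]
      have h1 := hχi ⟨z, Subgroup.mem_zpowers z⟩ (hr ▸ ⟨_, rfl⟩)
      exact h1
    -- a conjugation moving `e`, and a conjugate of it fixing `e`
    obtain ⟨g, hg, hge⟩ : ∃ g ∈ P, g * e ≠ e * g := by
      by_contra h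
      push_neg at h
      exact hxZ ⟨heE, Subgroup.mem_centralizer_iff.2 h⟩
    have hgn : g ∈ Subgroup.normalizer (E : Set Ω) :=
      Subgroup.mem_normalizer_fintype fun w hw => hEn g hg w hw
    let t : MulAut E := conjAut E hgn
    have ht : t ∈ F.autGroup E :=
      autInducedBy_le_autGroup hES (conjAut_mem_autInducedBy hgn (hPS hg))
    have htv : ∀ w : E, (t w : Ω) = g * w * g⁻¹ := fun w => coe_conjAut E hgn w
    have htfix : ∀ w : E, (w : Ω) ∈ Z₁ → t w = w := fun w hw =>
      Subtype.ext ((htv w).trans (conj_eq_of_commute (hZ₁c w hw g hg)))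
    have htE : ∀ w : E, ((w⁻¹ * t w : E) : Ω) ∈ Z₁ := by
      intro w
      have h1 := hcom1 g hg (w : Ω) w.2
      have h2 : ((w⁻¹ * t w : E) : Ω) = ⁅g, (w : Ω)⁆ := by
        have h3 : ⁅g, (w : Ω)⁆ * w = w * ⁅g, (w : Ω)⁆ :=
          (hEc _ (hcomE g hg w w.2) w w.2)
        rw [Subgroup.coe_mul, Subgroup.coe_inv, htv, eq_comm, eq_inv_mul_iff_mul_eq, ← h3,
          commutatorElement_def, inv_mul_cancel_right]
      rw [h2]; exact h1
    let z₀ : E := eE⁻¹ * t eE
    have hte : t eE = eE * z₀ := (mul_inv_cancel_left _ _).symm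
    have hz₀ : (z₀ : Ω) ∈ Z₁ := htE eE
    have hz₀1 : z₀ ≠ 1 := fun h => hge (by
      have h1 := congrArg Subtype.val hte
      rw [h, mul_one, htv] at h1
      exact commute_of_conj_eq h1)
    have htz₀ : t z₀ = z₀ := htfix z₀ hz₀
    let u : MulAut E := α⁻¹ * t * α
    have hu : u ∈ F.autGroup E :=
      Subgroup.mul_mem _ (Subgroup.mul_mem _ (Subgroup.inv_mem _ hα) ht) hα
    have hue : u eE = eE := by
      show α⁻¹ (t (α eE)) = eE
      rw [hαe, htfix zE hzZ, ← hαe]
      exact MulEquiv.symm_apply_apply α eE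
    obtain ⟨c, hc⟩ : ∃ c : ℤ, u z₀ = z₀ * eE ^ c := by
      obtain ⟨c, hc⟩ := Subgroup.mem_zpowers_iff.1 (hzz.ge (htE (α z₀)))
      refine ⟨c, ?_⟩
      show α⁻¹ (t (α z₀)) = _
      rw [show t (α z₀) = α z₀ * α (eE ^ c) by
        rw [map_zpow, hαe, ← inv_mul_eq_iff_eq_mul]
        exact Subtype.ext (by rw [SubgroupClass.coe_zpow]; exact hc.symm)]
      rw [← map_mul]
      exact MulEquiv.symm_apply_apply α _
    have heord : orderOf eE = p := by rw [← Subgroup.orderOf_coe]; exact hordp e heE he1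
    have hce : eE ^ c ≠ 1 := by
      intro h
      rw [h, mul_one] at hc
      have h1 : t (α z₀) = α z₀ := α⁻¹.injective (by
        show u z₀ = α.symm (α z₀)
        rw [hc, MulEquiv.symm_apply_apply])
      -- the fixed points of `t` are `Z₁`
      let L : Subgroup Ω := (MonoidHom.eqLocus t.toMonoidHom (MonoidHom.id E)).map E.subtype
      have hL1 : Z₁ ≤ L := fun w hw => ⟨⟨w, hZ₁E hw⟩, htfix ⟨w, hZ₁E hw⟩ hw, rfl⟩
      have hLα : ((α z₀ : E) : Ω) ∈ L := ⟨α z₀, h1, rfl⟩
      have hL2 : L ≤ E := Subgroup.map_subtype_le _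
      haveI := finite_of_le (hL2.trans hES)
      rcases hbetween' L hL1 hL2 with h2 | h2
      · rw [h2, ← hzz] at hLα
        obtain ⟨i, hi⟩ := Subgroup.mem_zpowers_iff.1 hLα
        have h3 : z₀ = eE ^ i := α.injective (by
          rw [map_zpow, hαe]
          exact Subtype.ext (by rw [SubgroupClass.coe_zpow]; exact hi.symm))
        have h4 : t z₀ = z₀ * z₀ ^ i := by
          conv_lhs => rw [h3, map_zpow, hte]
          rw [Commute.mul_zpow (Subtype.ext (hEc _ eE.2 _ z₀.2) : eE * z₀ = z₀ * eE), ← h3]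
        rw [htz₀, eq_comm, mul_eq_left] at h4
        have h5 : (orderOf z₀ : ℤ) ∣ i := orderOf_dvd_iff_zpow_eq_one.2 h4
        have h6 : orderOf z₀ = p := by
          rw [← Subgroup.orderOf_coe]
          exact hordp _ z₀.2 fun h => hz₀1 (Subtype.ext h)
        rw [h6, ← heord] at h5
        exact hz₀1 (h3.trans (orderOf_dvd_iff_zpow_eq_one.1 h5))
      · obtain ⟨w, hw, hwe⟩ : e ∈ L := h2.symm ▸ heE
        have h3 : t eE = eE := by
          obtain rfl : w = eE := Subtype.ext hwe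
          exact hw
        exact hz₀1 (by show eE⁻¹ * t eE = 1; rw [h3, inv_mul_cancel])
    -- a power of `u` moves `z₀` to `z₀ * e`
    obtain ⟨d, hd⟩ : ∃ d : ℕ, (eE ^ c) ^ d = eE := by
      have h1 : orderOf (eE ^ c) = p := by
        refine orderOf_eq_prime (Subtype.ext ?_) hce
        rw [SubmonoidClass.coe_pow, OneMemClass.coe_one]
        exact ((hE _).1 (eE ^ c).2).2
      have h2 : Subgroup.zpowers (eE ^ c) = Subgroup.zpowers eE :=
        Subgroup.eq_of_le_of_card_ge (Subgroup.zpowers_le.2 (zpow_mem (Subgroup.mem_zpowers _) c))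
          (by rw [Nat.card_zpowers, Nat.card_zpowers, h1, heord])
      exact (isOfFinOrder_of_finite _).mem_powers_iff_mem_zpowers.2
        (h2.ge (Subgroup.mem_zpowers eE))
    have hud : ∀ k : ℕ, (u ^ k) z₀ = z₀ * (eE ^ c) ^ k ∧ (u ^ k) eE = eE := by
      intro k
      induction k with
      | zero => simp
      | succ k ih =>
        refine ⟨?_, ?_⟩
        · rw [pow_succ', MulAut.mul_apply, ih.1, map_mul, map_pow, map_zpow, hc, hue, mul_assoc,
            ← pow_succ']
        · rw [pow_succ', MulAut.mul_apply, ih.2, hue]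
    let v : MulAut E := u ^ d
    have hvz : v z₀ = z₀ * eE := by show (u ^ d) z₀ = _; rw [(hud d).1, hd]
    have hve : v eE = eE := (hud d).2
    have hv : v ∈ F.autGroup E := Subgroup.pow_mem _ hu d
    let w : MulAut E := t * v⁻¹ * t
    have hvi : ∀ a b : E, v a = b → v⁻¹ b = a := fun a b h => by
      rw [← h]; exact MulEquiv.symm_apply_apply v a
    have hcm : eE * z₀ = z₀ * eE := Subtype.ext (hEc _ eE.2 _ z₀.2)
    have hwz : w z₀ = eE⁻¹ := by
      show t (v⁻¹ (t z₀)) = _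
      rw [htz₀, hvi (z₀ * eE⁻¹) z₀ (by rw [map_mul, map_inv, hvz, hve, mul_inv_cancel_right]),
        map_mul, map_inv, htz₀, hte, mul_inv_rev, mul_inv_cancel_left]
    have hwe : w eE = z₀ := by
      show t (v⁻¹ (t eE)) = _
      rw [hte, hvi z₀ (eE * z₀) (by rw [hvz, hcm]), htz₀]
    let n : MulAut E := w * w
    have hn : n ∈ F.autGroup E := by
      have hw' : w ∈ F.autGroup E :=
        Subgroup.mul_mem _ (Subgroup.mul_mem _ ht (Subgroup.inv_mem _ hv)) ht
      exact Subgroup.mul_mem _ hw' hw'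
    let L : Subgroup E :=
      { carrier := {a | n a = a⁻¹}
        one_mem' := by simp
        mul_mem' := fun {a b} ha hb => by
          show n (a * b) = (a * b)⁻¹
          rw [map_mul, (ha : n a = a⁻¹), (hb : n b = b⁻¹), ← mul_inv_rev]
          exact congrArg _ (Subtype.ext (hEc _ b.2 _ a.2))
        inv_mem' := fun {a} ha => by
          show n a⁻¹ = a⁻¹⁻¹
          rw [map_inv, (ha : n a = a⁻¹)] }
    have hninv : ∀ a : E, n a = a⁻¹ := by
      have he' : eE ∈ L := by
        show w (w eE) = eE⁻¹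
        rw [hwe, hwz]
      have hz' : z₀ ∈ L := by
        show w (w z₀) = z₀⁻¹
        rw [hwz, map_inv, hwe]
      have h1 : Z₁ ≤ L.map E.subtype := by
        rw [← hzz, Subgroup.zpowers_le]
        have h2 : Subgroup.zpowers (z₀ : Ω) = Z₁ :=
          Subgroup.eq_of_le_of_card_ge (Subgroup.zpowers_le.2 hz₀)
            (by rw [hcZ, Nat.card_zpowers, hordp _ z₀.2 fun h => hz₀1 (Subtype.ext h)])
        have h3 : z ∈ Subgroup.zpowers (z₀ : Ω) := h2.ge hzZ
        exact (Subgroup.zpowers_le.2 (show (z₀ : Ω) ∈ L.map E.subtype from ⟨z₀, hz', rfl⟩)) h3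
      rcases hbetween' _ h1 (Subgroup.map_subtype_le _) with h2 | h2
      · exact absurd (h2 ▸ (⟨eE, he', rfl⟩ : e ∈ L.map E.subtype)) hxZ
      · intro a
        obtain ⟨b, hb, hba⟩ : (a : Ω) ∈ L.map E.subtype := h2.symm ▸ a.2
        obtain rfl : b = a := Subtype.ext hba
        exact hb
    -- the inversion of `E` extends to `S`
    have hEfc : F.IsFullyCentralized E := by
      refine ⟨hES, fun Q hQ => ?_⟩
      obtain ⟨f, hf, rfl⟩ := hQ
      rw [range_eq_of_card_le hf hES (fun a => hEs.2 E le_rfl f hf a) le_rfl]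
    have hEN : S ≤ Subgroup.normalizer (E : Set Ω) := stronglyClosed_le_normalizer hEs
    have hnh : IsoIn F n := (mem_autGroup hES).1 hn
    obtain ⟨Φ, hΦ, hΦe⟩ := (isReceptive_of_fc hS hF hEfc).2 E _ hnh (by
      rw [MonoidHom.range_comp, MonoidHom.range_eq_top.2 n.surjective,
        ← MonoidHom.range_eq_map, Subgroup.range_subtype])
    have hSN : S ≤ extender S E (E.subtype.comp n.toMonoidHom) := fun s hs =>
      mem_extender_of hs (hEN hs) hs fun a ha => by
        show ((n _ : E) : Ω) = s * ((n a : E) : Ω) * s⁻¹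
        rw [hninv, hninv]
        simp [mul_assoc]
    have hPN : P ≤ extender S E (E.subtype.comp n.toMonoidHom) := hPS.trans hSN
    have hθh := restrict_mem hΦ hPN
    have hθr : (Φ.comp (Subgroup.inclusion hPN)).range = P :=
      range_eq_of_card_le hθh hPS (fun a => hP.2 P le_rfl _ hθh a) le_rfl
    have hab := Cfsg.Lib.PGroup.commute_of_inverts_omega hp2 (hS.to_le hPS)
      (γ := homIso hθh hθr) fun a ha => by
        have haE : (a : Ω) ∈ E := (hE _).2
          ⟨a.2, by rw [← SubmonoidClass.coe_pow, ha, OneMemClass.coe_one]⟩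
        apply Subtype.ext
        show Φ ⟨(a : Ω), hPN a.2⟩ = ((a⁻¹ : P) : Ω)
        rw [hΦe (a : Ω) haE (hPN a.2)]
        show ((n ⟨(a : Ω), haE⟩ : E) : Ω) = _
        rw [hninv]
        rfl
    exact hge (congrArg Subtype.val (hab ⟨g, hg⟩ ⟨e, hEP heE⟩))
  refine isNormal_of_omega_series hp2 hS hF hP
    (fun i => if i = 0 then ⊥ else if i = 1 then Z₁ else E) 2 (by simp)
    (fun x hx hxp => by simpa using (hE x).2 ⟨hx, hxp⟩) ?_ ?_
  · intro i _
    show F.StronglyClosed (if i = 0 then ⊥ else if i = 1 then Z₁ else E)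
    split_ifs
    exacts [stronglyClosed_bot F, hZ₁s, hEs]
  · intro i hi g hg y hy
    match i with
    | 0 => simp [commutatorElement_def, hZ₁c y (by simpa using hy) g hg]
    | 1 => simpa using hcom1 g hg y (by simpa using hy)
    | j + 2 => omega

end Cfsg.Lib.FusionSys
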