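import Cfsg.Agent.Lib.FusionSys.Model
import Cfsg.Agent.Lib.FusionSys.Centric
import Cfsg.Agent.Lib.Core.PSolvable
import Cfsg.Agent.S5191

/-!
Fusion systems of `p`-solvable groups.
-/

set_option autoImplicit false
set_option linter.style.haveILetI false

universe u v

namespace Cfsg.Lib.FusionSys

open Cfsg Cfsg.FusionSystem

variable {Ω : Type u} [Group Ω] {S : Subgroup Ω} {F : FusionSystem S} {p : ℕ} [Fact p.Prime]

/-- A model has `p`-solvable automorphism group on the core exactly when it is `p`-solvable. -/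
theorem isPSolvable_model_iff [Finite S] (hS : IsPGroup p S) {G : Type v} [Group G] {ι : S →* G}
    (hM : F.IsModel p G ι) : IsPSolvable p G ↔ IsPSolvable p (F.autGroup F.core) := by
  obtain ⟨hfin, hr, hT, hC⟩ := id hM
  haveI := hfin
  have hcore := isNormal_core F
  have hQc : F.IsCentric F.core :=
    isCentric_mono (isCentric_pCore_preimage hM) (le_sSup (isNormal_pCore_preimage hr hT)) hcore.1
  haveI hN : (imageOf ι F.core).Normal := imageOf_normal hM hcore
  have hker : Subgroup.centralizer (imageOf ι F.core : Set G) ≤ imageOf ι F.core :=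
    centralizer_imageOf_le hM hcore (hQc.2 _ (isConj_refl F hcore.1))
  haveI := finite_of_le hcore.1
  let c : F.core →* imageOf ι F.core :=
    (ι.comp (Subgroup.inclusion hcore.1)).codRestrict _ fun x => mem_imageOf.2 ⟨_, x.2, rfl⟩
  have hc : Function.Bijective c :=
    ⟨fun a b h => Subgroup.inclusion_injective _ (hr.1 (congrArg Subtype.val h)),
      fun ⟨y, hy⟩ => by
        obtain ⟨x, hx, rfl⟩ := mem_imageOf.1 hy
        exact ⟨⟨x, hx⟩, Subtype.ext rfl⟩⟩
  let e : F.core ≃* imageOf ι F.core := MulEquiv.ofBijective c hc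
  let σ : G →* MulAut F.core :=
    ((MulAut.congr e).symm.toMonoidHom).comp (MulAut.conjNormal (H := imageOf ι F.core))
  have hσ : ∀ (g : G) (x : F.core),
      ι (Subgroup.inclusion hcore.1 (σ g x)) = g * ι (Subgroup.inclusion hcore.1 x) * g⁻¹ := by
    intro g x
    have h1 : e (σ g x) = (MulAut.conjNormal (H := imageOf ι F.core) g) (e x) :=
      e.apply_symm_apply _
    have h2 := congrArg Subtype.val h1
    rw [MulAut.conjNormal_apply] at h2
    exact h2
  have hrange : σ.range = F.autGroup F.core := by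
    ext α
    rw [mem_autGroup hcore.1]
    constructor
    · rintro ⟨g, rfl⟩
      exact (hr.2 _ hcore.1 _ fun x => hcore.1 (σ g x).2).2 ⟨g, hσ g⟩
    · intro hα
      obtain ⟨g, hg⟩ := exists_of_realized hr hα
      refine ⟨g, MulEquiv.ext fun x => ?_⟩
      exact Subgroup.inclusion_injective hcore.1 (hr.1 ((hσ g x).trans (hg x).symm))
  have hsur : Function.Surjective σ.rangeRestrict := σ.rangeRestrict_surjective
  constructor
  · intro h
    rw [← hrange]
    exact Cfsg.Lib.Core.isPSolvable_of_surjective _ hsur h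
  · intro h
    rw [← hrange] at h
    have hkp : IsPGroup p σ.ker := by
      refine IsPGroup.to_le (H := σ.ker) (K := imageOf ι F.core) ?_ ?_
      · exact ((hS.to_le hcore.1).of_equiv e)
      · intro g hg
        refine hker (Subgroup.mem_centralizer_iff.2 fun y hy => ?_)
        obtain ⟨x, hx, rfl⟩ := mem_imageOf.1 hy
        have h1 := hσ g ⟨x, hx⟩
        rw [(MonoidHom.mem_ker).1 hg] at h1
        exact (eq_mul_inv_iff_mul_eq.1 (show ι x = g * ι x * g⁻¹ from h1))
    obtain ⟨m, hm⟩ := IsPGroup.iff_card.1 hkp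
    rw [Cfsg.Lib.Core.isPSolvable_iff] at h ⊢
    refine Cfsg.Lib.Core.HasFactorChain.extension σ.ker (Or.inl ⟨m, hm⟩) ?_
    exact h.of_surjective Cfsg.Lib.Core.pFactor_dvdClosed
      (QuotientGroup.quotientKerEquivRange σ).symm.toMonoidHom
      (QuotientGroup.quotientKerEquivRange σ).symm.surjective

/-- A system realized by a `p`-solvable group has a `p`-solvable model. -/
theorem exists_model_of_pSolvable [Finite S] {G : Type v} [Group G] [Finite G] {ι : S →* G}
    (hsolv : IsPSolvable p G) (hr : F.IsRealizedBy ι) (hT : ∃ T : Sylow p G, (T : Subgroup G) = ι.range) :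
    ∃ (G' : Type v) (_ : Group G') (ι' : S →* G'), F.IsModel p G' ι' ∧ IsPSolvable p G' := by
  obtain ⟨T, hT⟩ := hT
  let π : G →* G ⧸ pPrimeCore p G := QuotientGroup.mk' _
  have hπ : Function.Surjective π := QuotientGroup.mk'_surjective _
  have hTπ : ∀ a ∈ (T : Subgroup G), π a = 1 → a = 1 := fun a ha h => by
    have hd : IsPGroup p (Subgroup.zpowers a) := T.isPGroup'.to_le (Subgroup.zpowers_le.2 ha)
    obtain ⟨k, hk⟩ := IsPGroup.iff_card.1 hd
    rw [Nat.card_zpowers] at hk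
    have h2 : orderOf a ∣ Nat.card (pPrimeCore p G) :=
      Subgroup.orderOf_dvd_natCard _ ((QuotientGroup.eq_one_iff a).1 h)
    exact orderOf_eq_one_iff.1 (Nat.eq_one_of_dvd_coprimes
      ((Cfsg.Lib.Core.pPrimeCore_coprime p G).pow_right k) h2 hk.dvd)
  have hinj : Function.Injective (π.comp ι) := by
    rw [injective_iff_map_eq_one]
    intro x hx
    exact (map_eq_one_iff ι hr.1).1 (hTπ _ (hT ▸ ⟨x, rfl⟩) hx)
  refine ⟨G ⧸ pPrimeCore p G, inferInstance, π.comp ι, ⟨inferInstance,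
    ⟨hinj, fun P hP φ hφ => ⟨fun h => ?_, fun h => ?_⟩⟩, ⟨T.mapSurjective hπ, ?_⟩, ?_⟩,
    Cfsg.Lib.Core.isPSolvable_quotient hsolv _⟩
  · obtain ⟨g, hg⟩ := (hr.2 P hP φ hφ).1 h
    exact ⟨π g, fun x => by
      show π (ι _) = π g * π (ι _) * (π g)⁻¹
      rw [hg x, map_mul, map_mul, map_inv]⟩
  · obtain ⟨γ, hγ⟩ := h
    obtain ⟨g, hg⟩ := Cfsg.Agent.S5191.result (hN := inferInstance) T (imageOf ι P)
      (hT ▸ Subgroup.map_le_range ι _) γ
      (fun y hy => by
        obtain ⟨x, hx, rfl⟩ := mem_imageOf.1 hy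
        exact ⟨ι ⟨φ ⟨x, hx⟩, hφ _⟩, hT ▸ ⟨_, rfl⟩, hγ ⟨x, hx⟩⟩)
    refine (hr.2 P hP φ hφ).2 ⟨g, fun x => ?_⟩
    obtain ⟨hmem, heq⟩ := hg _ (mem_imageOf.2 ⟨⟨x, hP x.2⟩, x.2, rfl⟩)
    obtain ⟨s, hs⟩ : g * ι ⟨x, hP x.2⟩ * g⁻¹ ∈ ι.range := hT ▸ hmem
    rw [← hs]
    refine congrArg ι (hinj ?_)
    show π (ι _) = π (ι s)
    rw [hs]
    exact (hγ x).trans heq.symm
  · rw [Sylow.coe_mapSurjective, hT, MonoidHom.map_range]
  · exact Cfsg.Lib.Core.centralizer_pCore_le_of_isPSolvable (Cfsg.Lib.Core.isPSolvable_quotient hsolv _)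
      Cfsg.Lib.Core.pPrimeCore_quotient_eq_bot

end Cfsg.Lib.FusionSys
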