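import Cfsg.Agent.Lib.FusionSys.SatFamily
import Cfsg.Agent.Lib.FusionSys.Centric
import Cfsg.Agent.Lib.FusionSys.Simple
import Cfsg.Agent.Lib.FusionSys.Local

/-!
`p`-stability is decided in the normalizers of centric radical subgroups.
-/

set_option autoImplicit false

namespace Cfsg.Lib.FusionSys

open Cfsg Cfsg.FusionSystem

variable {Ω : Type*} [Group Ω] {S : Subgroup Ω} {F : FusionSystem S} {p : ℕ}
variable {Q Q' R R' : Subgroup Ω}

/-- `χ` acts quadratically. -/
def IsQuadAut (χ : MulAut Q) : Prop := ∀ a : Q, (χ a⁻¹) * a * (χ a⁻¹) * (χ (χ a)) = 1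

theorem IsQuadAut.congr {χ : MulAut Q} (h : IsQuadAut χ) (e : Q ≃* Q') :
    IsQuadAut (MulAut.congr e χ) := fun b => by
  obtain ⟨a, rfl⟩ := e.surjective b
  have h1 := congrArg e (h a)
  simpa [MulAut.congr] using h1

theorem coreAut_congr_system {T : Subgroup Ω} {E : FusionSystem T} (h : E.autGroup Q = F.autGroup Q) :
    coreAut E p Q = coreAut F p Q := by
  show (Cfsg.pCore p (E.autGroup Q)).map (E.autGroup Q).subtype = _
  rw [h]
  rfl

theorem mem_coreAut_of_le [Finite S] {T : Subgroup Ω} {E : FusionSystem T} (hQ : Q ≤ S)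
    (hle : E.autGroup Q ≤ F.autGroup Q) {x : MulAut Q} (hx : x ∈ coreAut F p Q)
    (hxE : x ∈ E.autGroup Q) : x ∈ coreAut E p Q := by
  haveI := finite_mulAut_of_le hQ
  let N : Subgroup (E.autGroup Q) := (coreAut F p Q).subgroupOf (E.autGroup Q)
  have hn : N.Normal := ⟨fun n hn g => conj_mem_coreAut hQ (hle g.2) hn⟩
  exact ⟨⟨x, hxE⟩, Cfsg.Lib.Core.le_pCore' hn (isPGroup_coreAut hQ).comap_subtype hx, rfl⟩

/-- Every automorphism of `Q` extends to one of the centric subgroup `R`. -/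
def ExtendsTo (F : FusionSystem S) (Q R : Subgroup Ω) : Prop :=
  ∃ hQR : Q ≤ R, F.IsCentric R ∧ ∀ β ∈ F.autGroup Q, ∃ ρ ∈ F.autGroup R,
    ∀ a : Q, ((ρ ⟨a, hQR a.2⟩ : R) : Ω) = (β a : Ω)

theorem ExtendsTo.move {h : ExtendsTo F Q R} (e : R ≃* R') (he : IsoIn F e) :
    ∃ (Q' : Subgroup Ω) (f : Q ≃* Q'), IsoIn F f ∧ ExtendsTo F Q' R' := by
  obtain ⟨hQR, hc, hext⟩ := h
  have hi := restrict_mem he hQR
  obtain ⟨f, hf, hfe⟩ : ∃ f : Q ≃* ((R'.subtype.comp e.toMonoidHom).comp (Subgroup.inclusion hQR)).range,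
      IsoIn F f ∧ ∀ a : Q, (f a : Ω) = (e ⟨a, hQR a.2⟩ : Ω) :=
    ⟨homIso hi rfl, isoIn_homIso hi rfl, fun a => rfl⟩
  have hQ'R : ((R'.subtype.comp e.toMonoidHom).comp (Subgroup.inclusion hQR)).range ≤ R' := by
    rintro _ ⟨a, rfl⟩
    exact (e _).2
  refine ⟨_, f, hf, hQ'R, ⟨he.le_right, fun P hP => hc.2 P (isConj_trans (isConj_iff.2 ⟨e, he⟩) hP)⟩,
    fun β hβ => ?_⟩
  have hQS : Q ≤ S := hQR.trans hc.1
  obtain ⟨ρ, hρ, hρe⟩ := hext _ (congr_mem_autGroup hf.symm hβ)
  refine ⟨MulAut.congr e ρ, congr_mem_autGroup he hρ, fun b => ?_⟩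
  obtain ⟨a, rfl⟩ := f.surjective b
  have e1 : (⟨(f a : Ω), hQ'R (f a).2⟩ : R') = e ⟨a, hQR a.2⟩ := Subtype.ext (hfe a)
  rw [e1]
  have h2 : ρ ⟨a, hQR a.2⟩ = ⟨(MulAut.congr f.symm β a : Q), hQR (MulAut.congr f.symm β a).2⟩ :=
    Subtype.ext (hρe a)
  have h3 : (MulAut.congr e ρ) (e ⟨a, hQR a.2⟩) = e (ρ ⟨a, hQR a.2⟩) := by simp [MulAut.congr]
  rw [h3, h2, ← hfe]
  refine congrArg Subtype.val ?_
  show f (f.symm (β (f.symm.symm a))) = β (f a)
  rw [MulEquiv.apply_symm_apply, MulEquiv.symm_symm]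

theorem lt_coreNorm_of_not_radical [Finite S] [Fact p.Prime] (hS : IsPGroup p S)
    (hR : R ≤ S) (hfa : F.IsFullyAutomized p R) (hrad : ¬ F.IsRadical p R) :
    R < coreNorm F p R ∧ coreAut F p R ≤ autInducedBy S R := by
  haveI := finite_mulAut_of_le hR
  obtain ⟨-, W, hW⟩ := hfa
  have hle : coreAut F p R ≤ autInducedBy S R := by
    rintro _ ⟨k, hk, rfl⟩
    have := Cfsg.Lib.Core.pCore_le_sylow W hk
    rw [hW] at this
    exact this
  refine ⟨lt_of_le_of_ne (le_coreNorm hS hR) fun heq => hrad ⟨hR, ?_⟩, hle⟩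
  refine le_antisymm (fun a ha => ?_) (inn_le_coreAut hS hR)
  obtain ⟨g, hg, hga⟩ := mem_autInducedBy.1 (hle ha)
  have hgR : g ∈ R := heq.symm ▸ (mem_nK.2 ⟨hg, a, ha, hga⟩ : g ∈ coreNorm F p R)
  exact ⟨⟨g, hgR⟩, MulEquiv.ext fun x => Subtype.ext (hga x).symm⟩

theorem mem_coreAut_of_extendsTo [Finite S] [Fact p.Prime] (hS : IsPGroup p S)
    (hF : F.IsSaturated p)
    (hloc : ∀ R : Subgroup Ω, F.IsFullyNormalized R → F.IsCentric R → F.IsRadical p R →
      ∀ N : FusionSystem (normalizerIn S R), F.IsNormalizerSystem R N →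
        ∀ Q : Subgroup Ω, N.IsFullyNormalized Q → ∀ χ : MulAut Q, χ ∈ N.autGroup Q → IsQuadAut χ →
          χ ∈ coreAut N p Q) :
    ∀ (n : ℕ) (Q R : Subgroup Ω), Nat.card S - Nat.card R ≤ n → ExtendsTo F Q R →
      ∀ χ ∈ F.autGroup Q, IsQuadAut χ → χ ∈ coreAut F p Q := by
  intro n
  induction n using Nat.strong_induction_on with
  | _ n ih =>
    intro Q R hn hQR χ hχ hquad
    have hRc : F.IsCentric R := hQR.2.1
    obtain ⟨R', hRR', hR'⟩ := exists_isFullyNormalized F hRc.1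
    obtain ⟨e, he⟩ := isConj_iff.1 hRR'
    obtain ⟨Q', f, hf, hQR'⟩ := ExtendsTo.move (h := hQR) e he
    have hcard : Nat.card R = Nat.card R' := Nat.card_congr e.toEquiv
    have hχ' := congr_mem_autGroup hf hχ
    have hquad' := hquad.congr f
    suffices h : MulAut.congr f χ ∈ coreAut F p Q' by
      have := congr_mem_coreAut hf.symm h
      rwa [show MulAut.congr f.symm (MulAut.congr f χ) = χ from
        MulEquiv.ext fun x => by simp [MulAut.congr]] at this
    obtain ⟨hQ'R', hR'c, hext⟩ := hQR'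
    obtain ⟨hfc, hfa⟩ := isFullyAutomized_and_fc_of_fn hS hF hR'
    haveI := finite_of_le (normalizerIn_le (S := S) R')
    by_cases hrad : F.IsRadical p R'
    · obtain ⟨N, hN⟩ := exists_normalizerSystem F hR'.1
      have hQN : Q' ≤ normalizerIn S R' := hQ'R'.trans (le_normalizerIn hR'.1)
      obtain ⟨Q'', hQ'', hQ''n⟩ := exists_isFullyNormalized N hQN
      obtain ⟨g, hg⟩ := isConj_iff.1 hQ''
      have haut : N.autGroup Q' = F.autGroup Q' := by
        refine le_antisymm (fun a ha => ?_) fun a ha => ?_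
        · have := (mem_autGroup hQN).1 ha
          rw [IsoIn, hN Q'] at this
          exact (mem_autGroup (hQN.trans (normalizerIn_le R'))).2 this.1
        · obtain ⟨ρ, hρ, hρe⟩ := hext a ha
          refine (mem_autGroup hQN).2 ?_
          rw [IsoIn, hN Q']
          have hle : Q' ⊔ R' ≤ R' := sup_le hQ'R' le_rfl
          refine ⟨(mem_autGroup (hQN.trans (normalizerIn_le R'))).1 ha, hQN, fun x => hQN (a x).2,
            (R'.subtype.comp ρ.toMonoidHom).comp (Subgroup.inclusion hle),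
            restrict_mem ((mem_autGroup hR'.1).1 hρ) hle, fun x => hρe x, ?_⟩
          ext y
          rw [mem_map_subgroupOf]
          refine ⟨fun ⟨x, hx, _, hy⟩ => hy ▸ (ρ _).2, fun hy => ?_⟩
          exact ⟨(ρ⁻¹ ⟨y, hy⟩ : R'), Subgroup.mem_sup_right (ρ⁻¹ ⟨y, hy⟩).2, (ρ⁻¹ ⟨y, hy⟩).2,
            congrArg Subtype.val (MulAut.apply_inv_self _ ρ (⟨y, hy⟩ : R'))⟩
      rw [← haut] at hχ'
      have h1 := hloc R' hR' hR'c hrad N hN Q'' hQ''n _ (congr_mem_autGroup hg hχ') (hquad'.congr g)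
      have h2 := congr_mem_coreAut hg.symm h1
      rw [show MulAut.congr g.symm (MulAut.congr g (MulAut.congr f χ)) = MulAut.congr f χ from
        MulEquiv.ext fun x => by simp [MulAut.congr], coreAut_congr_system haut] at h2
      exact h2
    · obtain ⟨hlt, hcore⟩ := lt_coreNorm_of_not_radical hS hR'.1 hfa hrad
      set L := coreNorm F p R' with hL
      have hLS : L ≤ S := coreNorm_le.trans (normalizerIn_le R')
      have hc : Nat.card R' < Nat.card L := by
        haveI := finite_of_le hLS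
        by_contra hh
        exact hlt.ne (Subgroup.eq_of_le_of_card_ge hlt.le (not_lt.1 hh))
      have hrec := isReceptive_of_fc hS hF hfc
      refine ih (Nat.card S - Nat.card L) (by have := card_le_of_le hLS; omega) Q' L le_rfl
        ⟨hQ'R'.trans hlt.le, isCentric_mono hR'c hlt.le hLS, fun β hβ => ?_⟩ _ hχ' hquad'
      obtain ⟨ρ, hρ, hρe⟩ := hext β hβ
      have hρi : IsoIn F (ρ : R' ≃* R') := (mem_autGroup hR'.1).1 hρ
      have h1 : ExtIso F L (normalizerIn S R') (ρ : R' ≃* R') :=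
        exists_extIso_of_receptive hrec hρi hlt.le coreNorm_le fun g hg => by
          obtain ⟨_, hk⟩ := mem_coreNorm.1 hg
          exact hcore (congr_mem_coreAut hρi hk)
      obtain ⟨-, ψ, hψ, hv, hψe⟩ := h1.into_coreNorm le_rfl
      haveI := finite_of_le hLS
      have hr := range_eq_of_card_le hψ hLS hv le_rfl
      exact ⟨homIso hψ hr, (mem_autGroup hLS).2 (isoIn_homIso hψ hr),
        fun a => (hψe a (hQ'R' a.2) _).trans (hρe a)⟩

theorem extendsTo_sup_centralizer [Finite S] [Fact p.Prime] (hS : IsPGroup p S)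
    (hF : F.IsSaturated p) (hQ : F.IsFullyCentralized Q) :
    ExtendsTo F Q (Q ⊔ centralizerIn S Q) := by
  set U := Q ⊔ centralizerIn S Q with hUdef
  have hUS : U ≤ S := sup_le hQ.1 (centralizerIn_le Q)
  refine ⟨le_sup_left, ⟨hUS, fun P hP => ?_⟩, fun β hβ => ?_⟩
  · obtain ⟨φ, hφ, rfl⟩ := hP
    set φQ := φ.comp (Subgroup.inclusion (le_sup_left : Q ≤ U)) with hφQ
    have hle : φQ.range ≤ φ.range := by
      rintro _ ⟨x, rfl⟩
      exact ⟨_, rfl⟩
    refine (centralizerIn_anti hle).trans ?_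
    have hmem : ∀ c : centralizerIn S Q,
        φ ⟨c, Subgroup.mem_sup_right c.2⟩ ∈ centralizerIn S φQ.range := by
      intro c
      refine mem_centralizerIn.2 ⟨hom_mem hφ _, ?_⟩
      rintro _ ⟨x, rfl⟩
      show φ _ * φ (Subgroup.inclusion le_sup_left x) = φ (Subgroup.inclusion le_sup_left x) * φ _
      rw [← map_mul, ← map_mul]
      exact congrArg φ (Subtype.ext ((mem_centralizerIn.1 c.2).2 x x.2))
    haveI := finite_of_le (centralizerIn_le (S := S) φQ.range)
    have hinj : Function.Injective fun c => (⟨_, hmem c⟩ : centralizerIn S φQ.range) := fun a b hab =>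
      Subtype.ext (congrArg (fun z : U => (z : Ω))
        (F.injective_of_mem hφ (congrArg Subtype.val hab)))
    intro y hy
    obtain ⟨c, hc⟩ := (hinj.bijective_of_nat_card_le
      (hQ.2 _ ⟨φQ, restrict_mem hφ le_sup_left, rfl⟩)).2 ⟨y, hy⟩
    exact ⟨_, congrArg Subtype.val hc⟩
  · have hβi : IsoIn F (β : Q ≃* Q) := (mem_autGroup hQ.1).1 hβ
    have hUN : U ≤ normalizerIn S Q :=
      sup_le (le_normalizerIn hQ.1) (centralizerIn_le_normalizerIn Q)
    have hr : (Q.subtype.comp (β : Q ≃* Q).toMonoidHom).range = Q := by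
      ext y
      exact ⟨by rintro ⟨x, rfl⟩; exact (β x).2, fun hy => ⟨β⁻¹ ⟨y, hy⟩,
        congrArg Subtype.val (MulAut.apply_inv_self _ β (⟨y, hy⟩ : Q))⟩⟩
    obtain ⟨ψ, hψ, hψe⟩ := (isReceptive_of_fc hS hF hQ).2 Q _ hβi hr
    have hle : U ≤ extender S Q (Q.subtype.comp (β : Q ≃* Q).toMonoidHom) :=
      sup_le (le_extender hQ.1 (hom_mem hβi)) (centralizerIn_le_extender _)
    have hψU := restrict_mem hψ hle
    have hv : ∀ x : U, ψ (Subgroup.inclusion hle x) ∈ U := by
      intro x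
      have hall : U ≤ (U.comap (ψ.comp (Subgroup.inclusion hle))).map U.subtype := by
        refine sup_le (fun y hy => ⟨⟨y, Subgroup.mem_sup_left hy⟩, ?_, rfl⟩)
          fun y hy => ⟨⟨y, Subgroup.mem_sup_right hy⟩, ?_, rfl⟩
        · show ψ ⟨y, _⟩ ∈ U
          rw [hψe y hy]
          exact Subgroup.mem_sup_left (β ⟨y, hy⟩).2
        · refine Subgroup.mem_sup_right (mem_centralizerIn.2 ⟨hom_mem hψU _, fun z hz => ?_⟩)
          obtain ⟨z', hz'⟩ := (β : Q ≃* Q).surjective ⟨z, hz⟩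
          have h1 : ψ (Subgroup.inclusion hle ⟨z', Subgroup.mem_sup_left z'.2⟩) = z :=
            (hψe z' z'.2 _).trans (congrArg Subtype.val hz')
          rw [← h1, MonoidHom.comp_apply]
          refine (map_mul ψ _ _).symm.trans ((congrArg ψ (Subtype.ext ?_)).trans (map_mul ψ _ _))
          exact (mem_centralizerIn.1 hy).2 z' z'.2
      obtain ⟨x', hx', he⟩ := hall x.2
      obtain rfl : x' = x := Subtype.ext he
      exact hx'
    haveI := finite_of_le hUS
    have hrU := range_eq_of_card_le hψU hUS hv le_rfl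
    exact ⟨homIso hψU hrU, (mem_autGroup hUS).2 (isoIn_homIso hψU hrU), fun a => hψe a a.2 _⟩

theorem pStable_iff_local [Finite S] [Fact p.Prime] (hS : IsPGroup p S) (hF : F.IsSaturated p) :
    (∀ Q : Subgroup Ω, F.IsFullyNormalized Q → ∀ χ : MulAut Q, χ ∈ F.autGroup Q → IsQuadAut χ →
        χ ∈ coreAut F p Q) ↔
      ∀ R : Subgroup Ω, F.IsFullyNormalized R → F.IsCentric R → F.IsRadical p R →
        ∀ N : FusionSystem (normalizerIn S R), F.IsNormalizerSystem R N →
          ∀ Q : Subgroup Ω, N.IsFullyNormalized Q → ∀ χ : MulAut Q, χ ∈ N.autGroup Q → IsQuadAut χ →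
            χ ∈ coreAut N p Q := by
  constructor
  · intro h R _ _ _ N hN Q hQ χ hχ hquad
    have hQS : Q ≤ S := hQ.1.trans (normalizerIn_le R)
    have hle : N.autGroup Q ≤ F.autGroup Q := fun a ha => by
      have := (mem_autGroup hQ.1).1 ha
      rw [IsoIn, hN Q] at this
      exact (mem_autGroup hQS).2 this.1
    obtain ⟨Q', hQ', hQ'n⟩ := exists_isFullyNormalized F hQS
    obtain ⟨e, he⟩ := isConj_iff.1 hQ'
    have h1 := congr_mem_coreAut he.symm
      (h Q' hQ'n _ (congr_mem_autGroup he (hle hχ)) (hquad.congr e))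
    rw [show MulAut.congr e.symm (MulAut.congr e χ) = χ from
      MulEquiv.ext fun x => by simp [MulAut.congr]] at h1
    exact mem_coreAut_of_le hQS hle h1 hχ
  · intro h Q hQ χ hχ hquad
    exact mem_coreAut_of_extendsTo hS hF h _ Q _ le_rfl
      (extendsTo_sup_centralizer hS hF (isFullyAutomized_and_fc_of_fn hS hF hQ).1) χ hχ hquad

end Cfsg.Lib.FusionSys
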