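import Cfsg.Agent.Lib.FusionSys.RankTwoEssential
import Cfsg.Agent.Lib.PGroup.Basic
import Cfsg.Agent.Lib.TwoGroup.MaximalClass
import Cfsg.Agent.Lib.TwoGroup.Models

/-!
# Essential subgroups that are abelian of rank two, or of order `p ^ 3`
-/

set_option autoImplicit false

namespace Cfsg.Lib.FusionSys.RankTwo

open Cfsg Cfsg.FusionSystem
open scoped commutatorElement
open Cfsg.Lib.PGroup

universe u

variable {Ω : Type u} [Group Ω] {S : Subgroup Ω} [Finite S] {p : ℕ} [hp : Fact p.Prime]
variable {F : FusionSystem S} {P : Subgroup Ω}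

/-- The automorphisms of an essential subgroup fix no line of a plane section. -/
theorem irreducible (hS : IsPGroup p S) (hF : F.IsSaturated p) (hP : F.IsEssential p P)
    {V : Type*} [Group V] [Finite V] (hc : Nat.card V = p ^ 2) (hexp : ∀ v : V, v ^ p = 1)
    (r : ↥(F.autGroup P) →* MulAut V) (hker : IsPGroup p r.ker) (U : Subgroup V)
    (hU : ∀ a, ∀ v ∈ U, r a v ∈ U) : U = ⊥ ∨ U = ⊤ := by
  obtain ⟨-, -, -, hO, hRp, hRI⟩ := basic hS hF hP
  haveI := finite_of_le hP.1.1
  exact Plane.invariant_eq hc hexp r _ hO hker _ hRp hRI U hU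

omit hp in
/-- A `p'`-automorphism of an abelian group fixing its elements of order `p` is trivial. -/
theorem aut_abelian_fix {G : Type*} [Group G] (hcomm : ∀ a b : G, a * b = b * a) (hG : IsPGroup p G)
    {α : MulAut G} {m : ℕ} (hm : Nat.Coprime m p) (hα : α ^ m = 1)
    (hfix : ∀ x : G, x ^ p = 1 → α x = x) : α = 1 := by
  suffices h : ∀ (k : ℕ) (x : G), x ^ p ^ k = 1 → α x = x from MulEquiv.ext fun x => by
    obtain ⟨k, hk⟩ := hG x
    exact h k x hk
  intro k
  induction k with
  | zero => intro x hx; rw [pow_zero, pow_one] at hx; rw [hx, map_one]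
  | succ k ih =>
    intro x hx
    set δ := x⁻¹ * α x with hδ
    have h1 : α (x ^ p) = x ^ p := ih _ (by rw [← pow_mul, ← pow_succ']; exact hx)
    have hδp : δ ^ p = 1 := by
      rw [hδ, (show Commute _ _ from hcomm _ _).mul_pow, inv_pow, ← map_pow, h1, inv_mul_cancel]
    have hiter : ∀ n : ℕ, (α ^ n) x = x * δ ^ n := by
      intro n
      induction n with
      | zero => simp
      | succ n ihn =>
        rw [pow_succ', MulAut.mul_apply, ihn, map_mul, map_pow, hfix δ hδp, hδ, pow_succ',
          ← mul_assoc x, mul_inv_cancel_left]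
    have h2 : δ ^ m = 1 := by
      have := hiter m
      rw [hα, MulAut.one_apply] at this
      exact mul_eq_left.mp this.symm
    have h3 : δ = 1 := by
      have := pow_gcd_eq_one.mpr ⟨h2, hδp⟩
      rwa [hm.gcd_eq_one, pow_one] at this
    exact (inv_mul_eq_one.mp h3).symm

/-- An abelian essential subgroup of rank two. -/
theorem abelian_rank_two (hS : IsPGroup p S) (hF : F.IsSaturated p) (hP : F.IsEssential p P)
    (hab : ∀ a b : P, a * b = b * a) (hrk : (frattini P).index ≤ p ^ 2) :
    (Cfsg.IsElementaryAbelian p P ∧ Nat.card P = p ^ 2) ∨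
      (p ≤ 3 ∧ ∃ k : ℕ, Nonempty (↥P ≃* Multiplicative (ZMod (p ^ k) × ZMod (p ^ k)))) := by
  have hPS := hP.1.1
  haveI := finite_of_le hPS
  have hPG : IsPGroup p P := hS.to_le hPS
  let powp : P →* P :=
    { toFun := fun x => x ^ p
      map_one' := one_pow p
      map_mul' := fun a b => (show Commute a b from hab a b).mul_pow p }
  have hfr : frattini P = powp.range := by
    have hcomm : commutator P = ⊥ := by
      rw [commutator_def, Subgroup.commutator_eq_bot_iff_le_centralizer]
      exact fun a _ => Subgroup.mem_centralizer_iff.mpr fun b _ => hab b a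
    rw [frattini_eq_sup hPG, hcomm, bot_sup_eq]
    refine le_antisymm ((Subgroup.closure_le _).mpr ?_) fun x hx => Subgroup.subset_closure hx
    rintro _ ⟨g, rfl⟩
    exact ⟨g, rfl⟩
  set W := powp.ker with hWdef
  have hmem : ∀ x : P, x ∈ W ↔ x ^ p = 1 := fun x => MonoidHom.mem_ker
  have hWcard : Nat.card W = (frattini P).index := by
    have h1 := W.card_mul_index
    have h2 := powp.range.card_mul_index
    rw [Subgroup.index_ker] at h1
    rw [hfr]
    exact Nat.eq_of_mul_eq_mul_right Nat.card_pos (by rw [h1, ← h2, mul_comm])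
  have hWp : IsPGroup p W := hPG.to_subgroup W
  obtain ⟨i, hi⟩ := IsPGroup.iff_card.mp hWp
  have hi2 : i ≤ 2 := by
    refine (Nat.pow_le_pow_iff_right hp.out.one_lt).mp ?_
    rw [← hi, hWcard]; exact hrk
  have hi' : i = 2 := by
    by_contra hne
    refine not_isCyclic hS hF hP ?_
    have hle : (frattini P).index ≤ p := by
      rw [← hWcard, hi]
      calc p ^ i ≤ p ^ 1 := Nat.pow_le_pow_right hp.out.pos (by omega)
        _ = p := pow_one p
    rcases subsingleton_or_nontrivial P with hsub | hnt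
    · exact isCyclic_of_subsingleton
    obtain ⟨x, hx⟩ : ∃ x : P, x ∉ frattini P := by
      by_contra h
      push Not at h
      exact frattini_ne_top (G := P) (eq_top_iff.mpr fun x _ => h x)
    have hidx : (frattini P).index = p := by
      obtain ⟨j, hj⟩ := hPG.index (frattini P)
      refine le_antisymm hle ?_
      rw [hj]
      refine Nat.le_self_pow (fun h0 => hx ?_) p
      rw [h0, pow_zero, Subgroup.index_eq_one] at hj
      rw [hj]
      exact Subgroup.mem_top x
    refine ⟨⟨x, fun y => ?_⟩⟩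
    have htop : Subgroup.zpowers x = ⊤ := by
      refine frattini_nongenerating (eq_top_iff.mpr fun y _ => ?_)
      have hq1 : (x : P ⧸ frattini P) ≠ 1 := by rwa [Ne, QuotientGroup.eq_one_iff]
      obtain ⟨j, hj⟩ := mem_zpowers_of_prime_card (p := p) hidx hq1 (g' := (y : P ⧸ frattini P))
      have h2 : (x ^ j)⁻¹ * y ∈ frattini P := QuotientGroup.eq.mp hj
      rw [← mul_inv_cancel_left (x ^ j) y]
      exact Subgroup.mul_mem_sup (zpow_mem (Subgroup.mem_zpowers x) j) h2
    exact le_of_eq htop.symm (Subgroup.mem_top y)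
  subst hi'
  have hWinv : ∀ (α : MulAut P) (x : P), x ∈ W → α x ∈ W := fun α x hx => by
    rw [hmem] at hx ⊢; rw [← map_pow, hx, map_one]
  have hWexp : ∀ w : W, w ^ p = 1 := fun w => Subtype.ext ((hmem w).mp w.2)
  set r := (res W hWinv).comp (F.autGroup P).subtype with hr
  have hker : IsPGroup p r.ker := by
    rintro ⟨a, ha⟩
    have hafix : ∀ x : P, x ^ p = 1 → (a : MulAut P) x = x := fun x hx =>
      congrArg Subtype.val (DFunLike.congr_fun (MonoidHom.mem_ker.mp ha) (⟨x, (hmem x).mpr hx⟩ : W))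
    haveI : Finite (MulAut P) := Finite.of_injective (fun a : MulAut P => (a : P → P))
      DFunLike.coe_injective
    obtain ⟨k, m, hm, hmk⟩ :=
      Nat.exists_eq_pow_mul_and_not_dvd (orderOf_pos (a : MulAut P)).ne' p hp.out.ne_one
    refine ⟨k, Subtype.ext (Subtype.ext ?_)⟩
    have h := aut_abelian_fix hab hPG (α := (a : MulAut P) ^ p ^ k) (m := m)
      ((hp.out.coprime_iff_not_dvd.mpr hm).symm) (by rw [← pow_mul, ← hmk, pow_orderOf_eq_one])
      (fun x hx => exists_pow_eq_one_of_fix.smul_fix (G := P) _ x (hafix x hx) (p ^ k))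
    simpa using h
  by_cases hexp : ∀ x : P, x ^ p = 1
  · refine Or.inl ⟨⟨⟨⟨hab⟩⟩, fun a ha => congrArg Subtype.val (hexp ⟨a, ha⟩)⟩, ?_⟩
    rw [← hi, show W = ⊤ from eq_top_iff.mpr fun x _ => (hmem x).mpr (hexp x), Subgroup.card_top]
  refine Or.inr ⟨?_, ?_⟩
  · by_contra hp3
    push Not at hp3
    have hrkP : ∀ E : Subgroup P, Cfsg.IsElementaryAbelian p E → Nat.card E ≤ p ^ 2 := fun E hE =>
      (Subgroup.card_le_of_le fun x hx => (hmem x).mpr (hE.2 x hx)).trans hi.le
    refine hexp (omega_card_ne_sq_or_eq hS hF hp3 hP hPG hrkP ?_).1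
    rw [← hi]
    exact congrArg (fun K : Subgroup P => Nat.card K)
      (Subgroup.ext fun x => ((mem_omega hp3 hPG hrkP).trans (hmem x).symm))
  · -- homocyclic
    obtain ⟨k, hk, hkmin⟩ : ∃ k, (∀ x : P, x ^ p ^ (k + 1) = 1) ∧ ∃ x : P, x ^ p ^ k ≠ 1 := by
      have hex : ∃ k, ∀ x : P, x ^ p ^ k = 1 := by
        obtain ⟨n, hn⟩ := IsPGroup.iff_card.mp hPG
        exact ⟨n, fun x => by rw [← hn, pow_card_eq_one']⟩
      classical
      obtain ⟨n, hn, hmin⟩ : ∃ n, (∀ x : P, x ^ p ^ n = 1) ∧ ∀ m < n, ¬ ∀ x : P, x ^ p ^ m = 1 :=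
        ⟨Nat.find hex, Nat.find_spec hex, fun m hm => Nat.find_min hex hm⟩
      rcases n with _ | n
      · exact absurd (fun x => by have := hn x; rw [pow_zero, pow_one] at this; rw [this, one_pow]) hexp
      · exact ⟨n, hn, by simpa using hmin n (Nat.lt_succ_self n)⟩
    set q := p ^ k with hq
    let U : Subgroup W :=
      { carrier := {w | ∃ x : P, x ^ q = w}
        one_mem' := ⟨1, one_pow q⟩
        mul_mem' := by
          rintro a b ⟨x, hx⟩ ⟨y, hy⟩
          exact ⟨x * y, by rw [(show Commute x y from hab x y).mul_pow, hx, hy, Subgroup.coe_mul]⟩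
        inv_mem' := by
          rintro a ⟨x, hx⟩
          exact ⟨x⁻¹, by rw [inv_pow, hx, InvMemClass.coe_inv]⟩ }
    have hU : U = ⊤ := by
      refine (irreducible hS hF hP hi hWexp r hker U ?_).resolve_left ?_
      · rintro a w ⟨x, hx⟩
        exact ⟨(a : MulAut P) x, by rw [← map_pow, hx]; rfl⟩
      · intro hbot
        obtain ⟨x, hx⟩ := hkmin
        have hw : x ^ q ∈ W := (hmem _).mpr (by rw [← pow_mul, hq, ← pow_succ]; exact hk x)
        have h1 : (⟨x ^ q, hw⟩ : W) ∈ U := ⟨x, rfl⟩
        rw [hbot, Subgroup.mem_bot] at h1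
        exact hx (congrArg Subtype.val h1)
    haveI : Nontrivial W := Finite.one_lt_card_iff_nontrivial.mp
      (by rw [hi]; exact Nat.one_lt_pow two_ne_zero hp.out.one_lt)
    obtain ⟨e, he⟩ := exists_ne (1 : W)
    obtain ⟨f, hf⟩ : ∃ f : W, f ∉ Subgroup.zpowers e := by
      by_contra h
      push Not at h
      have h1 : Nat.card W ≤ Nat.card (Subgroup.zpowers e) := by
        rw [show Subgroup.zpowers e = ⊤ from eq_top_iff.mpr fun x _ => h x, Subgroup.card_top]
      rw [Plane.card_zpowers_eq hi hWexp he, hi] at h1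
      nlinarith [hp.out.two_le]
    have hf1 : f ≠ 1 := fun h => hf (h ▸ one_mem _)
    obtain ⟨A, hA⟩ := (show e ∈ U from hU ▸ Subgroup.mem_top e)
    obtain ⟨B, hB⟩ := (show f ∈ U from hU ▸ Subgroup.mem_top f)
    have hord : ∀ X : P, X ^ q ≠ 1 → orderOf X = p ^ (k + 1) := fun X hX =>
      orderOf_eq_prime_pow hX (hk X)
    have hAo := hord A (by rw [hA]; exact fun h => he (Subtype.ext h))
    have hBo := hord B (by rw [hB]; exact fun h => hf1 (Subtype.ext h))
    letI : CommGroup P := { (inferInstance : Group P) with mul_comm := hab }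
    let φ : ↥(Subgroup.zpowers A) × ↥(Subgroup.zpowers B) →* P :=
      (Subgroup.zpowers A).subtype.coprod (Subgroup.zpowers B).subtype
    have hφ : ∀ a b, φ (a, b) = (a : P) * (b : P) := fun a b => rfl
    have hlow : ∀ (X : P), orderOf X = p ^ (k + 1) → ∀ a ∈ Subgroup.zpowers X, a ^ p = 1 →
        a ∈ Subgroup.zpowers (X ^ q) := by
      rintro X hX a ⟨j, rfl⟩ hj
      have h1 : ((p ^ (k + 1) : ℕ) : ℤ) ∣ j * p := by
        rw [← hX, orderOf_dvd_iff_zpow_eq_one, zpow_mul, zpow_natCast]; exact hj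
      rw [pow_succ, Nat.cast_mul] at h1
      obtain ⟨t, ht⟩ := Int.dvd_of_mul_dvd_mul_right (by exact_mod_cast hp.out.ne_zero) h1
      exact ⟨t, by simp only; rw [ht, zpow_mul, zpow_natCast]⟩
    have hinj : Function.Injective φ := by
      rw [← MonoidHom.ker_eq_bot_iff]
      by_contra hne
      haveI := (Subgroup.nontrivial_iff_ne_bot φ.ker).mpr hne
      have hpk : IsPGroup p φ.ker := by
        intro x
        refine ⟨k + 1, Subtype.ext (Prod.ext (Subtype.ext ?_) (Subtype.ext ?_))⟩
        · simpa using hk ((x : ↥(Subgroup.zpowers A) × ↥(Subgroup.zpowers B)).1 : P)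
        · simpa using hk ((x : ↥(Subgroup.zpowers A) × ↥(Subgroup.zpowers B)).2 : P)
      obtain ⟨⟨⟨a, b⟩, hab'⟩, hord'⟩ := exists_prime_orderOf_dvd_card' p (Huppert.prime_dvd_card hpk)
      have hpow : ((⟨(a, b), hab'⟩ : φ.ker)) ^ p = 1 := hord' ▸ pow_orderOf_eq_one _
      have hap : (a : P) ^ p = 1 := by
        simpa using congrArg (fun x : φ.ker => (((x : ↥(Subgroup.zpowers A) × ↥(Subgroup.zpowers B)).1) : P)) hpow
      have hbp : (b : P) ^ p = 1 := by
        simpa using congrArg (fun x : φ.ker => (((x : ↥(Subgroup.zpowers A) × ↥(Subgroup.zpowers B)).2) : P)) hpow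
      obtain ⟨s, hs⟩ := hlow A hAo _ a.2 hap
      obtain ⟨t, ht⟩ := hlow B hBo _ b.2 hbp
      have hs' : ((e : P)) ^ s = a := by rw [← hA]; exact hs
      have ht' : ((f : P)) ^ t = b := by rw [← hB]; exact ht
      have h1 : e ^ s * f ^ t = 1 := Subtype.ext (by
        rw [Subgroup.coe_mul, SubgroupClass.coe_zpow, SubgroupClass.coe_zpow, hs', ht']
        exact hab')
      have hfe : f ^ t = 1 := by
        by_contra hft
        have hmem' : f ^ t ∈ Subgroup.zpowers e := ⟨-s, by
          show e ^ (-s) = f ^ t; rw [zpow_neg, inv_eq_of_mul_eq_one_right h1]⟩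
        have hzz : Subgroup.zpowers (f ^ t) = Subgroup.zpowers f :=
          Plane.eq_zpowers_of_mem hi hWexp (Plane.card_zpowers_eq hi hWexp hf1) hft
            (zpow_mem (Subgroup.mem_zpowers f) t)
        exact hf (Subgroup.zpowers_le.mpr hmem' (hzz ▸ Subgroup.mem_zpowers f))
      have hes : e ^ s = 1 := by rw [hfe, mul_one] at h1; exact h1
      have ha1 : (a : P) = 1 := by
        rw [← hs', ← SubgroupClass.coe_zpow, hes, Subgroup.coe_one]
      have hb1 : (b : P) = 1 := by
        rw [← ht', ← SubgroupClass.coe_zpow, hfe, Subgroup.coe_one]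
      have : (⟨(a, b), hab'⟩ : φ.ker) = 1 :=
        Subtype.ext (Prod.ext (Subtype.ext ha1) (Subtype.ext hb1))
      rw [this, orderOf_one] at hord'
      exact hp.out.ne_one hord'.symm
    have hsurj : Function.Surjective φ := by
      have hgen : ∀ (n : ℕ) (x : P), x ^ p ^ n = 1 → x ∈ φ.range := by
        intro n
        induction n with
        | zero => intro x hx; rw [pow_zero, pow_one] at hx; rw [hx]; exact one_mem _
        | succ n ih =>
          intro x hx
          obtain ⟨⟨⟨_, i₁, rfl⟩, ⟨_, i₂, rfl⟩⟩, h0⟩ := ih (x ^ p) (by rw [← pow_mul, ← pow_succ']; exact hx)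
          have h1 : A ^ i₁ * B ^ i₂ = x ^ p := h0
          have h2 : e ^ i₁ * f ^ i₂ = 1 := Subtype.ext (by
            rw [Subgroup.coe_mul, SubgroupClass.coe_zpow, SubgroupClass.coe_zpow, ← hA, ← hB,
              ← zpow_natCast A, ← zpow_natCast B, ← zpow_mul, ← zpow_mul, mul_comm (q : ℤ) i₁,
              mul_comm (q : ℤ) i₂, zpow_mul, zpow_mul, ← mul_zpow, h1, zpow_natCast, ← pow_mul, hq,
              mul_comm, ← pow_succ, hk, Subgroup.coe_one])
          have hfe : f ^ i₂ = 1 := by
            by_contra hft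
            have hmem' : f ^ i₂ ∈ Subgroup.zpowers e := ⟨-i₁, by
              show e ^ (-i₁) = f ^ i₂; rw [zpow_neg, inv_eq_of_mul_eq_one_right h2]⟩
            have hzz : Subgroup.zpowers (f ^ i₂) = Subgroup.zpowers f :=
              Plane.eq_zpowers_of_mem hi hWexp (Plane.card_zpowers_eq hi hWexp hf1) hft
                (zpow_mem (Subgroup.mem_zpowers f) i₂)
            exact hf (Subgroup.zpowers_le.mpr hmem' (hzz ▸ Subgroup.mem_zpowers f))
          rw [hfe, mul_one] at h2
          have hd1 : (p : ℤ) ∣ i₁ := by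
            rw [← orderOf_eq_prime (hWexp e) he, orderOf_dvd_iff_zpow_eq_one]; exact h2
          have hd2 : (p : ℤ) ∣ i₂ := by
            rw [← orderOf_eq_prime (hWexp f) hf1, orderOf_dvd_iff_zpow_eq_one]; exact hfe
          obtain ⟨j₁, rfl⟩ := hd1
          obtain ⟨j₂, rfl⟩ := hd2
          have hy : (x * (A ^ j₁ * B ^ j₂)⁻¹) ^ p = 1 := by
            rw [mul_pow, inv_pow, mul_pow, ← zpow_natCast (A ^ j₁), ← zpow_natCast (B ^ j₂), ← zpow_mul,
              ← zpow_mul, mul_comm j₁, mul_comm j₂, h1, mul_inv_cancel]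
          obtain ⟨s, t, hst⟩ := Plane.exists_coords hi hWexp he hf (⟨_, (hmem _).mpr hy⟩ : W)
          have hst' := congrArg Subtype.val hst
          rw [Subgroup.coe_mul, SubgroupClass.coe_pow, SubgroupClass.coe_pow, ← hA, ← hB] at hst'
          have hAB : A ^ j₁ * B ^ j₂ ∈ φ.range := ⟨(⟨_, j₁, rfl⟩, ⟨_, j₂, rfl⟩), rfl⟩
          have hW' : (A ^ q) ^ s * (B ^ q) ^ t ∈ φ.range :=
            ⟨(⟨_, pow_mem (pow_mem (Subgroup.mem_zpowers A) q) s⟩,
              ⟨_, pow_mem (pow_mem (Subgroup.mem_zpowers B) q) t⟩), rfl⟩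
          rw [← inv_mul_cancel_right x (A ^ j₁ * B ^ j₂)]
          refine mul_mem ?_ hAB
          rw [show x * (A ^ j₁ * B ^ j₂)⁻¹ = (A ^ q) ^ s * (B ^ q) ^ t from hst']
          exact hW'
      exact fun x => hgen (k + 1) x (hk x)
    refine ⟨k + 1, ⟨((MulEquiv.ofBijective φ ⟨hinj, hsurj⟩).symm.trans (MulEquiv.prodCongr
      (zmodCyclicMulEquiv inferInstance).symm (zmodCyclicMulEquiv inferInstance).symm)).trans ?_⟩⟩
    rw [Nat.card_zpowers, Nat.card_zpowers, hAo, hBo]
    exact (MulEquiv.prodMultiplicative _ _).symm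

/-- An essential subgroup of order `p ^ 3`. -/
theorem card_cube (hS : IsPGroup p S) (hF : F.IsSaturated p) (hP : F.IsEssential p P)
    (hcard : Nat.card P = p ^ 3) :
    Cfsg.IsElementaryAbelian p P ∨ (Odd p ∧ Cfsg.IsExtraspecial p ↥P ∧ ∀ x ∈ P, x ^ p = 1) ∨
      (p = 2 ∧ Nonempty (↥P ≃* QuaternionGroup 2)) := by
  have hPS := hP.1.1
  haveI := finite_of_le hPS
  have hPG : IsPGroup p P := hS.to_le hPS
  by_cases hna : IsMulCommutative P
  · left
    refine ⟨hna, ?_⟩
    by_contra h
    push Not at h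
    obtain ⟨x, hx, hxp⟩ := h
    have hidx : (frattini P).index ≤ p ^ 2 := by
      obtain ⟨j, hj⟩ := hPG.index (frattini P)
      rw [hj]
      refine Nat.pow_le_pow_right hp.out.pos ?_
      by_contra hj3
      push Not at hj3
      have h1 := (frattini P).card_mul_index
      rw [hj, hcard] at h1
      have h2 : Nat.card (frattini P) = 1 := by
        have h3 : p ^ 3 ≤ p ^ j := Nat.pow_le_pow_right hp.out.pos hj3
        have h4 : Nat.card (frattini P) * p ^ j ≤ 1 * p ^ j := by rw [h1, one_mul]; exact h3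
        exact le_antisymm (Nat.le_of_mul_le_mul_right h4 (pow_pos hp.out.pos j)) Nat.card_pos
      have h3 := pow_mem_frattini hPG (⟨x, hx⟩ : P)
      rw [Subgroup.card_eq_one.mp h2, Subgroup.mem_bot] at h3
      exact hxp (congrArg Subtype.val h3)
    rcases abelian_rank_two hS hF hP (fun a b => hna.is_comm.comm a b) hidx with
      ⟨-, hc2⟩ | ⟨-, k, ⟨e⟩⟩
    · exact absurd (Nat.pow_right_injective hp.out.two_le (hcard.symm.trans hc2)) (by norm_num)
    · have h1 := Nat.card_congr e.toEquiv
      rw [hcard, Nat.card_congr Multiplicative.toAdd, Nat.card_prod, Nat.card_zmod, ← pow_add] at h1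
      have := Nat.pow_right_injective hp.out.two_le h1
      omega
  right
  obtain ⟨hZc, hq, hcomm⟩ := Plane.cube_center hcard hna
  have hVexp : ∀ v : P ⧸ Subgroup.center P, v ^ p = 1 := by
    intro v
    obtain ⟨w, rfl⟩ := QuotientGroup.mk_surjective v
    by_contra h
    have hcy : IsCyclic (P ⧸ Subgroup.center P) := by
      refine isCyclic_of_orderOf_eq_card (w : P ⧸ Subgroup.center P) ?_
      obtain ⟨j, hj2, hj⟩ := (Nat.dvd_prime_pow hp.out).mp
        (hq ▸ orderOf_dvd_natCard (w : P ⧸ Subgroup.center P))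
      rcases Nat.lt_or_ge j 2 with hlt | hge
      · exact absurd (orderOf_dvd_iff_pow_eq_one.mp (hj ▸ (pow_dvd_pow p (by omega : j ≤ 1)).trans
          (by rw [pow_one]))) h
      · rw [hj, hq, show j = 2 by omega]
    exact hna ⟨⟨fun a b => commutative_of_cyclic_center_quotient (QuotientGroup.mk' (Subgroup.center P))
      (by rw [QuotientGroup.ker_mk']) a b⟩⟩
  have hzpow : ∀ z ∈ Subgroup.center P, z ^ p = 1 := fun z hz => by
    have := pow_card_eq_one' (x := (⟨z, hz⟩ : Subgroup.center P))
    rw [hZc] at this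
    exact congrArg Subtype.val this
  obtain ⟨a, b, hab⟩ : ∃ a b : P, a * b ≠ b * a := by
    by_contra h
    push Not at h
    exact hna ⟨⟨h⟩⟩
  set z := ⁅a, b⁆ with hz
  have hz1 : z ≠ 1 := fun h => hab (commutatorElement_eq_one_iff_mul_comm.mp h)
  have hzZ : Subgroup.zpowers z = Subgroup.center P :=
    Subgroup.eq_of_le_of_card_ge (Subgroup.zpowers_le.mpr (hcomm a b))
      (by rw [hZc, Nat.card_zpowers, orderOf_eq_prime (hzpow z (hcomm a b)) hz1])
  set r := (quotAct (G := P)).comp (F.autGroup P).subtype with hr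
  have hker : IsPGroup p r.ker := by
    rintro ⟨α, hα⟩
    refine ⟨1, Subtype.ext (Subtype.ext (MulEquiv.ext fun x => ?_))⟩
    have hχ : ∀ x : P, x⁻¹ * (α : MulAut P) x ∈ Subgroup.center P := fun x =>
      QuotientGroup.eq.mp (DFunLike.congr_fun (MonoidHom.mem_ker.mp hα) (x : P ⧸ Subgroup.center P)).symm
    have hcen : ∀ c ∈ Subgroup.center P, (α : MulAut P) c = c := by
      intro c hc
      have hfixz : (α : MulAut P) z = z := by
        have h1 : (α : MulAut P) a = a * (a⁻¹ * (α : MulAut P) a) := (mul_inv_cancel_left _ _).symm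
        have h2 : (α : MulAut P) b = b * (b⁻¹ * (α : MulAut P) b) := (mul_inv_cancel_left _ _).symm
        have hca := fun g => (Subgroup.mem_center_iff.mp (hχ a) g)
        have hcb := fun g => (Subgroup.mem_center_iff.mp (hχ b) g)
        rw [hz, map_commutatorElement, h1, h2, commutatorElement_def, commutatorElement_def]
        set c₁ := a⁻¹ * (α : MulAut P) a
        set c₂ := b⁻¹ * (α : MulAut P) b
        calc a * c₁ * (b * c₂) * (a * c₁)⁻¹ * (b * c₂)⁻¹ =
              a * (c₁ * b) * c₂ * (c₁⁻¹ * a⁻¹) * (c₂⁻¹ * b⁻¹) := by group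
          _ = a * (b * c₁) * c₂ * (c₁⁻¹ * a⁻¹) * (c₂⁻¹ * b⁻¹) := by rw [hca b]
          _ = a * b * (c₁ * c₂) * c₁⁻¹ * a⁻¹ * c₂⁻¹ * b⁻¹ := by group
          _ = a * b * (c₂ * c₁) * c₁⁻¹ * a⁻¹ * c₂⁻¹ * b⁻¹ := by rw [hcb c₁]
          _ = a * b * (c₂ * a⁻¹) * c₂⁻¹ * b⁻¹ := by group
          _ = a * b * (a⁻¹ * c₂) * c₂⁻¹ * b⁻¹ := by rw [hcb a⁻¹]
          _ = a * b * a⁻¹ * b⁻¹ := by group
      obtain ⟨j, rfl⟩ := (hzZ.symm ▸ hc : c ∈ Subgroup.zpowers z)
      simp [map_zpow, hfixz]
    have hiter : ∀ n : ℕ, ((α : MulAut P) ^ n) x = x * (x⁻¹ * (α : MulAut P) x) ^ n := by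
      intro n
      induction n with
      | zero => simp
      | succ n ih =>
        rw [pow_succ', MulAut.mul_apply, ih, map_mul, map_pow, hcen _ (hχ x), pow_succ', ← mul_assoc x,
          mul_inv_cancel_left]
    simp only [pow_one, SubgroupClass.coe_pow, OneMemClass.coe_one]
    rw [hiter, hzpow _ (hχ x), mul_one, MulAut.one_apply]
  have hxpZ : ∀ x : P, x ^ p ∈ Subgroup.center P := fun x => by
    rw [← QuotientGroup.eq_one_iff, QuotientGroup.mk_pow, hVexp]
  have hirr := irreducible hS hF hP hq hVexp r hker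
  rcases hp.out.eq_two_or_odd' with rfl | hodd
  · refine Or.inr ⟨rfl, ?_⟩
    have hex : ∃ a : P, a ^ 2 ≠ 1 := by
      by_contra h
      push Not at h
      exact hna ⟨⟨fun u v => by
        have h1 := h (u * v)
        have hu : u⁻¹ = u := inv_eq_of_mul_eq_one_right (by rw [← sq, h u])
        have hv : v⁻¹ = v := inv_eq_of_mul_eq_one_right (by rw [← sq, h v])
        calc u * v = (u * v)⁻¹ := (inv_eq_of_mul_eq_one_right (by rw [← sq, h1])).symm
          _ = v * u := by rw [mul_inv_rev, hu, hv]⟩⟩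
    obtain ⟨a₀, ha₀⟩ := hex
    have ho : orderOf a₀ = 2 ^ 2 := by
      refine orderOf_eq_prime_pow (n := 1) (by rwa [pow_one]) ?_
      show a₀ ^ 2 ^ (1 + 1) = 1
      rw [pow_succ, pow_one, pow_mul]
      exact hzpow _ (hxpZ a₀)
    have hidx : (Subgroup.zpowers a₀).index = 2 := by
      have h1 := (Subgroup.zpowers a₀).card_mul_index
      rw [Nat.card_zpowers, ho, hcard] at h1
      exact Nat.eq_of_mul_eq_mul_left (by norm_num : 0 < 2 ^ 2) (h1.trans (by norm_num))
    obtain ⟨A, B, hA, hB, hcases⟩ := Cfsg.Lib.TwoGroup.MaximalClass.exists_generators (n := 3) le_rfl hcard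
      (Subgroup.zpowers a₀) inferInstance hidx hna
    norm_num at hA hcases
    have hAi : (Subgroup.zpowers A).index = 2 := by
      have h1 := (Subgroup.zpowers A).card_mul_index
      rw [Nat.card_zpowers, hA, hcard] at h1
      omega
    rcases hcases with ⟨hB2, hinv⟩ | ⟨hB2, hinv⟩
    · -- dihedral: the cyclic subgroup of order four is invariant
      exfalso
      have hout : ∀ y : P, y ∉ Subgroup.zpowers A → y ^ 2 = 1 := by
        intro y hy
        have hyB : B⁻¹ * y ∈ Subgroup.zpowers A := by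
          rw [Subgroup.mul_mem_iff_of_index_two hAi, inv_mem_iff]
          exact iff_of_false hB hy
        obtain ⟨j, hj⟩ := hyB
        have hy' : y = B * A ^ j := by rw [show A ^ j = B⁻¹ * y from hj, mul_inv_cancel_left]
        have hBinv : B⁻¹ = B := inv_eq_of_mul_eq_one_right (by rw [← sq, hB2])
        have hc : B * A ^ j * B = A ^ (-j) := by
          nth_rewrite 2 [← hBinv]
          rw [← conj_zpow, hinv, inv_zpow, zpow_neg]
        rw [sq, hy', ← mul_assoc, hc, zpow_neg, inv_mul_cancel]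
      have hline := hirr ((Subgroup.zpowers A).map (QuotientGroup.mk' (Subgroup.center P))) ?_
      · have hAout : A ∉ Subgroup.center P := fun h => by
          have h1 := orderOf_dvd_of_pow_eq_one (hzpow A h)
          rw [hA] at h1
          norm_num at h1
        rcases hline with h | h
        · rw [Subgroup.map_eq_bot_iff, QuotientGroup.ker_mk'] at h
          exact hAout (h (Subgroup.mem_zpowers A))
        · have h1 : Nat.card ((Subgroup.zpowers A).map (QuotientGroup.mk' (Subgroup.center P))) ≤ 2 := by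
            rw [MonoidHom.map_zpowers, Nat.card_zpowers]
            exact Nat.le_of_dvd two_pos (orderOf_dvd_of_pow_eq_one (hVexp _))
          rw [h, Subgroup.card_top, hq] at h1
          norm_num at h1
      · rintro α _ ⟨v, hv, rfl⟩
        refine ⟨(α : MulAut P) v, ?_, rfl⟩
        obtain ⟨j, rfl⟩ := hv
        show (α : MulAut P) (A ^ j) ∈ _
        rw [map_zpow]
        refine zpow_mem ?_ j
        by_contra hne
        have h1 := hout _ hne
        rw [← map_pow, MulEquiv.map_eq_one_iff] at h1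
        have h2 := orderOf_dvd_of_pow_eq_one h1
        rw [hA] at h2
        norm_num at h2
    · -- quaternion
      have htop : Subgroup.closure ({A, B} : Set P) = ⊤ := by
        refine eq_top_iff.mpr fun y _ => ?_
        have hAm : Subgroup.zpowers A ≤ Subgroup.closure ({A, B} : Set P) :=
          Subgroup.zpowers_le.mpr (Subgroup.subset_closure (Or.inl rfl))
        by_cases hy : y ∈ Subgroup.zpowers A
        · exact hAm hy
        · rw [← mul_inv_cancel_left B y]
          refine mul_mem (Subgroup.subset_closure (Or.inr rfl)) (hAm ?_)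
          rw [Subgroup.mul_mem_iff_of_index_two hAi, inv_mem_iff]
          exact iff_of_false hB hy
      obtain ⟨e⟩ := Cfsg.Lib.TwoGroup.equiv_quaternion (a := A) (b := B) (m := 2) (by rw [hA])
        (by rw [← sq, hB2]) hinv hB
      exact ⟨(Subgroup.topEquiv.symm.trans (MulEquiv.subgroupCongr htop.symm)).trans e⟩
  · have hp2 : p ≠ 2 := by rintro rfl; exact absurd hodd (by decide)
    have hhom : ∀ x y : P, (x * y) ^ p = x ^ p * y ^ p := fun x y => by
      obtain ⟨s, hs⟩ := hp.out.dvd_choose_self two_ne_zero (lt_of_le_of_ne hp.out.two_le (Ne.symm hp2))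
      rw [Huppert.mul_pow_of_central_comm x y (hcomm y x), hs, pow_mul, hzpow _ (hcomm y x), one_pow,
        mul_one]
    let K : Subgroup P :=
      { carrier := {x | x ^ p = 1}
        one_mem' := one_pow p
        mul_mem' := fun {x y} hx hy => by
          show (x * y) ^ p = 1
          rw [hhom, show x ^ p = 1 from hx, show y ^ p = 1 from hy, one_mul]
        inv_mem' := fun {x} hx => by
          show x⁻¹ ^ p = 1
          rw [inv_pow, show x ^ p = 1 from hx, inv_one] }
    have hexp : ∀ x : P, x ^ p = 1 := by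
      rcases hirr (K.map (QuotientGroup.mk' (Subgroup.center P))) (by
        rintro α _ ⟨v, hv, rfl⟩
        refine ⟨(α : MulAut P) v, ?_, rfl⟩
        show ((α : MulAut P) v) ^ p = 1
        rw [← map_pow, (show v ^ p = 1 from hv), map_one]) with h | h
      · exfalso
        rw [Subgroup.map_eq_bot_iff, QuotientGroup.ker_mk'] at h
        have hinj : Function.Injective
            (fun v : P ⧸ Subgroup.center P => (⟨v.out ^ p, hxpZ _⟩ : Subgroup.center P)) := by
          intro u v huv
          have h1 : u.out ^ p = v.out ^ p := congrArg Subtype.val huv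
          have h2 : u.out⁻¹ * v.out ∈ K := by
            show (u.out⁻¹ * v.out) ^ p = 1
            rw [hhom, inv_pow, h1, inv_mul_cancel]
          have := QuotientGroup.eq.mpr (h h2)
          rwa [QuotientGroup.out_eq', QuotientGroup.out_eq'] at this
        have := Nat.card_le_card_of_injective _ hinj
        rw [hq, hZc] at this
        nlinarith [hp.out.two_le]
      · intro x
        obtain ⟨v, hv, hvx⟩ := (show QuotientGroup.mk' (Subgroup.center P) x ∈
          K.map (QuotientGroup.mk' (Subgroup.center P)) from h ▸ Subgroup.mem_top _)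
        have hd : v⁻¹ * x ∈ Subgroup.center P := QuotientGroup.eq.mp hvx
        rw [← mul_inv_cancel_left v x, hhom, (show v ^ p = 1 from hv), hzpow _ hd, one_mul]
    refine Or.inl ⟨hodd, ⟨⟨hPG, ?_, ?_⟩, hZc⟩, fun x hx => congrArg Subtype.val (hexp ⟨x, hx⟩)⟩
    · rw [frattini_eq_sup hPG]
      refine le_antisymm (sup_le ?_ ((Subgroup.closure_le _).mpr ?_)) ?_
      · rw [commutator_def, Subgroup.commutator_le]
        exact fun u _ v _ => hcomm u v
      · rintro _ ⟨g, rfl⟩
        exact hxpZ g
      · rw [← hzZ, Subgroup.zpowers_le]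
        exact Subgroup.mem_sup_left (Subgroup.commutator_mem_commutator (Subgroup.mem_top a) (Subgroup.mem_top b))
    · refine le_antisymm ?_ ?_
      · rw [commutator_def, Subgroup.commutator_le]
        exact fun u _ v _ => hcomm u v
      · rw [← hzZ, Subgroup.zpowers_le]
        exact Subgroup.commutator_mem_commutator (Subgroup.mem_top a) (Subgroup.mem_top b)

end Cfsg.Lib.FusionSys.RankTwo
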