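import Cfsg.Agent.Lib.PGroup.PearlThree
import Cfsg.Agent.Lib.FusionSys.SmallEssential
import Cfsg.Agent.Lib.FusionSys.EssentialOrderFour

/-!
# Pearls in `3`-groups: the element of order three with centralizer of order nine, and the order-27 case
-/

set_option autoImplicit false

namespace Cfsg.Lib.FusionSys.PearlThree

open Subgroup Cfsg.FusionSystem
open scoped commutatorElement

universe u

section Group

variable {X : Type u} [Group X] [Finite X] [Fact (Nat.Prime 3)]

/-- A self-centralizing elementary abelian subgroup of order nine. -/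
theorem exists_of_abelian {E : Subgroup X} (hX : IsPGroup 3 X) (hc : Nat.card E = 9)
    (hcomm : ∀ a ∈ E, ∀ b ∈ E, a * b = b * a) (hexp : ∀ a ∈ E, a ^ 3 = 1)
    (hCE : centralizer (E : Set X) ≤ E) (hbig : 9 < Nat.card X) :
    ∃ x : X, x ^ 3 = 1 ∧ Nat.card (centralizer ({x} : Set X)) = 9 := by
  obtain ⟨x, hxE, hxZ⟩ : ∃ x ∈ E, x ∉ center X := by
    by_contra hall
    push Not at hall
    have h1 : centralizer (E : Set X) = ⊤ :=
      eq_top_iff.2 fun v _ => mem_centralizer_iff.2 fun a ha => (mem_center_iff.1 (hall a ha) v).symm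
    have h2 := card_le_of_le (h1 ▸ hCE)
    rw [card_top, hc] at h2
    omega
  have hx1 : x ≠ 1 := fun h => hxZ (h ▸ one_mem _)
  have hZE : center X ≤ E := (Subgroup.center_le_centralizer _).trans hCE
  have hWE : zpowers x ⊔ center X ≤ E := sup_le (zpowers_le.2 hxE) hZE
  have hlt : zpowers x < zpowers x ⊔ center X := by
    refine lt_of_le_not_ge le_sup_left fun hle => ?_
    have hne : center X ≠ ⊥ := fun h0 => by
      haveI : Nontrivial X := Finite.one_lt_card_iff_nontrivial.1 (by omega)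
      exact (nontrivial_iff_ne_bot _).1 hX.center_nontrivial h0
    obtain ⟨z, hz, hz1⟩ := (bot_or_exists_ne_one (center X)).resolve_left hne
    have hzx : zpowers z = zpowers x := by
      refine eq_of_le_of_card_ge (zpowers_le.2 ((le_sup_right.trans hle) hz)) ?_
      rw [Nat.card_zpowers, Nat.card_zpowers, orderOf_eq_prime (hexp z (hZE hz)) hz1,
        orderOf_eq_prime (hexp x hxE) hx1]
    exact hxZ (zpowers_le.1 ((zpowers_le.2 hz).trans' hzx.ge))
  have hWeq : zpowers x ⊔ center X = E := by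
    refine eq_of_le_of_card_ge hWE ?_
    obtain ⟨i, hi⟩ := IsPGroup.iff_card.1 (hX.to_subgroup (zpowers x ⊔ center X))
    have h1 := Cfsg.Lib.Fusion.card_lt_card_of_lt hlt
    rw [Nat.card_zpowers, orderOf_eq_prime (hexp x hxE) hx1, hi] at h1
    have : 1 < i := (Nat.pow_lt_pow_iff_right (a := 3) (by norm_num)).1 (show 3 ^ 1 < 3 ^ i by simpa using h1)
    rw [hc, hi, show (9 : ℕ) = 3 ^ 2 from rfl]
    exact Nat.pow_le_pow_right (by norm_num) this
  refine ⟨x, hexp x hxE, ?_⟩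
  have h1 : centralizer ({x} : Set X) = E := by
    refine le_antisymm (fun v hv => hCE (mem_centralizer_iff.2 fun a ha => ?_)) fun v hv =>
      mem_centralizer_singleton_iff.2 (hcomm _ hv _ hxE)
    have h2 : zpowers x ⊔ center X ≤ centralizer ({v} : Set X) :=
      sup_le (zpowers_le.2 (mem_centralizer_singleton_iff.2 (mem_centralizer_singleton_iff.1 hv).symm))
        fun z hz => mem_centralizer_singleton_iff.2 (mem_center_iff.1 hz v).symm
    exact mem_centralizer_singleton_iff.1 (h2 (hWeq.symm ▸ ha))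
  rw [h1, hc]

/-- A self-centralizing subgroup of order 27 and exponent three in a group of maximal class. -/
theorem exists_of_nonabelian {n : ℕ} (h : Cfsg.Lib.PGroup.MaxClass.IsMax 3 X n) (h4 : 4 ≤ n) {E : Subgroup X}
    (hc : Nat.card E = 27) (hna : ¬ IsMulCommutative E) (hexp : ∀ a ∈ E, a ^ 3 = 1)
    (hCE : centralizer (E : Set X) ≤ E) :
    ∃ x : X, x ^ 3 = 1 ∧ Nat.card (centralizer ({x} : Set X)) = 9 := by
  have hX := Cfsg.Lib.PGroup.MaxClass.isPGroup h
  set Z := Subgroup.lowerCentralSeries (⊤ : Subgroup X) (n - 2) with hZ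
  set Z₂ := Subgroup.lowerCentralSeries (⊤ : Subgroup X) (n - 3) with hZ₂
  have hZcard : Nat.card Z = 3 := by
    rw [hZ, Cfsg.Lib.PGroup.MaxClass.card_gamma h _ (by omega) (by omega), show n - 1 - (n - 2) = 1 by omega, pow_one]
  have hZ2card : Nat.card Z₂ = 9 := by
    rw [hZ₂, Cfsg.Lib.PGroup.MaxClass.card_gamma h _ (by omega) (by omega), show n - 1 - (n - 3) = 2 by omega]
    norm_num
  have hcen : ∀ z ∈ Z, ∀ v : X, v * z = z * v := by
    intro z hz v
    have h1 := Cfsg.Lib.PGroup.MaxClass.mem_gamma_succ hz v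
    rw [show n - 2 + 1 = n - 1 by omega, h.top, mem_bot, commutatorElement_eq_one_iff_mul_comm] at h1
    exact h1.symm
  have hZE : Z ≤ E := fun z hz => hCE (mem_centralizer_iff.2 fun a _ => hcen z hz a)
  obtain ⟨hcc, hcq, hcomm⟩ := Plane.cube_center (p := 3) (W := E) (by simpa using hc) hna
  have hZc : Z.subgroupOf E = center E := by
    refine eq_of_le_of_card_ge (fun z hz => mem_center_iff.2 fun a => Subtype.ext (hcen _ hz _)) ?_
    rw [hcc, Nat.card_congr (subgroupOfEquivOfLe hZE).toEquiv, hZcard]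
  obtain ⟨a, b, hab⟩ : ∃ a b : E, a * b ≠ b * a := by
    by_contra hall
    push Not at hall
    exact hna ⟨⟨hall⟩⟩
  -- `a` and `b` generate `E`
  have hgen : ∀ K : Subgroup E, a ∈ K → b ∈ K → K = ⊤ := by
    intro K haK hbK
    by_contra hne
    obtain ⟨i, hi, hiK⟩ := (Nat.dvd_prime_pow (by norm_num : Nat.Prime 3)).1
      (show Nat.card K ∣ 3 ^ 3 by simpa [hc] using K.card_subgroup_dvd_card)
    have hi2 : i ≤ 2 := by
      by_contra hi3
      refine hne (eq_top_of_card_eq K ?_)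
      rw [hiK, hc, show i = 3 by omega]
      norm_num
    have hKc : IsMulCommutative K := by
      rcases (show i = 2 ∨ i = 1 ∨ i = 0 by omega) with rfl | rfl | rfl
      · exact IsPGroup.isMulCommutative_of_card_eq_prime_sq (p := 3) hiK
      · haveI := isCyclic_of_prime_card (α := K) (p := 3) (by simpa using hiK)
        exact ⟨⟨fun u v => IsCyclic.commGroup.mul_comm u v⟩⟩
      · haveI : Subsingleton K := (Nat.card_eq_one_iff_unique.1 (by simpa using hiK)).1
        exact ⟨⟨fun u v => Subsingleton.elim _ _⟩⟩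
    exact hab (congrArg Subtype.val (hKc.is_comm.comm (⟨a, haK⟩ : K) ⟨b, hbK⟩))
  -- automorphisms trivial modulo `Z` are inner
  have hinner : ∀ c : X, (∀ v ∈ E, ⁅c, v⁆ ∈ Z) → c ∈ E := by
    intro c hcv
    have hmem : ∀ u v : E, ⁅(u : X), (v : X)⁆ ∈ Z := by
      intro u v
      have h1 : ⁅u, v⁆ ∈ Z.subgroupOf E := hZc ▸ hcomm u v
      rw [mem_subgroupOf] at h1
      simpa [commutatorElement_def] using h1
    have key : ∀ u w : X, ⁅u, (a : X)⁆ = ⁅w, (a : X)⁆ → ⁅u, (b : X)⁆ = ⁅w, (b : X)⁆ →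
        ∀ v ∈ E, v * (w⁻¹ * u) = w⁻¹ * u * v := by
      intro u w h1 h2 v hv
      have hK : (centralizer ({w⁻¹ * u} : Set X)).subgroupOf E = ⊤ := by
        refine hgen _ ?_ ?_ <;> rw [mem_subgroupOf, mem_centralizer_singleton_iff]
        · simp only [commutatorElement_def] at h1
          have h3 : u * a * u⁻¹ = w * a * w⁻¹ := mul_right_cancel h1
          calc (a : X) * (w⁻¹ * u) = w⁻¹ * (w * a * w⁻¹) * u := by group
            _ = w⁻¹ * (u * a * u⁻¹) * u := by rw [h3]
            _ = _ := by group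
        · simp only [commutatorElement_def] at h2
          have h3 : u * b * u⁻¹ = w * b * w⁻¹ := mul_right_cancel h2
          calc (b : X) * (w⁻¹ * u) = w⁻¹ * (w * b * w⁻¹) * u := by group
            _ = w⁻¹ * (u * b * u⁻¹) * u := by rw [h3]
            _ = _ := by group
      exact mem_centralizer_singleton_iff.1 (subgroupOf_eq_top.1 hK hv)
    let f : E ⧸ center E → Z × Z := fun q => Quotient.liftOn' q
      (fun u => (⟨⁅(u : X), (a : X)⁆, hmem u a⟩, ⟨⁅(u : X), (b : X)⁆, hmem u b⟩)) (by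
      intro u w huw
      rw [QuotientGroup.leftRel_apply] at huw
      have hcm : ∀ v : E, ⁅(u : X), (v : X)⁆ = ⁅(w : X), (v : X)⁆ := by
        intro v
        have h1 := congrArg Subtype.val (mem_center_iff.1 huw v)
        simp only [coe_mul, coe_inv] at h1
        rw [commutatorElement_def, commutatorElement_def]
        congr 1
        calc (u : X) * v * (u : X)⁻¹ = u * ((v : X) * ((u : X)⁻¹ * w)) * (w : X)⁻¹ := by group
          _ = u * ((u : X)⁻¹ * w * v) * (w : X)⁻¹ := by rw [h1]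
          _ = _ := by group
      exact Prod.ext (Subtype.ext (hcm a)) (Subtype.ext (hcm b)))
    have hinj : Function.Injective f := by
      intro q r
      induction q using Quotient.inductionOn' with | _ u => ?_
      induction r using Quotient.inductionOn' with | _ w => ?_
      intro huw
      have h1 : ⁅(u : X), (a : X)⁆ = ⁅(w : X), (a : X)⁆ := congrArg (fun t : Z × Z => (t.1 : X)) huw
      have h2 : ⁅(u : X), (b : X)⁆ = ⁅(w : X), (b : X)⁆ := congrArg (fun t : Z × Z => (t.2 : X)) huw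
      refine Quotient.sound' ?_
      rw [QuotientGroup.leftRel_apply, mem_center_iff]
      exact fun v => Subtype.ext (key w u h1.symm h2.symm v v.2)
    have hcard : Nat.card (E ⧸ center E) = Nat.card (Z × Z) := by rw [hcq, Nat.card_prod, hZcard]; norm_num
    obtain ⟨q, hq⟩ := ((Nat.bijective_iff_injective_and_card f).2 ⟨hinj, hcard⟩).2
      (⟨_, hcv a a.2⟩, ⟨_, hcv b b.2⟩)
    induction q using Quotient.inductionOn' with | _ u => ?_
    have h1 : ⁅(u : X), (a : X)⁆ = ⁅c, (a : X)⁆ := congrArg (fun t : Z × Z => (t.1 : X)) hq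
    have h2 : ⁅(u : X), (b : X)⁆ = ⁅c, (b : X)⁆ := congrArg (fun t : Z × Z => (t.2 : X)) hq
    have h3 := mul_mem u.2 (hCE (mem_centralizer_iff.2 (key c u h1.symm h2.symm)))
    rwa [mul_inv_cancel_left] at h3
  have hZ2Z : ∀ c ∈ Z₂, ∀ v : X, ⁅c, v⁆ ∈ Z := by
    intro c hc v
    have h1 := Cfsg.Lib.PGroup.MaxClass.mem_gamma_succ hc v
    rwa [show n - 3 + 1 = n - 2 by omega] at h1
  have hZ2E : Z₂ ≤ E := fun c hc => hinner c fun v _ => hZ2Z c hc v
  have hZZ2 : Z ≤ Z₂ := Subgroup.lowerCentralSeries_antitone _ (by omega)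
  obtain ⟨x, hxE, hxZ2⟩ := SetLike.exists_of_lt (lt_of_le_of_ne hZ2E fun he => by rw [he, hc] at hZ2card; omega)
  refine ⟨x, hexp x hxE, ?_⟩
  set C := centralizer ({x} : Set X) with hC
  have hxC : x ∈ C := mem_centralizer_singleton_iff.2 rfl
  have hCcomm : ∀ e ∈ E, ∀ c ∈ C, e * c * e⁻¹ ∈ C := by
    intro e he c hc'
    rw [hC, mem_centralizer_singleton_iff] at hc' ⊢
    have h1 : ⁅(⟨e⁻¹, inv_mem he⟩ : E), ⟨x, hxE⟩⁆ ∈ Z.subgroupOf E := hZc ▸ hcomm _ _
    rw [mem_subgroupOf] at h1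
    set z := ((⁅(⟨e⁻¹, inv_mem he⟩ : E), ⟨x, hxE⟩⁆ : E) : X) with hz
    have hex : e⁻¹ * x * e = z * x := by
      rw [hz]; simp only [commutatorElement_def, coe_mul, coe_inv, inv_inv]; group
    have hcz := hcen z h1 c
    calc e * c * e⁻¹ * x = e * (c * (e⁻¹ * x * e)) * e⁻¹ := by group
      _ = e * (c * z * x) * e⁻¹ := by rw [hex]; group
      _ = e * (z * (c * x)) * e⁻¹ := by rw [hcz]; group
      _ = e * ((z * x) * c) * e⁻¹ := by rw [hc']; group
      _ = _ := by rw [← hex]; group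
  have hnorm : E ≤ normalizer (C : Set X) := fun e he => mem_normalizer_fintype fun c hc' => hCcomm e he c hc'
  have hCE' : C ≤ E := by
    by_contra hnle
    have hlt : E < E ⊔ C := lt_of_le_not_ge le_sup_left fun hle => hnle (le_sup_right.trans hle)
    obtain ⟨y, ⟨hyH, hyN⟩, hyE⟩ := SetLike.exists_of_lt
      (Cfsg.Lib.FusionSys.lt_inf_normalizer_self (hX.to_subgroup (E ⊔ C)) hlt)
    have hyH' : y ∈ ((E ⊔ C : Subgroup X) : Set X) := hyH
    rw [Subgroup.coe_mul_of_left_le_normalizer_right E C hnorm] at hyH'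
    obtain ⟨e, he, c, hc', rfl⟩ := Set.mem_mul.1 hyH'
    refine hyE (mul_mem he (hinner c fun v hv => ?_))
    have hcN : c ∈ normalizer (E : Set X) := by
      simpa using mul_mem (inv_mem (le_normalizer he)) hyN
    have hcE : ∀ v ∈ E, ⁅c, v⁆ ∈ E := fun v hv => by
      rw [commutatorElement_def]; exact mul_mem ((mem_normalizer_iff.1 hcN v).1 hv) (inv_mem hv)
    let M : Subgroup X := E ⊓ (centralizer ({QuotientGroup.mk' Z c} : Set (X ⧸ Z))).comap (QuotientGroup.mk' Z)
    have hM : ∀ v, v ∈ M ↔ v ∈ E ∧ ⁅c, v⁆ ∈ Z := by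
      intro v
      simp only [M, mem_inf, mem_comap, mem_centralizer_singleton_iff]
      rw [← QuotientGroup.eq_one_iff ⁅c, v⁆, ← QuotientGroup.mk'_apply, map_commutatorElement,
        commutatorElement_eq_one_iff_mul_comm, eq_comm]
    have hME : M = E := by
      refine eq_of_le_of_card_ge inf_le_left ?_
      have hW : zpowers x ⊔ Z₂ ≤ M := sup_le (zpowers_le.2 ((hM x).2 ⟨hxE, by
        rw [commutatorElement_eq_one_iff_mul_comm.2 (mem_centralizer_singleton_iff.1 hc')]
        exact one_mem _⟩)) fun t ht => (hM t).2 ⟨hZ2E ht, by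
          rw [← commutatorElement_inv]; exact inv_mem (hZ2Z t ht c)⟩
      refine le_trans ?_ (card_le_of_le hW)
      obtain ⟨i, hi⟩ := IsPGroup.iff_card.1 (hX.to_subgroup (zpowers x ⊔ Z₂))
      have h1 := Cfsg.Lib.Fusion.card_lt_card_of_lt (lt_of_le_not_ge (le_sup_right : Z₂ ≤ zpowers x ⊔ Z₂)
        fun hle => hxZ2 (hle (mem_sup_left (mem_zpowers x))))
      rw [hZ2card, hi, show (9 : ℕ) = 3 ^ 2 from rfl] at h1
      have := (Nat.pow_lt_pow_iff_right (by norm_num)).1 h1
      rw [hc, hi, show (27 : ℕ) = 3 ^ 3 from rfl]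
      exact Nat.pow_le_pow_right (by norm_num) this
    exact ((hM v).1 (hME.symm ▸ hv)).2
  obtain ⟨i, hi, hiC⟩ := (Nat.dvd_prime_pow (by norm_num : Nat.Prime 3)).1
    (show Nat.card C ∣ 3 ^ 3 by simpa [hc] using card_dvd_of_le hCE')
  have hlt : Z < C := lt_of_le_not_ge (fun z hz => mem_centralizer_singleton_iff.2 (hcen z hz x).symm)
    fun hle => hxZ2 (hZZ2 (hle hxC))
  have h1 := Cfsg.Lib.Fusion.card_lt_card_of_lt hlt
  rw [hZcard, hiC] at h1
  have hi1 : 1 < i := (Nat.pow_lt_pow_iff_right (a := 3) (by norm_num)).1 (show 3 ^ 1 < 3 ^ i by simpa using h1)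
  have hi3 : i ≠ 3 := by
    rintro rfl
    have hCeq : C = E := eq_of_le_of_card_ge hCE' (by rw [hiC, hc]; norm_num)
    have : (⟨x, hxE⟩ : E) ∈ Z.subgroupOf E := hZc.symm ▸ mem_center_iff.2 fun v =>
      Subtype.ext (mem_centralizer_singleton_iff.1 (hCeq.symm ▸ v.2))
    exact hxZ2 (hZZ2 this)
  rw [hiC, show i = 2 by omega]
  norm_num

end Group

variable {Ω : Type u} [Group Ω] {S : Subgroup Ω} [Finite S] [hp : Fact (Nat.Prime 3)] {F : FusionSystem S}
  {E : Subgroup Ω}

/-- An elementary abelian essential subgroup of order nine in a group of order 27. -/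
theorem extraspecial_of_card_27 (hS : IsPGroup 3 S) (hF : F.IsSaturated 3) (hE : F.IsEssential 3 E)
    (hc : Nat.card E = 9) (hexp : ∀ v : E, v ^ 3 = 1) (hcS : Nat.card S = 27) :
    Cfsg.IsExtraspecial 3 ↥S ∧ Monoid.exponent ↥S = 3 := by
  have hES : E ≤ S := hE.1.1
  haveI := finite_of_le hES
  obtain ⟨-, -, e, f, g, d, ψ, he, hf, hgE, hge, hgf, -, hde, hdf, -, hψP, hψg, -, -⟩ :=
    RankTwo.frame hS hF (by norm_num) hE hES (V := E) (by simpa using hc) hexp (F.autGroup E).subtype (by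
      rw [Subgroup.ker_subtype]
      exact IsPGroup.of_bot)
  have hNS : normalizerIn S E = S := by
    refine eq_of_le_of_card_ge (normalizerIn_le E) ?_
    haveI := finite_of_le (normalizerIn_le (S := S) E)
    obtain ⟨i, hi, hiN⟩ := (Nat.dvd_prime_pow (by norm_num : Nat.Prime 3)).1
      (show Nat.card (normalizerIn S E) ∣ 3 ^ 3 by simpa [hcS] using card_dvd_of_le (normalizerIn_le (S := S) E))
    have h1 : Nat.card E < Nat.card (normalizerIn S E) :=
      lt_of_le_of_ne (card_le_of_le (le_normalizerIn hES)) fun h0 =>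
        hgE ((eq_of_le_of_card_ge (le_normalizerIn hES) h0.ge).ge g.2)
    rw [hc, hiN, show (9 : ℕ) = 3 ^ 2 from rfl] at h1
    have := (Nat.pow_lt_pow_iff_right (by norm_num)).1 h1
    rw [hcS, hiN, show (27 : ℕ) = 3 ^ 3 from rfl]
    exact Nat.pow_le_pow_right (by norm_num) this
  have hcoords : ∀ v : E, ∃ i j : ℕ, v = e ^ i * f ^ j :=
    Plane.exists_coords (p := 3) (by simpa using hc) hexp he hf
  have hcomm : ∀ u v : E, u * v = v * u := Plane.comm (p := 3) (by simpa using hc)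
  have hd : ∀ v : E, (d : MulAut E) v = v ^ 2 := by
    intro v
    obtain ⟨i, j, rfl⟩ := hcoords v
    have h1 : (d : MulAut E) e = e ^ 2 := hde
    have h2 : (d : MulAut E) f = f ^ 2 := hdf
    rw [map_mul, map_pow, map_pow, h1, h2, (show Commute (e ^ i) (f ^ j) from hcomm _ _).mul_pow, ← pow_mul,
      ← pow_mul, ← pow_mul, ← pow_mul, mul_comm 2 i, mul_comm 2 j]
  set G : Ω := (g : Ω) with hG
  have hge' : G * e * G⁻¹ = (e : Ω) := congrArg Subtype.val hge
  have hgf' : G * f * G⁻¹ = ((e : Ω) * f) := congrArg Subtype.val hgf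
  have hGS : G ∈ S := (normalizerIn_le E) g.2
  -- `E` has index three
  have hmk : ∀ v ∈ S, ∃ i : ℕ, i < 3 ∧ ∃ y : E, v = G ^ i * y := by
    intro v hv
    set E' := E.subgroupOf S with hE'
    haveI : E'.Normal := ⟨fun a ha s => by
      rw [hE', mem_subgroupOf] at ha ⊢
      exact (mem_normalizer_iff.1 (hNS.symm.le s.2).2 _).1 ha⟩
    have hq : Nat.card (S ⧸ E') = 3 := by
      have h1 := E'.card_eq_card_quotient_mul_card_subgroup
      rw [hcS, Nat.card_congr (subgroupOfEquivOfLe hES).toEquiv, hc] at h1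
      omega
    have hg1 : ((⟨G, hGS⟩ : S) : S ⧸ E') ≠ 1 := by
      rw [Ne, QuotientGroup.eq_one_iff, hE', mem_subgroupOf]; exact hgE
    obtain ⟨i, hi⟩ := mem_powers_iff_mem_zpowers.2
      (mem_zpowers_of_prime_card hq hg1 (g' := ((⟨v, hv⟩ : S) : S ⧸ E')))
    refine ⟨i % 3, Nat.mod_lt _ (by norm_num), ⟨(G ^ (i % 3))⁻¹ * v, ?_⟩, by simp⟩
    have hi' : ((⟨G, hGS⟩ : S) : S ⧸ E') ^ (i % 3) = ((⟨v, hv⟩ : S) : S ⧸ E') := by
      rw [← hi, ← hq, pow_mod_natCard]
    rw [← QuotientGroup.mk_pow, QuotientGroup.eq, hE', mem_subgroupOf] at hi'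
    simpa using hi'
  have hG3E : G ^ 3 ∈ E := by
    obtain ⟨i, hi3, y, hy⟩ := hmk (G ^ 3) (pow_mem hGS 3)
    rcases (show i = 0 ∨ i = 1 ∨ i = 2 by omega) with rfl | rfl | rfl
    · rw [hy]; simp
    · have h1 : G ^ 2 ∈ E := by
        have h2 : G ^ 2 = (y : Ω) :=
          mul_left_cancel (a := G) (show G * G ^ 2 = G * y by rw [← pow_succ', hy, pow_one])
        rw [h2]; exact y.2
      exfalso
      refine hgE ?_
      obtain ⟨k, hk⟩ := hS ⟨G, hGS⟩
      exact Plane.mem_of_pow_mem (p := 3) (k := k) (m := 2) (congrArg Subtype.val hk) (by norm_num) h1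
    · exfalso
      refine hgE ?_
      have h2 : G = (y : Ω) := mul_left_cancel (a := G ^ 2) (by rw [← hy, ← pow_succ])
      rw [hG] at h2 ⊢; rw [h2]; exact y.2
  -- the norm
  have hnorm : ∀ y : E, (G * y * G⁻¹) * (G * (G * y * G⁻¹) * G⁻¹) * y = 1 := by
    intro y
    obtain ⟨i, j, rfl⟩ := hcoords y
    have hG1 : G * ((e ^ i * f ^ j : E) : Ω) * G⁻¹ = ((e ^ (i + j) * f ^ j : E) : Ω) := by
      rw [show e ^ (i + j) * f ^ j = e ^ i * (e * f) ^ j by
        rw [(show Commute e f from hcomm _ _).mul_pow, ← mul_assoc, ← pow_add]]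
      simp only [coe_mul, SubgroupClass.coe_pow]
      rw [show G * ((e : Ω) ^ i * (f : Ω) ^ j) * G⁻¹ = (G * (e : Ω) ^ i * G⁻¹) * (G * (f : Ω) ^ j * G⁻¹) by group,
        ← conj_pow, ← conj_pow, hge', hgf']
    have hG2 : G * ((e ^ (i + j) * f ^ j : E) : Ω) * G⁻¹ = ((e ^ (i + j + j) * f ^ j : E) : Ω) := by
      rw [show e ^ (i + j + j) * f ^ j = e ^ (i + j) * (e * f) ^ j by
        rw [(show Commute e f from hcomm _ _).mul_pow, ← mul_assoc, ← pow_add]]
      simp only [coe_mul, SubgroupClass.coe_pow]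
      rw [show G * ((e : Ω) ^ (i + j) * (f : Ω) ^ j) * G⁻¹ =
          (G * (e : Ω) ^ (i + j) * G⁻¹) * (G * (f : Ω) ^ j * G⁻¹) by group,
        ← conj_pow, ← conj_pow, hge', hgf']
    rw [hG1, hG2, ← coe_mul, ← coe_mul, OneMemClass.coe_eq_one]
    have hC : ∀ u v : E, Commute u v := hcomm
    calc e ^ (i + j) * f ^ j * (e ^ (i + j + j) * f ^ j) * (e ^ i * f ^ j)
        = e ^ (i + j) * e ^ (i + j + j) * e ^ i * (f ^ j * f ^ j * f ^ j) := by
          haveI : Std.Commutative (HMul.hMul : E → E → E) := ⟨hcomm⟩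
          ac_rfl
      _ = (e ^ (i + j)) ^ 3 * (f ^ j) ^ 3 := by
          rw [← pow_add, ← pow_add, ← pow_mul]; simp only [pow_succ, pow_zero, one_mul]; congr 1; ring_nf
      _ = 1 := by rw [hexp, hexp, one_mul]
  have hcube : ∀ y : E, (G * y) ^ 3 = G ^ 3 := by
    intro y
    have hc3 : G ^ 3 * (y : Ω) = y * G ^ 3 := congrArg Subtype.val (hcomm ⟨G ^ 3, hG3E⟩ y)
    calc (G * y) ^ 3 = (G * y * G⁻¹) * (G * (G * y * G⁻¹) * G⁻¹) * (G ^ 3 * y * (G ^ 3)⁻¹) * G ^ 3 := by
          simp only [pow_succ, pow_zero, one_mul]; group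
      _ = _ := by rw [hc3, mul_inv_cancel_right, hnorm, one_mul]
  -- `−1` extends to `S`
  have hG3 : G ^ 3 = 1 := by
    have hmem : G ^ 3 ∈ normalizerIn S E := hNS.symm ▸ pow_mem hGS 3
    have h1 := hψP ⟨G ^ 3, hG3E⟩ hmem
    rw [hd, show (⟨G ^ 3, hmem⟩ : ↥(normalizerIn S E)) = g ^ 3 from Subtype.ext rfl, map_pow] at h1
    simp only [SubgroupClass.coe_pow] at h1
    have hy : (G ^ 4)⁻¹ * (ψ g : Ω) ∈ E := hψg
    have h2 : (ψ g : Ω) = G * ((⟨G ^ 3, hG3E⟩ * ⟨_, hy⟩ : E) : Ω) := by simp only [coe_mul]; group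
    rw [h2, hcube] at h1
    have h3 : G ^ 3 * 1 = G ^ 3 * G ^ 3 := by rw [mul_one, ← pow_two]; exact h1
    exact (mul_left_cancel h3).symm
  have hexpS : ∀ v : S, v ^ 3 = 1 := by
    rintro ⟨v, hv⟩
    refine Subtype.ext ?_
    simp only [SubgroupClass.coe_pow, OneMemClass.coe_one]
    obtain ⟨i, hi3, y, rfl⟩ := hmk v hv
    rcases (show i = 0 ∨ i = 1 ∨ i = 2 by omega) with rfl | rfl | rfl
    · rw [pow_zero, one_mul]; exact_mod_cast hexp y
    · rw [pow_one, hcube, hG3]
    · have hz : G⁻¹ * (y : Ω)⁻¹ * G ∈ E := by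
        simpa [mul_assoc] using (mem_normalizer_iff.1 (inv_mem g.2.2) _).1 (inv_mem y.2)
      have h1 : (G ^ 2 * y)⁻¹ = G * ((⟨_, hz⟩ : E) : Ω) := by
        have hG2 : (G ^ 2)⁻¹ = G := by rw [inv_eq_iff_mul_eq_one, ← pow_succ, hG3]
        rw [mul_inv_rev, hG2]; group
      have h2 := hcube ⟨_, hz⟩
      rw [← h1, inv_pow, hG3, inv_eq_one] at h2
      exact h2
  have hna : ¬ IsMulCommutative S := by
    intro hcm
    have h1 := congrArg Subtype.val (hcm.is_comm.comm (⟨G, hGS⟩ : S) ⟨f, hES f.2⟩)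
    simp only [coe_mul] at h1
    have h2 : (f : Ω) = (e : Ω) * f := by rw [← hgf', h1, mul_inv_cancel_right]
    exact he (Subtype.ext (mul_eq_right.1 h2.symm))
  refine ⟨OrderFour.isExtraspecial_cube (p := 3) (by simpa using hcS) hna hexpS, ?_⟩
  haveI : Nontrivial S := Finite.one_lt_card_iff_nontrivial.1 (by omega)
  exact Monoid.exponent_eq_prime_iff (by norm_num) |>.2 fun v hv => orderOf_eq_prime (hexpS v) hv

end Cfsg.Lib.FusionSys.PearlThree
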