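import Cfsg.Agent.Lib.FusionSys.CenterFactor
import Cfsg.Agent.Lib.FusionSys.Factor
import Cfsg.Agent.Lib.FusionSys.Tate

/-!
Grün's lemma for fusion systems: a perfect system has trivial second centre.
-/

set_option autoImplicit false

universe u v

namespace Cfsg.Lib.FusionSys

open Cfsg Cfsg.FusionSystem

variable {Ω : Type u} [Group Ω] {S : Subgroup Ω} {p : ℕ} [Fact p.Prime]
variable {Ω' : Type v} [Group Ω'] {S' : Subgroup Ω'} {θ : S →* Ω'}

/-- A central element of `S` moved only inside the centre, with a map fixing it above every map, is central. -/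
theorem mem_center_of_extensions [Finite S] (hS : IsPGroup p S) {F : FusionSystem S} (hF : F.IsSaturated p) {z : Ω}
    (hzS : z ∈ S) (hzc : ∀ g ∈ S, g * z = z * g)
    (hmove : ∀ (R : Subgroup Ω) (φ : R →* Ω), φ ∈ F.Hom R → ∀ hx : z ∈ R, z⁻¹ * φ ⟨z, hx⟩ ∈ F.center) :
    z ∈ F.center := by
  let E : FusionSystem S :=
    { Hom := fun R => {φ | φ ∈ F.Hom R ∧ ∃ ψ ∈ F.Hom (R ⊔ Subgroup.zpowers z),
        (∀ x : R, ψ (Subgroup.inclusion le_sup_left x) = φ x) ∧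
        ψ ⟨z, Subgroup.mem_sup_right (Subgroup.mem_zpowers z)⟩ = z}
      le_of_mem := fun h => F.le_of_mem h.1
      injective_of_mem := fun h => F.injective_of_mem h.1
      conj_mem := fun {R g} hR hg => ⟨F.conj_mem hR hg, conjHom _ g,
        F.conj_mem (sup_le hR (Subgroup.zpowers_le.2 hzS)) hg, fun _ => rfl,
        conj_eq_of_commute (hzc g hg)⟩
      comp_mem := by
        rintro R Q φ φ₂ ⟨hφ, ψ, hψ, hψe, hψz⟩ ⟨hφ₂, ψ₂, hψ₂, hψ₂e, hψ₂z⟩ h
        have hv : ∀ y, ψ y ∈ Q ⊔ Subgroup.zpowers z := by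
          have hle : R ⊔ Subgroup.zpowers z ≤
              ((Q ⊔ Subgroup.zpowers z).comap ψ).map (R ⊔ Subgroup.zpowers z).subtype := by
            refine sup_le (fun r hr => ⟨⟨r, Subgroup.mem_sup_left hr⟩, Subgroup.mem_comap.2 ?_, rfl⟩)
              (Subgroup.zpowers_le.2 ⟨⟨z, Subgroup.mem_sup_right (Subgroup.mem_zpowers z)⟩,
                Subgroup.mem_comap.2 ?_, rfl⟩)
            · rw [show ψ ⟨r, Subgroup.mem_sup_left hr⟩ = φ ⟨r, hr⟩ from hψe ⟨r, hr⟩]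
              exact Subgroup.mem_sup_left (h _)
            · rw [hψz]; exact Subgroup.mem_sup_right (Subgroup.mem_zpowers z)
          intro y
          obtain ⟨y', hy', he⟩ := hle y.2
          obtain rfl : y' = y := Subtype.ext he
          exact hy'
        refine ⟨F.comp_mem hφ hφ₂ h, _, F.comp_mem hψ hψ₂ hv, fun x => ?_, ?_⟩
        · show ψ₂ ⟨ψ _, _⟩ = φ₂ ⟨φ x, _⟩
          rw [← hψ₂e]
          exact congrArg ψ₂ (Subtype.ext (hψe x))
        · show ψ₂ ⟨ψ _, _⟩ = z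
          refine (congrArg ψ₂ (Subtype.ext hψz)).trans hψ₂z
      inv_mem := by
        rintro R φ ⟨hφ, ψ, hψ, hψe, hψz⟩
        obtain ⟨χ, hχ, hχe⟩ := F.inv_mem hψ
        have hle : φ.range ≤ ψ.range := by rintro _ ⟨x, rfl⟩; exact ⟨_, hψe x⟩
        have hle' : φ.range ⊔ Subgroup.zpowers z ≤ ψ.range :=
          sup_le hle (Subgroup.zpowers_le.2 ⟨_, hψz⟩)
        have hval : ∀ x : R, (χ.comp (Subgroup.inclusion hle)) ⟨φ x, x, rfl⟩ = (x : Ω) := fun x => by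
          refine (congrArg χ ?_).trans (hχe (Subgroup.inclusion le_sup_left x))
          exact Subtype.ext (hψe x).symm
        refine ⟨χ.comp (Subgroup.inclusion hle), ⟨restrict_mem hχ hle, χ.comp (Subgroup.inclusion hle'),
          restrict_mem hχ hle', fun _ => rfl, ?_⟩, hval⟩
        exact (congrArg χ (Subtype.ext hψz.symm)).trans (hχe ⟨z, _⟩) }
  have hFE : F ≤ E := by
    refine le_of_autGroup_le hS hF E fun P hP α hα => ?_
    have hPn : F.IsFullyNormalized P := by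
      rcases hP with rfl | hP
      exacts [isFullyNormalized_top F, hP.2.1]
    have hPS := hPn.1
    haveI := finite_of_le hPS
    haveI : Finite (MulAut P) := Finite.of_injective (fun f => (f : P → P)) DFunLike.coe_injective
    have hzP : z ∈ P := by
      rcases hP with rfl | hP
      · exact hzS
      · exact hP.1.2 P (isConj_refl F hPS) (mem_centralizerIn.2 ⟨hzS, fun y hy => (hzc y (hPS hy)).symm⟩)
    set zP : P := ⟨z, hzP⟩
    have hc : ∀ a : F.autGroup P, z⁻¹ * ((a : MulAut P) zP : P) ∈ F.center := fun a =>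
      hmove P _ ((mem_autGroup hPS).1 a.2) hzP
    have hfix : ∀ (a : F.autGroup P) (w : P), (w : Ω) ∈ F.center → (((a : MulAut P) w : P) : Ω) = w := fun a w hw =>
      center_fixed F hw ((mem_autGroup hPS).1 a.2) rfl
    let c : F.autGroup P →* P :=
      MonoidHom.mk' (fun a => zP⁻¹ * (a : MulAut P) zP) fun a b => by
        have hb : (a : MulAut P) (zP⁻¹ * (b : MulAut P) zP) = zP⁻¹ * (b : MulAut P) zP :=
          Subtype.ext (hfix a _ (hc b))
        show zP⁻¹ * (a : MulAut P) ((b : MulAut P) zP) = _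
        conv_lhs => rw [← mul_inv_cancel_left zP ((b : MulAut P) zP)]
        rw [map_mul, hb, mul_assoc]
    obtain ⟨-, -, R, hR⟩ := isFullyAutomized_and_fc_of_fn hS hF hPn
    have hRk : (R : Subgroup (F.autGroup P)) ≤ c.ker := by
      intro a ha
      rw [hR, Subgroup.mem_subgroupOf, mem_autInducedBy] at ha
      obtain ⟨g, hg, he⟩ := ha
      refine Subtype.ext ?_
      show z⁻¹ * (((a : MulAut P) zP : P) : Ω) = 1
      rw [he, conj_eq_of_commute (hzc g hg)]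
      exact inv_mul_cancel z
    have hidx : c.ker.index = 1 := by
      rw [Subgroup.index_ker]
      obtain ⟨n, hn⟩ := IsPGroup.iff_card.1 ((hS.to_le hPS).to_subgroup c.range)
      rcases Nat.eq_zero_or_pos n with h | h
      · rw [hn, h, pow_zero]
      · exfalso
        refine R.not_dvd_index ((dvd_pow_self p h.ne').trans ?_)
        rw [← hn, ← Subgroup.index_ker]
        exact Subgroup.index_dvd_of_le hRk
    have hα1 : (⟨α, hα⟩ : F.autGroup P) ∈ c.ker := by rw [Subgroup.index_eq_one.1 hidx]; trivial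
    refine (mem_autGroup hPS).2 ⟨(mem_autGroup hPS).1 hα, _,
      restrict_mem ((mem_autGroup hPS).1 hα) (sup_le le_rfl (Subgroup.zpowers_le.2 hzP)), fun x => rfl, ?_⟩
    exact (inv_mul_eq_one.1 (congrArg Subtype.val hα1 : z⁻¹ * ((α zP : P) : Ω) = 1)).symm
  refine (mem_center_iff' hS hF).2 ⟨hzS, fun R φ hφ hx => ?_⟩
  obtain ⟨-, ψ, -, hψe, hψz⟩ := hFE R hφ
  rw [← hψe ⟨z, hx⟩]
  exact (congrArg ψ (Subtype.ext rfl)).trans hψz

theorem center_factor_eq_bot [Finite S] (hS : IsPGroup p S) {F : FusionSystem S} (hF : F.IsSaturated p)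
    (hperf : F.hyperfocalSubgroup p = S) {E : FusionSystem S'} (hE : F.IsFactorSystem F.center θ E) :
    E.center = ⊥ := by
  obtain ⟨hTS, hker, hrange, hiff⟩ := id hE
  haveI : Finite S' := by
    rw [← hrange]
    exact Finite.of_surjective θ.rangeRestrict θ.rangeRestrict_surjective
  have hT : F.StronglyClosed F.center := ⟨hTS, fun R hR φ hφ x => by
    rw [center_fixed F (hR x.2) hφ rfl]; exact hR x.2⟩
  obtain ⟨⟨-, hmor⟩, -, -⟩ := isSurjectiveMorphism_of_isFactorSystem hS hF hT hE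
  rw [eq_bot_iff]
  intro w hw
  rw [Subgroup.mem_bot]
  obtain ⟨⟨z, hzS⟩, rfl⟩ := hrange.ge ((isCentral_center E).1 hw)
  refine (hker _).2 ?_
  have hext : ∀ (P : Subgroup Ω) (φ : P →* Ω) (hφ : φ ∈ F.Hom P), ∃ (U : Subgroup Ω) (ψ : U →* Ω)
      (hψ : ψ ∈ F.Hom U) (hPU : P ≤ U) (hzU : z ∈ U),
      (∀ x : P, (φ x)⁻¹ * ψ ⟨x, hPU x.2⟩ ∈ F.center) ∧ z⁻¹ * ψ ⟨z, hzU⟩ ∈ F.center := by
    intro P φ hφ
    have hP := hom_le hφ
    set P' := imageAlong θ P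
    obtain ⟨φ', hφ', hind⟩ : ∃ φ' ∈ E.Hom P', InducedAlong θ φ φ' := hmor P _ hφ
    obtain ⟨χ, hχ, hχe, hχc⟩ := (isCentral_center E).2 P' φ' hφ'
    set U := preimageAlong θ (P' ⊔ E.center)
    obtain ⟨-, ψ, hψ, hψi⟩ : P' ⊔ E.center ≤ S' ∧ ∃ ψ ∈ F.Hom U, InducedAlong θ ψ χ := (hiff _ _).1 hχ
    have hPU : P ≤ U := fun x hx => mem_preimageAlong.2
      ⟨hP hx, Subgroup.mem_sup_left (mem_imageAlong.2 ⟨x, hP hx, hx, rfl⟩)⟩
    have hzU : z ∈ U := mem_preimageAlong.2 ⟨hzS, Subgroup.mem_sup_right hw⟩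
    have heq : ∀ (a b : Ω) (ha : a ∈ S) (hb : b ∈ S), θ ⟨a, ha⟩ = θ ⟨b, hb⟩ → a⁻¹ * b ∈ F.center :=
      fun a b ha hb h => (hker (⟨a, ha⟩⁻¹ * ⟨b, hb⟩)).1 (by rw [map_mul, map_inv, h, inv_mul_cancel])
    refine ⟨U, ψ, hψ, hPU, hzU, fun x => heq _ _ (hom_mem hφ x) (hom_mem hψ _) ?_, heq _ _ hzS (hom_mem hψ _) ?_⟩
    · have h1 := inducedAlong_apply (x := x) hind (hxS := hP x.2) (hx' := hom_mem hφ x)
        (y := ⟨θ ⟨x, hP x.2⟩, mem_imageAlong.2 ⟨x, hP x.2, x.2, rfl⟩⟩) rfl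
      rw [← h1, ← hχe]
      exact inducedAlong_apply (x := (⟨x, hPU x.2⟩ : U)) hψi rfl
    · exact (hχc ⟨θ ⟨z, hzS⟩, hw⟩).symm.trans (inducedAlong_apply (x := (⟨z, hzU⟩ : U)) hψi rfl)
  have hcen : ∀ a ∈ F.center, ∀ g ∈ S, g * a = a * g := fun a ha g hg => commute_of_mem_center F ha hg
  have hzx : ∀ g ∈ S, z * g * z⁻¹ * g⁻¹ ∈ F.center := by
    intro g hg
    obtain ⟨U, ψ, hψ, -, hzU, -, hz⟩ := hext S _ (F.conj_mem le_rfl hg)
    refine (hker ⟨_, S.mul_mem (S.mul_mem (S.mul_mem hzS hg) (S.inv_mem hzS)) (S.inv_mem hg)⟩).1 ?_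
    have h2 : θ ⟨g, hg⟩ * θ ⟨z, hzS⟩ = θ ⟨z, hzS⟩ * θ ⟨g, hg⟩ :=
      commute_of_mem_center E hw (hrange.le ⟨_, rfl⟩)
    show θ (⟨z, hzS⟩ * ⟨g, hg⟩ * (⟨z, hzS⟩ : S)⁻¹ * (⟨g, hg⟩ : S)⁻¹) = 1
    rw [map_mul, map_mul, map_mul, map_inv, map_inv, ← h2, mul_inv_cancel_right, mul_inv_cancel]
  have hle : F.hyperfocalSubgroup p ≤ Subgroup.centralizer {z} := by
    refine hyperfocal_le_of_coprime fun P hP α hα _ x => Subgroup.mem_centralizer_singleton_iff.2 ?_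
    obtain ⟨U, ψ, hψ, hPU, hzU, hx, hz⟩ := hext P _ ((mem_autGroup hP).1 hα)
    set y : Ω := ((α x : P) : Ω)
    set c := z * (x : Ω) * z⁻¹ * (x : Ω)⁻¹ with hc
    have hcC : c ∈ F.center := hzx _ (hP x.2)
    have hyS : y ∈ S := hP (α x).2
    set x' : U := ⟨x, hPU x.2⟩
    set z' : U := ⟨z, hzU⟩
    have hfixc : ψ (z' * x' * z'⁻¹ * x'⁻¹) = c := center_fixed F hcC hψ rfl
    rw [map_mul, map_mul, map_mul, map_inv, map_inv] at hfixc
    have e1 : ψ z' = z * (z⁻¹ * ψ z') := (mul_inv_cancel_left _ _).symm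
    have e2 : ψ x' = y * (y⁻¹ * ψ x') := (mul_inv_cancel_left _ _).symm
    set a := z⁻¹ * ψ z'
    set b := y⁻¹ * ψ x'
    have ha : a ∈ F.center := hz
    have hb : b ∈ F.center := hx x
    rw [e1, e2] at hfixc
    have hky : z * y * z⁻¹ * y⁻¹ = c := by
      rw [← hfixc]
      have hab : y * b * a⁻¹ = a⁻¹ * (y * b) :=
        by rw [mul_assoc, hcen _ (inv_mem ha) b (hTS hb), ← mul_assoc, hcen _ (inv_mem ha) y hyS, mul_assoc]
      have hbz : b * z⁻¹ = z⁻¹ * b := (hcen b hb z⁻¹ (S.inv_mem hzS)).symm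
      calc z * y * z⁻¹ * y⁻¹ = z * y * (b * z⁻¹ * b⁻¹) * y⁻¹ := by rw [hbz]; group
        _ = z * (y * b * z⁻¹) * b⁻¹ * y⁻¹ := by group
        _ = z * (a * (a⁻¹ * (y * b))) * z⁻¹ * b⁻¹ * y⁻¹ := by group
        _ = z * (a * ((y * b) * a⁻¹)) * z⁻¹ * b⁻¹ * y⁻¹ := by rw [hab]
        _ = z * a * (y * b) * (z * a)⁻¹ * (y * b)⁻¹ := by group
    have hky' : z * y * z⁻¹ = c * y := by rw [← hky]; group
    have hkx : z * (x : Ω) * z⁻¹ = c * x := by rw [hc]; group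
    have h4 : z * ((x : Ω)⁻¹ * y) * z⁻¹ = (x : Ω)⁻¹ * y := by
      calc z * ((x : Ω)⁻¹ * y) * z⁻¹ = (z * (x : Ω) * z⁻¹)⁻¹ * (z * y * z⁻¹) := by group
        _ = (x : Ω)⁻¹ * y := by rw [hkx, hky']; group
    exact (commute_of_conj_eq h4).symm
  refine mem_center_of_extensions hS hF hzS
    (fun g hg => Subgroup.mem_centralizer_singleton_iff.1 (hle (hperf.ge hg))) fun R φ hφ hx => ?_
  obtain ⟨U, ψ, hψ, hRU, hzU, h1, h2⟩ := hext R φ hφ
  have h3 := h1 ⟨z, hx⟩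
  have := F.center.mul_mem h2 (F.center.inv_mem h3)
  rwa [show z⁻¹ * ψ ⟨z, hzU⟩ * ((φ ⟨z, hx⟩)⁻¹ * ψ ⟨z, hRU hx⟩)⁻¹ = z⁻¹ * φ ⟨z, hx⟩ by group] at this

end Cfsg.Lib.FusionSys
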