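import Cfsg.Agent.Lib.FusionSys.Hyperfocal
import Cfsg.Agent.Lib.FusionSys.Alperin
import Cfsg.Agent.Lib.FusionSys.NormalSubgroup

/-!
The `p`-residual subsystem of the fusion system of a finite group.
-/

set_option autoImplicit false

namespace Cfsg.Lib.FusionSys

open Cfsg Cfsg.FusionSystem

/-- A subgroup containing a Sylow subgroup and all elements of order prime to `p` of `A`. -/
theorem le_of_sylow_of_coprime {X : Type*} [Group X] {A M : Subgroup X} [Finite A] {p : ℕ}
    [Fact p.Prime] (R : Sylow p A) (hR : (R : Subgroup A).map A.subtype ≤ M)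
    (h : ∀ a ∈ A, (orderOf a).Coprime p → a ∈ M) : A ≤ M := by
  intro a ha
  have h1 : pResidual p A ≤ M.comap A.subtype := by
    refine (Subgroup.closure_le _).2 fun b hb => h b b.2 ?_
    rw [Subgroup.orderOf_coe]
    exact hb
  have h2 : (⊤ : Subgroup A) ≤ M.comap A.subtype := by
    rw [← Cfsg.Lib.Fusion.sylow_sup_pResidual R]
    exact sup_le (Subgroup.map_le_iff_le_comap.1 hR) h1
  exact h2 (Subgroup.mem_top (⟨a, ha⟩ : A))

variable {G : Type*} [Group G] [Finite G] {p : ℕ} [Fact p.Prime]

/-- An automorphism of order prime to `p` induced by the group is induced by `O^p(G)`. -/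
theorem mem_autInducedBy_pResidual {P : Subgroup G} {α : MulAut P} (hα : α ∈ autInducedBy ⊤ P)
    (hc : (orderOf α).Coprime p) : α ∈ autInducedBy (pResidual p G) P := by
  obtain ⟨n, -, hn⟩ := mem_autInducedBy.1 hα
  obtain ⟨k, hk⟩ := Cfsg.Lib.Fusion.exists_pow_mem_pResidual (p := p) n
  obtain ⟨j, hj⟩ := exists_pow_eq_self_of_coprime (n := p ^ k) (x := α) (hc.symm.pow_left k)
  refine mem_autInducedBy.2 ⟨n ^ (p ^ k * j), ?_, fun x => ?_⟩
  · rw [pow_mul]
    exact Subgroup.pow_mem _ hk j
  · rw [← aut_pow_apply hn, pow_mul, hj]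

/-- A saturated subsystem of `p`-power index over the intersection with `O^p(G)` is the system of
`O^p(G)`. -/
theorem hom_eq_pResidual (S : Sylow p G) {T : Subgroup G} (hT : T = (S : Subgroup G) ⊓ pResidual p G)
    (E : FusionSystem T) (hE : E.IsSaturated p) (hsub : E.IsSubsystemOf (groupFusionSystem (S : Subgroup G)))
    (hidx : ∀ P : Subgroup G, P ≤ T →
      (pResidual p ((groupFusionSystem (S : Subgroup G)).autGroup P)).map
        ((groupFusionSystem (S : Subgroup G)).autGroup P).subtype ≤ E.autGroup P)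
    (h : (S : Subgroup G) ⊓ pResidual p G ≤ pResidual p G) (Q : Subgroup G) :
    E.Hom Q = (fusionSystemOfSubgroup (pResidual p G) ((S : Subgroup G) ⊓ pResidual p G) h).Hom Q := by
  subst hT
  let D := fusionSystemOfSubgroup (pResidual p G) ((S : Subgroup G) ⊓ pResidual p G) h
  have hTp : IsPGroup p ↥((S : Subgroup G) ⊓ pResidual p G) := S.isPGroup'.to_le inf_le_left
  have hD : D.IsSaturated p := isSaturated_ofSubgroup hTp (exists_conj_in_normal S _)
  have haut : ∀ (A : FusionSystem ((S : Subgroup G) ⊓ pResidual p G)) (P : Subgroup G), A.IsSaturated p →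
      (P = ((S : Subgroup G) ⊓ pResidual p G) ∨ A.IsEssential p P) → ∃ R : Sylow p (A.autGroup P),
        (R : Subgroup (A.autGroup P)).map (A.autGroup P).subtype = autInducedBy ((S : Subgroup G) ⊓ pResidual p G) P := by
    intro A P hA hP
    have hfn : A.IsFullyNormalized P := hP.elim (fun e => e ▸ isFullyNormalized_top A) fun e => e.2.1
    obtain ⟨-, R, hR⟩ := (isFullyAutomized_and_fc_of_fn hTp hA hfn).2
    exact ⟨R, by rw [hR, Subgroup.map_subgroupOf_eq_of_le (autInducedBy_le_autGroup hfn.1)]⟩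
  refine congrFun (congrArg FusionSystem.Hom (fusionSystem_le_antisymm (F := E) (E := D) ?_ ?_)) Q
  · refine le_of_autGroup_le hTp hE D fun P hP => ?_
    have hPT : P ≤ ((S : Subgroup G) ⊓ pResidual p G) := hP.elim (fun e => e.le) fun e => e.2.1.1
    obtain ⟨R, hR⟩ := haut E P hE hP
    refine le_of_sylow_of_coprime R (hR.le.trans (autInducedBy_le_autGroup hPT)) fun α hα hc => ?_
    rw [autGroup_ofSubgroup hPT]
    refine mem_autInducedBy_pResidual ?_ hc
    rw [← autGroup_groupFusionSystem (S : Subgroup G) (hPT.trans inf_le_left),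
      mem_autGroup (hPT.trans inf_le_left)]
    exact hsub P ((mem_autGroup hPT).1 hα)
  · refine le_of_autGroup_le hTp hD E fun P hP => ?_
    have hPT : P ≤ ((S : Subgroup G) ⊓ pResidual p G) := hP.elim (fun e => e.le) fun e => e.2.1.1
    obtain ⟨R, hR⟩ := haut D P hD hP
    refine le_of_sylow_of_coprime R (hR.le.trans (autInducedBy_le_autGroup hPT)) fun α hα hc => ?_
    have hαF : α ∈ (groupFusionSystem (S : Subgroup G)).autGroup P := by
      rw [autGroup_groupFusionSystem (S : Subgroup G) (hPT.trans inf_le_left)]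
      rw [autGroup_ofSubgroup hPT] at hα
      exact autInducedBy_mono le_top hα
    refine hidx P hPT ⟨⟨α, hαF⟩, Cfsg.Lib.Fusion.mem_pResidual_of_coprime ?_, rfl⟩
    rwa [← Subgroup.orderOf_coe]

end Cfsg.Lib.FusionSys
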