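import Cfsg.Agent.Lib.FusionSys.QdFree
import Cfsg.Agent.Lib.Linear.GLTwo

/-!
# `Z(J)` does not control strong fusion in `Qd(p)`
-/

set_option autoImplicit false
set_option linter.style.haveILetI false

universe u

namespace Cfsg.Lib.FusionSys

open Cfsg Cfsg.Lib.Local Subgroup
open scoped MatrixGroups

variable {p : ℕ} [hp : Fact p.Prime]

theorem ker_block_isPGroup : IsPGroup p (QdGroup.block p).ker :=
  IsPGroup.of_card (QdGroup.card_ker_block p)

/-- In `Qd(p)` the subgroup `Z(J(T))` is not normal. -/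
theorem not_normal_centerThompsonAOf_qd (T : Sylow p (qd p)) :
    ¬ (centerThompsonAOf (T : Subgroup (qd p))).Normal := by
  intro hU
  set U := centerThompsonAOf (T : Subgroup (qd p)) with hUdef
  set V := (QdGroup.block p).ker with hV
  haveI : V.Normal := MonoidHom.normal_ker _
  have hVT : V ≤ (T : Subgroup (qd p)) := by
    exact (Cfsg.Lib.Core.le_pCore' inferInstance ker_block_isPGroup).trans (Cfsg.Lib.Core.pCore_le_sylow T)
  have hUT : U ≤ (T : Subgroup (qd p)) := inf_le_left.trans (map_subtype_le _)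
  have hUV : U ≤ V := by
    intro x hx
    by_contra hxV
    -- a nontrivial normal `p`-subgroup outside the translations gives one in `SL₂(p)`
    set H := U.map (QdGroup.block p) with hH
    haveI : H.Normal := hU.map _ (QdGroup.block_surjective p)
    have hHp : IsPGroup p H := (T.isPGroup'.to_le hUT).map _
    have hb : ∀ A : SL(2, ZMod p), A ∈ H → A = 1 := by
      intro A hA
      obtain ⟨P, hP⟩ : ∃ P : Sylow p SL(2, ZMod p), (P : Subgroup SL(2, ZMod p)) = Linear.Two.UT (ZMod p) :=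
        ⟨(Linear.Two.isPGroup_UT p).toSylow (Linear.Two.not_dvd_index_UT p), rfl⟩
      have hle : H ≤ Linear.Two.UT (ZMod p) := hP ▸ IsPGroup.le_sylow_of_normal hHp P
      let w : SL(2, ZMod p) := ⟨!![0, -1; 1, 0], by simp [Matrix.det_fin_two]⟩
      obtain ⟨h0, h1, h2⟩ := Linear.Two.mem_UT.mp (hle hA)
      obtain ⟨-, -, h3⟩ := Linear.Two.mem_UT.mp (hle ((inferInstance : H.Normal).conj_mem A hA w))
      change (w.1 * A.1 * Matrix.adjugate w.1) 1 0 = 0 at h3
      simp [w, Matrix.adjugate_fin_two, Matrix.mul_apply, Fin.sum_univ_two, Matrix.vecMul, dotProduct,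
        h0, h1, h2] at h3
      ext i j
      fin_cases i <;> fin_cases j <;> simp [h0, h1, h2, h3]
    exact hxV (hb _ (mem_map_of_mem _ hx))
  obtain ⟨x, hxU, hx1⟩ := U.bot_or_exists_ne_one.resolve_left
    (GlaubermanZJ.centerThompsonAOf_ne_bot (p := p) T.isPGroup' (fun h => by
      have h2 := (QdGroup.card_ker_block p) ▸ card_le_of_le (S := (T : Subgroup (qd p))) hVT
      rw [h, card_bot] at h2
      exact absurd h2 (not_le.2 (Nat.one_lt_pow two_ne_zero hp.out.one_lt))))
  -- `U` is the whole translation group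
  let τ : ZMod p × ZMod p → qd p := fun v => QdGroup.affine p 1 v
  have hτm : ∀ v w, τ v * τ w = τ (v + w) := fun v w => by
    simp [τ, QdGroup.affine_mul, add_comm, Prod.add_def]
  let Ub : AddSubgroup (ZMod p × ZMod p) :=
    { carrier := {v | τ v ∈ U}
      zero_mem' := by
        show QdGroup.affine p 1 0 ∈ U
        rw [QdGroup.affine_one]; exact one_mem U
      add_mem' := fun {v w} hv hw => by
        show τ (v + w) ∈ U
        rw [← hτm]; exact mul_mem hv hw
      neg_mem' := fun {v} hv => by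
        have h : τ (-v) = (τ v)⁻¹ := by
          refine eq_inv_of_mul_eq_one_left ?_
          rw [hτm, neg_add_cancel]
          exact QdGroup.affine_one p
        show τ (-v) ∈ U
        rw [h]; exact inv_mem hv }
  have hsmul : ∀ (c : ZMod p) v, v ∈ Ub → c • v ∈ Ub := fun c v hv => by
    rw [show c • v = c.val • v by rw [← Nat.cast_smul_eq_nsmul (ZMod p), ZMod.natCast_zmod_val]]
    exact nsmul_mem hv _
  have hact : ∀ (B : SL(2, ZMod p)) v, v ∈ Ub →
      ((B : Matrix (Fin 2) (Fin 2) (ZMod p)) 0 0 * v.1 + (B : Matrix (Fin 2) (Fin 2) (ZMod p)) 0 1 * v.2,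
       (B : Matrix (Fin 2) (Fin 2) (ZMod p)) 1 0 * v.1 + (B : Matrix (Fin 2) (Fin 2) (ZMod p)) 1 1 * v.2) ∈ Ub := by
    intro B v hv
    have h := hU.conj_mem _ hv (linearPart p B)
    show QdGroup.affine p 1 _ ∈ U
    convert h using 1
    rw [eq_mul_inv_iff_mul_eq]
    show QdGroup.affine p 1 _ * QdGroup.affine p B 0 = QdGroup.affine p B 0 * QdGroup.affine p 1 v
    simp [QdGroup.affine_mul]
  have hxt : ∃ v ∈ Ub, v ≠ 0 := by
    obtain ⟨h0, h1, h3⟩ := QdGroup.row_two p x.2
    have hb := congrArg (fun X : SL(2, ZMod p) => (X : Matrix (Fin 2) (Fin 2) (ZMod p)))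
      (MonoidHom.mem_ker.1 (hUV hxU))
    have a00 := congrFun (congrFun hb 0) 0
    have a01 := congrFun (congrFun hb 0) 1
    have a10 := congrFun (congrFun hb 1) 0
    have a11 := congrFun (congrFun hb 1) 1
    simp [QdGroup.block_coe] at a00 a01 a10 a11
    have he : x = τ ((x.1 : Matrix (Fin 3) (Fin 3) (ZMod p)) 0 2,
        (x.1 : Matrix (Fin 3) (Fin 3) (ZMod p)) 1 2) := by
      apply Subtype.ext
      apply Subtype.ext
      ext i j
      fin_cases i <;> fin_cases j <;>
        simp [τ, QdGroup.affine_coe, h0, h1, h3, a00, a01, a10, a11]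
    refine ⟨_, (show τ _ ∈ U by rw [← he]; exact hxU), fun h => hx1 ?_⟩
    rw [he, h]
    exact QdGroup.affine_one p
  obtain ⟨v, hv, hv0⟩ := hxt
  let w : SL(2, ZMod p) := ⟨!![0, 1; -1, 0], by simp⟩
  have hb : ∃ v ∈ Ub, v.2 ≠ 0 := by
    by_cases h : v.2 = 0
    · refine ⟨_, hact w v hv, ?_⟩
      have h' : v.1 ≠ 0 := fun h' => hv0 (Prod.ext h' h)
      simpa [w, h] using h'
    · exact ⟨v, hv, h⟩
  obtain ⟨v, hv, hv2⟩ := hb
  let u : SL(2, ZMod p) := ⟨!![1, 1; 0, 1], by simp⟩
  have h10 : ((1 : ZMod p), (0 : ZMod p)) ∈ Ub := by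
    have h := hsmul v.2⁻¹ _ (Ub.sub_mem (hact u v hv) hv)
    convert h using 1
    simp [u, hv2, Prod.ext_iff]
  have h01 : ((0 : ZMod p), (1 : ZMod p)) ∈ Ub := by
    have h := hsmul (-1) _ (hact w _ h10)
    simpa [w] using h
  have hall : ∀ v, τ v ∈ U := fun v => by
    show v ∈ Ub
    have : v = v.1 • ((1 : ZMod p), (0 : ZMod p)) + v.2 • ((0 : ZMod p), (1 : ZMod p)) := by simp
    rw [this]
    exact Ub.add_mem (hsmul _ _ h10) (hsmul _ _ h01)
  -- an abelian subgroup of order `p²` outside the translations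
  let U₁ : Multiplicative (ZMod p) →* SL(2, ZMod p) :=
    MonoidHom.mk' (fun m => ⟨!![1, m.toAdd; 0, 1], by simp⟩) fun a b => Subtype.ext (by
      show (!![1, (a * b).toAdd; 0, 1] : Matrix (Fin 2) (Fin 2) (ZMod p)) =
        !![1, a.toAdd; 0, 1] * !![1, b.toAdd; 0, 1]
      ext i j
      fin_cases i <;> fin_cases j <;> simp [Matrix.mul_apply, Fin.sum_univ_two, add_comm])
  have hU₁ : ∀ m, ((U₁ m : SL(2, ZMod p)) : Matrix (Fin 2) (Fin 2) (ZMod p)) = !![1, m.toAdd; 0, 1] :=
    fun m => rfl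
  let ξ : Multiplicative (ZMod p × ZMod p) →* qd p :=
    MonoidHom.mk' (fun t => QdGroup.affine p (U₁ (Multiplicative.ofAdd t.toAdd.2)) (t.toAdd.1, 0))
      fun s t => by
        rw [QdGroup.affine_mul, ← map_mul U₁, hU₁]
        simp [add_comm, ofAdd_add]
  have hξ : Function.Injective ξ := fun s t h => by
    have e := congrArg (fun X : qd p => (X.1 : Matrix (Fin 3) (Fin 3) (ZMod p))) h
    have e0 := congrFun (congrFun e 0) 2
    have e1 := congrFun (congrFun e 0) 1
    simp [ξ, QdGroup.affine_coe, hU₁] at e0 e1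
    exact Multiplicative.toAdd.injective (Prod.ext e0 e1)
  have hξp : IsPGroup p ξ.range := by
    refine IsPGroup.of_card (n := 2) ?_
    rw [← Nat.card_congr (MonoidHom.ofInjective hξ).toEquiv]
    show Nat.card (ZMod p × ZMod p) = _
    rw [Nat.card_prod, Nat.card_zmod, sq]
  obtain ⟨T₀, hT₀⟩ := hξp.exists_le_sylow
  obtain ⟨g, hg⟩ := MulAction.exists_smul_eq (qd p) T T₀
  have hJ : thompsonSubgroupAOf (T₀ : Subgroup (qd p)) ≤ V := by
    have hU₀ : centerThompsonAOf (T₀ : Subgroup (qd p)) = U := by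
      have h1 : ((T : Subgroup (qd p)).map (MulAut.conj g).toMonoidHom) = T₀ := by
        rw [← hg]; rfl
      rw [← h1, ← GlaubermanZJ.map_centerThompsonAOf' _ _ (MulAut.conj g).injective.injOn, ← hUdef]
      exact (mem_normalizer_iff_map_conj_eq.1 ((normalizer_eq_top_iff.2 hU).ge (mem_top g)))
    intro y hy
    refine MonoidHom.mem_ker.2 (block_eq_one_of_comm p y fun z hz => ?_)
    obtain ⟨h0, h1, h3⟩ := QdGroup.row_two p z.2
    have hb := congrArg (fun X : SL(2, ZMod p) => (X : Matrix (Fin 2) (Fin 2) (ZMod p)))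
      (MonoidHom.mem_ker.1 hz)
    have a00 := congrFun (congrFun hb 0) 0
    have a01 := congrFun (congrFun hb 0) 1
    have a10 := congrFun (congrFun hb 1) 0
    have a11 := congrFun (congrFun hb 1) 1
    simp [QdGroup.block_coe] at a00 a01 a10 a11
    have he : z = τ ((z.1 : Matrix (Fin 3) (Fin 3) (ZMod p)) 0 2,
        (z.1 : Matrix (Fin 3) (Fin 3) (ZMod p)) 1 2) := by
      apply Subtype.ext
      apply Subtype.ext
      ext i j
      fin_cases i <;> fin_cases j <;>
        simp [τ, QdGroup.affine_coe, h0, h1, h3, a00, a01, a10, a11]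
    have hzU : z ∈ centerThompsonAOf (T₀ : Subgroup (qd p)) := by
      rw [hU₀, he]; exact hall _
    exact mem_centralizer_iff.1 hzU.2 y hy
  obtain ⟨A', hA'⟩ := GlaubermanZJ.exists_isMaxAbIn (T₀ : Subgroup (qd p))
  have hA'V : A' ≤ V := by
    refine le_trans ?_ hJ
    rw [GlaubermanZJ.thompsonSubgroupAOf_eq]
    exact le_sSup hA'
  have hξc : IsMulCommutative ξ.range := by
    refine ⟨⟨?_⟩⟩
    rintro ⟨_, s, rfl⟩ ⟨_, t, rfl⟩
    exact Subtype.ext (by show ξ s * ξ t = ξ t * ξ s; rw [← map_mul, ← map_mul, mul_comm])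
  have hmax : GlaubermanZJ.IsMaxAbIn (T₀ : Subgroup (qd p)) ξ.range := by
    refine ⟨hT₀, hξc, fun C hC hCc => (hA'.2.2 C hC hCc).trans ?_⟩
    refine (card_le_of_le hA'V).trans (le_of_eq ?_)
    rw [QdGroup.card_ker_block, ← Nat.card_congr (MonoidHom.ofInjective hξ).toEquiv]
    show p ^ 2 = Nat.card (ZMod p × ZMod p)
    rw [Nat.card_prod, Nat.card_zmod, sq]
  have hin : ξ (Multiplicative.ofAdd (0, 1)) ∈ V := by
    refine hJ ?_
    rw [GlaubermanZJ.thompsonSubgroupAOf_eq]
    exact (le_sSup hmax : ξ.range ≤ sSup _) ⟨_, rfl⟩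
  have h := congrFun (congrFun (congrArg (fun X : SL(2, ZMod p) => (X : Matrix (Fin 2) (Fin 2) (ZMod p)))
    (MonoidHom.mem_ker.1 hin)) 0) 1
  have hh : (1 : ZMod p) = 0 := h
  exact one_ne_zero hh

/-- If `Z(J)` controls strong fusion in every section, `Qd(p)` is not involved. -/
theorem not_controlsStrongFusion_of_equiv {Q : Type u} [Group Q] [Finite Q] (e : Q ≃* qd p)
    (T : Sylow p Q) : ¬ ControlsStrongFusion p (centerThompsonAOf (T : Subgroup Q)) := by
  rintro ⟨T', hUT', hctl⟩
  set U := centerThompsonAOf (T : Subgroup Q) with hUdef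
  set V := (QdGroup.block p).ker.comap e.toMonoidHom with hV
  haveI : V.Normal := inferInstance
  have hVp : IsPGroup p V := ker_block_isPGroup.comap_of_injective _ e.injective
  have hVle : ∀ R : Sylow p Q, V ≤ (R : Subgroup Q) := fun R =>
    (Cfsg.Lib.Core.le_pCore' inferInstance hVp).trans (Cfsg.Lib.Core.pCore_le_sylow R)
  have hTU : (T : Subgroup Q) ≤ normalizer (U : Set Q) :=
    le_normalizer.trans (GlaubermanZJ.normalizer_le_normalizer_centerThompsonAOf _)
  have hUn : U.Normal := by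
    rw [← normalizer_eq_top_iff, eq_top_iff]
    intro g _
    obtain ⟨-, hfus⟩ := hctl (V : Set Q) (hVle T')
    obtain ⟨x, hx, hxa⟩ := hfus g (by
      rintro _ ⟨v, hv, rfl⟩
      exact hVle T' ((inferInstance : V.Normal).conj_mem v hv g))
    have hc : x⁻¹ * g ∈ V := by
      show QdGroup.block p (e (x⁻¹ * g)) = 1
      refine block_eq_one_of_comm p _ fun z hz => ?_
      have hzV : e.symm z ∈ V := by
        show QdGroup.block p (e (e.symm z)) = 1
        rw [e.apply_symm_apply]; exact hz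
      have h := hxa _ hzV
      have h' : x⁻¹ * g * e.symm z = e.symm z * (x⁻¹ * g) := by
        calc x⁻¹ * g * e.symm z = x⁻¹ * (g * e.symm z * g⁻¹) * g := by group
          _ = x⁻¹ * (x * e.symm z * x⁻¹) * g := by rw [h]
          _ = _ := by group
      have h'' := congrArg e h'
      rwa [map_mul e (x⁻¹ * g) (e.symm z), map_mul e (e.symm z) (x⁻¹ * g), e.apply_symm_apply] at h''
    have := mul_mem hx (hTU (hVle T hc))
    rwa [mul_inv_cancel_left] at this
  refine not_normal_centerThompsonAOf_qd (T.mapSurjective (f := e.toMonoidHom) e.surjective) ?_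
  show (centerThompsonAOf ((T : Subgroup Q).map e.toMonoidHom)).Normal
  rw [← GlaubermanZJ.map_centerThompsonAOf' e.toMonoidHom _ e.injective.injOn]
  exact hUn.map _ e.surjective

theorem controlsStrongFusion_zj_of_qdFree {Q : Type u} [Group Q] [Finite Q] (h2 : p ≠ 2)
    (hq : ¬ Involves (qd p) Q) (T : Sylow p Q) :
    ControlsStrongFusion p (centerThompsonAOf (T : Subgroup Q)) :=
  ⟨T, inf_le_left.trans (map_subtype_le _), fun A hA =>
    controls_zj_of_qdFree h2 T hq (isStronglyClosed_self _) A hA⟩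

end Cfsg.Lib.FusionSys
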