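import Cfsg.Agent.Lib.FusionSys.QdFree
import Cfsg.Agent.Lib.Local.Sylow

/-!
# `Z(J(P))`, elementary abelian version, in `Qd(p)`-free groups
-/

set_option autoImplicit false
set_option linter.style.haveILetI false

universe u

namespace Cfsg.Lib.FusionSys

open Cfsg Cfsg.FusionSystem Cfsg.Lib.Local Subgroup

variable {p : ℕ} [Fact p.Prime]

theorem map_centerThompsonOf_injOn {G H : Type u} [Group G] [Group H] (f : G →* H) (S : Subgroup G)
    (hf : Set.InjOn f S) : (centerThompsonOf p S).map f = centerThompsonOf p (S.map f) := by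
  have h1 := Thompson.map_zenter f (thompsonSubgroupOf p S)
    (hf.mono fun x hx => map_subtype_le _ hx)
  rw [Thompson.map_thompsonSubgroupOf f S hf] at h1
  exact h1

variable {G : Type u} [Group G] [Finite G]

/-- The `ZJ`-theorem for the elementary abelian version in `Qd(p)`-free groups. -/
theorem centerThompson_normal_of_qdFree (h2 : p ≠ 2) (hq : ¬ Involves (qd p) G)
    (hc : centralizer (pCore p G : Set G) ≤ pCore p G) (P : Sylow p G) :
    (centerThompsonOf p (P : Subgroup G)).Normal := by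
  set Z := centerThompsonOf p (P : Subgroup G) with hZ
  set Ω := GlaubermanZJ.omegaZ p (P : Subgroup G) with hΩ
  haveI hΩn : Ω.Normal := GlaubermanZJ.omegaZ_normal h2 hc
    (fun V _ hV => QdInvolved.isPStableOn_of_not_involves_qd h2 hq V hV) P
  set C := centralizer (Ω : Set G) with hC
  set J := thompsonSubgroupOf p (P : Subgroup G) with hJ
  have hJC : J ≤ C := fun x hx => mem_centralizer_iff.2 fun y hy =>
    (mem_centralizer_iff.1 (GlaubermanZJ.omegaZ_le _ hy).2 x hx).symm
  have hPJ : (P : Subgroup G) ≤ normalizer (J : Set G) :=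
    le_normalizer.trans (Thompson.normalizer_le_normalizer_thompsonSubgroupOf _)
  have hPZ : (P : Subgroup G) ≤ normalizer (Z : Set G) :=
    hPJ.trans (Thompson.normalizer_le_normalizer_zenter J)
  set X := (P : Subgroup G) ⊔ C with hX
  have hXZ : X ≤ normalizer (Z : Set G) := by
    have hPX : (P : Subgroup G) ≤ X := le_sup_left
    have hZX : Z ≤ X := (inf_le_left.trans (map_subtype_le _)).trans hPX
    let PX : Sylow p X := P.subtype hPX
    have hPXmap : ((PX : Subgroup X)).map X.subtype = (P : Subgroup G) := map_subgroupOf_eq_of_le hPX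
    have hOX : (pCore p G).subgroupOf X ≤ pCore p X := Cfsg.Lib.Core.le_pCore'
      inferInstance ((Cfsg.Lib.Core.pCore_isPGroup p G).comap_of_injective _ X.subtype_injective)
    have hOle : pCore p G ≤ X := (Cfsg.Lib.Core.pCore_le_sylow P).trans hPX
    have hcX : centralizer (pCore p X : Set X) ≤ pCore p X := by
      intro x hx
      refine hOX (mem_subgroupOf.2 (hc (mem_centralizer_iff.2 fun y hy => ?_)))
      exact congrArg Subtype.val (mem_centralizer_iff.1 hx ⟨y, hOle hy⟩ (hOX hy))
    have hqX : ¬ Involves (qd p) X := fun h => hq (involves_of_injective X.subtype_injective h)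
    have hΩX : (GlaubermanZJ.omegaZ p (PX : Subgroup X)).map X.subtype = Ω := by
      rw [GlaubermanZJ.map_omegaZ_of_injOn X.subtype _ X.subtype_injective.injOn, hPXmap]
    have hgen : (PX : Subgroup X) ⊔ centralizer (GlaubermanZJ.omegaZ p (PX : Subgroup X) : Set X) = ⊤ := by
      rw [eq_top_iff]
      intro x _
      obtain ⟨a, ha, c, hcC, hac⟩ := mem_sup_of_normal_right.1 x.2
      rw [show x = (⟨a, hPX ha⟩ : X) * ⟨c, mem_sup_right hcC⟩ from Subtype.ext hac.symm]
      refine mul_mem (mem_sup_left ha) (mem_sup_right (mem_centralizer_iff.2 fun y hy => Subtype.ext ?_))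
      exact mem_centralizer_iff.1 hcC y (hΩX.le ⟨y, hy, rfl⟩)
    haveI := GlaubermanZJ.centerThompson_normal h2 hcX
      (fun V _ hV => QdInvolved.isPStableOn_of_not_involves_qd h2 hqX V hV) PX hgen
    have hmap : (centerThompsonOf p (PX : Subgroup X)).map X.subtype = Z := by
      rw [map_centerThompsonOf_injOn X.subtype _ X.subtype_injective.injOn, hPXmap]
    intro g hg
    refine mem_normalizer_fintype fun z hz => ?_
    obtain ⟨w, hw, rfl⟩ := hmap.ge hz
    exact hmap.le ⟨_, (inferInstance : (centerThompsonOf p (PX : Subgroup X)).Normal).conj_mem w hw ⟨g, hg⟩, rfl⟩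
  rw [← normalizer_eq_top_iff, eq_top_iff]
  obtain ⟨PC, hPC⟩ := Cfsg.Lib.Local.exists_sylow_inf P C
  have hPCe : (PC : Subgroup C).map C.subtype = (P : Subgroup G) ⊓ C := by
    rw [hPC, subgroupOf_map_subtype]
  have hmemJ : ∀ A, GlaubermanZJ.IsMaxEAIn p (P : Subgroup G) A → A ≤ (P : Subgroup G) ⊓ C := fun A hA =>
    le_inf hA.1 ((show A ≤ J by rw [hJ, GlaubermanZJ.thompsonSubgroupOf_eq_sSup]; exact le_sSup hA).trans hJC)
  obtain ⟨A₀, hA₀⟩ := GlaubermanZJ.exists_isMaxEAIn (p := p) (P : Subgroup G)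
  have hJe : thompsonSubgroupOf p ((P : Subgroup G) ⊓ C : Subgroup G) = J := by
    rw [hJ, GlaubermanZJ.thompsonSubgroupOf_eq_sSup, GlaubermanZJ.thompsonSubgroupOf_eq_sSup]
    exact le_antisymm (sSup_le_sSup fun A hA => ⟨hA.1.trans inf_le_left, hA.2.1, fun D hD hDc =>
        (hA₀.2.2 D hD hDc).trans (hA.2.2 A₀ (hmemJ A₀ hA₀) hA₀.2.1)⟩)
      (sSup_le_sSup fun A hA => ⟨hmemJ A hA, hA.2.1, fun D hD hDc => hA.2.2 D (hD.trans inf_le_left) hDc⟩)
  intro g _
  have htop : (⊤ : Subgroup G) = normalizer (((PC : Subgroup C).map C.subtype : Subgroup G) : Set G) ⊔ C :=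
    (Sylow.normalizer_sup_eq_top PC).symm
  obtain ⟨n, hn, c, hcC, rfl⟩ := mem_sup_of_normal_right.1 (htop.le (mem_top g))
  refine mul_mem (Thompson.normalizer_le_normalizer_zenter J ?_) (hXZ (mem_sup_right hcC))
  rw [hPCe] at hn
  rw [← hJe]
  exact Thompson.normalizer_le_normalizer_thompsonSubgroupOf _ hn

/-- `Z(J(Q))`, elementary version, inside `Q`. -/
def zjeFamily (p : ℕ) (Q : Type u) [Group Q] : Subgroup Q :=
  centerThompsonOf p (⊤ : Subgroup Q)

theorem functorOf_zjeFamily {H : Type u} [Group H] (T : Subgroup H) [Finite T] :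
    functorOf (zjeFamily p) T = centerThompsonOf p T := by
  rw [functorOf, zjeFamily, map_centerThompsonOf_injOn T.subtype ⊤ T.subtype_injective.injOn,
    ← MonoidHom.range_eq_map, Subgroup.range_subtype]

theorem isNormal_zje_of_qdFree (h2 : p ≠ 2) {Ω : Type u} [Group Ω] {S : Subgroup Ω} [Finite S]
    (hS : IsPGroup p S) {F : FusionSystem S} (hF : F.IsSaturated p)
    (hfree : F.IsSectionFree p (qd p)) : F.IsNormal (centerThompsonOf p S) := by
  rw [← functorOf_zjeFamily]
  refine isNormal_functorOf (X := qd p) (zjeFamily p) (fun Q _ _ hQ hnt => ?_)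
    (fun Q R _ _ _ _ φ => ?_) (fun L _ _ P hc hq => ?_) _ Ω S hS le_rfl F hF hfree
  · refine GlaubermanZJ.centerThompsonOf_ne_bot (hQ.to_subgroup ⊤) ?_
    rw [← Subgroup.nontrivial_iff_ne_bot]
    exact Subgroup.topEquiv.toEquiv.nontrivial
  · rw [zjeFamily, map_centerThompsonOf_injOn φ.toMonoidHom ⊤ φ.injective.injOn,
      Subgroup.map_top_of_surjective _ φ.surjective]
    rfl
  · rw [functorOf_zjeFamily]
    exact centerThompson_normal_of_qdFree h2 hq hc P

theorem controls_zje_of_qdFree (h2 : p ≠ 2) (P : Sylow p G) (hq : ¬ Involves (qd p) G)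
    (A : Set G) (hA : A ⊆ (P : Subgroup G)) :
    ControlsStrongFusionOf (Subgroup.normalizer (centerThompsonOf p (P : Subgroup G) : Set G))
      (P : Subgroup G) A :=
  controls_of_isNormal (isNormal_zje_of_qdFree h2 P.isPGroup' (isSaturated_groupFusionSystem P)
    (isSectionFree_groupFusionSystem P hq)) A hA

/-- A group not involving `SL₂(p)` does not involve `Qd(p)`. -/
theorem not_involves_qd_of_not_involves_SL2
    (h : ¬ Involves (Matrix.SpecialLinearGroup (Fin 2) (ZMod p)) G) : ¬ Involves (qd p) G := by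
  intro hq
  obtain ⟨K, f, hf⟩ := involves_iff_exists_hom.1 hq
  exact h (involves_iff_exists_hom.2 ⟨K, (QdGroup.block p).comp f,
    (QdGroup.block_surjective p).comp hf⟩)

end Cfsg.Lib.FusionSys
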