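import Cfsg.Agent.Lib.FusionSys.NormalizerModel
import Cfsg.Agent.Lib.FusionSys.Alperin

/-!
Models of normalizer systems of centric radical subgroups.
-/

set_option autoImplicit false
set_option linter.style.haveILetI false

universe u v

namespace Cfsg.Lib.FusionSys

open Cfsg Cfsg.FusionSystem

theorem pCore_eq_imageOf_radical {Ω : Type u} [Group Ω] {S : Subgroup Ω} [Finite S] {p : ℕ} [Fact p.Prime]
    (hS : IsPGroup p S) {F : FusionSystem S} {R : Subgroup Ω} (hRc : F.IsCentric R) (hRr : F.IsRadical p R)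
    {E : FusionSystem (normalizerIn S R)} (hE : F.IsNormalizerSystem R E) {G : Type v} [Group G]
    {ι : normalizerIn S R →* G} (hM : E.IsModel p G ι) : pCore p G = imageOf ι R := by
  obtain ⟨hG, hr, ⟨T, hT⟩, -⟩ := id hM
  haveI := hG
  have hRS := hRc.1
  have hRN : R ≤ normalizerIn S R := le_normalizerIn hRS
  haveI : Finite (normalizerIn S R) := finite_of_le (normalizerIn_le R)
  haveI := finite_of_le hRS
  haveI : Finite (MulAut R) := Finite.of_injective (fun f => (f : R → R)) DFunLike.coe_injective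
  haveI := imageOf_normal hM (isNormal_normalizerSystem hRS hE)
  have hp : IsPGroup p (imageOf ι R) :=
    (((hS.to_le (normalizerIn_le R))).to_subgroup (R.subgroupOf (normalizerIn S R))).map ι
  refine le_antisymm ?_ (Cfsg.Lib.Core.le_pCore' inferInstance hp)
  have hcore : pCore p G ≤ ι.range := hT ▸ Cfsg.Lib.Core.pCore_le_sylow T
  set X := ((pCore p G).comap ι).map (normalizerIn S R).subtype
  have hXS : X ≤ S := by rintro _ ⟨x, -, rfl⟩; exact x.2.1
  set K := F.autGroup R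
  let C : Subgroup K := (autInducedBy X R).subgroupOf K
  have hCp : IsPGroup p C := (isPGroup_autInducedBy (hS.to_le hXS)).comap_subtype
  haveI hCn : C.Normal := ⟨fun a ha b => by
    obtain ⟨_, ⟨x, hx, rfl⟩, hax⟩ := mem_autInducedBy.1 (Subgroup.mem_subgroupOf.1 ha)
    have hbE : (R.subtype.comp (b : MulAut R).toMonoidHom) ∈ E.Hom R :=
      mem_normalizerSystem_of_le hE ((mem_autGroup hRS).1 b.2) le_rfl hRN (by
        ext w
        constructor
        · rintro ⟨r, -, rfl⟩; exact ((b : MulAut R) r).2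
        · exact fun hw => ⟨(b : MulAut R).symm ⟨w, hw⟩, ((b : MulAut R).symm ⟨w, hw⟩).2, by simp⟩)
    obtain ⟨g, hg⟩ := exists_of_realized hr hbE
    have hy : g * ι x * g⁻¹ ∈ pCore p G := Subgroup.Normal.conj_mem (H := pCore p G) inferInstance (ι x) hx g
    obtain ⟨y, hye⟩ := hcore hy
    refine Subgroup.mem_subgroupOf.2 (mem_autInducedBy.2 ⟨y, ⟨y, by
      show ι y ∈ pCore p G
      rw [hye]; exact hy, rfl⟩, fun r => ?_⟩)
    set r' : R := (b : MulAut R)⁻¹ r
    have hrr : (b : MulAut R) r' = r := MulAut.apply_inv_self ..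
    show (((b : MulAut R) ((a : MulAut R) r') : R) : Ω) = _
    have h1 : ι ⟨((a : MulAut R) r' : R), hRN ((a : MulAut R) r').2⟩ = ι x * ι ⟨r', hRN r'.2⟩ * (ι x)⁻¹ := by
      rw [show (⟨((a : MulAut R) r' : R), hRN ((a : MulAut R) r').2⟩ : normalizerIn S R) =
        x * ⟨r', hRN r'.2⟩ * x⁻¹ from Subtype.ext (hax r'), map_mul, map_mul, map_inv]
    have h2 : ι ⟨((b : MulAut R) ((a : MulAut R) r') : R), hRN ((b : MulAut R) ((a : MulAut R) r')).2⟩ =
        g * ι ⟨((a : MulAut R) r' : R), hRN ((a : MulAut R) r').2⟩ * g⁻¹ := hg ((a : MulAut R) r')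
    have h3 : ι ⟨((b : MulAut R) r' : R), hRN ((b : MulAut R) r').2⟩ = g * ι ⟨r', hRN r'.2⟩ * g⁻¹ := hg r'
    have h4 : ι ⟨((b : MulAut R) ((a : MulAut R) r') : R), hRN ((b : MulAut R) ((a : MulAut R) r')).2⟩ =
        ι (y * ⟨((b : MulAut R) r' : R), hRN ((b : MulAut R) r').2⟩ * y⁻¹) := by
      rw [map_mul, map_mul, map_inv, h2, h1, h3, hye]
      group
    have h5 := congrArg Subtype.val (hr.1 h4)
    refine h5.trans ?_
    show (y : Ω) * (((b : MulAut R) r' : R) : Ω) * (y : Ω)⁻¹ = _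
    rw [hrr]⟩
  have hCI : C ≤ pCore p K := Cfsg.Lib.Core.le_pCore' hCn hCp
  intro w hw
  obtain ⟨x, rfl⟩ := hcore hw
  refine mem_imageOf.2 ⟨x, ?_, rfl⟩
  have hxN : (x : Ω) ∈ Subgroup.normalizer (R : Set Ω) := x.2.2
  have hcK : conjAut R hxN ∈ K := autInducedBy_le_autGroup hRS (conjAut_mem_autInducedBy hxN x.2.1)
  have hcI : conjAut R hxN ∈ Inn R := by
    rw [← hRr.2]
    exact ⟨⟨_, hcK⟩, hCI (Subgroup.mem_subgroupOf.2 (conjAut_mem_autInducedBy hxN ⟨x, hw, rfl⟩)), rfl⟩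
  exact mem_of_conjAut_mem_inn (hRc.2 R (isConj_refl F hRS)) hRS x.2.1 (fun r => rfl) hcI

end Cfsg.Lib.FusionSys
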