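import Cfsg.Agent.Lib.FusionSys.RankThreeTools
import Cfsg.Agent.Lib.FusionSys.PlaneAction

/-!
# Essential subgroups of rank three: the case of a single Jordan block

A finite `p`-group `T` of sectional rank at most three has no automorphism of `p`-power order moving a
maximal subgroup `E`, if `E` has three generators, `T` acts on `E / Φ(E)` with a single Jordan block and
some automorphisms of `E` act irreducibly on `E / Φ(E)`.
-/

set_option linter.style.haveILetI false
set_option autoImplicit false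

namespace Cfsg.Lib.FusionSys.RankThree

open Subgroup
open scoped commutatorElement

variable {p : ℕ} [hp : Fact p.Prime] {T : Type*} [Group T] [Finite T] {E : Subgroup T}

/-- The series `E > K > J > Φ(E)`. -/
theorem regular_chain [E.Normal] (hT : IsPGroup p T) (hEi : E.index = p)
    (hV : (frattini E).index = p ^ 3) {a b : T} (ha : a ∈ E) (hb : b ∉ E)
    (he : ⁅b, ⁅b, a⁆⁆ ∉ frattiniIn E) (he' : ⁅b, ⁅b, ⁅b, a⁆⁆⁆ ∈ frattiniIn E) :
    ((frattiniIn E ⊔ zpowers ⁅b, ⁅b, a⁆⁆).Normal) ∧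
      frattini T = frattiniIn E ⊔ zpowers ⁅b, ⁅b, a⁆⁆ ⊔ zpowers ⁅b, a⁆ ∧
      E = frattini T ⊔ zpowers a ∧ Nat.card T = p ^ 2 * Nat.card ↥(frattini T) ∧
      Nat.card ↥(frattini T) = p ^ 2 * Nat.card ↥(frattiniIn E) ∧ a ∉ frattini T := by
  set Φ := frattiniIn E with hΦ
  set c := ⁅b, a⁆ with hc
  set e := ⁅b, c⁆ with he0
  have htop := sup_zpowers_eq_top_of_index hEi hb
  have hΦE : Φ ≤ E := frattiniIn_le E
  have hcE : c ∈ E := by
    rw [hc, commutatorElement_def]
    exact mul_mem (Normal.conj_mem inferInstance a ha b) (inv_mem ha)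
  have heE : e ∈ E := by
    rw [he0, commutatorElement_def]
    exact mul_mem (Normal.conj_mem inferInstance c hcE b) (inv_mem hcE)
  have hconj : ∀ {N : Subgroup T} {x : T}, N.Normal → ⁅b, x⁆ ∈ N → ∀ k ∈ N ⊔ zpowers x,
      b * k * b⁻¹ ∈ N ⊔ zpowers x := by
    intro N x hN hx k hk
    have : N ⊔ zpowers x ≤ (N ⊔ zpowers x).comap (MulAut.conj b).toMonoidHom := by
      refine sup_le (fun n hn => mem_sup_left (hN.conj_mem n hn b)) (zpowers_le.mpr ?_)
      show b * x * b⁻¹ ∈ N ⊔ zpowers x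
      have h1 : b * x * b⁻¹ = ⁅b, x⁆ * x := by rw [commutatorElement_def, inv_mul_cancel_right]
      rw [h1]
      exact mul_mem (mem_sup_left hx) (mem_sup_right (mem_zpowers x))
    exact this hk
  set J := Φ ⊔ zpowers e with hJ
  have hJE : J ≤ E := sup_le hΦE (zpowers_le.mpr heE)
  haveI hJn : J.Normal := normal_of_between hT le_sup_left hJE htop (hconj inferInstance he')
  set K := J ⊔ zpowers c with hK
  have hKE : K ≤ E := sup_le hJE (zpowers_le.mpr hcE)
  haveI hKn : K.Normal := normal_of_between hT (le_sup_left.trans le_sup_left) hKE htop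
    (hconj hJn (mem_sup_right (mem_zpowers e)))
  -- membership in the series is detected by commutation with `b`
  have hdet : ∀ (N : Subgroup T) [N.Normal] (x y : T), ⁅b, x⁆ ∈ N → y ∈ N ⊔ zpowers x → ⁅b, y⁆ ∈ N := by
    intro N _ x y hx hy
    obtain ⟨i, hi⟩ := exists_pow_of_mem_sup N hy
    rw [← QuotientGroup.eq_one_iff] at hx ⊢
    have e1 : ((x : T ⧸ N) ^ i) = (y : T ⧸ N) := by
      rw [← QuotientGroup.mk_pow, QuotientGroup.eq]
      exact hi
    rw [← QuotientGroup.mk'_apply, map_commutatorElement, QuotientGroup.mk'_apply,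
      QuotientGroup.mk'_apply, ← e1, commutatorElement_eq_one_iff_commute]
    rw [← QuotientGroup.mk'_apply, map_commutatorElement, commutatorElement_eq_one_iff_commute] at hx
    exact hx.pow_right i
  have hcJ : c ∉ J := fun h => he (hdet Φ e c he' h)
  have haK : a ∉ K := fun h => hcJ (hdet J c a (mem_sup_right (mem_zpowers e)) h)
  have h1 := card_lt_sup_zpowers hT Φ he
  have h2 := card_lt_sup_zpowers hT J hcJ
  have h3 := card_lt_sup_zpowers hT K haK
  have hcE' : Nat.card E = p ^ 3 * Nat.card Φ := by rw [card_frattiniIn_mul, hV]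
  have hKaE : K ⊔ zpowers a ≤ E := sup_le hKE (zpowers_le.mpr ha)
  have h4 := card_le_of_le hKaE
  rw [← hJ] at h1
  rw [← hK] at h2
  have hcK : Nat.card K = p ^ 2 * Nat.card Φ := by
    refine le_antisymm ?_ ?_
    · have := h3.trans h4
      rw [hcE'] at this
      exact Nat.le_of_mul_le_mul_left (by linarith [show p * (p ^ 2 * Nat.card Φ) = p ^ 3 * Nat.card Φ by ring])
        hp.out.pos
    · calc p ^ 2 * Nat.card Φ = p * (p * Nat.card Φ) := by ring
        _ ≤ p * Nat.card J := Nat.mul_le_mul_left p h1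
        _ ≤ Nat.card K := h2
  have hEeq : E = K ⊔ zpowers a := by
    refine (eq_of_le_of_card_ge hKaE ?_).symm
    refine le_trans (le_of_eq ?_) h3
    rw [hcK, hcE']; ring
  have hfrat : frattini T = K := by
    refine le_antisymm ?_ ?_
    · have hgen : ∀ t : T, t ∈ K ⊔ zpowers a ⊔ zpowers b := fun t => by
        rw [← hEeq, htop]; exact mem_top t
      set π := QuotientGroup.mk' K with hπ
      have hab : Commute (π b) (π a) := by
        rw [← commutatorElement_eq_one_iff_commute, ← map_commutatorElement, ← hc, hπ,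
          QuotientGroup.mk'_apply, QuotientGroup.eq_one_iff]
        exact mem_sup_right (mem_zpowers c)
      have hform : ∀ t : T, ∃ i j : ℕ, π t = π a ^ i * π b ^ j := by
        intro t
        haveI : E.Normal := inferInstance
        have ht : t ∈ E ⊔ zpowers b := htop ▸ mem_top t
        obtain ⟨j, hj⟩ := exists_pow_of_mem_sup E ht
        rw [hEeq] at hj
        obtain ⟨i, hi⟩ := exists_pow_of_mem_sup K hj
        refine ⟨i, j, ?_⟩
        have e1 : π ((a ^ i)⁻¹ * ((b ^ j)⁻¹ * t)) = 1 :=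
          (QuotientGroup.eq_one_iff _).mpr hi
        simp only [map_mul, map_inv, map_pow] at e1
        rw [((hab.pow_pow j i).symm).eq]
        rw [inv_mul_eq_one] at e1
        rw [e1, mul_inv_cancel_left]
      refine frattini_le_of hT (fun v w => ?_) fun v => ?_
      · rw [← QuotientGroup.eq_one_iff, ← QuotientGroup.mk'_apply, ← hπ, map_commutatorElement,
          commutatorElement_eq_one_iff_commute]
        obtain ⟨i, j, hv⟩ := hform v
        obtain ⟨k, l, hw⟩ := hform w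
        rw [hv, hw]
        exact ((Commute.refl (π a)).pow_pow i k |>.mul_right (hab.symm.pow_pow i l)).mul_left
          ((hab.pow_pow j k).mul_right ((Commute.refl (π b)).pow_pow j l))
      · have hbp : π b ^ p = 1 := by
          have hbE : b ^ p ∈ K ⊔ zpowers a := hEeq ▸ (hEi ▸ E.pow_index_mem b)
          obtain ⟨i, hi⟩ := exists_pow_of_mem_sup K hbE
          have e1 : π ((a ^ i)⁻¹ * b ^ p) = 1 := (QuotientGroup.eq_one_iff _).mpr hi
          simp only [map_mul, map_inv, map_pow, inv_mul_eq_one] at e1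
          have hpi : p ∣ i := by
            by_contra hpi
            -- then `b` would centralise `a` modulo the middle of the series
            have h5 : ⁅b, a ^ i⁆ ∈ J := by
              have h6 : ⁅b, (b ^ p) * ((b ^ p)⁻¹ * a ^ i)⁆ ∈ J := by
                have h7 : (b ^ p)⁻¹ * a ^ i ∈ K := by
                  have := inv_mem hi
                  rwa [mul_inv_rev, inv_inv] at this
                rw [commutatorElement_mul_right_eq_mul_conj,
                  (commutatorElement_eq_one_iff_commute).mpr (Commute.self_pow b p), one_mul]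
                exact Normal.conj_mem inferInstance _
                  (hdet J c _ (mem_sup_right (mem_zpowers e)) h7) _
              rwa [mul_inv_cancel_left] at h6
            apply hcJ
            rw [← QuotientGroup.eq_one_iff, ← QuotientGroup.mk'_apply, map_commutatorElement, map_pow]
              at h5
            have hca : ⁅QuotientGroup.mk' J b, QuotientGroup.mk' J a⁆ = QuotientGroup.mk' J c := by
              rw [← map_commutatorElement]
            have hcomm : Commute (QuotientGroup.mk' J a)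
                ⁅QuotientGroup.mk' J b, QuotientGroup.mk' J a⁆ := by
              rw [hca, ← commutatorElement_eq_one_iff_commute, ← map_commutatorElement,
                QuotientGroup.mk'_apply, QuotientGroup.eq_one_iff]
              exact mem_sup_left (comm_mem_frattiniIn hT ha hcE)
            rw [comm_pow_right hcomm, hca, ← map_pow, QuotientGroup.mk'_apply,
              QuotientGroup.eq_one_iff] at h5
            obtain ⟨n, hn⟩ := hT c
            exact Plane.mem_of_pow_mem hn hpi h5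
          rw [← e1]
          exact pow_prime_mul_eq_one (p := p) (by
            rw [← map_pow, hπ, QuotientGroup.mk'_apply, QuotientGroup.eq_one_iff]
            exact (le_sup_left.trans le_sup_left : Φ ≤ K) (pow_mem_frattiniIn hT ha)) hpi
        obtain ⟨i, j, hv⟩ := hform v
        rw [← QuotientGroup.eq_one_iff, ← QuotientGroup.mk'_apply, ← hπ, map_pow, hv,
          (hab.symm.pow_pow i j).mul_pow, ← pow_mul, ← pow_mul, mul_comm i, mul_comm j, pow_mul,
          pow_mul, hbp, one_pow, mul_one, ← map_pow, hπ, QuotientGroup.mk'_apply,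
          (QuotientGroup.eq_one_iff _).mpr ((le_sup_left.trans le_sup_left : Φ ≤ K)
            (pow_mem_frattiniIn hT ha)), one_pow]
    · exact sup_le (sup_le (frattiniIn_le_frattini hT E) (zpowers_le.mpr (comm_mem_frattini hT b c)))
        (zpowers_le.mpr (comm_mem_frattini hT b a))
  refine ⟨hJn, hfrat, hfrat.symm ▸ hEeq, ?_, hfrat.symm ▸ hcK, hfrat.symm ▸ haK⟩
  rw [hfrat, hcK, ← E.index_mul_card, hEi, hcE']
  ring

/-- `[Φ(T), T, T] Φ(T)^p`. -/
def deep (p : ℕ) (T : Type*) [Group T] [Finite T] : Subgroup T :=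
  ⁅⁅frattini T, (⊤ : Subgroup T)⁆, (⊤ : Subgroup T)⁆ ⊔ Cfsg.powerClosure p 1 (frattini T)

instance deep_characteristic (p : ℕ) (T : Type*) [Group T] [Finite T] : (deep p T).Characteristic := by
  refine Subgroup.characteristic_iff_map_eq.mpr fun α => ?_
  rw [deep, Subgroup.map_sup, map_commutator, map_commutator, map_powerClosure_eq,
    Subgroup.characteristic_iff_map_eq.mp (inferInstance : (frattini T).Characteristic) α,
    map_top_of_surjective α.toMonoidHom α.surjective]

omit hp in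
theorem pow_mem_deep {k : T} (hk : k ∈ frattini T) : k ^ p ∈ deep p T :=
  mem_sup_right (pow_mem_powerClosure p hk)

omit hp in
theorem comm_comm_mem_deep {k : T} (hk : k ∈ frattini T) (t s : T) : ⁅⁅k, t⁆, s⁆ ∈ deep p T :=
  mem_sup_left (commutator_mem_commutator (commutator_mem_commutator hk (mem_top t)) (mem_top s))

/-- Relations modulo the characteristic subgroup `deep`, from an automorphism moving `E`. -/
theorem regular_relations [E.Normal] (hp5 : 5 ≤ p) (hT : IsPGroup p T)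
    (hsr : Cfsg.SectionalPRankLE p 3 T) (hEi : E.index = p) (hV : (frattini E).index = p ^ 3)
    {a b : T} (ha : a ∈ E) (hb : b ∉ E) (he : ⁅b, ⁅b, a⁆⁆ ∉ frattiniIn E)
    (he' : ⁅b, ⁅b, ⁅b, a⁆⁆⁆ ∈ frattiniIn E) (σ : MulAut T)
    (hσb : b⁻¹ * σ b ∈ frattini T) (hσa : (a * b)⁻¹ * σ a ∈ frattini T) :
    ⁅⁅b, a⁆, a⁆ ∉ deep p T ∧ deep p T ≤ frattiniIn E ∧
      frattiniIn E = deep p T ⊔ zpowers ⁅⁅b, a⁆, a⁆ ∧
      ∃ k : ℕ, (⁅⁅b, a⁆, a⁆ ^ k)⁻¹ * a ^ p ∈ deep p T ∧
        (⁅⁅b, a⁆, b⁆ ^ k)⁻¹ * b ^ p ∈ deep p T := by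
  obtain ⟨hJn, hK, hEeq, -, hcK, -⟩ := regular_chain hT hEi hV ha hb he he'
  set c := ⁅b, a⁆ with hc
  set e := ⁅b, c⁆ with he0
  set Φ := frattiniIn E with hΦ
  set R := deep p T with hR
  haveI := hJn
  have hKE : frattini T ≤ E := hEeq ▸ le_sup_left
  have hcin : c ∈ frattini T := comm_mem_frattini hT b a
  -- `[Φ(T), T]` lies below `Φ(E)⟨e⟩` and `deep` below `Φ(E)`
  have htop := sup_zpowers_eq_top_of_index hEi hb
  have hcE : c ∈ E := hKE hcin
  have hJ1 : ⁅frattini T, (⊤ : Subgroup T)⁆ ≤ Φ ⊔ zpowers e := by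
    refine commutator_le.mpr fun k hk t _ => ?_
    set π := QuotientGroup.mk' (Φ ⊔ zpowers e) with hπ
    have hπ1 : ∀ x, x ∈ Φ ⊔ zpowers e → π x = 1 := fun x hx => (QuotientGroup.eq_one_iff x).mpr hx
    have hZ : (Φ ⊔ zpowers e) ⊔ zpowers c ≤ (center (T ⧸ (Φ ⊔ zpowers e))).comap π := by
      refine sup_le (fun x hx => ?_) (zpowers_le.mpr ?_)
      · show π x ∈ center _
        rw [hπ1 x hx]; exact one_mem _
      · refine mem_center_iff.mpr fun q => ?_
        obtain ⟨q, rfl⟩ := QuotientGroup.mk'_surjective (Φ ⊔ zpowers e) q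
        have hle : E ⊔ zpowers b ≤ (centralizer {π c}).comap π := by
          refine sup_le (fun v hv => ?_) (zpowers_le.mpr ?_) <;>
            refine mem_centralizer_singleton_iff.mpr ?_
          · exact commutatorElement_eq_one_iff_mul_comm.mp (by
              rw [← map_commutatorElement]
              exact hπ1 _ (mem_sup_left (comm_mem_frattiniIn hT hv hcE)))
          · exact commutatorElement_eq_one_iff_mul_comm.mp (by
              rw [← map_commutatorElement]
              exact hπ1 _ (mem_sup_right (mem_zpowers e)))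
        exact mem_centralizer_singleton_iff.mp (hle (htop ▸ mem_top q))
    rw [← QuotientGroup.eq_one_iff, ← QuotientGroup.mk'_apply, ← hπ, map_commutatorElement,
      commutatorElement_eq_one_iff_mul_comm]
    exact (mem_center_iff.mp (hZ (hK ▸ hk)) _).symm
  have hRΦ : R ≤ Φ := by
    refine sup_le ((commutator_mono hJ1 le_rfl).trans (commutator_le.mpr fun j hj t _ => ?_))
      ((closure_le _).mpr ?_)
    · set π := QuotientGroup.mk' Φ with hπ
      have hπ1 : ∀ x, x ∈ Φ → π x = 1 := fun x hx => (QuotientGroup.eq_one_iff x).mpr hx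
      have heE : e ∈ E := by
        rw [he0, commutatorElement_def]
        exact mul_mem (Normal.conj_mem inferInstance c hcE b) (inv_mem hcE)
      have hle : E ⊔ zpowers b ≤ (centralizer {π e}).comap π := by
        refine sup_le (fun v hv => ?_) (zpowers_le.mpr ?_) <;>
          refine mem_centralizer_singleton_iff.mpr ?_
        · exact commutatorElement_eq_one_iff_mul_comm.mp (by
            rw [← map_commutatorElement]; exact hπ1 _ (comm_mem_frattiniIn hT hv heE))
        · exact commutatorElement_eq_one_iff_mul_comm.mp (by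
            rw [← map_commutatorElement]; exact hπ1 _ he')
      have hJc : Φ ⊔ zpowers e ≤ (centralizer {π t}).comap π := by
        refine sup_le (fun x hx => ?_) (zpowers_le.mpr ?_) <;>
          refine mem_centralizer_singleton_iff.mpr ?_
        · rw [hπ1 x hx, one_mul, mul_one]
        · exact (mem_centralizer_singleton_iff.mp (hle (htop ▸ mem_top t))).symm
      rw [← QuotientGroup.eq_one_iff, ← QuotientGroup.mk'_apply, ← hπ, map_commutatorElement,
        commutatorElement_eq_one_iff_mul_comm]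
      exact mem_centralizer_singleton_iff.mp (hJc hj)
    · rintro _ ⟨k, hk, rfl⟩
      rw [pow_one]
      exact pow_mem_frattiniIn hT (hKE hk)
  -- the quotient by `deep`
  set π := QuotientGroup.mk' R with hπ
  have hπ1 : ∀ x, x ∈ R → π x = 1 := fun x hx => (QuotientGroup.eq_one_iff x).mpr hx
  have hπmem : ∀ x, π x = 1 → x ∈ R := fun x hx => (QuotientGroup.eq_one_iff x).mp hx
  have hJc : ∀ k ∈ frattini T, ∀ t, ⁅π k, π t⁆ ∈ center (T ⧸ R) := fun k hk t => by
    refine mem_center_iff.mpr fun q => ?_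
    obtain ⟨q, rfl⟩ := QuotientGroup.mk'_surjective R q
    exact (commutatorElement_eq_one_iff_mul_comm.mp (by
      rw [← map_commutatorElement, ← map_commutatorElement]
      exact hπ1 _ (comm_comm_mem_deep hk t q))).symm
  have hKexp : ∀ k ∈ frattini T, π k ^ p = 1 := fun k hk => by
    rw [← map_pow]; exact hπ1 _ (pow_mem_deep hk)
  have hKK : ∀ k ∈ frattini T, ∀ l ∈ frattini T, ⁅π k, π l⁆ = 1 := by
    intro k hk
    let C : Subgroup T :=
      { carrier := {t | ⁅π k, π t⁆ = 1}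
        one_mem' := by simp
        mul_mem' := fun {t s} (ht : ⁅π k, π t⁆ = 1) (hs : ⁅π k, π s⁆ = 1) =>
          show ⁅π k, π (t * s)⁆ = 1 by
            rw [map_mul, comm_mul_right_central (by rw [hs]; exact one_mem _), ht, hs, one_mul]
        inv_mem' := fun {t} (ht : ⁅π k, π t⁆ = 1) => show ⁅π k, π t⁻¹⁆ = 1 by
          rw [map_inv, commutatorElement_eq_one_iff_commute]
          exact (commutatorElement_eq_one_iff_commute.mp ht).inv_right }
    refine fun l hl => (frattini_le_of hT (N := C) (fun v w => ?_) fun v => ?_) hl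
    · let φ : T →* center (T ⧸ R) :=
        { toFun := fun t => ⟨⁅π k, π t⁆, hJc k hk t⟩
          map_one' := Subtype.ext (by simp)
          map_mul' := fun t s => Subtype.ext (by
            show ⁅π k, π (t * s)⁆ = ⁅π k, π t⁆ * ⁅π k, π s⁆
            rw [map_mul, comm_mul_right_central (hJc k hk s)]) }
      have h1 : φ ⁅v, w⁆ = 1 := by
        rw [map_commutatorElement, commutatorElement_eq_one_iff_commute]
        exact Subtype.ext ((mem_center_iff.mp (φ v).2 (φ w : T ⧸ R)).symm)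
      exact congrArg Subtype.val h1
    · show ⁅π k, π (v ^ p)⁆ = 1
      rw [map_pow, comm_pow_right (mem_center_iff.mp (hJc k hk v) (π v)),
        ← comm_pow_left (mem_center_iff.mp (hJc k hk v) (π k)), hKexp k hk, commutatorElement_one_left]
  -- the images under `σ`
  have hσR : ∀ x, x ∈ R → σ x ∈ R := fun x hx => by
    have h := mem_map_of_mem σ.toMonoidHom hx
    rwa [hR, Subgroup.characteristic_iff_map_eq.mp (inferInstance : (deep p T).Characteristic) σ] at h
  set j := ⁅π b, π a⁆ with hj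
  set g := ⁅c, a⁆ with hg
  set f := ⁅c, b⁆ with hf
  have hσc : ∃ z ∈ center (T ⧸ R), π (σ c) = π c * z := by
    obtain ⟨kb, hkb, hkb'⟩ : ∃ k ∈ frattini T, σ b = b * k := ⟨_, hσb, by group⟩
    obtain ⟨ka, hka, hka'⟩ : ∃ k ∈ frattini T, σ a = a * b * k := ⟨_, hσa, by group⟩
    set ρ := QuotientGroup.mk' ⁅frattini T, (⊤ : Subgroup T)⁆ with hρ
    have hcen : ∀ k ∈ frattini T, ρ k ∈ center _ := fun k hk => by
      refine mem_center_iff.mpr fun q => ?_
      obtain ⟨q, rfl⟩ := QuotientGroup.mk'_surjective ⁅frattini T, (⊤ : Subgroup T)⁆ q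
      exact (commutatorElement_eq_one_iff_mul_comm.mp (by
        rw [← map_commutatorElement]
        exact (QuotientGroup.eq_one_iff _).mpr (commutator_mem_commutator hk (mem_top q)))).symm
    have h1 : ρ (σ c) = ρ c := by
      rw [hc, map_commutatorElement σ, map_commutatorElement, map_commutatorElement, hkb', hka',
        map_mul ρ b, map_mul ρ (a * b), comm_mul_central_left (hcen kb hkb),
        comm_mul_central_right (hcen ka hka), map_mul, commutatorElement_mul_right_eq_mul_conj,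
        commutatorElement_self, mul_one, mul_inv_cancel_right]
    have h2 : c⁻¹ * σ c ∈ ⁅frattini T, (⊤ : Subgroup T)⁆ := by
      rw [← QuotientGroup.eq]; exact h1.symm
    refine ⟨π (c⁻¹ * σ c), mem_center_iff.mpr fun q => ?_, by rw [← map_mul, mul_inv_cancel_left]⟩
    obtain ⟨q, rfl⟩ := QuotientGroup.mk'_surjective R q
    exact (commutatorElement_eq_one_iff_mul_comm.mp (by
      rw [← map_commutatorElement]
      exact hπ1 _ (mem_sup_left (commutator_mem_commutator h2 (mem_top q))))).symm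
  obtain ⟨z, hz, hzc⟩ := hσc
  have hσg : π (σ g) = π g * π f := by
    obtain ⟨ka, hka, hka'⟩ : ∃ k ∈ frattini T, σ a = a * b * k := ⟨_, hσa, by group⟩
    rw [hg, hf, map_commutatorElement σ c a, map_commutatorElement π (σ c) (σ a),
      map_commutatorElement π c a, map_commutatorElement π c b, hzc, hka', map_mul π (a * b), map_mul π a,
      comm_mul_central_left hz, comm_mul_right_central (by rw [hKK c hcin ka hka]; exact one_mem _),
      hKK c hcin ka hka, mul_one, comm_mul_right_central (hJc c hcin b)]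
  have hfe : f = e⁻¹ := by rw [hf, he0, commutatorElement_inv]
  have hgR : g ∉ R := by
    intro h
    apply he
    have h1 : π (σ g) = 1 := hπ1 _ (hσR g h)
    rw [hσg, hπ1 g h, one_mul] at h1
    have h2 := hRΦ (hπmem f h1)
    rw [hfe] at h2
    simpa using inv_mem h2
  -- counting
  have hKR : Nat.card ↥(frattini T) ≤ p ^ 3 * Nat.card R :=
    section_bound hsr (frattini T) R (hRΦ.trans (frattiniIn_le_frattini hT E))
      (fun k hk l hl => hπmem _ (by rw [map_commutatorElement]; exact hKK k hk l hl))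
      fun k hk => pow_mem_deep hk
  have hgΦ : g ∈ Φ := comm_mem_frattiniIn hT hcE ha
  have hΦeq : Φ = R ⊔ zpowers g := by
    refine (eq_of_le_of_card_ge (sup_le hRΦ (zpowers_le.mpr hgΦ)) ?_).symm
    refine le_trans ?_ (card_lt_sup_zpowers hT R hgR)
    rw [hcK] at hKR
    refine Nat.le_of_mul_le_mul_left ?_ (pow_pos hp.out.pos 2)
    calc p ^ 2 * Nat.card Φ ≤ p ^ 3 * Nat.card R := hKR
      _ = p ^ 2 * (p * Nat.card R) := by ring
  refine ⟨hgR, hRΦ, hΦeq, ?_⟩
  obtain ⟨k, hk⟩ := exists_pow_of_mem_sup R (le_of_eq hΦeq (pow_mem_frattiniIn hT ha))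
  refine ⟨k, hk, ?_⟩
  have hak : π (a ^ p) = π g ^ k := by
    have := hπ1 _ hk
    rw [map_mul, map_inv, inv_mul_eq_one, map_pow π g] at this
    exact this.symm
  -- multiplicativity of the `p`-th power
  have hpow : ∀ x y : T ⧸ R, (x * y) ^ p = x ^ p * y ^ p := by
    refine mul_pow_of_series hp5 (hT.to_quotient R) ((frattini T).map π)
      ((⁅frattini T, (⊤ : Subgroup T)⁆).map π) ?_ ?_ ?_ ?_
    · refine commutator_le.mpr fun x _ y _ => ?_
      obtain ⟨x, rfl⟩ := QuotientGroup.mk'_surjective R x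
      obtain ⟨y, rfl⟩ := QuotientGroup.mk'_surjective R y
      rw [← map_commutatorElement]
      exact mem_map_of_mem _ (comm_mem_frattini hT x y)
    · rw [← map_top_of_surjective π (QuotientGroup.mk'_surjective R), ← map_commutator]
    · rw [map_le_iff_le_comap]
      refine commutator_le.mpr fun k hk t _ => ?_
      show π ⁅k, t⁆ ∈ center _
      rw [map_commutatorElement]
      exact hJc k hk t
    · rintro _ ⟨x, hx, rfl⟩
      exact hKexp x hx
  obtain ⟨ka, hka, hka'⟩ : ∃ k ∈ frattini T, σ a = a * b * k := ⟨_, hσa, by group⟩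
  have hsa : π (σ (a ^ p)) = π a ^ p * π b ^ p := by
    rw [map_pow, map_pow, hka', map_mul, map_mul, hpow, hpow, hKexp ka hka, mul_one]
  have hsg : π (σ (a ^ p)) = π g ^ k * π f ^ k := by
    have h := hπ1 _ (hσR _ hk)
    rw [map_mul, map_mul, map_inv, map_inv, inv_mul_eq_one, map_pow, map_pow, hσg] at h
    rw [← h, Commute.mul_pow]
    exact mem_center_iff.mp (hJc c hcin b |> fun h => by rwa [← map_commutatorElement] at h) _
  rw [hsa, ← map_pow π a, hak, mul_right_inj] at hsg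
  apply hπmem
  rw [map_mul, map_inv, inv_mul_eq_one, map_pow, map_pow]
  exact hsg.symm

set_option maxHeartbeats 400000 in
/-- The relations give a contradiction when some automorphisms of `E` act irreducibly on `E / Φ(E)`. -/
theorem regular_bottom [E.Normal] (hp5 : 5 ≤ p) (hT : IsPGroup p T)
    (hsr : Cfsg.SectionalPRankLE p 3 T) (hEi : E.index = p) (hV : (frattini E).index = p ^ 3)
    (𝒜 : Set (MulAut E))
    (hirr : ∀ U : Subgroup T, frattiniIn E ≤ U → U ≤ E →
      (∀ α ∈ 𝒜, ∀ v : E, (v : T) ∈ U → (α v : T) ∈ U) → U = frattiniIn E ∨ U = E)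
    {a b : T} (ha : a ∈ E) (hb : b ∉ E) (he : ⁅b, ⁅b, a⁆⁆ ∉ frattiniIn E)
    (he' : ⁅b, ⁅b, ⁅b, a⁆⁆⁆ ∈ frattiniIn E) (hgR : ⁅⁅b, a⁆, a⁆ ∉ deep p T)
    (hRΦ : deep p T ≤ frattiniIn E) (hΦeq : frattiniIn E = deep p T ⊔ zpowers ⁅⁅b, a⁆, a⁆)
    {k : ℕ} (hak : (⁅⁅b, a⁆, a⁆ ^ k)⁻¹ * a ^ p ∈ deep p T)
    (hbk : (⁅⁅b, a⁆, b⁆ ^ k)⁻¹ * b ^ p ∈ deep p T) : False := by
  obtain ⟨hJn, hK, hEeq, -, hcK, haK⟩ := regular_chain hT hEi hV ha hb he he'
  set c := ⁅b, a⁆ with hc
  set e := ⁅b, c⁆ with he0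
  set g := ⁅c, a⁆ with hg
  set Φ := frattiniIn E with hΦ
  set R := deep p T with hR
  set X := low p E with hX
  have hp2 : p ≠ 2 := by omega
  have hΦE : Φ ≤ E := frattiniIn_le E
  have hKE : frattini T ≤ E := hEeq ▸ le_sup_left
  have hcin : c ∈ frattini T := comm_mem_frattini hT b a
  have hcE : c ∈ E := hKE hcin
  have heE : e ∈ E := hKE (comm_mem_frattini hT b c)
  have hgΦ : g ∈ Φ := comm_mem_frattiniIn hT hcE ha
  have hXR : X ≤ R := by
    have hR1 : ∀ x : T, x ∈ R → (QuotientGroup.mk' R) x = 1 := fun x hx =>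
      (QuotientGroup.eq_one_iff x).mpr hx
    have hcen : ∀ x ∈ Φ, QuotientGroup.mk' R x ∈ center (T ⧸ R) := by
      have hle : Φ ≤ (center (T ⧸ R)).comap (QuotientGroup.mk' R) := by
        rw [hΦeq]
        refine sup_le (fun x hx => ?_) (zpowers_le.mpr (mem_center_iff.mpr fun q => ?_))
        · show QuotientGroup.mk' R x ∈ center _
          rw [hR1 x hx]; exact one_mem _
        · obtain ⟨q, rfl⟩ := QuotientGroup.mk'_surjective R q
          exact (commutatorElement_eq_one_iff_mul_comm.mp (by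
            rw [← map_commutatorElement]; exact hR1 _ (comm_comm_mem_deep hcin a q))).symm
      exact fun x hx => hle hx
    rw [hX, low, Subgroup.map_sup, map_commutator, Cfsg.Lib.PGroup.Regular.map_powerClosure]
    refine sup_le (commutator_le.mpr fun x hx y _ => ?_) ((closure_le _).mpr ?_)
    · rw [← QuotientGroup.eq_one_iff, ← QuotientGroup.mk'_apply, map_commutatorElement,
        commutatorElement_eq_one_iff_mul_comm]
      exact (mem_center_iff.mp (hcen x hx) _).symm
    · rintro _ ⟨x, hx, rfl⟩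
      rw [pow_one]
      exact pow_mem_deep (frattiniIn_le_frattini hT E hx)
  -- the quotient by `X`
  set π := QuotientGroup.mk' X with hπ
  have hπ1 : ∀ {x}, x ∈ X → π x = 1 := fun {x} hx => (QuotientGroup.eq_one_iff x).mpr hx
  have hπmem : ∀ {x}, π x = 1 → x ∈ X := fun {x} hx => (QuotientGroup.eq_one_iff x).mp hx
  have hΦc : ∀ {x v}, x ∈ Φ → v ∈ E → Commute (π x) (π v) := fun {x v} hx hv =>
    commutatorElement_eq_one_iff_commute.mp (by
      rw [← map_commutatorElement]; exact hπ1 (comm_mem_low hx hv))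
  have hΦp : ∀ {x}, x ∈ Φ → π x ^ p = 1 := fun {x} hx => by
    rw [← map_pow]; exact hπ1 (pow_mem_low hx)
  have hcomm : ∀ {v w}, v ∈ E → w ∈ E → ⁅v, w⁆ ∈ Φ := fun {v w} hv hw => comm_mem_frattiniIn hT hv hw
  have hpow : ∀ {v w}, v ∈ E → w ∈ E → (π v * π w) ^ p = π v ^ p * π w ^ p := fun {v w} hv hw =>
    mul_pow_prime hp2 (by rw [← map_commutatorElement]; exact (hΦc (hcomm hw hv) hv).symm)
      (by rw [← map_commutatorElement]; exact (hΦc (hcomm hw hv) hw).symm)
      (by rw [← map_commutatorElement]; exact hΦp (hcomm hw hv))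
  have hbil : ∀ {u v w}, u ∈ E → v ∈ E → w ∈ E → ⁅π u * π v, π w⁆ = ⁅π u, π w⁆ * ⁅π v, π w⁆ := by
    intro u v w hu hv hw
    rw [commutatorElement_mul_left_eq_conj_mul,
      show ⁅π v, π w⁆ = π ⁅v, w⁆ from (map_commutatorElement π v w).symm, ← (hΦc (hcomm hv hw) hu).eq,
      mul_inv_cancel_right, show ⁅π u, π w⁆ = π ⁅u, w⁆ from (map_commutatorElement π u w).symm]
    exact (hΦc (hcomm hv hw) (hΦE (hcomm hu hw))).eq
  have hbil' : ∀ {u v w}, u ∈ E → v ∈ E → w ∈ E → ⁅π w, π u * π v⁆ = ⁅π w, π u⁆ * ⁅π w, π v⁆ := by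
    intro u v w hu hv hw
    rw [← commutatorElement_inv, hbil hu hv hw, mul_inv_rev, commutatorElement_inv, commutatorElement_inv,
      show ⁅π w, π v⁆ = π ⁅w, v⁆ from (map_commutatorElement π w v).symm,
      show ⁅π w, π u⁆ = π ⁅w, u⁆ from (map_commutatorElement π w u).symm]
    exact (hΦc (hcomm hw hv) (hΦE (hcomm hw hu))).eq
  have heR : ∀ v, ⁅e, v⁆ ∈ R := fun v => by
    have hle : ⁅frattini T, (⊤ : Subgroup T)⁆ ≤ (⊤ : Subgroup T) := le_top
    have he1 : e ∈ ⁅frattini T, (⊤ : Subgroup T)⁆ := by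
      rw [he0, ← commutatorElement_inv]
      exact inv_mem (commutator_mem_commutator hcin (mem_top b))
    exact mem_sup_left (commutator_mem_commutator he1 (mem_top v))
  -- the action of `b`
  set u := MulAut.conj (π b) with hu
  have huπ : ∀ x, u (π x) = π ⁅b, x⁆ * π x := fun x => by
    rw [hu, MulAut.conj_apply, map_commutatorElement, commutatorElement_def, inv_mul_cancel_right]
  have hua : u (π a) = π c * π a := huπ a
  have huc : u (π c) = π e * π c := huπ c
  set ρ := ⁅b, e⁆ with hρ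
  have hρΦ : ρ ∈ Φ := he'
  have hρR : ρ ∈ R := by
    rw [hρ, ← commutatorElement_inv]
    exact inv_mem (heR b)
  have hue : u (π e) = π ρ * π e := huπ e
  set i₁ := ⁅c, e⁆ with hi₁
  set i₂ := ⁅e, a⁆ with hi₂
  have hi₂R : i₂ ∈ R := heR a
  have hi₁R : i₁ ∈ R := by rw [hi₁, ← commutatorElement_inv]; exact inv_mem (heR c)
  have hui₁ : u (π i₁) = π i₁ := by
    rw [hi₁, map_commutatorElement π c e, map_commutatorElement u (π c) (π e), huc, hue,
      ← map_mul π ρ e, hbil heE hcE (mul_mem (hΦE hρΦ) heE), map_mul π ρ e,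
      hbil' (hΦE hρΦ) heE heE, hbil' (hΦE hρΦ) heE hcE, commutatorElement_self,
      commutatorElement_eq_one_iff_commute.mpr (hΦc hρΦ heE).symm,
      commutatorElement_eq_one_iff_commute.mpr (hΦc hρΦ hcE).symm, one_mul, one_mul, one_mul]
  have hui₂ : u (π i₂) = (π i₁)⁻¹ * π i₂ := by
    rw [hi₂, hi₁, map_commutatorElement π e a, map_commutatorElement π c e,
      map_commutatorElement u (π e) (π a), hue, hua,
      ← map_mul π c a, hbil (hΦE hρΦ) heE (mul_mem hcE ha), map_mul π c a,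
      hbil' hcE ha heE, hbil' hcE ha (hΦE hρΦ),
      commutatorElement_eq_one_iff_commute.mpr (hΦc hρΦ hcE),
      commutatorElement_eq_one_iff_commute.mpr (hΦc hρΦ ha), one_mul, one_mul, commutatorElement_inv]
  have hXΦ : X ≤ Φ := low_le p E
  -- the power map
  have hmemX : ∀ α : MulAut E, ∀ v : E, (v : T) ∈ X → (α v : T) ∈ X := fun α v hv =>
    auto_mem _ α v hv
  let U : Subgroup T :=
    { carrier := {v | v ∈ E ∧ π v ^ p = 1}
      one_mem' := ⟨one_mem _, by simp⟩
      mul_mem' := fun {v w} hv hw => ⟨mul_mem hv.1 hw.1, by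
        rw [map_mul, hpow hv.1 hw.1, hv.2, hw.2, one_mul]⟩
      inv_mem' := fun {v} hv => ⟨inv_mem hv.1, by rw [map_inv, inv_pow, hv.2, inv_one]⟩ }
  have hcard : Nat.card Φ ≤ p ^ 3 * Nat.card X :=
    section_bound hsr Φ X hXΦ (fun x hx y hy => hπmem (by
      rw [map_commutatorElement]
      exact commutatorElement_eq_one_iff_commute.mpr (hΦc hx (hΦE hy))))
      fun x hx => hπmem (by rw [map_pow]; exact hΦp hx)
  have hRg : p * Nat.card R ≤ Nat.card Φ := hΦeq ▸ card_lt_sup_zpowers hT R hgR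
  have hgen : ∀ (N : Subgroup T), Φ ≤ N → e ∈ N → c ∈ N → a ∈ N → E ≤ N := fun N h1 h2 h3 h4 => by
    rw [hEeq, hK]
    exact sup_le (sup_le (sup_le h1 (zpowers_le.mpr h2)) (zpowers_le.mpr h3)) (zpowers_le.mpr h4)
  rcases hirr U (fun x hx => ⟨hΦE hx, hΦp hx⟩) (fun v hv => hv.1) (fun α _ v hv => ⟨(α v).2, by
    have h1 : ((v ^ p : E) : T) ∈ X := hπmem (by
      rw [SubmonoidClass.coe_pow, map_pow]; exact hv.2)
    have h2 := hπ1 (hmemX α _ h1)
    rwa [map_pow α, SubmonoidClass.coe_pow, map_pow] at h2⟩) with hU | hU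
  swap
  · -- exponent `p` modulo `X`
    have hexp : ∀ {v}, v ∈ E → π v ^ p = 1 := fun {v} hv => (le_of_eq hU.symm hv).2
    by_cases h2 : π i₂ = 1
    · -- `e` lies in the radical
      have h1 : π i₁ = 1 := by
        have := hui₂
        rw [h2, map_one, mul_one, eq_comm, inv_eq_one] at this
        exact this
      let Rad : Subgroup T :=
        { carrier := {v | v ∈ E ∧ ∀ w ∈ E, Commute (π v) (π w)}
          one_mem' := ⟨one_mem _, fun w _ => by rw [map_one]; exact Commute.one_left _⟩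
          mul_mem' := fun {v v'} hv hv' => ⟨mul_mem hv.1 hv'.1, fun w hw => by
            rw [map_mul]; exact (hv.2 w hw).mul_left (hv'.2 w hw)⟩
          inv_mem' := fun {v} hv => ⟨inv_mem hv.1, fun w hw => by
            rw [map_inv]; exact (hv.2 w hw).inv_left⟩ }
      have heRad : e ∈ Rad := by
        refine ⟨heE, fun w hw => ?_⟩
        have hle : E ≤ (centralizer {π e}).comap π := by
          refine hgen _ (fun x hx => mem_centralizer_singleton_iff.mpr (hΦc hx heE).eq)
            (mem_centralizer_singleton_iff.mpr rfl) (mem_centralizer_singleton_iff.mpr ?_)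
            (mem_centralizer_singleton_iff.mpr ?_)
          · exact commutatorElement_eq_one_iff_mul_comm.mp (by rw [← map_commutatorElement]; exact h1)
          · exact (commutatorElement_eq_one_iff_mul_comm.mp (by rw [← map_commutatorElement]; exact h2)).symm
        exact (mem_centralizer_singleton_iff.mp (hle hw)).symm
      rcases hirr Rad (fun x hx => ⟨hΦE hx, fun w hw => hΦc hx hw⟩) (fun v hv => hv.1)
        (fun α _ v hv => ⟨(α v).2, fun w hw => by
          have h1 : ((⁅v, α⁻¹ ⟨w, hw⟩⁆ : E) : T) ∈ X := hπmem (by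
            rw [show ((⁅v, α⁻¹ ⟨w, hw⟩⁆ : E) : T) = ⁅(v : T), ((α⁻¹ ⟨w, hw⟩ : E) : T)⁆ from rfl,
              map_commutatorElement, commutatorElement_eq_one_iff_commute]
            exact hv.2 _ (α⁻¹ ⟨w, hw⟩).2)
          have h2 := hπ1 (hmemX α _ h1)
          rw [map_commutatorElement α, MulAut.inv_apply, MulEquiv.apply_symm_apply,
            show ((⁅α v, ⟨w, hw⟩⁆ : E) : T) = ⁅((α v : E) : T), w⁆ from rfl, map_commutatorElement,
            commutatorElement_eq_one_iff_commute] at h2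
          exact h2⟩) with h | h
      · exact he (h ▸ heRad)
      · exact hgR (hXR (hπmem (by
          rw [hg, map_commutatorElement, commutatorElement_eq_one_iff_commute]
          exact ((le_of_eq h.symm ha).2 c hcE).symm)))
    · by_cases h1 : π i₁ = 1
      · -- `Φ(T) / X` is elementary abelian of order at least `p ^ 4`
        have hKc : ∀ x ∈ frattini T, ∀ y ∈ frattini T, Commute (π x) (π y) := by
          have hle : ∀ z, z ∈ E → Commute (π z) (π e) → Commute (π z) (π c) →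
              frattini T ≤ (centralizer {π z}).comap π := fun z hz hze hzc => by
            rw [hK]
            exact sup_le (sup_le (fun x hx => mem_centralizer_singleton_iff.mpr (hΦc hx hz).eq)
              (zpowers_le.mpr (mem_centralizer_singleton_iff.mpr hze.symm.eq)))
              (zpowers_le.mpr (mem_centralizer_singleton_iff.mpr hzc.symm.eq))
          have hce : Commute (π c) (π e) :=
            commutatorElement_eq_one_iff_commute.mp (by rw [← map_commutatorElement]; exact h1)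
          have hec : ∀ x ∈ frattini T, Commute (π x) (π e) ∧ Commute (π x) (π c) := fun x hx =>
            ⟨mem_centralizer_singleton_iff.mp (hle e heE (Commute.refl _) hce.symm hx),
              mem_centralizer_singleton_iff.mp (hle c hcE hce (Commute.refl _) hx)⟩
          exact fun x hx y hy =>
            (mem_centralizer_singleton_iff.mp (hle x (hKE hx) (hec x hx).1 (hec x hx).2 hy) :
              Commute (π y) (π x)).symm
        have hb1 := section_bound hsr (frattini T) X (hXΦ.trans (frattiniIn_le_frattini hT E))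
          (fun x hx y hy => hπmem (by
            rw [map_commutatorElement]
            exact commutatorElement_eq_one_iff_commute.mpr (hKc x hx y hy)))
          fun x hx => hπmem (by rw [map_pow]; exact hexp (hKE hx))
        have hXlt : X < R := lt_of_le_of_ne hXR fun h => h2 (hπ1 (h ▸ hi₂R))
        have := card_mul_le_of_lt hT hXlt
        rw [hcK] at hb1
        have hXpos := Nat.card_pos (α := X)
        have h5 := hp.out.two_le
        nlinarith [pow_pos hp.out.pos 3]
      · -- `Φ(E)⟨a⟩ / X` is elementary abelian of order at least `p ^ 4`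
        set X₁ := X ⊔ zpowers i₁ with hX₁
        have hi₂X : i₂ ∉ X₁ := fun h => by
          obtain ⟨m, hm⟩ := exists_pow_of_mem_sup X h
          have e1 := hπ1 hm
          rw [map_mul, map_inv, map_pow, inv_mul_eq_one] at e1
          have := hui₂
          rw [← e1, map_pow, hui₁, eq_comm, mul_eq_right, inv_eq_one] at this
          exact h1 this
        have e1 := card_lt_sup_zpowers hT X (fun h => h1 (hπ1 h) : i₁ ∉ X)
        have e2 := card_mul_le_of_lt hT (lt_of_le_of_ne
          (sup_le hXR (zpowers_le.mpr hi₁R) : X₁ ≤ R) fun h => hi₂X (le_of_eq h.symm hi₂R))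
        have e3 := card_lt_sup_zpowers hT Φ (fun h => haK (frattiniIn_le_frattini hT E h) : a ∉ Φ)
        have hb1 := section_bound hsr (Φ ⊔ zpowers a) X (hXΦ.trans le_sup_left)
          (fun x hx y hy => hπmem (by
            rw [map_commutatorElement, commutatorElement_eq_one_iff_commute]
            have hle : ∀ z, z ∈ E → Commute (π z) (π a) →
                Φ ⊔ zpowers a ≤ (centralizer {π z}).comap π := fun z hz hza =>
              sup_le (fun w hw => mem_centralizer_singleton_iff.mpr (hΦc hw hz).eq)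
                (zpowers_le.mpr (mem_centralizer_singleton_iff.mpr hza.symm.eq))
            exact ((mem_centralizer_singleton_iff.mp (hle x
              (sup_le hΦE (zpowers_le.mpr ha) hx)
              (mem_centralizer_singleton_iff.mp (hle a ha (Commute.refl _) hx)) hy)) :
                Commute (π y) (π x)).symm))
          fun x hx => hπmem (by rw [map_pow]; exact hexp (sup_le hΦE (zpowers_le.mpr ha) hx))
        have hXpos := Nat.card_pos (α := X)
        have h5 := hp.out.two_le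
        nlinarith [pow_pos hp.out.pos 3, pow_pos hp.out.pos 2]
  -- the power map identifies `E / Φ(E)` with `Φ(E) / X`
  let P : ↥E →* T ⧸ X :=
    { toFun := fun v => π v ^ p
      map_one' := by simp
      map_mul' := fun v w => by rw [Subgroup.coe_mul, map_mul, hpow v.2 w.2] }
  have hPker : P.ker = frattini E := by
    ext v
    rw [MonoidHom.mem_ker]
    constructor
    · intro hv
      have : (v : T) ∈ U := ⟨v.2, hv⟩
      rw [hU] at this
      obtain ⟨w, hw, hwv⟩ := this
      rwa [← Subtype.ext hwv]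
    · exact fun hv => hΦp ⟨v, hv, rfl⟩
  have hPle : P.range ≤ Φ.map π := by
    rintro _ ⟨v, rfl⟩
    exact ⟨(v : T) ^ p, pow_mem_frattiniIn hT v.2, map_pow _ _ _⟩
  have hXmap : ∀ N : Subgroup T, X ≤ N → Nat.card N = Nat.card ↥(N.map π) * Nat.card X := by
    intro N hN
    have h1 := (X.subgroupOf N).index_mul_card
    rw [Nat.card_congr (subgroupOfEquivOfLe hN).toEquiv] at h1
    rw [← h1]
    congr 1
    have h2 : (π.comp N.subtype).ker = X.subgroupOf N := by
      rw [← MonoidHom.comap_ker, hπ, QuotientGroup.ker_mk']; rfl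
    rw [← h2, index_ker, MonoidHom.range_comp, range_subtype]
  have hPrange : Nat.card P.range = p ^ 3 := by rw [← index_ker, hPker, hV]
  have hsurj : Φ.map π = P.range := by
    refine (eq_of_le_of_card_ge hPle ?_).symm
    rw [hPrange]
    refine Nat.le_of_mul_le_mul_right ?_ (Nat.card_pos (α := X))
    rw [← hXmap Φ hXΦ]
    exact hcard
  have hΦcard : Nat.card Φ = p ^ 3 * Nat.card X := by rw [hXmap Φ hXΦ, hsurj, hPrange]
  -- `p`-th powers are products of the three commutators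
  set CC := X ⊔ zpowers i₁ ⊔ zpowers i₂ ⊔ zpowers g with hCC
  have hCΦ : CC ≤ Φ :=
    sup_le (sup_le (sup_le hXΦ (zpowers_le.mpr (hcomm hcE heE))) (zpowers_le.mpr (hcomm heE ha)))
      (zpowers_le.mpr hgΦ)
  have hEC : ∀ v ∈ E, ∀ w ∈ E, ⁅π v, π w⁆ ∈ CC.map π := by
    have hstep : ∀ w ∈ E, ⁅π e, π w⁆ ∈ CC.map π → ⁅π c, π w⁆ ∈ CC.map π →
        ⁅π a, π w⁆ ∈ CC.map π → ∀ v ∈ E, ⁅π v, π w⁆ ∈ CC.map π := by
      intro w hw h1 h2 h3 v hv
      let N : Subgroup T :=
        { carrier := {v | v ∈ E ∧ ⁅π v, π w⁆ ∈ CC.map π}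
          one_mem' := ⟨one_mem _, by rw [map_one, commutatorElement_one_left]; exact one_mem _⟩
          mul_mem' := fun {x y} hx hy => ⟨mul_mem hx.1 hy.1, by
            rw [map_mul, hbil hx.1 hy.1 hw]; exact mul_mem hx.2 hy.2⟩
          inv_mem' := fun {x} hx => ⟨inv_mem hx.1, by
            have h := hbil (inv_mem hx.1) hx.1 hw
            rw [← map_mul, inv_mul_cancel, map_one, commutatorElement_one_left] at h
            rw [eq_inv_of_mul_eq_one_left h.symm]
            exact inv_mem hx.2⟩ }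
      exact (hgen N (fun x hx => ⟨hΦE hx, by
        rw [commutatorElement_eq_one_iff_commute.mpr (hΦc hx hw)]; exact one_mem _⟩)
        ⟨heE, h1⟩ ⟨hcE, h2⟩ ⟨ha, h3⟩ hv).2
    have hm : ∀ {x : T}, x ∈ CC → π x ∈ CC.map π := fun {x} hx => mem_map_of_mem π hx
    have hi1' : ⁅π c, π e⁆ ∈ CC.map π := by
      rw [← map_commutatorElement]
      exact hm (mem_sup_left (mem_sup_left (mem_sup_right (mem_zpowers _))))
    have hi2' : ⁅π e, π a⁆ ∈ CC.map π := by
      rw [← map_commutatorElement]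
      exact hm (mem_sup_left (mem_sup_right (mem_zpowers _)))
    have hg' : ⁅π c, π a⁆ ∈ CC.map π := by
      rw [← map_commutatorElement]
      exact hm (mem_sup_right (mem_zpowers _))
    have hflip : ∀ x y : T ⧸ X, ⁅x, y⁆ ∈ CC.map π → ⁅y, x⁆ ∈ CC.map π := fun x y h => by
      rw [← commutatorElement_inv]; exact inv_mem h
    have he1 := hstep e heE (by rw [commutatorElement_self]; exact one_mem _) hi1' (hflip _ _ hi2')
    have hc1 := hstep c hcE (hflip _ _ hi1') (by rw [commutatorElement_self]; exact one_mem _)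
      (hflip _ _ hg')
    have ha1 := hstep a ha hi2' hg' (by rw [commutatorElement_self]; exact one_mem _)
    intro v hv w hw
    exact hstep w hw (hflip _ _ (he1 w hw)) (hflip _ _ (hc1 w hw)) (hflip _ _ (ha1 w hw)) v hv
  set C' := (⁅(⊤ : Subgroup E), (⊤ : Subgroup E)⁆ ⊔
    (⁅frattini E, (⊤ : Subgroup E)⁆ ⊔ Cfsg.powerClosure p 1 (frattini E))).map E.subtype with hC'
  have hC'C : ∀ x ∈ C', π x ∈ CC.map π := by
    have : C' ≤ (CC.map π).comap π := by
      rw [hC', Subgroup.map_sup]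
      refine sup_le ?_ (fun x hx => ?_)
      · rw [map_commutator]
        refine commutator_le.mpr fun v hv w hw => ?_
        rw [mem_comap, map_commutatorElement]
        rw [← MonoidHom.range_eq_map, range_subtype] at hv hw
        exact hEC v hv w hw
      · exact mem_map_of_mem π (mem_sup_left (mem_sup_left (mem_sup_left hx)))
    exact fun x hx => this hx
  haveI : (⁅(⊤ : Subgroup E), (⊤ : Subgroup E)⁆ ⊔
      (⁅frattini E, (⊤ : Subgroup E)⁆ ⊔ Cfsg.powerClosure p 1 (frattini E))).Characteristic := by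
    refine Subgroup.characteristic_iff_map_eq.mpr fun α => ?_
    rw [Subgroup.map_sup, map_commutator, map_top_of_surjective α.toMonoidHom α.surjective,
      Subgroup.characteristic_iff_map_eq.mp (low_characteristic p E) α]
  let U' : Subgroup T :=
    { carrier := {v | v ∈ E ∧ π v ^ p ∈ C'.map π}
      one_mem' := ⟨one_mem _, by rw [map_one, one_pow]; exact one_mem _⟩
      mul_mem' := fun {v w} hv hw => ⟨mul_mem hv.1 hw.1, by
        rw [map_mul, hpow hv.1 hw.1]; exact mul_mem hv.2 hw.2⟩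
      inv_mem' := fun {v} hv => ⟨inv_mem hv.1, by rw [map_inv, inv_pow]; exact inv_mem hv.2⟩ }
  have hXC' : X ≤ C' := map_mono le_sup_right
  have hPU : U' = E := by
    rcases hirr U' (fun x hx => ⟨hΦE hx, by rw [hΦp hx]; exact one_mem _⟩) (fun v hv => hv.1)
      (fun α _ v hv => ⟨(α v).2, by
        obtain ⟨x, hx, hxe⟩ := hv.2
        have h1 : ((v ^ p : E) : T) ∈ C' := by
          have : x⁻¹ * (v : T) ^ p ∈ X := hπmem (by rw [map_mul, map_inv, map_pow, hxe, inv_mul_cancel])
          have h := mul_mem hx (hXC' this)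
          rwa [mul_inv_cancel_left] at h
        have h2 := mem_map_of_mem π (auto_mem _ α _ h1 : _ ∈ C')
        rwa [map_pow α, SubmonoidClass.coe_pow, map_pow] at h2⟩) with h | h
    · exfalso
      obtain ⟨v, hv⟩ : π g ∈ P.range := hsurj ▸ mem_map_of_mem π hgΦ
      have hgC : π g ∈ C'.map π := mem_map_of_mem π ⟨⁅(⟨c, hcE⟩ : E), ⟨a, ha⟩⁆,
        mem_sup_left (commutator_mem_commutator (mem_top _) (mem_top _)), rfl⟩
      have hvU : (v : T) ∈ U' := ⟨v.2, by rw [show π (v : T) ^ p = P v from rfl, hv]; exact hgC⟩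
      rw [h] at hvU
      have : π g = 1 := by rw [← hv]; exact hΦp hvU
      exact hgR (hXR (hπmem this))
    · exact h
  have hΦCC : Φ ≤ CC := by
    intro x hx
    obtain ⟨v, hv⟩ : π x ∈ P.range := hsurj ▸ mem_map_of_mem π hx
    obtain ⟨y, hy, hye⟩ := (le_of_eq hPU.symm v.2).2
    obtain ⟨z, hz, hze⟩ := hC'C y hy
    have h1 : z⁻¹ * x ∈ X := hπmem (by
      rw [map_mul, map_inv, hze, hye, ← hv]; exact inv_mul_cancel _)
    have := mul_mem hz ((le_sup_left.trans (le_sup_left.trans le_sup_left) : X ≤ CC) h1)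
    rwa [mul_inv_cancel_left] at this
  -- independence
  have hi₁Φ : i₁ ∈ Φ := hcomm hcE heE
  have hi₂Φ : i₂ ∈ Φ := hcomm heE ha
  have hgen' : ∀ N : Subgroup T, X ≤ N → i₁ ∈ N → i₂ ∈ N → g ∈ N → Φ ≤ N := fun N h1 h2 h3 h4 =>
    hΦCC.trans (sup_le (sup_le (sup_le h1 (zpowers_le.mpr h2)) (zpowers_le.mpr h3)) (zpowers_le.mpr h4))
  have hco : ∀ x ∈ Φ, ∃ l m n : ℕ, π x = π i₁ ^ l * π i₂ ^ m * π g ^ n := by
    have hc12 : ∀ {x y : T}, x ∈ Φ → y ∈ Φ → Commute (π x) (π y) := fun {x y} hx hy => hΦc hx (hΦE hy)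
    let N : Subgroup T :=
      { carrier := {x | x ∈ Φ ∧ ∃ l m n : ℕ, π x = π i₁ ^ l * π i₂ ^ m * π g ^ n}
        one_mem' := ⟨one_mem _, 0, 0, 0, by simp⟩
        mul_mem' := by
          rintro x y ⟨hx, l, m, n, hxe⟩ ⟨hy, l', m', n', hye⟩
          refine ⟨mul_mem hx hy, l + l', m + m', n + n', ?_⟩
          have e1 := (((hc12 hgΦ hi₁Φ).pow_pow n l').mul_right ((hc12 hgΦ hi₂Φ).pow_pow n m'))
          have e2 := (hc12 hi₂Φ hi₁Φ).pow_pow m l'
          rw [map_mul, hxe, hye]
          calc π i₁ ^ l * π i₂ ^ m * π g ^ n * (π i₁ ^ l' * π i₂ ^ m' * π g ^ n') =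
                π i₁ ^ l * π i₂ ^ m * (π g ^ n * (π i₁ ^ l' * π i₂ ^ m')) * π g ^ n' := by
                simp only [mul_assoc]
            _ = π i₁ ^ l * (π i₂ ^ m * π i₁ ^ l') * π i₂ ^ m' * (π g ^ n * π g ^ n') := by
                rw [e1.eq]; simp only [mul_assoc]
            _ = _ := by rw [e2.eq, pow_add, pow_add, pow_add]; simp only [mul_assoc]
        inv_mem' := by
          rintro x ⟨hx, l, m, n, hxe⟩
          refine ⟨inv_mem hx, l * (p - 1), m * (p - 1), n * (p - 1), ?_⟩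
          have e0 : π x⁻¹ = π x ^ (p - 1) := by
            rw [map_inv, inv_eq_iff_mul_eq_one, ← pow_succ', Nat.sub_add_cancel hp.out.one_le, hΦp hx]
          rw [e0, hxe, ((((hc12 hi₁Φ hgΦ).pow_pow l n).mul_left ((hc12 hi₂Φ hgΦ).pow_pow m n))).mul_pow,
            ((hc12 hi₁Φ hi₂Φ).pow_pow l m).mul_pow, ← pow_mul, ← pow_mul, ← pow_mul] }
    exact fun x hx => (hgen' N (fun y hy => ⟨hXΦ hy, 0, 0, 0, by rw [hπ1 hy]; simp⟩)
      ⟨hi₁Φ, 1, 0, 0, by simp⟩ ⟨hi₂Φ, 0, 1, 0, by simp⟩ ⟨hgΦ, 0, 0, 1, by simp⟩ hx).2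
  have hind : ∀ l m n : ℕ, π i₁ ^ l * π i₂ ^ m * π g ^ n = 1 → p ∣ l ∧ p ∣ m ∧ p ∣ n := by
    let F : Fin p × Fin p × Fin p → ↥(Φ.map π) := fun w =>
      ⟨π i₁ ^ (w.1 : ℕ) * π i₂ ^ (w.2.1 : ℕ) * π g ^ (w.2.2 : ℕ), by
        refine mul_mem (mul_mem ?_ ?_) ?_ <;> rw [← map_pow] <;> exact mem_map_of_mem π (pow_mem ‹_› _)⟩
    have hred : ∀ {x : T}, x ∈ Φ → ∀ l, π x ^ l = π x ^ (l % p) := fun {x} hx l =>
      pow_eq_pow_mod l (hΦp hx)
    have hFs : Function.Surjective F := by
      rintro ⟨y, x, hx, rfl⟩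
      obtain ⟨l, m, n, hxe⟩ := hco x hx
      refine ⟨(⟨l % p, Nat.mod_lt _ hp.out.pos⟩, ⟨m % p, Nat.mod_lt _ hp.out.pos⟩,
        ⟨n % p, Nat.mod_lt _ hp.out.pos⟩), Subtype.ext ?_⟩
      show π i₁ ^ (l % p) * π i₂ ^ (m % p) * π g ^ (n % p) = π x
      rw [hxe, ← hred hi₁Φ, ← hred hi₂Φ, ← hred hgΦ]
    have hFb := hFs.bijective_of_nat_card_le (by
      rw [Nat.card_prod, Nat.card_prod, Nat.card_fin, hsurj, hPrange]
      exact le_of_eq (by ring))
    intro l m n h
    have h0 := hFb.1 (a₁ := (⟨l % p, Nat.mod_lt _ hp.out.pos⟩, ⟨m % p, Nat.mod_lt _ hp.out.pos⟩,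
        ⟨n % p, Nat.mod_lt _ hp.out.pos⟩))
      (a₂ := (⟨0, hp.out.pos⟩, ⟨0, hp.out.pos⟩, ⟨0, hp.out.pos⟩)) (Subtype.ext (by
        show π i₁ ^ (l % p) * π i₂ ^ (m % p) * π g ^ (n % p) = π i₁ ^ 0 * π i₂ ^ 0 * π g ^ 0
        rw [← hred hi₁Φ, ← hred hi₂Φ, ← hred hgΦ, h]; simp))
    simp only [Prod.mk.injEq, Fin.mk.injEq] at h0
    exact ⟨Nat.dvd_of_mod_eq_zero h0.1, Nat.dvd_of_mod_eq_zero h0.2.1, Nat.dvd_of_mod_eq_zero h0.2.2⟩
  have hcoR : ∀ x ∈ R, ∃ l m : ℕ, π x = π i₁ ^ l * π i₂ ^ m := by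
    intro x hx
    obtain ⟨l, m, n, hxe⟩ := hco x (hRΦ hx)
    refine ⟨l, m, ?_⟩
    have h1 : g ^ n ∈ R := by
      have h2 : (i₁ ^ l * i₂ ^ m)⁻¹ * x * (g ^ n)⁻¹ ∈ X := hπmem (by
        simp only [map_mul, map_inv, map_pow, hxe]; group)
      have h3 := hXR h2
      have h4 : (i₁ ^ l * i₂ ^ m)⁻¹ * x ∈ R :=
        mul_mem (inv_mem (mul_mem (pow_mem hi₁R l) (pow_mem hi₂R m))) hx
      simpa using (R.mul_mem_cancel_left h4).mp h3
    have hn : p ∣ n := by
      by_contra hn
      obtain ⟨j, hj⟩ := hT g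
      exact hgR (Plane.mem_of_pow_mem hj hn h1)
    rw [hxe, pow_prime_mul_eq_one (hΦp hgΦ) hn, mul_one]
  have hu₁ : ∀ l, u (π i₁ ^ l) = π i₁ ^ l := fun l => by rw [map_pow, hui₁]
  set Z := zpowers (π i₁) with hZ
  have hc1Φ : ∀ {x : T}, x ∈ Φ → Commute (π i₁) (π x) := fun {x} hx => hΦc hi₁Φ (hΦE hx)
  have huR : ∀ x ∈ R, u (π x) * (π x)⁻¹ ∈ Z := by
    intro x hx
    obtain ⟨l, m, hxe⟩ := hcoR x hx
    have hc12 : Commute (π i₁) (π i₂) := hc1Φ hi₂Φ
    rw [hxe, map_mul, hu₁, map_pow, hui₂, (hc12.inv_left).mul_pow, mul_inv_rev,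
      ← mul_assoc, ← mul_assoc, mul_inv_cancel_right, (hc12.pow_left l).inv_left.eq.symm.trans rfl |> fun h =>
        show π i₁ ^ l * (π i₁)⁻¹ ^ m = (π i₁)⁻¹ ^ m * π i₁ ^ l from
          ((Commute.refl (π i₁)).inv_right.pow_pow l m).eq, mul_inv_cancel_right]
    exact pow_mem (inv_mem (mem_zpowers _)) m
  have hug : u (π g) = (π i₁)⁻¹ * π i₂ * π g := by
    rw [hg, hi₁, hi₂, map_commutatorElement π c a, map_commutatorElement π c e, map_commutatorElement π e a,
      map_commutatorElement u (π c) (π a), huc, hua, ← map_mul π c a, hbil heE hcE (mul_mem hcE ha),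
      map_mul π c a, hbil' hcE ha heE, hbil' hcE ha hcE, commutatorElement_self, one_mul,
      commutatorElement_inv]
  -- the power of `c`
  obtain ⟨la, ma, hra⟩ := hcoR _ hak
  have hap : π a ^ p = π g ^ k * (π i₁ ^ la * π i₂ ^ ma) := by
    rw [← hra, ← map_pow, ← map_pow, ← map_mul, mul_inv_cancel_left]
  have hcp : ∃ z ∈ Z, π c ^ p = z * π i₂ ^ k := by
    have h1 : π c ^ p * π a ^ p = u (π a ^ p) := by rw [map_pow, hua, hpow hcE ha]
    have h2 := huR _ hak
    rw [hra] at h2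
    obtain ⟨z, hz⟩ : ∃ z, z = u (π i₁ ^ la * π i₂ ^ ma) * (π i₁ ^ la * π i₂ ^ ma)⁻¹ := ⟨_, rfl⟩
    rw [← hz] at h2
    have hzc : ∀ {x : T}, x ∈ Φ → Commute z (π x) := fun {x} hx => by
      obtain ⟨j, hj⟩ := h2
      rw [← hj]
      exact (hc1Φ hx).zpow_left j
    refine ⟨(π i₁)⁻¹ ^ k * z, mul_mem (pow_mem (inv_mem (mem_zpowers _)) k) h2, ?_⟩
    have h3 : u (π i₁ ^ la * π i₂ ^ ma) = z * (π i₁ ^ la * π i₂ ^ ma) := by
      rw [hz, inv_mul_cancel_right]
    rw [hap, map_mul, map_pow, hug, h3,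
      ((hΦc hi₁Φ (hΦE hgΦ)).inv_left.mul_left (hΦc hi₂Φ (hΦE hgΦ))).mul_pow,
      (hc1Φ hi₂Φ).inv_left.mul_pow, ← mul_assoc (π c ^ p), ← mul_assoc _ z,
      mul_assoc ((π i₁)⁻¹ ^ k * π i₂ ^ k) (π g ^ k) z, ← ((hzc hgΦ).pow_right k).eq,
      ← mul_assoc _ z, mul_assoc ((π i₁)⁻¹ ^ k) (π i₂ ^ k) z, ← ((hzc hi₂Φ).pow_right k).eq,
      ← mul_assoc ((π i₁)⁻¹ ^ k) z, mul_left_inj, mul_left_inj] at h1
    exact h1
  -- `e ^ p` lies on the line
  have hep : π e ^ p ∈ Z := by
    have h1 : π e ^ p * π c ^ p = u (π (c ^ p)) := by rw [map_pow π, map_pow u, huc, hpow heE hcE]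
    have h2 := huR _ (pow_mem_deep hcin)
    rwa [← h1, map_pow, mul_inv_cancel_right] at h2
  -- the quotient by `X⟨i₁⟩`
  set X₁ := X ⊔ zpowers i₁ with hX₁
  haveI : X₁.Normal := by
    rw [← normalizer_eq_top_iff, eq_top_iff, ← sup_zpowers_eq_top_of_index hEi hb]
    have hmem : ∀ y : T, π y * π i₁ * (π y)⁻¹ = π i₁ → ∀ x ∈ X₁, y * x * y⁻¹ ∈ X₁ := by
      intro y hy x hx
      have hle : X₁ ≤ X₁.comap (MulAut.conj y).toMonoidHom := by
        refine sup_le (fun x hx => mem_sup_left (Normal.conj_mem inferInstance x hx y)) (zpowers_le.mpr ?_)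
        have h1 : (y * i₁ * y⁻¹) * i₁⁻¹ ∈ X := hπmem (by
          simp only [map_mul, map_inv, hy, mul_inv_cancel])
        have h2 := mul_mem (mem_sup_left (T := zpowers i₁) h1) (mem_sup_right (mem_zpowers i₁))
        rw [inv_mul_cancel_right] at h2
        exact h2
      exact hle hx
    refine sup_le (fun v hv => mem_normalizer_fintype (hmem v ?_)) (zpowers_le.mpr
      (mem_normalizer_fintype (hmem b ?_)))
    · rw [← (hΦc hi₁Φ hv).eq, mul_inv_cancel_right]
    · have := hui₁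
      rwa [hu, MulAut.conj_apply] at this
  set q := QuotientGroup.mk' X₁ with hq
  have hq1 : ∀ {x}, x ∈ X₁ → q x = 1 := fun {x} hx => (QuotientGroup.eq_one_iff x).mpr hx
  have hqZ : ∀ {x : T}, π x ∈ Z → q x = 1 := fun {x} hx => by
    obtain ⟨j, hj⟩ := hx
    refine hq1 ?_
    have h1 : (i₁ ^ j)⁻¹ * x ∈ X := hπmem (by rw [map_mul, map_inv, map_zpow, ← hj, inv_mul_cancel])
    have h2 := mul_mem (mem_sup_right (S := X) (zpow_mem (mem_zpowers i₁) j)) (mem_sup_left h1)
    rwa [mul_inv_cancel_left] at h2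
  have hqc : ∀ {x y : T}, π ⁅x, y⁆ ∈ Z → Commute (q x) (q y) := fun {x y} h =>
    commutatorElement_eq_one_iff_commute.mp (by rw [← map_commutatorElement]; exact hqZ h)
  have hqΦ : ∀ {x v}, x ∈ Φ → v ∈ E → Commute (q x) (q v) := fun {x v} hx hv =>
    hqc (by rw [map_commutatorElement, commutatorElement_eq_one_iff_commute.mpr (hΦc hx hv)]; exact one_mem _)
  set w := MulAut.conj (q b) with hw
  have hwq : ∀ x, w (q x) = q ⁅b, x⁆ * q x := fun x => by
    rw [hw, MulAut.conj_apply, map_commutatorElement, commutatorElement_def, inv_mul_cancel_right]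
  have hwρ : w (q ρ) = q ρ := by
    have h1 : π ⁅b, ρ⁆ ∈ Z := by
      have h2 := huR ρ hρR
      rwa [huπ, mul_inv_cancel_right] at h2
    rw [hwq, hqZ h1, one_mul]
  have hqce : Commute (q c) (q e) := hqc (mem_zpowers _)
  have hqce' := hqce
  have hqcρ : Commute (q c) (q ρ) := (hqΦ hρΦ hcE).symm
  have hqeρ : Commute (q e) (q ρ) := (hqΦ hρΦ heE).symm
  have hiter : ∀ n : ℕ, (w ^ n) (q a) = q c ^ n * q e ^ n.choose 2 * q ρ ^ n.choose 3 * q a := by
    intro n
    induction n with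
    | zero => simp
    | succ n ih =>
      rw [pow_succ' w, MulAut.mul_apply, ih, map_mul, map_mul, map_mul, map_pow, map_pow, map_pow,
        show w (q a) = q c * q a from hwq a, show w (q c) = q e * q c from hwq c,
        show w (q e) = q ρ * q e from hwq e, hwρ, hqce.symm.mul_pow, hqeρ.symm.mul_pow,
        Nat.choose_succ_succ' n 1, Nat.choose_one_right, Nat.choose_succ_succ' n 2]
      have key : ∀ i j l m : ℕ, q e ^ i * q c ^ n * (q ρ ^ j * q e ^ l) * q ρ ^ m * (q c * q a) =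
          q c ^ (n + 1) * q e ^ (i + l) * q ρ ^ (j + m) * q a := by
        intro i j l m
        calc q e ^ i * q c ^ n * (q ρ ^ j * q e ^ l) * q ρ ^ m * (q c * q a) =
              q c ^ n * q e ^ i * (q e ^ l * q ρ ^ j) * q ρ ^ m * q c * q a := by
              rw [(hqce.symm.pow_pow i n).eq, (hqeρ.symm.pow_pow j l).eq]; simp only [mul_assoc]
          _ = q c ^ n * ((q e ^ (i + l) * q ρ ^ (j + m)) * q c) * q a := by
              rw [pow_add, pow_add]; simp only [mul_assoc]
          _ = _ := by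
              rw [← ((hqce.pow_right (i + l)).mul_right (hqcρ.pow_right (j + m))).eq, pow_succ]
              simp only [mul_assoc]
      exact key n (n.choose 2) (n.choose 2) (n.choose 3)
  obtain ⟨z, hz, hcz⟩ := hcp
  have hqp : q c ^ p = q i₂ ^ k := by
    rw [← map_pow, ← map_pow, ← mul_inv_eq_one, ← map_inv, ← map_mul]
    exact hqZ (by
      rw [map_mul, map_inv, map_pow, map_pow, hcz, mul_inv_cancel_right]; exact hz)
  have hw1 : (w ^ p) (q a) = q c ^ p * q a := by
    obtain ⟨t2, ht2⟩ := hp.out.dvd_choose_self two_ne_zero (by omega : 2 < p)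
    obtain ⟨t3, ht3⟩ := hp.out.dvd_choose_self (k := 3) (by omega) (by omega : 3 < p)
    rw [hiter, ht2, ht3, pow_mul (q e), pow_mul (q ρ), ← map_pow q e, ← map_pow q ρ,
      hqZ (show π (e ^ p) ∈ Z by rw [map_pow]; exact hep),
      hq1 (show ρ ^ p ∈ X₁ from mem_sup_left (pow_mem_low hρΦ)), one_pow, one_pow, mul_one, mul_one]
  have hw2 : (w ^ p) (q a) = (q i₂)⁻¹ ^ k * q a := by
    have hf : ⁅c, b⁆ = e⁻¹ := by rw [he0, commutatorElement_inv]
    rw [hf] at hbk
    set r := ((e⁻¹) ^ k)⁻¹ * b ^ p with hr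
    have hbp : b ^ p = (e⁻¹) ^ k * r := by rw [hr, mul_inv_cancel_left]
    have hre : Commute (q r) (q a) := hqΦ (hRΦ hbk) ha
    have hea : q ⁅e, a⁆ = q i₂ := rfl
    have hcomm1 : Commute (q e) ⁅q e, q a⁆ := by
      rw [← map_commutatorElement]; exact (hqΦ hi₂Φ heE).symm
    rw [hw, ← map_pow MulAut.conj, ← map_pow q, hbp, map_mul q, map_pow q, map_inv q, MulAut.conj_apply,
      mul_inv_rev, mul_assoc ((q e)⁻¹ ^ k) (q r), hre.eq, ← mul_assoc ((q e)⁻¹ ^ k) (q a),
      ← mul_assoc, mul_inv_cancel_right]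
    have h1 : (q e)⁻¹ ^ k * q a * ((q e)⁻¹ ^ k)⁻¹ = ⁅(q e)⁻¹ ^ k, q a⁆ * q a := by
      rw [commutatorElement_def, inv_mul_cancel_right]
    have h2 : ⁅(q e)⁻¹, q a⁆ = (q i₂)⁻¹ := by
      rw [commutatorElement_inv_left, ← commutatorElement_inv, ← map_commutatorElement, hea, mul_assoc,
        ((hqΦ hi₂Φ heE).inv_left).eq, inv_mul_cancel_left]
    rw [h1, comm_pow_left (by rw [h2]; exact (hcomm1.symm |> fun _ => (hqΦ hi₂Φ heE).symm.inv_left.inv_right)),
      h2]
  have hpk : p ∣ k := by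
    have h1 : q i₂ ^ (2 * k) = 1 := by
      rw [two_mul, pow_add]
      have := hw1.symm.trans hw2
      rw [mul_left_inj, hqp] at this
      nth_rewrite 2 [this]
      rw [inv_pow, mul_inv_cancel]
    rw [← map_pow] at h1
    obtain ⟨j, hj⟩ := exists_pow_of_mem_sup X ((QuotientGroup.eq_one_iff _).mp h1)
    have h2 := hπ1 hj
    rw [map_mul, map_inv, map_pow, map_pow, inv_mul_eq_one] at h2
    have h3 := hind (j * (p - 1)) (2 * k) 0 (by
      rw [pow_zero, mul_one, ← h2, ← pow_add, show j * (p - 1) + j = p * j by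
        rw [Nat.mul_sub, mul_one, Nat.sub_add_cancel (Nat.le_mul_of_pos_right _ hp.out.pos), mul_comm],
        pow_mul, hΦp hi₁Φ, one_pow])
    exact (hp.out.dvd_mul.mp h3.2.1).resolve_left fun h =>
      hp2 ((Nat.prime_dvd_prime_iff_eq hp.out Nat.prime_two).mp h)
  -- all `p`-th powers fall into `R`
  let U₂ : Subgroup T :=
    { carrier := {v | v ∈ E ∧ π v ^ p ∈ R.map π}
      one_mem' := ⟨one_mem _, by rw [map_one, one_pow]; exact one_mem _⟩
      mul_mem' := fun {v v'} hv hv' => ⟨mul_mem hv.1 hv'.1, by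
        rw [map_mul, hpow hv.1 hv'.1]; exact mul_mem hv.2 hv'.2⟩
      inv_mem' := fun {v} hv => ⟨inv_mem hv.1, by rw [map_inv, inv_pow]; exact inv_mem hv.2⟩ }
  have hZR : ∀ {z}, z ∈ Z → z ∈ R.map π := fun {z} hz =>
    zpowers_le.mpr (mem_map_of_mem π hi₁R) hz
  have hEU : E ≤ U₂ := hgen U₂ (fun x hx => ⟨hΦE hx, by rw [hΦp hx]; exact one_mem _⟩)
    ⟨heE, hZR hep⟩ ⟨hcE, by rw [← map_pow]; exact mem_map_of_mem π (pow_mem_deep hcin)⟩
    ⟨ha, by
      rw [hap, pow_prime_mul_eq_one (hΦp hgΦ) hpk, one_mul]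
      exact mul_mem (pow_mem (mem_map_of_mem π hi₁R) _) (pow_mem (mem_map_of_mem π hi₂R) _)⟩
  obtain ⟨v, hv⟩ : π g ∈ P.range := hsurj ▸ mem_map_of_mem π hgΦ
  obtain ⟨x, hx, hxe⟩ := (hEU v.2).2
  refine hgR ?_
  have h1 : x⁻¹ * g ∈ X := hπmem (by rw [map_mul, map_inv, hxe, ← hv]; exact inv_mul_cancel _)
  have := mul_mem hx (hXR h1)
  rwa [mul_inv_cancel_left] at this

/-- The single Jordan block case is impossible. -/
theorem regular_false [E.Normal] (hp5 : 5 ≤ p) (hT : IsPGroup p T)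
    (hsr : Cfsg.SectionalPRankLE p 3 T) (hEi : E.index = p) (hV : (frattini E).index = p ^ 3)
    (hreg : ∀ b : T, b ∉ E → ∃ a ∈ E, ⁅b, ⁅b, a⁆⁆ ∉ frattiniIn E)
    (hnil : ∀ b : T, ∀ a ∈ E, ⁅b, ⁅b, ⁅b, a⁆⁆⁆ ∈ frattiniIn E)
    (𝒜 : Set (MulAut E))
    (hirr : ∀ U : Subgroup T, frattiniIn E ≤ U → U ≤ E →
      (∀ α ∈ 𝒜, ∀ v : E, (v : T) ∈ U → (α v : T) ∈ U) → U = frattiniIn E ∨ U = E)
    (σ : MulAut T) (hσ : ∃ k, σ ^ p ^ k = 1) (hσE : E.map σ.toMonoidHom ≠ E) : False := by
  obtain ⟨b₀, hb₀⟩ : ∃ b₀, b₀ ∉ E := by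
    by_contra h
    push Not at h
    rw [show E = ⊤ from eq_top_iff.mpr fun x _ => h x, index_top] at hEi
    exact hp.out.ne_one hEi.symm
  obtain ⟨a₀, ha₀, he₀⟩ := hreg b₀ hb₀
  obtain ⟨-, -, hEeq, hTK, -, haK₀⟩ := regular_chain hT hEi hV ha₀ hb₀ he₀ (hnil b₀ a₀ ha₀)
  set K := frattini T with hK
  have hKE : K ≤ E := hEeq ▸ le_sup_left
  have hσK : ∀ (τ : MulAut T) {x : T}, x ∈ K → τ x ∈ K := fun τ {x} hx => by
    have h := mem_map_of_mem τ.toMonoidHom hx
    rwa [hK, Subgroup.characteristic_iff_map_eq.mp (inferInstance : (frattini T).Characteristic) τ] at h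
  have hc2 : Nat.card (T ⧸ K) = p ^ 2 := by
    rw [← index_eq_card]
    exact Nat.eq_of_mul_eq_mul_right Nat.card_pos (K.index_mul_card.trans hTK)
  have hexp : ∀ v : T ⧸ K, v ^ p = 1 := fun v => by
    obtain ⟨x, rfl⟩ := QuotientGroup.mk_surjective v
    exact (QuotientGroup.eq_one_iff _).mpr (Cfsg.Lib.PGroup.pow_mem_frattini hT x)
  obtain ⟨k, hk⟩ := hσ
  have hRp : IsPGroup p (zpowers σ) := by
    rintro ⟨x, hx⟩
    obtain ⟨n, rfl⟩ := mem_zpowers_iff.mp hx
    exact ⟨k, Subtype.ext (by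
      simp only [SubmonoidClass.coe_pow, OneMemClass.coe_one]
      rw [← zpow_natCast, ← zpow_mul, mul_comm, zpow_mul, zpow_natCast, hk, one_zpow])⟩
  haveI : Finite (MulAut T) := Finite.of_injective (fun a : MulAut T => (a : T → T))
    DFunLike.coe_injective
  obtain ⟨ε, hε, hfix, htriv⟩ := Plane.unipotent hc2 hexp hRp ((quotAut K).comp (zpowers σ).subtype)
  obtain ⟨b₁, rfl⟩ := QuotientGroup.mk_surjective ε
  have hσb : (σ b₁ : T ⧸ K) = b₁ := hfix ⟨σ, mem_zpowers σ⟩
  have hσv : ∀ v, ∃ i : ℕ, ((σ v * v⁻¹ : T) : T ⧸ K) = (b₁ : T ⧸ K) ^ i := fun v => by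
    obtain ⟨i, hi⟩ := mem_powers_iff_mem_zpowers.mpr (htriv ⟨σ, mem_zpowers σ⟩ (v : T ⧸ K))
    exact ⟨i, by rw [QuotientGroup.mk_mul, QuotientGroup.mk_inv]; exact hi.symm⟩
  have hb₁E : b₁ ∉ E := by
    intro hb
    refine hσE (eq_of_le_of_card_ge ?_ (card_map_of_injective σ.injective).ge)
    rintro _ ⟨v, hv, rfl⟩
    obtain ⟨i, hi⟩ := hσv v
    rw [← QuotientGroup.mk_pow, QuotientGroup.eq] at hi
    have h1 : σ v * v⁻¹ ∈ E := by
      simpa using mul_mem (pow_mem hb i) (inv_mem (hKE hi))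
    simpa using mul_mem h1 hv
  obtain ⟨a, ha, he⟩ := hreg b₁ hb₁E
  obtain ⟨-, -, hEeq', -, -, haK⟩ := regular_chain hT hEi hV ha hb₁E he (hnil b₁ a ha)
  obtain ⟨i, hi⟩ := hσv a
  have hpi : ¬ p ∣ i := by
    intro hpi
    rw [pow_prime_mul_eq_one (hexp _) hpi, QuotientGroup.eq_one_iff] at hi
    refine hσE (eq_of_le_of_card_ge ?_ (card_map_of_injective σ.injective).ge)
    rw [map_le_iff_le_comap]
    refine le_trans (le_of_eq hEeq') (sup_le (fun x hx => ?_) (zpowers_le.mpr ?_))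
    · exact hKE (hσK σ hx)
    · show σ a ∈ E
      simpa using mul_mem (hKE hi) ha
  obtain ⟨m, hm⟩ := Plane.exists_mul_modEq hpi 1
  -- replace `σ` by a power
  have hcommK : ∀ x y : T ⧸ K, x * y = y * x := Plane.comm hc2
  have hpw : ∀ n : ℕ, (((σ ^ n) b₁ : T) : T ⧸ K) = b₁ ∧
      (((σ ^ n) a : T) : T ⧸ K) = (a : T ⧸ K) * (b₁ : T ⧸ K) ^ (i * n) := by
    have hq : ∀ x, ((σ x : T) : T ⧸ K) = quotAut K σ (x : T ⧸ K) := fun x => rfl
    intro n
    induction n with
    | zero => simp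
    | succ n ih =>
      simp only [pow_succ' σ, MulAut.mul_apply, hq, ih.1, ih.2, map_mul, map_pow]
      rw [← hq b₁, hσb, ← hq a]
      refine ⟨rfl, ?_⟩
      have h1 : (σ a : T ⧸ K) = (b₁ : T ⧸ K) ^ i * (a : T ⧸ K) := by
        rw [← hi, QuotientGroup.mk_mul, QuotientGroup.mk_inv, inv_mul_cancel_right]
      rw [h1, hcommK _ (a : T ⧸ K), mul_assoc, ← pow_add, mul_add, mul_one, add_comm]
  set σ' := σ ^ m with hσ'
  have hσ'b : b₁⁻¹ * σ' b₁ ∈ K := by
    rw [← QuotientGroup.eq]; exact (hpw m).1.symm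
  have hσ'a : (a * b₁)⁻¹ * σ' a ∈ K := by
    rw [← QuotientGroup.eq, QuotientGroup.mk_mul, (hpw m).2, Plane.pow_eq_pow_of_modEq (hexp _) hm,
      pow_one]
  obtain ⟨hgR, hRΦ, hΦeq, k', hak, hbk⟩ :=
    regular_relations hp5 hT hsr hEi hV ha hb₁E he (hnil b₁ a ha) σ' hσ'b hσ'a
  exact regular_bottom hp5 hT hsr hEi hV 𝒜 hirr ha hb₁E he (hnil b₁ a ha) hgR hRΦ hΦeq hak hbk

end Cfsg.Lib.FusionSys.RankThree
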