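import Cfsg.Agent.Lib.FusionSys.RankThreeTools
import Mathlib.Tactic.LinearCombination

/-!
# An elementary abelian group of order `p ^ 4` inside a group of order `p ^ 5` with a torus
-/

set_option linter.style.haveILetI false
set_option autoImplicit false

namespace Cfsg.Lib.FusionSys.RankThree

open Subgroup
open scoped commutatorElement

variable {p : ℕ} [hp : Fact p.Prime] {Q : Type*} [Group Q] [Finite Q]

/-- Pairwise commuting elements of order `p`, each outside the group of the previous ones, span an elementary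
abelian group of order at least `p ^ 4`. -/
theorem elementary_four (hQ : IsPGroup p Q) {w x y z : Q} (hw : w ≠ 1) (hx : x ∉ zpowers w)
    (hy : y ∉ zpowers w ⊔ zpowers x) (hz : z ∉ zpowers w ⊔ zpowers x ⊔ zpowers y)
    (hwx : Commute w x) (hwy : Commute w y) (hwz : Commute w z) (hxy : Commute x y) (hxz : Commute x z)
    (hyz : Commute y z) (hwp : w ^ p = 1) (hxp : x ^ p = 1) (hyp : y ^ p = 1) (hzp : z ^ p = 1) :
    ∃ L : Subgroup Q, p ^ 4 ≤ Nat.card L ∧ (∀ u ∈ L, ∀ v ∈ L, Commute u v) ∧ ∀ u ∈ L, u ^ p = 1 := by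
  set L := zpowers w ⊔ zpowers x ⊔ zpowers y ⊔ zpowers z with hL
  have hgen : ∀ u : Q, Commute w u → Commute x u → Commute y u → Commute z u →
      L ≤ centralizer {u} := fun u h1 h2 h3 h4 =>
    sup_le (sup_le (sup_le (zpowers_le.mpr (mem_centralizer_singleton_iff.mpr h1.eq))
      (zpowers_le.mpr (mem_centralizer_singleton_iff.mpr h2.eq)))
      (zpowers_le.mpr (mem_centralizer_singleton_iff.mpr h3.eq)))
      (zpowers_le.mpr (mem_centralizer_singleton_iff.mpr h4.eq))
  have hc : ∀ u ∈ L, ∀ v ∈ L, Commute u v := by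
    intro u hu v hv
    have h1 := fun r (hr : Commute w r ∧ Commute x r ∧ Commute y r ∧ Commute z r) =>
      (mem_centralizer_singleton_iff.mp (hgen r hr.1 hr.2.1 hr.2.2.1 hr.2.2.2 hv) : Commute v r).symm
    exact mem_centralizer_singleton_iff.mp (hgen v (h1 w ⟨Commute.refl _, hwx.symm, hwy.symm, hwz.symm⟩)
      (h1 x ⟨hwx, Commute.refl _, hxy.symm, hxz.symm⟩) (h1 y ⟨hwy, hxy, Commute.refl _, hyz.symm⟩)
      (h1 z ⟨hwz, hxz, hyz, Commute.refl _⟩) hu)
  refine ⟨L, ?_, hc, fun u hu => ?_⟩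
  · have h1 := card_lt_sup_zpowers hQ ⊥ (v := w) (fun h => hw (mem_bot.mp h))
    rw [bot_sup_eq, card_bot, mul_one] at h1
    have h2 := (Nat.mul_le_mul_left p h1).trans (card_lt_sup_zpowers hQ _ hx)
    have h3 := (Nat.mul_le_mul_left p h2).trans (card_lt_sup_zpowers hQ _ hy)
    have h4 := (Nat.mul_le_mul_left p h3).trans (card_lt_sup_zpowers hQ _ hz)
    calc p ^ 4 = p * (p * (p * p)) := by ring
      _ ≤ _ := h4
  · let E : Subgroup Q :=
      { carrier := {u | u ∈ L ∧ u ^ p = 1}
        one_mem' := ⟨one_mem _, one_pow p⟩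
        mul_mem' := fun {u v} hu hv => ⟨mul_mem hu.1 hv.1, by
          rw [(hc u hu.1 v hv.1).mul_pow, hu.2, hv.2, one_mul]⟩
        inv_mem' := fun {u} hu => ⟨inv_mem hu.1, by rw [inv_pow, hu.2, inv_one]⟩ }
    have hle : L ≤ E := sup_le (sup_le (sup_le
      (zpowers_le.mpr ⟨mem_sup_left (mem_sup_left (mem_sup_left (mem_zpowers w))), hwp⟩)
      (zpowers_le.mpr ⟨mem_sup_left (mem_sup_left (mem_sup_right (mem_zpowers x))), hxp⟩))
      (zpowers_le.mpr ⟨mem_sup_left (mem_sup_right (mem_zpowers y)), hyp⟩))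
      (zpowers_le.mpr ⟨mem_sup_right (mem_zpowers z), hzp⟩)
    exact (hle hu).2

set_option maxHeartbeats 400000 in
/-- The elementary abelian subgroup of order `p ^ 4`. -/
theorem exists_elementary (hp5 : 5 ≤ p) (hQ : IsPGroup p Q) (A B C Z X : Q) (s l l' : ℕ)
    (hll : (l : ZMod p) * (l' : ZMod p) = 1)
    (hl : ∀ j ∈ ({1, 2, 3, 5} : Set ℕ), (l : ZMod p) ^ j ≠ 1)
    (hZ : ⁅B, A⁆ = Z) (hZ1 : Z ≠ 1) (hC : C ∉ zpowers Z) (hB : B ∉ zpowers Z ⊔ zpowers C)
    (hA : A ∉ zpowers Z ⊔ zpowers C ⊔ zpowers B)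
    (hCA : Commute C A) (hCB : Commute C B) (hCZ : Commute C Z) (hZA : Commute Z A) (hZB : Commute Z B)
    (hAp : A ^ p = 1) (hBp : B ^ p = 1) (hCp : C ^ p = 1) (hZp : Z ^ p = 1)
    (hX : X ∉ zpowers Z ⊔ zpowers C ⊔ zpowers B ⊔ zpowers A)
    (hXp : X ^ p ∈ zpowers Z ⊔ zpowers C ⊔ zpowers B ⊔ zpowers A)
    (hgen : zpowers Z ⊔ zpowers C ⊔ zpowers B ⊔ zpowers A ⊔ zpowers X = ⊤)
    (hXC : ⁅X, C⁆ ∈ zpowers Z) (hXB : ⁅X, B⁆ ∈ zpowers Z ⊔ zpowers C)
    (hXA : (B ^ s)⁻¹ * ⁅X, A⁆ ∈ zpowers Z ⊔ zpowers C)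
    (Ψ : MulAut Q) (hΨC : Ψ C = C) (hΨZ : Ψ Z = Z ^ l)
    (hΨB : (B ^ (l * l))⁻¹ * Ψ B ∈ zpowers Z)
    (hΨX : (X ^ (l * l * l))⁻¹ * Ψ X ∈ zpowers Z ⊔ zpowers C ⊔ zpowers B ⊔ zpowers A) :
    ∃ L : Subgroup Q, p ^ 4 ≤ Nat.card L ∧ (∀ u ∈ L, ∀ v ∈ L, Commute u v) ∧ ∀ u ∈ L, u ^ p = 1 := by
  set H := zpowers Z ⊔ zpowers C with hH
  set P₀ := H ⊔ zpowers B with hP₀
  set T' := P₀ ⊔ zpowers A with hT'
  set k := l * l * l with hk
  have hHc : ∀ y : Q, Commute Z y → Commute C y → ∀ h ∈ H, Commute h y := by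
    intro y h1 h2 h hh
    have hle : H ≤ centralizer {y} := sup_le (zpowers_le.mpr (mem_centralizer_singleton_iff.mpr h1.eq))
      (zpowers_le.mpr (mem_centralizer_singleton_iff.mpr h2.eq))
    exact mem_centralizer_singleton_iff.mp (hle hh)
  have hHA : ∀ h ∈ H, Commute h A := hHc A hZA hCA
  have hHB : ∀ h ∈ H, Commute h B := hHc B hZB hCB
  -- `X` centralises `Z`
  obtain ⟨hA0, hhA, hhAe⟩ : ∃ h, h ∈ H ∧ ⁅X, A⁆ = B ^ s * h := ⟨_, hXA, (mul_inv_cancel_left _ _).symm⟩
  have hXcA : X * A * X⁻¹ = B ^ s * hA0 * A := by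
    rw [← hhAe, commutatorElement_def, inv_mul_cancel_right]
  have hXcB : X * B * X⁻¹ = ⁅X, B⁆ * B := by rw [commutatorElement_def, inv_mul_cancel_right]
  have hXZ : Commute X Z := by
    have h1 : X * Z * X⁻¹ = Z := by
      have h0 : X * Z * X⁻¹ = ⁅X * B * X⁻¹, X * A * X⁻¹⁆ := by
        rw [← MulAut.conj_apply, ← MulAut.conj_apply, ← MulAut.conj_apply, ← map_commutatorElement, hZ]
      rw [h0, hXcA, hXcB, mul_assoc (B ^ s), (hHA _ hhA).eq, ← mul_assoc (B ^ s)]
      have c1 : Commute ⁅X, B⁆ (B ^ s * A * hA0) :=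
        (((hHB _ hXB).pow_right s).mul_right (hHA _ hXB)).mul_right
          ((hHc hA0 ((hHc Z (Commute.refl Z) hCZ) _ hhA).symm
            ((hHc C hCZ.symm (Commute.refl C)) _ hhA).symm) _ hXB)
      have c2 : Commute B hA0 := (hHB _ hhA).symm
      rw [commutatorElement_mul_left_eq_conj_mul,
        show ⁅⁅X, B⁆, B ^ s * A * hA0⁆ = 1 from commutatorElement_eq_one_iff_commute.mpr c1, mul_one,
        commutatorElement_mul_right_eq_mul_conj, commutatorElement_eq_one_iff_commute.mpr c2, mul_one,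
        mul_inv_cancel_right, commutatorElement_mul_right_eq_mul_conj,
        commutatorElement_eq_one_iff_commute.mpr ((Commute.refl B).pow_right s), one_mul, hZ]
      have c3 : Commute ⁅X, B⁆ (B ^ s * Z * (B ^ s)⁻¹) := by
        rw [((hZB.pow_right s).symm).eq, mul_inv_cancel_right]
        exact (hHc Z (Commute.refl Z) hCZ) _ hXB
      rw [c3.eq, mul_inv_cancel_right, ((hZB.pow_right s).symm).eq, mul_inv_cancel_right]
    exact mul_inv_eq_iff_eq_mul.mp h1
  have htop : ∀ y : Q, Commute Z y → Commute C y → Commute B y → Commute A y → Commute X y →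
      y ∈ center Q := by
    intro y h1 h2 h3 h4 h5
    refine mem_center_iff.mpr fun g => ?_
    have hle : zpowers Z ⊔ zpowers C ⊔ zpowers B ⊔ zpowers A ⊔ zpowers X ≤ centralizer {y} :=
      sup_le (sup_le (sup_le (sup_le (zpowers_le.mpr (mem_centralizer_singleton_iff.mpr h1.eq))
        (zpowers_le.mpr (mem_centralizer_singleton_iff.mpr h2.eq)))
        (zpowers_le.mpr (mem_centralizer_singleton_iff.mpr h3.eq)))
        (zpowers_le.mpr (mem_centralizer_singleton_iff.mpr h4.eq)))
        (zpowers_le.mpr (mem_centralizer_singleton_iff.mpr h5.eq))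
    rw [hgen] at hle
    exact mem_centralizer_singleton_iff.mp (hle (mem_top g))
  have hZc : zpowers Z ≤ center Q :=
    zpowers_le.mpr (htop Z (Commute.refl _) hCZ hZB.symm hZA.symm hXZ)
  have hZcy : ∀ y : Q, Commute Z y := fun y => (mem_center_iff.mp (hZc (mem_zpowers Z)) y).symm
  -- `X` centralises `C`
  obtain ⟨β, hβ⟩ := mem_powers_iff_mem_zpowers.mpr hXC
  have hτC : ∀ τ ∈ T', Commute τ C := by
    have hle : T' ≤ centralizer {C} :=
      sup_le (sup_le (sup_le (zpowers_le.mpr (mem_centralizer_singleton_iff.mpr hCZ.symm.eq))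
        (zpowers_le.mpr (mem_centralizer_singleton_iff.mpr rfl)))
        (zpowers_le.mpr (mem_centralizer_singleton_iff.mpr hCB.symm.eq)))
        (zpowers_le.mpr (mem_centralizer_singleton_iff.mpr hCA.symm.eq))
    exact fun τ hτ => mem_centralizer_singleton_iff.mp (hle hτ)
  obtain ⟨τ, hτ, hΨXe⟩ : ∃ τ, τ ∈ T' ∧ Ψ X = X ^ k * τ := ⟨_, hΨX, (mul_inv_cancel_left _ _).symm⟩
  have hl0 : (l : ZMod p) ≠ 0 := fun h => one_ne_zero (α := ZMod p) (by rw [← hll, h, zero_mul])
  have hXC' : Commute X C := by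
    have hc : Commute X ⁅X, C⁆ := by
      rw [← hβ]; exact (hZcy X).symm.pow_right β
    have h1 : Z ^ (β * k) = Z ^ (β * l) := by
      have e1 : Ψ ⁅X, C⁆ = ⁅X, C⁆ ^ k := by
        rw [map_commutatorElement, hΨXe, hΨC, commutatorElement_mul_left_eq_conj_mul,
          commutatorElement_eq_one_iff_commute.mpr (hτC τ hτ), mul_one, mul_inv_cancel, one_mul,
          comm_pow_left hc]
      rw [← hβ, map_pow, hΨZ, ← pow_mul, ← pow_mul, mul_comm l] at e1
      exact e1.symm
    rw [← commutatorElement_eq_one_iff_commute, ← hβ]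
    refine pow_prime_mul_eq_one hZp ?_
    have h2 := (pow_eq_pow_iff_modEq.mp h1).of_dvd (dvd_of_eq (orderOf_eq_prime hZp hZ1).symm)
    rw [← ZMod.natCast_eq_natCast_iff] at h2
    rw [← ZMod.natCast_eq_zero_iff]
    rw [hk] at h2
    push_cast at h2
    have h3 : (β : ZMod p) * ((l : ZMod p) * ((l : ZMod p) ^ 2 - 1)) = 0 := by linear_combination h2
    exact (mul_eq_zero.mp h3).resolve_right
      (mul_ne_zero hl0 (sub_ne_zero.mpr (hl 2 (by simp))))
  have hHX : ∀ h ∈ H, Commute h X := hHc X hXZ.symm hXC'.symm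
  have hHcen : H ≤ center Q := fun h hh => htop h ((hHc Z (Commute.refl Z) hCZ) h hh).symm
    ((hHc C hCZ.symm (Commute.refl C)) h hh).symm (hHB h hh).symm (hHA h hh).symm (hHX h hh).symm
  -- the commutator with `B` lies on the centre line
  have hXB' : ⁅X, B⁆ ∈ zpowers Z := by
    haveI : (zpowers Z).Normal := ⟨fun v hv g => by
      rw [mem_center_iff.mp (hZc hv) g, mul_inv_cancel_right]; exact hv⟩
    set q := QuotientGroup.mk' (zpowers Z) with hq
    have hq1 : ∀ {v}, v ∈ zpowers Z → q v = 1 := fun {v} hv => (QuotientGroup.eq_one_iff v).mpr hv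
    obtain ⟨m, hm⟩ := exists_pow_of_mem_sup (zpowers Z) hXB
    have hm' : q ⁅X, B⁆ = q C ^ m := by
      have := hq1 hm
      rw [map_mul, map_inv, inv_mul_eq_one, map_pow] at this
      exact this.symm
    have hc : Commute X ⁅X, B⁆ := (hHX _ hXB).symm
    have hτB : q ⁅τ, B ^ (l * l)⁆ = 1 := by
      have hle : T' ≤ (centralizer {q B}).comap q := by
        refine sup_le (sup_le (sup_le (zpowers_le.mpr ?_) (zpowers_le.mpr ?_)) (zpowers_le.mpr ?_))
          (zpowers_le.mpr ?_) <;> refine mem_centralizer_singleton_iff.mpr ?_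
        · exact (hZB.map q).eq
        · exact (hCB.map q).eq
        · rfl
        · refine (commutatorElement_eq_one_iff_mul_comm.mp ?_).symm
          rw [← map_commutatorElement, hZ]; exact hq1 (mem_zpowers Z)
      rw [map_commutatorElement, map_pow, commutatorElement_eq_one_iff_commute]
      exact Commute.pow_right (mem_centralizer_singleton_iff.mp (hle hτ)) _
    have e1 : q (Ψ ⁅X, B⁆) = q ⁅X, B⁆ ^ (k * (l * l)) := by
      rw [map_commutatorElement, map_commutatorElement q,
        show Ψ B = B ^ (l * l) * ((B ^ (l * l))⁻¹ * Ψ B) from (mul_inv_cancel_left _ _).symm,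
        map_mul q (B ^ (l * l)), hq1 hΨB, mul_one, hΨXe, map_mul q,
        commutatorElement_mul_left_eq_conj_mul, ← map_commutatorElement q τ, hτB, mul_one, mul_inv_cancel,
        one_mul, map_pow, map_pow,
        comm_pow_left (by
          rw [← map_pow, ← map_commutatorElement, comm_pow_right (hHB _ hXB).symm]
          exact (hc.pow_right _).map q),
        comm_pow_right (by rw [← map_commutatorElement]; exact ((hHB _ hXB).symm).map q),
        ← map_commutatorElement, ← pow_mul, mul_comm]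
    have e2 : q (Ψ ⁅X, B⁆) = q C ^ m := by
      rw [show ⁅X, B⁆ = C ^ m * ((C ^ m)⁻¹ * ⁅X, B⁆) from (mul_inv_cancel_left _ _).symm, map_mul Ψ,
        map_pow, hΨC, map_mul q, map_pow]
      refine mul_eq_left.mpr (hq1 ?_)
      obtain ⟨r, hr⟩ := hm
      rw [← hr]
      show Ψ (Z ^ r) ∈ zpowers Z
      rw [map_zpow, hΨZ]
      exact zpow_mem (pow_mem (mem_zpowers Z) l) r
    rw [e2, hm', ← pow_mul] at e1
    have hqC : q C ≠ 1 := fun h => hC ((QuotientGroup.eq_one_iff C).mp h)
    have hqCp : q C ^ p = 1 := by rw [← map_pow, hCp, map_one]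
    have h2 := (pow_eq_pow_iff_modEq.mp e1).of_dvd (dvd_of_eq (orderOf_eq_prime hqCp hqC).symm)
    rw [← ZMod.natCast_eq_natCast_iff] at h2
    rw [hk] at h2
    push_cast at h2
    have h3 : (m : ZMod p) * ((l : ZMod p) ^ 5 - 1) = 0 := by linear_combination -h2
    have hm0 := (mul_eq_zero.mp h3).resolve_right (sub_ne_zero.mpr (hl 5 (by simp)))
    rw [← QuotientGroup.eq_one_iff, ← QuotientGroup.mk'_apply, ← hq, hm']
    exact pow_prime_mul_eq_one hqCp ((ZMod.natCast_eq_zero_iff _ _).mp hm0)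
  obtain ⟨i, hi⟩ := mem_powers_iff_mem_zpowers.mpr hXB'
  set Y := X * A ^ i with hY
  have hYB : Commute Y B := by
    rw [← commutatorElement_eq_one_iff_commute, hY, commutatorElement_mul_left_eq_conj_mul,
      comm_pow_left (by rw [← commutatorElement_inv, hZ]; exact hZA.symm.inv_right),
      ← commutatorElement_inv, hZ, ← hi, inv_pow,
      ← (((hZcy X).pow_left i).inv_left).eq, mul_inv_cancel_right, inv_mul_cancel]
  have hYC : Commute Y C := hXC'.mul_left (hCA.symm.pow_left i)
  have hYZ : Commute Y Z := (hZcy Y).symm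
  have hYT : Y ∉ T' := fun h => hX (by
    have := mul_mem h (inv_mem (pow_mem (mem_sup_right (S := P₀) (mem_zpowers A)) i))
    rwa [hY, mul_inv_cancel_right] at this)
  -- the `p`-th power
  haveI hP₀n : P₀.Normal := by
    have hconj : ∀ g ∈ ({Z, C, B, A, X} : Set Q), g ∈ normalizer (P₀ : Set Q) := by
      intro g hg
      refine mem_normalizer_fintype fun v hv => ?_
      have hle : P₀ ≤ P₀.comap (MulAut.conj g).toMonoidHom := by
        refine sup_le (fun h hh => ?_) (zpowers_le.mpr ?_)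
        · show g * h * g⁻¹ ∈ P₀
          rw [mem_center_iff.mp (hHcen hh) g, mul_inv_cancel_right]
          exact mem_sup_left hh
        · show g * B * g⁻¹ ∈ P₀
          have e1 : g * B * g⁻¹ = ⁅g, B⁆ * B := by rw [commutatorElement_def, inv_mul_cancel_right]
          rw [e1]
          refine mul_mem (mem_sup_left (mem_sup_left ?_)) (mem_sup_right (mem_zpowers B))
          rcases hg with rfl | rfl | rfl | rfl | rfl
          · rw [commutatorElement_eq_one_iff_commute.mpr hZB]; exact one_mem _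
          · rw [commutatorElement_eq_one_iff_commute.mpr hCB]; exact one_mem _
          · rw [commutatorElement_self]; exact one_mem _
          · rw [← commutatorElement_inv, hZ]; exact inv_mem (mem_zpowers Z)
          · exact hXB'
      exact hle hv
    rw [← normalizer_eq_top_iff, eq_top_iff, ← hgen]
    exact sup_le (sup_le (sup_le (sup_le (zpowers_le.mpr (hconj Z (by simp)))
      (zpowers_le.mpr (hconj C (by simp)))) (zpowers_le.mpr (hconj B (by simp))))
      (zpowers_le.mpr (hconj A (by simp)))) (zpowers_le.mpr (hconj X (by simp)))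
  have hZB' : zpowers Z ≤ H := le_sup_left
  have hcP : commutator Q ≤ P₀ := by
    set q := QuotientGroup.mk' P₀ with hq
    have hq1 : ∀ {v}, v ∈ P₀ → q v = 1 := fun {v} hv => (QuotientGroup.eq_one_iff v).mpr hv
    have hAX : Commute (q X) (q A) := commutatorElement_eq_one_iff_commute.mp (by
      rw [← map_commutatorElement, hhAe]
      exact hq1 (mul_mem (pow_mem (mem_sup_right (mem_zpowers B)) s) (mem_sup_left hhA)))
    have hc : ∀ g, q g ∈ center (Q ⧸ P₀) := by
      have hle : zpowers Z ⊔ zpowers C ⊔ zpowers B ⊔ zpowers A ⊔ zpowers X ≤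
          (centralizer {q A}).comap q ⊓ (centralizer {q X}).comap q := by
        refine sup_le (sup_le (fun v hv => ?_) (zpowers_le.mpr ?_)) (zpowers_le.mpr ?_)
        · refine ⟨mem_centralizer_singleton_iff.mpr ?_, mem_centralizer_singleton_iff.mpr ?_⟩ <;>
            rw [hq1 hv, one_mul, mul_one]
        · exact ⟨mem_centralizer_singleton_iff.mpr rfl, mem_centralizer_singleton_iff.mpr hAX.symm.eq⟩
        · exact ⟨mem_centralizer_singleton_iff.mpr hAX.eq, mem_centralizer_singleton_iff.mpr rfl⟩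
      rw [hgen] at hle
      intro g
      refine mem_center_iff.mpr fun w => ?_
      obtain ⟨w, rfl⟩ := QuotientGroup.mk'_surjective P₀ w
      have hg : zpowers Z ⊔ zpowers C ⊔ zpowers B ⊔ zpowers A ⊔ zpowers X ≤
          (centralizer {q g}).comap q := by
        refine sup_le (sup_le (fun v hv => ?_) (zpowers_le.mpr ?_)) (zpowers_le.mpr ?_) <;>
          refine mem_centralizer_singleton_iff.mpr ?_
        · rw [hq1 hv, one_mul, mul_one]
        · exact (mem_centralizer_singleton_iff.mp (hle (mem_top g)).1).symm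
        · exact (mem_centralizer_singleton_iff.mp (hle (mem_top g)).2).symm
      rw [hgen] at hg
      exact mem_centralizer_singleton_iff.mp (hg (mem_top w))
    refine commutator_le.mpr fun u _ v _ => ?_
    rw [← QuotientGroup.eq_one_iff, ← QuotientGroup.mk'_apply, map_commutatorElement,
      commutatorElement_eq_one_iff_mul_comm]
    exact (mem_center_iff.mp (hc u) _).symm
  have hPQ : ⁅P₀, (⊤ : Subgroup Q)⁆ ≤ zpowers Z := by
    haveI : (zpowers Z).Normal := ⟨fun v hv g => by
      rw [mem_center_iff.mp (hZc hv) g, mul_inv_cancel_right]; exact hv⟩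
    set q := QuotientGroup.mk' (zpowers Z) with hq
    have hle : P₀ ≤ (center (Q ⧸ zpowers Z)).comap q := by
      refine sup_le (fun h hh => mem_center_iff.mpr fun w => ?_)
        (zpowers_le.mpr (mem_center_iff.mpr fun w => ?_)) <;>
        obtain ⟨w, rfl⟩ := QuotientGroup.mk'_surjective (zpowers Z) w <;> rw [← map_mul, ← map_mul]
      · exact congrArg q (mem_center_iff.mp (hHcen hh) w)
      · have hg : zpowers Z ⊔ zpowers C ⊔ zpowers B ⊔ zpowers A ⊔ zpowers X ≤
            (centralizer {q B}).comap q := by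
          refine sup_le (sup_le (sup_le (sup_le (zpowers_le.mpr ?_) (zpowers_le.mpr ?_))
            (zpowers_le.mpr ?_)) (zpowers_le.mpr ?_)) (zpowers_le.mpr ?_) <;>
            refine mem_centralizer_singleton_iff.mpr ?_
          · exact (hZB.map q).eq
          · exact (hCB.map q).eq
          · rfl
          all_goals
            refine commutatorElement_eq_one_iff_mul_comm.mp ?_
            rw [← map_commutatorElement, hq, QuotientGroup.mk'_apply, QuotientGroup.eq_one_iff]
          · rw [← commutatorElement_inv, hZ]; exact inv_mem (mem_zpowers Z)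
          · exact hXB'
        rw [hgen] at hg
        rw [map_mul, map_mul]
        exact mem_centralizer_singleton_iff.mp (hg (mem_top w))
    refine commutator_le.mpr fun u hu v _ => ?_
    rw [← QuotientGroup.eq_one_iff, ← QuotientGroup.mk'_apply, map_commutatorElement,
      commutatorElement_eq_one_iff_mul_comm]
    exact (mem_center_iff.mp (hle hu) _).symm
  have hexpP : ∀ v ∈ P₀, v ^ p = 1 := by
    intro v hv
    let M : Subgroup Q :=
      { carrier := {v | v ∈ P₀ ∧ v ^ p = 1}
        one_mem' := ⟨one_mem _, one_pow p⟩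
        mul_mem' := fun {u w} hu hw => ⟨mul_mem hu.1 hw.1, by
          have hle : P₀ ≤ centralizer {w} := by
            have hwH : ∀ h ∈ H, Commute h w := fun h hh => (mem_center_iff.mp (hHcen hh) w).symm
            have hwB : Commute B w := by
              have hle : P₀ ≤ centralizer {B} := sup_le
                (fun h hh => mem_centralizer_singleton_iff.mpr (hHB h hh).eq)
                (zpowers_le.mpr (mem_centralizer_singleton_iff.mpr rfl))
              exact (mem_centralizer_singleton_iff.mp (hle hw.1) : Commute w B).symm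
            exact sup_le (fun h hh => mem_centralizer_singleton_iff.mpr (hwH h hh).eq)
              (zpowers_le.mpr (mem_centralizer_singleton_iff.mpr hwB.eq))
          rw [(show Commute u w from mem_centralizer_singleton_iff.mp (hle hu.1)).mul_pow, hu.2, hw.2,
            one_mul]⟩
        inv_mem' := fun {u} hu => ⟨inv_mem hu.1, by rw [inv_pow, hu.2, inv_one]⟩ }
    exact ((sup_le (sup_le (zpowers_le.mpr ⟨mem_sup_left (mem_sup_left (mem_zpowers Z)), hZp⟩)
      (zpowers_le.mpr ⟨mem_sup_left (mem_sup_right (mem_zpowers C)), hCp⟩))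
      (zpowers_le.mpr ⟨mem_sup_right (mem_zpowers B), hBp⟩) : P₀ ≤ M) hv).2
  have hpow := mul_pow_of_series hp5 hQ P₀ (zpowers Z) hcP hPQ hZc hexpP
  have hexpT : ∀ v ∈ T', v ^ p = 1 := by
    intro v hv
    obtain ⟨j, hj⟩ := exists_pow_of_mem_sup P₀ hv
    rw [show v = A ^ j * ((A ^ j)⁻¹ * v) from (mul_inv_cancel_left _ _).symm, hpow, hexpP _ hj,
      ← pow_mul, mul_comm, pow_mul, hAp, one_pow, one_mul]
  set w := X ^ p with hw
  have hΨw : Ψ w = w ^ k := by
    rw [hw, map_pow, hΨXe, hpow, hexpT τ hτ, mul_one, ← pow_mul, ← pow_mul, mul_comm]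
  have hwB : Commute w B := by
    have h1 : Y ^ p = w := by rw [hY, hpow, ← pow_mul, mul_comm, pow_mul, hAp, one_pow, mul_one, hw]
    rw [← h1]
    exact hYB.pow_left p
  -- the eigenvalue `k` does not occur below
  have hwP : w ∈ P₀ := by
    obtain ⟨j, hj⟩ := exists_pow_of_mem_sup P₀ hXp
    have hj' : p ∣ j := by
      have h1 : Commute (A ^ j) B := by
        have hPB : P₀ ≤ centralizer {B} := sup_le
          (fun h hh => mem_centralizer_singleton_iff.mpr (hHB h hh).eq)
          (zpowers_le.mpr (mem_centralizer_singleton_iff.mpr rfl))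
        have h2 : Commute ((A ^ j)⁻¹ * w) B := mem_centralizer_singleton_iff.mp (hPB hj)
        have h3 := hwB.mul_left h2.inv_left
        rwa [mul_inv_rev, mul_inv_cancel_left, inv_inv] at h3
      have h4 : Z⁻¹ ^ j = 1 := by
        have h6 := commutatorElement_eq_one_iff_commute.mpr h1
        rwa [comm_pow_left (by rw [← commutatorElement_inv, hZ]; exact hZA.symm.inv_right),
          ← commutatorElement_inv, hZ] at h6
      rw [inv_pow, inv_eq_one] at h4
      rw [← orderOf_eq_prime hZp hZ1]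
      exact orderOf_dvd_of_pow_eq_one h4
    obtain ⟨t, rfl⟩ := hj'
    rw [pow_mul, hAp, one_pow, inv_one, one_mul] at hj
    exact hj
  have hνw : (w ^ k)⁻¹ * Ψ w = 1 := by rw [hΨw, inv_mul_cancel]
  have hΨH : ∀ v ∈ H, Ψ v ∈ H := by
    have hle : H ≤ H.comap Ψ.toMonoidHom := sup_le (zpowers_le.mpr (show Ψ Z ∈ H by
      rw [hΨZ]; exact mem_sup_left (pow_mem (mem_zpowers Z) l))) (zpowers_le.mpr (show Ψ C ∈ H by
      rw [hΨC]; exact mem_sup_right (mem_zpowers C)))
    exact fun v hv => hle hv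
  have hΨZm : ∀ v ∈ zpowers Z, Ψ v ∈ zpowers Z := by
    rintro _ ⟨r, rfl⟩
    show Ψ (Z ^ r) ∈ _
    rw [map_zpow, hΨZ]
    exact zpow_mem (pow_mem (mem_zpowers Z) l) r
  haveI hHn : H.Normal := ⟨fun v hv g => by
    rw [mem_center_iff.mp (hHcen hv) g, mul_inv_cancel_right]; exact hv⟩
  haveI hZn : (zpowers Z).Normal := ⟨fun v hv g => by
    rw [mem_center_iff.mp (hZc hv) g, mul_inv_cancel_right]; exact hv⟩
  have hkl : ((k : ℕ) : ZMod p) = (l : ZMod p) ^ 3 := by rw [hk]; push_cast; ring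
  have hcomH : ∀ u ∈ H, ∀ v : Q, ⁅u, v⁆ = 1 := fun u hu v =>
    commutatorElement_eq_one_iff_mul_comm.mpr (mem_center_iff.mp (hHcen hu) v).symm
  have hwH : w ∈ H := by
    refine eigen_mem Ψ (μ := l * l) (ν := k) (by rw [hexpP w hwP]; exact one_mem _) ?_
      (by rw [hνw]; exact one_mem _) ?_
    · refine scalar_of_gen Ψ (l * l) hΨH (fun u hu v hv => ?_) ((H : Set Q) ∪ {B}) ?_ ?_ ?_ w hwP
      · obtain ⟨r, hr⟩ := exists_pow_of_mem_sup H hu
        obtain ⟨r', hr'⟩ := exists_pow_of_mem_sup H hv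
        have e : ⁅u, v⁆ = 1 := by
          rw [show u = B ^ r * ((B ^ r)⁻¹ * u) from (mul_inv_cancel_left _ _).symm,
            show v = B ^ r' * ((B ^ r')⁻¹ * v) from (mul_inv_cancel_left _ _).symm,
            comm_mul_central_left (hHcen hr), comm_mul_central_right (hHcen hr'),
            commutatorElement_eq_one_iff_commute.mpr ((Commute.refl B).pow_pow r r')]
        rw [e]; exact one_mem _
      · exact sup_le (fun v hv => subset_closure (Or.inl hv)) (zpowers_le.mpr (subset_closure (Or.inr rfl)))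
      · rintro v (hv | rfl)
        exacts [mem_sup_left hv, mem_sup_right (mem_zpowers _)]
      · rintro v (hv | rfl)
        exacts [mul_mem (inv_mem (pow_mem hv _)) (hΨH v hv), mem_sup_left hΨB]
    · rw [hkl]; push_cast
      intro h
      refine hl 1 (by simp) (mul_left_cancel₀ (mul_ne_zero hl0 hl0) ?_)
      rw [mul_one, pow_one]; linear_combination -h
  have hwZ : w ∈ zpowers Z := by
    refine eigen_mem Ψ (μ := 1) (ν := k) (by rw [hexpP w hwP]; exact one_mem _) ?_
      (by rw [hνw]; exact one_mem _) (by rw [hkl, Nat.cast_one]; exact (hl 3 (by simp)).symm)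
    refine scalar_of_gen Ψ 1 hΨZm (fun u hu v _ => by rw [hcomH u hu v]; exact one_mem _)
      ((zpowers Z : Set Q) ∪ {C}) ?_ ?_ ?_ w hwH
    · exact sup_le (fun v hv => subset_closure (Or.inl hv)) (zpowers_le.mpr (subset_closure (Or.inr rfl)))
    · rintro v (hv | rfl)
      exacts [mem_sup_left hv, mem_sup_right (mem_zpowers _)]
    · rintro v (hv | rfl)
      · rw [pow_one]; exact mul_mem (inv_mem hv) (hΨZm v hv)
      · rw [pow_one, hΨC, inv_mul_cancel]; exact one_mem _
  have hw1 : w = 1 := by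
    obtain ⟨r, hr⟩ := mem_powers_iff_mem_zpowers.mpr hwZ
    rw [← hr, map_pow, hΨZ, ← pow_mul, ← pow_mul] at hΨw
    have h2 := (pow_eq_pow_iff_modEq.mp hΨw).of_dvd (dvd_of_eq (orderOf_eq_prime hZp hZ1).symm)
    rw [← ZMod.natCast_eq_natCast_iff, Nat.cast_mul, Nat.cast_mul, hkl] at h2
    have h3 : (r : ZMod p) * ((l : ZMod p) * ((l : ZMod p) ^ 2 - 1)) = 0 := by linear_combination -h2
    have hr0 := (mul_eq_zero.mp h3).resolve_right
      (mul_ne_zero hl0 (sub_ne_zero.mpr (hl 2 (by simp))))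
    rw [← hr]
    exact pow_prime_mul_eq_one hZp ((ZMod.natCast_eq_zero_iff _ _).mp hr0)
  have hYp : Y ^ p = 1 := by
    rw [hY, hpow, ← hw, hw1, ← pow_mul, mul_comm, pow_mul, hAp, one_pow, one_mul]
  exact elementary_four hQ hZ1 hC hB (fun h => hYT (mem_sup_left h)) hCZ.symm hZB hYZ.symm hCB hYC.symm
    hYB.symm hZp hCp hBp hYp

end Cfsg.Lib.FusionSys.RankThree
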