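import Cfsg.Agent.Lib.FusionSys.RankThreeTransvection
import Cfsg.Agent.Lib.FusionSys.RankThreeSection

/-!
# Essential subgroups of rank three: the section above the normalizer
-/

set_option linter.style.haveILetI false
set_option autoImplicit false

namespace Cfsg.Lib.FusionSys.RankThree

open Subgroup
open scoped commutatorElement

variable {p : ℕ} [hp : Fact p.Prime]

omit hp in
/-- Sectional rank passes to embedded groups. -/
theorem sectional_of_injective {G M : Type*} [Group G] [Group M] {k : ℕ}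
    (h : Cfsg.SectionalPRankLE p k G) (ι : M →* G) (hι : Function.Injective ι) :
    Cfsg.SectionalPRankLE p k M := by
  intro H N _ A hA hAp
  let e := H.equivMapOfInjective ι hι
  haveI : (N.map e.toMonoidHom).Normal := Subgroup.Normal.map inferInstance _ e.surjective
  let e' := QuotientGroup.congr N (N.map e.toMonoidHom) e rfl
  have h1 := h (H.map ι) (N.map e.toMonoidHom) (A.map e'.toMonoidHom)
    (Subgroup.map_isMulCommutative _ _) (by rintro _ ⟨a, ha, rfl⟩; rw [← map_pow, hAp a ha, map_one])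
  rwa [← Nat.card_congr (A.equivMapOfInjective e'.toMonoidHom e'.injective).toEquiv] at h1

variable {T M : Type*} [Group T] [Finite T] [Group M] [Finite M] {E : Subgroup T}

/-- All `p`-th powers of `T` lie in `Φ(E)`. -/
theorem TransvData.pow_mem [E.Normal] {a b c : T} (D : TransvData p E a b c) (hp2 : p ≠ 2)
    (hbp : b ^ p ∈ frattiniIn E) (hJ : frattini T = frattiniIn E ⊔ zpowers ⁅b, a⁆) (v : T) :
    v ^ p ∈ frattiniIn E := by
  set π := QuotientGroup.mk' (frattiniIn E) with hπ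
  have h1 : ∀ x y : T, Commute (π x) ⁅π y, π x⁆ := fun x y =>
    ((commutatorElement_eq_one_iff_commute.mp (by
      rw [← map_commutatorElement, ← map_commutatorElement]
      exact (QuotientGroup.eq_one_iff _).mpr (D.comm_mem (mem_sup_left
        (hJ ▸ comm_mem_frattini D.pgroup y x)) x))) : Commute ⁅π y, π x⁆ (π x)).symm
  have h1' : ∀ x y : T, Commute (π y) ⁅π y, π x⁆ := fun x y =>
    ((commutatorElement_eq_one_iff_commute.mp (by
      rw [← map_commutatorElement, ← map_commutatorElement]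
      exact (QuotientGroup.eq_one_iff _).mpr (D.comm_mem (mem_sup_left
        (hJ ▸ comm_mem_frattini D.pgroup y x)) y))) : Commute ⁅π y, π x⁆ (π y)).symm
  have h2 : ∀ x y : T, ⁅π y, π x⁆ ^ p = 1 := fun x y => by
    rw [← map_commutatorElement, ← map_pow]
    exact (QuotientGroup.eq_one_iff _).mpr
      (pow_mem_frattiniIn D.pgroup (D.J_le (hJ ▸ comm_mem_frattini D.pgroup y x)))
  let U : Subgroup T :=
    { carrier := {x | π x ^ p = 1}
      one_mem' := by simp
      mul_mem' := fun {x y} (hx : π x ^ p = 1) (hy : π y ^ p = 1) => show π (x * y) ^ p = 1 by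
        rw [map_mul, mul_pow_prime hp2 (h1 x y) (h1' x y) (h2 x y), hx, hy, one_mul]
      inv_mem' := fun {x} (hx : π x ^ p = 1) => show π x⁻¹ ^ p = 1 by
        rw [map_inv, inv_pow, hx, inv_one] }
  have hU : E ⊔ zpowers b ≤ U := by
    refine sup_le (fun x hx => ?_) (zpowers_le.mpr ?_)
    · show π x ^ p = 1
      rw [← map_pow]; exact (QuotientGroup.eq_one_iff _).mpr (pow_mem_frattiniIn D.pgroup hx)
    · show π b ^ p = 1
      rw [← map_pow]; exact (QuotientGroup.eq_one_iff _).mpr hbp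
  have h3 : π v ^ p = 1 := hU ((sup_zpowers_eq_top_of_index D.index_eq D.hb).symm ▸ mem_top v)
  rw [← map_pow] at h3
  exact (QuotientGroup.eq_one_iff _).mp h3

/-- An element `x` over `T` moving `E` and normalized by the torus gives an elementary section of order `p ^ 4`. -/
theorem section_false [E.Normal] {a b c : T} (D : TransvData p E a b c) {ψ : MulAut T} {l l' : ℕ}
    (H : TorusData p E a b c ψ l l') (hp5 : 5 ≤ p) (hψb : (b ^ (l * l))⁻¹ * ψ b ∈ frattini T)
    (hbp : b ^ p ∈ frattiniIn E) (hJ : frattini T = frattiniIn E ⊔ zpowers ⁅b, a⁆)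
    (hH : ∀ (τ : MulAut T) (v : T), v ∈ frattiniIn E ⊔ zpowers ⁅b, a⁆ ⊔ zpowers c →
      τ v ∈ frattiniIn E ⊔ zpowers ⁅b, a⁆ ⊔ zpowers c)
    (σ : MulAut T) (hσb : b⁻¹ * σ b ∈ frattiniIn E ⊔ zpowers ⁅b, a⁆ ⊔ zpowers c)
    (hσc : c⁻¹ * σ c ∈ frattiniIn E ⊔ zpowers ⁅b, a⁆)
    {s : ℕ} (hσa : (a * b ^ s)⁻¹ * σ a ∈ frattiniIn E ⊔ zpowers ⁅b, a⁆ ⊔ zpowers c)
    (hM : IsPGroup p M) (hsr : Cfsg.SectionalPRankLE p 3 M) (j : T →* M) (hj : Function.Injective j)
    (x : M) (hx : x ∉ j.range) (hxp : x ^ p ∈ j.range) (htop : j.range ⊔ zpowers x = ⊤)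
    (hxσ : ∀ t, x * j t * x⁻¹ = j (σ t)) (Ψ : MulAut M) (hΨ : ∀ t, Ψ (j t) = j (ψ t))
    (hΨx : (x ^ (l * l * l))⁻¹ * Ψ x ∈ j.range) : False := by
  have hp2 : p ≠ 2 := by omega
  set Φ := frattiniIn E with hΦ
  set e := ⁅b, a⁆ with he
  haveI hJn := D.sup_normal (le_sup_left : Φ ≤ Φ ⊔ zpowers e) le_sup_left
  haveI hHn := D.sup_normal (le_sup_left.trans le_sup_left : Φ ≤ Φ ⊔ zpowers e ⊔ zpowers c) le_rfl
  -- `σ` keeps `Φ(E)`
  have hσΦ : ∀ v ∈ Φ, σ v ∈ Φ := by
    set π := QuotientGroup.mk' Φ with hπ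
    have hcen : ∀ v ∈ Φ ⊔ zpowers e ⊔ zpowers c, ∀ t, Commute (π (σ v)) (π t) := fun v hv t =>
      commutatorElement_eq_one_iff_commute.mp (by
        rw [← map_commutatorElement]
        exact (QuotientGroup.eq_one_iff _).mpr (D.comm_mem (hH σ v hv) t))
    have hcE : ∀ v ∈ E, ∀ w ∈ E, Commute (π (σ v)) (π (σ w)) := by
      have hle : ∀ w, Commute (π (σ a)) (π (σ w)) → E ≤ (centralizer {π (σ w)}).comap
          (π.comp σ.toMonoidHom) := fun w hw =>
        le_trans (le_of_eq D.card_H.2.2) (sup_le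
          (fun v hv => mem_centralizer_singleton_iff.mpr (hcen v hv _).eq)
          (zpowers_le.mpr (mem_centralizer_singleton_iff.mpr hw.eq)))
      intro v hv w hw
      have h1 : Commute (π (σ w)) (π (σ a)) :=
        mem_centralizer_singleton_iff.mp (hle a (Commute.refl _) hw)
      exact mem_centralizer_singleton_iff.mp (hle w h1.symm hv)
    refine frattiniIn_le_of (N := Φ.comap σ.toMonoidHom) D.pgroup (fun v hv w hw => ?_) fun v _ => ?_
    · show σ ⁅v, w⁆ ∈ Φ
      rw [map_commutatorElement, ← QuotientGroup.eq_one_iff, ← QuotientGroup.mk'_apply, ← hπ,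
        map_commutatorElement, commutatorElement_eq_one_iff_commute]
      exact hcE v hv w hw
    · show σ (v ^ p) ∈ Φ
      rw [map_pow]
      exact D.pow_mem hp2 hbp hJ _
  set N := Φ.map j with hN
  haveI hNn : N.Normal := by
    rw [← normalizer_eq_top_iff, eq_top_iff, ← htop]
    refine sup_le ?_ (zpowers_le.mpr (mem_normalizer_fintype ?_))
    · rintro _ ⟨t, rfl⟩
      refine mem_normalizer_fintype ?_
      rintro _ ⟨v, hv, rfl⟩
      exact ⟨t * v * t⁻¹, (frattiniIn_normal E).conj_mem v hv t, by simp⟩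
    · rintro _ ⟨v, hv, rfl⟩
      exact ⟨σ v, hσΦ v hv, (hxσ v).symm⟩
  set q := QuotientGroup.mk' N with hq
  set π := q.comp j with hπ
  have hπ1 : ∀ {t}, π t = 1 ↔ t ∈ Φ := fun {t} => by
    rw [hπ, MonoidHom.comp_apply, hq, QuotientGroup.mk'_apply, QuotientGroup.eq_one_iff, hN]
    exact mem_map_iff_mem hj
  have hmem : ∀ {U : Subgroup T}, Φ ≤ U → ∀ {t}, π t ∈ U.map π → t ∈ U := fun {U} hU {t} ht => by
    rw [← mem_comap, comap_map_eq, sup_eq_left.mpr (fun v hv => hU (hπ1.mp hv))] at ht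
    exact ht
  have hΦmap : Φ.map π = ⊥ := (Subgroup.map_eq_bot_iff _).mpr fun t ht => hπ1.mpr ht
  have hJmap : (Φ ⊔ zpowers e).map π = zpowers (π e) := by
    rw [Subgroup.map_sup, hΦmap, bot_sup_eq, MonoidHom.map_zpowers]
  have hHmap : (Φ ⊔ zpowers e ⊔ zpowers c).map π = zpowers (π e) ⊔ zpowers (π c) := by
    rw [Subgroup.map_sup, hJmap, MonoidHom.map_zpowers]
  have hHbmap : (Φ ⊔ zpowers e ⊔ zpowers c ⊔ zpowers b).map π =
      zpowers (π e) ⊔ zpowers (π c) ⊔ zpowers (π b) := by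
    rw [Subgroup.map_sup, hHmap, MonoidHom.map_zpowers]
  have hTmap : π.range = zpowers (π e) ⊔ zpowers (π c) ⊔ zpowers (π b) ⊔ zpowers (π a) := by
    rw [← hHbmap, ← MonoidHom.map_zpowers, ← Subgroup.map_sup, MonoidHom.range_eq_map]
    congr 1
    refine (eq_top_iff.mpr ?_).symm
    rw [← sup_zpowers_eq_top_of_index D.index_eq D.hb]
    refine sup_le (le_trans (le_of_eq D.card_H.2.2) (sup_le ?_ le_sup_right))
      (le_trans le_sup_right le_sup_left)
    exact le_trans le_sup_left le_sup_left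
  have hmemrange : ∀ {g : M}, g ∈ j.range → q g ∈ π.range := by
    rintro _ ⟨t, rfl⟩
    exact ⟨t, rfl⟩
  have hcomm : ∀ {v w}, ⁅v, w⁆ ∈ Φ → Commute (π v) (π w) := fun {v w} h =>
    commutatorElement_eq_one_iff_commute.mp (by rw [← map_commutatorElement]; exact hπ1.mpr h)
  have hexp : ∀ v, π v ^ p = 1 := fun v => by rw [← map_pow]; exact hπ1.mpr (D.pow_mem hp2 hbp hJ v)
  have hXc : ∀ t, ⁅q x, π t⁆ = π (σ t * t⁻¹) := fun t => by
    rw [commutatorElement_def, map_mul, map_inv, hπ, MonoidHom.comp_apply, MonoidHom.comp_apply,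
      ← hxσ, map_mul, map_mul, map_inv]
  -- the quotient by the hyperplane is abelian
  set r := QuotientGroup.mk' (Φ ⊔ zpowers e ⊔ zpowers c) with hr
  have hr1 : ∀ {t}, t ∈ Φ ⊔ zpowers e ⊔ zpowers c → r t = 1 := fun {t} ht =>
    (QuotientGroup.eq_one_iff t).mpr ht
  have hrc : ∀ v w, Commute (r v) (r w) := fun v w => commutatorElement_eq_one_iff_commute.mp (by
    rw [← map_commutatorElement]
    exact hr1 (mem_sup_left (hJ ▸ comm_mem_frattini D.pgroup v w)))
  let Ψ' : MulAut (M ⧸ N) := QuotientGroup.congr N N Ψ (by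
    refine eq_of_le_of_card_ge ?_ (card_map_of_injective Ψ.injective).ge
    rintro _ ⟨_, ⟨v, hv, rfl⟩, rfl⟩
    exact ⟨ψ v, frattiniIn_apply D.pgroup ψ H.map_E v hv, (hΨ v).symm⟩)
  have hΨπ : ∀ t, Ψ' (π t) = π (ψ t) := fun t => congrArg q (hΨ t)
  have hrel : ∀ {v w}, v⁻¹ * w ∈ Φ → π w = π v := fun {v w} h => by
    have h1 := hπ1.mpr h
    rw [map_mul, map_inv, inv_mul_eq_one] at h1
    exact h1.symm
  obtain ⟨L, hL4, hLc, hLp⟩ := exists_elementary hp5 (hM.to_quotient N) (π a) (π b) (π c) (π e) (q x)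
    s l l' H.mul_eq H.ne_one (map_commutatorElement π b a).symm (fun h => D.he (hπ1.mp h))
    (fun h => D.hce (hmem le_sup_left (hJmap.symm ▸ h)))
    (fun h => D.hb (D.H_le (hmem (le_sup_left.trans le_sup_left) (hHmap.symm ▸ h))))
    (fun h => by
      obtain ⟨i, hi⟩ := exists_pow_of_mem_sup _
        (hmem ((le_sup_left.trans le_sup_left).trans le_sup_left) (hHbmap.symm ▸ h))
      obtain ⟨t, rfl⟩ := dvd_of_pow_mem D.pgroup D.hb (show b ^ i ∈ E by
        have := mul_mem D.ha (inv_mem (D.H_le hi))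
        rwa [mul_inv_rev, inv_inv, mul_inv_cancel_left] at this)
      refine D.hac ?_
      have h1 : b ^ (p * t) ∈ Φ := by rw [pow_mul]; exact _root_.pow_mem hbp t
      have := mul_mem (mem_sup_left (T := zpowers c) (mem_sup_left (T := zpowers e) h1)) hi
      rwa [mul_inv_cancel_left] at this)
    (hcomm (comm_mem_frattiniIn D.pgroup D.hc D.ha))
    (hcomm (D.comm_mem (mem_sup_right (mem_zpowers c)) b))
    (hcomm (D.comm_mem (mem_sup_right (mem_zpowers c)) e))
    (hcomm (D.comm_mem (mem_sup_left (mem_sup_right (mem_zpowers e))) a))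
    (hcomm (D.comm_mem (mem_sup_left (mem_sup_right (mem_zpowers e))) b))
    (hexp a) (hexp b) (hexp c) (hexp e)
    (fun h => by
      rw [← hTmap] at h
      obtain ⟨t, ht⟩ := h
      refine hx ?_
      obtain ⟨v, hv, hvx⟩ := (QuotientGroup.eq (s := N)).mp ht
      exact ⟨t * v, by rw [map_mul, hvx, mul_inv_cancel_left]⟩)
    (by rw [← hTmap, ← map_pow]; exact hmemrange hxp)
    (by
      have h1 : π.range = j.range.map q := MonoidHom.range_comp _ _
      rw [← hTmap, h1, ← MonoidHom.map_zpowers, ← Subgroup.map_sup, htop,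
        map_top_of_surjective _ (QuotientGroup.mk'_surjective N)])
    (by
      rw [← hJmap, hXc]
      refine mem_map_of_mem _ ?_
      have h1 := hJn.conj_mem _ hσc c
      rwa [mul_inv_cancel_left] at h1)
    (by
      rw [← hHmap, hXc]
      refine mem_map_of_mem _ ?_
      have h1 := hHn.conj_mem _ hσb b
      rwa [mul_inv_cancel_left] at h1)
    (by
      rw [← hHmap, hXc, ← map_pow π b, ← map_inv, ← map_mul]
      refine mem_map_of_mem _ ((QuotientGroup.eq_one_iff _).mp ?_)
      have h1 := hr1 hσa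
      rw [map_mul, map_inv, map_mul, inv_mul_eq_one] at h1
      show r _ = 1
      rw [map_mul, map_inv, map_mul, map_inv, ← h1, (hrc (b ^ s) a).symm.eq, mul_inv_cancel_right,
        inv_mul_cancel])
    Ψ' (by rw [hΨπ]; exact hrel H.hψc) (by rw [hΨπ, ← map_pow]; exact hrel H.hψe)
    (by rw [hΨπ, ← map_pow, ← map_inv, ← map_mul, ← hJmap]; exact mem_map_of_mem _ (hJ ▸ hψb))
    (by
      rw [← hTmap]
      have h1 := hmemrange hΨx
      rw [map_mul, map_inv, map_pow] at h1
      exact h1)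
  have hle : N ≤ L.comap q := fun v hv => by
    rw [mem_comap, show q v = 1 from (QuotientGroup.eq_one_iff v).mpr hv]; exact one_mem _
  have hbound := section_bound hsr (L.comap q) N hle
    (fun u hu v hv => (QuotientGroup.eq_one_iff _).mp (by
      rw [← QuotientGroup.mk'_apply, ← hq, map_commutatorElement,
        commutatorElement_eq_one_iff_commute]
      exact hLc _ hu _ hv))
    fun u hu => (QuotientGroup.eq_one_iff _).mp (by
      rw [← QuotientGroup.mk'_apply, ← hq, map_pow]; exact hLp _ hu)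
  have hcardL : Nat.card ↥(L.comap q) = Nat.card L * Nat.card N := by
    refine Nat.eq_of_mul_eq_mul_left (Nat.pos_of_ne_zero (index_ne_zero_of_finite (H := L))) ?_
    conv_lhs => rw [← index_comap_of_surjective L (QuotientGroup.mk'_surjective N), ← hq, index_mul_card]
    rw [← mul_assoc, index_mul_card, ← index_eq_card, index_mul_card]
  rw [hcardL] at hbound
  have h4 := hL4.trans (Nat.le_of_mul_le_mul_right hbound Nat.card_pos)
  have := (Nat.pow_le_pow_iff_right hp.out.one_lt).mp h4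
  omega

end Cfsg.Lib.FusionSys.RankThree
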