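import Cfsg.Agent.Lib.FusionSys.RankThreeAction
import Cfsg.Agent.Lib.FusionSys.RankThreeRegular
import Cfsg.Agent.Lib.FusionSys.RankThreeTop
import Cfsg.Agent.Lib.FusionSys.RankTwoEssential
import Cfsg.Agent.Lib.FusionSys.Simple
import Mathlib.RingTheory.IntegralDomain

/-!
# Essential subgroups of rank three in sectional rank three are normal
-/

set_option linter.style.haveILetI false
set_option autoImplicit false

namespace Cfsg.Lib.FusionSys.RankThree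

open Cfsg Cfsg.FusionSystem Cfsg.Lib.FusionSys Subgroup
open scoped commutatorElement

universe u

variable {p : ℕ} [hp : Fact p.Prime]

/-- A primitive root avoids the small exponents. -/
theorem exists_root (hp5 : 5 ≤ p) :
    ∃ r : ZMod p, r ≠ 0 ∧ ∀ j ∈ ({1, 2, 3, 5} : Set ℕ), r ^ j ≠ 1 := by
  obtain ⟨g, hg⟩ := IsCyclic.exists_generator (α := (ZMod p)ˣ)
  refine ⟨g, Units.ne_zero g, fun j hj h => ?_⟩
  have h1 : orderOf g = p - 1 := by
    rw [orderOf_eq_card_of_forall_mem_zpowers hg, Nat.card_eq_fintype_card, ZMod.card_units p]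
  have h2 : p - 1 ∣ j := h1 ▸ orderOf_dvd_of_pow_eq_one (Units.ext (by simpa using h))
  simp only [Set.mem_insert_iff, Set.mem_singleton_iff] at hj
  have h3 := Nat.le_of_dvd (by omega) h2
  have h4 : p = 5 ∨ p = 6 := by omega
  rcases h4 with rfl | rfl
  · rcases hj with rfl | rfl | rfl | rfl <;> omega
  · exact absurd hp.out (by decide)

/-- The image of the Frattini subgroup of an embedded group. -/
theorem frattiniIn_range {E T : Type*} [Group E] [Finite E] [Group T] [Finite T] (hT : IsPGroup p T)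
    (ι : E →* T) (hι : Function.Injective ι) :
    frattiniIn ι.range = (frattini E).map ι ∧ (frattini ι.range).index = (frattini E).index := by
  have hE := hT.of_injective ι hι
  have h : frattiniIn ι.range = (frattini E).map ι := by
    refine le_antisymm (frattiniIn_le_of hT ?_ ?_) ?_
    · rintro _ ⟨v, rfl⟩ _ ⟨w, rfl⟩
      rw [← map_commutatorElement]
      exact mem_map_of_mem _ (comm_mem_frattini hE v w)
    · rintro _ ⟨v, rfl⟩
      rw [← map_pow]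
      exact mem_map_of_mem _ (Cfsg.Lib.PGroup.pow_mem_frattini hE v)
    · rw [map_le_iff_le_comap]
      refine frattini_le_of hE (fun v w => ?_) fun v => ?_
      · rw [mem_comap, map_commutatorElement]
        exact comm_mem_frattiniIn hT ⟨v, rfl⟩ ⟨w, rfl⟩
      · rw [mem_comap, map_pow]
        exact pow_mem_frattiniIn hT ⟨v, rfl⟩
  refine ⟨h, Nat.eq_of_mul_eq_mul_right (Nat.card_pos (α := frattiniIn ι.range)) ?_⟩
  rw [← card_frattiniIn_mul, h, ← (frattini E).equivMapOfInjective ι hι |>.toEquiv |> Nat.card_congr,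
    index_mul_card]
  exact (Nat.card_congr (MonoidHom.ofInjective hι).toEquiv).symm

variable {Ω : Type u} [Group Ω] {S : Subgroup Ω} [Finite S] {F : FusionSystem S}

omit hp in
/-- An automorphism of `p`-power order keeping a subgroup `E` with normalizer of maximal order `|T|` is inner. -/
theorem inner_of_stab [Fact p.Prime] (hS : IsPGroup p S) (hF : F.IsSaturated p) {T E : Subgroup Ω}
    (hTS : T ≤ S) (hET : E ≤ T) (hTN : T ≤ Subgroup.normalizer (E : Set Ω))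
    (hmax : ∀ E₁, F.IsConj E E₁ → Nat.card (normalizerIn S E₁) ≤ Nat.card T)
    {φ : MulAut T} (hφ : φ ∈ F.autGroup T) (hp' : ∃ k, φ ^ p ^ k = 1)
    (hφE : ∀ v : T, (v : Ω) ∈ E → ((φ v : T) : Ω) ∈ E) : ∃ τ : T, φ = MulAut.conj τ := by
  obtain ⟨T₁, hc, hfn⟩ := exists_isFullyNormalized F hTS
  obtain ⟨-, R, hR⟩ := (isFullyAutomized_and_fc_of_fn hS hF hfn).2
  obtain ⟨e, he⟩ := isConj_iff.1 hc
  have hT₁S : T₁ ≤ S := hfn.1
  haveI := finite_of_le hT₁S
  haveI := finite_of_le hTS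
  let y : F.autGroup T₁ := ⟨MulAut.congr e φ, congr_mem_autGroup he hφ⟩
  obtain ⟨k, hk⟩ := hp'
  have hy : IsPGroup p (zpowers y) := by
    rintro ⟨z, hz⟩
    obtain ⟨n, rfl⟩ := mem_zpowers_iff.mp hz
    have : y ^ p ^ k = 1 := Subtype.ext (by
      show MulAut.congr e φ ^ p ^ k = 1
      rw [← map_pow, hk, map_one])
    exact ⟨k, Subtype.ext (by
      simp only [SubmonoidClass.coe_pow, OneMemClass.coe_one]
      rw [← zpow_natCast, ← zpow_mul, mul_comm, zpow_mul, zpow_natCast, this, one_zpow])⟩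
  obtain ⟨R', hR'⟩ := hy.exists_le_sylow
  obtain ⟨β, hβ⟩ := MulAction.exists_smul_eq (F.autGroup T₁) R' R
  have hy2 : β * y * β⁻¹ ∈ (R : Subgroup (F.autGroup T₁)) := by
    rw [← hβ, Sylow.coe_subgroup_smul]
    exact Subgroup.smul_mem_pointwise_smul y (MulAut.conj β) _ (hR' (mem_zpowers y))
  rw [hR, Subgroup.mem_subgroupOf] at hy2
  obtain ⟨n, hn, hny⟩ := mem_autInducedBy.1 hy2
  let e₂ : T ≃* T₁ := e.trans (β : MulAut T₁)
  have he₂ : IsoIn F e₂ := he.trans ((mem_autGroup hT₁S).1 β.2)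
  have hn₂ : ∀ t : T, ((e₂ (φ t) : T₁) : Ω) = n * (e₂ t : Ω) * n⁻¹ := fun t => by
    rw [← hny]
    simp [e₂, y, MulAut.congr, MulAut.mul_apply, MulAut.inv_apply]
  let φE : E →* Ω := (T₁.subtype.comp e₂.toMonoidHom).comp (Subgroup.inclusion hET)
  have hconj : F.IsConj E φE.range := ⟨φE, restrict_mem he₂ hET, rfl⟩
  have hE₁T₁ : φE.range ≤ T₁ := by rintro _ ⟨v, rfl⟩; exact (e₂ _).2
  haveI := finite_of_le (hE₁T₁.trans hT₁S)
  have hnN : n ∈ normalizerIn S φE.range := by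
    refine mem_normalizerIn.2 ⟨hn, mem_normalizer_fintype ?_⟩
    rintro _ ⟨v, rfl⟩
    exact ⟨⟨_, hφE ⟨v, hET v.2⟩ v.2⟩, hn₂ ⟨v, hET v.2⟩⟩
  have hle : T₁ ≤ normalizerIn S φE.range := by
    refine fun z hz => mem_normalizerIn.2 ⟨hT₁S hz, mem_normalizer_fintype ?_⟩
    rintro _ ⟨v, rfl⟩
    obtain ⟨t, ht⟩ := e₂.surjective ⟨z, hz⟩
    refine ⟨⟨(t : Ω) * v * (t : Ω)⁻¹, (mem_normalizer_iff.1 (hTN t.2) v).1 v.2⟩, ?_⟩
    have h1 : z = (e₂ t : Ω) := by rw [ht]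
    rw [h1]
    show ((e₂ (t * ⟨v, hET v.2⟩ * t⁻¹) : T₁) : Ω) = _
    rw [map_mul, map_mul, map_inv]
    rfl
  have heq : T₁ = normalizerIn S φE.range := by
    refine eq_of_le_of_card_le (normalizerIn_le _) hle ?_
    exact (hmax _ hconj).trans (Nat.card_congr e₂.toEquiv).le
  refine ⟨e₂.symm ⟨n, heq ▸ hnN⟩, MulEquiv.ext fun t => e₂.injective (Subtype.ext ?_)⟩
  rw [hn₂, MulAut.conj_apply, map_mul, map_mul, map_inv, e₂.apply_symm_apply]
  rfl

/-- An automorphism of a centric `T` normalizing the action of `x ∈ N_S(T)` extends over `T⟨x⟩`. -/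
theorem exists_extension (hS : IsPGroup p S) (hF : F.IsSaturated p) {T : Subgroup Ω}
    (hTc : F.IsCentric T) {x : Ω} (hxS : x ∈ S) (hxN : x ∈ Subgroup.normalizer (T : Set Ω))
    {ψ : MulAut T} (hψ : ψ ∈ F.autGroup T) {τ : T} {k : ℕ}
    (h : ψ * conjAut T hxN * ψ⁻¹ = MulAut.conj τ * conjAut T hxN ^ k) :
    ∃ Ψ : MulAut ↥(T ⊔ zpowers x),
      (∀ t : T, ((Ψ (Subgroup.inclusion le_sup_left t) : ↥(T ⊔ zpowers x)) : Ω) = ψ t) ∧
      (x ^ k)⁻¹ * Ψ ⟨x, mem_sup_right (mem_zpowers x)⟩ ∈ T := by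
  have hTS := hTc.1
  haveI := finite_of_le hTS
  set σ := conjAut T hxN with hσ
  set φ : T →* Ω := T.subtype.comp ψ.toMonoidHom with hφdef
  have hφ : φ ∈ F.Hom T := (mem_autGroup hTS).1 hψ
  have hφr : φ.range = T := by
    refine le_antisymm ?_ fun z hz => ⟨ψ⁻¹ ⟨z, hz⟩, by simp [hφdef, MulAut.inv_apply]⟩
    rintro _ ⟨t, rfl⟩
    exact (ψ t).2
  have hM : T ⊔ zpowers x ≤ S := sup_le hTS (zpowers_le.mpr hxS)
  have hhS : (τ : Ω) * x ^ k ∈ S := S.mul_mem (hTS τ.2) (pow_mem hxS k)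
  have hkey : ∀ (t : T) (hx : x * (t : Ω) * x⁻¹ ∈ T),
      φ ⟨x * t * x⁻¹, hx⟩ = (τ : Ω) * x ^ k * φ t * ((τ : Ω) * x ^ k)⁻¹ := fun t hx => by
    have h1 : (⟨x * t * x⁻¹, hx⟩ : T) = σ t := Subtype.ext rfl
    rw [h1]
    have h2 := congrArg (fun α : MulAut T => ((α (ψ t) : T) : Ω)) h
    simp only [MulAut.mul_apply, MulAut.inv_apply, MulEquiv.symm_apply_apply, MulAut.conj_apply,
      Subgroup.coe_mul, Subgroup.coe_inv] at h2
    show ((ψ (σ t) : T) : Ω) = _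
    rw [h2, aut_pow_apply (α := σ) (g := x) (fun y => rfl), mul_inv_rev]
    simp only [hφdef, mul_assoc]
    rfl
  have hle : T ⊔ zpowers x ≤ extender S T φ :=
    sup_le (le_extender hTS (hom_mem hφ)) (zpowers_le.mpr (mem_extender_of hxS hxN hhS hkey))
  obtain ⟨Ψ₀, hΨ₀, hΨe⟩ :=
    (isReceptive_of_fc hS hF (isFullyCentralized_of_isCentric hTc)).2 T φ hφ hφr
  let Ψ₁ := Ψ₀.comp (Subgroup.inclusion hle)
  have hΨ₁ : Ψ₁ ∈ F.Hom (T ⊔ zpowers x) := restrict_mem hΨ₀ hle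
  have hres : ∀ (z : Ω) (hz : z ∈ T) (hz' : z ∈ T ⊔ zpowers x), Ψ₁ ⟨z, hz'⟩ = φ ⟨z, hz⟩ :=
    fun z hz hz' => hΨe z hz (hle hz')
  set xm : ↥(T ⊔ zpowers x) := ⟨x, mem_sup_right (mem_zpowers x)⟩ with hxm
  have hy : (x ^ k)⁻¹ * Ψ₁ xm ∈ T := by
    have hc : ((τ : Ω) * x ^ k)⁻¹ * Ψ₁ xm ∈ centralizerIn S T := by
      refine mem_centralizerIn.2 ⟨S.mul_mem (S.inv_mem hhS) (hom_mem hΨ₁ _), fun z hz => ?_⟩
      rw [← hφr] at hz
      obtain ⟨t, rfl⟩ := hz
      have hxt : x * (t : Ω) * x⁻¹ ∈ T := (mem_normalizer_iff.1 hxN t).1 t.2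
      have h1 := hres _ hxt (mem_sup_left hxt)
      rw [hkey t hxt] at h1
      have h2 : (⟨x * t * x⁻¹, mem_sup_left hxt⟩ : ↥(T ⊔ zpowers x)) =
          xm * ⟨t, mem_sup_left t.2⟩ * xm⁻¹ := Subtype.ext rfl
      rw [h2, map_mul, map_mul, map_inv, hres _ t.2 _] at h1
      have h9 : Ψ₁ xm * φ t = (τ : Ω) * x ^ k * φ t * ((τ : Ω) * x ^ k)⁻¹ * Ψ₁ xm :=
        mul_inv_eq_iff_eq_mul.mp h1
      calc ((τ : Ω) * x ^ k)⁻¹ * Ψ₁ xm * φ t = ((τ : Ω) * x ^ k)⁻¹ * (Ψ₁ xm * φ t) := mul_assoc _ _ _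
        _ = φ t * (((τ : Ω) * x ^ k)⁻¹ * Ψ₁ xm) := by rw [h9]; group
    have h3 := hTc.2 T (isConj_refl F hTS) hc
    have h4 : (x ^ k)⁻¹ * (τ : Ω) * x ^ k ∈ T := (mem_normalizer_iff''.1 (pow_mem hxN k) τ).1 τ.2
    have := T.mul_mem h4 h3
    convert this using 1
    group
  have hv : ∀ z, Ψ₁ z ∈ T ⊔ zpowers x := by
    have hK : T ⊔ zpowers x ≤ ((T ⊔ zpowers x).comap Ψ₁).map (T ⊔ zpowers x).subtype := by
      refine sup_le (fun z hz => ?_) (zpowers_le.mpr ?_)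
      · refine ⟨⟨z, mem_sup_left hz⟩, ?_, rfl⟩
        show Ψ₁ _ ∈ T ⊔ zpowers x
        rw [hres z hz _]
        exact mem_sup_left (ψ _).2
      · refine ⟨xm, ?_, rfl⟩
        show Ψ₁ xm ∈ T ⊔ zpowers x
        have := mul_mem (pow_mem (mem_sup_right (S := T) (mem_zpowers x)) k) (mem_sup_left hy)
        rwa [mul_inv_cancel_left] at this
    intro z
    obtain ⟨w, hw, hwz⟩ := hK z.2
    rw [Subtype.ext hwz] at hw
    exact hw
  have hr := range_eq_of_card_le hΨ₁ hM hv le_rfl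
  refine ⟨homIso hΨ₁ hr, fun t => ?_, ?_⟩
  · rw [coe_homIso]
    exact hres t t.2 _
  · rw [coe_homIso]
    exact hy

set_option maxHeartbeats 1000000 in
/-- Every essential subgroup with three generators is normal, in sectional rank at most three. -/
theorem essential_normal (hp5 : 5 ≤ p) (hS : IsPGroup p S) (hsr : Cfsg.SectionalPRankLE p 3 S)
    (hF : F.IsSaturated p) {E : Subgroup Ω} (hE : F.IsEssential p E)
    (hrk : (frattini ↥E).index = p ^ 3) : S ≤ Subgroup.normalizer (E : Set Ω) := by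
  by_contra hnot
  obtain ⟨hlt, hIN, hIp, hO, -, -⟩ := RankTwo.basic hS hF hE
  have hES : E ≤ S := hE.1.1
  obtain ⟨hC, hfn, hIN', Y, hY⟩ := hE
  haveI := finite_of_le hES
  obtain ⟨hfc, -, R, hR⟩ := isFullyAutomized_and_fc_of_fn hS hF hfn
  set T := normalizerIn S E with hTdef
  have hTle : T ≤ S := normalizerIn_le E
  haveI := finite_of_le hTle
  have hET : E < T := lt_normalizerIn hS hlt
  have hTS : T < S := lt_of_le_of_ne hTle fun h => hnot fun g hg => (h.ge hg).2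
  set I := (Inn E).subgroupOf (F.autGroup E) with hI
  haveI := hIN
  have hp2 : p ≠ 2 := by omega
  have hEp : IsPGroup p E := hS.to_le hES
  have hTp : IsPGroup p T := hS.to_le hTle
  let cA : ↥T →* ↥(F.autGroup E) := RankTwo.cA F hES
  have hcA : ∀ (b : T) (v : E), ((((cA b : ↥(F.autGroup E)) : MulAut E) v : E) : Ω) = b * v * (b : Ω)⁻¹ :=
    fun b v => rfl
  have hmemR : ∀ b, cA b ∈ (R : Subgroup (F.autGroup E)) := fun b => by
    rw [hR]; exact conjAut_mem_autInducedBy b.2.2 b.2.1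
  have hofR : ∀ u ∈ (R : Subgroup (F.autGroup E)), ∃ b, cA b = u := fun u hu => by
    rw [hR] at hu
    obtain ⟨g, hg, hgu⟩ := mem_autInducedBy.1 (Subgroup.mem_subgroupOf.mp hu)
    exact ⟨⟨g, hg, mem_normalizer_of_aut hgu⟩,
      Subtype.ext (MulEquiv.ext fun v => Subtype.ext (hgu v).symm)⟩
  have hcI : ∀ b, cA b ∈ I ↔ (b : Ω) ∈ E := fun b =>
    ⟨fun h => mem_of_conjAut_mem_inn (hC.2 E (isConj_refl F hES)) hES b.2.1
      (α := (cA b : MulAut E)) (hcA b) (Subgroup.mem_subgroupOf.mp h),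
      fun h => ⟨⟨b, h⟩, MulEquiv.ext fun v => Subtype.ext rfl⟩⟩
  have hIR : I ≤ (R : Subgroup (F.autGroup E)) := by
    rw [hR]; exact Subgroup.subgroupOf_mono _ (inn_le_autInducedBy hES)
  have hIle : ∀ α ∈ I, ∀ v : E, v⁻¹ * (α : MulAut E) v ∈ frattini E := by
    intro α hα v
    obtain ⟨y, hy⟩ := Subgroup.mem_subgroupOf.mp hα
    rw [← hy, MulAut.conj_apply]
    have := comm_mem_frattini hEp v⁻¹ y
    rwa [commutatorElement_def, inv_inv, mul_assoc v⁻¹, mul_assoc v⁻¹] at this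
  obtain ⟨hcard, hnil, hirr, hquad⟩ :=
    action_facts hp2 hEp hrk (F.autGroup E) I hIp hIle hO Y hY R
  -- `E` inside `T`
  let ι : ↥E →* ↥T := Subgroup.inclusion hET.le
  have hι : Function.Injective ι := Subgroup.inclusion_injective _
  set Φ := frattiniIn ι.range with hΦdef
  obtain ⟨hΦ', hidx⟩ := frattiniIn_range hTp ι hι
  have hmemι : ∀ {U : Subgroup E} {v}, ι v ∈ U.map ι ↔ v ∈ U := mem_map_iff_mem hι
  have hrange : ∀ {b : T}, b ∈ ι.range ↔ (b : Ω) ∈ E := fun {b} =>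
    ⟨by rintro ⟨v, rfl⟩; exact v.2, fun h => ⟨⟨b, h⟩, rfl⟩⟩
  haveI hEn : ι.range.Normal := ⟨fun v hv g =>
    hrange.mpr ((Subgroup.mem_normalizer_iff.1 g.2.2 v).1 (hrange.mp hv))⟩
  have hEi : ι.range.index = p := by
    let θ := (QuotientGroup.mk' I).comp cA
    have hker : θ.ker = ι.range := by
      ext b
      rw [MonoidHom.mem_ker, hrange, ← hcI]
      exact QuotientGroup.eq_one_iff _
    have hθ : θ.range = (R : Subgroup (F.autGroup E)).map (QuotientGroup.mk' I) := by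
      rw [MonoidHom.range_comp]
      congr 1
      exact le_antisymm (by rintro _ ⟨b, rfl⟩; exact hmemR b) fun u hu => hofR u hu
    rw [← hker, Subgroup.index_ker, hθ, hcard]
  have hEv : (frattini ι.range).index = p ^ 3 := hidx.trans hrk
  have hdisp : ∀ (b : T) (v : E), ι (disp (cA b : MulAut E) v) = ⁅b, ι v⁆ := fun b v => Subtype.ext rfl
  -- the element above `T`
  obtain ⟨x, hxS, hxN, hxT, hxp⟩ : ∃ x, x ∈ S ∧ x ∈ Subgroup.normalizer (T : Set Ω) ∧
      x ∉ T ∧ x ^ p ∈ T := by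
    classical
    obtain ⟨x₀, hx₀, hx₀T⟩ := SetLike.exists_of_lt (lt_normalizerIn hS hTS)
    obtain ⟨k, hk⟩ := hS ⟨x₀, hx₀.1⟩
    have hex : ∃ k, x₀ ^ p ^ k ∈ T := ⟨k, by
      rw [show x₀ ^ p ^ k = 1 from congrArg Subtype.val hk]; exact one_mem _⟩
    obtain ⟨m, hm⟩ : ∃ m, Nat.find hex = m + 1 := Nat.exists_eq_succ_of_ne_zero fun h0 => hx₀T (by
      have := Nat.find_spec hex
      rwa [h0, pow_zero, pow_one] at this)
    refine ⟨x₀ ^ p ^ m, pow_mem hx₀.1 _, pow_mem hx₀.2 _, Nat.find_min hex (by omega), ?_⟩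
    rw [← pow_mul, ← pow_succ, ← hm]
    exact Nat.find_spec hex
  set σ := conjAut T hxN with hσ
  have hσp : ∃ k, σ ^ p ^ k = 1 := by
    obtain ⟨k, hk⟩ := hS ⟨x, hxS⟩
    have hk' : x ^ p ^ k = 1 := congrArg Subtype.val hk
    exact ⟨k, MulEquiv.ext fun t => Subtype.ext (by
      rw [aut_pow_apply (α := σ) (g := x) (fun y => rfl), hk', one_mul, inv_one, mul_one,
        MulAut.one_apply])⟩
  have hσE : ι.range.map σ.toMonoidHom ≠ ι.range := by
    intro h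
    refine hxT ⟨hxS, Subgroup.mem_normalizer_fintype fun v hv => ?_⟩
    have h1 : σ (ι ⟨v, hv⟩) ∈ ι.range := le_of_eq h (mem_map_of_mem σ.toMonoidHom ⟨⟨v, hv⟩, rfl⟩)
    exact hrange.mp h1
  -- the automorphisms of `E`, read inside `T`
  let εE : ↥E ≃* ↥ι.range := MonoidHom.ofInjective hι
  let 𝒜 : Set (MulAut ι.range) := Set.range fun α : F.autGroup E => MulAut.congr εE (α : MulAut E)
  have hεα : ∀ (α : F.autGroup E) v, ((MulAut.congr εE (α : MulAut E) (εE v) : ι.range) : T) =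
      ι ((α : MulAut E) v) := fun α v => by
    show (εE ((α : MulAut E) (εE.symm (εE v))) : T) = _
    rw [MulEquiv.symm_apply_apply]
    rfl
  have hinv : ∀ U : Subgroup E, (∀ α : F.autGroup E, ∀ v ∈ U, (α : MulAut E) v ∈ U) →
      ∀ α ∈ 𝒜, ∀ v : ι.range, (v : T) ∈ U.map ι → (α v : T) ∈ U.map ι := by
    rintro U hU _ ⟨α, rfl⟩ v hv
    obtain ⟨v, rfl⟩ := εE.surjective v
    rw [hεα, hmemι]
    exact hU α v (hmemι.mp hv)
  have hcomap : ∀ U : Subgroup T, (∀ α ∈ 𝒜, ∀ v : ι.range, (v : T) ∈ U → (α v : T) ∈ U) →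
      ∀ α : F.autGroup E, ∀ v ∈ U.comap ι, (α : MulAut E) v ∈ U.comap ι := fun U hU α v hv => by
    have := hU _ ⟨α, rfl⟩ (εE v) hv
    rw [hεα] at this
    exact this
  obtain ⟨b₀, hb₀⟩ : ∃ b : T, (b : Ω) ∉ E := by
    obtain ⟨g, hg, hgE⟩ := SetLike.exists_of_lt hET
    exact ⟨⟨g, hg⟩, hgE⟩
  have hsrT : Cfsg.SectionalPRankLE p 3 T :=
    sectional_of_injective hsr (Subgroup.inclusion hTle) (Subgroup.inclusion_injective _)
  by_cases hreg : ∀ u ∈ (R : Subgroup (F.autGroup E)), u ∉ I →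
      ∃ v, disp (u : MulAut E) (disp (u : MulAut E) v) ∉ frattini E
  · refine regular_false hp5 hTp hsrT hEi hEv (fun b hb => ?_) (fun b a ha => ?_) 𝒜 (fun U hΦU hUE hU => ?_)
      σ hσp hσE
    · obtain ⟨v, hv⟩ := hreg _ (hmemR b) (fun h => hb (hrange.mpr ((hcI b).mp h)))
      refine ⟨ι v, ⟨v, rfl⟩, fun h => hv ?_⟩
      rwa [← hdisp, ← hdisp, hΦ', hmemι] at h
    · obtain ⟨v, rfl⟩ := ha
      rw [← hdisp, ← hdisp, ← hdisp, hΦ', hmemι]
      exact hnil _ (hmemR b) v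
    · rcases hirr (cA b₀) (hmemR b₀) (hreg _ (hmemR b₀) fun h => hb₀ ((hcI b₀).mp h)) (U.comap ι)
        (fun v hv => hΦU (by rw [hΦ', hmemι]; exact hv)) (hcomap U hU) with h | h
      · refine Or.inl (le_antisymm (fun t ht => ?_) hΦU)
        obtain ⟨v, rfl⟩ := hUE ht
        rw [hΦ', hmemι, ← h]
        exact ht
      · refine Or.inr (le_antisymm hUE ?_)
        rintro _ ⟨v, rfl⟩
        exact (h ▸ Subgroup.mem_top v : v ∈ U.comap ι)
  push Not at hreg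
  obtain ⟨u, huR, huI, hu2⟩ := hreg
  obtain ⟨a, c, Fr⟩ := hquad u huR huI hu2
  obtain ⟨b, rfl⟩ := hofR u huR
  set e := disp (cA b : MulAut E) a with hedef
  have heb : ⁅b, ι a⁆ = ι e := (hdisp b a).symm
  have hm1 : ∀ y : E, Φ ⊔ zpowers (ι y) = (frattini E ⊔ zpowers y).map ι := fun y => by
    rw [Subgroup.map_sup, MonoidHom.map_zpowers, hΦdef, hΦ']
  have hm2 : ∀ y z : E, Φ ⊔ zpowers (ι y) ⊔ zpowers (ι z) =
      (frattini E ⊔ zpowers y ⊔ zpowers z).map ι := fun y z => by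
    rw [Subgroup.map_sup, MonoidHom.map_zpowers, hm1]
  have D : TransvData p ι.range (ι a) b (ι c) :=
    { pgroup := hTp
      index_eq := hEi
      rank_eq := hEv
      ha := ⟨a, rfl⟩
      hc := ⟨c, rfl⟩
      hb := fun h => huI ((hcI b).mpr (hrange.mp h))
      he := by rw [heb, hΦ', hmemι]; exact Fr.he
      hce := by rw [heb, hm1, hmemι]; exact Fr.hce
      hac := by rw [heb, hm2, hmemι]; exact Fr.hac
      hbc := by rw [← hdisp, hΦ', hmemι]; exact Fr.huc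
      hbe := by rw [heb, ← hdisp, hΦ', hmemι]; exact Fr.hue }
  -- the torus
  obtain ⟨r, hr0, hrne⟩ := exists_root (p := p) hp5
  set l := r.val with hldef
  set l' := (r⁻¹).val with hl'def
  have hlc : (l : ZMod p) = r := ZMod.natCast_zmod_val r
  obtain ⟨d, hde, hda, hdc, hdu⟩ := Fr.hdiag r hr0
  rw [← hldef] at hde hdu
  have hduR : d * cA b * d⁻¹ ∈ (R : Subgroup (F.autGroup E)) := by
    have := mul_mem (hIR hdu) (pow_mem (hmemR b) (l * l))
    rwa [inv_mul_cancel_right] at this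
  have hnorm : ∀ n : T, d * cA n * d⁻¹ ∈ (R : Subgroup (F.autGroup E)) := by
    intro n
    obtain ⟨i, hi⟩ := exists_pow_of_mem_sup ι.range
      ((sup_zpowers_eq_top_of_index hEi D.hb).symm ▸ Subgroup.mem_top n)
    have hmem := hIR (hIN.conj_mem _ ((hcI _).mpr (hrange.mp hi)) d)
    have := mul_mem (pow_mem hduR i) hmem
    rw [map_mul cA, map_inv, map_pow cA, conj_pow] at this
    convert this using 1
    group
  obtain ⟨ψ₀, hψ₀, hψe⟩ := IsReceptive_ext (isReceptive_of_fc hS hF hfc)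
    ((mem_autGroup hES).1 d.2) (N := T) (by
      intro n hn
      refine ⟨hn.1, hn.2, ?_⟩
      have h0 := hnorm ⟨n, hn⟩
      rw [hR, Subgroup.mem_subgroupOf] at h0
      obtain ⟨h, hh, hhu⟩ := mem_autInducedBy.1 h0
      refine ⟨h, hh, fun v w hvw => ?_⟩
      rw [← hhu]
      have hw : w = (cA ⟨n, hn⟩ : MulAut E) v := Subtype.ext hvw
      rw [hw]
      simp [MulAut.mul_apply, MulAut.inv_apply])
  have hEmap : (E.subgroupOf T).map ψ₀ = E := map_subgroupOf_eq (e := (d : MulAut E)) hET.le hψe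
  have hval : ∀ t, ψ₀ t ∈ T := fun t => by
    refine ⟨hom_mem hψ₀ t, ?_⟩
    have := map_mem_normalizer (Q := E) ψ₀ t t.2.2
    rwa [hEmap] at this
  have hψr := range_eq_of_card_le hψ₀ hTle hval le_rfl
  set ψ : MulAut T := homIso hψ₀ hψr with hψdef
  have hψA : ψ ∈ F.autGroup T := (mem_autGroup hTle).2 (isoIn_homIso hψ₀ hψr)
  have hψι : ∀ v : E, ψ (ι v) = ι ((d : MulAut E) v) := fun v =>
    Subtype.ext ((coe_homIso hψ₀ hψr _).trans (hψe v v.2 _))
  have hψb : (b ^ (l * l))⁻¹ * ψ b ∈ ι.range := by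
    refine hrange.mpr ((hcI _).mp ?_)
    have h1 : cA (ψ b) = d * cA b * d⁻¹ := by
      rw [eq_mul_inv_iff_mul_eq]
      refine Subtype.ext (MulEquiv.ext fun v => Subtype.ext ?_)
      show (ψ b : Ω) * ((d : MulAut E) v : Ω) * (ψ b : Ω)⁻¹ =
        ((d : MulAut E) ((cA b : MulAut E) v) : Ω)
      have h2 : ∀ v : E, ((d : MulAut E) v : Ω) = ψ (ι v) := fun v => congrArg Subtype.val (hψι v).symm
      rw [h2, h2, ← Subgroup.coe_inv, ← Subgroup.coe_mul, ← Subgroup.coe_mul, ← map_inv, ← map_mul,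
        ← map_mul]
      exact congrArg (fun t => ((ψ t : T) : Ω)) (Subtype.ext (hcA b v).symm)
    rw [map_mul, map_inv, map_pow cA, h1]
    have h3 := hIN.conj_mem _ hdu (cA b ^ (l * l))⁻¹
    convert h3 using 1
    group
  have H : TorusData p ι.range (ι a) b (ι c) ψ l l' :=
    { mul_eq := by rw [hlc, hl'def, ZMod.natCast_zmod_val, mul_inv_cancel₀ hr0]
      ne_one := fun j hj => by rw [hlc]; exact hrne j hj
      map_E := by rintro _ ⟨v, rfl⟩; exact ⟨_, (hψι v).symm⟩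
      hψa := by rw [hψι, ← map_pow, ← map_inv, ← map_mul, hΦ', hmemι]; exact hda
      hψc := by rw [hψι, ← map_inv, ← map_mul, hΦ', hmemι]; exact hdc
      hψe := by rw [heb, hψι, ← map_pow, ← map_inv, ← map_mul, hΦ', hmemι]; exact hde }
  have hJ₀ := D.frattini_eq (D.pow_b H hψb hp2)
  obtain ⟨b₁, D₁, H₁, hψb₁, hbp₁, hJ₁⟩ := D.exists_eigen H hp2 hψb
  have hJeq : Φ ⊔ zpowers ⁅b₁, ι a⁆ = Φ ⊔ zpowers (ι e) := by rw [hΦdef, ← hJ₁, hJ₀, heb]
  have hWeq : Φ ⊔ zpowers ⁅b₁, ι a⁆ ⊔ zpowers (ι a) =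
      (frattini E ⊔ zpowers e ⊔ zpowers a).map ι := by rw [hJeq, hm2]
  have hH := fun (τ : MulAut T) (t : T) => D₁.H_invariant H₁ hp5 hsrT hψb₁ hbp₁ hJ₁ 𝒜
    (by rw [← hΦdef, hWeq]; exact hinv _ Fr.hW) (by rw [← hΦdef, hm1]; exact hinv _ Fr.hL)
    (fun U hΦU hUW hU => by
      rw [← hΦdef, hWeq] at hUW ⊢
      rcases Fr.hirr (U.comap ι) (fun v hv => hΦU (by rw [hΦ', hmemι]; exact hv))
        (fun v hv => hmemι.mp (hUW hv)) (hcomap U hU) with h | h
      · refine Or.inl (le_antisymm (fun t ht => ?_) hΦU)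
        obtain ⟨v, -, rfl⟩ := hUW ht
        rw [hΦdef, hΦ', hmemι, ← h]
        exact ht
      · refine Or.inr (le_antisymm hUW ?_)
        rintro _ ⟨v, hv, rfl⟩
        exact (h ▸ hv : v ∈ U.comap ι)) τ t
  obtain ⟨⟨τ, hτ⟩, hσb, hσc, s, hσa⟩ := D₁.torus_normalizes H₁ hψb₁ hbp₁ hJ₁ hH (F.autGroup T) hψA
    (fun φ hφ hφp hφE => inner_of_stab hS hF hTle hET.le inf_le_right hfn.2 hφ hφp fun v hv =>
      hrange.mp (le_of_eq hφE (mem_map_of_mem φ.toMonoidHom (hrange.mpr hv))))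
    (autInducedBy_le_autGroup hTle (conjAut_mem_autInducedBy hxN hxS)) hσp hσE
  obtain ⟨Ψ, hΨ, hΨx⟩ := exists_extension hS hF (isCentric_mono hC hET.le hTle) hxS hxN hψA hτ
  have hM : T ⊔ zpowers x ≤ S := sup_le hTle (zpowers_le.mpr hxS)
  haveI := finite_of_le hM
  set xm : ↥(T ⊔ zpowers x) := ⟨x, mem_sup_right (mem_zpowers x)⟩ with hxm
  have hjr : ∀ {z : ↥(T ⊔ zpowers x)},
      z ∈ (Subgroup.inclusion (le_sup_left : T ≤ T ⊔ zpowers x)).range ↔ (z : Ω) ∈ T :=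
    fun {z} => ⟨by rintro ⟨t, rfl⟩; exact t.2, fun h => ⟨⟨z, h⟩, rfl⟩⟩
  refine section_false D₁ H₁ hp5 hψb₁ hbp₁ hJ₁ hH σ hσb hσc hσa (hS.to_le hM)
    (sectional_of_injective hsr (Subgroup.inclusion hM) (Subgroup.inclusion_injective _))
    (Subgroup.inclusion (le_sup_left : T ≤ T ⊔ zpowers x)) (Subgroup.inclusion_injective _) xm
    (fun h => hxT (hjr.mp h)) (hjr.mpr hxp) ?_ (fun t => Subtype.ext rfl) Ψ
    (fun t => Subtype.ext (hΨ t)) (hjr.mpr hΨx)
  refine Subgroup.map_injective (T ⊔ zpowers x).subtype_injective ?_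
  rw [Subgroup.map_sup, MonoidHom.map_zpowers, ← MonoidHom.range_eq_map, Subgroup.range_subtype,
    ← MonoidHom.range_comp, Subgroup.subtype_comp_inclusion, Subgroup.range_subtype]
  rfl

end Cfsg.Lib.FusionSys.RankThree
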