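import Cfsg.Agent.Lib.FusionSys.RankThreeLinear
import Cfsg.Agent.Lib.FusionSys.RankThreeTools
import Cfsg.Agent.Lib.PGroup.FrattiniStab
import Mathlib.FieldTheory.Finiteness
import Mathlib.Algebra.Module.ZMod

/-!
# Automorphisms of a `p`-group with three generators, seen on the Frattini quotient
-/

set_option linter.style.haveILetI false
set_option autoImplicit false

namespace Cfsg.Lib.FusionSys.RankThree

open Subgroup

variable {p : ℕ} [hp : Fact p.Prime] {P : Type*} [Group P] [Finite P]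

/-- The displacement of `v` under `α`. -/
def disp (α : MulAut P) (v : P) : P := α v * v⁻¹

/-- An element `u` of `A` inducing a transvection on `P / Φ(P)`, with the decomposition into plane and line. -/
structure QuadFrame (p : ℕ) (A : Subgroup (MulAut P)) (I : Subgroup A) (u : A) (a c : P) : Prop where
  he : disp (u : MulAut P) a ∉ frattini P
  hce : c ∉ frattini P ⊔ zpowers (disp (u : MulAut P) a)
  hac : a ∉ frattini P ⊔ zpowers (disp (u : MulAut P) a) ⊔ zpowers c
  hue : disp (u : MulAut P) (disp (u : MulAut P) a) ∈ frattini P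
  huc : disp (u : MulAut P) c ∈ frattini P
  hW : ∀ α : A, ∀ v ∈ frattini P ⊔ zpowers (disp (u : MulAut P) a) ⊔ zpowers a,
    (α : MulAut P) v ∈ frattini P ⊔ zpowers (disp (u : MulAut P) a) ⊔ zpowers a
  hL : ∀ α : A, ∀ v ∈ frattini P ⊔ zpowers c, (α : MulAut P) v ∈ frattini P ⊔ zpowers c
  hirr : ∀ U : Subgroup P, frattini P ≤ U →
    U ≤ frattini P ⊔ zpowers (disp (u : MulAut P) a) ⊔ zpowers a →
    (∀ α : A, ∀ v ∈ U, (α : MulAut P) v ∈ U) →
    U = frattini P ∨ U = frattini P ⊔ zpowers (disp (u : MulAut P) a) ⊔ zpowers a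
  hdiag : ∀ r : ZMod p, r ≠ 0 → ∃ d : A,
    (disp (u : MulAut P) a ^ r.val)⁻¹ * (d : MulAut P) (disp (u : MulAut P) a) ∈ frattini P ∧
    (a ^ (r⁻¹).val)⁻¹ * (d : MulAut P) a ∈ frattini P ∧ c⁻¹ * (d : MulAut P) c ∈ frattini P ∧
    d * u * d⁻¹ * (u ^ (r.val * r.val))⁻¹ ∈ I

set_option maxHeartbeats 1000000 in
theorem action_facts_aux (hp2 : p ≠ 2) (hP : IsPGroup p P) (hV : (frattini P).index = p ^ 3)
    (A : Subgroup (MulAut P)) (I : Subgroup A) [I.Normal] (hI : IsPGroup p I)
    (hIle : ∀ α ∈ I, ∀ v : P, v⁻¹ * (α : MulAut P) v ∈ frattini P)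
    (hO : ∀ N : Subgroup A, N.Normal → IsPGroup p N → N ≤ I)
    (Y : Subgroup (A ⧸ I)) (hY : Cfsg.IsStronglyPEmbedded p Y) (R : Sylow p A)
    {V : Type*} [AddCommGroup V] [Module (ZMod p) V] [Finite V] (q : P → V)
    (hqm : ∀ x y, q (x * y) = q x + q y) (hq0 : ∀ x, q x = 0 ↔ x ∈ frattini P)
    (hqs : Function.Surjective q) (hcardV : Nat.card V = (frattini P).index) :
    Nat.card ↥((R : Subgroup A).map (QuotientGroup.mk' I)) = p ∧
    (∀ u ∈ (R : Subgroup A), ∀ v : P,
      disp (u : MulAut P) (disp (u : MulAut P) (disp (u : MulAut P) v)) ∈ frattini P) ∧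
    (∀ u ∈ (R : Subgroup A), (∃ v, disp (u : MulAut P) (disp (u : MulAut P) v) ∉ frattini P) →
      ∀ U : Subgroup P, frattini P ≤ U → (∀ α : A, ∀ v ∈ U, (α : MulAut P) v ∈ U) →
        U = frattini P ∨ U = ⊤) ∧
    (∀ u ∈ (R : Subgroup A), u ∉ I →
      (∀ v, disp (u : MulAut P) (disp (u : MulAut P) v) ∈ frattini P) →
      ∃ a c : P, QuadFrame p A I u a c) := by
  haveI : Finite (MulAut P) := Finite.of_injective (fun a : MulAut P => (a : P → P))
    DFunLike.coe_injective
  set Φ := frattini P with hΦ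
  have hq1 : q 1 = 0 := (hq0 1).mpr (one_mem _)
  have hqi : ∀ x, q x⁻¹ = -q x := fun x =>
    eq_neg_of_add_eq_zero_left (by rw [← hqm, inv_mul_cancel, hq1])
  have hqn : ∀ x (n : ℕ), q (x ^ n) = (n : ZMod p) • q x := fun x n => by
    induction n with
    | zero => rw [pow_zero, hq1, Nat.cast_zero, zero_smul]
    | succ n ih => rw [pow_succ, hqm, ih, Nat.cast_succ, add_smul, one_smul]
  have hqr : ∀ x (r : ZMod p), q (x ^ r.val) = r • q x := fun x r => by
    rw [hqn, ZMod.natCast_zmod_val]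
  have hqsub : ∀ x y, x⁻¹ * y ∈ Φ ↔ q y = q x := fun x y => by
    rw [← hq0, hqm, hqi, neg_add_eq_zero, eq_comm]
  have hqα : ∀ (α : MulAut P) x y, q x = q y → q (α x) = q (α y) := fun α x y h => by
    rw [← hqsub] at h ⊢
    rw [← map_inv, ← map_mul]
    exact Cfsg.Lib.PGroup.apply_mem_frattini α h
  let sec := Function.surjInv hqs
  have hsec : ∀ v, q (sec v) = v := Function.surjInv_eq hqs
  let f : MulAut P → V →+ V := fun α => AddMonoidHom.mk' (fun v => q (α (sec v))) fun v w => by
    rw [← hqm, ← map_mul]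
    exact hqα α _ _ (by rw [hsec, hqm, hsec, hsec])
  have hf : ∀ α x, f α (q x) = q (α x) := fun α x => hqα α _ _ (hsec _)
  let ρ₀ : A →* Module.End (ZMod p) V :=
    { toFun := fun α => (f (α : MulAut P)).toZModLinearMap p
      map_one' := LinearMap.ext fun v => by
        obtain ⟨x, rfl⟩ := hqs v
        exact hf 1 x
      map_mul' := fun α β => LinearMap.ext fun v => by
        obtain ⟨x, rfl⟩ := hqs v
        rw [Module.End.mul_apply, AddMonoidHom.coe_toZModLinearMap, AddMonoidHom.coe_toZModLinearMap,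
          AddMonoidHom.coe_toZModLinearMap, hf, hf, hf]
        rfl }
  have hρ₀ : ∀ (α : A) x, ρ₀ α (q x) = q ((α : MulAut P) x) := fun α x => hf _ x
  have hker : ρ₀.ker = I := by
    refine le_antisymm (hO _ inferInstance ?_) fun α hα => LinearMap.ext fun v => ?_
    · have hle : ρ₀.ker ≤ (Cfsg.Lib.PGroup.frattiniStab P).comap A.subtype := fun α hα x => by
        rw [hqsub, show (A.subtype α) x = (α : MulAut P) x from rfl, ← hρ₀, MonoidHom.mem_ker.mp hα]
        rfl
      exact ((Cfsg.Lib.PGroup.isPGroup_frattiniStab hP).comap_of_injective A.subtype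
        A.subtype_injective).to_le hle
    · obtain ⟨x, rfl⟩ := hqs v
      rw [hρ₀, (hqsub _ _).mp (hIle α hα x)]
      rfl
  let ρ : A ⧸ I →* Module.End (ZMod p) V := QuotientGroup.lift I ρ₀ hker.ge
  have hρ : ∀ (α : A) x, ρ (QuotientGroup.mk' I α) (q x) = q ((α : MulAut P) x) := fun α x => hρ₀ α x
  have hinj : Function.Injective ρ := by
    rw [← MonoidHom.ker_eq_bot_iff, eq_bot_iff]
    intro g hg
    obtain ⟨α, rfl⟩ := QuotientGroup.mk'_surjective I g
    rw [mem_bot, QuotientGroup.mk'_apply, QuotientGroup.eq_one_iff, ← hker]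
    exact hg
  have hrank : Module.finrank (ZMod p) V = 3 := by
    haveI : Module.Finite (ZMod p) V := Module.Finite.of_finite
    have h1 := Module.natCard_eq_pow_finrank (K := ZMod p) (V := V)
    rw [hcardV, hV, Nat.card_zmod] at h1
    exact (Nat.pow_right_injective hp.out.two_le h1).symm
  have hO' : ∀ N : Subgroup (A ⧸ I), N.Normal → IsPGroup p N → N = ⊥ := fun N hN hNp => by
    have h1 := hO (N.comap (QuotientGroup.mk' I)) inferInstance
      (hNp.comap_of_ker_isPGroup _ (by rw [QuotientGroup.ker_mk']; exact hI))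
    rw [eq_bot_iff, ← map_comap_eq_self_of_surjective (QuotientGroup.mk'_surjective I) N]
    exact (map_mono h1).trans (by rw [QuotientGroup.map_mk'_self])
  let PG : Sylow p (A ⧸ I) := R.mapSurjective (QuotientGroup.mk'_surjective I)
  have hPGc : ((PG : Subgroup (A ⧸ I))) = (R : Subgroup A).map (QuotientGroup.mk' I) := rfl
  have hcard := card_sylow ρ hrank hinj hY PG
  have hmemPG : ∀ u ∈ (R : Subgroup A), QuotientGroup.mk' I u ∈ (PG : Subgroup (A ⧸ I)) :=
    fun u hu => hPGc ▸ mem_map_of_mem _ hu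
  have hdisp : ∀ (u : A) v, ρ (QuotientGroup.mk' I u) (q v) - q v = q (disp (u : MulAut P) v) :=
    fun u v => by rw [disp, hqm, hqi, hρ, sub_eq_add_neg]
  -- the correspondence with subspaces
  let sm : Subgroup P → Submodule (ZMod p) V := fun U => AddSubgroup.toZModSubmodule p
    { carrier := q '' (U : Set P)
      zero_mem' := ⟨1, one_mem U, hq1⟩
      add_mem' := by rintro _ _ ⟨x, hx, rfl⟩ ⟨y, hy, rfl⟩; exact ⟨x * y, mul_mem hx hy, hqm x y⟩
      neg_mem' := by rintro _ ⟨x, hx, rfl⟩; exact ⟨x⁻¹, inv_mem hx, hqi x⟩ }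
  have hsm : ∀ {U : Subgroup P}, Φ ≤ U → ∀ x, q x ∈ sm U ↔ x ∈ U := fun {U} hU x => by
    refine ⟨?_, fun hx => ⟨x, hx, rfl⟩⟩
    rintro ⟨y, hy, hyx⟩
    have := mul_mem hy (hU ((hqsub y x).mpr hyx.symm))
    rwa [mul_inv_cancel_left] at this
  have hsminv : ∀ {U : Subgroup P}, Φ ≤ U → (∀ α : A, ∀ v ∈ U, (α : MulAut P) v ∈ U) →
      ∀ g, ∀ v ∈ sm U, ρ g v ∈ sm U := fun {U} hU hinv g v hv => by
    obtain ⟨α, rfl⟩ := QuotientGroup.mk'_surjective I g
    obtain ⟨x, rfl⟩ := hqs v
    rw [hρ, hsm hU]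
    exact hinv α x ((hsm hU x).mp hv)
  let pre : Submodule (ZMod p) V → Subgroup P := fun M =>
    { carrier := {x | q x ∈ M}
      one_mem' := show q 1 ∈ M by rw [(hq0 1).mpr (one_mem _)]; exact zero_mem _
      mul_mem' := fun {x y} (hx : q x ∈ M) (hy : q y ∈ M) => show q (x * y) ∈ M by
        rw [hqm]; exact add_mem hx hy
      inv_mem' := fun {x} (hx : q x ∈ M) => show q x⁻¹ ∈ M by rw [hqi]; exact neg_mem hx }
  have hpreΦ : ∀ M, Φ ≤ pre M := fun M x hx => show q x ∈ M by
    rw [(hq0 x).mpr hx]; exact zero_mem _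
  refine ⟨by rw [← hPGc]; exact hcard, fun u hu v => ?_, fun u hu hreg U hU hinv => ?_,
    fun u hu huI hquad => ?_⟩
  · obtain ⟨e, c, a, φ, -, -, -, -, -, hfe, hfc, hfφ, hkerφ, -⟩ :=
      exists_chain hrank PG.isPGroup' (ρ.comp (PG : Subgroup (A ⧸ I)).subtype)
    set g := QuotientGroup.mk' I u with hg
    have hge : ρ g e = e := hfe ⟨g, hmemPG u hu⟩
    have hgc : ρ g c - c ∈ Submodule.span (ZMod p) {e} := hfc ⟨g, hmemPG u hu⟩
    have hgφ : ∀ w, φ (ρ g w) = φ w := hfφ ⟨g, hmemPG u hu⟩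
    rw [← hq0, ← hdisp, ← hdisp, ← hdisp, ← hg]
    obtain ⟨i, j, hij⟩ := Submodule.mem_span_pair.mp
      (hkerφ (ρ g (q v) - q v) (by rw [map_sub, hgφ, sub_self]))
    obtain ⟨k, hk⟩ := Submodule.mem_span_singleton.mp hgc
    rw [← hij, map_add (ρ g), map_smul (ρ g), map_smul (ρ g), hge,
      show i • e + j • ρ g c - (i • e + j • c) = (j * k) • e by
        rw [mul_smul, hk, smul_sub]; abel, map_smul, hge, sub_self]
  · obtain ⟨v, hv⟩ := hreg
    have h := irreducible_of_regular ρ hp2 hrank hinj hO' PG (hmemPG u hu) ⟨q v, fun h => hv (by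
      rw [← hq0, ← hdisp, ← hdisp, h, sub_self])⟩ (sm U) (hsminv hU hinv)
    rcases h with h | h
    · refine Or.inl (le_antisymm (fun x hx => ?_) hU)
      rw [← hq0]
      have := (hsm hU x).mpr hx
      rwa [h, Submodule.mem_bot] at this
    · exact Or.inr (eq_top_iff.mpr fun x _ => (hsm hU x).mp (h ▸ Submodule.mem_top))
  · set g := QuotientGroup.mk' I u with hg
    have hg1 : g ≠ 1 := fun h => huI ((QuotientGroup.eq_one_iff u).mp h)
    obtain ⟨e₀, φ, ht⟩ := isTransv_of_quadratic ρ hrank hinj hg1 (fun w => by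
      obtain ⟨v, rfl⟩ := hqs w
      rw [← sub_eq_zero, hdisp, hdisp, hq0]
      exact hquad v)
    obtain ⟨e, f, c, he, hc, hspan, htf, hte, htc, hinv, hirr, hdiag⟩ :=
      transvection_structure ρ hrank hinj hO' PG hcard (hmemPG u hu) ht
    obtain ⟨a, rfl⟩ := hqs f
    obtain ⟨c, rfl⟩ := hqs c
    set e₁ := disp (u : MulAut P) a with he₁
    have hqe : q e₁ = e := by rw [he₁, ← hdisp, ← hg, htf, add_sub_cancel_left]
    subst hqe
    have hnot : ∀ x y z : P, (∀ v, ∃ i j k : ZMod p, v = i • q x + j • q y + k • q z) →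
        q x ∉ Submodule.span (ZMod p) {q y, q z} := by
      intro x y z hxyz hx
      have htop : Submodule.span (ZMod p) ({q y, q z} : Set V) = ⊤ := by
        refine eq_top_iff.mpr fun v _ => ?_
        obtain ⟨i, j, k, rfl⟩ := hxyz v
        exact add_mem (add_mem (Submodule.smul_mem _ i hx)
          (Submodule.smul_mem _ j (Submodule.subset_span (by simp))))
          (Submodule.smul_mem _ k (Submodule.subset_span (by simp)))
      classical
      have h2 : Module.finrank (ZMod p)
          ↥(Submodule.span (ZMod p) ({q y, q z} : Set V)) ≤ 2 := by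
        have h1 := finrank_span_finset_le_card (R := ZMod p) ({q y, q z} : Finset V)
        rw [Set.finrank, Finset.coe_pair] at h1
        exact h1.trans Finset.card_le_two
      rw [htop, finrank_top, hrank] at h2
      omega
    have hsup : ∀ {x : P} {U : Subgroup P} (M : Submodule (ZMod p) V),
        U ≤ pre M → x ∈ U → q x ∈ M := fun M h hx => h hx
    have hle₁ : ∀ y : P, Φ ⊔ zpowers y ≤ pre (Submodule.span (ZMod p) {q y}) := fun y =>
      sup_le (hpreΦ _) (zpowers_le.mpr (Submodule.mem_span_singleton_self _))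
    have hle₂ : ∀ y z : P, Φ ⊔ zpowers y ⊔ zpowers z ≤ pre (Submodule.span (ZMod p) {q z, q y}) :=
      fun y z => sup_le (sup_le (hpreΦ _) (zpowers_le.mpr (Submodule.subset_span (by simp))))
        (zpowers_le.mpr (Submodule.subset_span (by simp)))
    have hofspan₁ : ∀ x y : P, q x ∈ Submodule.span (ZMod p) {q y} → x ∈ Φ ⊔ zpowers y := by
      intro x y hx
      obtain ⟨k, hk⟩ := Submodule.mem_span_singleton.mp hx
      rw [← hqr] at hk
      have h1 := (hqsub _ _).mpr hk.symm
      have h2 := mul_mem (mem_sup_right (S := Φ) (pow_mem (mem_zpowers y) k.val))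
        (mem_sup_left (T := zpowers y) h1)
      rwa [mul_inv_cancel_left] at h2
    have hofspan₂ : ∀ x : P, q x ∈ Submodule.span (ZMod p) {q a, q e₁} →
        x ∈ Φ ⊔ zpowers e₁ ⊔ zpowers a := by
      intro x hx
      obtain ⟨i, j, hij⟩ := Submodule.mem_span_pair.mp hx
      rw [← hqr, ← hqr, ← hqm] at hij
      have h1 := (hqsub _ _).mpr hij.symm
      have h2 := mul_mem (mul_mem (mem_sup_right (S := Φ ⊔ zpowers e₁) (pow_mem (mem_zpowers a) i.val))
        (mem_sup_left (T := zpowers a) (mem_sup_right (S := Φ) (pow_mem (mem_zpowers e₁) j.val))))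
        (mem_sup_left (T := zpowers a) (mem_sup_left (T := zpowers e₁) h1))
      rwa [mul_inv_cancel_left] at h2
    refine ⟨a, c, ⟨?_, ?_, ?_, ?_, ?_, ?_, ?_, ?_, ?_⟩⟩
    · exact fun h => he ((hq0 _).mpr h)
    · intro h
      obtain ⟨k, hk⟩ := Submodule.mem_span_singleton.mp (hle₁ e₁ h)
      refine hnot c a e₁ (fun v => ?_) ?_
      · obtain ⟨i, j, m, rfl⟩ := hspan v
        exact ⟨m, i, j, by abel⟩
      · rw [← hk]
        exact Submodule.smul_mem _ k (Submodule.subset_span (by simp))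
    · intro h
      refine hnot a c e₁ (fun v => ?_) (hle₂ e₁ c h)
      obtain ⟨i, j, m, rfl⟩ := hspan v
      exact ⟨i, m, j, by abel⟩
    · rw [← hq0, ← hdisp, ← hg, hte, sub_self]
    · rw [← hq0, ← hdisp, ← hg, htc, sub_self]
    · intro α v hv
      refine hofspan₂ _ ?_
      rw [← hρ]
      obtain ⟨i, j, hij⟩ := Submodule.mem_span_pair.mp (hsup _ (hle₂ e₁ a) hv)
      rw [← hij, map_add, map_smul, map_smul]
      exact add_mem (Submodule.smul_mem _ i (hinv _).1) (Submodule.smul_mem _ j (hinv _).2.1)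
    · intro α v hv
      refine hofspan₁ _ _ ?_
      rw [← hρ]
      obtain ⟨k, hk⟩ := Submodule.mem_span_singleton.mp (hle₁ c hv)
      rw [← hk, map_smul]
      exact Submodule.smul_mem _ k (hinv _).2.2
    · intro U hU hUW hUinv
      by_cases h : sm U = ⊥
      · refine Or.inl (le_antisymm (fun x hx => ?_) hU)
        rw [← hq0]
        have := (hsm hU x).mpr hx
        rwa [h, Submodule.mem_bot] at this
      · have := hirr (sm U) (fun v hv => by
          obtain ⟨x, rfl⟩ := hqs v
          exact hle₂ e₁ a (hUW ((hsm hU x).mp hv))) (hsminv hU hUinv) h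
        exact Or.inr (le_antisymm hUW (sup_le (sup_le hU (zpowers_le.mpr ((hsm hU _).mp this.2)))
          (zpowers_le.mpr ((hsm hU _).mp this.1))))
    · intro r hr
      obtain ⟨dg, hde, hdf, hdc⟩ := hdiag r hr
      obtain ⟨d, rfl⟩ := QuotientGroup.mk'_surjective I dg
      refine ⟨d, ?_, ?_, ?_, ?_⟩
      · rw [hqsub, hqr, ← hρ, hde]
      · rw [hqsub, hqr, ← hρ, hdf]
      · rw [hqsub, ← hρ, hdc]
      · rw [← QuotientGroup.eq_one_iff, ← QuotientGroup.mk'_apply, map_mul, map_mul, map_mul, map_inv,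
          map_inv, map_pow, mul_inv_eq_one, mul_inv_eq_iff_eq_mul, ← hg]
        refine hinj (LinearMap.ext fun v => ?_)
        set δ := QuotientGroup.mk' I d with hδ
        have hpowe : ∀ n : ℕ, ρ (g ^ n) (q e₁) = q e₁ ∧ ρ (g ^ n) (q c) = q c ∧
            ρ (g ^ n) (q a) = q a + (n : ZMod p) • q e₁ := by
          intro n
          induction n with
          | zero => simp
          | succ n ih =>
            rw [pow_succ', map_mul]
            refine ⟨?_, ?_, ?_⟩
            · rw [Module.End.mul_apply, ih.1, hte]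
            · rw [Module.End.mul_apply, ih.2.1, htc]
            · rw [Module.End.mul_apply, ih.2.2, map_add, map_smul, hte, htf, Nat.cast_succ, add_smul,
                one_smul]
              abel
        obtain ⟨h1, h2, h3⟩ := hpowe (r.val * r.val)
        rw [← hg] at hte htc htf
        obtain ⟨i, j, k, rfl⟩ := hspan v
        simp only [map_mul, Module.End.mul_apply, map_add, map_smul, hde, hdf, hdc, hte, htc, htf, h1,
          h2, h3, Nat.cast_mul, ZMod.natCast_zmod_val]
        match_scalars <;> field_simp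

/-- The action of a group of automorphisms on the Frattini quotient: the Sylow subgroups modulo the kernel have
order `p`, and their elements are either regular, forcing irreducibility, or transvections. -/
theorem action_facts (hp2 : p ≠ 2) (hP : IsPGroup p P) (hV : (frattini P).index = p ^ 3)
    (A : Subgroup (MulAut P)) (I : Subgroup A) [I.Normal] (hI : IsPGroup p I)
    (hIle : ∀ α ∈ I, ∀ v : P, v⁻¹ * (α : MulAut P) v ∈ frattini P)
    (hO : ∀ N : Subgroup A, N.Normal → IsPGroup p N → N ≤ I)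
    (Y : Subgroup (A ⧸ I)) (hY : Cfsg.IsStronglyPEmbedded p Y) (R : Sylow p A) :
    Nat.card ↥((R : Subgroup A).map (QuotientGroup.mk' I)) = p ∧
    (∀ u ∈ (R : Subgroup A), ∀ v : P,
      disp (u : MulAut P) (disp (u : MulAut P) (disp (u : MulAut P) v)) ∈ frattini P) ∧
    (∀ u ∈ (R : Subgroup A), (∃ v, disp (u : MulAut P) (disp (u : MulAut P) v) ∉ frattini P) →
      ∀ U : Subgroup P, frattini P ≤ U → (∀ α : A, ∀ v ∈ U, (α : MulAut P) v ∈ U) →
        U = frattini P ∨ U = ⊤) ∧
    (∀ u ∈ (R : Subgroup A), u ∉ I →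
      (∀ v, disp (u : MulAut P) (disp (u : MulAut P) v) ∈ frattini P) →
      ∃ a c : P, QuadFrame p A I u a c) := by
  letI : CommGroup (P ⧸ frattini P) :=
    { (inferInstance : Group (P ⧸ frattini P)) with
      mul_comm := ((Subgroup.Normal.quotient_commutative_iff_commutator_le (N := frattini P)).mpr
        (Cfsg.Lib.PGroup.commutator_le_frattini hP)).is_comm.comm }
  letI : Module (ZMod p) (Additive (P ⧸ frattini P)) := AddCommGroup.zmodModule fun v => by
    obtain ⟨x, hx⟩ := QuotientGroup.mk_surjective (Additive.toMul v)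
    rw [show v = Additive.ofMul (x : P ⧸ frattini P) from hx.symm]
    show Additive.ofMul ((x : P ⧸ frattini P) ^ p) = 0
    rw [← QuotientGroup.mk_pow,
      (QuotientGroup.eq_one_iff _).mpr (Cfsg.Lib.PGroup.pow_mem_frattini hP x)]
    rfl
  exact action_facts_aux hp2 hP hV A I hI hIle hO Y hY R
    (fun x => Additive.ofMul (x : P ⧸ frattini P)) (fun x y => rfl)
    (fun x => QuotientGroup.eq_one_iff x)
    (fun v => (QuotientGroup.mk_surjective (Additive.toMul v)).imp fun x hx => hx)
    (by rw [Nat.card_congr Additive.toMul, ← index_eq_card])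

end Cfsg.Lib.FusionSys.RankThree
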