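import Mathlib.GroupTheory.Sylow
import Mathlib.LinearAlgebra.Dual.Lemmas
import Mathlib.LinearAlgebra.FiniteDimensional.Lemmas
import Mathlib.FieldTheory.Finite.Basic
import Mathlib.Data.ZMod.Basic
import Mathlib.Tactic.Module
import Mathlib.Tactic.LinearCombination
import Cfsg.Agent.Lib.FusionSys.StronglyEmb
import Cfsg.Agent.Lib.Invol.SylowTools

/-!
# Groups of automorphisms of a three dimensional space over the field with `p` elements
-/

set_option linter.style.haveILetI false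
set_option autoImplicit false

namespace Cfsg.Lib.FusionSys.RankThree

open Cfsg Module

variable {p : ℕ} [hp : Fact p.Prime]
variable {V : Type*} [AddCommGroup V] [Module (ZMod p) V] [Finite V]
variable {G : Type*} [Group G] [Finite G]

local notation "𝔽" => ZMod p

omit [Finite V] [Finite G] in
theorem map_mul_inv_apply (ρ : G →* Module.End 𝔽 V) (g : G) (v : V) : ρ g (ρ g⁻¹ v) = v := by
  rw [← End.mul_apply, ← map_mul, mul_inv_cancel, map_one, End.one_apply]

omit [Finite V] [Finite G] in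
theorem map_inv_mul_apply (ρ : G →* Module.End 𝔽 V) (g : G) (v : V) : ρ g⁻¹ (ρ g v) = v := by
  rw [← End.mul_apply, ← map_mul, inv_mul_cancel, map_one, End.one_apply]

omit [Finite G] in
/-- A `p`-group has a nonzero fixed vector. -/
theorem exists_fixed [Nontrivial V] {R : Type*} [Group R] [Finite R] (hR : IsPGroup p R)
    (ρ : R →* Module.End 𝔽 V) : ∃ v : V, v ≠ 0 ∧ ∀ r, ρ r v = v := by
  letI : MulAction R V :=
    { smul := fun r v => ρ r v
      one_smul := fun v => by show ρ 1 v = v; rw [map_one, End.one_apply]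
      mul_smul := fun a b v => by show ρ (a * b) v = ρ a (ρ b v); rw [map_mul, End.mul_apply] }
  have hd : p ∣ Nat.card V := by
    rw [natCard_eq_pow_finrank (K := 𝔽), Nat.card_zmod]
    exact dvd_pow_self p finrank_pos.ne'
  obtain ⟨v, hv, hv0⟩ := hR.exists_fixed_point_of_prime_dvd_card_of_fixed_point V hd (a := (0 : V))
    (fun r => map_zero (ρ r))
  exact ⟨v, fun h => hv0 h.symm, fun r => hv r⟩

omit [Finite G] in
/-- A `p`-group of linear maps acts unipotently: a basis-like triple `e, c, a`. -/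
theorem exists_chain (hV : finrank 𝔽 V = 3) {R : Type*} [Group R] [Finite R] (hR : IsPGroup p R)
    (ρ : R →* Module.End 𝔽 V) :
    ∃ (e c a : V) (φ : V →ₗ[𝔽] 𝔽), e ≠ 0 ∧ φ e = 0 ∧ φ c = 0 ∧ φ a = 1 ∧
      c ∉ Submodule.span 𝔽 {e} ∧ (∀ r, ρ r e = e) ∧ (∀ r, ρ r c - c ∈ Submodule.span 𝔽 {e}) ∧
      (∀ r v, φ (ρ r v) = φ v) ∧ (∀ v, φ v = 0 → v ∈ Submodule.span 𝔽 {e, c}) ∧
      (∀ v, v - φ v • a ∈ Submodule.span 𝔽 {e, c}) := by
  haveI : Module.Finite 𝔽 V := Module.Finite.of_finite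
  haveI : Nontrivial V := Module.finrank_pos_iff.mp (by omega : 0 < finrank 𝔽 V)
  obtain ⟨e, he, hfe⟩ := exists_fixed hR ρ
  set N := Submodule.span 𝔽 {e} with hN
  have hNinv : ∀ r, N ≤ N.comap (ρ r) := fun r => by
    rw [hN, Submodule.span_singleton_le_iff_mem, Submodule.mem_comap, hfe r]
    exact Submodule.mem_span_singleton_self e
  let ρ₁ : R →* Module.End 𝔽 (V ⧸ N) :=
    { toFun := fun r => N.mapQ N (ρ r) (hNinv r)
      map_one' := Submodule.linearMap_qext _ (LinearMap.ext fun v => by simp)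
      map_mul' := fun r s => Submodule.linearMap_qext _ (LinearMap.ext fun v => by simp) }
  have hNr : finrank 𝔽 N = 1 := finrank_span_singleton he
  have hq : finrank 𝔽 (V ⧸ N) = 2 := by
    have := N.finrank_quotient_add_finrank
    omega
  haveI : Nontrivial (V ⧸ N) := Module.finrank_pos_iff.mp (by omega : 0 < finrank 𝔽 (V ⧸ N))
  haveI : Finite (V ⧸ N) := Finite.of_surjective _ N.mkQ_surjective
  obtain ⟨c', hc', hfc'⟩ := exists_fixed hR ρ₁
  obtain ⟨c, rfl⟩ := N.mkQ_surjective c'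
  have hcN : c ∉ N := fun h => hc' ((Submodule.Quotient.mk_eq_zero N).mpr h)
  have hfc : ∀ r, ρ r c - c ∈ N := fun r => by
    have := hfc' r
    rw [← Submodule.Quotient.eq]
    exact this
  set H := Submodule.span 𝔽 {e, c} with hH
  have hHinv : ∀ r, H ≤ H.comap (ρ r) := fun r => by
    rw [hH, Submodule.span_le]
    rintro v (rfl | rfl)
    · show ρ r v ∈ H
      rw [hfe r]
      exact Submodule.subset_span (by simp)
    · show ρ r v ∈ H
      rw [← sub_add_cancel (ρ r v) v]
      exact add_mem (Submodule.span_mono (by simp) (hfc r)) (Submodule.subset_span (by simp))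
  have hHr : finrank 𝔽 H = 2 := by
    have hle : H = N ⊔ Submodule.span 𝔽 {c} := by
      rw [hH, Submodule.span_insert]
    have h1 := Submodule.finrank_sup_add_finrank_inf_eq N (Submodule.span 𝔽 {c})
    have h2 : N ⊓ Submodule.span 𝔽 {c} = ⊥ := by
      rw [eq_bot_iff]
      rintro v ⟨hv1, hv2⟩
      obtain ⟨x, rfl⟩ := Submodule.mem_span_singleton.mp hv2
      by_cases hx : x = 0
      · simp [hx]
      · exact absurd (by simpa [hx] using N.smul_mem x⁻¹ hv1) hcN
    have hc0 : c ≠ 0 := fun h => hcN (h ▸ N.zero_mem)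
    rw [← hle, h2, hNr, finrank_span_singleton hc0, finrank_bot] at h1
    omega
  have hHtop : H < ⊤ := lt_top_iff_ne_top.mpr fun h => by
    rw [h, finrank_top, hV] at hHr
    omega
  obtain ⟨f, hf0, hfH⟩ := Submodule.exists_dual_map_eq_bot_of_lt_top hHtop inferInstance
  obtain ⟨a₀, ha₀⟩ : ∃ a₀, f a₀ ≠ 0 := by
    by_contra h
    push Not at h
    exact hf0 (LinearMap.ext h)
  set φ : V →ₗ[𝔽] 𝔽 := (f a₀)⁻¹ • f with hφ
  have hφH : ∀ v ∈ H, φ v = 0 := fun v hv => by
    have : f v = 0 := (Submodule.mem_bot _).mp (hfH ▸ Submodule.mem_map_of_mem hv)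
    simp [hφ, this]
  have hker : LinearMap.ker φ = H := by
    refine (Submodule.eq_of_le_of_finrank_eq (fun v hv => LinearMap.mem_ker.mpr (hφH v hv)) ?_).symm
    have hr : LinearMap.range φ = ⊤ := LinearMap.range_eq_top.mpr fun x =>
      ⟨x • a₀, by simp [hφ, ha₀]⟩
    have := φ.finrank_range_add_finrank_ker
    rw [hr, finrank_top, Module.finrank_self] at this
    omega
  have hφa : φ a₀ = 1 := by simp [hφ, ha₀]
  have hmem : ∀ v, φ v = 0 → v ∈ H := fun v hv => hker ▸ LinearMap.mem_ker.mpr hv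
  refine ⟨e, c, a₀, φ, he, hφH _ (Submodule.subset_span (by simp)),
    hφH _ (Submodule.subset_span (by simp)), hφa, hcN, hfe, hfc, fun r v => ?_, hmem,
    fun v => hmem _ (by simp [hφa])⟩
  -- the action on the last factor is trivial
  obtain ⟨k, hk⟩ := hR r
  have hit : ∀ n : ℕ, φ (ρ (r ^ n) a₀) = φ (ρ r a₀) ^ n := by
    intro n
    induction n with
    | zero => simp [hφa]
    | succ n ih =>
      have h1 : φ (ρ r (ρ (r ^ n) a₀ - φ (ρ (r ^ n) a₀) • a₀)) = 0 :=
        hφH _ (hHinv r (hmem _ (by simp [hφa])))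
      rw [map_sub, map_sub, map_smul, map_smul, sub_eq_zero] at h1
      rw [pow_succ' r, map_mul, End.mul_apply, h1, ih, smul_eq_mul, pow_succ]
  have h1 := hit (p ^ k)
  rw [hk, map_one, End.one_apply, hφa, ZMod.pow_card_pow] at h1
  have h2 : φ (ρ r (v - φ v • a₀)) = 0 := hφH _ (hHinv r (hmem _ (by simp [hφa])))
  rw [map_sub, map_sub, map_smul, map_smul, ← h1, sub_eq_zero] at h2
  simpa using h2

section Transvection

variable (ρ : G →* Module.End (ZMod p) V)

/-- `t` acts as the transvection with centre `e` and axis `ker φ`. -/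
def IsTransv (t : G) (e : V) (φ : V →ₗ[𝔽] 𝔽) : Prop :=
  e ≠ 0 ∧ φ ≠ 0 ∧ φ e = 0 ∧ ∀ v : V, ρ t v = v + φ v • e

variable {ρ}
variable {t : G} {e : V} {φ : V →ₗ[ZMod p] ZMod p} (ht : IsTransv ρ t e φ)
include ht

omit [Finite V] [Finite G] in
theorem pow_apply (n : ℕ) (v : V) : ρ (t ^ n) v = v + ((n : 𝔽) * φ v) • e := by
  induction n with
  | zero => simp
  | succ n ih =>
    rw [pow_succ', map_mul, End.mul_apply, ih, map_add, map_smul, ht.2.2.2, ht.2.2.2 e, ht.2.2.1]
    push_cast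
    module

omit [Finite V] [Finite G] in
theorem conj_apply (g : G) (v : V) :
    ρ (g * t * g⁻¹) v = v + φ (ρ g⁻¹ v) • ρ g e := by
  rw [map_mul, map_mul, End.mul_apply, End.mul_apply, ht.2.2.2, map_add, map_smul, map_mul_inv_apply]

omit [Finite V] [Finite G] in
theorem ne_one : t ≠ 1 := by
  intro h
  obtain ⟨v, hv⟩ : ∃ v, φ v ≠ 0 := by
    by_contra hne
    push Not at hne
    exact ht.2.1 (LinearMap.ext hne)
  have := ht.2.2.2 v
  rw [h, map_one, End.one_apply, left_eq_add, smul_eq_zero] at this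
  exact this.elim hv ht.1

omit [Finite V] [Finite G] in
theorem pow_prime (hinj : Function.Injective ρ) : t ^ p = 1 :=
  hinj (LinearMap.ext fun v => by rw [pow_apply ht]; simp)

omit [Finite V] [Finite G] in
/-- A conjugate whose centre lies on the axis: either it commutes, or the commutator commutes with both. -/
theorem linked (hinj : Function.Injective ρ) (g : G) (hg : φ (ρ g e) = 0) :
    Commute t (g * t * g⁻¹) ∨ (φ (ρ g⁻¹ e) ≠ 0 ∧ ∃ z : G, z ≠ 1 ∧ z ^ p = 1 ∧ Commute z t ∧
      Commute z (g * t * g⁻¹) ∧ ∀ v, ρ z v = v + (φ (ρ g⁻¹ e) * φ v) • ρ g e) := by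
  by_cases hk : φ (ρ g⁻¹ e) = 0
  · left
    refine hinj (LinearMap.ext fun v => ?_)
    simp only [map_mul ρ t, map_mul ρ (g * t * g⁻¹) t, End.mul_apply, conj_apply ht, ht.2.2.2, map_add,
      map_smul, hg, hk, add_zero, smul_eq_mul, mul_zero]
    module
  right
  refine ⟨hk, ?_⟩
  set e' := ρ g e with he'
  have he'0 : e' ≠ 0 := fun h => ht.1 (by rw [← map_inv_mul_apply ρ g e, ← he', h, map_zero])
  have hge : φ (ρ g⁻¹ e') = 0 := by rw [he', map_inv_mul_apply, ht.2.2.1]
  set z := g * t * g⁻¹ * t * (t * (g * t * g⁻¹))⁻¹ with hz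
  have hzv : ∀ v, ρ z v = v + (φ (ρ g⁻¹ e) * φ v) • e' := by
    intro v
    obtain ⟨w, rfl⟩ : ∃ w, ρ (t * (g * t * g⁻¹)) w = v := ⟨_, map_mul_inv_apply ρ _ v⟩
    rw [hz, ← End.mul_apply, ← map_mul, inv_mul_cancel_right]
    simp only [map_mul ρ t, map_mul ρ (g * t * g⁻¹) t, End.mul_apply, conj_apply ht, ht.2.2.2, map_add,
      map_smul, ← he', hg, ht.2.2.1, add_zero, smul_eq_mul, mul_zero]
    module
  have hT : IsTransv ρ z e' (φ (ρ g⁻¹ e) • φ) := ⟨he'0, smul_ne_zero hk ht.2.1, by simp [hg], by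
    simpa using hzv⟩
  refine ⟨z, ne_one hT, pow_prime hT hinj, hinj (LinearMap.ext fun v => ?_),
    hinj (LinearMap.ext fun v => ?_), hzv⟩
  · simp only [map_mul ρ z, map_mul ρ t, End.mul_apply, hzv, ht.2.2.2, map_add, map_smul, hg,
      ht.2.2.1, add_zero, smul_eq_mul, mul_zero]
    module
  · simp only [map_mul ρ z, map_mul ρ (g * t * g⁻¹) z, End.mul_apply, hzv, conj_apply ht, ← he',
      map_add, map_smul, hg, hge, add_zero, smul_eq_mul, mul_zero]
    module

omit [Finite V] in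
/-- Transvections of a group with a strongly `p`-embedded subgroup `Y`. -/
theorem mem_of_axis (hinj : Function.Injective ρ) (P : Sylow p G) (htP : t ∈ (P : Subgroup G))
    {Y : Subgroup G} (hY : ∀ Q : Subgroup G, Q ≤ (P : Subgroup G) → Q ≠ ⊥ →
      Subgroup.normalizer (Q : Set G) ≤ Y) (g : G) (hg : φ (ρ g e) = 0) : g ∈ Y := by
  have htp := pow_prime ht hinj
  have ht1 := ne_one ht
  have hPY : (P : Subgroup G) ≤ Y :=
    Subgroup.le_normalizer.trans (hY _ le_rfl fun h => ht1 (by rwa [h, Subgroup.mem_bot] at htP))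
  have hC : ∀ x ∈ (P : Subgroup G), x ≠ 1 → ∀ y, Commute x y → y ∈ Y := by
    intro x hx hx1 y hy
    refine hY (Subgroup.zpowers x) (Subgroup.zpowers_le.mpr hx)
      (Subgroup.zpowers_ne_bot.mpr hx1) ?_
    refine mem_normalizer_of_map_conj ?_
    rw [MonoidHom.map_zpowers]
    simp [MulAut.conj_apply, ← hy.eq]
  have hsyl : ∀ x ∈ Y, x ^ p = 1 → ∃ y ∈ Y, y * x * y⁻¹ ∈ (P : Subgroup G) := by
    intro x hx hxp
    obtain ⟨h, hh⟩ := Cfsg.Lib.Invol.exists_conj_mem_sylow (P.subtype hPY)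
      (K := Subgroup.zpowers (⟨x, hx⟩ : Y)) (IsPGroup.of_card (n := (orderOf x).factorization p) (by
        rw [Nat.card_zpowers, Subgroup.orderOf_mk]
        rcases (Nat.dvd_prime hp.out).mp (orderOf_dvd_of_pow_eq_one hxp) with h | h <;>
          simp [h, hp.out.factorization_self]))
    exact ⟨h, h.2, hh _ (Subgroup.mem_zpowers _)⟩
  set t' := g * t * g⁻¹ with ht'
  have ht'p : t' ^ p = 1 := by rw [ht', conj_pow, htp, mul_one, mul_inv_cancel]
  have ht'Y : t' ∈ Y := by
    rcases linked ht hinj g hg with h | ⟨-, z, hz1, hzp, hzt, hzt', -⟩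
    · exact hC t htP ht1 t' h
    · have hzY : z ∈ Y := hC t htP ht1 z hzt.symm
      obtain ⟨y, hy, hyP⟩ := hsyl z hzY hzp
      have h1 : y * t' * y⁻¹ ∈ Y := by
        refine hC _ hyP (fun h => hz1 ?_) _ ?_
        · rwa [mul_inv_eq_one, mul_eq_left] at h
        · exact hzt'.map (MulAut.conj y).toMonoidHom
      have := Y.mul_mem (Y.mul_mem (Y.inv_mem hy) h1) hy
      simpa [mul_assoc] using this
  obtain ⟨y, hy, hyP⟩ := hsyl t' ht'Y ht'p
  have h2 : y * g ∈ Y := mem_of_conj_mem P hY htP ht1 (by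
    convert hyP using 1
    rw [ht']; group)
  simpa using Y.mul_mem (Y.inv_mem hy) h2
where
  mem_normalizer_of_map_conj {H : Subgroup G} {y : G}
      (h : H.map (MulAut.conj y).toMonoidHom = H) : y ∈ Subgroup.normalizer (H : Set G) :=
    Subgroup.mem_normalizer_iff_map_conj_eq.mpr h

omit [Finite V] in
/-- When the Sylow subgroup has order `p`, a conjugate centred on the axis has the same centre and axis. -/
theorem axis_rigid (hinj : Function.Injective ρ) (P : Sylow p G) (htP : t ∈ (P : Subgroup G))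
    (hc : Nat.card (P : Subgroup G) = p) (g : G) (hg : φ (ρ g e) = 0) :
    ρ g e ∈ Submodule.span 𝔽 {e} ∧ ∀ v, φ v = 0 → φ (ρ g⁻¹ v) = 0 := by
  have hPt : Subgroup.zpowers t = (P : Subgroup G) := by
    refine Subgroup.eq_of_le_of_card_ge (Subgroup.zpowers_le.mpr htP) ?_
    rw [hc, Nat.card_zpowers, orderOf_eq_prime (pow_prime ht hinj) (ne_one ht)]
  have hP : ∀ x : G, x ^ p = 1 → Commute x t → ∃ n : ℕ, x = t ^ n := by
    intro x hx hxt
    have hT : IsPGroup p ↥(Subgroup.zpowers x ⊔ (P : Subgroup G)) := by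
      refine IsPGroup.to_sup_of_normal_right' ?_ P.isPGroup' ?_
      · rcases (Nat.dvd_prime hp.out).mp (orderOf_dvd_of_pow_eq_one hx) with h | h
        · exact IsPGroup.of_card (n := 0) (by rw [Nat.card_zpowers, h, pow_zero])
        · exact IsPGroup.of_card (n := 1) (by rw [Nat.card_zpowers, h, pow_one])
      · rw [Subgroup.zpowers_le, Subgroup.mem_normalizer_iff_map_conj_eq, ← hPt, MonoidHom.map_zpowers]
        simp [MulAut.conj_apply, hxt.eq]
    have hxP : x ∈ (P : Subgroup G) :=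
      P.is_maximal' hT le_sup_right ▸ Subgroup.mem_sup_left (Subgroup.mem_zpowers x)
    rw [← hPt] at hxP
    obtain ⟨n, hn⟩ := mem_powers_iff_mem_zpowers.mpr hxP
    exact ⟨n, hn.symm⟩
  obtain ⟨v₀, hv₀⟩ : ∃ v, φ v ≠ 0 := by
    by_contra hne
    push Not at hne
    exact ht.2.1 (LinearMap.ext hne)
  rcases linked ht hinj g hg with h | ⟨hk, z, -, hzp, hzt, -, hzv⟩
  · obtain ⟨n, hn⟩ := hP _ (by rw [conj_pow, pow_prime ht hinj, mul_one, mul_inv_cancel]) h.symm
    have hv : ∀ v, φ (ρ g⁻¹ v) • ρ g e = ((n : 𝔽) * φ v) • e := fun v => by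
      have := congrArg (fun x => ρ x v) hn
      simp only [conj_apply ht, pow_apply ht, add_right_inj] at this
      exact this
    constructor
    · obtain ⟨w, hw⟩ : ∃ w, φ (ρ g⁻¹ w) ≠ 0 := ⟨ρ g v₀, by rwa [map_inv_mul_apply]⟩
      refine Submodule.mem_span_singleton.mpr ⟨(φ (ρ g⁻¹ w))⁻¹ * ((n : 𝔽) * φ w), ?_⟩
      rw [mul_smul, ← hv, inv_smul_smul₀ hw]
    · intro v hv0
      have := hv v
      rw [hv0, mul_zero, zero_smul, smul_eq_zero] at this
      refine this.resolve_right fun h0 => ht.1 ?_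
      rw [← map_inv_mul_apply ρ g e, h0, map_zero]
  · exfalso
    obtain ⟨n, hn⟩ := hP z hzp hzt
    have := congrArg (fun x => ρ x v₀) hn
    simp only [hzv, pow_apply ht, add_right_inj] at this
    have h2 : ρ g e = ((φ (ρ g⁻¹ e) * φ v₀)⁻¹ * ((n : 𝔽) * φ v₀)) • e := by
      rw [mul_smul _ _ e, ← this, inv_smul_smul₀ (mul_ne_zero hk hv₀)]
    refine hk ?_
    have h3 := congrArg (fun w => φ (ρ g⁻¹ w)) h2
    simp only [map_inv_mul_apply, ht.2.2.1, map_smul, smul_eq_mul] at h3
    rcases mul_eq_zero.mp h3.symm with h4 | h4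
    · rw [h4, zero_smul] at h2
      exact absurd (by rw [← map_inv_mul_apply ρ g e, h2, map_zero]) ht.1
    · exact h4

end Transvection

section CardSylow

variable (ρ : G →* Module.End (ZMod p) V)

/-- A faithful group on a space of dimension three with a strongly `p`-embedded subgroup has Sylow
`p`-subgroups of order `p`. -/
theorem card_sylow (hV : finrank 𝔽 V = 3) (hinj : Function.Injective ρ) {Y : Subgroup G}
    (hY : IsStronglyPEmbedded p Y) (P : Sylow p G) : Nat.card (P : Subgroup G) = p := by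
  obtain ⟨hdvd, hYne, P₀, hP₀⟩ := hY
  rw [sylow_card_eq P P₀]
  clear P
  have hY' : ∀ Q : Subgroup G, Q ≤ (P₀ : Subgroup G) → Q ≠ ⊥ →
      Subgroup.normalizer (Q : Set G) ≤ Y := fun Q hQ hne =>
    (normalizer_le_kGeneratedCore P₀.isPGroup' hQ hne).trans hP₀
  have hple : p ≤ Nat.card (P₀ : Subgroup G) := by
    rw [P₀.card_eq_multiplicity]
    refine Nat.le_self_pow ?_ p
    exact (hp.out.factorization_pos_of_dvd Nat.card_pos.ne' hdvd).ne'
  refine le_antisymm ?_ hple
  by_contra hgt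
  obtain ⟨e, c, a, φ, he, hφe, hφc, hφa, hce, hfe, hfc, hfφ, hker, hdec⟩ :=
    exists_chain hV P₀.isPGroup' (ρ.comp (P₀ : Subgroup G).subtype)
  simp only [MonoidHom.coe_comp, Subgroup.coe_subtype, Function.comp_apply] at hfe hfc hfφ
  have hc0 : c ≠ 0 := fun h => hce (h ▸ Submodule.zero_mem _)
  choose x hx using fun r : (P₀ : Subgroup G) => Submodule.mem_span_singleton.mp (hfc r)
  have hyz : ∀ r : (P₀ : Subgroup G), ∃ y z : 𝔽, ρ r a = a + y • c + z • e := by
    intro r
    obtain ⟨z, y, hzy⟩ := Submodule.mem_span_pair.mp (hker (ρ r a - a) (by rw [map_sub, hfφ, sub_self]))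
    exact ⟨y, z, by rw [← sub_add_cancel (ρ r a) a, ← hzy]; abel⟩
  choose y z hyz using hyz
  have hrc : ∀ r : (P₀ : Subgroup G), ρ r c = c + x r • e := fun r => by rw [hx, add_sub_cancel]
  have hinde : ∀ q s : 𝔽, q • c + s • e = 0 → q = 0 ∧ s = 0 := by
    intro q s h
    have hq : q = 0 := by
      by_contra hq
      refine hce (Submodule.mem_span_singleton.mpr ⟨q⁻¹ * -s, ?_⟩)
      rw [mul_smul, neg_smul, ← eq_neg_of_add_eq_zero_left h, inv_smul_smul₀ hq]
    refine ⟨hq, ?_⟩
    rw [hq, zero_smul, zero_add, smul_eq_zero] at h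
    exact h.resolve_right he
  have hext : ∀ A B : Module.End 𝔽 V, A e = B e → A c = B c → A a = B a → A = B := by
    intro A B h1 h2 h3
    refine LinearMap.ext fun v => ?_
    obtain ⟨s, q, hsq⟩ := Submodule.mem_span_pair.mp (hdec v)
    have : v = φ v • a + (s • e + q • c) := by rw [hsq]; abel
    rw [this]
    simp [map_add, map_smul, h1, h2, h3]
  -- a transvection in the centre of the flag
  obtain ⟨t, htx, hty, ht1⟩ : ∃ t : (P₀ : Subgroup G), x t = 0 ∧ y t = 0 ∧ t ≠ 1 := by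
    by_contra hne
    push Not at hne
    have hx1 : ∀ r s, x (r * s) = x r + x s := by
      intro r s
      have h : ρ ((r * s : (P₀ : Subgroup G)) : G) c = c + (x r + x s) • e := by
        rw [Subgroup.coe_mul, map_mul, End.mul_apply, hrc, map_add, map_smul, hrc, hfe]
        module
      rw [hrc, add_right_inj] at h
      exact smul_left_injective 𝔽 he h
    have hyz1 : ∀ r s, y (r * s) = y r + y s ∧ z (r * s) = z r + z s + y s * x r := by
      intro r s
      have h : ρ ((r * s : (P₀ : Subgroup G)) : G) a =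
          a + (y r + y s) • c + (z r + z s + y s * x r) • e := by
        rw [Subgroup.coe_mul, map_mul, End.mul_apply, hyz, map_add, map_add, map_smul, map_smul, hrc,
          hyz, hfe]
        module
      rw [hyz] at h
      have h2 := hinde (y (r * s) - (y r + y s)) (z (r * s) - (z r + z s + y s * x r)) (by
        rw [← sub_eq_zero] at h
        rw [← h]; module)
      exact ⟨sub_eq_zero.mp h2.1, sub_eq_zero.mp h2.2⟩
    let f : (P₀ : Subgroup G) →* Multiplicative (𝔽 × 𝔽) :=
      { toFun := fun r => Multiplicative.ofAdd (x r, y r)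
        map_one' := by
          have h1 := hx1 1 1
          have h2 := (hyz1 1 1).1
          rw [mul_one, left_eq_add] at h1 h2
          rw [h1, h2]; rfl
        map_mul' := fun r s => by rw [hx1, (hyz1 r s).1]; rfl }
    have hf : Function.Injective f := by
      rw [injective_iff_map_eq_one]
      intro r hr
      have := congrArg Multiplicative.toAdd hr
      simp only [f, MonoidHom.coe_mk, OneHom.coe_mk, toAdd_ofAdd, toAdd_one, Prod.mk_eq_zero] at this
      exact hne r this.1 this.2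
    have hdet : ∀ r s, y s * x r = y r * x s := by
      intro r s
      have h1 := (hyz1 r s).2
      have h2 := (hyz1 s r).2
      rw [hf (show f (r * s) = f (s * r) by rw [map_mul, map_mul, mul_comm])] at h1
      linear_combination h2 - h1
    apply hgt
    have hle : ∀ g : ↥(P₀ : Subgroup G) → 𝔽, Function.Injective g →
        Nat.card (P₀ : Subgroup G) ≤ p := fun g hg =>
      (Nat.card_le_card_of_injective g hg).trans_eq (Nat.card_zmod p)
    by_cases hx0 : ∃ r, x r ≠ 0
    · obtain ⟨r₀, hr₀⟩ := hx0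
      refine hle x fun r s hrs => hf ?_
      have h1 := hdet r₀ r
      have h2 := hdet r₀ s
      rw [hrs] at h1
      show Multiplicative.ofAdd (x r, y r) = Multiplicative.ofAdd (x s, y s)
      rw [hrs, mul_right_cancel₀ hr₀ (h1.trans h2.symm)]
    · push Not at hx0
      refine hle y fun r s hrs => hf ?_
      show Multiplicative.ofAdd (x r, y r) = Multiplicative.ofAdd (x s, y s)
      rw [hx0, hx0, hrs]
  have hzt : z t ≠ 0 := by
    intro h
    refine ht1 (Subtype.ext (hinj (hext _ _ ?_ ?_ ?_)))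
    · simp [hfe]
    · simp [hrc, htx]
    · simp [hyz, hty, h]
  have ht : IsTransv ρ (t : G) (z t • e) φ := ⟨smul_ne_zero hzt he, fun h => by simp [h] at hφa,
    by simp [hφe], fun v => by
      obtain ⟨s, q, hsq⟩ := Submodule.mem_span_pair.mp (hdec v)
      have : v = φ v • a + (s • e + q • c) := by rw [hsq]; abel
      conv_lhs => rw [this]
      simp only [map_add, map_smul, hfe, hrc, hyz, htx, hty, zero_smul, add_zero, smul_add]
      conv_rhs => rw [show v + φ v • z t • e = (φ v • a + (s • e + q • c)) + φ v • z t • e by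
        rw [← this]]
      abel⟩
  set e₁ := z t • e with he₁
  have hfe₁ : ∀ r : (P₀ : Subgroup G), ρ r e₁ = e₁ := fun r => by rw [he₁, map_smul, hfe]
  clear_value e₁
  -- every element lies in `Y`
  refine hYne (eq_top_iff.mpr fun g _ => ?_)
  by_cases hge : φ (ρ g e₁) = 0
  · exact mem_of_axis ht hinj P₀ t.2 hY' g hge
  by_cases hgi : φ (ρ g⁻¹ e₁) = 0
  · simpa using Y.inv_mem (mem_of_axis ht hinj P₀ t.2 hY' g⁻¹ hgi)
  obtain ⟨s₀, hs₀⟩ : ∃ s : (P₀ : Subgroup G), s ∉ Subgroup.zpowers t := by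
    by_contra hne
    push Not at hne
    have h1 : Subgroup.zpowers t = ⊤ := eq_top_iff.mpr fun s _ => hne s
    have h2 := Nat.card_zpowers t
    rw [h1, Subgroup.card_top, orderOf_eq_prime (Subtype.ext (by simpa using pow_prime ht hinj)) ht1] at h2
    omega
  obtain ⟨j, hj⟩ : ∃ j : ℕ, φ (ρ g⁻¹ (ρ (s₀ : G) (ρ g e₁))) +
      (j : 𝔽) * (φ (ρ g e₁) * φ (ρ g⁻¹ e₁)) = 0 := by
    refine ⟨(-φ (ρ g⁻¹ (ρ (s₀ : G) (ρ g e₁))) / (φ (ρ g e₁) * φ (ρ g⁻¹ e₁))).val, ?_⟩
    rw [ZMod.natCast_zmod_val, div_mul_cancel₀ _ (mul_ne_zero hge hgi), add_neg_cancel]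
  set s : (P₀ : Subgroup G) := s₀ * t ^ j with hs
  have hs1 : (s : G) ≠ 1 := by
    intro h
    have h' : s₀ * t ^ j = 1 := Subtype.ext h
    exact hs₀ (eq_inv_of_mul_eq_one_left h' ▸ inv_mem (pow_mem (Subgroup.mem_zpowers t) j))
  have hgs : g⁻¹ * s * g ∈ Y := by
    refine mem_of_axis ht hinj P₀ t.2 hY' _ ?_
    rw [map_mul, map_mul, End.mul_apply, End.mul_apply, hs, Subgroup.coe_mul, SubmonoidClass.coe_pow,
      map_mul, End.mul_apply, pow_apply ht, map_add, map_smul, hfe₁, map_add, map_smul, map_add,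
      map_smul, smul_eq_mul]
    linear_combination hj
  obtain ⟨u, hu⟩ := Cfsg.Lib.Invol.exists_conj_mem_sylow
    (P₀.subtype ((Subgroup.le_normalizer).trans (hY' _ le_rfl fun h => ht1 (Subtype.ext (by
      simpa [h] using t.2)))))
    (K := Subgroup.zpowers (⟨g⁻¹ * s * g, hgs⟩ : Y)) (by
      rintro ⟨w, hw⟩
      obtain ⟨k, hk⟩ := P₀.isPGroup' s
      obtain ⟨n, rfl⟩ := Subgroup.mem_zpowers_iff.mp hw
      refine ⟨k, Subtype.ext (Subtype.ext ?_)⟩
      have hk' : (s : G) ^ p ^ k = 1 := by simpa using congrArg Subtype.val hk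
      simp only [SubmonoidClass.coe_pow, OneMemClass.coe_one, SubgroupClass.coe_zpow]
      rw [← zpow_natCast, ← zpow_mul, mul_comm n, zpow_mul, zpow_natCast,
        show g⁻¹ * (s : G) * g = g⁻¹ * (s : G) * g⁻¹⁻¹ by rw [inv_inv], conj_pow, hk', mul_one,
        mul_inv_cancel, one_zpow])
  have hug : (u : G) * g⁻¹ ∈ Y := mem_of_conj_mem P₀ hY' s.2 hs1 (by
    have := hu _ (Subgroup.mem_zpowers _)
    change (u : G) * (g⁻¹ * s * g) * (u : G)⁻¹ ∈ (P₀ : Subgroup G) at this
    convert this using 1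
    group)
  simpa using Y.mul_mem (Y.inv_mem hug) u.2

end CardSylow

section Structure

variable (ρ : G →* Module.End (ZMod p) V)

omit [Finite V] [Finite G] in
/-- Two opposite transvections generate diagonal automorphisms. -/
theorem exists_diag {t : G} {e : V} {φ : V →ₗ[𝔽] 𝔽} (hφe : φ e = 0)
    (ht : ∀ v : V, ρ t v = v + φ v • e) {g : G} (h1 : φ (ρ g e) ≠ 0) (h2 : φ (ρ g⁻¹ e) ≠ 0)
    {r : 𝔽} (hr : r ≠ 0) : ∃ d ∈ Subgroup.normalClosure ({t} : Set G), ρ d e = r • e ∧
      ρ d (ρ g e) = r⁻¹ • ρ g e ∧ ∀ v, φ v = 0 → φ (ρ g⁻¹ v) = 0 → ρ d v = v := by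
  set N := Subgroup.normalClosure ({t} : Set G)
  have htN : t ∈ N := Subgroup.subset_normalClosure rfl
  have hpow : ∀ (n : ℕ) (v : V), ρ (t ^ n) v = v + ((n : 𝔽) * φ v) • e := by
    intro n v
    induction n with
    | zero => simp
    | succ n ih =>
      rw [pow_succ', map_mul, End.mul_apply, ih, map_add, map_smul, ht, ht e, hφe]
      push_cast
      module
  have hT : ∀ s : 𝔽, ∃ x ∈ N, ∀ v, ρ x v = v + (s * φ v) • e := fun s =>
    ⟨t ^ s.val, pow_mem htN _, fun v => by rw [hpow, ZMod.natCast_zmod_val]⟩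
  have hT' : ∀ s : 𝔽, ∃ x ∈ N, ∀ v, ρ x v = v + (s * φ (ρ g⁻¹ v)) • ρ g e := fun s =>
    ⟨g * t ^ s.val * g⁻¹, Subgroup.normalClosure_normal.conj_mem _ (pow_mem htN _) g, fun v => by
      rw [map_mul, map_mul, End.mul_apply, End.mul_apply, hpow, map_add, map_smul, map_mul_inv_apply,
        ZMod.natCast_zmod_val]⟩
  set f := ρ g e with hf
  have hψf : φ (ρ g⁻¹ f) = 0 := by rw [hf, map_inv_mul_apply, hφe]
  have hw : ∀ s : 𝔽, s ≠ 0 → ∃ w ∈ N, ρ w e = -s⁻¹ • f ∧ ρ w f = s • e ∧
      ∀ v, φ v = 0 → φ (ρ g⁻¹ v) = 0 → ρ w v = v := by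
    intro s hs
    obtain ⟨x, hxN, hx⟩ := hT (s / φ f)
    obtain ⟨y, hyN, hy⟩ := hT' (-(s * φ (ρ g⁻¹ e))⁻¹)
    refine ⟨x * y * x, mul_mem (mul_mem hxN hyN) hxN, ?_, ?_, fun v hv hv' => ?_⟩
    · simp only [map_mul ρ (x * y), map_mul ρ x y, End.mul_apply, hx, hy, hφe, mul_zero, zero_smul,
        add_zero, map_add, map_smul, smul_eq_mul, zero_add]
      match_scalars <;> field_simp <;> ring
    · simp only [map_mul ρ (x * y), map_mul ρ x y, End.mul_apply, hx, hy, hφe, hψf, mul_zero,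
        zero_smul, add_zero, map_add, map_smul, smul_eq_mul]
      match_scalars <;> field_simp <;> ring
    · simp [map_mul, hx, hy, hv, hv']
  obtain ⟨w, hwN, hwe, hwf, hwv⟩ := hw r hr
  obtain ⟨w', hw'N, hw'e, hw'f, hw'v⟩ := hw (-1) (neg_ne_zero.mpr one_ne_zero)
  refine ⟨w * w', mul_mem hwN hw'N, ?_, ?_, fun v hv hv' => ?_⟩
  · rw [map_mul, End.mul_apply, hw'e, map_smul, hwf, smul_smul]
    norm_num
  · rw [map_mul, End.mul_apply, hw'f, map_smul, hwe, smul_smul]
    norm_num
  · rw [map_mul, End.mul_apply, hw'v v hv hv', hwv v hv hv']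

omit [Finite V] [Finite G] in
/-- An element of `1 + N` with `N ^ 2 = 0` has order dividing `p`. -/
theorem pow_eq_one_of_square_zero (hinj : Function.Injective ρ) {g : G}
    (h : ∀ v, ρ g (ρ g v - v) = ρ g v - v) : g ^ p = 1 := by
  have hpow : ∀ (n : ℕ) (v : V), ρ (g ^ n) v = v + (n : 𝔽) • (ρ g v - v) := by
    intro n v
    induction n with
    | zero => simp
    | succ n ih =>
      rw [pow_succ', map_mul, End.mul_apply, ih, map_add, map_smul, h]
      push_cast
      module
  exact hinj (LinearMap.ext fun v => by rw [hpow]; simp)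

omit hp in
theorem isPGroup_of_exponent {H : Type*} [Group H] (h : ∀ x : H, x ^ p = 1) : IsPGroup p H :=
  fun x => ⟨1, by rw [pow_one]; exact h x⟩

/-- A Sylow subgroup of order `p` acting with a single Jordan block forces irreducibility. -/
theorem irreducible_of_regular (hp2 : p ≠ 2) (hV : finrank 𝔽 V = 3) (hinj : Function.Injective ρ)
    (hO : ∀ N : Subgroup G, N.Normal → IsPGroup p N → N = ⊥) (P : Sylow p G) {u : G}
    (hu : u ∈ (P : Subgroup G))
    (hreg : ∃ v, ρ u (ρ u v - v) ≠ ρ u v - v) (U : Submodule 𝔽 V)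
    (hU : ∀ g, ∀ v ∈ U, ρ g v ∈ U) : U = ⊥ ∨ U = ⊤ := by
  obtain ⟨e, c, a, φ, he, hφe, hφc, hφa, hce, hfe, hfc, hfφ, hker, hdec⟩ :=
    exists_chain hV P.isPGroup' (ρ.comp (P : Subgroup G).subtype)
  simp only [MonoidHom.coe_comp, Subgroup.coe_subtype, Function.comp_apply] at hfe hfc hfφ
  have hue : ρ u e = e := hfe ⟨u, hu⟩
  have huφ : ∀ v, φ (ρ u v) = φ v := hfφ ⟨u, hu⟩
  obtain ⟨x, hx⟩ := Submodule.mem_span_singleton.mp (hfc ⟨u, hu⟩)
  have huc : ρ u c = c + x • e := by rw [hx]; simp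
  obtain ⟨z, y, hzy⟩ := Submodule.mem_span_pair.mp (hker (ρ u a - a) (by rw [map_sub, huφ, sub_self]))
  have hua : ρ u a = a + y • c + z • e := by rw [← sub_add_cancel (ρ u a) a, ← hzy]; abel
  have hcoord : ∀ v, ∃ s q : 𝔽, v = φ v • a + (s • e + q • c) := by
    intro v
    obtain ⟨s, q, hsq⟩ := Submodule.mem_span_pair.mp (hdec v)
    exact ⟨s, q, by rw [hsq]; abel⟩
  have hker0 : ∀ v, φ v = 0 → ∃ s q : 𝔽, v = s • e + q • c := fun v hv => by
    obtain ⟨s, q, h⟩ := hcoord v
    exact ⟨s, q, by rwa [hv, zero_smul, zero_add] at h⟩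
  have hxy : x ≠ 0 ∧ y ≠ 0 := by
    obtain ⟨v, hv⟩ := hreg
    obtain ⟨s, q, hsq⟩ := hcoord v
    constructor <;> intro h0 <;> refine hv ?_
    · rw [hsq]
      simp only [map_add, map_smul, map_sub, hue, huc, hua, h0, zero_smul, add_zero]
      module
    · rw [hsq]
      simp only [map_add, map_smul, map_sub, hue, huc, hua, h0, zero_smul, add_zero]
      module
  obtain ⟨hx0, hy0⟩ := hxy
  have h2 : (2 : 𝔽) ≠ 0 := by
    intro h
    exact hp2 ((Nat.prime_dvd_prime_iff_eq hp.out Nat.prime_two).mp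
      ((ZMod.natCast_eq_zero_iff _ _).mp (show ((2 : ℕ) : 𝔽) = 0 by exact_mod_cast h)))
  have h2u : ∀ v : V, v = -v → v = 0 := fun v hv => by
    have : (2 : 𝔽) • v = 0 := by rw [two_smul]; nth_rewrite 2 [hv]; exact add_neg_cancel v
    exact (smul_eq_zero.mp this).resolve_left h2
  -- `u` normalises no plane and no line
  have hkill : ∀ (N : Subgroup G), N.Normal → (∀ g : N, (g : G) ^ p = 1) → ∀ g ∈ N, g = 1 := by
    intro N hN hexp g hg
    have := hO N hN (isPGroup_of_exponent fun g => Subtype.ext (by simpa using hexp g))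
    rwa [this, Subgroup.mem_bot] at hg
  have hH : ∀ g₀ : G, ρ g₀ e ∉ Submodule.span 𝔽 {e} → ¬ ∀ g v, φ v = 0 → φ (ρ g v) = 0 := by
    intro g₀ hg₀ hinv
    obtain ⟨χ, hχ⟩ : ∃ χ : G → 𝔽, ∀ g v, φ (ρ g v) = χ g * φ v := by
      refine ⟨fun g => φ (ρ g a), fun g v => ?_⟩
      obtain ⟨s, q, hsq⟩ := hcoord v
      conv_lhs => rw [hsq]
      rw [map_add, map_add, map_smul, map_smul, smul_eq_mul,
        hinv g (s • e + q • c) (by simp [hφe, hφc]), add_zero, mul_comm]
    let K₁ : Subgroup G :=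
      { carrier := {g | ∀ v, φ (ρ g v) = φ v}
        one_mem' := fun v => by simp
        mul_mem' := fun {g h} hg hh v => by rw [map_mul, End.mul_apply, hg, hh]
        inv_mem' := fun {g} hg v => by rw [← hg (ρ g⁻¹ v), map_mul_inv_apply] }
    haveI hK₁ : K₁.Normal := ⟨fun n hn g v => by
      rw [map_mul, map_mul, End.mul_apply, End.mul_apply, hχ, hn, ← hχ, map_mul_inv_apply]⟩
    let H := LinearMap.ker φ
    let σ : G →* Module.End 𝔽 H :=
      { toFun := fun g => (ρ g).restrict fun v (hv : v ∈ H) =>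
          LinearMap.mem_ker.mpr (hinv g v (LinearMap.mem_ker.mp hv))
        map_one' := LinearMap.ext fun v => Subtype.ext (by simp)
        map_mul' := fun g h => LinearMap.ext fun v => Subtype.ext (by simp) }
    have hσ : ∀ (g : G) (v : H), ((σ g v : H) : V) = ρ g v := fun g v => rfl
    obtain ⟨f, hfc', hfe'⟩ := Submodule.exists_dual_map_eq_bot_of_notMem hce inferInstance
    have hfe0 : f e = 0 := by
      have := Submodule.mem_map_of_mem (f := f) (Submodule.mem_span_singleton_self e)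
      rwa [hfe', Submodule.mem_bot] at this
    let φH : H →ₗ[𝔽] 𝔽 := ((f c)⁻¹ • f).comp H.subtype
    have hφH : ∀ v : H, φH v = (f c)⁻¹ * f (v : V) := fun v => rfl
    let eH : H := ⟨x • e, by simp [H, hφe]⟩
    have hφHe : φH eH = 0 := by simp [hφH, eH, hfe0]
    have hφHc : ∀ s q : 𝔽, (f c)⁻¹ * f (s • e + q • c) = q := fun s q => by
      rw [map_add, map_smul, map_smul, hfe0]; simp [mul_left_comm _ q, hfc']
    have htH : ∀ v : H, σ u v = v + φH v • eH := by
      intro v
      obtain ⟨s, q, hv⟩ := hker0 v (LinearMap.mem_ker.mp v.2)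
      refine Subtype.ext ?_
      rw [hσ, Submodule.coe_add, Submodule.coe_smul, hφH, hv, hφHc]
      simp only [eH, map_add, map_smul, hue, huc]
      module
    have hcentre : ∀ g : G, φH (σ g eH) = 0 → ρ g e ∈ Submodule.span 𝔽 {e} := by
      intro g h
      obtain ⟨s, q, hv⟩ := hker0 (ρ g e) (hinv g e hφe)
      rw [hφH, hσ, show ρ g (eH : V) = x • ρ g e from map_smul _ _ _, hv, map_smul, smul_eq_mul,
        mul_left_comm, hφHc, mul_eq_zero] at h
      rw [hv, h.resolve_left hx0, zero_smul, add_zero]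
      exact Submodule.smul_mem _ _ (Submodule.mem_span_singleton_self e)
    have hg₁ : φH (σ g₀⁻¹ eH) ≠ 0 := by
      intro h
      obtain ⟨k, hk⟩ := Submodule.mem_span_singleton.mp (hcentre _ h)
      have hk0 : k ≠ 0 := fun hk0 => he (by
        rw [← map_mul_inv_apply ρ g₀ e, ← hk, hk0, zero_smul, map_zero])
      refine hg₀ (Submodule.mem_span_singleton.mpr ⟨k⁻¹, ?_⟩)
      rw [inv_smul_eq_iff₀ hk0, ← map_smul, hk, map_mul_inv_apply]
    obtain ⟨d, hd, hde, hdf, -⟩ := exists_diag σ hφHe htH (fun h => hg₀ (hcentre _ h)) hg₁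
      (r := -1) (neg_ne_zero.mpr one_ne_zero)
    have hde' : ρ d e = -e := by
      have := congrArg (fun v : H => x⁻¹ • (v : V)) hde
      simpa [hσ, eH, map_smul, smul_smul, hx0] using this
    have hdf' : ρ d (ρ g₀ e) = -ρ g₀ e := by
      have := congrArg (fun v : H => x⁻¹ • (v : V)) hdf
      simpa [hσ, eH, map_smul, smul_smul, hx0, inv_neg] using this
    have hdH : ∀ v, φ v = 0 → ρ d v = -v := by
      intro v hv
      obtain ⟨s, q, hg⟩ := hker0 (ρ g₀ e) (hinv g₀ e hφe)
      have hq : q ≠ 0 := fun hq => hg₀ (by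
        rw [hg, hq, zero_smul, add_zero]
        exact Submodule.smul_mem _ _ (Submodule.mem_span_singleton_self e))
      have hdc : ρ d c = -c := by
        have h3 := hdf'
        rw [hg, map_add, map_smul, map_smul, hde', smul_neg, neg_add, add_right_inj, ← smul_neg] at h3
        exact smul_right_injective V hq h3
      obtain ⟨s', q', rfl⟩ := hker0 v hv
      rw [map_add, map_smul, map_smul, hde', hdc]
      module
    have hdφ : ∀ v, φ (ρ d v) = φ v :=
      (show Subgroup.normalClosure ({u} : Set G) ≤ K₁ from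
        Subgroup.normalClosure_le_normal (Set.singleton_subset_iff.mpr huφ)) hd
    let K : Subgroup G :=
      { carrier := {g | (∀ v, φ v = 0 → ρ g v = v) ∧ ∀ v, φ (ρ g v) = φ v}
        one_mem' := ⟨fun v _ => by simp, fun v => by simp⟩
        mul_mem' := fun {g h} hg hh => ⟨fun v hv => by
          rw [map_mul, End.mul_apply, hh.1 v hv, hg.1 v hv], K₁.mul_mem hg.2 hh.2⟩
        inv_mem' := fun {g} hg => ⟨fun v hv => by
          conv_lhs => rw [← hg.1 v hv]
          rw [map_inv_mul_apply], K₁.inv_mem hg.2⟩ }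
    haveI hK : K.Normal := ⟨fun n hn g => ⟨fun v hv => by
      rw [map_mul, map_mul, End.mul_apply, End.mul_apply, hn.1 _ (hinv _ v hv), map_mul_inv_apply],
      hK₁.conj_mem n hn.2 g⟩⟩
    have hK1 := hkill K hK fun g => pow_eq_one_of_square_zero ρ hinj fun v =>
      g.2.1 _ (by rw [map_sub, g.2.2, sub_self])
    have hq : d * u * d⁻¹ * u⁻¹ = 1 := by
      refine hK1 _ ⟨fun v hv => ?_, K₁.mul_mem (hK₁.conj_mem u huφ d) (K₁.inv_mem huφ)⟩
      rw [map_mul, End.mul_apply, map_mul, map_mul, End.mul_apply, End.mul_apply]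
      have h3 : φ (ρ u⁻¹ v) = 0 := hinv _ v hv
      have h4 : ρ d⁻¹ (ρ u⁻¹ v) = -ρ u⁻¹ v := by
        conv_lhs => rw [show ρ u⁻¹ v = ρ d (-ρ u⁻¹ v) by rw [map_neg, hdH _ h3, neg_neg]]
        rw [map_inv_mul_apply]
      rw [h4, map_neg, map_mul_inv_apply, map_neg, hdH v hv, neg_neg]
    have hcomm : ∀ v, ρ d (ρ u v) = ρ u (ρ d v) := fun v => by
      rw [← End.mul_apply, ← map_mul, ← End.mul_apply, ← map_mul]
      rw [mul_inv_eq_one, mul_inv_eq_iff_eq_mul] at hq
      rw [hq]
    set h := ρ d a - a with hh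
    have hφh : φ h = 0 := by rw [hh, map_sub, hdφ, sub_self]
    set v := a + (2 : 𝔽)⁻¹ • h with hv
    have hdv : ρ d v = v := by
      rw [hv, map_add, map_smul, hdH h hφh, show ρ d a = a + h by rw [hh]; abel]
      match_scalars <;> field_simp <;> ring
    have hDv : ρ u v - v = 0 := by
      have h0 : φ (ρ u v - v) = 0 := by rw [map_sub, huφ, sub_self]
      refine h2u _ ?_
      rw [← hdH _ h0, map_sub, hcomm, hdv]
    obtain ⟨s, q, hsq⟩ := hker0 h hφh
    rw [hv, hsq] at hDv
    simp only [map_add, map_smul, hue, huc, hua] at hDv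
    have h5 : y • c + (z + (2 : 𝔽)⁻¹ * q * x) • e = 0 := by rw [← hDv]; module
    refine hce (Submodule.mem_span_singleton.mpr ⟨y⁻¹ * -(z + (2 : 𝔽)⁻¹ * q * x), ?_⟩)
    rw [mul_smul, neg_smul, ← eq_neg_of_add_eq_zero_left h5, inv_smul_smul₀ hy0]
  -- no line
  have hE : ¬ ∀ g, ρ g e ∈ Submodule.span 𝔽 {e} := by
    intro hinv
    by_cases hHinv : ∀ g v, φ v = 0 → φ (ρ g v) = 0
    · -- both: a flag
      let K₂ : Subgroup G :=
        { carrier := {g | ρ g e = e ∧ ρ g c - c ∈ Submodule.span 𝔽 {e} ∧ ∀ v, φ (ρ g v) = φ v}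
          one_mem' := ⟨by simp, by simp, fun v => by simp⟩
          mul_mem' := fun {g h} hg hh => ⟨by rw [map_mul, End.mul_apply, hh.1, hg.1], by
            rw [map_mul, End.mul_apply]
            obtain ⟨k, hk⟩ := Submodule.mem_span_singleton.mp hh.2.1
            have : ρ g (ρ h c) = ρ g c + k • e := by
              rw [show ρ h c = c + k • e by rw [hk]; abel, map_add, map_smul, hg.1]
            rw [this, add_sub_right_comm]
            exact add_mem hg.2.1 (Submodule.smul_mem _ _ (Submodule.mem_span_singleton_self e)),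
            fun v => by rw [map_mul, End.mul_apply, hg.2.2, hh.2.2]⟩
          inv_mem' := fun {g} hg => by
            have hie : ρ g⁻¹ e = e := by conv_lhs => rw [← hg.1, map_inv_mul_apply]
            refine ⟨hie, ?_, fun v => by rw [← hg.2.2 (ρ g⁻¹ v), map_mul_inv_apply]⟩
            obtain ⟨k, hk⟩ := Submodule.mem_span_singleton.mp hg.2.1
            have : ρ g⁻¹ (ρ g c) = ρ g⁻¹ c + k • e := by
              rw [show ρ g c = c + k • e by rw [hk]; abel, map_add, map_smul, hie]
            rw [map_inv_mul_apply] at this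
            rw [show ρ g⁻¹ c - c = -(k • e) by nth_rewrite 2 [this]; abel]
            exact neg_mem (Submodule.smul_mem _ _ (Submodule.mem_span_singleton_self e)) }
      haveI : K₂.Normal := ⟨fun n hn g => by
        obtain ⟨k, hk⟩ := Submodule.mem_span_singleton.mp (hinv g⁻¹)
        refine ⟨?_, ?_, fun v => ?_⟩
        · rw [map_mul, map_mul, End.mul_apply, End.mul_apply, ← hk, map_smul, hn.1, map_smul]
          nth_rewrite 2 [← map_mul_inv_apply ρ g e]
          rw [← hk, map_smul]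
        · obtain ⟨s, q, hsq⟩ := hker0 _ (hHinv g⁻¹ c hφc)
          have : ρ (g * n * g⁻¹) c - c = q • ρ g (ρ n c - c) := by
            rw [map_mul, map_mul, End.mul_apply, End.mul_apply, hsq]
            nth_rewrite 2 [← map_mul_inv_apply ρ g c]
            rw [hsq, map_add, map_smul, map_smul, hn.1]
            simp only [map_add, map_smul, map_sub]
            module
          rw [this]
          obtain ⟨m, hm⟩ := Submodule.mem_span_singleton.mp hn.2.1
          rw [← hm, map_smul]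
          exact Submodule.smul_mem _ _ (Submodule.smul_mem _ _ (hinv g))
        · rw [map_mul, map_mul, End.mul_apply, End.mul_apply]
          have h3 : φ (ρ g (ρ n (ρ g⁻¹ v) - ρ g⁻¹ v)) = 0 :=
            hHinv _ _ (by rw [map_sub, hn.2.2, sub_self])
          rwa [map_sub, map_sub, map_mul_inv_apply, sub_eq_zero] at h3⟩
      have huK : u ∈ K₂ := ⟨hue, hfc ⟨u, hu⟩, huφ⟩
      let K₃ : Subgroup G :=
        { carrier := {g | g ∈ K₂ ∧ ρ g c = c}
          one_mem' := ⟨K₂.one_mem, by simp⟩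
          mul_mem' := fun {g h} hg hh => ⟨K₂.mul_mem hg.1 hh.1, by
            rw [map_mul, End.mul_apply, hh.2, hg.2]⟩
          inv_mem' := fun {g} hg => ⟨K₂.inv_mem hg.1, by conv_lhs => rw [← hg.2, map_inv_mul_apply]⟩ }
      haveI hK₃ : K₃.Normal := ⟨fun n hn g => ⟨Subgroup.Normal.conj_mem inferInstance n hn.1 g, by
        obtain ⟨s, q, hsq⟩ := hker0 _ (hHinv g⁻¹ c hφc)
        rw [map_mul, map_mul, End.mul_apply, End.mul_apply, hsq, map_add, map_smul, map_smul, hn.1.1,
          hn.2, ← hsq, map_mul_inv_apply]⟩⟩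
      have hK31 := hkill K₃ hK₃ fun g => pow_eq_one_of_square_zero ρ hinj fun v => by
        obtain ⟨s, q, hsq⟩ := hker0 (ρ (g : G) v - v) (by rw [map_sub, g.2.1.2.2, sub_self])
        rw [hsq, map_add, map_smul, map_smul, g.2.1.1, g.2.2]
      have hK21 := hkill K₂ inferInstance fun g => by
        have hpow : ∀ n : ℕ, ∃ k : 𝔽, ρ (g : G) c = c + k • e ∧ ρ ((g : G) ^ n) c = c + (n : 𝔽) • k • e := by
          intro n
          obtain ⟨k, hk⟩ := Submodule.mem_span_singleton.mp g.2.2.1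
          have hgc : ρ (g : G) c = c + k • e := by rw [hk]; abel
          refine ⟨k, hgc, ?_⟩
          induction n with
          | zero => simp
          | succ n ih =>
            rw [pow_succ', map_mul, End.mul_apply, ih, map_add, map_smul, map_smul, g.2.1, hgc]
            push_cast
            module
        refine hK31 _ ⟨K₂.pow_mem g.2 p, ?_⟩
        obtain ⟨k, -, hk⟩ := hpow p
        simpa using hk
      have hu1 := hK21 u huK
      obtain ⟨v, hv⟩ := hreg
      simp [hu1] at hv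
    push Not at hHinv
    obtain ⟨g₀, v₀, hv₀, hgv₀⟩ := hHinv
    set N := Submodule.span 𝔽 {e} with hN
    have hNinv : ∀ g, N ≤ N.comap (ρ g) := fun g => by
      rw [hN, Submodule.span_singleton_le_iff_mem, Submodule.mem_comap]
      exact hinv g
    have hNφ : N ≤ LinearMap.ker φ := by
      rw [hN, Submodule.span_singleton_le_iff_mem]
      exact hφe
    let σ : G →* Module.End 𝔽 (V ⧸ N) :=
      { toFun := fun g => N.mapQ N (ρ g) (hNinv g)
        map_one' := Submodule.linearMap_qext _ (LinearMap.ext fun v => by simp)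
        map_mul' := fun r s => Submodule.linearMap_qext _ (LinearMap.ext fun v => by simp) }
    have hσ : ∀ g v, σ g (N.mkQ v) = N.mkQ (ρ g v) := fun g v => rfl
    have hmk : ∀ s : 𝔽, N.mkQ (s • e) = 0 := fun s => by
      rw [Submodule.mkQ_apply, Submodule.Quotient.mk_eq_zero]
      exact Submodule.smul_mem _ _ (Submodule.mem_span_singleton_self e)
    set c' := N.mkQ (y • c) with hc'
    let φQ : (V ⧸ N) →ₗ[𝔽] 𝔽 := N.liftQ φ hNφ
    have hφQ : ∀ v, φQ (N.mkQ v) = φ v := fun v => rfl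
    have htQ : ∀ v, σ u v = v + φQ v • c' := by
      intro v
      obtain ⟨v, rfl⟩ := N.mkQ_surjective v
      obtain ⟨s, q, hsq⟩ := hcoord v
      rw [hσ, hφQ, hc', ← map_smul, ← map_add, Submodule.mkQ_apply, Submodule.mkQ_apply,
        Submodule.Quotient.eq]
      refine Submodule.mem_span_singleton.mpr ⟨φ v * z + q * x, ?_⟩
      conv_rhs => rw [hsq]
      simp only [map_add, map_smul, hue, huc, hua, hφe, hφc, hφa, smul_eq_mul, mul_zero, mul_one,
        add_zero]
      module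
    have hgc : ∀ g, φQ (σ g c') = y * φ (ρ g c) := fun g => by
      rw [hc', hσ, hφQ, map_smul, map_smul, smul_eq_mul]
    obtain ⟨s₀, q₀, rfl⟩ := hker0 v₀ hv₀
    have hge : ∀ g, φ (ρ g e) = 0 := fun g => hNφ (hinv g)
    have hg₁ : φ (ρ g₀ c) ≠ 0 := fun h => hgv₀ (by simp [h, hge])
    have hg₂ : φ (ρ g₀⁻¹ c) ≠ 0 := by
      intro h
      obtain ⟨s, q, hsq⟩ := hker0 _ h
      have hq : q ≠ 0 := fun hq => hce (by
        rw [← map_mul_inv_apply ρ g₀ c, hsq, hq, zero_smul, add_zero, map_smul]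
        exact Submodule.smul_mem _ _ (hinv g₀))
      have := congrArg (fun w => φ (ρ g₀ w)) hsq
      simp only [map_mul_inv_apply, hφc, map_add, map_smul, hge, smul_eq_mul, mul_zero, zero_add] at this
      exact hg₁ ((mul_eq_zero.mp this.symm).resolve_left hq)
    obtain ⟨d, hd, hde, hdf, -⟩ := exists_diag σ (e := c') (φ := φQ)
      (by rw [hc', hφQ, map_smul, hφc, smul_zero]) htQ (g := g₀)
      (by rw [hgc]; exact mul_ne_zero hy0 hg₁) (by rw [hgc]; exact mul_ne_zero hy0 hg₂)
      (r := -1) (neg_ne_zero.mpr one_ne_zero)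
    let K₁ : Subgroup G :=
      { carrier := {g | ρ g e = e}
        one_mem' := by simp
        mul_mem' := fun {g h} (hg : ρ g e = e) (hh : ρ h e = e) => show ρ (g * h) e = e by
          rw [map_mul, End.mul_apply, hh, hg]
        inv_mem' := fun {g} (hg : ρ g e = e) => show ρ g⁻¹ e = e by
          conv_lhs => rw [← hg, map_inv_mul_apply] }
    haveI hK₁ : K₁.Normal := ⟨fun n hn g => by
      show ρ (g * n * g⁻¹) e = e
      obtain ⟨k, hk⟩ := Submodule.mem_span_singleton.mp (hinv g⁻¹)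
      rw [map_mul, map_mul, End.mul_apply, End.mul_apply, ← hk, map_smul, (hn : ρ n e = e), hk,
        map_mul_inv_apply]⟩
    have hde1 : ρ d e = e :=
      (show Subgroup.normalClosure ({u} : Set G) ≤ K₁ from
        Subgroup.normalClosure_le_normal (Set.singleton_subset_iff.mpr hue)) hd
    -- `d` is `-1` on the quotient
    have hdneg : ∀ v, ρ d v + v ∈ N := by
      intro v
      obtain ⟨s, q, hsq⟩ := hker0 (ρ g₀ c - φ (ρ g₀ c) • a) (by simp [hφa])
      have hf : N.mkQ (ρ g₀ c) = φ (ρ g₀ c) • N.mkQ a + q • N.mkQ c := by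
        rw [show ρ g₀ c = φ (ρ g₀ c) • a + (s • e + q • c) by rw [← hsq]; abel]
        simp only [map_add, map_smul, hmk, hφa, hφe, hφc, smul_eq_mul, mul_zero, mul_one, add_zero,
          zero_add]
      have h1 : σ d (N.mkQ c) = -N.mkQ c := by
        rw [hc', map_smul, map_smul] at hde
        refine smul_right_injective (V ⧸ N) hy0 ?_
        show y • σ d (N.mkQ c) = y • -N.mkQ c
        rw [hde]; module
      have h2' : σ d (N.mkQ a) = -N.mkQ a := by
        have h3 : σ d (N.mkQ (ρ g₀ c)) = -N.mkQ (ρ g₀ c) := by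
          rw [show σ g₀ c' = y • N.mkQ (ρ g₀ c) by rw [hc', hσ, map_smul, map_smul], map_smul] at hdf
          refine smul_right_injective (V ⧸ N) hy0 ?_
          show y • σ d _ = y • -_
          rw [hdf, inv_neg, inv_one]; module
        rw [hf, map_add, map_smul, map_smul, h1, neg_add, ← smul_neg, ← smul_neg, add_left_inj] at h3
        exact smul_right_injective (V ⧸ N) hg₁ h3
      obtain ⟨s', q', hv⟩ := hcoord v
      generalize φ v = k at hv
      subst hv
      rw [← Submodule.Quotient.mk_eq_zero N, ← Submodule.mkQ_apply, map_add, ← hσ]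
      simp only [map_add, map_smul, hmk, h1, h2', map_zero]
      module
    let K : Subgroup G :=
      { carrier := {g | ρ g e = e ∧ ∀ v, ρ g v - v ∈ N}
        one_mem' := ⟨by simp, fun v => by simp⟩
        mul_mem' := fun {g h} hg hh => ⟨K₁.mul_mem hg.1 hh.1, fun v => by
          rw [map_mul, End.mul_apply, ← sub_add_sub_cancel _ (ρ h v)]
          exact add_mem (hg.2 _) (hh.2 v)⟩
        inv_mem' := fun {g} hg => ⟨K₁.inv_mem hg.1, fun v => by
          rw [show ρ g⁻¹ v - v = -(ρ g (ρ g⁻¹ v) - ρ g⁻¹ v) by rw [map_mul_inv_apply]; abel]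
          exact neg_mem (hg.2 _)⟩ }
    haveI hK : K.Normal := ⟨fun n hn g => ⟨hK₁.conj_mem n hn.1 g, fun v => by
      rw [map_mul, map_mul, End.mul_apply, End.mul_apply]
      nth_rewrite 2 [← map_mul_inv_apply ρ g v]
      rw [← map_sub]
      exact hNinv g (hn.2 _)⟩⟩
    have hK1 := hkill K hK fun g => pow_eq_one_of_square_zero ρ hinj fun v => by
      obtain ⟨k, hk⟩ := Submodule.mem_span_singleton.mp (g.2.2 v)
      rw [← hk, map_smul, g.2.1]
    have hq : d * u * d⁻¹ * u⁻¹ = 1 := by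
      refine hK1 _ ⟨K₁.mul_mem (hK₁.conj_mem u hue d) (K₁.inv_mem hue), fun v => ?_⟩
      rw [← Submodule.Quotient.eq]
      show N.mkQ _ = N.mkQ v
      have hσd : ∀ v, σ d v = -v := fun v => by
        obtain ⟨v, rfl⟩ := N.mkQ_surjective v
        rw [hσ, eq_neg_iff_add_eq_zero, ← map_add, Submodule.mkQ_apply, Submodule.Quotient.mk_eq_zero]
        exact hdneg v
      have hσd' : ∀ v, σ d⁻¹ v = -v := fun v => by
        conv_lhs => rw [show v = σ d (-v) by rw [hσd, neg_neg]]
        rw [map_inv_mul_apply]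
      rw [← hσ, map_mul σ (d * u * d⁻¹), map_mul σ (d * u) d⁻¹, map_mul σ d u, End.mul_apply,
        End.mul_apply, End.mul_apply, hσd, hσd', map_neg, map_mul_inv_apply, neg_neg]
    have hcomm : ∀ v, ρ d (ρ u v) = ρ u (ρ d v) := fun v => by
      rw [← End.mul_apply, ← map_mul, ← End.mul_apply, ← map_mul]
      rw [mul_inv_eq_one, mul_inv_eq_iff_eq_mul] at hq
      rw [hq]
    obtain ⟨r, hr⟩ := Submodule.mem_span_singleton.mp (hdneg c)
    set v := c - ((2 : 𝔽)⁻¹ * r) • e with hv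
    have hdv : ρ d v = -v := by
      rw [hv, map_sub, map_smul, hde1, show ρ d c = r • e - c by rw [hr]; abel]
      match_scalars <;> field_simp <;> ring
    have huv : ρ u v = v + x • e := by rw [hv, map_sub, map_smul, hue, huc]; abel
    have h3 := hcomm v
    rw [huv, map_add, map_smul, hde1, hdv, map_neg, huv] at h3
    have h4 : x • e = -(x • e) := by
      rw [neg_add, add_right_inj] at h3
      exact h3
    exact (smul_ne_zero hx0 he) (h2u _ h4)
  -- conclusion
  by_contra hne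
  push Not at hne
  obtain ⟨w, hw, hw0⟩ : ∃ w ∈ U, w ≠ 0 := Submodule.exists_mem_ne_zero_of_ne_bot hne.1
  have hdiff : ∀ v ∈ U, ρ u v - v ∈ U := fun v hv => sub_mem (hU u v hv) hv
  have heU : e ∈ U := by
    obtain ⟨s, q, hsq⟩ := hcoord w
    have h1 := hdiff w hw
    have h1' : ρ u w - w = (φ w * y) • c + (φ w * z + q * x) • e := by
      conv_lhs => rw [hsq]
      simp only [map_add, map_smul, hue, huc, hua]
      module
    rw [h1'] at h1
    have h2' := hdiff _ h1
    have h2'' : ρ u ((φ w * y) • c + (φ w * z + q * x) • e) - ((φ w * y) • c + (φ w * z + q * x) • e) =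
        (φ w * y * x) • e := by
      simp only [map_add, map_smul, hue, huc]
      module
    rw [h2''] at h2'
    by_cases hw1 : φ w = 0
    · by_cases hq : q = 0
      · rw [hsq, hw1, hq, zero_smul, zero_smul, zero_add, add_zero] at hw hw0
        simpa [smul_smul, (smul_ne_zero_iff.mp hw0).1] using U.smul_mem s⁻¹ hw
      · rw [hw1] at h1
        simp only [zero_mul, zero_smul, zero_add] at h1
        exact (U.smul_mem_iff (mul_ne_zero hq hx0)).mp h1
    · exact (U.smul_mem_iff (mul_ne_zero (mul_ne_zero hw1 hy0) hx0)).mp h2'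
  obtain ⟨g₀, hg₀⟩ := not_forall.mp hE
  by_cases hUH : ∀ v ∈ U, φ v = 0
  · -- `U` is the plane
    obtain ⟨s, q, hsq⟩ := hker0 _ (hUH _ (hU g₀ e heU))
    have hq : q ≠ 0 := fun hq => hg₀ (by
      rw [hsq, hq, zero_smul, add_zero]
      exact Submodule.smul_mem _ _ (Submodule.mem_span_singleton_self e))
    have hcU : c ∈ U := by
      have : q • c ∈ U := by
        rw [show q • c = ρ g₀ e - s • e by rw [hsq]; abel]
        exact sub_mem (hU g₀ e heU) (U.smul_mem s heU)
      simpa [smul_smul, hq] using U.smul_mem q⁻¹ this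
    refine hH g₀ hg₀ fun g v hv => ?_
    obtain ⟨s', q', rfl⟩ := hker0 v hv
    exact hUH _ (hU g _ (add_mem (U.smul_mem _ heU) (U.smul_mem _ hcU)))
  · push Not at hUH
    obtain ⟨v, hvU, hv⟩ := hUH
    obtain ⟨s, q, hsq⟩ := hcoord v
    have hcU : c ∈ U := by
      have h1 := hdiff v hvU
      have h1' : ρ u v - v = (φ v * y) • c + (φ v * z + q * x) • e := by
        conv_lhs => rw [hsq]
        simp only [map_add, map_smul, hue, huc, hua]
        module
      rw [h1'] at h1
      have : (φ v * y) • c ∈ U := by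
        simpa using sub_mem h1 (U.smul_mem (φ v * z + q * x) heU)
      exact (U.smul_mem_iff (mul_ne_zero hv hy0)).mp this
    have haU : a ∈ U := by
      have : φ v • a ∈ U := by
        rw [show φ v • a = v - (s • e + q • c) by nth_rewrite 2 [hsq]; abel]
        exact sub_mem hvU (add_mem (U.smul_mem _ heU) (U.smul_mem _ hcU))
      simpa [smul_smul, hv] using U.smul_mem (φ v)⁻¹ this
    refine hne.2 (eq_top_iff.mpr fun w _ => ?_)
    obtain ⟨s', q', hw'⟩ := hcoord w
    rw [hw']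
    exact add_mem (U.smul_mem _ haU) (add_mem (U.smul_mem _ heU) (U.smul_mem _ hcU))

/-- The structure of a group with a transvection and Sylow subgroups of order `p`: a natural plane, an invariant
line, and diagonal automorphisms. -/
theorem transvection_structure (hV : finrank 𝔽 V = 3) (hinj : Function.Injective ρ)
    (hO : ∀ N : Subgroup G, N.Normal → IsPGroup p N → N = ⊥) (P : Sylow p G)
    (hc : Nat.card (P : Subgroup G) = p) {t : G} (htP : t ∈ (P : Subgroup G)) {e₀ : V}
    {φ : V →ₗ[𝔽] 𝔽} (ht : IsTransv ρ t e₀ φ) :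
    ∃ e f c : V, e ≠ 0 ∧ c ≠ 0 ∧ (∀ v, ∃ i j k : 𝔽, v = i • f + j • e + k • c) ∧
      ρ t f = f + e ∧ ρ t e = e ∧ ρ t c = c ∧
      (∀ g, ρ g f ∈ Submodule.span 𝔽 {f, e} ∧ ρ g e ∈ Submodule.span 𝔽 {f, e} ∧
        ρ g c ∈ Submodule.span 𝔽 {c}) ∧
      (∀ U : Submodule 𝔽 V, U ≤ Submodule.span 𝔽 {f, e} → (∀ g, ∀ v ∈ U, ρ g v ∈ U) → U ≠ ⊥ →
        f ∈ U ∧ e ∈ U) ∧
      ∀ r : 𝔽, r ≠ 0 → ∃ d : G, ρ d e = r • e ∧ ρ d f = r⁻¹ • f ∧ ρ d c = c := by
  have hrig := axis_rigid ht hinj P htP hc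
  obtain ⟨g₀, hg₀⟩ : ∃ g, φ (ρ g e₀) ≠ 0 := by
    by_contra hall
    push Not at hall
    have hN : (Subgroup.zpowers t).Normal := by
      refine ⟨fun n hn g => ?_⟩
      obtain ⟨m, rfl⟩ := mem_powers_iff_mem_zpowers.mpr hn
      obtain ⟨k, hk⟩ := Submodule.mem_span_singleton.mp (hrig g (hall g)).1
      obtain ⟨v₀, hv₀⟩ : ∃ v, φ v ≠ 0 := by
        by_contra hne
        push Not at hne
        exact ht.2.1 (LinearMap.ext hne)
      have hμ : ∀ v, φ (ρ g⁻¹ v) = φ (ρ g⁻¹ v₀) / φ v₀ * φ v := fun v => by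
        have h := (hrig g (hall g)).2 (v - (φ v / φ v₀) • v₀) (by simp [hv₀])
        simp only [map_sub, map_smul, smul_eq_mul, sub_eq_zero] at h
        rw [h]; ring
      have : g * t ^ m * g⁻¹ = t ^ ((m : 𝔽) * (φ (ρ g⁻¹ v₀) / φ v₀) * k).val := by
        refine hinj (LinearMap.ext fun v => ?_)
        rw [map_mul, map_mul, End.mul_apply, End.mul_apply, pow_apply ht, pow_apply ht, map_add,
          map_smul, map_mul_inv_apply, hμ v, ← hk, ZMod.natCast_zmod_val, smul_smul]
        match_scalars <;> ring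
      show g * t ^ m * g⁻¹ ∈ Subgroup.zpowers t
      rw [this]
      exact pow_mem (Subgroup.mem_zpowers t) _
    have := hO _ hN (P.isPGroup'.to_le (Subgroup.zpowers_le.mpr htP))
    exact ne_one ht (Subgroup.zpowers_eq_bot.mp this)
  have hψe : φ (ρ g₀⁻¹ e₀) ≠ 0 := by
    intro h
    obtain ⟨k, hk⟩ := Submodule.mem_span_singleton.mp (hrig g₀⁻¹ h).1
    have hk0 : k ≠ 0 := fun hk0 => ht.1 (by
      rw [← map_mul_inv_apply ρ g₀ e₀, ← hk, hk0, zero_smul, map_zero])
    apply hg₀
    have h2 : k * φ (ρ g₀ e₀) = 0 := by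
      rw [← smul_eq_mul, ← map_smul, ← map_smul, hk, map_mul_inv_apply, ht.2.2.1]
    exact (mul_eq_zero.mp h2).resolve_left hk0
  set f := ρ g₀ e₀ with hf
  set ψ : V →ₗ[𝔽] 𝔽 := φ.comp (ρ g₀⁻¹) with hψ
  have hψv : ∀ v, ψ v = φ (ρ g₀⁻¹ v) := fun v => rfl
  have hψf : ψ f = 0 := by rw [hψv, hf, map_inv_mul_apply, ht.2.2.1]
  -- the line
  haveI : Module.Finite 𝔽 V := Module.Finite.of_finite
  set L := LinearMap.ker (φ.prod ψ) with hL
  have hLr : finrank 𝔽 L = 1 := by
    have hr : LinearMap.range (φ.prod ψ) = ⊤ := LinearMap.range_eq_top.mpr fun w =>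
      ⟨(w.1 / φ f) • f + (w.2 / φ (ρ g₀⁻¹ e₀)) • e₀, Prod.ext
        (by simp [ht.2.2.1, hg₀]) (by simp [hψf, hψv e₀, hψe])⟩
    have := (φ.prod ψ).finrank_range_add_finrank_ker
    rw [hr, finrank_top, Module.finrank_prod, Module.finrank_self, hV] at this
    rw [hL]
    omega
  obtain ⟨⟨c, hcL⟩, hc0, hcspan⟩ := finrank_eq_one_iff'.mp hLr
  have hcL' : φ c = 0 ∧ ψ c = 0 := by simpa [hL] using hcL
  have hc0' : c ≠ 0 := fun h => hc0 (Subtype.ext h)
  have hLc : ∀ w, φ w = 0 → ψ w = 0 → w ∈ Submodule.span 𝔽 {c} := fun w h1 h2 => by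
    obtain ⟨k, hk⟩ := hcspan ⟨w, by simp [hL, h1, h2]⟩
    exact Submodule.mem_span_singleton.mpr ⟨k, congrArg Subtype.val hk⟩
  have hcoord : ∀ v, ∃ k : 𝔽, v = (φ v / φ f) • f + (ψ v / ψ e₀) • e₀ + k • c := fun v => by
    obtain ⟨k, hk⟩ := Submodule.mem_span_singleton.mp
      (hLc (v - (φ v / φ f) • f - (ψ v / ψ e₀) • e₀)
        (by simp [ht.2.2.1, hg₀]) (by simp [hψf, hψv e₀, hψe]))
    exact ⟨k, by rw [hk]; abel⟩
  set W := Submodule.span 𝔽 {f, e₀} with hW
  have hfW : f ∈ W := Submodule.subset_span (by simp)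
  have heW : e₀ ∈ W := Submodule.subset_span (by simp)
  -- centre and axis of an arbitrary conjugate
  have key : ∀ h : G, ρ h e₀ ∈ W ∧ φ (ρ h⁻¹ c) = 0 := by
    intro h
    by_cases hα : ψ (ρ h e₀) = 0
    · have h1 := hrig (g₀⁻¹ * h) (by rw [map_mul, End.mul_apply, ← hψv, hα])
      constructor
      · obtain ⟨k, hk⟩ := Submodule.mem_span_singleton.mp h1.1
        rw [map_mul, End.mul_apply] at hk
        rw [← map_mul_inv_apply ρ g₀ (ρ h e₀), ← hk, map_smul]
        exact W.smul_mem k hfW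
      · have h2 := h1.2 (ρ g₀⁻¹ c) hcL'.2
        rwa [mul_inv_rev, inv_inv, map_mul, End.mul_apply, map_mul_inv_apply] at h2
    · set n := φ (ρ h e₀) / (ψ (ρ h e₀) * φ f) with hn
      set g₁ := g₀ * t ^ n.val * g₀⁻¹ with hg₁
      have hg₁v : ∀ v, ρ g₁ v = v + (n * ψ v) • f := fun v => by
        rw [hg₁, map_mul, map_mul, End.mul_apply, End.mul_apply, pow_apply ht, map_add, map_smul,
          map_mul_inv_apply, ZMod.natCast_zmod_val, hψv]
      have hg₁i : ∀ v, ρ g₁⁻¹ v = v - (n * ψ v) • f := fun v => by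
        conv_lhs => rw [show v = ρ g₁ (v - (n * ψ v) • f) by
          rw [hg₁v, map_sub, map_smul, hψf, smul_zero, sub_zero, sub_add_cancel]]
        rw [map_inv_mul_apply]
      have h1 := hrig (g₁⁻¹ * h) (by
        rw [map_mul, End.mul_apply, hg₁i, map_sub, map_smul, smul_eq_mul, hn, sub_eq_zero]
        field_simp)
      constructor
      · obtain ⟨k, hk⟩ := Submodule.mem_span_singleton.mp h1.1
        rw [map_mul, End.mul_apply] at hk
        rw [← map_mul_inv_apply ρ g₁ (ρ h e₀), ← hk, map_smul, hg₁v]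
        exact W.smul_mem k (W.add_mem heW (W.smul_mem _ hfW))
      · have h2 := h1.2 c hcL'.1
        rwa [mul_inv_rev, inv_inv, map_mul, End.mul_apply, hg₁v, hcL'.2, mul_zero, zero_smul,
          add_zero] at h2
  have htf : ρ t f = f + φ f • e₀ := ht.2.2.2 f
  have hte : ρ t e₀ = e₀ := by rw [ht.2.2.2, ht.2.2.1, zero_smul, add_zero]
  have hspan : Submodule.span 𝔽 {f, φ f • e₀} = W := by
    refine le_antisymm (Submodule.span_le.mpr ?_) (Submodule.span_le.mpr ?_)
    · rintro x (rfl | rfl)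
      · exact hfW
      · exact W.smul_mem _ heW
    · rintro x (rfl | rfl)
      · exact Submodule.subset_span (by simp)
      · rw [SetLike.mem_coe, ← Submodule.smul_mem_iff _ hg₀]
        exact Submodule.subset_span (by simp)
  refine ⟨φ f • e₀, f, c, smul_ne_zero hg₀ ht.1, hc0', fun v => ?_, htf, by rw [map_smul, hte],
    by rw [ht.2.2.2, hcL'.1, zero_smul, add_zero], fun g => ⟨?_, ?_, ?_⟩, fun U hUW hU hU0 => ?_,
    fun r hr => ?_⟩
  · obtain ⟨k, hk⟩ := hcoord v
    refine ⟨φ v / φ f, ψ v / ψ e₀ / φ f, k, ?_⟩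
    rw [smul_smul, div_mul_cancel₀ _ hg₀]
    exact hk
  · rw [hspan, hf, ← End.mul_apply, ← map_mul]
    exact (key (g * g₀)).1
  · rw [hspan, map_smul]
    exact W.smul_mem _ (key g).1
  · refine hLc _ (by simpa using (key g⁻¹).2) ?_
    rw [hψv, ← End.mul_apply, ← map_mul]
    simpa using (key (g⁻¹ * g₀)).2
  · rw [hspan] at hUW
    obtain ⟨w, hw, hw0⟩ := Submodule.exists_mem_ne_zero_of_ne_bot hU0
    obtain ⟨i, j, hij⟩ := Submodule.mem_span_pair.mp (hUW hw)
    have he : e₀ ∈ U := by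
      have h1 := sub_mem (hU t w hw) hw
      rw [← hij] at h1 hw hw0
      have : ρ t (i • f + j • e₀) - (i • f + j • e₀) = (i * φ f) • e₀ := by
        simp only [map_add, map_smul, htf, hte]
        module
      rw [this] at h1
      by_cases hi : i = 0
      · rw [hi, zero_smul, zero_add] at hw hw0
        exact (U.smul_mem_iff (smul_ne_zero_iff.mp hw0).1).mp hw
      · exact (U.smul_mem_iff (mul_ne_zero hi hg₀)).mp h1
    exact ⟨hU g₀ e₀ he, U.smul_mem _ he⟩
  · obtain ⟨d, -, hde, hdf, hdv⟩ := exists_diag ρ ht.2.2.1 ht.2.2.2 hg₀ hψe hr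
    exact ⟨d, by rw [map_smul, hde, smul_comm], hdf, hdv c hcL'.1 hcL'.2⟩

omit [Finite G] in
/-- A nontrivial element with quadratic action on a space of dimension three is a transvection. -/
theorem isTransv_of_quadratic (hV : finrank 𝔽 V = 3) (hinj : Function.Injective ρ) {t : G}
    (ht1 : t ≠ 1) (h : ∀ v, ρ t (ρ t v - v) = ρ t v - v) :
    ∃ (e : V) (φ : V →ₗ[𝔽] 𝔽), IsTransv ρ t e φ := by
  haveI : Module.Finite 𝔽 V := Module.Finite.of_finite
  set N : V →ₗ[𝔽] V := ρ t - 1 with hN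
  have hNv : ∀ v, N v = ρ t v - v := fun v => by simp [hN]
  have hle : LinearMap.range N ≤ LinearMap.ker N := by
    rintro _ ⟨v, rfl⟩
    rw [LinearMap.mem_ker, hNv (N v), hNv v, h, sub_self]
  have hsum := N.finrank_range_add_finrank_ker
  have hmono := Submodule.finrank_mono hle
  have hpos : LinearMap.range N ≠ ⊥ := by
    intro h0
    refine ht1 (hinj ?_)
    rw [LinearMap.range_eq_bot] at h0
    rw [map_one, ← sub_eq_zero]
    exact h0
  have hr : finrank 𝔽 (LinearMap.range N) = 1 := by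
    have := Submodule.one_le_finrank_iff.mpr hpos
    omega
  obtain ⟨⟨e, he⟩, he0, hspan⟩ := finrank_eq_one_iff'.mp hr
  have he0' : e ≠ 0 := fun h => he0 (Subtype.ext h)
  obtain ⟨f, hfe, -⟩ := Submodule.exists_dual_map_eq_bot_of_notMem
    (p := (⊥ : Submodule 𝔽 V)) (x := e) (by simpa using he0') inferInstance
  refine ⟨e, (f e)⁻¹ • f.comp N, he0', ?_, ?_, fun v => ?_⟩
  · intro h0
    obtain ⟨v, hv⟩ := he
    have := congrArg (fun l : V →ₗ[𝔽] 𝔽 => l v) h0
    simp [hv, hfe] at this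
  · simp [LinearMap.mem_ker.mp (hle he)]
  · obtain ⟨k, hk⟩ := hspan ⟨N v, v, rfl⟩
    have hk' : k • e = N v := congrArg Subtype.val hk
    simp only [LinearMap.smul_apply, LinearMap.comp_apply, smul_eq_mul, ← hk', map_smul]
    rw [mul_left_comm, inv_mul_cancel₀ hfe, mul_one, hk', hNv, add_sub_cancel]

end Structure

end Cfsg.Lib.FusionSys.RankThree
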