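import Cfsg.Agent.Lib.FusionSys.RankThreeTools
import Cfsg.Agent.Lib.FusionSys.PlaneAction
import Cfsg.Agent.Lib.PGroup.FrattiniStab
import Mathlib.Tactic.LinearCombination

/-!
# Essential subgroups of rank three: the transvection case
-/

set_option linter.style.haveILetI false
set_option autoImplicit false

namespace Cfsg.Lib.FusionSys.RankThree

open Subgroup
open scoped commutatorElement

variable {p : ℕ} [hp : Fact p.Prime] {T : Type*} [Group T] [Finite T] {E : Subgroup T}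

/-- `b` acts on `E / Φ(E)` as the transvection `a ↦ [b, a] a`, fixing `c` and `[b, a]`. -/
structure TransvData (p : ℕ) (E : Subgroup T) (a b c : T) : Prop where
  pgroup : IsPGroup p T
  index_eq : E.index = p
  rank_eq : (frattini E).index = p ^ 3
  ha : a ∈ E
  hc : c ∈ E
  hb : b ∉ E
  he : ⁅b, a⁆ ∉ frattiniIn E
  hce : c ∉ frattiniIn E ⊔ zpowers ⁅b, a⁆
  hac : a ∉ frattiniIn E ⊔ zpowers ⁅b, a⁆ ⊔ zpowers c
  hbc : ⁅b, c⁆ ∈ frattiniIn E
  hbe : ⁅b, ⁅b, a⁆⁆ ∈ frattiniIn E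

/-- `ψ` acts on the layers with eigenvalues `l'` at `a`, `1` at `c`, `l` at `[b, a]`, `l ^ 2` at `b`. -/
structure TorusData (p : ℕ) (E : Subgroup T) (a b c : T) (ψ : MulAut T) (l l' : ℕ) : Prop where
  mul_eq : (l : ZMod p) * (l' : ZMod p) = 1
  ne_one : ∀ j ∈ ({1, 2, 3, 5} : Set ℕ), (l : ZMod p) ^ j ≠ 1
  map_E : ∀ v ∈ E, ψ v ∈ E
  hψa : (a ^ l')⁻¹ * ψ a ∈ frattiniIn E
  hψc : c⁻¹ * ψ c ∈ frattiniIn E
  hψe : (⁅b, a⁆ ^ l)⁻¹ * ψ ⁅b, a⁆ ∈ frattiniIn E

namespace TransvData

variable [E.Normal] {a b c : T} (D : TransvData p E a b c)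
include D

omit hp [Finite T] in
theorem he_mem : ⁅b, a⁆ ∈ E := by
  rw [commutatorElement_def]
  exact mul_mem (Normal.conj_mem inferInstance a D.ha b) (inv_mem D.ha)

omit hp [Finite T] in
theorem J_le : frattiniIn E ⊔ zpowers ⁅b, a⁆ ≤ E :=
  sup_le (frattiniIn_le E) (zpowers_le.mpr D.he_mem)

omit hp [Finite T] in
theorem H_le : frattiniIn E ⊔ zpowers ⁅b, a⁆ ⊔ zpowers c ≤ E :=
  sup_le D.J_le (zpowers_le.mpr D.hc)

/-- Elements of `E` commute modulo `Φ(E)`, and `[b, a]`, `c` are central there. -/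
theorem comm_mem {v : T} (hv : v ∈ frattiniIn E ⊔ zpowers ⁅b, a⁆ ⊔ zpowers c) (t : T) :
    ⁅v, t⁆ ∈ frattiniIn E := by
  set π := QuotientGroup.mk' (frattiniIn E) with hπ
  have htop := sup_zpowers_eq_top_of_index D.index_eq D.hb
  have key : ∀ x ∈ E, ⁅b, x⁆ ∈ frattiniIn E → π x ∈ center (T ⧸ frattiniIn E) := fun x hx hbx => by
    refine mem_center_iff.mpr fun q => ?_
    obtain ⟨q, rfl⟩ := QuotientGroup.mk'_surjective (frattiniIn E) q
    have hle : E ⊔ zpowers b ≤ (centralizer {π x}).comap π := by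
      refine sup_le (fun w hw => ?_) (zpowers_le.mpr ?_) <;> refine mem_centralizer_singleton_iff.mpr ?_ <;>
        refine commutatorElement_eq_one_iff_mul_comm.mp ?_ <;> rw [← map_commutatorElement]
      · exact (QuotientGroup.eq_one_iff _).mpr (comm_mem_frattiniIn D.pgroup hw hx)
      · exact (QuotientGroup.eq_one_iff _).mpr hbx
    exact mem_centralizer_singleton_iff.mp (hle (htop ▸ mem_top q))
  have hle : frattiniIn E ⊔ zpowers ⁅b, a⁆ ⊔ zpowers c ≤ (center (T ⧸ frattiniIn E)).comap π := by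
    refine sup_le (sup_le (fun x hx => ?_) (zpowers_le.mpr (key _ D.he_mem D.hbe)))
      (zpowers_le.mpr (key _ D.hc D.hbc))
    show π x ∈ center _
    rw [show π x = 1 from (QuotientGroup.eq_one_iff x).mpr hx]
    exact one_mem _
  rw [← QuotientGroup.eq_one_iff, ← QuotientGroup.mk'_apply, ← hπ, map_commutatorElement,
    commutatorElement_eq_one_iff_mul_comm]
  exact (mem_center_iff.mp (hle hv) _).symm

theorem sup_normal {N : Subgroup T} (h1 : frattiniIn E ≤ N)
    (h2 : N ≤ frattiniIn E ⊔ zpowers ⁅b, a⁆ ⊔ zpowers c) : N.Normal := by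
  refine ⟨fun v hv t => ?_⟩
  have h := mul_mem (h1 (D.comm_mem (h2 hv) t⁻¹)) (one_mem N)
  have e1 : t * v * t⁻¹ = ⁅t, v⁆ * v := by rw [commutatorElement_def, inv_mul_cancel_right]
  rw [e1, ← commutatorElement_inv]
  exact mul_mem (inv_mem (h1 (D.comm_mem (h2 hv) t))) hv

theorem card_H : Nat.card ↥(frattiniIn E ⊔ zpowers ⁅b, a⁆ ⊔ zpowers c) = p ^ 2 * Nat.card ↥(frattiniIn E) ∧
    Nat.card ↥(frattiniIn E ⊔ zpowers ⁅b, a⁆) = p * Nat.card ↥(frattiniIn E) ∧
    E = frattiniIn E ⊔ zpowers ⁅b, a⁆ ⊔ zpowers c ⊔ zpowers a := by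
  have h1 := card_lt_sup_zpowers D.pgroup _ D.he
  have h2 := card_lt_sup_zpowers D.pgroup _ D.hce
  have h3 := card_lt_sup_zpowers D.pgroup _ D.hac
  have hle : frattiniIn E ⊔ zpowers ⁅b, a⁆ ⊔ zpowers c ⊔ zpowers a ≤ E :=
    sup_le D.H_le (zpowers_le.mpr D.ha)
  have h4 := card_le_of_le hle
  have hE : Nat.card E = p * (p * (p * Nat.card ↥(frattiniIn E))) := by
    rw [card_frattiniIn_mul, D.rank_eq]; ring
  rw [hE] at h4
  have e2 := Nat.le_of_mul_le_mul_left (h3.trans h4) hp.out.pos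
  have e1 := Nat.le_of_mul_le_mul_left (h2.trans e2) hp.out.pos
  refine ⟨?_, le_antisymm e1 h1, (eq_of_le_of_card_ge hle ?_).symm⟩
  · rw [sq, mul_assoc]
    exact le_antisymm e2 ((Nat.mul_le_mul_left p h1).trans h2)
  · rw [hE]
    exact (Nat.mul_le_mul_left p ((Nat.mul_le_mul_left p h1).trans h2)).trans h3

/-- Coordinates modulo `Φ(E)⟨[b, a]⟩`. -/
theorem coords (t : T) : ∃ i j m : ℕ,
    (b ^ j * (a ^ i * c ^ m))⁻¹ * t ∈ frattiniIn E ⊔ zpowers ⁅b, a⁆ := by
  haveI := D.sup_normal le_sup_left le_sup_left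
  haveI := D.sup_normal (le_sup_left.trans le_sup_left) le_rfl
  obtain ⟨j, hj⟩ := exists_pow_of_mem_sup E
    ((sup_zpowers_eq_top_of_index D.index_eq D.hb).symm ▸ mem_top t)
  obtain ⟨i, hi⟩ := exists_pow_of_mem_sup (frattiniIn E ⊔ zpowers ⁅b, a⁆ ⊔ zpowers c)
    (le_of_eq D.card_H.2.2 hj)
  obtain ⟨m, hm⟩ := exists_pow_of_mem_sup (frattiniIn E ⊔ zpowers ⁅b, a⁆) hi
  refine ⟨i, j, m, ?_⟩
  simp only [mul_inv_rev, mul_assoc]
  exact hm

/-- `b ^ p` lies below the hyperplane fixed by `b`. -/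
theorem pow_mem_H : b ^ p ∈ frattiniIn E ⊔ zpowers ⁅b, a⁆ ⊔ zpowers c := by
  haveI := D.sup_normal (le_sup_left.trans le_sup_left) le_rfl
  obtain ⟨q, hq⟩ := exists_pow_of_mem_sup _
    (le_of_eq D.card_H.2.2 (D.index_eq ▸ E.pow_index_mem b))
  have hq' : p ∣ q := by
    refine dvd_of_pow_mem D.pgroup D.he ?_
    set π := QuotientGroup.mk' (frattiniIn E) with hπ
    have e1 : π ⁅b, a ^ q⁆ = 1 := by
      have hx : b ^ p = a ^ q * ((a ^ q)⁻¹ * b ^ p) := by group
      have h2 : π ⁅b, b ^ p⁆ = π ⁅b, a ^ q⁆ := by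
        rw [hx, map_commutatorElement, map_commutatorElement, map_mul π (a ^ q),
          comm_mul_central_right]
        refine mem_center_iff.mpr fun w => ?_
        obtain ⟨w, rfl⟩ := QuotientGroup.mk'_surjective (frattiniIn E) w
        exact (commutatorElement_eq_one_iff_mul_comm.mp (by
          rw [← map_commutatorElement]
          exact (QuotientGroup.eq_one_iff _).mpr (D.comm_mem hq w))).symm
      rw [← h2, commutatorElement_eq_one_iff_commute.mpr (Commute.self_pow b p), map_one]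
    rw [map_commutatorElement, map_pow π a, comm_pow_right, ← map_commutatorElement,
      ← map_pow] at e1
    · exact (QuotientGroup.eq_one_iff _).mp e1
    · exact commutatorElement_eq_one_iff_commute.mp (by
        rw [← map_commutatorElement π b a, ← map_commutatorElement]
        exact (QuotientGroup.eq_one_iff _).mpr (comm_mem_frattiniIn D.pgroup D.ha D.he_mem))
  obtain ⟨s, rfl⟩ := hq'
  rw [pow_mul] at hq
  have := mul_mem (pow_mem (mem_sup_left (T := zpowers c) (mem_sup_left (T := zpowers ⁅b, a⁆)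
    (pow_mem_frattiniIn D.pgroup D.ha))) s) hq
  rwa [mul_inv_cancel_left] at this

/-- The coordinates modulo `Φ(E)⟨[b, a]⟩` are unique modulo `p`. -/
theorem coords_dvd (hbp : b ^ p ∈ frattiniIn E) {i j m : ℕ}
    (h : b ^ j * (a ^ i * c ^ m) ∈ frattiniIn E ⊔ zpowers ⁅b, a⁆) : p ∣ i ∧ p ∣ j ∧ p ∣ m := by
  have hj : p ∣ j := by
    refine dvd_of_pow_mem D.pgroup D.hb ?_
    have := mul_mem (D.J_le h) (inv_mem (mul_mem (pow_mem D.ha i) (pow_mem D.hc m)))
    rwa [mul_inv_cancel_right] at this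
  have hbj : b ^ j ∈ frattiniIn E ⊔ zpowers ⁅b, a⁆ := by
    obtain ⟨t, rfl⟩ := hj
    rw [pow_mul]
    exact pow_mem (mem_sup_left hbp) t
  have hac := (mul_mem_cancel_left hbj).mp h
  have hi : p ∣ i := by
    refine dvd_of_pow_mem D.pgroup D.hac ?_
    have := mul_mem (mem_sup_left (T := zpowers c) hac)
      (inv_mem (pow_mem (mem_sup_right (mem_zpowers c)) m))
    rwa [mul_inv_cancel_right] at this
  refine ⟨hi, hj, dvd_of_pow_mem D.pgroup D.hce ?_⟩
  obtain ⟨t, rfl⟩ := hi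
  rw [pow_mul] at hac
  exact (mul_mem_cancel_left (mem_sup_left (pow_mem (pow_mem_frattiniIn D.pgroup D.ha) t))).mp hac

end TransvData

section Torus

variable [E.Normal] {a b c : T} (D : TransvData p E a b c) {ψ : MulAut T} {l l' : ℕ}
  (H : TorusData p E a b c ψ l l')
include D H

theorem TransvData.psi_mem_J : ∀ x ∈ frattiniIn E ⊔ zpowers ⁅b, a⁆,
    ψ x ∈ frattiniIn E ⊔ zpowers ⁅b, a⁆ := by
  have hle : frattiniIn E ⊔ zpowers ⁅b, a⁆ ≤ (frattiniIn E ⊔ zpowers ⁅b, a⁆).comap ψ.toMonoidHom := by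
    refine sup_le (fun x hx => mem_sup_left (frattiniIn_apply D.pgroup ψ H.map_E x hx))
      (zpowers_le.mpr ?_)
    show ψ ⁅b, a⁆ ∈ frattiniIn E ⊔ zpowers ⁅b, a⁆
    have := (frattiniIn E ⊔ zpowers ⁅b, a⁆).mul_mem
      (pow_mem (mem_sup_right (mem_zpowers ⁅b, a⁆)) l) (mem_sup_left H.hψe)
    rwa [mul_inv_cancel_left] at this
  exact fun x hx => hle hx

omit D [Finite T] [E.Normal] in
theorem TorusData.ne_one' {j : ℕ} (hj : j ∈ ({1, 2, 3, 5} : Set ℕ)) : ((l ^ j : ℕ) : ZMod p) ≠ 1 := by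
  rw [Nat.cast_pow]
  exact H.ne_one j hj

/-- `b ^ p ∈ Φ(E)`. -/
theorem TransvData.pow_b (hψb : (b ^ (l * l))⁻¹ * ψ b ∈ E) (hp2 : p ≠ 2) :
    b ^ p ∈ frattiniIn E := by
  set π := QuotientGroup.mk' (frattiniIn E) with hπ
  have hπ1 : ∀ {x}, x ∈ frattiniIn E → π x = 1 := fun {x} hx => (QuotientGroup.eq_one_iff x).mpr hx
  set e := ⁅b, a⁆ with he
  haveI := D.sup_normal le_sup_left le_sup_left
  have hH := D.pow_mem_H
  -- `π ⁅b ^ n, w⁆` is a power of `π e` for `w ∈ E`
  have hbw : ∀ w ∈ E, ⁅b, w⁆ ∈ frattiniIn E ⊔ zpowers e := by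
    intro w hw
    set q := QuotientGroup.mk' (frattiniIn E ⊔ zpowers e) with hq
    have hle : E ≤ (centralizer {q b}).comap q := by
      refine le_trans (le_of_eq D.card_H.2.2) ?_
      refine sup_le (sup_le (sup_le (fun x hx => ?_) (zpowers_le.mpr ?_)) (zpowers_le.mpr ?_))
        (zpowers_le.mpr ?_) <;> refine mem_centralizer_singleton_iff.mpr ?_
      · rw [show q x = 1 from (QuotientGroup.eq_one_iff x).mpr (mem_sup_left hx), one_mul, mul_one]
      · rw [show q e = 1 from (QuotientGroup.eq_one_iff e).mpr (mem_sup_right (mem_zpowers e)), one_mul,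
          mul_one]
      all_goals
        refine (commutatorElement_eq_one_iff_mul_comm.mp ?_).symm
        rw [← map_commutatorElement]
      · exact (QuotientGroup.eq_one_iff _).mpr (mem_sup_left D.hbc)
      · exact (QuotientGroup.eq_one_iff _).mpr (mem_sup_right (mem_zpowers e))
    rw [← QuotientGroup.eq_one_iff, ← QuotientGroup.mk'_apply, ← hq, map_commutatorElement,
      commutatorElement_eq_one_iff_mul_comm]
    exact (mem_centralizer_singleton_iff.mp (hle hw)).symm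
  set v := b ^ p with hv
  have hν : (v ^ (l * l))⁻¹ * ψ v ∈ frattiniIn E := by
    set w := (b ^ (l * l))⁻¹ * ψ b with hw
    rw [← QuotientGroup.eq_one_iff, ← QuotientGroup.mk'_apply, ← hπ, map_mul, map_inv, inv_mul_eq_one]
    have hψw : ψ b = b ^ (l * l) * w := by rw [hw, mul_inv_cancel_left]
    have hz : ⁅w, b ^ (l * l)⁆ ∈ frattiniIn E ⊔ zpowers e := by
      rw [← commutatorElement_inv]
      refine inv_mem ?_
      haveI := D.sup_normal le_sup_left le_sup_left
      rw [← QuotientGroup.eq_one_iff, ← QuotientGroup.mk'_apply, map_commutatorElement, map_pow,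
        commutatorElement_eq_one_iff_commute]
      refine Commute.pow_left (commutatorElement_eq_one_iff_commute.mp ?_) _
      rw [← map_commutatorElement]
      exact (QuotientGroup.eq_one_iff _).mpr (hbw w hψb)
    have hzc : ∀ t, Commute (π t) ⁅π w, π (b ^ (l * l))⁆ := fun t =>
      ((commutatorElement_eq_one_iff_commute.mp (by
        rw [← map_commutatorElement π w, ← map_commutatorElement]
        exact hπ1 (D.comm_mem (mem_sup_left hz) t))) :
        Commute ⁅π w, π (b ^ (l * l))⁆ (π t)).symm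
    have hzp : ⁅π w, π (b ^ (l * l))⁆ ^ p = 1 := by
      rw [← map_commutatorElement, ← map_pow]
      exact hπ1 (pow_mem_frattiniIn D.pgroup (D.J_le hz))
    rw [hv, map_pow ψ, hψw, map_pow π (b ^ (l * l) * w), map_mul,
      mul_pow_prime hp2 (hzc _) (hzc _) hzp, ← map_pow π w, hπ1 (pow_mem_frattiniIn D.pgroup hψb),
      mul_one, ← map_pow π (b ^ (l * l)), ← pow_mul, ← pow_mul, mul_comm]
  have hψJ := D.psi_mem_J H
  have hcommH : ∀ x ∈ frattiniIn E ⊔ zpowers e ⊔ zpowers c,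
      ∀ y ∈ frattiniIn E ⊔ zpowers e ⊔ zpowers c, ⁅x, y⁆ ∈ frattiniIn E ⊔ zpowers e :=
    fun x hx y _ => mem_sup_left (D.comm_mem hx y)
  -- first layer
  have h1 : v ∈ frattiniIn E ⊔ zpowers e := by
    refine eigen_mem ψ (μ := 1) (ν := l * l) (mem_sup_left (pow_mem_frattiniIn D.pgroup (D.H_le hH))) ?_
      (mem_sup_left hν) (by rw [Nat.cast_one, ← sq]; exact (H.ne_one' (by simp)).symm)
    refine scalar_of_gen ψ 1 hψJ hcommH
      ((frattiniIn E ⊔ zpowers e : Subgroup T) ∪ {c} : Set T) ?_ ?_ ?_ v hH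
    · exact sup_le (fun x hx => subset_closure (Or.inl hx))
        (zpowers_le.mpr (subset_closure (Or.inr rfl)))
    · exact Set.union_subset (fun x hx => mem_sup_left hx)
        (Set.singleton_subset_iff.mpr (mem_sup_right (mem_zpowers c)))
    · rintro x (hx | rfl)
      · rw [pow_one]; exact mul_mem (inv_mem hx) (hψJ x hx)
      · rw [pow_one]; exact mem_sup_left H.hψc
  -- second layer
  have hψΦ : ∀ x ∈ frattiniIn E, ψ x ∈ frattiniIn E := frattiniIn_apply D.pgroup ψ H.map_E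
  refine eigen_mem ψ (μ := l) (ν := l * l) (pow_mem_frattiniIn D.pgroup (D.H_le hH)) ?_ hν ?_
  · refine scalar_of_gen ψ l hψΦ (fun x hx y _ => D.comm_mem (mem_sup_left hx) y)
      ((frattiniIn E : Subgroup T) ∪ {e} : Set T) ?_ ?_ ?_ v h1
    · exact sup_le (fun x hx => subset_closure (Or.inl hx))
        (zpowers_le.mpr (subset_closure (Or.inr rfl)))
    · exact Set.union_subset (fun x hx => mem_sup_left hx)
        (Set.singleton_subset_iff.mpr (mem_sup_right (mem_zpowers e)))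
    · rintro x (hx | rfl)
      · exact mul_mem (inv_mem (pow_mem hx l)) (hψΦ x hx)
      · exact H.hψe
  · intro h
    refine H.ne_one' (j := 1) (by simp) ?_
    rw [pow_one]
    have h0 : (l : ZMod p) ≠ 0 := fun h0 => one_ne_zero (α := ZMod p) (by rw [← H.mul_eq, h0, zero_mul])
    rw [Nat.cast_mul] at h
    exact mul_left_cancel₀ h0 (by rw [mul_one, ← h])

omit H in
/-- The Frattini subgroup of `T`. -/
theorem TransvData.frattini_eq (hbp : b ^ p ∈ frattiniIn E) :
    frattini T = frattiniIn E ⊔ zpowers ⁅b, a⁆ := by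
  refine le_antisymm ?_ (sup_le (frattiniIn_le_frattini D.pgroup E)
    (zpowers_le.mpr (comm_mem_frattini D.pgroup b a)))
  haveI := D.sup_normal le_sup_left le_sup_left
  set π := QuotientGroup.mk' (frattiniIn E ⊔ zpowers ⁅b, a⁆) with hπ
  have hπ1 : ∀ {x}, x ∈ frattiniIn E ⊔ zpowers ⁅b, a⁆ → π x = 1 := fun {x} hx =>
    (QuotientGroup.eq_one_iff x).mpr hx
  have hform : ∀ t, ∃ i j m : ℕ, π t = π b ^ j * (π a ^ i * π c ^ m) := fun t => by
    obtain ⟨i, j, m, h⟩ := D.coords t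
    have := hπ1 h
    rw [map_mul, map_inv, inv_mul_eq_one, map_mul, map_mul, map_pow, map_pow, map_pow] at this
    exact ⟨i, j, m, this.symm⟩
  have hba : Commute (π b) (π a) := commutatorElement_eq_one_iff_commute.mp (by
    rw [← map_commutatorElement]; exact hπ1 (mem_sup_right (mem_zpowers _)))
  have hbc : Commute (π b) (π c) := commutatorElement_eq_one_iff_commute.mp (by
    rw [← map_commutatorElement]; exact hπ1 (mem_sup_left D.hbc))
  have hac : Commute (π a) (π c) := commutatorElement_eq_one_iff_commute.mp (by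
    rw [← map_commutatorElement]; exact hπ1 (mem_sup_left (comm_mem_frattiniIn D.pgroup D.ha D.hc)))
  refine frattini_le_of D.pgroup (fun v w => ?_) fun v => ?_
  · rw [← QuotientGroup.eq_one_iff, ← QuotientGroup.mk'_apply, ← hπ, map_commutatorElement,
      commutatorElement_eq_one_iff_commute]
    obtain ⟨i, j, m, hv⟩ := hform v
    obtain ⟨i', j', m', hw⟩ := hform w
    rw [hv, hw]
    refine ((?_ : Commute (π b ^ j) _).mul_left ((?_ : Commute (π a ^ i) _).mul_left ?_))
    · exact ((Commute.refl _).pow_pow j j').mul_right ((hba.pow_pow j i').mul_right (hbc.pow_pow j m'))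
    · exact (hba.symm.pow_pow i j').mul_right (((Commute.refl _).pow_pow i i').mul_right (hac.pow_pow i m'))
    · exact (hbc.symm.pow_pow m j').mul_right ((hac.symm.pow_pow m i').mul_right ((Commute.refl _).pow_pow m m'))
  · obtain ⟨i, j, m, hv⟩ := hform v
    rw [← QuotientGroup.eq_one_iff, ← QuotientGroup.mk'_apply, ← hπ, map_pow, hv,
      ((hba.pow_pow j i).mul_right (hbc.pow_pow j m)).mul_pow, (hac.pow_pow i m).mul_pow,
      ← pow_mul, ← pow_mul, ← pow_mul, mul_comm j, mul_comm i, mul_comm m, pow_mul, pow_mul, pow_mul,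
      ← map_pow π b, ← map_pow π a, ← map_pow π c, hπ1 (mem_sup_left hbp),
      hπ1 (mem_sup_left (pow_mem_frattiniIn D.pgroup D.ha)),
      hπ1 (mem_sup_left (pow_mem_frattiniIn D.pgroup D.hc))]
    simp

/-- `b` can be chosen as an eigenvector modulo `Φ(T)`. -/
theorem TransvData.exists_eigen (hp2 : p ≠ 2) (hψb : (b ^ (l * l))⁻¹ * ψ b ∈ E) :
    ∃ b', TransvData p E a b' c ∧ TorusData p E a b' c ψ l l' ∧
      (b' ^ (l * l))⁻¹ * ψ b' ∈ frattini T ∧ b' ^ p ∈ frattiniIn E ∧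
      frattini T = frattiniIn E ⊔ zpowers ⁅b', a⁆ := by
  have hbp := D.pow_b H hψb hp2
  have hJ := D.frattini_eq hbp
  haveI := D.sup_normal le_sup_left le_sup_left
  haveI := D.sup_normal (le_sup_left.trans le_sup_left) le_rfl
  obtain ⟨i, hi⟩ := exists_pow_of_mem_sup (frattiniIn E ⊔ zpowers ⁅b, a⁆ ⊔ zpowers c)
    (le_of_eq D.card_H.2.2 hψb)
  obtain ⟨m, hm⟩ := exists_pow_of_mem_sup (frattiniIn E ⊔ zpowers ⁅b, a⁆) hi
  set L : ZMod p := ((l * l : ℕ) : ZMod p) with hL
  have hLl' : L - l' ≠ 0 := fun h => H.ne_one 3 (by simp) (by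
    rw [sub_eq_zero] at h
    rw [← H.mul_eq, ← h, hL]; push_cast; ring)
  have hL1 : L - 1 ≠ 0 := fun h => H.ne_one 2 (by simp) (by
    rw [sub_eq_zero] at h
    rw [← h, hL]; push_cast; ring)
  set x := ((i : ZMod p) / (L - l')).val with hx
  set y := ((m : ZMod p) / (L - 1)).val with hy
  set w := a ^ x * c ^ y with hw
  have hwE : w ∈ E := mul_mem (pow_mem D.ha x) (pow_mem D.hc y)
  set b' := b * w with hb'
  set π := QuotientGroup.mk' (frattiniIn E) with hπ
  have he' : π ⁅b', a⁆ = π ⁅b, a⁆ := by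
    rw [hb', commutatorElement_mul_left_eq_conj_mul, map_mul, map_mul, map_mul, map_inv,
      show π ⁅w, a⁆ = 1 from (QuotientGroup.eq_one_iff _).mpr (comm_mem_frattiniIn D.pgroup hwE D.ha)]
    simp
  have hJeq : frattiniIn E ⊔ zpowers ⁅b', a⁆ = frattiniIn E ⊔ zpowers ⁅b, a⁆ := by
    have h1 : ∀ u v : T, π u = π v → u ∈ frattiniIn E ⊔ zpowers v := fun u v huv => by
      have h2 : v⁻¹ * u ∈ frattiniIn E := (QuotientGroup.eq).mp huv.symm
      have := mul_mem (mem_sup_right (S := frattiniIn E) (mem_zpowers v))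
        (mem_sup_left (T := zpowers v) h2)
      rwa [mul_inv_cancel_left] at this
    exact le_antisymm (sup_le le_sup_left (zpowers_le.mpr (h1 _ _ he')))
      (sup_le le_sup_left (zpowers_le.mpr (h1 _ _ he'.symm)))
  have hmemΦ : ∀ {u : T}, u ∈ frattiniIn E ↔ π u = 1 := fun {u} => (QuotientGroup.eq_one_iff u).symm
  have D' : TransvData p E a b' c :=
    { pgroup := D.pgroup
      index_eq := D.index_eq
      rank_eq := D.rank_eq
      ha := D.ha
      hc := D.hc
      hb := fun h => D.hb ((mul_mem_cancel_right hwE).mp h)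
      he := fun h => D.he (by rwa [hmemΦ, ← he', ← hmemΦ])
      hce := hJeq ▸ D.hce
      hac := hJeq ▸ D.hac
      hbc := by
        rw [hmemΦ, hb', commutatorElement_mul_left_eq_conj_mul, map_mul, map_mul, map_mul, map_inv,
          hmemΦ.mp (comm_mem_frattiniIn D.pgroup hwE D.hc), hmemΦ.mp D.hbc]
        simp
      hbe := by
        have h1 : ⁅b', a⁆ ∈ frattiniIn E ⊔ zpowers ⁅b, a⁆ := hJeq ▸ mem_sup_right (mem_zpowers _)
        rw [← commutatorElement_inv]
        exact inv_mem (D.comm_mem (mem_sup_left h1) _) }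
  have H' : TorusData p E a b' c ψ l l' :=
    { mul_eq := H.mul_eq
      ne_one := H.ne_one
      map_E := H.map_E
      hψa := H.hψa
      hψc := H.hψc
      hψe := by
        have h1 := frattiniIn_apply D.pgroup ψ H.map_E _ ((QuotientGroup.eq).mp he'.symm)
        have h2 := hmemΦ.mp H.hψe
        rw [map_mul, map_inv, hmemΦ, map_mul, map_inv, inv_mul_eq_one] at h1
        rw [map_mul, map_inv, map_pow, inv_mul_eq_one] at h2
        rw [hmemΦ, map_mul, map_inv, map_pow, he', h2, ← h1, inv_mul_cancel] }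
  have hψb' : (b' ^ (l * l))⁻¹ * ψ b' ∈ E := by
    set q := QuotientGroup.mk' E with hq
    have hq1 : ∀ {u}, u ∈ E → q u = 1 := fun {u} hu => (QuotientGroup.eq_one_iff u).mpr hu
    rw [← QuotientGroup.eq_one_iff, ← QuotientGroup.mk'_apply, ← hq, hb', map_mul, map_inv, map_pow,
      map_mul q b, hq1 hwE, mul_one, map_mul ψ, map_mul q (ψ b), hq1 (H.map_E _ hwE), mul_one,
      ← map_pow q, ← map_inv, ← map_mul]
    exact hq1 hψb
  refine ⟨b', D', H', ?_, D'.pow_b H' hψb' hp2, D'.frattini_eq (D'.pow_b H' hψb' hp2)⟩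
  rw [hJ]
  set q := QuotientGroup.mk' (frattiniIn E ⊔ zpowers ⁅b, a⁆) with hq
  have hq1 : ∀ {u}, u ∈ frattiniIn E ⊔ zpowers ⁅b, a⁆ → q u = 1 := fun {u} hu =>
    (QuotientGroup.eq_one_iff u).mpr hu
  have hcomm : ∀ u v, Commute (q u) (q v) := fun u v => commutatorElement_eq_one_iff_commute.mp (by
    rw [← map_commutatorElement]; exact hq1 (hJ ▸ comm_mem_frattini D.pgroup u v))
  have hexp : ∀ u, q u ^ p = 1 := fun u => by
    rw [← map_pow]; exact hq1 (hJ ▸ Cfsg.Lib.PGroup.pow_mem_frattini D.pgroup u)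
  have hψq : q (ψ b) = q b ^ (l * l) * q a ^ i * q c ^ m := by
    have h2 := hq1 hm
    simp only [map_mul, map_inv, map_pow] at h2
    rw [inv_mul_eq_one] at h2
    rw [h2, mul_assoc, mul_inv_cancel_left, mul_inv_cancel_left]
  have hψw : q (ψ w) = q a ^ (l' * x) * q c ^ y := by
    have e1 : q (ψ a) = q a ^ l' := by
      have := hq1 (mem_sup_left H.hψa)
      rw [map_mul, map_inv, inv_mul_eq_one, map_pow] at this
      exact this.symm
    have e2 : q (ψ c) = q c := by
      have := hq1 (mem_sup_left H.hψc)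
      rw [map_mul, map_inv, inv_mul_eq_one] at this
      exact this.symm
    rw [hw, map_mul ψ, map_mul q, map_pow, map_pow, map_pow, map_pow, e1, e2, ← pow_mul]
  rw [← QuotientGroup.eq_one_iff, ← QuotientGroup.mk'_apply, ← hq, map_mul, map_inv, map_pow, hb',
    map_mul q b, map_mul ψ, map_mul q (ψ b), hψq, hψw, inv_mul_eq_one, (hcomm b w).mul_pow, hw,
    map_mul q, map_pow q a, map_pow q c, ((hcomm a c).pow_pow x y).mul_pow, ← pow_mul, ← pow_mul]
  have ea : q a ^ (x * (l * l)) = q a ^ (i + l' * x) := by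
    refine Plane.pow_eq_pow_of_modEq (hexp a) ((ZMod.natCast_eq_natCast_iff _ _ _).mp ?_)
    push_cast
    rw [hx, ZMod.natCast_zmod_val]
    have h3 := div_mul_cancel₀ (i : ZMod p) hLl'
    rw [hL] at h3 ⊢
    push_cast at h3 ⊢
    linear_combination h3
  have ec : q c ^ (y * (l * l)) = q c ^ (m + y) := by
    refine Plane.pow_eq_pow_of_modEq (hexp c) ((ZMod.natCast_eq_natCast_iff _ _ _).mp ?_)
    push_cast
    rw [hy, ZMod.natCast_zmod_val]
    have h3 := div_mul_cancel₀ (m : ZMod p) hL1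
    rw [hL] at h3 ⊢
    push_cast at h3 ⊢
    linear_combination h3
  rw [ea, ec, pow_add, pow_add, mul_assoc (q a ^ i), ← mul_assoc (q a ^ (l' * x)),
    ((hcomm a c).pow_pow (l' * x) m).eq]
  simp only [mul_assoc]

end Torus

/-- `[Φ(T), T] Φ(T)^p`. -/
def shallow (p : ℕ) (T : Type*) [Group T] [Finite T] : Subgroup T :=
  ⁅frattini T, (⊤ : Subgroup T)⁆ ⊔ Cfsg.powerClosure p 1 (frattini T)

instance shallow_characteristic (p : ℕ) (T : Type*) [Group T] [Finite T] :
    (shallow p T).Characteristic := by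
  refine Subgroup.characteristic_iff_map_eq.mpr fun α => ?_
  rw [shallow, Subgroup.map_sup, map_commutator, map_powerClosure_eq,
    Subgroup.characteristic_iff_map_eq.mp (inferInstance : (frattini T).Characteristic) α,
    map_top_of_surjective α.toMonoidHom α.surjective]

set_option maxHeartbeats 400000 in
/-- If `[c, a]` survives modulo `shallow` and no nontrivial power of it is a `p`-th power of `a`, there is an
elementary section of order `p ^ 4`. -/
theorem transv_bottom [E.Normal] {a b c : T} (D : TransvData p E a b c) {ψ : MulAut T}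
    {l l' : ℕ} (H : TorusData p E a b c ψ l l') (hp5 : 5 ≤ p) (hsr : Cfsg.SectionalPRankLE p 3 T)
    (𝒜 : Set (MulAut E))
    (hW : ∀ α ∈ 𝒜, ∀ v : E, (v : T) ∈ frattiniIn E ⊔ zpowers ⁅b, a⁆ ⊔ zpowers a →
      (α v : T) ∈ frattiniIn E ⊔ zpowers ⁅b, a⁆ ⊔ zpowers a)
    (hL : ∀ α ∈ 𝒜, ∀ v : E, (v : T) ∈ frattiniIn E ⊔ zpowers c →
      (α v : T) ∈ frattiniIn E ⊔ zpowers c)
    (hirr : ∀ U : Subgroup T, frattiniIn E ≤ U →
      U ≤ frattiniIn E ⊔ zpowers ⁅b, a⁆ ⊔ zpowers a →
      (∀ α ∈ 𝒜, ∀ v : E, (v : T) ∈ U → (α v : T) ∈ U) →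
      U = frattiniIn E ∨ U = frattiniIn E ⊔ zpowers ⁅b, a⁆ ⊔ zpowers a)
    (hΓΦ : shallow p T ≤ frattiniIn E) (hgΓ : ⁅c, a⁆ ∉ shallow p T)
    (hK : ∀ k : ℕ, QuotientGroup.mk' (shallow p T) (a ^ p) =
      QuotientGroup.mk' (shallow p T) ⁅c, a⁆ ^ k → p ∣ k) : False := by
  set Φ := frattiniIn E with hΦ
  set e := ⁅b, a⁆ with he
  set g := ⁅c, a⁆ with hg
  set h := ⁅c, e⁆ with hh
  set i₂ := ⁅e, a⁆ with hi₂
  set X := low p E with hX
  set W := Φ ⊔ zpowers e ⊔ zpowers a with hWdef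
  have hp2 : p ≠ 2 := by omega
  have hΦE : Φ ≤ E := frattiniIn_le E
  have hWE : W ≤ E := sup_le D.J_le (zpowers_le.mpr D.ha)
  have heW : e ∈ W := mem_sup_left (mem_sup_right (mem_zpowers e))
  have haW : a ∈ W := mem_sup_right (mem_zpowers a)
  have hΦF : Φ ≤ frattini T := frattiniIn_le_frattini D.pgroup E
  have heF : e ∈ frattini T := comm_mem_frattini D.pgroup b a
  have hXΓ : X ≤ shallow p T := by
    rw [hX, low_eq]
    refine sup_le (commutator_le.mpr fun x hx y _ => mem_sup_left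
      (commutator_mem_commutator (hΦF hx) (mem_top y))) ((closure_le _).mpr ?_)
    rintro _ ⟨x, hx, rfl⟩
    rw [pow_one]
    exact mem_sup_right (pow_mem_powerClosure p (hΦF hx))
  have hXΦ : X ≤ Φ := low_le p E
  have hhΓ : h ∈ shallow p T := by
    rw [hh, ← commutatorElement_inv]
    exact inv_mem (mem_sup_left (commutator_mem_commutator heF (mem_top c)))
  have hi₂Γ : i₂ ∈ shallow p T := mem_sup_left (commutator_mem_commutator heF (mem_top a))
  -- the quotient by `X`
  set π := QuotientGroup.mk' X with hπ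
  have hπ1 : ∀ {x}, x ∈ X → π x = 1 := fun {x} hx => (QuotientGroup.eq_one_iff x).mpr hx
  have hπmem : ∀ {x}, π x = 1 → x ∈ X := fun {x} hx => (QuotientGroup.eq_one_iff x).mp hx
  have hΦc : ∀ {x v}, x ∈ Φ → v ∈ E → Commute (π x) (π v) := fun {x v} hx hv =>
    commutatorElement_eq_one_iff_commute.mp (by
      rw [← map_commutatorElement]; exact hπ1 (comm_mem_low hx hv))
  have hΦp : ∀ {x}, x ∈ Φ → π x ^ p = 1 := fun {x} hx => by
    rw [← map_pow]; exact hπ1 (pow_mem_low hx)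
  have hcomm : ∀ {v w}, v ∈ E → w ∈ E → ⁅v, w⁆ ∈ Φ := fun {v w} hv hw =>
    comm_mem_frattiniIn D.pgroup hv hw
  have hpow : ∀ {v w}, v ∈ E → w ∈ E → (π v * π w) ^ p = π v ^ p * π w ^ p := fun {v w} hv hw =>
    mul_pow_prime hp2 (by rw [← map_commutatorElement]; exact (hΦc (hcomm hw hv) hv).symm)
      (by rw [← map_commutatorElement]; exact (hΦc (hcomm hw hv) hw).symm)
      (by rw [← map_commutatorElement]; exact hΦp (hcomm hw hv))
  have hbil : ∀ {u v w}, u ∈ E → v ∈ E → w ∈ E → ⁅π u * π v, π w⁆ = ⁅π u, π w⁆ * ⁅π v, π w⁆ := by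
    intro u v w hu hv hw
    rw [commutatorElement_mul_left_eq_conj_mul,
      show ⁅π v, π w⁆ = π ⁅v, w⁆ from (map_commutatorElement π v w).symm, ← (hΦc (hcomm hv hw) hu).eq,
      mul_inv_cancel_right, show ⁅π u, π w⁆ = π ⁅u, w⁆ from (map_commutatorElement π u w).symm]
    exact (hΦc (hcomm hv hw) (hΦE (hcomm hu hw))).eq
  have hbil' : ∀ {u v w}, u ∈ E → v ∈ E → w ∈ E → ⁅π w, π u * π v⁆ = ⁅π w, π u⁆ * ⁅π w, π v⁆ := by
    intro u v w hu hv hw
    rw [← commutatorElement_inv, hbil hu hv hw, mul_inv_rev, commutatorElement_inv, commutatorElement_inv,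
      show ⁅π w, π v⁆ = π ⁅w, v⁆ from (map_commutatorElement π w v).symm,
      show ⁅π w, π u⁆ = π ⁅w, u⁆ from (map_commutatorElement π w u).symm]
    exact (hΦc (hcomm hw hv) (hΦE (hcomm hw hu))).eq
  have hppow : ∀ {v w}, v ∈ E → w ∈ E → ∀ n : ℕ, ⁅π v ^ n, π w⁆ = ⁅π v, π w⁆ ^ n := fun {v w} hv hw n =>
    comm_pow_left (by rw [← map_commutatorElement]; exact (hΦc (hcomm hv hw) hv).symm) n
  have hppow' : ∀ {v w}, v ∈ E → w ∈ E → ∀ n : ℕ, ⁅π v, π w ^ n⁆ = ⁅π v, π w⁆ ^ n := fun {v w} hv hw n =>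
    comm_pow_right (by rw [← map_commutatorElement]; exact (hΦc (hcomm hv hw) hw).symm) n
  have hΦW : Φ ≤ W := le_sup_left.trans le_sup_left
  have hmemX : ∀ α : MulAut E, ∀ v : E, (v : T) ∈ X → (α v : T) ∈ X := fun α v hv =>
    auto_mem _ α v hv
  have hgX : π g ≠ 1 := fun h1 => hgΓ (hXΓ (hπmem h1))
  -- the map `w ↦ [c, w]` is injective on `W / Φ(E)`
  let U₁ : Subgroup T :=
    { carrier := {v | v ∈ W ∧ ∀ y ∈ Φ ⊔ zpowers c, ⁅π y, π v⁆ = 1}
      one_mem' := ⟨one_mem _, fun y _ => by rw [map_one, commutatorElement_one_right]⟩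
      mul_mem' := fun {v w} hv hw => ⟨mul_mem hv.1 hw.1, fun y hy => by
        rw [map_mul, hbil' (hWE hv.1) (hWE hw.1) (sup_le hΦE (zpowers_le.mpr D.hc) hy), hv.2 y hy,
          hw.2 y hy, one_mul]⟩
      inv_mem' := fun {v} hv => ⟨inv_mem hv.1, fun y hy => by
        rw [map_inv, commutatorElement_eq_one_iff_commute]
        exact (commutatorElement_eq_one_iff_commute.mp (hv.2 y hy)).inv_right⟩ }
  have hU₁ : ∀ {v}, v ∈ W → ⁅π c, π v⁆ = 1 → v ∈ Φ := by
    intro v hv hcv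
    have hvU : v ∈ U₁ := by
      refine ⟨hv, fun y hy => ?_⟩
      have hle : Φ ⊔ zpowers c ≤ (centralizer {π v}).comap π :=
        sup_le (fun x hx => mem_centralizer_singleton_iff.mpr (hΦc hx (hWE hv)).eq)
          (zpowers_le.mpr (mem_centralizer_singleton_iff.mpr
            (commutatorElement_eq_one_iff_mul_comm.mp hcv)))
      exact commutatorElement_eq_one_iff_mul_comm.mpr (mem_centralizer_singleton_iff.mp (hle hy))
    rcases hirr U₁ (fun x hx => ⟨hΦW hx, fun y hy => commutatorElement_eq_one_iff_commute.mpr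
        (hΦc hx (sup_le hΦE (zpowers_le.mpr D.hc) hy)).symm⟩) (fun v hv => hv.1)
      (fun α hα v hv => ⟨hW α hα v hv.1, fun y hy => by
        have hyE : y ∈ E := sup_le hΦE (zpowers_le.mpr D.hc) hy
        -- pull back along `α`
        obtain ⟨y', hy', hy'e⟩ : ∃ y' : E, (y' : T) ∈ Φ ⊔ zpowers c ∧ α y' = ⟨y, hyE⟩ := by
          let L : Subgroup E := (Φ ⊔ zpowers c).subgroupOf E
          have hLmap : L.map α.toMonoidHom = L := by
            refine eq_of_le_of_card_ge ?_ (card_map_of_injective α.injective).ge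
            rintro _ ⟨z, hz, rfl⟩
            exact hL α hα z hz
          obtain ⟨y', hy', hy'e⟩ : (⟨y, hyE⟩ : E) ∈ L.map α.toMonoidHom := by
            rw [hLmap]; exact hy
          exact ⟨y', hy', hy'e⟩
        have h1 : ((⁅y', v⁆ : E) : T) ∈ X := hπmem (by
          rw [show ((⁅y', v⁆ : E) : T) = ⁅(y' : T), (v : T)⁆ from rfl, map_commutatorElement]
          exact hv.2 _ hy')
        have h2 := hπ1 (hmemX α _ h1)
        rw [map_commutatorElement α, hy'e,
          show ((⁅(⟨y, hyE⟩ : E), α v⁆ : E) : T) = ⁅y, ((α v : E) : T)⁆ from rfl,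
          map_commutatorElement] at h2
        exact h2⟩) with hU | hU
    · exact le_of_eq hU hvU
    · exfalso
      refine hgX ?_
      rw [hg, map_commutatorElement]
      exact (le_of_eq hU.symm haW).2 c (mem_sup_right (mem_zpowers c))
  -- counting
  have hcard : Nat.card Φ ≤ p ^ 3 * Nat.card X :=
    section_bound hsr Φ X hXΦ (fun x hx y hy => hπmem (by
      rw [map_commutatorElement]
      exact commutatorElement_eq_one_iff_commute.mpr (hΦc hx (hΦE hy))))
      fun x hx => hπmem (by rw [map_pow]; exact hΦp hx)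
  have hWcard : p ^ 2 * Nat.card Φ ≤ Nat.card W := by
    have haJ : a ∉ Φ ⊔ zpowers e := fun h1 => D.hac (mem_sup_left h1)
    refine le_trans ?_ (card_lt_sup_zpowers D.pgroup _ haJ)
    rw [sq, mul_assoc]
    exact Nat.mul_le_mul_left p (card_lt_sup_zpowers D.pgroup _ D.he)
  let U : Subgroup T :=
    { carrier := {v | v ∈ W ∧ π v ^ p = 1}
      one_mem' := ⟨one_mem _, by simp⟩
      mul_mem' := fun {v w} hv hw => ⟨mul_mem hv.1 hw.1, by
        rw [map_mul, hpow (hWE hv.1) (hWE hw.1), hv.2, hw.2, one_mul]⟩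
      inv_mem' := fun {v} hv => ⟨inv_mem hv.1, by rw [map_inv, inv_pow, hv.2, inv_one]⟩ }
  rcases hirr U (fun x hx => ⟨hΦW hx, hΦp hx⟩) (fun v hv => hv.1) (fun α hα v hv => ⟨hW α hα v hv.1, by
    have h1 : ((v ^ p : E) : T) ∈ X := hπmem (by rw [SubmonoidClass.coe_pow, map_pow]; exact hv.2)
    have h2 := hπ1 (hmemX α _ h1)
    rwa [map_pow α, SubmonoidClass.coe_pow, map_pow] at h2⟩) with hU | hU
  · -- the `p`-th power of `a` would be a power of `[c, e]`
    have hinjP : ∀ {v}, v ∈ W → π v ^ p = 1 → v ∈ Φ := fun {v} hv h1 => le_of_eq hU ⟨hv, h1⟩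
    let C : W →* T ⧸ X :=
      { toFun := fun w => ⁅π c, π (w : T)⁆
        map_one' := by simp
        map_mul' := fun v w => by
          rw [Subgroup.coe_mul, map_mul, hbil' (hWE v.2) (hWE w.2) D.hc] }
    let F : W × W →* T ⧸ X :=
      { toFun := fun w => π (w.1 : T) ^ p * C w.2
        map_one' := by simp
        map_mul' := fun v w => by
          have hc1 : Commute (C v.2) (π (w.1 : T) ^ p) := by
            show Commute ⁅π c, π (v.2 : T)⁆ _
            rw [← map_commutatorElement, ← map_pow]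
            exact hΦc (hcomm D.hc (hWE v.2.2)) (pow_mem (hWE w.1.2) p)
          simp only [Prod.fst_mul, Prod.snd_mul, Subgroup.coe_mul, map_mul π, map_mul C,
            hpow (hWE v.1.2) (hWE w.1.2)]
          rw [mul_assoc (π (v.1 : T) ^ p), ← mul_assoc (π (w.1 : T) ^ p), ← hc1.eq]
          simp only [mul_assoc] }
    have hFle : F.range ≤ Φ.map π := by
      rintro _ ⟨w, rfl⟩
      exact mul_mem ⟨(w.1 : T) ^ p, pow_mem_frattiniIn D.pgroup (hWE w.1.2), map_pow _ _ _⟩
        ⟨⁅c, (w.2 : T)⁆, hcomm D.hc (hWE w.2.2), map_commutatorElement _ _ _⟩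
    have hΦmap : Nat.card ↥(Φ.map π) * Nat.card X = Nat.card Φ := by
      have h1 := (X.subgroupOf Φ).index_mul_card
      rw [Nat.card_congr (subgroupOfEquivOfLe hXΦ).toEquiv] at h1
      rw [← h1]
      congr 1
      have h2 : (π.comp Φ.subtype).ker = X.subgroupOf Φ := by
        rw [← MonoidHom.comap_ker, hπ, QuotientGroup.ker_mk']; rfl
      rw [← h2, index_ker, MonoidHom.range_comp, range_subtype]
    obtain ⟨w, w', hww, hwΦ⟩ : ∃ w w' : W, F (w, w') = 1 ∧ (w : T) ∉ Φ := by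
      by_contra hne
      push Not at hne
      have hker : F.ker ≤ (Φ.subgroupOf W).prod (Φ.subgroupOf W) := by
        rintro ⟨w, w'⟩ hw
        have h1 := hne w w' hw
        refine ⟨h1, hU₁ w'.2 ?_⟩
        have h2 : π (w : T) ^ p * C w' = 1 := hw
        rwa [hΦp h1, one_mul] at h2
      have h1 := card_le_of_le hker
      rw [Nat.card_congr (Subgroup.prodEquiv _ _).toEquiv, Nat.card_prod,
        Nat.card_congr (subgroupOfEquivOfLe hΦW).toEquiv] at h1
      have h2 := F.ker.index_mul_card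
      rw [index_ker, Nat.card_prod] at h2
      have h3 : Nat.card F.range ≤ p ^ 3 := by
        refine le_trans (card_le_of_le hFle) (Nat.le_of_mul_le_mul_right ?_ (Nat.card_pos (α := X)))
        rw [hΦmap]; exact hcard
      have h4 := Nat.mul_le_mul h3 h1
      rw [h2] at h4
      have h5 := (Nat.mul_le_mul hWcard hWcard).trans h4
      have h7 := Nat.card_pos (α := Φ)
      have h8 : p ^ 2 * p ^ 2 ≤ p ^ 3 := by
        refine Nat.le_of_mul_le_mul_right (c := Nat.card Φ * Nat.card Φ) ?_ (Nat.mul_pos h7 h7)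
        rwa [show p ^ 2 * p ^ 2 * (Nat.card Φ * Nat.card Φ) =
          p ^ 2 * Nat.card Φ * (p ^ 2 * Nat.card Φ) by ring]
      rw [← pow_add] at h8
      have := (Nat.pow_le_pow_iff_right hp.out.one_lt).mp h8
      omega
    -- the invariant subgroup of elements whose power is a commutator
    set C₂ := ⁅Φ ⊔ zpowers c, W⁆ ⊔ X with hC₂
    have hC₂α : ∀ α ∈ 𝒜, ∀ v : E, (v : T) ∈ C₂ → (α v : T) ∈ C₂ := by
      intro α hα v hv
      set L := (Φ ⊔ zpowers c).subgroupOf E with hLs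
      set W' := W.subgroupOf E with hW's
      have e1 : C₂ = (⁅L, W'⁆ ⊔ (⁅frattini E, (⊤ : Subgroup E)⁆ ⊔
          Cfsg.powerClosure p 1 (frattini E))).map E.subtype := by
        rw [Subgroup.map_sup, map_commutator, hLs, hW's,
          map_subgroupOf_eq_of_le (sup_le hΦE (zpowers_le.mpr D.hc)), map_subgroupOf_eq_of_le hWE]
        rfl
      rw [e1] at hv ⊢
      obtain ⟨u, hu, huv⟩ := hv
      obtain rfl := Subtype.ext huv
      refine ⟨α u, ?_, rfl⟩
      have hle : (⁅L, W'⁆ ⊔ (⁅frattini E, (⊤ : Subgroup E)⁆ ⊔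
          Cfsg.powerClosure p 1 (frattini E))).map α.toMonoidHom ≤
          ⁅L, W'⁆ ⊔ (⁅frattini E, (⊤ : Subgroup E)⁆ ⊔ Cfsg.powerClosure p 1 (frattini E)) := by
        rw [Subgroup.map_sup, map_commutator,
          Subgroup.characteristic_iff_map_eq.mp (low_characteristic p E) α]
        refine sup_le_sup_right (commutator_mono ?_ ?_) _
        · rintro _ ⟨z, hz, rfl⟩; exact hL α hα z hz
        · rintro _ ⟨z, hz, rfl⟩; exact hW α hα z hz
      exact hle (mem_map_of_mem _ hu)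
    have hC₂C : ∀ y ∈ C₂, π y ∈ C.range := by
      have hle : C₂ ≤ C.range.comap π := by
        refine sup_le (commutator_le.mpr fun y hy w hw => ?_) fun y hy => ?_
        · obtain ⟨n, hn⟩ := exists_pow_of_mem_sup Φ hy
          rw [mem_comap, map_commutatorElement]
          have h1 : π y = π c ^ n * π ((c ^ n)⁻¹ * y) := by
            rw [← map_pow, ← map_mul, mul_inv_cancel_left]
          rw [h1, ← map_pow π c, hbil (pow_mem D.hc n) (hΦE hn) (hWE hw),
            commutatorElement_eq_one_iff_commute.mpr (hΦc hn (hWE hw)), mul_one, map_pow,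
            hppow D.hc (hWE hw)]
          exact pow_mem (show ⁅π c, π w⁆ ∈ C.range from ⟨⟨w, hw⟩, rfl⟩) n
        · rw [mem_comap, hπ1 hy]; exact one_mem _
      exact fun y hy => hle hy
    let U' : Subgroup T :=
      { carrier := {v | v ∈ W ∧ π v ^ p ∈ C₂.map π}
        one_mem' := ⟨one_mem _, by rw [map_one, one_pow]; exact one_mem _⟩
        mul_mem' := fun {u v} hu hv => ⟨mul_mem hu.1 hv.1, by
          rw [map_mul, hpow (hWE hu.1) (hWE hv.1)]; exact mul_mem hu.2 hv.2⟩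
        inv_mem' := fun {u} hu => ⟨inv_mem hu.1, by rw [map_inv, inv_pow]; exact inv_mem hu.2⟩ }
    have hU' : U' = W := by
      rcases hirr U' (fun x hx => ⟨hΦW hx, by rw [hΦp hx]; exact one_mem _⟩) (fun v hv => hv.1)
        (fun α hα v hv => ⟨hW α hα v hv.1, by
          obtain ⟨y, hy, hye⟩ := hv.2
          have h1 : ((v ^ p : E) : T) ∈ C₂ := by
            have : y⁻¹ * (v : T) ^ p ∈ X :=
              hπmem (by rw [map_mul, map_inv, map_pow, hye, inv_mul_cancel])
            have h2 := mul_mem hy (mem_sup_right (S := ⁅Φ ⊔ zpowers c, W⁆) this)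
            rwa [mul_inv_cancel_left] at h2
          have h2 := mem_map_of_mem π (hC₂α α hα _ h1)
          rwa [map_pow α, SubmonoidClass.coe_pow, map_pow] at h2⟩) with h1 | h1
      · exfalso
        refine hwΦ (le_of_eq h1 ⟨w.2, ?_⟩)
        have h2 : π (w : T) ^ p * C w' = 1 := hww
        rw [eq_inv_of_mul_eq_one_left h2]
        refine inv_mem ⟨⁅c, (w' : T)⁆, mem_sup_left (commutator_mem_commutator
          (mem_sup_right (mem_zpowers c)) w'.2), map_commutatorElement _ _ _⟩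
      · exact h1
    obtain ⟨y, hy, hye⟩ := (le_of_eq hU'.symm haW).2
    obtain ⟨⟨v, hvW⟩, hv⟩ := hC₂C y hy
    haveI := D.sup_normal (le_sup_left : Φ ≤ Φ ⊔ zpowers e) le_sup_left
    obtain ⟨i, hi⟩ := exists_pow_of_mem_sup (Φ ⊔ zpowers e) hvW
    obtain ⟨j, hj⟩ := exists_pow_of_mem_sup Φ hi
    have hap : π (a ^ p) = π g ^ i * π h ^ j := by
      rw [map_pow, ← hye, ← hv]
      show ⁅π c, π v⁆ = _
      have hv' : π v = π a ^ i * (π e ^ j * π ((e ^ j)⁻¹ * ((a ^ i)⁻¹ * v))) := by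
        rw [← map_pow, ← map_pow, ← map_mul, ← map_mul, mul_inv_cancel_left, mul_inv_cancel_left]
      rw [hv', ← map_pow π a, ← map_pow π e, ← map_mul π (e ^ j),
        hbil' (pow_mem D.ha i) (mul_mem (pow_mem D.he_mem j) (hΦE hj)) D.hc, map_mul π (e ^ j),
        hbil' (pow_mem D.he_mem j) (hΦE hj) D.hc,
        commutatorElement_eq_one_iff_commute.mpr (hΦc hj D.hc).symm, mul_one, map_pow, map_pow,
        hppow' D.hc D.ha, hppow' D.hc D.he_mem, hg, hh, map_commutatorElement π c a,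
        map_commutatorElement π c e]
    have hi' : p ∣ i := by
      refine hK i ?_
      set π' := QuotientGroup.mk' (shallow p T) with hπ'
      have h1 : ((g ^ i * h ^ j)⁻¹ * a ^ p) ∈ shallow p T := hXΓ (hπmem (by
        rw [map_mul, map_inv, map_mul, map_pow π g, map_pow π h, hap, inv_mul_cancel]))
      have h2 : π' ((g ^ i * h ^ j)⁻¹ * a ^ p) = 1 := (QuotientGroup.eq_one_iff _).mpr h1
      rw [map_mul, map_inv, map_mul, map_pow π' g, map_pow π' h,
        show π' h = 1 from (QuotientGroup.eq_one_iff _).mpr hhΓ, one_pow, mul_one, inv_mul_eq_one] at h2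
      exact h2.symm
    rw [pow_prime_mul_eq_one (hΦp (hcomm D.hc D.ha) : π g ^ p = 1) hi', one_mul] at hap
    -- eigenvalues
    have hψX := low_apply (p := p) D.pgroup ψ H.map_E
    have hψπ : ∀ {u v}, π u = π v → π (ψ u) = π (ψ v) := fun {u v} huv => by
      have h1 : v⁻¹ * u ∈ X := (QuotientGroup.eq).mp huv.symm
      have h2 := hπ1 (hψX _ h1)
      rw [map_mul, map_inv, map_mul, map_inv, inv_mul_eq_one] at h2
      exact h2.symm
    have h1 := hψπ (hap.trans (map_pow π h j).symm)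
    have hψh : π (ψ h) = π h ^ l := by
      have e1 : π (ψ c) = π c * π (c⁻¹ * ψ c) := by rw [← map_mul, mul_inv_cancel_left]
      have e2 : π (ψ e) = π e ^ l * π ((e ^ l)⁻¹ * ψ e) := by
        rw [← map_pow, ← map_mul, mul_inv_cancel_left]
      rw [hh, map_commutatorElement ψ c e, map_commutatorElement π (ψ c), e1,
        hbil D.hc (hΦE H.hψc) (H.map_E _ D.he_mem),
        commutatorElement_eq_one_iff_commute.mpr (hΦc H.hψc (H.map_E _ D.he_mem)), mul_one, e2,
        ← map_pow π e, hbil' (pow_mem D.he_mem l) (hΦE H.hψe) D.hc,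
        commutatorElement_eq_one_iff_commute.mpr (hΦc H.hψe D.hc).symm, mul_one, map_pow,
        hppow' D.hc D.he_mem, map_commutatorElement π c e]
    have hψa : π (ψ a) ^ p = (π a ^ p) ^ l' := by
      have e1 : π (ψ a) = π (a ^ l') * π ((a ^ l')⁻¹ * ψ a) := by rw [← map_mul, mul_inv_cancel_left]
      rw [e1, hpow (pow_mem D.ha l') (hΦE H.hψa), hΦp H.hψa, mul_one, map_pow, ← pow_mul, ← pow_mul,
        mul_comm]
    rw [map_pow ψ, map_pow π (ψ a), hψa, ← map_pow π a p, hap, map_pow ψ, map_pow π (ψ h), hψh,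
      ← pow_mul, ← pow_mul] at h1
    have hhX : π h ≠ 1 := fun h0 => D.he (hU₁ heW (by rw [← map_commutatorElement]; exact h0))
    have h2 := Plane.modEq_of_pow_eq (hΦp (hcomm D.hc D.he_mem)) hhX h1
    rw [← ZMod.natCast_eq_natCast_iff] at h2
    push_cast at h2
    have hj' : (j : ZMod p) = 0 := by
      by_contra hj0
      have h3 : (l' : ZMod p) = l := mul_left_cancel₀ hj0 (by rw [h2, mul_comm])
      refine H.ne_one 2 (by simp) ?_
      rw [← H.mul_eq, h3, sq]
    rw [pow_prime_mul_eq_one (hΦp (hcomm D.hc D.he_mem) : π h ^ p = 1)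
      ((ZMod.natCast_eq_zero_iff _ _).mp hj')] at hap
    exact D.hac (mem_sup_left (mem_sup_left (hinjP haW (by rw [← map_pow]; exact hap))))
  -- `W / X` has exponent `p`
  have hexp : ∀ {v}, v ∈ W → π v ^ p = 1 := fun {v} hv => (le_of_eq hU.symm hv).2
  have hhX : h ∉ X := fun h1 => D.he (hU₁ heW (by rw [← map_commutatorElement]; exact hπ1 h1))
  have hXpos := Nat.card_pos (α := X)
  have hlt : shallow p T < Φ := lt_of_le_of_ne hΓΦ fun h1 => hgΓ (h1 ▸ hcomm D.hc D.ha)
  by_cases h2 : π i₂ = 1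
  · have hea : Commute (π e) (π a) :=
      commutatorElement_eq_one_iff_commute.mp (by rw [← map_commutatorElement]; exact h2)
    have hWc : ∀ x ∈ W, ∀ y ∈ W, Commute (π x) (π y) := by
      have hle : ∀ z ∈ E, Commute (π z) (π e) → Commute (π z) (π a) →
          W ≤ (centralizer {π z}).comap π := fun z hz hze hza =>
        sup_le (sup_le (fun x hx => mem_centralizer_singleton_iff.mpr (hΦc hx hz).eq)
          (zpowers_le.mpr (mem_centralizer_singleton_iff.mpr hze.symm.eq)))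
          (zpowers_le.mpr (mem_centralizer_singleton_iff.mpr hza.symm.eq))
      intro x hx y hy
      have h3 : Commute (π x) (π e) :=
        mem_centralizer_singleton_iff.mp (hle e D.he_mem (Commute.refl _) hea hx)
      have h4 : Commute (π x) (π a) :=
        mem_centralizer_singleton_iff.mp (hle a D.ha hea.symm (Commute.refl _) hx)
      exact (mem_centralizer_singleton_iff.mp (hle x (hWE hx) h3 h4 hy) : Commute (π y) (π x)).symm
    have hb1 := section_bound hsr W X (hXΦ.trans hΦW)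
      (fun x hx y hy => hπmem (by
        rw [map_commutatorElement]; exact commutatorElement_eq_one_iff_commute.mpr (hWc x hx y hy)))
      fun x hx => hπmem (by rw [map_pow]; exact hexp hx)
    have e1 := card_mul_le_of_lt D.pgroup (lt_of_le_of_ne hXΓ fun h1 => hhX (le_of_eq h1.symm hhΓ))
    have e2 := card_mul_le_of_lt D.pgroup hlt
    have e3 := (Nat.mul_le_mul_left p e1).trans e2
    have e4 := ((Nat.mul_le_mul_left (p ^ 2) e3).trans hWcard).trans hb1
    have e5 : p ^ 4 ≤ p ^ 3 := Nat.le_of_mul_le_mul_right (by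
      calc p ^ 4 * Nat.card X = p ^ 2 * (p * (p * Nat.card X)) := by ring
        _ ≤ _ := e4) hXpos
    have := (Nat.pow_le_pow_iff_right hp.out.one_lt).mp e5
    omega
  · set X₁ := X ⊔ zpowers i₂ with hX₁
    have hi₂Φ : i₂ ∈ Φ := hcomm D.he_mem D.ha
    have hX₁Γ : X₁ ≤ shallow p T := sup_le hXΓ (zpowers_le.mpr hi₂Γ)
    have hhX₁ : h ∉ X₁ := by
      intro h1
      refine hhX (eigen_mem ψ (μ := 1) (ν := l) (pow_mem_low (hcomm D.hc D.he_mem)) ?_ ?_ ?_)
      · refine scalar_of_gen ψ 1 (low_apply D.pgroup ψ H.map_E) (fun x hx y hy => hπmem (by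
          rw [map_commutatorElement]
          exact commutatorElement_eq_one_iff_commute.mpr
            (hΦc ((hX₁Γ.trans hΓΦ) hx) (hΦE ((hX₁Γ.trans hΓΦ) hy)))))
          ((X : Set T) ∪ {i₂}) ?_ ?_ ?_ h h1
        · exact sup_le (fun x hx => subset_closure (Or.inl hx)) (zpowers_le.mpr (subset_closure (Or.inr rfl)))
        · rintro x (hx | rfl)
          exacts [mem_sup_left hx, mem_sup_right (mem_zpowers _)]
        · rintro x (hx | rfl)
          · rw [pow_one]; exact mul_mem (inv_mem hx) (low_apply D.pgroup ψ H.map_E x hx)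
          · refine hπmem ?_
            have e1 : π (ψ e) = π (e ^ l) * π ((e ^ l)⁻¹ * ψ e) := by rw [← map_mul, mul_inv_cancel_left]
            have e2 : π (ψ a) = π (a ^ l') * π ((a ^ l')⁻¹ * ψ a) := by rw [← map_mul, mul_inv_cancel_left]
            rw [pow_one, map_mul, map_inv, hi₂, map_commutatorElement ψ e a,
              map_commutatorElement π (ψ e), e1, hbil (pow_mem D.he_mem l) (hΦE H.hψe) (H.map_E _ D.ha),
              commutatorElement_eq_one_iff_commute.mpr (hΦc H.hψe (H.map_E _ D.ha)), mul_one, e2,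
              hbil' (pow_mem D.ha l') (hΦE H.hψa) (pow_mem D.he_mem l),
              commutatorElement_eq_one_iff_commute.mpr (hΦc H.hψa (pow_mem D.he_mem l)).symm, mul_one,
              map_pow π e, hppow D.he_mem (pow_mem D.ha l'), map_pow π a,
              hppow' D.he_mem D.ha, ← pow_mul, inv_mul_eq_one, map_commutatorElement π e a]
            conv_lhs => rw [← pow_one ⁅π e, π a⁆]
            refine Plane.pow_eq_pow_of_modEq (p := p) ?_ ((ZMod.natCast_eq_natCast_iff _ _ _).mp ?_)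
            · rw [← map_commutatorElement π e a]; exact hΦp hi₂Φ
            · push_cast; rw [← H.mul_eq]; ring
      · refine hπmem ?_
        have e1 : π (ψ c) = π c * π (c⁻¹ * ψ c) := by rw [← map_mul, mul_inv_cancel_left]
        have e2 : π (ψ e) = π (e ^ l) * π ((e ^ l)⁻¹ * ψ e) := by rw [← map_mul, mul_inv_cancel_left]
        rw [map_mul, map_inv, map_pow, inv_mul_eq_one, hh, map_commutatorElement ψ c e,
          map_commutatorElement π (ψ c), e1, hbil D.hc (hΦE H.hψc) (H.map_E _ D.he_mem),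
          commutatorElement_eq_one_iff_commute.mpr (hΦc H.hψc (H.map_E _ D.he_mem)), mul_one, e2,
          hbil' (pow_mem D.he_mem l) (hΦE H.hψe) D.hc,
          commutatorElement_eq_one_iff_commute.mpr (hΦc H.hψe D.hc).symm, mul_one, map_pow π e,
          hppow' D.hc D.he_mem, map_commutatorElement π c e]
      · rw [Nat.cast_one]; exact fun h3 => H.ne_one 1 (by simp) (by rw [pow_one, ← h3])
    have e1 := card_lt_sup_zpowers D.pgroup X (fun h1 => h2 (hπ1 h1) : i₂ ∉ X)
    have e2 := card_mul_le_of_lt D.pgroup (lt_of_le_of_ne hX₁Γ fun h1 => hhX₁ (le_of_eq h1.symm hhΓ))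
    have e3 := card_mul_le_of_lt D.pgroup hlt
    have haΦ : a ∉ Φ := fun h1 => D.hac (mem_sup_left (mem_sup_left h1))
    have e4 := card_lt_sup_zpowers D.pgroup Φ haΦ
    have hsub : ∀ {x}, x ∈ Φ ⊔ zpowers a → x ∈ W := fun {x} hx => sup_le hΦW (zpowers_le.mpr haW) hx
    have hb1 := section_bound hsr (Φ ⊔ zpowers a) X (hXΦ.trans le_sup_left)
      (fun x hx y hy => hπmem (by
        rw [map_commutatorElement, commutatorElement_eq_one_iff_commute]
        have hle : ∀ z, z ∈ E → Commute (π z) (π a) →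
            Φ ⊔ zpowers a ≤ (centralizer {π z}).comap π := fun z hz hza =>
          sup_le (fun w hw => mem_centralizer_singleton_iff.mpr (hΦc hw hz).eq)
            (zpowers_le.mpr (mem_centralizer_singleton_iff.mpr hza.symm.eq))
        exact ((mem_centralizer_singleton_iff.mp (hle x (hWE (hsub hx))
          (mem_centralizer_singleton_iff.mp (hle a D.ha (Commute.refl _) hx)) hy)) :
            Commute (π y) (π x)).symm))
      fun x hx => hπmem (by rw [map_pow]; exact hexp (hsub hx))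
    have e6 := (Nat.mul_le_mul_left p ((Nat.mul_le_mul_left p ((Nat.mul_le_mul_left p e1).trans e2)).trans
      e3)).trans (e4.trans hb1)
    have e5 : p ^ 4 ≤ p ^ 3 := Nat.le_of_mul_le_mul_right (by
      calc p ^ 4 * Nat.card X = p * (p * (p * (p * Nat.card X))) := by ring
        _ ≤ _ := e6) hXpos
    have := (Nat.pow_le_pow_iff_right hp.out.one_lt).mp e5
    omega

set_option maxHeartbeats 1000000 in
/-- Every automorphism of `T` keeps the hyperplane `Φ(E)⟨[b, a], c⟩`. -/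
theorem TransvData.H_invariant [E.Normal] {a b c : T} (D : TransvData p E a b c) {ψ : MulAut T}
    {l l' : ℕ} (H : TorusData p E a b c ψ l l') (hp5 : 5 ≤ p) (hsr : Cfsg.SectionalPRankLE p 3 T)
    (hψb : (b ^ (l * l))⁻¹ * ψ b ∈ frattini T) (hbp : b ^ p ∈ frattiniIn E)
    (hJ : frattini T = frattiniIn E ⊔ zpowers ⁅b, a⁆)
    (𝒜 : Set (MulAut E))
    (hW : ∀ α ∈ 𝒜, ∀ v : E, (v : T) ∈ frattiniIn E ⊔ zpowers ⁅b, a⁆ ⊔ zpowers a →
      (α v : T) ∈ frattiniIn E ⊔ zpowers ⁅b, a⁆ ⊔ zpowers a)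
    (hL : ∀ α ∈ 𝒜, ∀ v : E, (v : T) ∈ frattiniIn E ⊔ zpowers c →
      (α v : T) ∈ frattiniIn E ⊔ zpowers c)
    (hirr : ∀ U : Subgroup T, frattiniIn E ≤ U →
      U ≤ frattiniIn E ⊔ zpowers ⁅b, a⁆ ⊔ zpowers a →
      (∀ α ∈ 𝒜, ∀ v : E, (v : T) ∈ U → (α v : T) ∈ U) →
      U = frattiniIn E ∨ U = frattiniIn E ⊔ zpowers ⁅b, a⁆ ⊔ zpowers a)
    (σ : MulAut T) (x : T) (hx : x ∈ frattiniIn E ⊔ zpowers ⁅b, a⁆ ⊔ zpowers c) :
    σ x ∈ frattiniIn E ⊔ zpowers ⁅b, a⁆ ⊔ zpowers c := by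
  set Φ := frattiniIn E with hΦ
  set e := ⁅b, a⁆ with he
  set Γ := shallow p T with hΓ
  set g := ⁅c, a⁆ with hg
  set h := ⁅c, e⁆ with hh
  have hp2 : p ≠ 2 := by omega
  haveI := D.sup_normal le_sup_left le_sup_left
  have hJE : Φ ⊔ zpowers e ≤ E := D.J_le
  have hgΦ : g ∈ Φ := comm_mem_frattiniIn D.pgroup D.hc D.ha
  have hhΦ : h ∈ Φ := comm_mem_frattiniIn D.pgroup D.hc D.he_mem
  have hKJ : ∀ {y}, y ∈ Φ ⊔ zpowers e ↔ y ∈ frattini T := fun {y} => by rw [hJ]
  have heF : e ∈ frattini T := hKJ.mp (mem_sup_right (mem_zpowers e))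
  have hΦF : Φ ≤ frattini T := frattiniIn_le_frattini D.pgroup E
  have hΓΦ : Γ ≤ Φ := by
    refine sup_le (commutator_le.mpr fun k hk t _ => D.comm_mem (mem_sup_left (hKJ.mpr hk)) t)
      ((closure_le _).mpr ?_)
    rintro _ ⟨k, hk, rfl⟩
    rw [pow_one]
    exact pow_mem_frattiniIn D.pgroup (hJE (hKJ.mpr hk))
  -- the quotient `T / Γ`
  set π := QuotientGroup.mk' Γ with hπ
  have hπ1 : ∀ {x}, x ∈ Γ → π x = 1 := fun {x} hx => (QuotientGroup.eq_one_iff x).mpr hx
  have hπmem : ∀ {x}, π x = 1 → x ∈ Γ := fun {x} hx => (QuotientGroup.eq_one_iff x).mp hx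
  have hcen : ∀ {k}, k ∈ frattini T → π k ∈ center (T ⧸ Γ) := fun {k} hk => mem_center_iff.mpr fun q => by
    obtain ⟨q, rfl⟩ := QuotientGroup.mk'_surjective Γ q
    exact (commutatorElement_eq_one_iff_mul_comm.mp (by
      rw [← map_commutatorElement]
      exact hπ1 (mem_sup_left (commutator_mem_commutator hk (mem_top q))))).symm
  have hFp : ∀ {k}, k ∈ frattini T → π k ^ p = 1 := fun {k} hk => by
    rw [← map_pow]; exact hπ1 (mem_sup_right (pow_mem_powerClosure p hk))
  have hcc : ∀ u v, ⁅π u, π v⁆ ∈ center (T ⧸ Γ) := fun u v => by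
    rw [← map_commutatorElement]; exact hcen (comm_mem_frattini D.pgroup u v)
  have hml : ∀ u v w, ⁅π u * π v, π w⁆ = ⁅π u, π w⁆ * ⁅π v, π w⁆ := fun u v w =>
    comm_mul_left_central (hcc v w)
  have hmr : ∀ u v w, ⁅π w, π u * π v⁆ = ⁅π w, π u⁆ * ⁅π w, π v⁆ := fun u v w =>
    comm_mul_right_central (hcc w v)
  have hpl : ∀ u w (n : ℕ), ⁅π u ^ n, π w⁆ = ⁅π u, π w⁆ ^ n := fun u w n =>
    comm_pow_left (mem_center_iff.mp (hcc u w) (π u)) n
  have hpr : ∀ u w (n : ℕ), ⁅π u, π w ^ n⁆ = ⁅π u, π w⁆ ^ n := fun u w n =>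
    comm_pow_right (mem_center_iff.mp (hcc u w) (π w)) n
  have hpw : ∀ u v, (π u * π v) ^ p = π u ^ p * π v ^ p := fun u v =>
    mul_pow_prime hp2 (mem_center_iff.mp (hcc v u) _) (mem_center_iff.mp (hcc v u) _)
      (by rw [← map_commutatorElement]; exact hFp (comm_mem_frattini D.pgroup v u))
  have hσΓ : ∀ (τ : MulAut T) {y}, y ∈ Γ → τ y ∈ Γ := fun τ {y} hy => by
    have h1 := mem_map_of_mem τ.toMonoidHom hy
    rwa [hΓ, Subgroup.characteristic_iff_map_eq.mp (inferInstance : (shallow p T).Characteristic) τ] at h1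
  have hcenΦ : ∀ {k}, k ∈ Φ → π k ∈ center (T ⧸ Γ) := fun {k} hk => hcen (hΦF hk)
  -- images under `ψ`
  have hψa : ∃ z ∈ center (T ⧸ Γ), π (ψ a) = π a ^ l' * z :=
    ⟨_, hcenΦ H.hψa, by rw [← map_pow, ← map_mul, mul_inv_cancel_left]⟩
  have hψc : ∃ z ∈ center (T ⧸ Γ), π (ψ c) = π c * z :=
    ⟨_, hcenΦ H.hψc, by rw [← map_mul, mul_inv_cancel_left]⟩
  have hψb' : ∃ z ∈ center (T ⧸ Γ), π (ψ b) = π b ^ (l * l) * z ∧ z ^ p = 1 :=
    ⟨_, hcen hψb, by rw [← map_pow, ← map_mul, mul_inv_cancel_left], hFp hψb⟩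
  obtain ⟨za, hza, hza'⟩ := hψa
  obtain ⟨zc, hzc, hzc'⟩ := hψc
  obtain ⟨zb, hzb, hzb', hzbp⟩ := hψb'
  have hzap : za ^ p = 1 := by
    have h1 : za = π ((a ^ l')⁻¹ * ψ a) := by
      rw [map_mul π, map_inv, hza', map_pow, inv_mul_cancel_left]
    rw [h1]; exact hFp (hΦF H.hψa)
  have hzcp : zc ^ p = 1 := by
    have h1 : zc = π (c⁻¹ * ψ c) := by rw [map_mul π, map_inv, hzc', inv_mul_cancel_left]
    rw [h1]; exact hFp (hΦF H.hψc)
  have hψg : π (ψ g) = π g ^ l' := by
    rw [hg, map_commutatorElement ψ, map_commutatorElement π, map_commutatorElement π, hzc', hza',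
      comm_mul_central_left hzc, comm_mul_central_right hza, hpr]
  have hψcb : π (ψ ⁅c, b⁆) = π ⁅c, b⁆ ^ (l * l) := by
    rw [map_commutatorElement ψ, map_commutatorElement π, map_commutatorElement π, hzc', hzb',
      comm_mul_central_left hzc, comm_mul_central_right hzb, hpr]
  have hψap : π (ψ (a ^ p)) = π (a ^ p) ^ l' := by
    rw [map_pow ψ, map_pow π (ψ a), hza', (show Commute (π a ^ l') za from
      mem_center_iff.mp hza _).mul_pow, hzap, mul_one, map_pow, ← pow_mul, ← pow_mul, mul_comm]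
  have hψcp : π (ψ (c ^ p)) = π (c ^ p) := by
    rw [map_pow ψ, map_pow π (ψ c), hzc', (show Commute (π c) zc from mem_center_iff.mp hzc _).mul_pow,
      hzcp, mul_one, map_pow]
  have hψbp : π (ψ (b ^ p)) = π (b ^ p) ^ (l * l) := by
    rw [map_pow ψ, map_pow π (ψ b), hzb', (show Commute (π b ^ (l * l)) zb from
      mem_center_iff.mp hzb _).mul_pow, hzbp, mul_one, map_pow, ← pow_mul, ← pow_mul, mul_comm]
  -- the layers of `Φ(E) / Γ`
  set M₁ := Γ ⊔ zpowers g ⊔ zpowers (a ^ p) with hM₁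
  set M₂ := M₁ ⊔ zpowers (c ^ p) with hM₂
  have hap : a ^ p ∈ Φ := pow_mem_frattiniIn D.pgroup D.ha
  have hM₁Φ : M₁ ≤ Φ := sup_le (sup_le hΓΦ (zpowers_le.mpr hgΦ)) (zpowers_le.mpr hap)
  have hM₂Φ : M₂ ≤ Φ := sup_le hM₁Φ (zpowers_le.mpr (pow_mem_frattiniIn D.pgroup D.hc))
  haveI hM₁n : M₁.Normal := ⟨fun v hv t => by
    have h1 : ⁅t, v⁆ ∈ Γ := hπmem (by
      rw [map_commutatorElement, commutatorElement_eq_one_iff_mul_comm]
      exact mem_center_iff.mp (hcenΦ (hM₁Φ hv)) _)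
    have e1 : t * v * t⁻¹ = ⁅t, v⁆ * v := by rw [commutatorElement_def, inv_mul_cancel_right]
    rw [e1]
    exact mul_mem (mem_sup_left (mem_sup_left h1)) hv⟩
  have hEgen : ∀ N : Subgroup T, Φ ≤ N → e ∈ N → c ∈ N → a ∈ N → E ≤ N := fun N h1 h2 h3 h4 => by
    rw [D.card_H.2.2]
    exact sup_le (sup_le (sup_le h1 (zpowers_le.mpr h2)) (zpowers_le.mpr h3)) (zpowers_le.mpr h4)
  have hΦM₂ : Φ ≤ M₂ := by
    have hm : ∀ {y}, y ∈ M₂ → π y ∈ M₂.map π := fun {y} hy => mem_map_of_mem π hy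
    have hΓM : Γ ≤ M₂ := le_sup_left.trans (le_sup_left.trans le_sup_left)
    have hback : ∀ {y}, π y ∈ M₂.map π → y ∈ M₂ := fun {y} ⟨z, hz, hze⟩ => by
      have h1 : z⁻¹ * y ∈ Γ := hπmem (by rw [map_mul, map_inv, hze, inv_mul_cancel])
      have := mul_mem hz (hΓM h1)
      rwa [mul_inv_cancel_left] at this
    have he0 : ∀ w, ⁅π e, π w⁆ = 1 := fun w =>
      commutatorElement_eq_one_iff_mul_comm.mpr (mem_center_iff.mp (hcen heF) _).symm
    have hΦ0 : ∀ {k}, k ∈ Φ → ∀ w, ⁅π k, π w⁆ = 1 := fun {k} hk w =>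
      commutatorElement_eq_one_iff_mul_comm.mpr (mem_center_iff.mp (hcenΦ hk) _).symm
    have hg' : ⁅π c, π a⁆ ∈ M₂.map π := by
      rw [← map_commutatorElement]
      exact hm (mem_sup_left (mem_sup_left (mem_sup_right (mem_zpowers g))))
    have hstep : ∀ w, ⁅π a, π w⁆ ∈ M₂.map π → ⁅π c, π w⁆ ∈ M₂.map π →
        ∀ v ∈ E, ⁅π v, π w⁆ ∈ M₂.map π := by
      intro w h1 h2 v hv
      let N : Subgroup T :=
        { carrier := {v | ⁅π v, π w⁆ ∈ M₂.map π}
          one_mem' := by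
            show ⁅π 1, π w⁆ ∈ M₂.map π
            rw [map_one, commutatorElement_one_left]; exact one_mem _
          mul_mem' := fun {u v} hu hv => by
            show ⁅π (u * v), π w⁆ ∈ M₂.map π
            rw [map_mul, hml]; exact mul_mem hu hv
          inv_mem' := fun {u} hu => by
            show ⁅π u⁻¹, π w⁆ ∈ M₂.map π
            have h3 := hml u⁻¹ u w
            rw [← map_mul, inv_mul_cancel, map_one, commutatorElement_one_left] at h3
            rw [eq_inv_of_mul_eq_one_left h3.symm]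
            exact inv_mem hu }
      exact hEgen N (fun k hk => show ⁅π k, π w⁆ ∈ M₂.map π by rw [hΦ0 hk]; exact one_mem _)
        (show ⁅π e, π w⁆ ∈ M₂.map π by rw [he0]; exact one_mem _) h2 h1 hv
    have ha1 : ∀ v ∈ E, ⁅π v, π a⁆ ∈ M₂.map π :=
      hstep a (by rw [commutatorElement_self]; exact one_mem _) hg'
    have hc1 : ∀ v ∈ E, ⁅π v, π c⁆ ∈ M₂.map π :=
      hstep c (by rw [← commutatorElement_inv]; exact inv_mem hg') (by
        rw [commutatorElement_self]; exact one_mem _)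
    refine frattiniIn_le_of D.pgroup (fun v hv w hw => hback ?_) fun v hv => hback ?_
    · rw [map_commutatorElement]
      refine hstep w ?_ ?_ v hv <;> rw [← commutatorElement_inv] <;>
        first | exact inv_mem (ha1 w hw) | exact inv_mem (hc1 w hw)
    · let N : Subgroup T :=
        { carrier := {v | π v ^ p ∈ M₂.map π}
          one_mem' := by show π 1 ^ p ∈ M₂.map π; rw [map_one, one_pow]; exact one_mem _
          mul_mem' := fun {u v} hu hv => by
            show π (u * v) ^ p ∈ M₂.map π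
            rw [map_mul, hpw]; exact mul_mem hu hv
          inv_mem' := fun {u} hu => by
            show π u⁻¹ ^ p ∈ M₂.map π
            rw [map_inv, inv_pow]; exact inv_mem hu }
      rw [map_pow]
      refine hEgen N (fun k hk => show π k ^ p ∈ M₂.map π by rw [hFp (hΦF hk)]; exact one_mem _)
        (show π e ^ p ∈ M₂.map π by rw [hFp heF]; exact one_mem _) ?_ ?_ hv
      · show π c ^ p ∈ M₂.map π
        rw [← map_pow]; exact hm (mem_sup_right (mem_zpowers _))
      · show π a ^ p ∈ M₂.map π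
        rw [← map_pow]; exact hm (mem_sup_left (mem_sup_right (mem_zpowers _)))
  have hto : ∀ {y z : T} {n : ℕ}, π (ψ y) = π y ^ n → z = y → (y ^ n)⁻¹ * ψ y ∈ Γ := fun {y z n} h1 _ =>
    hπmem (by rw [map_mul, map_inv, map_pow, h1, inv_mul_cancel])
  have hψΓ : ∀ y ∈ Γ, ψ y ∈ Γ := fun y hy => hσΓ ψ hy
  have hcomΦ : ∀ y ∈ Φ, ∀ z ∈ Φ, ⁅y, z⁆ ∈ Γ := fun y hy z _ =>
    mem_sup_left (commutator_mem_commutator (hΦF hy) (mem_top z))
  have hs1 : ∀ y ∈ M₁, (y ^ l')⁻¹ * ψ y ∈ Γ := by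
    refine scalar_of_gen ψ l' hψΓ (fun y hy z hz => hcomΦ y (hM₁Φ hy) z (hM₁Φ hz))
      (((Γ : Set T) ∪ {g}) ∪ {a ^ p}) ?_ ?_ ?_
    · exact sup_le (sup_le (fun y hy => subset_closure (Or.inl (Or.inl hy)))
        (zpowers_le.mpr (subset_closure (Or.inl (Or.inr rfl))))) (zpowers_le.mpr (subset_closure (Or.inr rfl)))
    · rintro y ((hy | rfl) | rfl)
      exacts [mem_sup_left (mem_sup_left hy), mem_sup_left (mem_sup_right (mem_zpowers _)),
        mem_sup_right (mem_zpowers _)]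
    · rintro y ((hy | rfl) | rfl)
      exacts [mul_mem (inv_mem (pow_mem hy l')) (hψΓ y hy), hto hψg rfl, hto hψap rfl]
  have hψM₁ : ∀ y ∈ M₁, ψ y ∈ M₁ := fun y hy => by
    have := mul_mem (pow_mem hy l') (mem_sup_left (mem_sup_left (hs1 y hy)) : (y ^ l')⁻¹ * ψ y ∈ M₁)
    rwa [mul_inv_cancel_left] at this
  have hs2 : ∀ y ∈ M₂, (y ^ 1)⁻¹ * ψ y ∈ M₁ := by
    refine scalar_of_gen ψ 1 hψM₁ (fun y hy z hz => mem_sup_left (mem_sup_left
      (hcomΦ y (hM₂Φ hy) z (hM₂Φ hz)))) ((M₁ : Set T) ∪ {c ^ p}) ?_ ?_ ?_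
    · exact sup_le (fun y hy => subset_closure (Or.inl hy)) (zpowers_le.mpr (subset_closure (Or.inr rfl)))
    · rintro y (hy | rfl)
      exacts [mem_sup_left hy, mem_sup_right (mem_zpowers _)]
    · rintro y (hy | rfl)
      · rw [pow_one]; exact mul_mem (inv_mem hy) (hψM₁ y hy)
      · exact mem_sup_left (mem_sup_left (hto (n := 1) (by rw [pow_one]; exact hψcp) rfl))
  have hL2 : ((l * l : ℕ) : ZMod p) = (l : ZMod p) ^ 2 := by push_cast; ring
  have hkill : ∀ {v}, v ∈ Φ → (v ^ (l * l))⁻¹ * ψ v ∈ Γ → v ∈ Γ := by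
    intro v hv hν
    have hvp : v ^ p ∈ Γ := mem_sup_right (pow_mem_powerClosure p (hΦF hv))
    have h1 : v ∈ M₁ := eigen_mem ψ (mem_sup_left (mem_sup_left hvp)) (hs2 v (hΦM₂ hv))
      (mem_sup_left (mem_sup_left hν)) (by rw [Nat.cast_one, hL2]; exact (H.ne_one 2 (by simp)).symm)
    refine eigen_mem ψ hvp (hs1 v h1) hν ?_
    rw [hL2]
    exact fun h => H.ne_one 3 (by simp) (by rw [← H.mul_eq, h]; ring)
  have hcb : π ⁅c, b⁆ = 1 :=
    hπ1 (hkill (by rw [← commutatorElement_inv]; exact inv_mem D.hbc) (hto hψcb rfl))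
  have hbp' : π b ^ p = 1 := by
    rw [← map_pow]; exact hπ1 (hkill hbp (hto hψbp rfl))
  have hbc' : ⁅π b, π c⁆ = 1 := by
    rw [← commutatorElement_inv, ← map_commutatorElement, hcb, inv_one]
  -- coordinates in `T / Γ`
  have hco : ∀ t, ∃ i j m : ℕ, ∃ z ∈ center (T ⧸ Γ), z ^ p = 1 ∧
      π t = π b ^ j * (π a ^ i * π c ^ m) * z ∧ (b ^ j * (a ^ i * c ^ m))⁻¹ * t ∈ frattini T := by
    intro t
    obtain ⟨i, j, m, h1⟩ := D.coords t
    have h2 := hKJ.mp h1
    refine ⟨i, j, m, _, hcen h2, hFp h2, ?_, h2⟩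
    rw [← map_pow, ← map_pow, ← map_pow, ← map_mul, ← map_mul, ← map_mul, mul_inv_cancel_left]
  have he' : ⁅π b, π a⁆ = π e := (map_commutatorElement π b a).symm
  have hg' : ⁅π c, π a⁆ = π g := (map_commutatorElement π c a).symm
  have hca : ∀ {i j m : ℕ}, ⁅π b ^ j * (π a ^ i * π c ^ m), π a⁆ = π e ^ j * π g ^ m := fun {i j m} => by
    rw [← map_pow π b, ← map_pow π a, ← map_pow π c, ← map_mul π (a ^ i), hml, map_mul, hml, map_pow,
      map_pow, map_pow, hpl, hpl, hpl, commutatorElement_self, one_pow, one_mul, he', hg']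
  by_cases hgΓ : g ∈ Γ
  · -- `c` is central modulo `Γ`
    have hc0 : ∀ t, ⁅π c, π t⁆ = 1 := by
      intro t
      obtain ⟨i, j, m, z, hz, -, ht, -⟩ := hco t
      rw [ht, comm_mul_central_right hz, ← map_pow π b, ← map_pow π a, ← map_pow π c,
        ← map_mul π (a ^ i), hmr, map_mul, hmr, map_pow, map_pow, map_pow, hpr, hpr, hpr,
        commutatorElement_self, hg', ← map_commutatorElement π c b, hcb, hπ1 hgΓ]
      simp
    have hxc : π x ∈ center (T ⧸ Γ) := by
      have hle : Φ ⊔ zpowers e ⊔ zpowers c ≤ (center (T ⧸ Γ)).comap π := by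
        refine sup_le (fun y hy => hcen (hKJ.mp hy)) (zpowers_le.mpr (mem_center_iff.mpr fun q => ?_))
        obtain ⟨q, rfl⟩ := QuotientGroup.mk'_surjective Γ q
        exact (commutatorElement_eq_one_iff_mul_comm.mp (hc0 q)).symm
      exact hle hx
    have hσx : ∀ q, ⁅π (σ x), π q⁆ = 1 := fun q => by
      obtain ⟨q, rfl⟩ := σ.surjective q
      rw [← map_commutatorElement, ← map_commutatorElement σ]
      refine hπ1 (hσΓ σ (hπmem ?_))
      rw [map_commutatorElement, commutatorElement_eq_one_iff_mul_comm]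
      exact (mem_center_iff.mp hxc _).symm
    obtain ⟨i, j, m, z, hz, -, ht, ht'⟩ := hco (σ x)
    have hi : p ∣ i := by
      have h1 := hσx b
      rw [ht, comm_mul_central_left hz, ← map_pow π b, ← map_pow π a, ← map_pow π c,
        ← map_mul π (a ^ i), hml, map_mul, hml, map_pow, map_pow, map_pow, hpl, hpl, hpl,
        commutatorElement_self, one_pow, one_mul, ← map_commutatorElement π c b, hcb, one_pow, mul_one,
        ← commutatorElement_inv, he', inv_pow, inv_eq_one, ← map_pow] at h1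
      exact dvd_of_pow_mem D.pgroup D.he (hΓΦ (hπmem h1))
    have hj : p ∣ j := by
      have h1 := hσx a
      rw [ht, comm_mul_central_left hz, hca, hπ1 hgΓ, one_pow, mul_one, ← map_pow] at h1
      exact dvd_of_pow_mem D.pgroup D.he (hΓΦ (hπmem h1))
    have h1 := mem_sup_left (T := zpowers c) (hKJ.mpr ht')
    obtain ⟨s, rfl⟩ := hi
    obtain ⟨s', rfl⟩ := hj
    rw [pow_mul, pow_mul] at h1
    have h2 := mul_mem (mul_mem (pow_mem (mem_sup_left (T := zpowers c)
      (mem_sup_left (T := zpowers e) hbp)) s') (mul_mem (pow_mem (mem_sup_left (T := zpowers c)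
      (mem_sup_left (T := zpowers e) hap)) s)
      (pow_mem (mem_sup_right (mem_zpowers c)) m))) h1
    rwa [mul_inv_cancel_left] at h2
  -- `g ∉ Γ`: the abelian maximal subgroup is fixed
  have hind : ∀ {i j : ℕ}, π e ^ i * π g ^ j = 1 → p ∣ i ∧ p ∣ j := fun {i j} h1 => by
    rw [← map_pow, ← map_pow, ← map_mul] at h1
    have h2 := hΓΦ (hπmem h1)
    have hi : p ∣ i := dvd_of_pow_mem D.pgroup D.he ((mul_mem_cancel_right (pow_mem hgΦ j)).mp h2)
    refine ⟨hi, dvd_of_pow_mem D.pgroup hgΓ (hπmem ?_)⟩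
    rwa [map_mul, map_pow, pow_prime_mul_eq_one (hFp heF) hi, one_mul] at h1
  obtain ⟨ia, ja, ma, za', hza0, hzap', hσa, hσa'⟩ := hco (σ a)
  obtain ⟨ib, jb, mb, zb', hzb0, -, hσb, hσb'⟩ := hco (σ b)
  obtain ⟨ic, jc, mc, zc', hzc0, -, hσc, hσc'⟩ := hco (σ c)
  have hbr : ∀ {i j m i' j' m' : ℕ},
      ⁅π b ^ j * (π a ^ i * π c ^ m), π b ^ j' * (π a ^ i' * π c ^ m')⁆ =
      (π e ^ j * π g ^ m) ^ i' * ((π e ^ j' * π g ^ m') ^ i)⁻¹ := by
    intro i j m i' j' m'
    have ec : ∀ {n : ℕ}, (π e ^ n) ∈ center (T ⧸ Γ) := fun {n} => pow_mem (hcen heF) n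
    have gc : ∀ {n : ℕ}, (π g ^ n) ∈ center (T ⧸ Γ) := fun {n} => pow_mem (hcenΦ hgΦ) n
    obtain ⟨u, hu⟩ : ∃ u, π b ^ j * (π a ^ i * π c ^ m) = π u :=
      ⟨b ^ j * (a ^ i * c ^ m), by simp⟩
    have h2 : ∀ {n : ℕ}, ⁅π u, π b⁆ ^ n = ((π e ^ i) ^ n)⁻¹ := fun {n} => by
      rw [← hu, ← map_pow π b, ← map_pow π a, ← map_pow π c, ← map_mul π (a ^ i), hml, map_mul, hml,
        map_pow, map_pow, map_pow, hpl, hpl, hpl, commutatorElement_self, one_pow, one_mul,
        ← map_commutatorElement π c b, hcb, one_pow, mul_one, ← commutatorElement_inv, he', inv_pow,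
        inv_pow]
    have h3 : ∀ {n : ℕ}, ⁅π u, π c⁆ ^ n = ((π g ^ i) ^ n)⁻¹ := fun {n} => by
      rw [← hu, ← map_pow π b, ← map_pow π a, ← map_pow π c, ← map_mul π (a ^ i), hml, map_mul, hml,
        map_pow, map_pow, map_pow, hpl, hpl, hpl, commutatorElement_self, one_pow, hbc', one_pow,
        one_mul, mul_one, ← commutatorElement_inv, hg', inv_pow, inv_pow]
    rw [hu, ← map_pow π b j', ← map_pow π a i', ← map_pow π c m', ← map_mul π (a ^ i'), hmr,
      map_mul π (a ^ i'), hmr, map_pow π b, map_pow π a, map_pow π c, hpr, hpr, hpr, h2, h3, ← hu, hca]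
    rw [← pow_mul, ← pow_mul, mul_comm i j', mul_comm i m', pow_mul, pow_mul,
      (show Commute (π e ^ j') (π g ^ m') from (mem_center_iff.mp gc _)).mul_pow, mul_inv_rev,
      ← mul_assoc, (show Commute ((π e ^ j') ^ i)⁻¹ ((π e ^ j * π g ^ m) ^ i') from
        mem_center_iff.mp (pow_mem (mul_mem ec gc) _) _).eq, mul_assoc]
    exact congrArg _ ((mem_center_iff.mp (inv_mem (pow_mem ec i)) _).symm)
  have hbc0 : (π e ^ jb * π g ^ mb) ^ ic * ((π e ^ jc * π g ^ mc) ^ ib)⁻¹ = 1 := by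
    have h1 : ⁅π (σ b), π (σ c)⁆ = 1 := by
      rw [← map_commutatorElement, ← map_commutatorElement σ]
      exact hπ1 (hσΓ σ (hπmem (by rw [map_commutatorElement]; exact hbc')))
    rwa [hσb, hσc, comm_mul_central_left hzb0, comm_mul_central_right hzc0, hbr] at h1
  have hpow1 : ∀ {y : T ⧸ Γ}, y ^ p = 1 → y⁻¹ = y ^ (p - 1) := fun {y} hy => by
    rw [inv_eq_iff_mul_eq_one, ← pow_succ', Nat.sub_add_cancel hp.out.one_le, hy]
  have hind2 : ∀ {i j i' j' : ℕ}, π e ^ i * π g ^ j = π e ^ i' * π g ^ j' →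
      (i : ZMod p) = i' ∧ (j : ZMod p) = j' := by
    intro i j i' j' h1
    have hge : Commute (π g) (π e) := (mem_center_iff.mp (hcenΦ hgΦ) (π e)).symm
    have h2 : π e ^ (i + (p - 1) * i') * π g ^ (j + (p - 1) * j') = 1 := by
      rw [pow_add, pow_add, mul_assoc (π e ^ i), ← mul_assoc (π e ^ ((p - 1) * i')),
        ((hge.symm).pow_pow ((p - 1) * i') j).eq, mul_assoc (π g ^ j), ← mul_assoc (π e ^ i), h1,
        ← mul_assoc, mul_assoc (π e ^ i'), ((hge).pow_pow j' ((p - 1) * i')).eq, ← mul_assoc (π e ^ i'),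
        ← pow_add, mul_assoc, ← pow_add, show i' + (p - 1) * i' = p * i' by
          rw [Nat.sub_one_mul]; exact Nat.add_sub_cancel' (Nat.le_mul_of_pos_left _ hp.out.pos),
        show j' + (p - 1) * j' = p * j' by
          rw [Nat.sub_one_mul]; exact Nat.add_sub_cancel' (Nat.le_mul_of_pos_left _ hp.out.pos),
        pow_mul, pow_mul, hFp heF, hFp (hΦF hgΦ), one_pow, one_pow, one_mul]
    obtain ⟨h3, h4⟩ := hind h2
    rw [← ZMod.natCast_eq_zero_iff, Nat.cast_add, Nat.cast_mul, Nat.cast_sub hp.out.one_le,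
      ZMod.natCast_self, zero_sub, Nat.cast_one, neg_one_mul, ← sub_eq_add_neg, sub_eq_zero] at h3 h4
    exact ⟨h3, h4⟩
  -- the quotient by the Frattini subgroup
  set q := QuotientGroup.mk' (frattini T) with hq
  have hq1 : ∀ {y}, y ∈ frattini T → q y = 1 := fun {y} hy => (QuotientGroup.eq_one_iff y).mpr hy
  have hqc : ∀ u v, Commute (q u) (q v) := fun u v => commutatorElement_eq_one_iff_commute.mp (by
    rw [← map_commutatorElement]; exact hq1 (comm_mem_frattini D.pgroup u v))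
  have hqp : ∀ u, q u ^ p = 1 := fun u => by
    rw [← map_pow]; exact hq1 (Cfsg.Lib.PGroup.pow_mem_frattini D.pgroup u)
  have hqco : ∀ {y : T} {i j m : ℕ}, (b ^ j * (a ^ i * c ^ m))⁻¹ * y ∈ frattini T →
      q y = q b ^ j * (q a ^ i * q c ^ m) := fun {y i j m} h1 => by
    have h2 := hq1 h1
    rw [map_mul, map_inv, inv_mul_eq_one] at h2
    rw [← h2, map_mul, map_mul, map_pow, map_pow, map_pow]
  have hpi : p ∣ ib ∧ p ∣ ic := by
    rw [mul_inv_eq_one,
      (show Commute (π e ^ jb) (π g ^ mb) from (mem_center_iff.mp (pow_mem (hcenΦ hgΦ) mb) _)).mul_pow,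
      (show Commute (π e ^ jc) (π g ^ mc) from (mem_center_iff.mp (pow_mem (hcenΦ hgΦ) mc) _)).mul_pow,
      ← pow_mul, ← pow_mul, ← pow_mul, ← pow_mul] at hbc0
    obtain ⟨h3, h4⟩ := hind2 hbc0
    rw [ZMod.natCast_eq_natCast_iff] at h3 h4
    have h5 : q (σ (b ^ ic)) = q (σ (c ^ ib)) := by
      rw [map_pow σ, map_pow σ, map_pow q, map_pow q, hqco hσb', hqco hσc', ← map_pow q b, ← map_pow q a,
        ← map_pow q c, ← map_pow q b, ← map_pow q a, ← map_pow q c, ← map_mul q (a ^ ib),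
        ← map_mul q (a ^ ic), (hqc _ _).mul_pow, (hqc _ _).mul_pow, map_mul, map_mul,
        (hqc _ _).mul_pow, (hqc _ _).mul_pow]
      simp only [map_pow, ← pow_mul]
      rw [Plane.pow_eq_pow_of_modEq (hqp b) h3, Plane.pow_eq_pow_of_modEq (hqp c) h4, mul_comm ib ic]
    have h6 : (b ^ ic)⁻¹ * c ^ ib ∈ frattini T := by
      have h7 := (QuotientGroup.eq).mp h5
      rw [← map_inv, ← map_mul] at h7
      have h8 := mem_map_of_mem σ.symm.toMonoidHom h7
      rw [Subgroup.characteristic_iff_map_eq.mp (inferInstance : (frattini T).Characteristic) σ.symm] at h8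
      simpa using h8
    have h9 : b ^ (ic * (p - 1)) * (a ^ 0 * c ^ ib) ∈ Φ ⊔ zpowers e := by
      rw [hKJ, ← QuotientGroup.eq_one_iff, ← QuotientGroup.mk'_apply, ← hq]
      have h10 := hq1 h6
      rw [map_mul, map_inv, map_pow] at h10
      simp only [pow_zero, one_mul, map_mul, map_pow]
      rw [map_pow] at h10
      rwa [pow_mul, show (q b ^ ic) ^ (p - 1) = (q b ^ ic)⁻¹ by
        rw [eq_comm, inv_eq_iff_mul_eq_one, ← pow_succ', Nat.sub_add_cancel hp.out.one_le, ← map_pow,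
          hqp]]
    obtain ⟨-, h11, h12⟩ := D.coords_dvd hbp h9
    refine ⟨h12, (hp.out.dvd_mul.mp h11).resolve_right fun h => ?_⟩
    have := Nat.le_of_dvd (by omega) h
    omega
  obtain ⟨hib, hic⟩ := hpi
  by_cases hjc : p ∣ jc
  · -- the hyperplane is fixed
    have hσF : ∀ {y}, y ∈ frattini T → σ y ∈ frattini T := fun {y} hy => by
      have h1 := mem_map_of_mem σ.toMonoidHom hy
      rwa [Subgroup.characteristic_iff_map_eq.mp (inferInstance : (frattini T).Characteristic) σ] at h1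
    have hle : Φ ⊔ zpowers e ⊔ zpowers c ≤ (Φ ⊔ zpowers e ⊔ zpowers c).comap σ.toMonoidHom := by
      refine sup_le (fun y hy => mem_sup_left (hKJ.mpr (hσF (hKJ.mp hy)))) (zpowers_le.mpr ?_)
      show σ c ∈ Φ ⊔ zpowers e ⊔ zpowers c
      have h1 := mem_sup_left (T := zpowers c) (hKJ.mpr hσc')
      obtain ⟨s, rfl⟩ := hic
      obtain ⟨s', rfl⟩ := hjc
      rw [pow_mul, pow_mul] at h1
      have h2 := mul_mem (mul_mem (pow_mem (mem_sup_left (T := zpowers c)
        (mem_sup_left (T := zpowers e) hbp)) s') (mul_mem (pow_mem (mem_sup_left (T := zpowers c)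
        (mem_sup_left (T := zpowers e) hap)) s)
        (pow_mem (mem_sup_right (mem_zpowers c)) mc))) h1
      rwa [mul_inv_cancel_left] at h2
    exact hle hx
  exfalso
  have hia : ¬ p ∣ ia := by
    intro hia
    -- otherwise all of `T` would map into a maximal subgroup
    have hall : ∀ y : T, ∃ j m : ℕ, q y = q b ^ j * q c ^ m := by
      intro y
      obtain ⟨y, rfl⟩ := σ.surjective y
      obtain ⟨i, j, m, h1⟩ := D.coords y
      have h2 := (hKJ.mp h1)
      have h3 := mem_map_of_mem σ.toMonoidHom h2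
      rw [Subgroup.characteristic_iff_map_eq.mp (inferInstance : (frattini T).Characteristic) σ] at h3
      have h4 := hq1 h3
      simp only [MulEquiv.coe_toMonoidHom, map_mul, map_inv, map_pow] at h4
      rw [inv_mul_eq_one] at h4
      obtain ⟨sa, hsa⟩ := hia
      obtain ⟨sb, hsb⟩ := hib
      obtain ⟨sc, hsc⟩ := hic
      have h5 : ∀ {y : T} {i' j' m' s : ℕ}, (b ^ j' * (a ^ i' * c ^ m'))⁻¹ * y ∈ frattini T → i' = p * s →
          q y = q b ^ j' * q c ^ m' := fun {y i' j' m' s} hy hi' => by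
        rw [hqco hy, hi', pow_mul, hqp, one_pow, one_mul]
      rw [h5 hσb' hsb, h5 hσc' hsc] at h4
      have h7 : q (σ a) = q b ^ ja * q c ^ ma := h5 hσa' hsa
      rw [h7, (hqc b c |>.pow_pow ja ma).mul_pow, (hqc b c |>.pow_pow jb mb).mul_pow,
        (hqc b c |>.pow_pow jc mc).mul_pow, ← pow_mul, ← pow_mul, ← pow_mul, ← pow_mul, ← pow_mul,
        ← pow_mul, mul_assoc] at h4
      refine ⟨jb * j + (ja * i + jc * m), mb * j + (ma * i + mc * m), ?_⟩
      rw [← h4, ← map_pow q b, ← map_pow q b, ← map_pow q b, ← map_pow q c, ← map_pow q c, ← map_pow q c]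
      have hx : ∀ u v w w' : T, q u * (q v * (q w * q w')) = q u * q w * (q v * q w') := fun u v w w' => by
        rw [← mul_assoc (q v), (hqc v w).eq]; simp only [mul_assoc]
      simp only [mul_assoc]
      rw [hx (b ^ (ja * i)) (c ^ (ma * i)) (b ^ (jc * m)) (c ^ (mc * m)), ← map_mul q, ← map_mul q,
        ← mul_assoc (q (b ^ (jb * j))), mul_assoc, hx, ← map_mul q, ← map_mul q, ← pow_add, ← pow_add,
        ← pow_add, ← pow_add, map_pow, map_pow]
    obtain ⟨j, m, h1⟩ := hall a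
    have h2 : b ^ j * (a ^ (p - 1) * c ^ m) ∈ Φ ⊔ zpowers e := by
      rw [hKJ, ← QuotientGroup.eq_one_iff, ← QuotientGroup.mk'_apply, ← hq]
      simp only [map_mul, map_pow]
      rw [((hqc a c).pow_pow (p - 1) m).eq, ← mul_assoc, ← h1, ← pow_succ',
        Nat.sub_add_cancel hp.out.one_le, hqp]
    have h3 := Nat.le_of_dvd (by omega) (D.coords_dvd hbp h2).1
    omega
  -- a `p`-th power of `a` proportional to `g` is trivial
  have hσg : π (σ g) = π e ^ (jc * ia) * π g ^ (mc * ia) := by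
    rw [hg, map_commutatorElement σ, map_commutatorElement π, hσc, hσa, comm_mul_central_left hzc0,
      comm_mul_central_right hza0, hbr]
    obtain ⟨sc, rfl⟩ := hic
    rw [(show Commute (π e ^ jc) (π g ^ mc) from (mem_center_iff.mp (pow_mem (hcenΦ hgΦ) mc) _)).mul_pow,
      (show Commute (π e ^ ja) (π g ^ ma) from (mem_center_iff.mp (pow_mem (hcenΦ hgΦ) ma) _)).mul_pow,
      pow_mul (π e ^ ja), pow_mul (π g ^ ma), ← pow_mul (π e) ja p, mul_comm ja p, pow_mul (π e) p,
      hFp heF, one_pow, one_pow, ← pow_mul (π g) ma p, mul_comm ma p, pow_mul (π g) p, hFp (hΦF hgΦ),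
      one_pow, one_pow, mul_one, inv_one, mul_one, ← pow_mul, ← pow_mul]
  have hK : ∀ k, π (a ^ p) = π g ^ k → p ∣ k := by
    intro k hk
    have h1 : π (σ (a ^ p)) = π (σ (g ^ k)) := by
      rw [QuotientGroup.mk'_apply, QuotientGroup.mk'_apply, QuotientGroup.eq, ← map_inv σ, ← map_mul σ]
      refine hσΓ σ (hπmem ?_)
      rw [map_mul, map_inv, hk, map_pow, inv_mul_cancel]
    rw [map_pow σ, map_pow π, hσa, map_pow σ, map_pow π, hσg,
      (show Commute (π b ^ ja * (π a ^ ia * π c ^ ma)) za' from mem_center_iff.mp hza0 _).mul_pow, hzap',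
      mul_one, ← map_pow π b, ← map_pow π a, ← map_pow π c, ← map_mul π, hpw, map_mul, hpw, map_pow π b,
      ← pow_mul, mul_comm ja p, pow_mul, hbp', one_pow, one_mul, map_pow π a, ← pow_mul, mul_comm ia p,
      pow_mul, ← map_pow π a p, hk, map_pow π c, ← pow_mul (π c) ma p, mul_comm ma p, pow_mul (π c) p ma, ← map_pow π c p,
      ← pow_mul, (show Commute (π e ^ (jc * ia)) (π g ^ (mc * ia)) from
        (mem_center_iff.mp (pow_mem (hcenΦ hgΦ) (mc * ia)) _)).mul_pow,
      ← pow_mul, ← pow_mul, ← map_pow π g, ← map_pow π (c ^ p), ← map_mul, ← map_pow π g,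
      ← map_pow π e, ← map_mul, QuotientGroup.mk'_apply, QuotientGroup.mk'_apply, QuotientGroup.eq] at h1
    have h2 := (mul_mem_cancel_left (inv_mem (mul_mem (pow_mem hgΦ (k * ia))
      (pow_mem (pow_mem_frattiniIn D.pgroup D.hc) ma)))).mp (hΓΦ h1)
    have h3 := dvd_of_pow_mem D.pgroup D.he ((mul_mem_cancel_right (pow_mem hgΦ _)).mp h2)
    exact (hp.out.dvd_mul.mp h3).resolve_left fun h => ((hp.out.dvd_mul.mp h).elim hjc hia)
  exact transv_bottom D H hp5 hsr 𝒜 hW hL hirr hΓΦ hgΓ hK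

/-- When the hyperplane is fixed, `ψ` normalises the cyclic group generated by `σ` modulo inner
automorphisms. -/
theorem TransvData.torus_normalizes [E.Normal] {a b c : T} (D : TransvData p E a b c) {ψ : MulAut T}
    {l l' : ℕ} (H : TorusData p E a b c ψ l l')
    (hψb : (b ^ (l * l))⁻¹ * ψ b ∈ frattini T) (hbp : b ^ p ∈ frattiniIn E)
    (hJ : frattini T = frattiniIn E ⊔ zpowers ⁅b, a⁆)
    (hH : ∀ (τ : MulAut T) (x : T), x ∈ frattiniIn E ⊔ zpowers ⁅b, a⁆ ⊔ zpowers c →
      τ x ∈ frattiniIn E ⊔ zpowers ⁅b, a⁆ ⊔ zpowers c)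
    (A : Subgroup (MulAut T)) (hψA : ψ ∈ A)
    (hstab : ∀ φ ∈ A, (∃ n, φ ^ p ^ n = 1) → E.map φ.toMonoidHom = E → ∃ τ, φ = MulAut.conj τ)
    {σ : MulAut T} (hσA : σ ∈ A) (hσ : ∃ n, σ ^ p ^ n = 1) (hσE : E.map σ.toMonoidHom ≠ E) :
    (∃ τ, ψ * σ * ψ⁻¹ = MulAut.conj τ * σ ^ (l * l * l)) ∧
      b⁻¹ * σ b ∈ frattiniIn E ⊔ zpowers ⁅b, a⁆ ⊔ zpowers c ∧
      c⁻¹ * σ c ∈ frattiniIn E ⊔ zpowers ⁅b, a⁆ ∧
      ∃ s : ℕ, (a * b ^ s)⁻¹ * σ a ∈ frattiniIn E ⊔ zpowers ⁅b, a⁆ ⊔ zpowers c := by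
  set J := frattiniIn E ⊔ zpowers ⁅b, a⁆ with hJdef
  set Hp := J ⊔ zpowers c with hHp
  haveI : Finite (MulAut T) := Finite.of_injective (fun a : MulAut T => (a : T → T))
    DFunLike.coe_injective
  haveI hJn : J.Normal := D.sup_normal le_sup_left le_sup_left
  haveI hHn : Hp.Normal := D.sup_normal (le_sup_left.trans le_sup_left) le_rfl
  haveI hHc : Hp.Characteristic := Subgroup.characteristic_iff_map_le.mpr fun τ => by
    rintro _ ⟨x, hx, rfl⟩; exact hH τ x hx
  have hHE : Hp ≤ E := D.H_le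
  have hJH : J ≤ Hp := le_sup_left
  have hFH : frattini T ≤ Hp := hJ ▸ hJH
  set π := QuotientGroup.mk' Hp with hπ
  have hπ1 : ∀ {x}, x ∈ Hp → π x = 1 := fun {x} hx => (QuotientGroup.eq_one_iff x).mpr hx
  have hexp : ∀ v : T ⧸ Hp, v ^ p = 1 := fun v => by
    obtain ⟨x, rfl⟩ := QuotientGroup.mk'_surjective Hp v
    rw [← map_pow]; exact hπ1 (hFH (Cfsg.Lib.PGroup.pow_mem_frattini D.pgroup x))
  have hc2 : Nat.card (T ⧸ Hp) = p ^ 2 := by
    rw [← index_eq_card]
    refine Nat.eq_of_mul_eq_mul_right (Nat.card_pos (α := Hp)) ?_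
    rw [index_mul_card, D.card_H.1, ← E.index_mul_card, D.index_eq, card_frattiniIn_mul, D.rank_eq]
    ring
  have hcomm : ∀ x y : T ⧸ Hp, x * y = y * x := Plane.comm hc2
  have hco : ∀ t, ∃ i j : ℕ, π t = π b ^ j * π a ^ i := fun t => by
    obtain ⟨i, j, m, h⟩ := D.coords t
    have h1 := hπ1 (hJH h)
    rw [map_mul π, map_inv, inv_mul_eq_one] at h1
    refine ⟨i, j, ?_⟩
    rw [← h1, map_mul, map_mul, map_pow, map_pow, map_pow, hπ1 (mem_sup_right (mem_zpowers c)), one_pow,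
      mul_one]
  have hind : ∀ {i j : ℕ}, π b ^ j * π a ^ i = 1 → p ∣ i ∧ p ∣ j := fun {i j} h => by
    rw [← map_pow, ← map_pow, ← map_mul] at h
    obtain ⟨m, hm⟩ := exists_pow_of_mem_sup J ((QuotientGroup.eq_one_iff _).mp h)
    have h1 : b ^ j * (a ^ i * c ^ (m * (p - 1))) ∈ J := by
      have h2 : c ^ (m * (p - 1)) * c ^ m ∈ J := by
        rw [← pow_add, show m * (p - 1) + m = p * m by
          rw [Nat.mul_sub_one, Nat.sub_add_cancel (Nat.le_mul_of_pos_right _ hp.out.pos), mul_comm],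
          pow_mul]
        exact pow_mem (mem_sup_left (pow_mem_frattiniIn D.pgroup D.hc)) m
      have h3 := (hJn.conj_mem _ hm (c ^ m))
      have h4 := mul_mem h3 h2
      rw [show c ^ m * ((c ^ m)⁻¹ * (b ^ j * a ^ i)) * (c ^ m)⁻¹ * (c ^ (m * (p - 1)) * c ^ m) =
        b ^ j * (a ^ i * c ^ (m * (p - 1))) by
          rw [((Commute.refl c).pow_pow (m * (p - 1)) m).eq]; group] at h4
      exact h4
    exact ⟨(D.coords_dvd hbp h1).1, (D.coords_dvd hbp h1).2.1⟩
  have hEπ : ∀ {t i}, π t = π a ^ i → t ∈ E := fun {t i} ht => by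
    have h1 : (a ^ i)⁻¹ * t ∈ E := hHE ((QuotientGroup.eq_one_iff _).mp (show π ((a ^ i)⁻¹ * t) = 1 by
      rw [map_mul, map_inv, map_pow, ht, inv_mul_cancel]))
    simpa using mul_mem (pow_mem D.ha i) h1
  let Q := quotAut Hp
  have hQ : ∀ (τ : MulAut T) x, π (τ x) = Q τ (π x) := fun τ x => rfl
  have hQψa : Q ψ (π a) = π a ^ l' := by
    have := hπ1 ((le_sup_left.trans le_sup_left : frattiniIn E ≤ Hp) H.hψa)
    rw [map_mul, map_inv, inv_mul_eq_one, map_pow] at this
    exact this.symm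
  have hQψb : Q ψ (π b) = π b ^ (l * l) := by
    have := hπ1 (hFH hψb)
    rw [map_mul, map_inv, inv_mul_eq_one, map_pow] at this
    exact this.symm
  -- a `p`-element fixing `a` modulo the hyperplane acts trivially there
  have hinner : ∀ φ ∈ A, (∃ n, φ ^ p ^ n = 1) → Q φ (π a) = π a → Q φ = 1 := by
    intro φ hφ hφp hfix
    have hE : E.map φ.toMonoidHom = E := by
      refine eq_of_le_of_card_ge ?_ (card_map_of_injective φ.injective).ge
      rw [map_le_iff_le_comap]
      refine le_trans (le_of_eq D.card_H.2.2) (sup_le (fun x hx => hHE (hH φ x hx)) (zpowers_le.mpr ?_))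
      exact hEπ (t := φ a) (i := 1) (by rw [hQ, hfix, pow_one])
    obtain ⟨τ, rfl⟩ := hstab φ hφ hφp hE
    refine MulEquiv.ext fun q => ?_
    obtain ⟨q, rfl⟩ := QuotientGroup.mk'_surjective Hp q
    rw [← hπ, ← hQ, MulAut.conj_apply, map_mul, map_mul, map_inv, hcomm (π τ), mul_inv_cancel_right,
      MulAut.one_apply]
  have hσ1 : Q σ ≠ 1 := by
    intro h
    refine hσE (eq_of_le_of_card_ge ?_ (card_map_of_injective σ.injective).ge)
    rintro _ ⟨v, hv, rfl⟩
    obtain ⟨i, hi⟩ := exists_pow_of_mem_sup Hp (le_of_eq D.card_H.2.2 hv)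
    refine hEπ (i := i) ?_
    show π (σ v) = π a ^ i
    have h1 := hπ1 hi
    rw [map_mul, map_inv, inv_mul_eq_one, map_pow] at h1
    rw [hQ, h, MulAut.one_apply, h1]
  obtain ⟨kσ, hkσ⟩ := hσ
  have hRp : IsPGroup p (zpowers σ) := by
    rintro ⟨x, hx⟩
    obtain ⟨n, rfl⟩ := mem_zpowers_iff.mp hx
    exact ⟨kσ, Subtype.ext (by
      simp only [SubmonoidClass.coe_pow, OneMemClass.coe_one]
      rw [← zpow_natCast, ← zpow_mul, mul_comm, zpow_mul, zpow_natCast, hkσ, one_zpow])⟩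
  obtain ⟨ε, hε, hfix, htriv⟩ := Plane.unipotent hc2 hexp hRp (Q.comp (zpowers σ).subtype)
  obtain ⟨n₀, rfl⟩ := QuotientGroup.mk'_surjective Hp ε
  have hσn : Q σ (π n₀) = π n₀ := hfix ⟨σ, mem_zpowers σ⟩
  have hσv : ∀ v, ∃ i : ℕ, Q σ v = v * π n₀ ^ i := fun v => by
    obtain ⟨i, hi⟩ := mem_powers_iff_mem_zpowers.mpr (htriv ⟨σ, mem_zpowers σ⟩ v)
    exact ⟨i, by rw [hcomm v]; exact (eq_mul_of_mul_inv_eq hi.symm)⟩
  obtain ⟨i₀, j₀, hn₀⟩ := hco n₀
  have hj₀ : ¬ p ∣ j₀ := by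
    intro hj
    rw [pow_prime_mul_eq_one (hexp _) hj, one_mul] at hn₀
    obtain ⟨i, hi⟩ := hσv (π a)
    refine hσ1 (hinner σ hσA ⟨kσ, hkσ⟩ ?_)
    -- the fixed line is the line of `a`
    obtain ⟨t, ht⟩ := Plane.exists_mul_modEq (p := p) (c := i₀) (fun hi0 => hε (by
      rw [hn₀, pow_prime_mul_eq_one (hexp _) hi0])) 1
    have h1 : π a = π n₀ ^ t := by
      rw [hn₀, ← pow_mul, Plane.pow_eq_pow_of_modEq (hexp _) ht, pow_one]
    rw [h1, map_pow, hσn]
  -- the fixed line is that of `b`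
  have hi₀ : p ∣ i₀ := by
    by_contra hi₀
    set y₁ := ψ * σ * ψ⁻¹ with hy₁
    have hy₁A : y₁ ∈ A := mul_mem (mul_mem hψA hσA) (inv_mem hψA)
    set n' := Q ψ (π n₀) with hn'
    have hy₁n' : Q y₁ n' = n' := by
      rw [hy₁, hn', map_mul, map_mul, MulAut.mul_apply, MulAut.mul_apply, map_inv, MulAut.inv_apply,
        MulEquiv.symm_apply_apply, hσn]
    have hy₁v : ∀ v, ∃ i : ℕ, Q y₁ v = v * n' ^ i := fun v => by
      obtain ⟨i, hi⟩ := hσv ((Q ψ)⁻¹ v)
      refine ⟨i, ?_⟩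
      rw [hy₁, map_mul, map_mul, MulAut.mul_apply, MulAut.mul_apply, map_inv, hi, map_mul, map_pow,
        MulAut.inv_apply, MulEquiv.apply_symm_apply]
    have hn'e : n' = π b ^ (l * l * j₀) * π a ^ (l' * i₀) := by
      rw [hn', hn₀, map_mul, map_pow, map_pow, hQψb, hQψa, ← pow_mul, ← pow_mul]
    obtain ⟨r, hr⟩ := hy₁v (π n₀)
    have hL0 : ¬ p ∣ l * l := fun h => by
      have h0 : (l : ZMod p) * l = 0 := by
        rw [← Nat.cast_mul, ZMod.natCast_eq_zero_iff]; exact h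
      have h1 : (l : ZMod p) = 0 := mul_self_eq_zero.mp h0
      exact one_ne_zero (α := ZMod p) (by rw [← H.mul_eq, h1, zero_mul])
    have hindep : ∀ {u v : ℕ}, π n₀ ^ u * n' ^ v = 1 → p ∣ u ∧ p ∣ v := by
      intro u v h
      rw [hn₀, hn'e, (show Commute (π b ^ j₀) (π a ^ i₀) from hcomm _ _).mul_pow,
        (show Commute (π b ^ (l * l * j₀)) (π a ^ (l' * i₀)) from hcomm _ _).mul_pow, ← pow_mul,
        ← pow_mul, ← pow_mul, ← pow_mul, mul_assoc, ← mul_assoc (π a ^ (i₀ * u)),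
        hcomm (π a ^ (i₀ * u)), mul_assoc (π b ^ (l * l * j₀ * v)), ← mul_assoc, ← pow_add, ← pow_add] at h
      obtain ⟨h1, h2⟩ := hind h
      rw [← ZMod.natCast_eq_zero_iff] at h1 h2
      push_cast at h1 h2
      have hj' : (j₀ : ZMod p) ≠ 0 := fun h => hj₀ ((ZMod.natCast_eq_zero_iff _ _).mp h)
      have hi' : (i₀ : ZMod p) ≠ 0 := fun h => hi₀ ((ZMod.natCast_eq_zero_iff _ _).mp h)
      have e1 : (u : ZMod p) + (l : ZMod p) * l * v = 0 :=
        (mul_eq_zero.mp (show (j₀ : ZMod p) * ((u : ZMod p) + (l : ZMod p) * l * v) = 0 by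
          rw [← h2]; ring)).resolve_left hj'
      have e2 : (u : ZMod p) + (l' : ZMod p) * v = 0 :=
        (mul_eq_zero.mp (show (i₀ : ZMod p) * ((u : ZMod p) + (l' : ZMod p) * v) = 0 by
          rw [← h1]; ring)).resolve_left hi'
      have e3 : ((l : ZMod p) * l - l') * v = 0 := by linear_combination e1 - e2
      have hne : (l : ZMod p) * l - l' ≠ 0 := fun h => H.ne_one 3 (by simp) (by
        rw [sub_eq_zero] at h; rw [← H.mul_eq, ← h]; ring)
      have hv := (mul_eq_zero.mp e3).resolve_left hne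
      rw [hv, mul_zero, add_zero] at e2
      exact ⟨(ZMod.natCast_eq_zero_iff _ _).mp e2, (ZMod.natCast_eq_zero_iff _ _).mp hv⟩
    have hpr : ¬ p ∣ r := by
      intro hr0
      rw [pow_prime_mul_eq_one (hexp _) hr0, mul_one] at hr
      have hy1 : Q y₁ = 1 := by
        refine Plane.aut_ext hc2 hexp hε ?_ (by rw [MulAut.one_apply]; exact hr)
          (by rw [MulAut.one_apply]; exact hy₁n')
        intro hmem
        obtain ⟨u, hu⟩ := mem_powers_iff_mem_zpowers.mpr hmem
        have h2 := (hindep (u := u) (v := p - 1) (by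
          rw [show π n₀ ^ u = n' from hu, ← pow_succ', Nat.sub_add_cancel hp.out.one_le, hexp])).2
        have h3 := Nat.le_of_dvd (by have := hp.out.two_le; omega) h2
        have := hp.out.two_le
        omega
      refine hσ1 ?_
      rw [hy₁, map_mul, map_mul, map_inv, mul_inv_eq_one, mul_eq_left] at hy1
      exact hy1
    have hy₁pow : ∀ m : ℕ, Q (y₁ ^ m) (π n₀) = π n₀ * n' ^ (r * m) := by
      intro m
      induction m with
      | zero => simp
      | succ m ih =>
        rw [pow_succ' y₁, map_mul, MulAut.mul_apply, ih, map_mul, map_pow, hr, hy₁n', mul_assoc,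
          ← pow_add, mul_add, mul_one, add_comm]
    -- move the fixed line to that of `a`
    have hL0' : ¬ p ∣ r * (l * l) := fun h => (hp.out.dvd_mul.mp h).elim hpr hL0
    obtain ⟨m, hm⟩ := Plane.exists_mul_modEq hL0' (p - 1)
    set φ := y₁ ^ m * σ * (y₁ ^ m)⁻¹ with hφ
    have hφA : φ ∈ A := mul_mem (mul_mem (pow_mem hy₁A m) hσA) (inv_mem (pow_mem hy₁A m))
    have hφp : ∃ n, φ ^ p ^ n = 1 := ⟨kσ, by rw [hφ, conj_pow, hkσ, mul_one, mul_inv_cancel]⟩
    have hfix' : Q φ (Q (y₁ ^ m) (π n₀)) = Q (y₁ ^ m) (π n₀) := by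
      rw [hφ, map_mul, map_mul, MulAut.mul_apply, MulAut.mul_apply, map_inv, MulAut.inv_apply,
        MulEquiv.symm_apply_apply, hσn]
    have hline : Q (y₁ ^ m) (π n₀) = π a ^ (i₀ + l' * i₀ * (r * m)) := by
      rw [hy₁pow, hn'e, hn₀, (show Commute (π b ^ (l * l * j₀)) (π a ^ (l' * i₀)) from hcomm _ _).mul_pow,
        ← pow_mul, ← pow_mul, mul_assoc, ← mul_assoc (π a ^ i₀), hcomm (π a ^ i₀),
        mul_assoc (π b ^ (l * l * j₀ * (r * m))), ← mul_assoc, ← pow_add, ← pow_add]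
      refine mul_eq_right.mpr (pow_prime_mul_eq_one (hexp _) ?_)
      rw [← ZMod.natCast_eq_zero_iff]
      rw [← ZMod.natCast_eq_natCast_iff] at hm
      push_cast at hm ⊢
      rw [Nat.cast_sub hp.out.one_le, ZMod.natCast_self] at hm
      push_cast at hm
      linear_combination (j₀ : ZMod p) * hm
    have hne : Q (y₁ ^ m) (π n₀) ≠ 1 := fun h => hε ((Q (y₁ ^ m)).injective (by rw [h, map_one]))
    refine hσ1 ?_
    have hφ1 : Q φ = 1 := by
      refine hinner φ hφA hφp ?_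
      rw [hline] at hfix' hne
      obtain ⟨t, ht⟩ := Plane.exists_mul_modEq (p := p) (c := i₀ + l' * i₀ * (r * m))
        (fun h => hne (pow_prime_mul_eq_one (hexp _) h)) 1
      have h1 : π a = (π a ^ (i₀ + l' * i₀ * (r * m))) ^ t := by
        rw [← pow_mul, Plane.pow_eq_pow_of_modEq (hexp _) ht, pow_one]
      conv_lhs => rw [h1, map_pow, hfix', ← h1]
    rw [hφ, map_mul, map_mul, map_inv, mul_inv_eq_one, mul_eq_left] at hφ1
    exact hφ1
  rw [pow_prime_mul_eq_one (hexp _) hi₀, mul_one] at hn₀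
  obtain ⟨tb, htb⟩ := Plane.exists_mul_modEq (p := p) hj₀ 1
  have hbn : π b = π n₀ ^ tb := by
    rw [hn₀, ← pow_mul, Plane.pow_eq_pow_of_modEq (hexp _) htb, pow_one]
  have hσb : Q σ (π b) = π b := by rw [hbn, map_pow, hσn]
  obtain ⟨iₐ, hia⟩ := hσv (π a)
  set s := j₀ * iₐ with hs
  have hσa : Q σ (π a) = π a * π b ^ s := by rw [hia, hn₀, ← pow_mul]
  -- the middle layer
  have hσc : c⁻¹ * σ c ∈ J := by
    haveI : J.Characteristic := hJ ▸ inferInstance
    set q := QuotientGroup.mk' J with hq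
    obtain ⟨m, hm⟩ := exists_pow_of_mem_sup J (hH σ c (mem_sup_right (mem_zpowers c)))
    have hm1 : q (σ c) = q c ^ m := by
      have := (QuotientGroup.eq_one_iff _).mpr hm
      rw [← QuotientGroup.mk'_apply, ← hq, map_mul, map_inv, inv_mul_eq_one, map_pow] at this
      exact this.symm
    have hqp : q c ^ p = 1 := by
      rw [← map_pow]; exact (QuotientGroup.eq_one_iff _).mpr (mem_sup_left (pow_mem_frattiniIn D.pgroup D.hc))
    have hit : ∀ n : ℕ, q ((σ ^ n) c) = q c ^ m ^ n := by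
      intro n
      induction n with
      | zero => simp
      | succ n ih =>
        show q ((σ ^ (n + 1)) c) = _
        rw [pow_succ' σ, MulAut.mul_apply, hq, QuotientGroup.mk'_apply, ← quotAut_mk J σ,
          ← QuotientGroup.mk'_apply, ← hq, ih, map_pow, hq, QuotientGroup.mk'_apply, quotAut_mk,
          ← QuotientGroup.mk'_apply, ← hq, hm1, ← pow_mul, ← pow_succ']
        rfl
    have h1 := hit (p ^ kσ)
    rw [hkσ, MulAut.one_apply] at h1
    have h2 : m ^ p ^ kσ ≡ m [MOD p] := by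
      rw [← ZMod.natCast_eq_natCast_iff, Nat.cast_pow, ZMod.pow_card_pow]
    rw [Plane.pow_eq_pow_of_modEq hqp h2, ← hm1] at h1
    rw [← QuotientGroup.eq_one_iff, ← QuotientGroup.mk'_apply, ← hq, map_mul, map_inv, ← h1,
      inv_mul_cancel]
  refine ⟨?_, ?_, hσc, s, ?_⟩
  · set k := l * l * l with hk
    set y := ψ * σ * ψ⁻¹ * (σ ^ k)⁻¹ with hy
    have hyA : y ∈ A := mul_mem (mul_mem (mul_mem hψA hσA) (inv_mem hψA)) (inv_mem (pow_mem hσA k))
    have hσk : ∀ n : ℕ, Q (σ ^ n) (π a) = π a * π b ^ (s * n) := by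
      intro n
      induction n with
      | zero => simp
      | succ n ih =>
        rw [pow_succ' σ, map_mul, MulAut.mul_apply, ih, map_mul, map_pow, hσa, hσb, mul_assoc,
          ← pow_add, mul_add, mul_one, add_comm]
    have hσkb : ∀ n : ℕ, Q (σ ^ n) (π b) = π b := by
      intro n
      induction n with
      | zero => simp
      | succ n ih => rw [pow_succ' σ, map_mul, MulAut.mul_apply, ih, hσb]
    have hanb : π b ∉ zpowers (π a) := by
      intro hmem
      obtain ⟨u, hu⟩ := mem_powers_iff_mem_zpowers.mpr hmem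
      have hu' : π b ^ 1 * π a ^ (u * (p - 1)) = 1 := by
        rw [pow_one, pow_mul, show π a ^ u = π b from hu, ← pow_succ', Nat.sub_add_cancel hp.out.one_le,
          hexp]
      exact hp.out.ne_one (Nat.dvd_one.mp (hind hu').2)
    have hane : π a ≠ 1 := fun h => hp.out.ne_one (Nat.dvd_one.mp (hind (i := 1) (j := 0) (by
      rw [pow_zero, one_mul, pow_one, h])).1)
    have hyQ : Q y = 1 := by
      have h1 : Q ψ * Q σ = Q (σ ^ k) * Q ψ := by
        refine Plane.aut_ext hc2 hexp hane hanb ?_ ?_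
        · rw [MulAut.mul_apply, MulAut.mul_apply, hσa, map_mul, map_pow, hQψa, hQψb, map_pow, hσk,
            (show Commute (π a) (π b ^ (s * k)) from hcomm _ _).mul_pow, ← pow_mul, ← pow_mul]
          congr 1
          refine Plane.pow_eq_pow_of_modEq (hexp _) ((ZMod.natCast_eq_natCast_iff _ _ _).mp ?_)
          rw [hk]
          push_cast
          linear_combination (-(l : ZMod p) * l * s) * H.mul_eq
        · rw [MulAut.mul_apply, MulAut.mul_apply, hσb, hQψb, map_pow, hσkb]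
      rw [hy, map_mul, map_mul, map_mul, map_inv, map_inv, h1, mul_inv_cancel_right, mul_inv_cancel]
    haveI : J.Characteristic := hJ ▸ inferInstance
    set q := QuotientGroup.mk' J with hq
    have hyc : q (y c) = q c := by
      have hQ' : ∀ (τ : MulAut T) x, q (τ x) = quotAut J τ (q x) := fun τ x => rfl
      have e1 : quotAut J σ (q c) = q c := by
        have := (QuotientGroup.eq_one_iff _).mpr hσc
        rw [← QuotientGroup.mk'_apply, ← hq, map_mul, map_inv, inv_mul_eq_one] at this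
        rw [← hQ', ← this]
      have e2 : quotAut J ψ (q c) = q c := by
        have := (QuotientGroup.eq_one_iff _).mpr (mem_sup_left (T := zpowers ⁅b, a⁆) H.hψc : c⁻¹ * ψ c ∈ J)
        rw [← QuotientGroup.mk'_apply, ← hq, map_mul, map_inv, inv_mul_eq_one] at this
        rw [← hQ', ← this]
      have e1' : ∀ n : ℕ, (quotAut J σ ^ n) (q c) = q c := fun n => by
        induction n with
        | zero => simp
        | succ n ih => rw [pow_succ', MulAut.mul_apply, ih, e1]
      have e2' : (quotAut J ψ)⁻¹ (q c) = q c := by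
        conv_lhs => rw [← e2, MulAut.inv_apply, MulEquiv.symm_apply_apply]
      have e1'' : (quotAut J σ ^ k)⁻¹ (q c) = q c := by
        conv_lhs => rw [← e1' k, MulAut.inv_apply, MulEquiv.symm_apply_apply]
      rw [hQ', hy, map_mul, map_mul, map_mul, map_inv, map_inv, map_pow, MulAut.mul_apply,
        MulAut.mul_apply, MulAut.mul_apply, e1'', e2', e1, e2]
    have hyH : ∀ x, x⁻¹ * y x ∈ Hp := fun x => by
      rw [← QuotientGroup.eq, ← QuotientGroup.mk'_apply, ← QuotientGroup.mk'_apply, ← hπ, hQ, hyQ,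
        MulAut.one_apply]
    have hqH : ∀ x ∈ Hp, q (y x) = q x := by
      intro x hx
      obtain ⟨m, hm⟩ := exists_pow_of_mem_sup J hx
      have e0 : q x = q c ^ m := by
        have := (QuotientGroup.eq_one_iff _).mpr hm
        rw [← QuotientGroup.mk'_apply, ← hq, map_mul, map_inv, inv_mul_eq_one, map_pow] at this
        exact this.symm
      have e3 : q (y x) = quotAut J y (q x) := rfl
      rw [e3, e0, map_pow]
      exact congrArg (· ^ m) hyc
    have hyp : y ^ p ∈ Cfsg.Lib.PGroup.frattiniStab T := by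
      intro x
      have hx0 : ∀ n : ℕ, q ((y ^ n) x) = q x * q (x⁻¹ * y x) ^ n := by
        intro n
        induction n with
        | zero => simp
        | succ n ih =>
          have e3 : ∀ z, q (y z) = quotAut J y (q z) := fun z => rfl
          rw [pow_succ' y, MulAut.mul_apply, e3, ih, map_mul, map_pow, ← e3, ← e3,
            hqH _ (hyH x), pow_succ', ← mul_assoc]
          congr 1
          rw [← map_mul, mul_inv_cancel_left]
      have h1 := hx0 p
      rw [← map_pow, show q ((x⁻¹ * y x) ^ p) = 1 from (QuotientGroup.eq_one_iff _).mpr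
        (mem_sup_left (pow_mem_frattiniIn D.pgroup (hHE (hyH x)))), mul_one] at h1
      rw [hJ]
      exact (QuotientGroup.eq).mp h1.symm
    obtain ⟨n, hn⟩ := (Cfsg.Lib.PGroup.isPGroup_frattiniStab D.pgroup) ⟨_, hyp⟩
    have hyE : E.map y.toMonoidHom = E := by
      refine eq_of_le_of_card_ge ?_ (card_map_of_injective y.injective).ge
      rintro _ ⟨v, hv, rfl⟩
      simpa using mul_mem hv (hHE (hyH v))
    obtain ⟨τ, hτ⟩ := hstab y hyA ⟨n + 1, by
      have := congrArg Subtype.val hn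
      simpa [pow_succ', pow_mul] using this⟩ hyE
    exact ⟨τ, by rw [← hτ, hy, inv_mul_cancel_right]⟩
  · rw [← QuotientGroup.eq, ← QuotientGroup.mk'_apply, ← QuotientGroup.mk'_apply, ← hπ, hQ, hσb]
  · rw [← QuotientGroup.eq, ← QuotientGroup.mk'_apply, ← QuotientGroup.mk'_apply, ← hπ, hQ, hσa,
      map_mul, map_pow]

end Cfsg.Lib.FusionSys.RankThree
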