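import Cfsg.Agent.Lib.FusionSys.RankThreeTools
import Cfsg.Agent.Lib.FusionSys.RankTwoEssential
import Cfsg.Agent.S3781

/-!
# Two-generated groups of sectional rank three with an irreducible action on the Frattini quotient

A two-generated `p`-group, `p ≥ 5`, of sectional rank at most three, with automorphisms acting irreducibly
on the Frattini quotient and one of them inducing a transvection with inner `p`-th power, has order at most
`p ^ 3` or is the group of order `p ^ 5` and class three whose centre has index `p` in its Frattini subgroup.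
-/

set_option linter.style.haveILetI false
set_option autoImplicit false

namespace Cfsg.Lib.FusionSys.RankTwoPearl

open Subgroup
open Cfsg.Lib.FusionSys.RankThree
open scoped commutatorElement

/-- `[H, E] H ^ p`. -/
def descend (p : ℕ) {E : Type*} [Group E] (H : Subgroup E) : Subgroup E :=
  ⁅H, (⊤ : Subgroup E)⁆ ⊔ Cfsg.powerClosure p 1 H

section Descend

variable {p : ℕ} {E : Type*} [Group E]

instance descend_characteristic (H : Subgroup E) [hH : H.Characteristic] :
    (descend p H).Characteristic := by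
  refine Subgroup.characteristic_iff_map_eq.mpr fun α => ?_
  rw [descend, Subgroup.map_sup, map_commutator, map_powerClosure_eq,
    Subgroup.characteristic_iff_map_eq.mp hH α, map_top_of_surjective α.toMonoidHom α.surjective]

theorem comm_mem_descend {H : Subgroup E} {x : E} (hx : x ∈ H) (v : E) : ⁅x, v⁆ ∈ descend p H :=
  mem_sup_left (commutator_mem_commutator hx (mem_top v))

theorem comm_mem_descend' {H : Subgroup E} {x : E} (hx : x ∈ H) (v : E) : ⁅v, x⁆ ∈ descend p H := by
  rw [← commutatorElement_inv]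
  exact inv_mem (comm_mem_descend hx v)

theorem pow_mem_descend {H : Subgroup E} {x : E} (hx : x ∈ H) : x ^ p ∈ descend p H :=
  mem_sup_right (pow_mem_powerClosure p hx)

theorem descend_le_self (H : Subgroup E) [H.Normal] : descend p H ≤ H :=
  sup_le (commutator_le_left _ _) ((closure_le _).mpr (by rintro _ ⟨x, hx, rfl⟩; exact pow_mem hx _))

theorem descend_le {H N : Subgroup E} (hc : ∀ x ∈ H, ∀ v : E, ⁅x, v⁆ ∈ N) (he : ∀ x ∈ H, x ^ p ∈ N) :
    descend p H ≤ N :=
  sup_le (commutator_le.mpr fun x hx v _ => hc x hx v)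
    ((closure_le _).mpr (by rintro _ ⟨x, hx, rfl⟩; rw [pow_one]; exact he x hx))

theorem eq_bot_of_descend [hp : Fact p.Prime] [Finite E] (hE : IsPGroup p E) {H : Subgroup E}
    [H.Characteristic] (h : H ≤ descend p H) : H = ⊥ := by
  have h2 : H ≤ Cfsg.powerClosure p 1 H :=
    Cfsg.Agent.S3781.le_of_sup_commutator hE.isNilpotent (by rwa [sup_comm])
  have h3 : H ≤ (frattini H).map H.subtype := h2.trans ((closure_le _).mpr (by
    rintro _ ⟨x, hx, rfl⟩
    exact ⟨(⟨x, hx⟩ : H) ^ p, Cfsg.Lib.PGroup.pow_mem_frattini (hE.to_subgroup H) _, by simp⟩))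
  have h4 : (⊥ : Subgroup H) ⊔ frattini H = ⊤ := by
    rw [bot_sup_eq, eq_top_iff]
    intro x _
    obtain ⟨y, hy, hyx⟩ := h3 x.2
    exact Subtype.ext hyx ▸ hy
  have h5 := frattini_nongenerating h4
  rw [eq_bot_iff]
  intro x hx
  have h6 : (⟨x, hx⟩ : H) ∈ (⊥ : Subgroup H) := by rw [h5]; exact mem_top _
  rw [Subgroup.mem_bot] at h6 ⊢
  simpa using congrArg (fun z : H => (z : E)) h6

theorem card_sup_zpowers_le [hp : Fact p.Prime] [Finite E] (N : Subgroup E) [N.Normal] {x : E}
    (hx : x ^ p ∈ N) : Nat.card ↥(N ⊔ zpowers x) ≤ p * Nat.card N := by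
  let f : Fin p × N → ↥(N ⊔ zpowers x) := fun z =>
    ⟨x ^ (z.1 : ℕ) * z.2, mul_mem (mem_sup_right (pow_mem (mem_zpowers x) _)) (mem_sup_left z.2.2)⟩
  have hf : Function.Surjective f := by
    rintro ⟨w, hw⟩
    obtain ⟨i, hi⟩ := exists_pow_of_mem_sup N hw
    refine ⟨(⟨i % p, Nat.mod_lt _ hp.out.pos⟩, ⟨(x ^ p) ^ (i / p) * ((x ^ i)⁻¹ * w),
      mul_mem (pow_mem hx _) hi⟩), Subtype.ext ?_⟩
    show x ^ (i % p) * ((x ^ p) ^ (i / p) * ((x ^ i)⁻¹ * w)) = w
    rw [← mul_assoc, ← pow_mul, ← pow_add, Nat.mod_add_div, mul_inv_cancel_left]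
  refine (Nat.card_le_card_of_surjective f hf).trans ?_
  rw [Nat.card_prod, Nat.card_fin]

/-- The powers of `a` conjugate `e` as in a group of class three. -/
theorem comm_pow_left_two {a e c z : E} (hc : ⁅a, e⁆ = c) (hz : ⁅a, c⁆ = z) (hzc : z ∈ center E) :
    ∀ i : ℕ, ⁅a ^ i, e⁆ = z ^ i.choose 2 * c ^ i
  | 0 => by simp
  | i + 1 => by
    have h1 : a * c * a⁻¹ = z * c := by rw [← hz, commutatorElement_def]; group
    have hzz : ∀ j : ℕ, a * z ^ j * a⁻¹ = z ^ j := fun j => by
      rw [(mem_center_iff.mp (pow_mem hzc j) a), mul_inv_cancel_right]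
    rw [pow_succ', commutatorElement_mul_left_eq_conj_mul, comm_pow_left_two hc hz hzc i, hc,
      Nat.choose_succ_succ', Nat.choose_one_right]
    have h2 : a * (z ^ i.choose 2 * c ^ i) * a⁻¹ = z ^ i.choose 2 * (z * c) ^ i := by
      rw [← h1, conj_pow]
      calc a * (z ^ i.choose 2 * c ^ i) * a⁻¹ = (a * z ^ i.choose 2 * a⁻¹) * (a * c ^ i * a⁻¹) := by group
        _ = _ := by rw [hzz]
    rw [h2, (show Commute z c from (mem_center_iff.mp hzc c).symm).mul_pow, ← mul_assoc (z ^ i.choose 2),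
      ← pow_add, add_comm, mul_assoc, pow_succ]

end Descend

variable {p : ℕ} [hp : Fact p.Prime] {E : Type*} [Group E] [Finite E]

/-- A basis adapted to a transvection, and irreducibility. -/
structure Data (p : ℕ) (A : Set (MulAut E)) (U : MulAut E) (a e : E) : Prop where
  hp5 : 5 ≤ p
  hE : IsPGroup p E
  hsr : Cfsg.SectionalPRankLE p 3 E
  hirr : ∀ W : Subgroup E, frattini E ≤ W → (∀ α ∈ A, ∀ v ∈ W, α v ∈ W) → W = frattini E ∨ W = ⊤
  hUp : ∃ y : E, U ^ p = MulAut.conj y
  hUa : U a = a * e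
  he : e ∉ frattini E
  hUe : e⁻¹ * U e ∈ frattini E
  ha : a ∉ frattini E ⊔ zpowers e
  hgen : ∀ v : E, ∃ i j : ℕ, (a ^ i * e ^ j)⁻¹ * v ∈ frattini E

omit hp in
theorem apply_mem {W : Subgroup E} [hW : W.Characteristic] (α : MulAut E) {v : E} (hv : v ∈ W) :
    α v ∈ W := by
  rw [← Subgroup.characteristic_iff_map_eq.mp hW α]
  exact mem_map_of_mem _ hv

omit hp in
theorem apply_mem_iff {W : Subgroup E} [hW : W.Characteristic] (α : MulAut E) {v : E} :
    α v ∈ W ↔ v ∈ W :=
  ⟨fun h => by simpa using apply_mem (W := W) α⁻¹ h, apply_mem α⟩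

namespace Data

variable {A : Set (MulAut E)} {U : MulAut E} {a e : E} (D : Data p A U a e)
include D

omit hp in
theorem ha' : a ∉ frattini E := fun h => D.ha (mem_sup_left h)

omit hp in
theorem closure_eq {W : Subgroup E} (hΦ : frattini E ≤ W) (h1 : a ∈ W) (h2 : e ∈ W) : W = ⊤ := by
  refine eq_top_iff.mpr fun v _ => ?_
  obtain ⟨i, j, hij⟩ := D.hgen v
  rw [← mul_inv_cancel_left (a ^ i * e ^ j) v]
  exact mul_mem (mul_mem (pow_mem h1 i) (pow_mem h2 j)) (hΦ hij)

theorem index_le : (frattini E).index ≤ p ^ 2 := by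
  let f : Fin p × Fin p → E ⧸ frattini E := fun z => ((a ^ (z.1 : ℕ) * e ^ (z.2 : ℕ) : E) : E ⧸ frattini E)
  have hf : Function.Surjective f := by
    intro q
    obtain ⟨v, rfl⟩ := QuotientGroup.mk_surjective q
    obtain ⟨i, j, hij⟩ := D.hgen v
    refine ⟨(⟨i % p, Nat.mod_lt _ hp.out.pos⟩, ⟨j % p, Nat.mod_lt _ hp.out.pos⟩), ?_⟩
    have hred : ∀ (x : E) (r : ℕ), ((x ^ (r % p) : E) : E ⧸ frattini E) = (x ^ r : E) := fun x r => by
      rw [QuotientGroup.mk_pow, QuotientGroup.mk_pow]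
      refine Plane.pow_eq_pow_of_modEq ?_ (Nat.mod_modEq r p)
      rw [← QuotientGroup.mk_pow]
      exact (QuotientGroup.eq_one_iff _).mpr (Cfsg.Lib.PGroup.pow_mem_frattini D.hE x)
    show ((a ^ (i % p) * e ^ (j % p) : E) : E ⧸ frattini E) = _
    rw [QuotientGroup.mk_mul, hred, hred, ← QuotientGroup.mk_mul]
    exact (QuotientGroup.eq).mpr hij
  refine (Nat.card_le_card_of_surjective f hf).trans (le_of_eq ?_)
  rw [Nat.card_prod, Nat.card_fin, sq]

/-- Step A: `p`-th powers lie in `E' [Φ, E] Φ ^ p`. -/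
theorem powp_mem (v : E) : v ^ p ∈ commutator E ⊔ descend p (frattini E) := by
  set M := commutator E ⊔ descend p (frattini E) with hM
  haveI hMc : M.Characteristic := by
    refine Subgroup.characteristic_iff_map_eq.mpr fun α => ?_
    rw [hM, Subgroup.map_sup, Subgroup.characteristic_iff_map_eq.mp inferInstance α,
      Subgroup.characteristic_iff_map_eq.mp inferInstance α]
  let π := QuotientGroup.mk' M
  have hab : ∀ x y : E ⧸ M, x * y = y * x := by
    intro x y
    obtain ⟨x, rfl⟩ := QuotientGroup.mk'_surjective M x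
    obtain ⟨y, rfl⟩ := QuotientGroup.mk'_surjective M y
    rw [← commutatorElement_eq_one_iff_mul_comm, ← map_commutatorElement]
    exact (QuotientGroup.eq_one_iff _).mpr
      (mem_sup_left (commutator_mem_commutator (mem_top x) (mem_top y)))
  letI : CommGroup (E ⧸ M) := { (inferInstance : Group (E ⧸ M)) with mul_comm := hab }
  let f : E →* E ⧸ M := (powMonoidHom p).comp π
  have hf : ∀ x, f x = (π x) ^ p := fun x => rfl
  have hker : ∀ x, x ∈ f.ker ↔ x ^ p ∈ M := fun x => by
    rw [MonoidHom.mem_ker, hf, ← map_pow]; exact QuotientGroup.eq_one_iff _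
  have hΦK : frattini E ≤ f.ker := fun x hx => (hker x).mpr (mem_sup_right (pow_mem_descend hx))
  rcases D.hirr f.ker hΦK (fun α _ x hx => (hker _).mpr (by
      rw [← map_pow]; exact apply_mem α ((hker x).mp hx))) with hK | hK
  swap
  · exact (hker v).mp (hK ▸ mem_top v)
  exfalso
  obtain ⟨y, hy⟩ := D.hUp
  set Y := e⁻¹ * U e with hY
  -- the Frattini subgroup consists of `p`-th powers modulo `M`
  have hΦP : frattini E ≤ f.range.comap π := by
    refine frattini_le_of D.hE (fun v w => ?_) fun v => ⟨v, by rw [hf, map_pow]⟩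
    show π ⁅v, w⁆ ∈ f.range
    rw [map_commutatorElement, commutatorElement_eq_one_iff_mul_comm.mpr (hab _ _)]
    exact one_mem _
  obtain ⟨m, hm⟩ := hΦP D.hUe
  rw [hf] at hm
  have hdd : ∀ w : E, (w⁻¹ * U w)⁻¹ * U (w⁻¹ * U w) ∈ frattini E := by
    intro w
    obtain ⟨i, j, hij⟩ := D.hgen w
    let q := QuotientGroup.mk' (frattini E)
    have hq : ∀ x, q (U x) = quotAut (frattini E) U (q x) := fun x => rfl
    have hqc : ∀ x y : E ⧸ frattini E, x * y = y * x := by
      intro x y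
      obtain ⟨x, rfl⟩ := QuotientGroup.mk'_surjective _ x
      obtain ⟨y, rfl⟩ := QuotientGroup.mk'_surjective _ y
      rw [← commutatorElement_eq_one_iff_mul_comm, ← map_commutatorElement]
      exact (QuotientGroup.eq_one_iff _).mpr (comm_mem_frattini D.hE x y)
    have he1 : q (U e) = q e := ((QuotientGroup.eq).mpr D.hUe).symm
    have hw : q w = q a ^ i * q e ^ j := by
      rw [← map_pow, ← map_pow, ← map_mul]; exact ((QuotientGroup.eq).mpr hij).symm
    rw [← QuotientGroup.eq_one_iff]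
    show q ((w⁻¹ * U w)⁻¹ * U (w⁻¹ * U w)) = 1
    have hUw : q (U w) = q w * q e ^ i := by
      rw [hq, hw, map_mul, map_pow, map_pow, ← hq, ← hq, D.hUa, he1, map_mul,
        (show Commute (q a) (q e) from hqc _ _).mul_pow, mul_assoc, mul_assoc, hqc (q e ^ i)]
    have hUd : q (w⁻¹ * U w) = q e ^ i := by rw [map_mul, map_inv, hUw, inv_mul_cancel_left]
    rw [map_mul, map_inv, hUd, hq, hUd, map_pow, ← hq, he1, inv_mul_cancel]
  set Ub := quotAut M U with hUb
  have hUπ : ∀ x, π (U x) = Ub (π x) := fun x => rfl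
  set Z := (m⁻¹ * U m) ^ p with hZ
  have h1 : Ub (π a) = π a * π e := by rw [← hUπ, D.hUa, map_mul]
  have h2 : Ub (π e) = π e * π Y := by rw [← hUπ, ← map_mul, mul_inv_cancel_left]
  have h3 : Ub (π Y) = π Y * π Z := by
    rw [← hm, map_pow Ub, ← hUπ, hZ, map_pow π, map_mul, map_inv, ← mul_pow, mul_inv_cancel_left]
  have h4 : Ub (π Z) = π Z := by
    rw [← hUπ, hZ, map_pow U, map_pow π, map_pow π]
    have h : ((m⁻¹ * U m)⁻¹ * U (m⁻¹ * U m)) ^ p ∈ M := mem_sup_right (pow_mem_descend (hdd m))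
    rw [← QuotientGroup.eq_one_iff] at h
    have h' : π (((m⁻¹ * U m)⁻¹ * U (m⁻¹ * U m)) ^ p) = 1 := h
    rw [map_pow, map_mul, map_inv, mul_pow, inv_pow, inv_mul_eq_one] at h'
    exact h'.symm
  have hit := RankTwo.iterate_three hab Ub h1 h2 h3 h4 p
  have hp5 := D.hp5
  have hYp : π Y ^ p = 1 := by
    rw [← map_pow]
    exact (QuotientGroup.eq_one_iff _).mpr (mem_sup_right (pow_mem_descend D.hUe))
  have hZp : π Z ^ p = 1 := by
    rw [← map_pow]
    refine (QuotientGroup.eq_one_iff _).mpr (mem_sup_right (pow_mem_descend ?_))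
    exact Cfsg.Lib.PGroup.pow_mem_frattini D.hE _
  rw [pow_prime_mul_eq_one hYp (hp.out.dvd_choose_self two_ne_zero (by omega)),
    pow_prime_mul_eq_one hZp (hp.out.dvd_choose_self three_ne_zero (by omega)), mul_one, mul_one] at hit
  have hfix : (Ub ^ p) (π a) = π a := by
    rw [hUb, ← map_pow (quotAut M), hy]
    show π (y * a * y⁻¹) = π a
    rw [map_mul, map_mul, hab (π y), map_inv, mul_inv_cancel_right]
  rw [hfix, eq_comm, mul_eq_left, ← hf] at hit
  exact D.he (hK ▸ (MonoidHom.mem_ker.mpr hit))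

omit hp in
theorem quot_comm {N : Subgroup E} [N.Normal] (q : E →* E ⧸ N) (hq : q = QuotientGroup.mk' N)
    {H : Subgroup E} (h : ∀ x ∈ H, ∀ v : E, ⁅x, v⁆ ∈ N) {x : E} (hx : x ∈ H) :
    q x ∈ center (E ⧸ N) := by
  subst hq
  refine mem_center_iff.mpr fun w => ?_
  obtain ⟨w, rfl⟩ := QuotientGroup.mk'_surjective N w
  rw [eq_comm, ← commutatorElement_eq_one_iff_mul_comm, ← map_commutatorElement]
  exact (QuotientGroup.eq_one_iff _).mpr (h x hx w)

/-- Step B: the Frattini subgroup is `⟨c⟩[Φ, E]Φ^p` and `p`-th powers lie in `[Φ, E]Φ^p`. -/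
theorem frattini_eq :
    frattini E = descend p (frattini E) ⊔ zpowers ⁅a, e⁆ ∧ (∀ v, v ^ p ∈ descend p (frattini E)) ∧
      ⁅a, e⁆⁻¹ * U ⁅a, e⁆ ∈ descend p (frattini E) := by
  set N := descend p (frattini E) with hN
  set c := ⁅a, e⁆ with hc
  let π := QuotientGroup.mk' N
  have hΦc : ∀ x ∈ frattini E, π x ∈ center (E ⧸ N) := fun x hx =>
    D.quot_comm π rfl (fun x hx v => comm_mem_descend hx v) hx
  have hΦp : ∀ x ∈ frattini E, π x ^ p = 1 := fun x hx => by
    rw [← map_pow]; exact (QuotientGroup.eq_one_iff _).mpr (pow_mem_descend hx)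
  have hcΦ : c ∈ frattini E := comm_mem_frattini D.hE a e
  have hNΦ : N ≤ frattini E := descend_le_self _
  have hcomm : ∀ v w : E, ⁅π v, π w⁆ ∈ center (E ⧸ N) := fun v w => by
    rw [← map_commutatorElement]; exact hΦc _ (comm_mem_frattini D.hE v w)
  -- all commutators
  have hcK : ∀ v w : E, ⁅v, w⁆ ∈ N ⊔ zpowers c := by
    intro v w
    obtain ⟨i, j, hv⟩ := D.hgen v
    obtain ⟨k, l, hw⟩ := D.hgen w
    have hv' : π v = π a ^ i * π e ^ j * π ((a ^ i * e ^ j)⁻¹ * v) := by
      rw [← map_pow, ← map_pow, ← map_mul, ← map_mul, mul_inv_cancel_left]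
    have hw' : π w = π a ^ k * π e ^ l * π ((a ^ k * e ^ l)⁻¹ * w) := by
      rw [← map_pow, ← map_pow, ← map_mul, ← map_mul, mul_inv_cancel_left]
    have hce : ⁅π a, π e⁆ = π c := (map_commutatorElement π a e).symm
    have hmem : π ⁅v, w⁆ ∈ zpowers (π c) := by
      rw [map_commutatorElement π v w, hv', hw', comm_mul_central_left (hΦc _ hv),
        comm_mul_central_right (hΦc _ hw), ← map_pow, ← map_pow, ← map_pow, ← map_pow,
        comm_mul_left_central (c := π (a ^ k) * π (e ^ l)) (by rw [← map_mul]; exact hcomm _ _),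
        comm_mul_right_central (hcomm _ _), comm_mul_right_central (hcomm _ _), map_pow, map_pow, map_pow, map_pow]
      have hz : ∀ x y : E, Commute (π x) ⁅π x, π y⁆ ∧ Commute (π y) ⁅π x, π y⁆ := fun x y =>
        ⟨mem_center_iff.mp (hcomm x y) _, mem_center_iff.mp (hcomm x y) _⟩
      have hpp : ∀ (x y : E) (r s : ℕ), ⁅π x ^ r, π y ^ s⁆ = ⁅π x, π y⁆ ^ (r * s) := by
        intro x y r s
        rw [← map_pow π y, comm_pow_left (hz x (y ^ s)).1, map_pow,
          comm_pow_right (hz x y).2, ← pow_mul, mul_comm s]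
      rw [hpp, hpp, hpp, hpp, commutatorElement_self, commutatorElement_self, one_pow, one_pow,
        mul_one, one_mul, hce, ← commutatorElement_inv, hce]
      exact mul_mem (pow_mem (mem_zpowers _) _) (pow_mem (inv_mem (mem_zpowers _)) _)
    rw [← MonoidHom.map_zpowers] at hmem
    have : ⁅v, w⁆ ∈ ((zpowers c).map π).comap π := hmem
    rwa [comap_map_eq, QuotientGroup.ker_mk', sup_comm] at this
  haveI : (N ⊔ zpowers c).Normal := ⟨fun x hx g => by
    have hx' : π (g * x * g⁻¹) = π x := by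
      have hxΦ : x ∈ frattini E := sup_le hNΦ (zpowers_le.mpr hcΦ) hx
      rw [map_mul, map_mul, mem_center_iff.mp (hΦc x hxΦ), map_inv, mul_inv_cancel_right]
    have h1 : x⁻¹ * (g * x * g⁻¹) ∈ N := (QuotientGroup.eq).mp hx'.symm
    rw [← mul_inv_cancel_left x (g * x * g⁻¹)]
    exact mul_mem hx (mem_sup_left h1)⟩
  have hMK : commutator E ⊔ N ≤ N ⊔ zpowers c :=
    sup_le (commutator_le.mpr fun v _ w _ => hcK v w) le_sup_left
  have hΦeq : frattini E = N ⊔ zpowers c :=
    le_antisymm (frattini_le_of D.hE hcK fun v => hMK (D.powp_mem v))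
      (sup_le hNΦ (zpowers_le.mpr hcΦ))
  have hp2 : p ≠ 2 := by have := D.hp5; omega
  have hhom : ∀ v w, π (v * w) ^ p = π v ^ p * π w ^ p := fun v w => by
    rw [map_mul]
    refine mul_pow_prime hp2 (mem_center_iff.mp (hcomm w v) _) (mem_center_iff.mp (hcomm w v) _) ?_
    rw [← map_commutatorElement]
    exact hΦp _ (comm_mem_frattini D.hE w v)
  let K : Subgroup E :=
    { carrier := {v | π v ^ p = 1}
      one_mem' := by simp
      mul_mem' := fun {v w} hv hw => by
        show π (v * w) ^ p = 1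
        rw [hhom, show π v ^ p = 1 from hv, show π w ^ p = 1 from hw, one_mul]
      inv_mem' := fun {v} hv => by
        show π v⁻¹ ^ p = 1
        rw [map_inv, inv_pow, show π v ^ p = 1 from hv, inv_one] }
  have hKmem : ∀ v, v ∈ K ↔ v ^ p ∈ N := fun v => by
    show π v ^ p = 1 ↔ _
    rw [← map_pow]; exact QuotientGroup.eq_one_iff _
  refine ⟨hΦeq, ?_, ?_⟩
  · rcases D.hirr K (fun x hx => hΦp x hx)
      (fun α _ v hv => (hKmem _).mpr (by rw [← map_pow]; exact apply_mem α ((hKmem v).mp hv))) with hK | hK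
    swap
    · exact fun v => (hKmem v).mp (hK ▸ mem_top v)
    exfalso
    have hcoord : ∀ v : E, ∃ i : ℕ, π v ^ p = π c ^ i := fun v => by
      have h1 : v ^ p ∈ N ⊔ zpowers c := hΦeq ▸ Cfsg.Lib.PGroup.pow_mem_frattini D.hE v
      obtain ⟨i, hi⟩ := exists_pow_of_mem_sup N h1
      exact ⟨i, by rw [← map_pow, ← map_pow]; exact ((QuotientGroup.eq).mpr hi).symm⟩
    obtain ⟨i, hi⟩ := hcoord a
    obtain ⟨j, hj⟩ := hcoord e
    by_cases hpi : p ∣ i
    · refine D.ha' (hK ▸ ?_)
      show π a ^ p = 1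
      rw [hi]
      exact pow_prime_mul_eq_one (hΦp c hcΦ) hpi
    obtain ⟨m, hm⟩ := Plane.exists_mul_modEq hpi j
    have he' : (a ^ m)⁻¹ * e ∈ frattini E := by
      refine hK ▸ (show π ((a ^ m)⁻¹ * e) ^ p = 1 from ?_)
      rw [hhom, map_inv, map_pow, inv_pow, ← pow_mul, mul_comm m, pow_mul, hi, hj, ← pow_mul,
        Plane.pow_eq_pow_of_modEq (hΦp c hcΦ) hm, inv_mul_cancel]
    by_cases hpm : p ∣ m
    · obtain ⟨m', rfl⟩ := hpm
      refine D.he ?_
      have := mul_mem (pow_mem (Cfsg.Lib.PGroup.pow_mem_frattini D.hE a) m') he'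
      rwa [← pow_mul, mul_inv_cancel_left] at this
    · obtain ⟨k, hk⟩ := D.hE a
      refine D.ha (Plane.mem_of_pow_mem hk hpm ?_)
      have h1 : a ^ m = e * ((a ^ m)⁻¹ * e)⁻¹ := by group
      rw [h1]
      exact mul_mem (mem_sup_right (mem_zpowers e)) (inv_mem (mem_sup_left he'))
  · refine (QuotientGroup.eq).mp ?_
    show π c = π (U c)
    rw [hc, map_commutatorElement U, D.hUa, map_commutatorElement π, map_commutatorElement π, map_mul,
      show π (U e) = π e * π (e⁻¹ * U e) by rw [← map_mul, mul_inv_cancel_left],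
      comm_mul_central_right (hΦc _ D.hUe), comm_mul_left_central (hcomm e e),
      commutatorElement_self, mul_one]

omit hp in
theorem normal_of_between_descend {H K : Subgroup E} (h1 : descend p H ≤ K) (h2 : K ≤ H) : K.Normal := by
  refine ⟨fun x hx g => ?_⟩
  have h : x⁻¹ * (g * x * g⁻¹) = ⁅x⁻¹, g⁆ := by rw [commutatorElement_def]; group
  rw [← mul_inv_cancel_left x (g * x * g⁻¹), h]
  exact mul_mem hx (h1 (comm_mem_descend (h2 (inv_mem hx)) g))

/-- Step C: either the order is at most `p ^ 3`, or commutation with `c` identifies `E / Φ(E)` with the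
next layer. -/
theorem layer_two (hcN : ⁅a, e⁆ ∉ descend p (frattini E)) :
    Nat.card E ≤ p ^ 3 ∨
      ⁅a, e⁆ ^ p ∈ descend p (descend p (frattini E)) ∧
      (∀ v, ⁅⁅a, e⁆, v⁆ ∈ descend p (descend p (frattini E)) → v ∈ frattini E) ∧
      descend p (frattini E) = descend p (descend p (frattini E)) ⊔
        zpowers ⁅⁅a, e⁆, a⁆ ⊔ zpowers ⁅⁅a, e⁆, e⁆ ∧
      p * (p * Nat.card ↥(descend p (descend p (frattini E)))) ≤ Nat.card ↥(descend p (frattini E)) := by
  obtain ⟨hΦ, hpow, -⟩ := D.frattini_eq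
  set N := descend p (frattini E) with hN
  set M := descend p N with hM
  set c := ⁅a, e⁆ with hc
  let π := QuotientGroup.mk' M
  have hp5 := D.hp5
  have hcΦ : c ∈ frattini E := comm_mem_frattini D.hE a e
  have hNc : ∀ x ∈ N, π x ∈ center (E ⧸ M) := fun x hx =>
    D.quot_comm π rfl (fun x hx v => comm_mem_descend hx v) hx
  have hNp : ∀ x ∈ N, π x ^ p = 1 := fun x hx => by
    rw [← map_pow]; exact (QuotientGroup.eq_one_iff _).mpr (pow_mem_descend hx)
  have hcp : π c ^ p = 1 := by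
    have h1 := comm_pow_left_two (a := π a) (e := π e) (c := π c) (z := π ⁅a, c⁆)
      (map_commutatorElement π a e).symm (map_commutatorElement π a c).symm
      (hNc _ (comm_mem_descend' hcΦ a)) p
    rw [← map_pow π a, commutatorElement_eq_one_iff_mul_comm.mpr
      (mem_center_iff.mp (hNc _ (hpow a)) (π e)).symm,
      pow_prime_mul_eq_one (hNp _ (comm_mem_descend' hcΦ a))
        (hp.out.dvd_choose_self two_ne_zero (by omega)), one_mul] at h1
    exact h1.symm
  have hcx : ∀ v : E, ⁅π c, π v⁆ ∈ center (E ⧸ M) := fun v => by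
    rw [← map_commutatorElement]; exact hNc _ (comm_mem_descend hcΦ v)
  have hcoord : ∀ x ∈ frattini E, ∃ i : ℕ, ∃ n ∈ N, x = c ^ i * n := fun x hx => by
    obtain ⟨i, hi⟩ := exists_pow_of_mem_sup N (show x ∈ N ⊔ zpowers c from hΦ ▸ hx)
    exact ⟨i, _, hi, (mul_inv_cancel_left _ _).symm⟩
  let ψ : E →* E ⧸ M :=
    { toFun := fun v => ⁅π c, π v⁆
      map_one' := by simp
      map_mul' := fun v w => by rw [map_mul, comm_mul_right_central (hcx w)] }
  have hψ : ∀ v, ψ v = π ⁅c, v⁆ := fun v => (map_commutatorElement π c v).symm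
  have hψ' : ∀ v, v ∈ ψ.ker ↔ ⁅c, v⁆ ∈ M := fun v => by
    rw [MonoidHom.mem_ker, hψ]; exact QuotientGroup.eq_one_iff _
  have hψΦ : frattini E ≤ ψ.ker := fun x hx => by
    obtain ⟨i, n, hn, rfl⟩ := hcoord x hx
    show ⁅π c, π (c ^ i * n)⁆ = 1
    rw [map_mul, comm_mul_central_right (hNc n hn), map_pow, commutatorElement_eq_one_iff_commute]
    exact Commute.self_pow _ _
  have hψp : ∀ v, ψ v ^ p = 1 := fun v => by rw [hψ]; exact hNp _ (comm_mem_descend hcΦ v)
  set K := M ⊔ zpowers ⁅c, a⁆ ⊔ zpowers ⁅c, e⁆ with hK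
  have hMN : M ≤ N := descend_le_self _
  have hKN : K ≤ N := sup_le (sup_le hMN (zpowers_le.mpr (comm_mem_descend hcΦ a)))
    (zpowers_le.mpr (comm_mem_descend hcΦ e))
  haveI : K.Normal := D.normal_of_between_descend (le_sup_left.trans le_sup_left) hKN
  have hψK : ∀ v, ⁅c, v⁆ ∈ K := fun v => by
    have hW : ∀ {x}, π x ∈ K.map π → x ∈ K := fun {x} hx => by
      have : x ∈ (K.map π).comap π := hx
      rwa [comap_map_eq, QuotientGroup.ker_mk', sup_eq_left.mpr (le_sup_left.trans le_sup_left)] at this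
    refine hW ?_
    rw [← hψ]
    have htop := D.closure_eq (W := (K.map π).comap ψ)
      (fun x hx => by show ψ x ∈ K.map π; rw [MonoidHom.mem_ker.mp (hψΦ hx)]; exact one_mem _)
      (by show ψ a ∈ K.map π; rw [hψ]; exact mem_map_of_mem _ (mem_sup_left (mem_sup_right (mem_zpowers _))))
      (by show ψ e ∈ K.map π; rw [hψ]; exact mem_map_of_mem _ (mem_sup_right (mem_zpowers _)))
    exact (htop ▸ mem_top v : v ∈ (K.map π).comap ψ)
  have hNK : N ≤ K := by
    have hMK : M ≤ K := le_sup_left.trans le_sup_left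
    refine descend_le (fun x hx v => ?_) (fun x hx => ?_)
    · obtain ⟨i, n, hn, rfl⟩ := hcoord x hx
      rw [commutatorElement_mul_left_eq_conj_mul]
      refine mul_mem (Normal.conj_mem inferInstance _ (hMK (comm_mem_descend hn v)) _) ?_
      have h : π ⁅c ^ i, v⁆ = π (⁅c, v⁆ ^ i) := by
        rw [map_commutatorElement π (c ^ i) v, map_pow, map_pow, comm_pow_left (mem_center_iff.mp (hcx v) _),
          map_commutatorElement π c v]
      have h' : (⁅c, v⁆ ^ i)⁻¹ * ⁅c ^ i, v⁆ ∈ M := (QuotientGroup.eq).mp h.symm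
      rw [← mul_inv_cancel_left (⁅c, v⁆ ^ i) ⁅c ^ i, v⁆]
      exact mul_mem (pow_mem (hψK v) i) (hMK h')
    · obtain ⟨i, n, hn, rfl⟩ := hcoord x hx
      refine hMK ((QuotientGroup.eq_one_iff _).mp ?_)
      show π ((c ^ i * n) ^ p) = 1
      rw [map_pow, map_mul,
        (show Commute (π (c ^ i)) (π n) from mem_center_iff.mp (hNc n hn) _).mul_pow, hNp n hn,
        map_pow, pow_right_comm, hcp, one_pow, one_mul]
  have hcN2 : ∀ α : MulAut E, ∃ m : ℕ, ¬ p ∣ m ∧ ∃ n ∈ N, α c = c ^ m * n := fun α => by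
    obtain ⟨m, n, hn, hm⟩ := hcoord (α c) (apply_mem α hcΦ)
    refine ⟨m, fun h => ?_, n, hn, hm⟩
    obtain ⟨m', rfl⟩ := h
    refine hcN ((apply_mem_iff α).mp (hm ▸ mul_mem ?_ hn))
    rw [pow_mul]
    exact pow_mem (pow_mem_descend hcΦ) m'
  rcases D.hirr ψ.ker hψΦ (fun α _ v hv => by
      obtain ⟨m, hm, n, hn, hαc⟩ := hcN2 α
      have h1 : π (α ⁅c, v⁆) = 1 := (QuotientGroup.eq_one_iff _).mpr (apply_mem α ((hψ' v).mp hv))
      rw [map_commutatorElement α, map_commutatorElement π, hαc, map_mul,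
        comm_mul_central_left (hNc n hn), map_pow, comm_pow_left (mem_center_iff.mp (hcx _) _)] at h1
      obtain ⟨k, hk⟩ : ∃ k, (ψ (α v)) ^ p ^ k = 1 := ⟨1, by rw [pow_one]; exact hψp _⟩
      exact MonoidHom.mem_ker.mpr (Subgroup.mem_bot.mp (Plane.mem_of_pow_mem (H := (⊥ : Subgroup (E ⧸ M)))
        hk hm (Subgroup.mem_bot.mpr h1)))) with hker | hker
  · refine Or.inr ⟨(QuotientGroup.eq_one_iff _).mp (show π (c ^ p) = 1 by rw [map_pow, hcp]),
      fun v hv => hker ▸ (hψ' v).mpr hv, le_antisymm hNK hKN, ?_⟩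
    have h1 : ⁅c, a⁆ ∉ M := fun h => D.ha' (hker ▸ (hψ' a).mpr h)
    have h2 : ⁅c, e⁆ ∉ M ⊔ zpowers ⁅c, a⁆ := fun h => by
      obtain ⟨i, hi⟩ := exists_pow_of_mem_sup M h
      have h' : (a ^ i)⁻¹ * e ∈ frattini E := hker ▸ (show (a ^ i)⁻¹ * e ∈ ψ.ker by
        rw [MonoidHom.mem_ker, map_mul, map_inv, map_pow, hψ, hψ, ← map_pow, ← map_inv, ← map_mul]
        exact (QuotientGroup.eq_one_iff _).mpr hi)
      by_cases hpi : p ∣ i
      · obtain ⟨m', rfl⟩ := hpi
        refine D.he ?_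
        have := mul_mem (pow_mem (Cfsg.Lib.PGroup.pow_mem_frattini D.hE a) m') h'
        rwa [← pow_mul, mul_inv_cancel_left] at this
      · obtain ⟨k, hk⟩ := D.hE a
        refine D.ha (Plane.mem_of_pow_mem hk hpi ?_)
        have h1 : a ^ i = e * ((a ^ i)⁻¹ * e)⁻¹ := by group
        rw [h1]
        exact mul_mem (mem_sup_right (mem_zpowers e)) (inv_mem (mem_sup_left h'))
    refine le_trans (Nat.mul_le_mul_left _ (card_lt_sup_zpowers D.hE M h1)) ?_
    exact (card_lt_sup_zpowers D.hE _ h2).trans (card_le_of_le hKN)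
  · refine Or.inl ?_
    have hall : ∀ v, ⁅c, v⁆ ∈ M := fun v => (hψ' v).mp (hker ▸ mem_top v)
    have hbot : N = ⊥ := eq_bot_of_descend D.hE (hNK.trans
      (sup_le (sup_le le_rfl (zpowers_le.mpr (hall a))) (zpowers_le.mpr (hall e))))
    have h1 : c ^ p ∈ (⊥ : Subgroup E) := hbot ▸ pow_mem_descend hcΦ
    have h2 := card_sup_zpowers_le (⊥ : Subgroup E) h1
    rw [hbot] at hΦ
    rw [← hΦ, card_bot, mul_one] at h2
    have h3 := (frattini E).index_mul_card
    have h4 : (frattini E).index ≤ p ^ 2 := D.index_le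
    calc Nat.card E = (frattini E).index * Nat.card (frattini E) := h3.symm
      _ ≤ p ^ 2 * p := Nat.mul_le_mul h4 h2
      _ = p ^ 3 := by ring

/-- Step D: the class is at most three and the third layer is central. -/
theorem small_or_exceptional :
    Nat.card E ≤ p ^ 3 ∨ ∃ c ∈ frattini E, frattini E = center E ⊔ zpowers c ∧ c ∉ center E ∧
      c ^ p ∈ center E ∧ (∀ v, ⁅c, v⁆ ∈ center E) ∧ ∀ v, ⁅c, v⁆ = 1 → v ∈ frattini E := by
  obtain ⟨hΦ, hpow, hUc⟩ := D.frattini_eq
  by_cases hcN : ⁅a, e⁆ ∈ descend p (frattini E)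
  · left
    have hbot : frattini E = ⊥ := eq_bot_of_descend D.hE
      ((le_of_eq hΦ).trans (sup_le le_rfl (zpowers_le.mpr hcN)))
    have h3 := (frattini E).index_mul_card
    have h4 : Nat.card (frattini E) = 1 := by rw [hbot, card_bot]
    rw [h4, mul_one] at h3
    rw [← h3]
    exact D.index_le.trans (Nat.pow_le_pow_right hp.out.pos (by norm_num))
  rcases D.layer_two hcN with h | ⟨hcp, hcinj, hNeq, hNcard⟩
  · exact Or.inl h
  right
  set N := descend p (frattini E) with hN
  set M := descend p N with hM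
  set L := descend p M with hL
  set c := ⁅a, e⁆ with hc
  let π := QuotientGroup.mk' L
  have hp5 := D.hp5
  have hp2 : p ≠ 2 := by omega
  have hcΦ : c ∈ frattini E := comm_mem_frattini D.hE a e
  have hMc : ∀ x ∈ M, π x ∈ center (E ⧸ L) := fun x hx =>
    D.quot_comm π rfl (fun x hx v => comm_mem_descend hx v) hx
  have hMp : ∀ x ∈ M, π x ^ p = 1 := fun x hx => by
    rw [← map_pow]; exact (QuotientGroup.eq_one_iff _).mpr (pow_mem_descend hx)
  have hNMc : ∀ x ∈ N, ∀ v, ⁅π x, π v⁆ ∈ center (E ⧸ L) := fun x hx v => by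
    rw [← map_commutatorElement]; exact hMc _ (comm_mem_descend hx v)
  have hcv : ∀ v, ⁅c, v⁆ ∈ N := fun v => comm_mem_descend hcΦ v
  have hcoord : ∀ x ∈ frattini E, ∃ i : ℕ, ∃ n ∈ N, x = c ^ i * n := fun x hx => by
    obtain ⟨i, hi⟩ := exists_pow_of_mem_sup N (show x ∈ N ⊔ zpowers c from hΦ ▸ hx)
    exact ⟨i, _, hi, (mul_inv_cancel_left _ _).symm⟩
  -- the second layer centralises the Frattini subgroup
  have hNΦ : ∀ n ∈ N, ∀ x ∈ frattini E, ⁅π n, π x⁆ = 1 := by
    intro n hn
    let f : E →* E ⧸ L :=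
      { toFun := fun v => ⁅π n, π v⁆
        map_one' := by simp
        map_mul' := fun v w => by rw [map_mul, comm_mul_right_central (hNMc n hn w)] }
    refine frattini_le_of (N := f.ker) D.hE (fun v w => ?_) fun v => ?_
    · rw [MonoidHom.mem_ker, map_commutatorElement, commutatorElement_eq_one_iff_mul_comm]
      exact (mem_center_iff.mp (hNMc n hn v) _).symm
    · rw [MonoidHom.mem_ker, map_pow]
      show ⁅π n, π v⁆ ^ p = 1
      rw [← map_commutatorElement]
      exact hMp _ (comm_mem_descend hn v)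
  have hxc : ∀ v, Commute (π c) ⁅π c, π v⁆ := fun v => by
    have := hNΦ _ (hcv v) c hcΦ
    rw [map_commutatorElement π c v, commutatorElement_eq_one_iff_commute] at this
    exact this.symm
  have hxp : ∀ v, ⁅π c, π v⁆ ^ p = 1 := fun v => by
    rw [← comm_pow_left (hxc v), ← map_pow π c, commutatorElement_eq_one_iff_mul_comm]
    exact (mem_center_iff.mp (hMc _ hcp) (π v)).symm
  -- the second layer is elementary abelian
  have hNp : ∀ x ∈ N, π x ^ p = 1 := by
    let W : Subgroup E :=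
      { carrier := {x | x ∈ N ∧ π x ^ p = 1}
        one_mem' := ⟨one_mem _, by simp⟩
        mul_mem' := fun {x y} hx hy => ⟨mul_mem hx.1 hy.1, by
          have h : Commute (π x) (π y) :=
            commutatorElement_eq_one_iff_commute.mp (hNΦ x hx.1 y (descend_le_self _ hy.1))
          rw [map_mul, h.mul_pow, hx.2, hy.2, one_mul]⟩
        inv_mem' := fun {x} hx => ⟨inv_mem hx.1, by rw [map_inv, inv_pow, hx.2, inv_one]⟩ }
    have hNW : N ≤ W := by
      nth_rewrite 1 [hNeq]
      refine sup_le (sup_le (fun x hx => ⟨descend_le_self _ hx, hMp x hx⟩) (zpowers_le.mpr ?_))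
        (zpowers_le.mpr ?_) <;>
      exact ⟨hcv _, by rw [map_commutatorElement π c]; exact hxp _⟩
    exact fun x hx => (hNW hx).2
  have hLM : L ≤ M := descend_le_self _
  have hMN : M ≤ N := descend_le_self _
  have hsec : Nat.card N ≤ p ^ 3 * Nat.card L := section_bound D.hsr N L (hLM.trans hMN)
    (fun x hx y hy => (QuotientGroup.eq_one_iff _).mp (show π ⁅x, y⁆ = 1 by
      rw [map_commutatorElement]; exact hNΦ x hx y (descend_le_self _ hy)))
    (fun x hx => (QuotientGroup.eq_one_iff _).mp (show π (x ^ p) = 1 by rw [map_pow]; exact hNp x hx))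
  have hMcard : Nat.card M ≤ p * Nat.card L := by
    refine Nat.le_of_mul_le_mul_left ?_ (pow_pos hp.out.pos 2)
    calc p ^ 2 * Nat.card M = p * (p * Nat.card M) := by ring
      _ ≤ Nat.card N := hNcard
      _ ≤ p ^ 3 * Nat.card L := hsec
      _ = p ^ 2 * (p * Nat.card L) := by ring
  -- the form
  let β : E → E → E ⧸ L := fun v w => ⁅⁅π c, π v⁆, π w⁆
  have hβ : ∀ v w, β v w = π ⁅⁅c, v⁆, w⁆ := fun v w => by
    show ⁅⁅π c, π v⁆, π w⁆ = _
    rw [map_commutatorElement π ⁅c, v⁆ w, map_commutatorElement π c v]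
  have hβc : ∀ v w, β v w ∈ center (E ⧸ L) := fun v w => by
    rw [hβ]; exact hMc _ (comm_mem_descend (hcv v) w)
  have hβp : ∀ v w, β v w ^ p = 1 := fun v w => by
    rw [hβ]; exact hMp _ (comm_mem_descend (hcv v) w)
  have hβr : ∀ v w w', β v (w * w') = β v w * β v w' := fun v w w' => by
    show ⁅⁅π c, π v⁆, π (w * w')⁆ = _
    rw [map_mul, comm_mul_right_central (hβc v w')]
  have hβl : ∀ v v' w, β (v * v') w = β v w * β v' w := fun v v' w => by
    show ⁅⁅π c, π (v * v')⁆, π w⁆ = _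
    have hz : ⁅π v, ⁅π c, π v'⁆⁆ ∈ center (E ⧸ L) := by
      rw [← map_commutatorElement π c, ← map_commutatorElement]
      exact hMc _ (comm_mem_descend' (hcv v') v)
    have h1 : ⁅π c, π (v * v')⁆ = ⁅π c, π v⁆ * ⁅π c, π v'⁆ * ⁅π v, ⁅π c, π v'⁆⁆ := by
      rw [mul_assoc, mem_center_iff.mp hz, map_mul]
      simp only [commutatorElement_def]; group
    rw [h1, comm_mul_central_left hz, comm_mul_left_central (hβc v' w)]
  have hβΦr : ∀ v, ∀ w ∈ frattini E, β v w = 1 := fun v w hw => by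
    show ⁅⁅π c, π v⁆, π w⁆ = 1
    rw [← map_commutatorElement π c]; exact hNΦ _ (hcv v) w hw
  have hβΦl : ∀ v ∈ frattini E, ∀ w, β v w = 1 := fun v hv w => by
    obtain ⟨i, n, hn, rfl⟩ := hcoord v hv
    show ⁅⁅π c, π (c ^ i * n)⁆, π w⁆ = 1
    have h1 : Commute (π c) (π n) := (commutatorElement_eq_one_iff_commute.mp (hNΦ n hn c hcΦ)).symm
    rw [map_mul, map_pow, commutatorElement_eq_one_iff_commute.mpr
      ((Commute.self_pow (π c) i).mul_right h1), commutatorElement_one_left]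
  -- symmetry
  have hsym : β a e = β e a := by
    set x := ⁅π c, π a⁆ with hx
    set y := ⁅π c, π e⁆ with hy
    have hxy : Commute x y := by
      have := hNΦ _ (hcv a) _ (descend_le_self _ (hcv e))
      rw [map_commutatorElement π c a, map_commutatorElement π c e,
        commutatorElement_eq_one_iff_commute] at this
      exact this
    have hconj : ∀ v, π v * π c * (π v)⁻¹ = ⁅π c, π v⁆⁻¹ * π c := fun v => by
      rw [commutatorElement_def]; group
    have key : ∀ v w, (π v * π w) * π c * (π v * π w)⁻¹ =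
        ⁅π c, π w⁆⁻¹ * ⁅π c, π v⁆⁻¹ * β w v * π c := by
      intro v w
      calc (π v * π w) * π c * (π v * π w)⁻¹ = π v * (π w * π c * (π w)⁻¹) * (π v)⁻¹ := by group
        _ = (π v * ⁅π c, π w⁆⁻¹ * (π v)⁻¹) * (π v * π c * (π v)⁻¹) := by rw [hconj]; group
        _ = (⁅π c, π w⁆⁻¹ * ⁅⁅π c, π w⁆, π v⁆) * (⁅π c, π v⁆⁻¹ * π c) := by
          rw [hconj, commutatorElement_def ⁅π c, π w⁆]; group
        _ = _ := by
          show _ = ⁅π c, π w⁆⁻¹ * ⁅π c, π v⁆⁻¹ * ⁅⁅π c, π w⁆, π v⁆ * π c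
          rw [← mul_assoc, mul_assoc _ ⁅⁅π c, π w⁆, π v⁆ ⁅π c, π v⁆⁻¹,
            ← mem_center_iff.mp (hβc w v) ⁅π c, π v⁆⁻¹, ← mul_assoc]
    have hae : π a * π e = π c * (π e * π a) := by
      rw [show π c = ⁅π a, π e⁆ from map_commutatorElement π a e, commutatorElement_def]; group
    have h1 := key a e
    have h2 := key e a
    have hcc : π e * π a * π c * (π e * π a)⁻¹ = π a * π e * π c * (π a * π e)⁻¹ := by
      rw [hae, show π c * (π e * π a) * π c * (π c * (π e * π a))⁻¹ =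
        π c * (π e * π a * π c * (π e * π a)⁻¹) * (π c)⁻¹ by group, h2]
      have hu : Commute (π c) (x⁻¹ * y⁻¹ * β a e * π c) :=
        ((((hxc a).inv_right).mul_right (hxc e).inv_right).mul_right
          (mem_center_iff.mp (hβc a e) (π c))).mul_right (Commute.refl _)
      rw [hu.eq, mul_inv_cancel_right]
    rw [h1, h2, ← hy, ← hx, mul_left_inj, (hxy.symm.inv_inv).eq, mul_right_inj] at hcc
    exact hcc
  -- the transvection
  let Ub := quotAut L U
  have hUπ : ∀ v, π (U v) = Ub (π v) := fun v => rfl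
  obtain ⟨y, hy⟩ := D.hUp
  have hfixM : ∀ t ∈ M, Ub (π t) = π t := by
    intro t ht
    by_cases htL : t ∈ L
    · have h0 : π t = 1 := (QuotientGroup.eq_one_iff _).mpr htL
      rw [h0, map_one]
    have hle : L ⊔ zpowers t ≤ M := sup_le hLM (zpowers_le.mpr ht)
    have hMeq : L ⊔ zpowers t = M :=
      eq_of_le_of_card_ge hle (hMcard.trans (card_lt_sup_zpowers D.hE L htL))
    obtain ⟨m, hm⟩ := exists_pow_of_mem_sup L (show U t ∈ L ⊔ zpowers t from hMeq ▸ apply_mem U ht)
    have h1 : Ub (π t) = π t ^ m := by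
      rw [← hUπ, ← map_pow]; exact ((QuotientGroup.eq).mpr hm).symm
    have h2 : ∀ k : ℕ, (Ub ^ k) (π t) = π t ^ m ^ k := by
      intro k
      induction k with
      | zero => simp
      | succ k ih => rw [pow_succ', MulAut.mul_apply, ih, map_pow, h1, ← pow_mul, ← pow_succ']
    have h3 : (Ub ^ p) (π t) = π t := by
      show (quotAut L U ^ p) (π t) = π t
      rw [← map_pow (quotAut L), hy]
      show π (y * t * y⁻¹) = π t
      rw [map_mul, map_mul, mem_center_iff.mp (hMc t ht), map_inv, mul_inv_cancel_right]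
    rw [h2, Plane.pow_eq_pow_of_modEq (hMp t ht) (j := m) (by
      rw [← ZMod.natCast_eq_natCast_iff, Nat.cast_pow, ZMod.pow_card])] at h3
    rw [h1, h3]
  have hcconj : ∀ (d : E) (m : ℕ), (c ^ m)⁻¹ * d ∈ N → ∀ v w,
      ⁅⁅π d, π v⁆, π w⁆ = β v w ^ m := by
    intro d m hd v w
    set n := (c ^ m)⁻¹ * d with hn
    have hd' : π d = π c ^ m * π n := by rw [← map_pow, ← map_mul, hn, mul_inv_cancel_left]
    rw [hd', comm_mul_left_central (hNMc n hd v), comm_pow_left (hxc v),
      comm_mul_central_left (hNMc n hd v)]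
    exact comm_pow_left (mem_center_iff.mp (hβc v w) _) m
  have hUβ : ∀ v w, β (U v) (U w) = β v w := fun v w => by
    have h1 : π (U ⁅⁅c, v⁆, w⁆) = β v w := by
      rw [hUπ, hfixM _ (comm_mem_descend (hcv v) w), hβ]
    rw [map_commutatorElement U, map_commutatorElement U, map_commutatorElement π,
      map_commutatorElement π, hcconj (U c) 1 (by rw [pow_one]; exact hUc), pow_one] at h1
    exact h1
  have hUe : U e = e * (e⁻¹ * U e) := (mul_inv_cancel_left _ _).symm
  have hUer : ∀ v, β v (U e) = β v e := fun v => by rw [hUe, hβr, hβΦr v _ D.hUe, mul_one]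
  have hUel : ∀ w, β (U e) w = β e w := fun w => by rw [hUe, hβl, hβΦl _ D.hUe w, mul_one]
  have hee : β e e = 1 := by
    have h1 := hUβ a e
    rw [hUer, D.hUa, hβl] at h1
    exact mul_eq_left.mp h1
  have hea : β e a = 1 := by
    have h1 := hUβ a a
    rw [D.hUa, hβl, hβr, hβr, hee, mul_one, mul_assoc, mul_eq_left, hsym, ← sq] at h1
    refine Subgroup.mem_bot.mp (Plane.mem_of_pow_mem (H := (⊥ : Subgroup (E ⧸ L))) (k := 1)
      (by rw [pow_one]; exact hβp e a) (fun h => ?_) (Subgroup.mem_bot.mpr h1))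
    have := Nat.le_of_dvd two_pos h
    omega
  -- the radical
  let K : Subgroup E :=
    { carrier := {v | ∀ w, β v w = 1}
      one_mem' := fun w => by
        show ⁅⁅π c, π 1⁆, π w⁆ = 1
        rw [map_one, commutatorElement_one_right, commutatorElement_one_left]
      mul_mem' := fun {v v'} hv hv' w => by rw [hβl, hv w, hv' w, one_mul]
      inv_mem' := fun {v} hv w => by
        have h1 := hβl v v⁻¹ w
        rw [mul_inv_cancel, hv w, one_mul] at h1
        rw [← h1]
        show ⁅⁅π c, π 1⁆, π w⁆ = 1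
        rw [map_one, commutatorElement_one_right, commutatorElement_one_left] }
  have hrow : ∀ v, β v a = 1 → β v e = 1 → v ∈ K := by
    intro v h1 h2 w
    let W : Subgroup E :=
      { carrier := {w | β v w = 1}
        one_mem' := by show ⁅⁅π c, π v⁆, π 1⁆ = 1; rw [map_one, commutatorElement_one_right]
        mul_mem' := fun {w w'} hw hw' => by
          show β v (w * w') = 1
          rw [hβr, show β v w = 1 from hw, show β v w' = 1 from hw', one_mul]
        inv_mem' := fun {w} hw => by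
          show β v w⁻¹ = 1
          have h := hβr v w w⁻¹
          rw [mul_inv_cancel, show β v w = 1 from hw, one_mul] at h
          rw [← h]
          show ⁅⁅π c, π v⁆, π 1⁆ = 1
          rw [map_one, commutatorElement_one_right] }
    have hW := D.closure_eq (W := W) (fun x hx => hβΦr v x hx) h1 h2
    have hw : w ∈ W := by rw [hW]; exact mem_top w
    exact hw
  have hKtop : K = ⊤ := by
    refine (D.hirr K (fun x hx w => hβΦl x hx w) fun α _ v hv w => ?_).resolve_left
      fun h => D.he (h ▸ hrow e hea hee)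
    obtain ⟨m, n, hn, hαc⟩ := hcoord (α c) (apply_mem α hcΦ)
    have hm : ¬ p ∣ m := by
      rintro ⟨m', rfl⟩
      refine hcN ((apply_mem_iff α).mp (hαc ▸ mul_mem ?_ hn))
      rw [pow_mul]
      exact pow_mem (pow_mem_descend hcΦ) m'
    obtain ⟨w, rfl⟩ := α.surjective w
    have h1 : π (α ⁅⁅c, v⁆, w⁆) = 1 := (QuotientGroup.eq_one_iff _).mpr (apply_mem α
      ((QuotientGroup.eq_one_iff _).mp ((hβ v w).symm.trans (hv w))))
    rw [map_commutatorElement α, map_commutatorElement α, map_commutatorElement π,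
      map_commutatorElement π, hcconj (α c) m (by rw [hαc, inv_mul_cancel_left]; exact hn)] at h1
    exact Subgroup.mem_bot.mp (Plane.mem_of_pow_mem (H := (⊥ : Subgroup (E ⧸ L))) (k := 1)
      (by rw [pow_one]; exact hβp _ _) hm (Subgroup.mem_bot.mpr h1))
  have hML : M ≤ L := by
    let W : Subgroup E := (center (E ⧸ L)).comap π
    have hNW : N ≤ W := by
      nth_rewrite 1 [hNeq]
      refine sup_le (sup_le (fun x hx => hMc x hx) (zpowers_le.mpr ?_)) (zpowers_le.mpr ?_) <;>
      (show π ⁅c, _⁆ ∈ center (E ⧸ L)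
       refine mem_center_iff.mpr fun g => ?_
       obtain ⟨g, rfl⟩ := QuotientGroup.mk'_surjective L g
       rw [eq_comm, ← commutatorElement_eq_one_iff_mul_comm, map_commutatorElement π c]
       exact ((hKtop ▸ mem_top _ : _ ∈ K)) g)
    refine descend_le (fun x hx v => (QuotientGroup.eq_one_iff _).mp ?_)
      fun x hx => (QuotientGroup.eq_one_iff _).mp (show π (x ^ p) = 1 by rw [map_pow]; exact hNp x hx)
    show π ⁅x, v⁆ = 1
    rw [map_commutatorElement, commutatorElement_eq_one_iff_mul_comm]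
    exact (mem_center_iff.mp (hNW hx) (π v)).symm
  have hMbot : M = ⊥ := eq_bot_of_descend D.hE hML
  have hNZ : N ≤ center E := fun x hx => mem_center_iff.mpr fun g => by
    rw [eq_comm, ← commutatorElement_eq_one_iff_mul_comm, ← Subgroup.mem_bot, ← hMbot]
    exact comm_mem_descend hx g
  have hcp1 : c ^ p = 1 := by rw [← Subgroup.mem_bot, ← hMbot]; exact hcp
  have hinj : ∀ v, ⁅c, v⁆ = 1 → v ∈ frattini E := fun v hv => hcinj v (by rw [hv]; exact one_mem _)
  have hZN : center E ≤ N := by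
    intro x hx
    obtain ⟨i, n, hn, rfl⟩ := hcoord x (hinj x (commutatorElement_eq_one_iff_mul_comm.mpr
      (mem_center_iff.mp hx c)))
    refine mul_mem ?_ hn
    have hci : c ^ i ∈ center E := by
      have := mul_mem hx (inv_mem (hNZ hn))
      rwa [mul_inv_cancel_right] at this
    have he1 : ⁅c, e⁆ ^ i = 1 := by
      rw [← comm_pow_left (mem_center_iff.mp (hNZ (hcv e)) c), commutatorElement_eq_one_iff_mul_comm]
      exact (mem_center_iff.mp hci e).symm
    by_cases hi : p ∣ i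
    · obtain ⟨i', rfl⟩ := hi
      rw [pow_mul, hcp1, one_pow]
      exact one_mem _
    · obtain ⟨k, hk⟩ := D.hE ⁅c, e⁆
      exact absurd (hinj e (Subgroup.mem_bot.mp (Plane.mem_of_pow_mem hk hi (Subgroup.mem_bot.mpr he1))))
        D.he
  rw [le_antisymm hZN hNZ]
  exact ⟨c, hcΦ, hΦ, hcN, by rw [hcp1]; exact one_mem _, hcv, hinj⟩

end Data

end Cfsg.Lib.FusionSys.RankTwoPearl
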