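import Cfsg.Agent.Lib.FusionSys.RankTwoPearl
import Cfsg.Agent.Lib.FusionSys.RankThree
import Cfsg.Agent.Lib.PGroup.FrattiniStab

/-!
# Non-normal essential subgroups with two generators in sectional rank three are small
-/

set_option linter.style.haveILetI false
set_option autoImplicit false

namespace Cfsg.Lib.FusionSys.RankTwoPearl

open Cfsg Cfsg.FusionSystem Cfsg.Lib.FusionSys Subgroup
open scoped commutatorElement

universe u

variable {p : ℕ} [hp : Fact p.Prime]

/-- Isomorphisms of `p`-groups map Frattini subgroups onto each other. -/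
theorem comap_frattini_equiv {A B : Type*} [Group A] [Group B] [Finite A] [Finite B] (hA : IsPGroup p A)
    (hB : IsPGroup p B) (ι : A ≃* B) : (frattini B).comap ι.toMonoidHom = frattini A := by
  refine le_antisymm (fun v hv => ?_) (RankThree.frattini_le_of hA (fun v w => ?_) fun v => ?_)
  · have h : frattini B ≤ (frattini A).comap ι.symm.toMonoidHom :=
      RankThree.frattini_le_of hB (fun v w => by
        show ι.symm ⁅v, w⁆ ∈ frattini A
        rw [map_commutatorElement]; exact RankThree.comm_mem_frattini hA _ _) fun v => by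
        show ι.symm (v ^ p) ∈ frattini A
        rw [map_pow]; exact Cfsg.Lib.PGroup.pow_mem_frattini hA _
    simpa using h hv
  · show ι ⁅v, w⁆ ∈ frattini B
    rw [map_commutatorElement]; exact RankThree.comm_mem_frattini hB _ _
  · show ι (v ^ p) ∈ frattini B
    rw [map_pow]; exact Cfsg.Lib.PGroup.pow_mem_frattini hB _

/-- In a `p`-group `T`, an automorphism moving the maximal subgroup `E` is impossible when `E` is the
group of order `p ^ 5` and elements outside `E` move the centre of `E`. -/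
theorem moved_false {T : Type*} [Group T] [Finite T] (hT : IsPGroup p T) {E : Subgroup T} [E.Normal]
    {g : T} (hgen : ∀ n : T, ∃ i : ℕ, (g ^ i)⁻¹ * n ∈ E) (hgp : g ^ p ∈ E)
    (hidx : (frattini E).index = p ^ 2) {c : E} (hc : c ∈ frattini E)
    (hΦ : frattini E = center E ⊔ zpowers c) (hcp : c ^ p ∈ center E) (hcv : ∀ v, ⁅c, v⁆ ∈ center E)
    (hinj : ∀ v, ⁅c, v⁆ = 1 → v ∈ frattini E)
    (hmove : ∀ n : T, n ∉ E → ∃ z ∈ center E, n * (z : T) * n⁻¹ ≠ z)
    (σ : MulAut T) (hσ : E.map σ.toMonoidHom ≠ E) : False := by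
  set E1 := E.map σ.toMonoidHom with hE1
  haveI : E1.Normal := Normal.map inferInstance _ σ.surjective
  let π := QuotientGroup.mk' E1
  have hgen1 : ∀ n : T, ∃ i : Fin p, π n = π (σ g) ^ (i : ℕ) := by
    intro n
    obtain ⟨i, hi⟩ := hgen (σ.symm n)
    refine ⟨⟨i % p, Nat.mod_lt _ hp.out.pos⟩, ?_⟩
    have hp1 : π (σ g) ^ p = 1 := by
      rw [← map_pow, ← map_pow]
      exact (QuotientGroup.eq_one_iff _).mpr (mem_map_of_mem _ hgp)
    rw [Plane.pow_eq_pow_of_modEq hp1 (Nat.mod_modEq i p), ← map_pow π]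
    refine ((QuotientGroup.eq).mpr ?_).symm
    have := mem_map_of_mem σ.toMonoidHom hi
    simpa [hE1] using this
  have hcard : Nat.card (T ⧸ E1) ≤ p := by
    refine (Nat.card_le_card_of_surjective (fun i : Fin p => π (σ g) ^ (i : ℕ)) fun q => ?_).trans
      (le_of_eq (Nat.card_fin p))
    obtain ⟨n, rfl⟩ := QuotientGroup.mk'_surjective E1 q
    obtain ⟨i, hi⟩ := hgen1 n
    exact ⟨i, hi.symm⟩
  let f : E →* T ⧸ E1 := π.comp E.subtype
  have hf : ∀ v, v ∈ f.ker ↔ (v : T) ∈ E1 := fun v => QuotientGroup.eq_one_iff _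
  have hΦK : frattini E ≤ f.ker := by
    refine RankThree.frattini_le_of (hT.to_subgroup E) (fun v w => ?_) fun v => ?_
    · rw [MonoidHom.mem_ker, map_commutatorElement, commutatorElement_eq_one_iff_mul_comm]
      obtain ⟨i, hi⟩ := hgen1 v
      obtain ⟨j, hj⟩ := hgen1 w
      show π v * π w = π w * π v
      rw [hi, hj, ← pow_add, ← pow_add, add_comm]
    · rw [MonoidHom.mem_ker, map_pow]
      obtain ⟨i, hi⟩ := hgen1 v
      show π v ^ p = 1
      rw [hi, ← pow_mul, mul_comm, pow_mul, ← map_pow π (σ g) p, ← map_pow σ g p]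
      rw [show π (σ (g ^ p)) = 1 from (QuotientGroup.eq_one_iff _).mpr (mem_map_of_mem _ hgp), one_pow]
  obtain ⟨e', he'K, he'Φ⟩ : ∃ e' ∈ f.ker, e' ∉ frattini E := by
    refine SetLike.exists_of_lt (lt_of_le_of_ne hΦK fun h => ?_)
    have h1 : Nat.card f.range ≤ Nat.card (T ⧸ E1) :=
      Nat.card_le_card_of_injective _ Subtype.val_injective
    rw [← Subgroup.index_ker, ← h, hidx] at h1
    nlinarith [hp.out.two_le, h1.trans hcard]
  -- the centre of the moved subgroup lies in the centre
  have hsub : ∀ x ∈ center E, ∃ y ∈ center E, (y : T) = σ x := by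
    intro x hx
    have hcom : ∀ v ∈ E1, σ x * v = v * σ x := by
      rintro _ ⟨w, hw, rfl⟩
      show σ x * σ w = σ w * σ x
      rw [← map_mul, ← map_mul]
      exact congrArg σ (congrArg Subtype.val (mem_center_iff.mp hx ⟨w, hw⟩).symm)
    have hxE : σ x ∈ E := by
      by_contra h
      obtain ⟨z, hz, hne⟩ := hmove _ h
      refine hne ?_
      rw [hcom z ((hf z).mp (hΦK (hΦ.symm ▸ mem_sup_left hz))), mul_inv_cancel_right]
    set y : E := ⟨σ x, hxE⟩ with hy
    refine ⟨y, ?_, rfl⟩
    have hyc : ∀ v ∈ f.ker, y * v = v * y := fun v hv => Subtype.ext (hcom v ((hf v).mp hv))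
    have h1 : y ∈ frattini E := hinj y (commutatorElement_eq_one_iff_mul_comm.mpr (hyc c (hΦK hc)).symm)
    obtain ⟨i, hi⟩ := RankThree.exists_pow_of_mem_sup (center E)
      (show y ∈ center E ⊔ zpowers c from hΦ ▸ h1)
    rw [← mul_inv_cancel_left (c ^ i) y]
    refine mul_mem ?_ hi
    by_cases hpi : p ∣ i
    · obtain ⟨i', rfl⟩ := hpi
      rw [pow_mul]
      exact pow_mem hcp i'
    exfalso
    have h2 : ⁅c, e'⁆ ^ i = 1 := by
      rw [← RankThree.comm_pow_left (mem_center_iff.mp (hcv e') c),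
        commutatorElement_eq_one_iff_mul_comm]
      have h3 : c ^ i = y * ((c ^ i)⁻¹ * y)⁻¹ := by group
      rw [h3, mul_assoc, ← mem_center_iff.mp (inv_mem hi) e', ← mul_assoc, hyc e' he'K, mul_assoc]
    obtain ⟨k, hk⟩ := hT.to_subgroup E ⁅c, e'⁆
    exact he'Φ (hinj e' (Subgroup.mem_bot.mp (Plane.mem_of_pow_mem hk hpi (Subgroup.mem_bot.mpr h2))))
  choose τ hτZ hτ using hsub
  have hbij : Function.Surjective (fun x : center E => (⟨τ x x.2, hτZ x x.2⟩ : center E)) := by
    have hinj : Function.Injective (fun x : center E => (⟨τ x x.2, hτZ x x.2⟩ : center E)) := by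
      intro x x' h
      have h1 : τ x x.2 = τ x' x'.2 := congrArg Subtype.val h
      have h2 := congrArg Subtype.val h1
      rw [hτ, hτ] at h2
      exact Subtype.ext (Subtype.ext (σ.injective h2))
    exact Finite.surjective_of_injective hinj
  refine hσ (eq_of_le_of_card_ge (fun v hv => ?_) ?_)
  · by_contra h
    obtain ⟨z, hz, hne⟩ := hmove v h
    obtain ⟨x, hx⟩ := hbij ⟨z, hz⟩
    refine hne ?_
    have hx' : τ x x.2 = z := congrArg Subtype.val hx
    obtain ⟨w, hw, rfl⟩ := hv
    rw [← hx', hτ]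
    show σ w * σ (x : E) * (σ w)⁻¹ = σ (x : E)
    rw [← map_inv, ← map_mul, ← map_mul]
    refine congrArg σ ?_
    rw [show w * ((x : E) : T) = (x : E) * w from congrArg Subtype.val (mem_center_iff.mp x.2 ⟨w, hw⟩),
      mul_inv_cancel_right]
  · rw [hE1, card_map_of_injective σ.injective]

variable {Ω : Type u} [Group Ω] {S : Subgroup Ω} [Finite S] {F : FusionSystem S}

set_option maxHeartbeats 1000000 in
/-- A non-normal essential subgroup with two generators has order at most `p ^ 3`. -/
theorem card_le_cube (hp5 : 5 ≤ p) (hS : IsPGroup p S) (hsr : Cfsg.SectionalPRankLE p 3 S)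
    (hF : F.IsSaturated p) {E : Subgroup Ω} (hE : F.IsEssential p E)
    (hidx : (frattini ↥E).index = p ^ 2) (hnot : ¬ S ≤ Subgroup.normalizer (E : Set Ω)) :
    Nat.card E ≤ p ^ 3 := by
  obtain ⟨hlt, hIN, hIp, hO, -, -⟩ := RankTwo.basic hS hF hE
  have hES : E ≤ S := hE.1.1
  haveI := finite_of_le hES
  have hp2 : p ≠ 2 := by omega
  have hEp : IsPGroup p E := hS.to_le hES
  set T := normalizerIn S E with hTdef
  have hTle : T ≤ S := normalizerIn_le E
  haveI := finite_of_le hTle
  have hTp : IsPGroup p T := hS.to_le hTle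
  have hET : E ≤ T := le_normalizerIn hES
  -- the plane
  let q := QuotientGroup.mk' (frattini E)
  have hV : Nat.card (E ⧸ frattini E) = p ^ 2 := by rw [← index_eq_card, hidx]
  have hexp : ∀ v : E ⧸ frattini E, v ^ p = 1 := by
    intro v
    obtain ⟨v, rfl⟩ := QuotientGroup.mk_surjective v
    rw [← QuotientGroup.mk_pow]
    exact (QuotientGroup.eq_one_iff _).mpr (Cfsg.Lib.PGroup.pow_mem_frattini hEp v)
  let r : ↥(F.autGroup E) →* MulAut (E ⧸ frattini E) :=
    (RankThree.quotAut (frattini E)).comp (F.autGroup E).subtype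
  have hr : ∀ (α : F.autGroup E) (v : E), r α (q v) = q ((α : MulAut E) v) := fun α v => rfl
  have hker : IsPGroup p r.ker := by
    have hp' : IsPGroup p ((Cfsg.Lib.PGroup.frattiniStab ↥E).subgroupOf (F.autGroup E)) :=
      IsPGroup.comap_subtype (Cfsg.Lib.PGroup.isPGroup_frattiniStab hEp)
    refine hp'.to_le fun α hα v => ?_
    refine (QuotientGroup.eq).mp ?_
    show q v = q ((α : MulAut E) v)
    rw [← hr, MonoidHom.mem_ker.mp hα, MulAut.one_apply]
  obtain ⟨hIker, hirr, e₀, f₀, g, -, -, he₀, hf₀, hgE, hge, hgf, -, -, -, -, -, -, hgen, -⟩ :=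
    RankTwo.frame hS hF hp2 hE hES hV hexp r hker
  obtain ⟨a, rfl⟩ := QuotientGroup.mk'_surjective _ f₀
  let cA : ↥T →* ↥(F.autGroup E) := RankTwo.cA F hES
  set U : MulAut E := (cA g : MulAut E) with hU
  set e : E := a⁻¹ * U a with he
  have hcm := Plane.comm hV
  have hqe : q e = e₀ := by
    rw [he, map_mul, map_inv, ← hr, hgf, hcm e₀, inv_mul_cancel_left]
  have hkerI : ∀ n : T, cA n ∈ r.ker → (n : Ω) ∈ E := fun n hn =>
    mem_of_conjAut_mem_inn (hE.1.2 E (isConj_refl F hES)) hES n.2.1
      (α := (cA n : MulAut E)) (fun v => rfl)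
      (Subgroup.mem_subgroupOf.mp (hO r.ker inferInstance hker hn))
  have hrp : r (cA g) ^ p = 1 := by
    refine Plane.aut_ext hV hexp he₀ hf₀ ?_ ?_
    · have : ∀ k : ℕ, (r (cA g) ^ k) e₀ = e₀ := by
        intro k
        induction k with
        | zero => rfl
        | succ k ih => rw [pow_succ, MulAut.mul_apply, hge, ih]
      rw [this, MulAut.one_apply]
    · have : ∀ k : ℕ, (r (cA g) ^ k) (q a) = e₀ ^ k * q a := by
        intro k
        induction k with
        | zero => simp
        | succ k ih => rw [pow_succ', MulAut.mul_apply, ih, map_mul, map_pow, hge, hgf, ← mul_assoc, ← pow_succ]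
      rw [this, hexp, one_mul, MulAut.one_apply]
  have hgp : (g : Ω) ^ p ∈ E := by
    have := hkerI (g ^ p) (by rw [MonoidHom.mem_ker, map_pow cA, map_pow r, hrp])
    simpa using this
  have D : Data p (Set.range fun α : F.autGroup E => (α : MulAut E)) U a e :=
    { hp5 := hp5
      hE := hEp
      hsr := RankThree.sectional_of_injective hsr (Subgroup.inclusion hES) (Subgroup.inclusion_injective _)
      hirr := fun W hΦW hW => by
        have hWc : (W.map q).comap q = W := by
          rw [comap_map_eq, QuotientGroup.ker_mk', sup_eq_left.mpr hΦW]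
        rcases hirr (W.map q) (by
          rintro α _ ⟨v, hv, rfl⟩
          rw [hr]
          exact mem_map_of_mem q (hW _ ⟨α, rfl⟩ v hv)) with h | h
        · left; rw [← hWc, h, MonoidHom.comap_bot, QuotientGroup.ker_mk']
        · right; rw [← hWc, h, comap_top]
      hUp := ⟨⟨(g : Ω) ^ p, hgp⟩, by
        rw [hU, ← SubmonoidClass.coe_pow, ← map_pow]
        exact MulEquiv.ext fun v => Subtype.ext rfl⟩
      hUa := (mul_inv_cancel_left _ _).symm
      he := fun h => he₀ (by rw [← hqe]; exact (QuotientGroup.eq_one_iff _).mpr h)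
      hUe := by
        refine (QuotientGroup.eq).mp ?_
        show q e = q (U e)
        rw [← hr, hqe, hge]
      ha := fun h => hf₀ (by
        rw [← hqe, ← MonoidHom.map_zpowers]
        have h' := mem_map_of_mem q h
        rwa [Subgroup.map_sup, QuotientGroup.map_mk'_self, bot_sup_eq] at h')
      hgen := fun v => by
        obtain ⟨j, i, hv⟩ := Plane.exists_coords hV hexp he₀ hf₀ (q v)
        refine ⟨i, j, (QuotientGroup.eq).mp ?_⟩
        show q (a ^ i * e ^ j) = q v
        rw [map_mul, map_pow, map_pow, hqe, hv, hcm] }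
  rcases D.small_or_exceptional with h | ⟨c, hc, hΦ, hcZ, hcp, hcv, hinj⟩
  · exact h
  exfalso
  obtain ⟨x, hxS, hxN⟩ : ∃ x ∈ normalizerIn S T, x ∉ T := by
    refine SetLike.exists_of_lt (lt_normalizerIn hS (lt_of_le_of_ne hTle fun h => hnot fun g hg => ?_))
    exact (h.ge hg).2
  have hxN' : x ∈ Subgroup.normalizer (T : Set Ω) := hxS.2
  set σ := conjAut T hxN' with hσ
  have hσE : (E.subgroupOf T).map σ.toMonoidHom ≠ E.subgroupOf T := by
    intro h
    refine hxN ⟨hxS.1, mem_normalizer_fintype fun v hv => ?_⟩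
    exact le_of_eq h (mem_map_of_mem σ.toMonoidHom (x := ⟨v, hET hv⟩) hv)
  let ι : ↥(E.subgroupOf T) ≃* E := subgroupOfEquivOfLe hET
  haveI : (E.subgroupOf T).Normal := by
    refine ⟨fun v hv n => ?_⟩
    exact (Subgroup.mem_normalizer_iff.1 n.2.2 (v : Ω)).1 hv
  -- elements outside `E` move the centre
  have hmove : ∀ n : T, (n : Ω) ∉ E → ∃ z ∈ center E, (cA n : MulAut E) z ≠ z := by
    intro n hn
    by_contra hfix
    push Not at hfix
    set β : MulAut E := (cA n : MulAut E) with hβ
    obtain ⟨m, hm⟩ := RankThree.exists_pow_of_mem_sup (center E)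
      (show β c ∈ center E ⊔ zpowers c from hΦ ▸ Cfsg.Lib.PGroup.apply_mem_frattini β hc)
    have key : ∀ v, ⁅c, v⁆ = ⁅c, β v⁆ ^ m := by
      intro v
      calc ⁅c, v⁆ = β ⁅c, v⁆ := (hfix _ (hcv v)).symm
        _ = ⁅c ^ m * ((c ^ m)⁻¹ * β c), β v⁆ := by rw [mul_inv_cancel_left, map_commutatorElement]
        _ = _ := by
          rw [RankThree.comm_mul_central_left hm, RankThree.comm_pow_left (mem_center_iff.mp (hcv _) c)]
    let ψ : E →* E :=
      { toFun := fun v => ⁅c, v⁆
        map_one' := by simp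
        map_mul' := fun v w => RankThree.comm_mul_right_central (hcv w) }
    have hψΦ : ∀ v w, q v = q w → ψ v = ψ w := by
      intro v w h
      have h1 := (QuotientGroup.eq).mp h
      rw [← mul_inv_cancel_left v w, map_mul]
      suffices ψ (v⁻¹ * w) = 1 by rw [this, mul_one]
      show ⁅c, v⁻¹ * w⁆ = 1
      obtain ⟨i, hi⟩ := RankThree.exists_pow_of_mem_sup (center E)
        (show v⁻¹ * w ∈ center E ⊔ zpowers c from hΦ ▸ h1)
      rw [← mul_inv_cancel_left (c ^ i) (v⁻¹ * w), RankThree.comm_mul_central_right hi,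
        commutatorElement_eq_one_iff_commute]
      exact Commute.self_pow _ _
    obtain ⟨i, hi⟩ := hgen n
    have hri : r (cA n) = r (cA g) ^ i := by
      have h1 : cA ((g ^ i)⁻¹ * n) ∈ r.ker := hIker ⟨⟨_, hi⟩, MulEquiv.ext fun v => Subtype.ext rfl⟩
      rw [MonoidHom.mem_ker, map_mul, map_mul, map_inv, map_inv, inv_mul_eq_one, map_pow cA, map_pow] at h1
      exact h1.symm
    have hqn : ∀ v, q (β v) = (r (cA g) ^ i) (q v) := fun v => by rw [← hri, hr]
    have hne : q (β e) = q e := by
      rw [hqn, hqe]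
      clear hri hqn hi
      induction i with
      | zero => rfl
      | succ i ih => rw [pow_succ, MulAut.mul_apply, hge, ih]
    have hna : q (β a) = q (e ^ i * a) := by
      rw [hqn, map_mul, map_pow, hqe]
      clear hri hqn hi
      induction i with
      | zero => simp
      | succ i ih => rw [pow_succ', MulAut.mul_apply, ih, map_mul, map_pow, hge, hgf, ← mul_assoc, ← pow_succ]
    have hpow : ∀ v, ψ v = ψ (β v) ^ m := key
    have h1 := hpow e
    rw [hψΦ _ _ hne] at h1
    have h2 := hpow a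
    rw [hψΦ _ _ hna, map_mul, map_pow,
      (show Commute (ψ e ^ i) (ψ a) from (mem_center_iff.mp (pow_mem (hcv e) i) _).symm).mul_pow,
      ← pow_mul, mul_comm i m, pow_mul, ← h1] at h2
    have hψe : ψ e ≠ 1 := fun h => D.he (hinj e h)
    have hψep : ψ e ^ p = 1 := by
      show ⁅c, e⁆ ^ p = 1
      rw [← RankThree.comm_pow_left (mem_center_iff.mp (hcv e) c), commutatorElement_eq_one_iff_mul_comm]
      exact (mem_center_iff.mp hcp e).symm
    have hm1 : m ≡ 1 [MOD p] := Plane.modEq_of_pow_eq hψep hψe (by rw [pow_one]; exact h1.symm)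
    have hψap : ψ a ^ p = 1 := by
      show ⁅c, a⁆ ^ p = 1
      rw [← RankThree.comm_pow_left (mem_center_iff.mp (hcv a) c), commutatorElement_eq_one_iff_mul_comm]
      exact (mem_center_iff.mp hcp a).symm
    rw [Plane.pow_eq_pow_of_modEq hψap hm1, pow_one, right_eq_mul] at h2
    obtain ⟨i', hi'⟩ : p ∣ i := orderOf_eq_prime hψep hψe ▸ orderOf_dvd_of_pow_eq_one h2
    refine hn ?_
    rw [← mul_inv_cancel_left ((g : Ω) ^ i) (n : Ω)]
    exact mul_mem (by rw [hi', pow_mul]; exact pow_mem hgp i') hi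
  set c' : ↥(E.subgroupOf T) := ι.symm c with hc'
  have hmapΦ : ∀ v, v ∈ frattini ↥(E.subgroupOf T) ↔ ι v ∈ frattini E := fun v => by
    rw [← comap_frattini_equiv (hTp.to_subgroup _) hEp ι]
    rfl
  have hmapZ : ∀ v, v ∈ center ↥(E.subgroupOf T) ↔ ι v ∈ center E := fun v => by
    simp only [mem_center_iff]
    exact ⟨fun h w => by
        obtain ⟨w, rfl⟩ := ι.surjective w
        rw [← map_mul, ← map_mul, h],
      fun h w => ι.injective (by rw [map_mul, map_mul, h])⟩
  refine moved_false hTp (E := E.subgroupOf T) (g := g) (fun n => ?_) (mem_subgroupOf.mpr (by simpa using hgp))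
    ?_ (c := c') ((hmapΦ _).mpr (by simpa [hc'] using hc)) ?_ ((hmapZ _).mpr (by simpa [hc'] using hcp))
    (fun v => (hmapZ _).mpr (by rw [map_commutatorElement]; simpa [hc'] using hcv (ι v)))
    (fun v hv => (hmapΦ _).mpr (hinj _ (by
      have := congrArg ι hv
      simpa [hc', map_commutatorElement] using this)))
    (fun n hn => ?_) σ hσE
  · obtain ⟨i, hi⟩ := hgen n
    exact ⟨i, hi⟩
  · refine Eq.trans ?_ hidx
    rw [← comap_frattini_equiv (hTp.to_subgroup _) hEp ι]
    exact index_comap_of_surjective _ ι.surjective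
  · ext v
    rw [hmapΦ, hΦ, RankThree.mem_sup_iff_exists, RankThree.mem_sup_iff_exists]
    refine exists_congr fun i => ?_
    rw [hmapZ, map_mul, map_inv, map_pow, hc', MulEquiv.apply_symm_apply]
  · obtain ⟨z, hz, hne⟩ := hmove n hn
    refine ⟨ι.symm z, (hmapZ _).mpr (by simpa using hz), fun h => hne (Subtype.ext ?_)⟩
    exact congrArg (fun t : T => (t : Ω)) h

end Cfsg.Lib.FusionSys.RankTwoPearl
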