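import Cfsg.Agent.Lib.FusionSys.FactorModel
import Cfsg.Agent.Lib.FusionSys.NormalSubgroup

/-!
Normal subgroups of a group realizing a fusion system, and simple realizable systems.
-/

set_option autoImplicit false
set_option linter.style.haveILetI false

universe u v

namespace Cfsg.Lib.FusionSys

open Cfsg Cfsg.FusionSystem

variable {Ω : Type u} [Group Ω] {S : Subgroup Ω} {F : FusionSystem S} {p : ℕ}
variable {G : Type v} [Group G] {ι : S →* G}

/-- The part of `S` mapped into `N`. -/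
def normalPart (ι : S →* G) (N : Subgroup G) : Subgroup Ω := (N.comap ι).map S.subtype

theorem normalPart_le (ι : S →* G) (N : Subgroup G) : normalPart ι N ≤ S := by
  rintro _ ⟨x, -, rfl⟩; exact x.2

theorem mem_normalPart {N : Subgroup G} {x : Ω} (hx : x ∈ S) :
    x ∈ normalPart ι N ↔ ι ⟨x, hx⟩ ∈ N := by
  constructor
  · rintro ⟨y, hy, rfl⟩; exact hy
  · exact fun h => ⟨⟨x, hx⟩, h, rfl⟩

/-- The maps induced by the elements of `N` on the part of `S` mapped into `N`. -/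
def normalSystem (F : FusionSystem S) (ι : S →* G) (N : Subgroup G) (hr : F.IsRealizedBy ι) :
    FusionSystem (normalPart ι N) where
  Hom P := {φ | ∃ hφ : φ ∈ F.Hom P, P ≤ normalPart ι N ∧ (∀ x, φ x ∈ normalPart ι N) ∧
    ∃ h ∈ N, ∀ x : P, ι ⟨φ x, (F.le_of_mem hφ).2 x⟩ = h * ι ⟨x, (F.le_of_mem hφ).1 x.2⟩ * h⁻¹}
  le_of_mem := by rintro P φ ⟨-, h1, h2, -⟩; exact ⟨h1, h2⟩
  injective_of_mem := by rintro P φ ⟨hφ, -⟩; exact F.injective_of_mem hφ
  conj_mem := by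
    intro P g hP hg
    have hgS := normalPart_le ι N hg
    refine ⟨F.conj_mem (hP.trans (normalPart_le ι N)) hgS, hP,
      fun x => Subgroup.mul_mem _ (Subgroup.mul_mem _ hg (hP x.2)) (Subgroup.inv_mem _ hg),
      ι ⟨g, hgS⟩, (mem_normalPart hgS).1 hg, fun x => ?_⟩
    rw [← map_inv, ← map_mul, ← map_mul]
    rfl
  comp_mem := by
    rintro P Q φ ψ ⟨hφ, hP, hv, g, hg, hge⟩ ⟨hψ, hQ, hw, k, hk, hke⟩ h
    refine ⟨F.comp_mem hφ hψ h, hP, fun x => hw _, k * g, N.mul_mem hk hg, fun x => ?_⟩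
    refine (hke ⟨φ x, h x⟩).trans ?_
    rw [show ι ⟨((⟨φ x, h x⟩ : Q) : Ω), (F.le_of_mem hψ).1 (h x)⟩ = ι ⟨φ x, (F.le_of_mem hφ).2 x⟩ from rfl,
      hge x]
    group
  inv_mem := by
    rintro P φ ⟨hφ, hP, hv, g, hg, hge⟩
    obtain ⟨ψ, hψ, hψe⟩ := F.inv_mem hφ
    refine ⟨ψ, ⟨hψ, ?_, ?_, g⁻¹, N.inv_mem hg, ?_⟩, hψe⟩
    · rintro _ ⟨x, rfl⟩; exact hv x
    · rintro ⟨_, x, rfl⟩; rw [hψe x]; exact hP x.2
    · rintro ⟨_, x, rfl⟩
      rw [show (⟨ψ ⟨φ x, ⟨x, rfl⟩⟩, (F.le_of_mem hψ).2 ⟨φ x, ⟨x, rfl⟩⟩⟩ : S) =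
        ⟨(x : Ω), (F.le_of_mem hφ).1 x.2⟩ from Subtype.ext (hψe x), hge x]
      group

/-- The restriction of `ι` to the part mapped into `N`. -/
def normalPartHom (ι : S →* G) (N : Subgroup G) : normalPart ι N →* N :=
  (ι.comp (Subgroup.inclusion (normalPart_le ι N))).codRestrict N fun x =>
    (mem_normalPart (normalPart_le ι N x.2)).1 x.2

theorem isRealizedBy_normalSystem (hr : F.IsRealizedBy ι) (N : Subgroup G) :
    (normalSystem F ι N hr).IsRealizedBy (normalPartHom ι N) := by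
  refine ⟨fun a b hab => ?_, fun P hP φ hv => ⟨?_, ?_⟩⟩
  · exact Subtype.ext (congrArg (fun z : S => (z : Ω)) (hr.1 (congrArg Subtype.val hab) :
      Subgroup.inclusion (normalPart_le ι N) a = Subgroup.inclusion (normalPart_le ι N) b) :)
  · rintro ⟨hφ, -, -, h, hh, he⟩
    exact ⟨⟨h, hh⟩, fun x => Subtype.ext (he x)⟩
  · rintro ⟨⟨h, hh⟩, he⟩
    have hv' : ∀ x, φ x ∈ S := fun x => normalPart_le ι N (hv x)
    have hφ : φ ∈ F.Hom P := (hr.2 P (hP.trans (normalPart_le ι N)) φ hv').2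
      ⟨h, fun x => congrArg Subtype.val (he x)⟩
    exact ⟨hφ, hP, hv, h, hh, fun x => congrArg Subtype.val (he x)⟩

theorem range_normalPartHom (ι : S →* G) (N : Subgroup G) :
    (normalPartHom ι N).range = (ι.range ⊓ N).subgroupOf N := by
  ext y
  constructor
  · rintro ⟨x, rfl⟩
    exact ⟨⟨_, rfl⟩, ((normalPartHom ι N) x).2⟩
  · rintro ⟨⟨x, hx⟩, hy⟩
    refine ⟨⟨x, (mem_normalPart x.2).2 (by rw [show (⟨(x : Ω), x.2⟩ : S) = x from rfl, hx]; exact hy)⟩,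
      Subtype.ext hx⟩

theorem exists_sylow_normalPart [Finite G] [Fact p.Prime] (T : Sylow p G) (hT : (T : Subgroup G) = ι.range)
    (N : Subgroup G) [N.Normal] :
    ∃ R : Sylow p N, (R : Subgroup N) = (normalPartHom ι N).range := by
  rw [range_normalPartHom, ← hT]
  have hp : IsPGroup p (((T : Subgroup G) ⊓ N).subgroupOf N) :=
    (T.isPGroup'.to_le inf_le_left).of_equiv (Subgroup.subgroupOfEquivOfLe inf_le_right).symm
  obtain ⟨R, hR⟩ := hp.exists_le_sylow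
  refine ⟨R, le_antisymm (fun x hx => ?_) hR⟩
  have h1 := sylow_inf_maximal T N (Subgroup.map_subtype_le (R : Subgroup N)) (R.isPGroup'.map _)
    (fun y hy => ⟨⟨y, hy.2⟩, hR hy, rfl⟩)
  exact h1.le ⟨x, hx, rfl⟩

theorem isNormalIn_normalSystem [Finite S] [Finite G] [Fact p.Prime] (hr : F.IsRealizedBy ι)
    (Tg : Sylow p G) (hT : (Tg : Subgroup G) = ι.range) (N : Subgroup G) [N.Normal] :
    (normalSystem F ι N hr).IsNormalIn F p := by
  set T := normalPart ι N with hTdef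
  have hTS : T ≤ S := normalPart_le ι N
  haveI : Finite T := finite_of_le hTS
  have hmemT : ∀ {y : G}, y ∈ (Tg : Subgroup G) ⊓ N ↔ ∃ t : T, ι ⟨t, hTS t.2⟩ = y := by
    intro y
    constructor
    · rintro ⟨h1, h2⟩
      obtain ⟨x, rfl⟩ := hT.le h1
      exact ⟨⟨x, (mem_normalPart x.2).2 h2⟩, rfl⟩
    · rintro ⟨t, rfl⟩
      exact ⟨hT.ge ⟨_, rfl⟩, (mem_normalPart (hTS t.2)).1 t.2⟩
  have hautT : ∀ (a : G), a ∈ Subgroup.normalizer (((Tg : Subgroup G) ⊓ N : Subgroup G) : Set G) →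
      ∃ α ∈ F.autGroup T, ∀ t : T, ι ⟨(α t : T), hTS (α t).2⟩ = a * ι ⟨t, hTS t.2⟩ * a⁻¹ := by
    intro a ha
    have hrange : ∀ t : T, a * ι ⟨t, hTS t.2⟩ * a⁻¹ ∈ (Tg : Subgroup G) ⊓ N := fun t =>
      (Subgroup.mem_normalizer_iff.1 ha _).1 (hmemT.2 ⟨t, rfl⟩)
    obtain ⟨φ, hφ, he⟩ := exists_hom_of_realized hr hTS a (fun t => hT.le (hrange t).1)
    have hv : ∀ t, φ t ∈ T := fun t => (mem_normalPart (hom_mem hφ t)).2 (by rw [he t]; exact (hrange t).2)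
    have hran := range_eq_of_card_le hφ hTS hv le_rfl
    exact ⟨homIso hφ hran, (mem_autGroup hTS).2 (isoIn_homIso hφ hran), he⟩
  refine ⟨⟨isSaturated_of_realized (isRealizedBy_normalSystem hr N) (exists_sylow_normalPart Tg hT N),
    isSaturated_of_realized hr ⟨Tg, hT⟩, fun P φ hφ => hφ.1, ⟨hTS, ?_⟩, ?_, ?_⟩, ?_⟩
  · intro R hR φ hφ x
    obtain ⟨g, hg⟩ := exists_of_realized hr hφ
    refine (mem_normalPart (hom_mem hφ x)).2 ?_
    rw [hg x]
    exact Subgroup.Normal.conj_mem inferInstance _ ((mem_normalPart _).1 (hR x.2)) g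
  · rintro P hPT φ ⟨hφ, -, hv, h, hhN, hh⟩ α hα
    obtain ⟨a, ha⟩ := exists_of_realized hr ((mem_autGroup hTS).1 hα)
    set P' := (P.subgroupOf T).map (T.subtype.comp α.toMonoidHom)
    have hP'T : P' ≤ T := by rintro _ ⟨t, -, rfl⟩; exact (α t).2
    have key : ∀ (t : T) (ht : (t : Ω) ∈ P), a * h * a⁻¹ * ι ⟨(α t : T), hTS (α t).2⟩ * (a * h * a⁻¹)⁻¹ =
        ι ⟨(α ⟨φ ⟨t, ht⟩, hv _⟩ : T), hTS (α _).2⟩ := by
      intro t ht
      refine Eq.trans ?_ (ha ⟨φ ⟨t, ht⟩, hv _⟩).symm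
      rw [show ι ⟨(α t : T), hTS (α t).2⟩ = a * ι ⟨t, hTS t.2⟩ * a⁻¹ from ha t,
        show ι ⟨((⟨φ ⟨t, ht⟩, hv _⟩ : T) : Ω), hTS (hv _)⟩ = h * ι ⟨t, hTS t.2⟩ * h⁻¹ from hh ⟨t, ht⟩]
      group
    obtain ⟨χ, hχ, hχe⟩ := exists_hom_of_realized hr (hP'T.trans hTS) (a * h * a⁻¹) (by
      rintro ⟨_, t, ht, rfl⟩
      exact ⟨_, (key t ht).symm⟩)
    have hN : a * h * a⁻¹ ∈ N := Subgroup.Normal.conj_mem inferInstance h hhN a
    refine ⟨χ, ⟨hχ, hP'T, fun y => (mem_normalPart (hom_mem hχ y)).2 ?_, a * h * a⁻¹, hN, hχe⟩, ?_⟩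
    · rw [hχe y]
      exact Subgroup.Normal.conj_mem inferInstance _ ((mem_normalPart _).1 (hP'T y.2)) _
    · intro x hφx hαx
      exact congrArg Subtype.val (hr.1 ((hχe ⟨_, hαx⟩).trans (key ⟨x, hPT x.2⟩ x.2)))
  · intro P hPT φ hφ
    obtain ⟨g, hg⟩ := exists_of_realized hr hφ
    have hvT : ∀ x, φ x ∈ T := fun x => (mem_normalPart (hom_mem hφ x)).2 (by
      rw [hg x]; exact Subgroup.Normal.conj_mem inferInstance _ ((mem_normalPart _).1 (hPT x.2)) g)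
    obtain ⟨a, ha, h, hhN, rfl⟩ := exists_normalizer_factor Tg N g
    obtain ⟨α, hα, hαe⟩ := hautT a ha
    have hrange : ∀ x : P, h * ι ⟨x, hom_le hφ x.2⟩ * h⁻¹ ∈ (Tg : Subgroup G) ⊓ N := fun x => by
      have h1 := (Subgroup.mem_normalizer_iff''.1 ha _).1 (hmemT.2 ⟨⟨φ x, hvT x⟩, rfl⟩)
      rw [show ι ⟨((⟨φ x, hvT x⟩ : T) : Ω), hTS (hvT x)⟩ = _ from hg x] at h1
      have h2 : h * ι ⟨x, hom_le hφ x.2⟩ * h⁻¹ = a⁻¹ * (a * h * ι ⟨x, hom_le hφ x.2⟩ * (a * h)⁻¹) * a := by group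
      rw [h2]
      exact h1
    obtain ⟨φ₀, hφ₀, hφ₀e⟩ := exists_hom_of_realized hr (hom_le hφ) h (fun x => hT.le (hrange x).1)
    refine ⟨α, hα, φ₀, ⟨hφ₀, hPT, fun x => (mem_normalPart (hom_mem hφ₀ x)).2 ?_, h, hhN, hφ₀e⟩, fun x hx => ?_⟩
    · rw [hφ₀e x]; exact (hrange x).2
    · refine congrArg Subtype.val (hr.1 (a₁ := ⟨φ x, hom_mem hφ x⟩) (a₂ := ⟨_, hTS (α ⟨φ₀ x, hx⟩).2⟩) ?_)
      rw [hg x, hαe, show ι ⟨((⟨φ₀ x, hx⟩ : T) : Ω), hTS hx⟩ = _ from hφ₀e x]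
      group
  · intro α hα
    rw [mem_autGroup le_rfl] at hα
    obtain ⟨hαF, -, -, h, hhN, hh⟩ := hα
    have hhT : h ∈ Subgroup.normalizer (((Tg : Subgroup G) ⊓ N : Subgroup G) : Set G) := by
      refine Subgroup.mem_normalizer_fintype fun y hy => ?_
      obtain ⟨t, rfl⟩ := hmemT.1 hy
      exact hmemT.2 ⟨α t, hh t⟩
    obtain ⟨h', hh'N, hh'T, hh'C, hdiff⟩ := exists_normalizing_centralizer Tg N hhN hhT
    set CS := centralizerIn (Tg : Subgroup G) ((Tg : Subgroup G) ⊓ N)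
    set Q := T ⊔ centralizerIn S T
    have hQS : Q ≤ S := sup_le hTS (centralizerIn_le T)
    have hCS : ∀ c : S, (c : Ω) ∈ centralizerIn S T → ι c ∈ CS := fun c hc => ⟨hT.ge ⟨c, rfl⟩, by
      refine Subgroup.mem_centralizer_iff.2 fun y hy => ?_
      obtain ⟨t, rfl⟩ := hmemT.1 hy
      rw [← map_mul, ← map_mul]
      exact congrArg ι (Subtype.ext (Subgroup.mem_centralizer_iff.1 hc.2 t t.2))⟩
    have hCS' : ∀ c : S, ι c ∈ CS → (c : Ω) ∈ centralizerIn S T := fun c hc => ⟨c.2, by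
      refine Subgroup.mem_centralizer_iff.2 fun t ht => ?_
      have h1 := Subgroup.mem_centralizer_iff.1 hc.2 _ (hmemT.2 ⟨⟨t, ht⟩, rfl⟩)
      rw [← map_mul, ← map_mul] at h1
      exact congrArg Subtype.val (hr.1 h1)⟩
    have hle : (Q.subgroupOf S).map ((MulAut.conj h').toMonoidHom.comp ι) ≤ imageOf ι Q := by
      rw [Subgroup.subgroupOf_sup hTS (centralizerIn_le T), Subgroup.map_sup, sup_le_iff]
      constructor
      · rintro _ ⟨x, hx, rfl⟩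
        obtain ⟨t, ht⟩ := hmemT.1 ((Subgroup.mem_normalizer_iff.1 hh'T _).1 (hmemT.2 ⟨⟨x, hx⟩, rfl⟩))
        exact ⟨⟨t, hTS t.2⟩, Subgroup.mem_sup_left t.2, ht⟩
      · rintro _ ⟨x, hx, rfl⟩
        have h1 := (Subgroup.mem_normalizer_iff.1 hh'C _).1 (hCS x hx)
        obtain ⟨d, hd⟩ := hT.le h1.1
        exact ⟨d, Subgroup.mem_sup_right (hCS' d (by rw [hd]; exact h1)), hd⟩
    obtain ⟨β, hβ, hβe⟩ := exists_hom_of_realized hr hQS h' fun x => by
      obtain ⟨d, -, hd⟩ := hle ⟨⟨x, hQS x.2⟩, x.2, rfl⟩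
      exact ⟨d, hd⟩
    have hβv : ∀ x, β x ∈ Q := fun x => by
      obtain ⟨d, hd, hde⟩ := hle ⟨⟨x, hQS x.2⟩, x.2, rfl⟩
      rw [show β x = (d : Ω) from congrArg Subtype.val (hr.1 ((hβe x).trans hde.symm))]
      exact hd
    have hran := range_eq_of_card_le hβ hQS hβv le_rfl
    refine ⟨homIso hβ hran, (mem_autGroup hQS).2 (isoIn_homIso hβ hran), fun x => ?_, fun c hc => ?_⟩
    · rw [coe_homIso]
      refine congrArg Subtype.val (hr.1 ((hβe (Subgroup.inclusion le_sup_left x)).trans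
        ((?_ : _ = h * ι ⟨x, hTS x.2⟩ * h⁻¹).trans (hh x).symm)))
      show h' * ι ⟨(x : Ω), _⟩ * h'⁻¹ = _
      have h1 := Subgroup.mem_centralizer_iff.1 hdiff _ (hmemT.2 ⟨x, rfl⟩)
      calc h' * ι ⟨x, hTS x.2⟩ * h'⁻¹ = h' * (ι ⟨x, hTS x.2⟩ * (h'⁻¹ * h)) * h⁻¹ := by group
        _ = h' * ((h'⁻¹ * h) * ι ⟨x, hTS x.2⟩) * h⁻¹ := by rw [h1]
        _ = h * ι ⟨x, hTS x.2⟩ * h⁻¹ := by group
    · rw [coe_homIso]
      have hcS : (c : Ω) ∈ S := hQS c.2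
      have h1 := (Subgroup.mem_normalizer_iff.1 hh'C _).1 (hCS ⟨c, hcS⟩ hc)
      have hd : β c ∈ centralizerIn S T := hCS' ⟨β c, hom_mem hβ c⟩ (by rw [hβe c]; exact h1)
      refine ⟨?_, Subgroup.mul_mem _ (Subgroup.inv_mem _ hc.2) hd.2⟩
      refine (mem_normalPart (S.mul_mem (S.inv_mem hcS) (hom_mem hβ c))).2 ?_
      rw [show (⟨(c : Ω)⁻¹ * β c, _⟩ : S) = ⟨c, hcS⟩⁻¹ * ⟨β c, hom_mem hβ c⟩ from rfl, map_mul, map_inv, hβe c]
      have h2 : (ι ⟨c, hcS⟩)⁻¹ * h' * (ι ⟨c, hcS⟩)⁻¹⁻¹ ∈ N :=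
        Subgroup.Normal.conj_mem inferInstance _ hh'N _
      have h3 := N.mul_mem h2 (N.inv_mem hh'N)
      simpa [mul_assoc] using h3

/-- A realizable simple system is realized by a simple group. -/
theorem exists_simple_of_realizable {Ω : Type u} [Group Ω] {S : Subgroup Ω} [Finite S] (p : ℕ) [Fact p.Prime]
    (hS : IsPGroup p S) (F : FusionSystem S) (hsimple : F.IsSimple p) (hreal : F.IsRealizable p) :
    ∃ (G : Type u) (_ : Group G) (_ : Finite G) (_ : IsSimpleGroup G) (ι : ↥S →* G),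
      F.IsRealizedBy ι ∧ ∃ T : Sylow p G, (T : Subgroup G) = ι.range := by
  suffices key : ∀ (n : ℕ) (G : Type u) (_ : Group G) (_ : Finite G) (ι : ↥S →* G), Nat.card G = n →
      F.IsRealizedBy ι → (∃ T : Sylow p G, (T : Subgroup G) = ι.range) →
      ∃ (G : Type u) (_ : Group G) (_ : Finite G) (_ : IsSimpleGroup G) (ι : ↥S →* G),
        F.IsRealizedBy ι ∧ ∃ T : Sylow p G, (T : Subgroup G) = ι.range by
    obtain ⟨G, i1, i2, ι, hr, hT⟩ := hreal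
    exact key _ G i1 i2 ι rfl hr hT
  intro n
  induction n using Nat.strong_induction_on with
  | _ n ih =>
    intro G _ _ ι hn hr hT
    obtain ⟨Tg, hTg⟩ := hT
    by_cases hsG : IsSimpleGroup G
    · exact ⟨G, inferInstance, inferInstance, hsG, ι, hr, Tg, hTg⟩
    haveI : Nontrivial S := (Subgroup.nontrivial_iff_ne_bot S).2 hsimple.2.1
    haveI : Nontrivial G := hr.1.nontrivial
    obtain ⟨N, hN, hN0, hN1⟩ : ∃ N : Subgroup G, N.Normal ∧ N ≠ ⊥ ∧ N ≠ ⊤ := by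
      by_contra h
      push Not at h
      exact hsG ⟨fun H hH => (em (H = ⊥)).imp_right (h H hH)⟩
    by_cases hcop : (Nat.card N).Coprime p
    · have hlt : Nat.card (G ⧸ N) < n := by
        rw [← hn, Subgroup.card_eq_card_quotient_mul_card_subgroup N]
        exact lt_mul_of_one_lt_right Nat.card_pos (Finite.one_lt_card_iff_nontrivial.2
          ((Subgroup.nontrivial_iff_ne_bot N).2 hN0))
      refine ih _ hlt (G ⧸ N) inferInstance inferInstance ((QuotientGroup.mk' N).comp ι) rfl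
        (isRealizedBy_mod hS hr N hcop) ⟨Tg.mapSurjective (QuotientGroup.mk'_surjective N), ?_⟩
      rw [Sylow.coe_mapSurjective, hTg, MonoidHom.map_range]
    · have hdvd : p ∣ Nat.card N := by
        by_contra h
        exact hcop ((Fact.out : p.Prime).coprime_iff_not_dvd.2 h).symm
      obtain ⟨R, hR⟩ := exists_sylow_normalPart Tg hTg N
      rcases hsimple.2.2 _ _ (isNormalIn_normalSystem hr Tg hTg N) with h0 | ⟨hTS, hhom⟩
      · exfalso
        have h2 : (R : Subgroup N) = ⊥ := by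
          rw [hR, eq_bot_iff]
          rintro _ ⟨x, rfl⟩
          rw [Subgroup.mem_bot, show x = 1 from Subtype.ext ((Subgroup.eq_bot_iff_forall _).1 h0 _ x.2), map_one]
        exact R.ne_bot_of_dvd_card hdvd h2
      · have hall : ∀ x : S, ι x ∈ N := fun x => (mem_normalPart x.2).1 (hTS.ge x.2)
        have hlt : Nat.card N < n := by
          rw [← hn]
          refine lt_of_le_of_ne (Subgroup.card_le_card_group N) fun h => hN1 ?_
          exact Subgroup.eq_top_of_card_eq N h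
        refine ih _ hlt N inferInstance inferInstance (ι.codRestrict N hall) rfl ?_ ⟨R, ?_⟩
        · refine ⟨fun a b hab => hr.1 (congrArg Subtype.val hab), fun P hP φ hv => ⟨fun hφ => ?_, ?_⟩⟩
          · obtain ⟨hφ', -, -, h, hh, he⟩ := (hhom P).ge hφ
            exact ⟨⟨h, hh⟩, fun x => Subtype.ext (he x)⟩
          · rintro ⟨g, hg⟩
            exact (hr.2 P hP φ hv).2 ⟨g, fun x => congrArg Subtype.val (hg x)⟩
        · rw [hR, range_normalPartHom]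
          ext y
          exact ⟨fun ⟨⟨x, hx⟩, _⟩ => ⟨x, Subtype.ext hx⟩, fun ⟨x, hx⟩ =>
            ⟨⟨x, congrArg Subtype.val hx⟩, y.2⟩⟩

end Cfsg.Lib.FusionSys
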