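import Cfsg.Agent.Lib.FusionSys.WeaklyEmbedded
import Cfsg.Agent.Lib.FusionSys.QdFree

/-!
The nilpotency criterion by weakly embedded subgroups.
-/

set_option autoImplicit false
set_option linter.style.haveILetI false

universe u

namespace Cfsg.Lib.FusionSys

open Cfsg Cfsg.FusionSystem
open scoped commutatorElement

variable {p : ℕ} [Fact p.Prime] {Ω : Type u} [Group Ω] {S : Subgroup Ω} {F : FusionSystem S}

omit [Fact p.Prime] in
theorem stronglyClosed_inf {X Y : Subgroup Ω} (hX : F.StronglyClosed X) (hY : F.StronglyClosed Y) :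
    F.StronglyClosed (X ⊓ Y) :=
  ⟨inf_le_left.trans hX.1, fun R hR φ hφ x =>
    ⟨hX.2 R (hR.trans inf_le_left) φ hφ x, hY.2 R (hR.trans inf_le_right) φ hφ x⟩⟩

omit [Fact p.Prime] in
theorem commute_of_inf_eq_bot {X Y : Subgroup Ω} (hX : F.StronglyClosed X) (hY : F.StronglyClosed Y)
    (h : X ⊓ Y = ⊥) {x y : Ω} (hx : x ∈ X) (hy : y ∈ Y) : x * y = y * x := by
  have h1 : x * y * x⁻¹ * y⁻¹ ∈ X ⊓ Y := by
    refine ⟨?_, Y.mul_mem (conj_mem_of_stronglyClosed_weaklyEmbedded hY (hX.1 hx) hy) (Y.inv_mem hy)⟩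
    have := X.mul_mem hx (conj_mem_of_stronglyClosed_weaklyEmbedded hX (hY.1 hy) (X.inv_mem hx))
    simpa [mul_assoc] using this
  rw [h, Subgroup.mem_bot] at h1
  calc x * y = x * y * x⁻¹ * y⁻¹ * (y * x) := by group
    _ = y * x := by rw [h1, one_mul]

theorem exists_minimal_stronglyClosed [Finite S] {X : Subgroup Ω} (hX : F.StronglyClosed X) (hne : X ≠ ⊥) :
    ∃ Z, Z ≤ X ∧ F.StronglyClosed Z ∧ Z ≠ ⊥ ∧
      ∀ Y, F.StronglyClosed Y → Y ≤ Z → Y ≠ ⊥ → Y = Z := by
  let f : Subgroup S → Subgroup Ω := fun K => K.map S.subtype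
  have hf : ∀ Y : Subgroup Ω, Y ≤ S → f (Y.subgroupOf S) = Y := fun Y hY => by simp [f, hY]
  obtain ⟨K, hle, hK, hmin⟩ := Finite.exists_le_minimal (α := Subgroup S) (a := X.subgroupOf S)
    (p := fun K : Subgroup S => F.StronglyClosed (f K) ∧ f K ≠ ⊥)
    (by simp only [hf X hX.1]; exact ⟨hX, hne⟩)
  refine ⟨f K, fun z hz => ?_, hK.1, hK.2, fun Y hY hle' hYne => ?_⟩
  · obtain ⟨k, hk, rfl⟩ := hz
    exact hle hk
  · have h1 : Y.subgroupOf S ≤ K := fun y hy => by
      obtain ⟨k, hk, he⟩ := hle' hy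
      rwa [show y = k from (Subtype.ext he).symm]
    rw [← hf Y hY.1, le_antisymm h1 (hmin (by simp only [hf Y hY.1]; exact ⟨hY, hYne⟩) h1)]

theorem exists_central_element [Finite S] (hS : IsPGroup p S) {X : Subgroup Ω} (hX : F.StronglyClosed X)
    (hne : X ≠ ⊥) : ∃ u, u ∈ X ∧ orderOf u = p ∧ ∀ s ∈ S, s * u = u * s := by
  haveI : (X.subgroupOf S).Normal :=
    ⟨fun x hx g => conj_mem_of_stronglyClosed_weaklyEmbedded hX g.2 hx⟩
  obtain ⟨u, hu, huc, hup⟩ := Cfsg.Lib.PGroup.exists_mem_center_orderOf_eq hS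
    (N := X.subgroupOf S) (by rw [Ne, Subgroup.subgroupOf_eq_bot, disjoint_iff, inf_eq_left.2 hX.1]; exact hne)
  exact ⟨u, hu, by rw [Subgroup.orderOf_coe]; exact hup, fun s hs =>
    congrArg Subtype.val (Subgroup.mem_center_iff.1 huc ⟨s, hs⟩)⟩

section Quotient

variable {Ω' : Type u} [Group Ω'] {S' : Subgroup Ω'} {θ : S →* Ω'} {E : FusionSystem S'}

omit [Fact p.Prime] in
theorem card_preimageAlong [Finite S] {Z : Subgroup Ω} (hE : F.IsFactorSystem Z θ E) {P' : Subgroup Ω'}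
    (hP' : P' ≤ S') : Nat.card (preimageAlong θ P') = Nat.card Z * Nat.card P' := by
  rw [← card_range_inf hE.1 hE.2.1 hE.2.2.1 hP', preimageAlong, Subgroup.card_subtype]

omit [Fact p.Prime] in
theorem stronglyClosed_imageAlong_weaklyEmbeddedMain [Finite S] {Z X : Subgroup Ω} (hZ : F.StronglyClosed Z)
    (hE : F.IsFactorSystem Z θ E) (hX : F.StronglyClosed X) (hZX : Z ≤ X) :
    E.StronglyClosed (imageAlong θ X) := by
  obtain ⟨-, hker, hrange, hiff⟩ := hE
  refine ⟨fun y hy => ?_, fun R' hR' φ' hφ' y => ?_⟩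
  · obtain ⟨x, hx, -, rfl⟩ := mem_imageAlong.1 hy
    exact hrange.le ⟨_, rfl⟩
  · obtain ⟨hR'S, φ, hφ, hind⟩ := (hiff _ _).1 hφ'
    obtain ⟨x, hx⟩ := exists_lift_val hrange hR'S y
    rw [inducedAlong_apply hind hx.symm (hx' := hom_mem hφ x)]
    refine mem_imageAlong.2 ⟨φ x, hom_mem hφ x, hX.2 _ ?_ φ hφ x, rfl⟩
    intro z hz
    have h := mem_preimageAlong.1 hz
    have h1 : z ∈ preimageAlong θ (imageAlong θ X) := mem_preimageAlong.2 ⟨h.1, hR' h.2⟩
    rwa [preimageAlong_imageAlong hZ hker hX.1, sup_eq_left.2 hZX] at h1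

theorem weaklyEmbedded_factor [Finite S] (hS : IsPGroup p S) (hF : F.IsSaturated p) {Z : Subgroup Ω}
    (hZ : F.StronglyClosed Z) (hE : F.IsFactorSystem Z θ E) {z e : ℕ} (hz : Nat.card Z = p ^ z)
    (hze : z ≤ e) (hW : WeaklyEmbeddedAt F p e) : WeaklyEmbeddedAt E p (e - z) := by
  intro Q' hQ' hQc
  set Q₀ := preimageAlong θ Q'
  have hQ₀ : Nat.card Q₀ = p ^ e := by
    rw [card_preimageAlong hE hQ', hz, hQc, ← pow_add, Nat.add_sub_cancel' hze]
  have hZQ : Z ≤ Q₀ := kernel_le_preimageAlong hE.1 hE.2.1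
  obtain ⟨P, hP, hL, hK⟩ := hW Q₀ preimageAlong_le hQ₀
  have hPZ := stronglyClosed_sup hS hF hP hZ
  refine ⟨imageAlong θ (P ⊔ Z), stronglyClosed_imageAlong_weaklyEmbeddedMain hZ hE hPZ le_sup_right, ?_, ?_⟩
  · have he : Q' ⊔ imageAlong θ (P ⊔ Z) = imageAlong θ (Q₀ ⊔ P) := by
      refine le_antisymm (sup_le ?_ ?_) ?_
      · intro y hy
        rw [← imageAlong_preimageAlong hE.2.2.1 hQ'] at hy
        obtain ⟨x, hx, hxQ, rfl⟩ := mem_imageAlong.1 hy
        exact mem_imageAlong.2 ⟨x, hx, Subgroup.mem_sup_left hxQ, rfl⟩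
      · intro y hy
        obtain ⟨x, hx, hxP, rfl⟩ := mem_imageAlong.1 hy
        exact mem_imageAlong.2 ⟨x, hx, (sup_le le_sup_right (hZQ.trans le_sup_left) : P ⊔ Z ≤ Q₀ ⊔ P) hxP, rfl⟩
      · have hle : Q₀ ⊔ P ≤ preimageAlong θ (Q' ⊔ imageAlong θ (P ⊔ Z)) := by
          refine sup_le (fun x hx => ?_) fun x hx => ?_
          · obtain ⟨hxS, h⟩ := mem_preimageAlong.1 hx
            exact mem_preimageAlong.2 ⟨hxS, Subgroup.mem_sup_left h⟩
          · exact mem_preimageAlong.2 ⟨hP.1 hx,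
              Subgroup.mem_sup_right (mem_imageAlong.2 ⟨x, _, Subgroup.mem_sup_left hx, rfl⟩)⟩
        intro y hy
        obtain ⟨x, hx, hxQ, rfl⟩ := mem_imageAlong.1 hy
        exact (mem_preimageAlong.1 (hle hxQ)).2
    rw [he]
    exact stronglyClosed_imageAlong_weaklyEmbeddedMain hZ hE hL (hZQ.trans le_sup_left)
  · have he : Q' ⊓ imageAlong θ (P ⊔ Z) = imageAlong θ ((Q₀ ⊓ P) ⊔ Z) := by
      refine le_antisymm ?_ ?_
      · rintro y ⟨hyQ, hyP⟩
        obtain ⟨x, hx, hxP, rfl⟩ := mem_imageAlong.1 hyP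
        refine mem_imageAlong.2 ⟨x, hx, ?_, rfl⟩
        obtain ⟨a, ha, b, hb, rfl⟩ := exists_mul_of_mem_sup hZ hP.1 hxP
        have hxQ : a * b ∈ Q₀ := mem_preimageAlong.2 ⟨hx, hyQ⟩
        have haQ : a ∈ Q₀ := by
          have := Q₀.mul_mem hxQ (Q₀.inv_mem (hZQ hb))
          rwa [mul_inv_cancel_right] at this
        exact Subgroup.mul_mem _ (Subgroup.mem_sup_left ⟨haQ, ha⟩) (Subgroup.mem_sup_right hb)
      · intro y hy
        obtain ⟨x, hx, hxK, rfl⟩ := mem_imageAlong.1 hy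
        exact ⟨(mem_preimageAlong.1 ((sup_le inf_le_left hZQ : (Q₀ ⊓ P) ⊔ Z ≤ Q₀) hxK)).2,
          mem_imageAlong.2 ⟨x, hx, (sup_le_sup_right inf_le_right Z : (Q₀ ⊓ P) ⊔ Z ≤ P ⊔ Z) hxK, rfl⟩⟩
    rw [he]
    exact stronglyClosed_imageAlong_weaklyEmbeddedMain hZ hE (stronglyClosed_sup hS hF hK hZ) le_sup_right

theorem isPGroup_autGroup_factor [Finite S] [Finite S'] {Z : Subgroup Ω} (hE : F.IsFactorSystem Z θ E)
    {P' : Subgroup Ω'} (hP' : P' ≤ S') (h : IsPGroup p (F.autGroup (preimageAlong θ P'))) :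
    IsPGroup p (E.autGroup P') := by
  rintro ⟨β, hβ⟩
  obtain ⟨-, hker, hrange, hiff⟩ := hE
  set U := preimageAlong θ P'
  haveI := finite_of_le hP'
  obtain ⟨-, ψ, hψ, hind⟩ : P' ≤ S' ∧ ∃ φ ∈ F.Hom U, InducedAlong θ φ (P'.subtype.comp β.toMonoidHom) :=
    (hiff _ _).1 ((mem_autGroup hP').1 hβ)
  have hUS : U ≤ S := preimageAlong_le
  haveI := finite_of_le hUS
  have hv : ∀ x : U, θ ⟨ψ x, hom_mem hψ x⟩ = ((β ⟨_, (mem_preimageAlong.1 x.2).2⟩ : P') : Ω') := fun x =>
    (inducedAlong_apply (x := x) hind rfl).symm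
  have hran : ψ.range = U := range_eq_of_card_le hψ hUS
    (fun x => mem_preimageAlong.2 ⟨hom_mem hψ x, by rw [hv x]; exact (β _).2⟩) le_rfl
  set γ : MulAut U := homIso hψ hran
  obtain ⟨k, hk⟩ := h ⟨γ, (mem_autGroup hUS).2 (isoIn_homIso hψ hran)⟩
  let f : U →* P' := (θ.comp (Subgroup.inclusion hUS)).codRestrict P' fun x => (mem_preimageAlong.1 x.2).2
  have hiter : ∀ (n : ℕ) (x : U), f ((γ ^ n) x) = (β ^ n) (f x) := by
    intro n
    induction n with
    | zero => intro x; simp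
    | succ n ih =>
      intro x
      rw [pow_succ, pow_succ, MulAut.mul_apply, MulAut.mul_apply, ih]
      exact congrArg _ (Subtype.ext (hv x))
  refine ⟨k, Subtype.ext (MulEquiv.ext fun y => ?_)⟩
  obtain ⟨x, hx⟩ := exists_lift_val hrange hP' y
  have hfx : f x = y := Subtype.ext hx
  show (β ^ p ^ k) y = y
  rw [← hfx, ← hiter, show γ ^ p ^ k = 1 from congrArg Subtype.val hk, MulAut.one_apply]

end Quotient

theorem eq_of_le_mul {A B Z : Subgroup Ω} [Finite S] (hA : A ≤ S) (hB : B ≤ S) (hAB : A ⊓ B = ⊥)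
    (hAZ : A ≤ Z) (hBZ : B ≤ Z) : Nat.card A * Nat.card B ≤ Nat.card Z ∨ ¬ Finite Z := by
  by_cases hf : Finite Z
  swap
  · exact Or.inr hf
  left
  rw [← Nat.card_prod]
  refine Nat.card_le_card_of_injective (fun x : A × B => (⟨x.1 * x.2, Z.mul_mem (hAZ x.1.2) (hBZ x.2.2)⟩ : Z))
    fun x y h => Subgroup.mul_injective_of_disjoint (disjoint_iff.2 hAB) (congrArg Subtype.val h)

theorem hyperfocal_eq_bot_of_weaklyEmbedded : ∀ (n : ℕ) {Ω : Type u} [Group Ω] {S : Subgroup Ω}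
    (F : FusionSystem S), Finite S → IsPGroup p S → F.IsSaturated p → Nat.card S = n →
    ∀ e : ℕ, 0 < e → p ^ e < Nat.card S → WeaklyEmbeddedAt F p e →
      (∀ R : Subgroup Ω, R ≤ S → p ^ e ≤ Nat.card R → IsPGroup p (F.autGroup R)) →
        F.hyperfocalSubgroup p = ⊥ := by
  intro n
  induction n using Nat.strong_induction_on with
  | _ n ih =>
  intro Ω _ S F hfin hS hF hn e he0 heS hW hG
  haveI := hfin
  have hp : p.Prime := Fact.out
  set T := F.hyperfocalSubgroup p with hTdef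
  have hTS : T ≤ S := hyperfocal_le F
  have hTn : (T.subgroupOf S).Normal := hyperfocal_subgroupOf_normal
  have hTc : F.StronglyClosed T := stronglyClosed_of_hyperfocal_le hS hF hTn le_rfl hTS
  have hfinM : ∀ P : Subgroup Ω, P ≤ S → Finite (MulAut P) := fun P hP => by
    haveI := finite_of_le hP
    exact Finite.of_injective (fun f => (f : P → P)) DFunLike.coe_injective
  by_contra hTne
  -- the subgroups of order `p`
  rcases (Nat.one_le_iff_ne_zero.2 he0.ne').eq_or_lt with he1 | he1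
  · refine hTne (le_bot_iff.1 (hyperfocal_le_of_coprime fun P hP α hα hcop x => ?_))
    haveI := finite_of_le hP
    by_cases hP1 : P = ⊥
    · subst hP1
      rw [show x = 1 from Subtype.ext (Subgroup.mem_bot.1 x.2)]
      simp
    · have hc : p ^ e ≤ Nat.card P := by
        rw [← he1, pow_one]
        obtain ⟨a, ha⟩ := IsPGroup.iff_card.1 (hS.to_le hP)
        rw [ha]
        refine Nat.le_self_pow (fun h => hP1 ?_) p
        rw [h, pow_zero] at ha
        exact Subgroup.card_eq_one.1 ha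
      obtain ⟨k, hk⟩ := hG P hP hc ⟨α, hα⟩
      have hα1 : α = 1 := orderOf_eq_one_iff.1 (Nat.eq_one_of_dvd_coprimes (hcop.pow_right k) dvd_rfl
        (orderOf_dvd_of_pow_eq_one (congrArg Subtype.val hk)))
      simp [hα1]
  have hpe : p < p ^ e := by
    calc p = p ^ 1 := (pow_one p).symm
      _ < p ^ e := Nat.pow_lt_pow_right hp.one_lt he1
  by_cases hsmall : ∃ Z, F.StronglyClosed Z ∧ Z ≠ ⊥ ∧ Nat.card Z < p ^ e
  · have hTle : ∀ Z, F.StronglyClosed Z → Z ≠ ⊥ → Nat.card Z < p ^ e → T ≤ Z := by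
      intro Z hZ hZne hZe
      haveI := finite_of_le hZ.1
      obtain ⟨z, hz⟩ := IsPGroup.iff_card.1 (hS.to_le hZ.1)
      have hze : z < e := (Nat.pow_lt_pow_iff_right hp.one_lt).1 (hz ▸ hZe)
      haveI hN : (Z.subgroupOf S).Normal := ⟨fun x hx g => conj_mem_of_stronglyClosed_weaklyEmbedded hZ g.2 hx⟩
      set θ := QuotientGroup.mk' (Z.subgroupOf S)
      have hker : ∀ s : S, θ s = 1 ↔ (s : Ω) ∈ Z := fun s => QuotientGroup.eq_one_iff s
      have hrange : θ.range = ⊤ := MonoidHom.range_eq_top.2 (QuotientGroup.mk'_surjective _)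
      obtain ⟨E, hE⟩ := exists_factorSystem (F := F) (S' := (⊤ : Subgroup _)) hZ hker hrange
      have hEs := isSaturated_factor hS hF hZ hE
      have htop : preimageAlong θ (⊤ : Subgroup _) = S :=
        le_antisymm preimageAlong_le fun x hx => mem_preimageAlong.2 ⟨hx, trivial⟩
      have hcS := card_preimageAlong hE (le_refl (⊤ : Subgroup _))
      rw [htop, hz] at hcS
      have hz0 : z ≠ 0 := fun h => hZne (Subgroup.card_eq_one.1 (by rw [hz, h, pow_zero]))
      have hlt : Nat.card ↥(⊤ : Subgroup (S ⧸ Z.subgroupOf S)) < n := by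
        rw [← hn, hcS]
        exact lt_mul_of_one_lt_left Nat.card_pos (Nat.one_lt_pow hz0 hp.one_lt)
      have hres := ih _ hlt E inferInstance ((hS.to_quotient _).to_subgroup ⊤) hEs rfl (e - z)
        (by omega) (by
          refine Nat.lt_of_mul_lt_mul_left (a := p ^ z) ?_
          rw [← pow_add, Nat.add_sub_cancel' hze.le, ← hcS]
          exact heS)
        (weaklyEmbedded_factor hS hF hZ hE hz hze.le hW)
        (fun R' hR' hc => isPGroup_autGroup_factor hE hR' (hG _ preimageAlong_le (by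
          rw [card_preimageAlong hE hR', hz, ← Nat.add_sub_cancel' hze.le, pow_add]
          exact Nat.mul_le_mul_left _ hc)))
      rw [hyperfocal_factor hS hF hZ hE, Subgroup.map_eq_bot_iff] at hres
      intro t ht
      exact (hker ⟨t, hTS ht⟩).1 (hres (show (⟨t, hTS ht⟩ : S) ∈ T.subgroupOf S from ht))
    obtain ⟨Z₀, hZ₀, hZ₀ne, hZ₀e⟩ := hsmall
    haveI := finite_of_le hTS
    have hTe : Nat.card T < p ^ e := by
      haveI := finite_of_le hZ₀.1
      exact lt_of_le_of_lt (Subgroup.card_le_of_le (hTle Z₀ hZ₀ hZ₀ne hZ₀e)) hZ₀e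
    -- every strongly closed subgroup contains `T`
    have hTX : ∀ X, F.StronglyClosed X → X ≠ ⊥ → T ≤ X := by
      intro X hX hXne
      by_cases hXT : X ⊓ T = ⊥
      swap
      · have hlt : Nat.card ↥(X ⊓ T) < p ^ e := lt_of_le_of_lt (Subgroup.card_le_of_le inf_le_right) hTe
        exact (hTle _ (stronglyClosed_inf hX hTc) hXT hlt).trans inf_le_left
      · exfalso
        obtain ⟨u, hu, hup, huc⟩ := exists_central_element hS hX hXne
        have huX : Subgroup.zpowers u ≤ X := Subgroup.zpowers_le.2 hu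
        have hU : F.StronglyClosed (Subgroup.zpowers u) := by
          refine ⟨huX.trans hX.1, fun R hR φ hφ x => ?_⟩
          obtain ⟨c, hc, hcx⟩ := exists_conj_mod hS hF hTn le_rfl hTS R φ hφ
          have hcu : c * (x : Ω) * c⁻¹ = x := by
            obtain ⟨k, hk⟩ := Subgroup.mem_zpowers_iff.1 (hR x.2)
            rw [← hk]
            exact conj_eq_of_commute (Commute.zpow_right (show Commute c u from huc c hc) k).eq
          have h1 := hcx x
          rw [hcu] at h1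
          have h2 : (x : Ω)⁻¹ * φ x ∈ X ⊓ T :=
            ⟨X.mul_mem (X.inv_mem (huX (hR x.2))) (hX.2 R (hR.trans huX) φ hφ x), h1⟩
          rw [hXT, Subgroup.mem_bot, inv_mul_eq_one] at h2
          rw [← h2]
          exact hR x.2
        have hune : Subgroup.zpowers u ≠ ⊥ := by
          rw [Ne, Subgroup.zpowers_eq_bot]
          intro h
          rw [h, orderOf_one] at hup
          exact hp.one_lt.ne hup
        have h := hTle _ hU hune (by rw [Nat.card_zpowers, hup]; exact hpe)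
        exact hTne (le_bot_iff.1 (hXT ▸ le_inf (h.trans huX) le_rfl))
    have hkey : ∀ Q : Subgroup Ω, Q ≤ S → Nat.card Q = p ^ e → Q ⊓ T ≠ ⊥ → T ≤ Q := by
      intro Q hQS hQ hQT
      obtain ⟨P, hP, hL, hK⟩ := hW Q hQS hQ
      by_cases hP1 : P = ⊥
      · rw [hP1, sup_bot_eq] at hL
        exact hTX Q hL fun h => hQT (by rw [h, bot_inf_eq])
      · refine (hTX _ hK ?_).trans inf_le_left
        intro h
        exact hQT (le_bot_iff.1 (h ▸ inf_le_inf_left Q (hTX P hP hP1)))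
    -- a maximal subgroup not containing `T`
    have hTate : ¬ T.subgroupOf S ≤ frattini S := by
      intro h
      refine hTne ?_
      have := hom_eq_inner_of_le_frattini hS hF h
      rw [hTdef, fusionSystem_ext this]
      exact hyperfocal_inner hS
    obtain ⟨M, hM, hTM⟩ : ∃ M : Subgroup S, IsCoatom M ∧ ¬ T.subgroupOf S ≤ M := by
      by_contra! h
      exact hTate (le_iInf₂ fun M hM => h M hM)
    haveI : Group.IsNilpotent S := hS.isNilpotent
    haveI hMn : M.Normal :=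
      Subgroup.NormalizerCondition.normal_of_coatom M Group.normalizerCondition_of_isNilpotent hM
    have hMp : M.index = p := Cfsg.Lib.PGroup.index_of_isCoatom hS hM
    have hMT : M ⊓ T.subgroupOf S = ⊥ := by
      by_contra h
      obtain ⟨u, hu, hu1⟩ := (Subgroup.bot_or_exists_ne_one _).resolve_left h
      have hMc : p ^ e ≤ Nat.card M := by
        obtain ⟨a, ha⟩ := IsPGroup.iff_card.1 (hS.to_subgroup M)
        have h1 := M.card_mul_index
        rw [hMp, ha] at h1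
        rw [ha]
        rw [← h1, ← pow_succ] at heS
        exact Nat.pow_le_pow_right hp.pos (Nat.lt_succ_iff.1 ((Nat.pow_lt_pow_iff_right hp.one_lt).1 heS))
      have hcz : Nat.card (Subgroup.zpowers (u : Ω)) ≤ p ^ e :=
        (Subgroup.card_le_of_le (Subgroup.zpowers_le.2 (show (u : Ω) ∈ T from hu.2))).trans hTe.le
      obtain ⟨Q, hUQ, hQM, hQ⟩ := exists_subgroup_between hS
        (Subgroup.zpowers_le.2 ⟨u, hu.1, rfl⟩ : Subgroup.zpowers (u : Ω) ≤ M.map S.subtype)
        (Subgroup.map_subtype_le M) hcz (by rwa [Subgroup.card_subtype])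
      have := hkey Q (hQM.trans (Subgroup.map_subtype_le M)) hQ fun h0 => hu1 (Subtype.ext
        (Subgroup.mem_bot.1 (h0 ▸ (⟨hUQ (Subgroup.mem_zpowers _), hu.2⟩ : (u : Ω) ∈ Q ⊓ T))))
      refine hTM fun t ht => ?_
      obtain ⟨m, hm, he'⟩ := (this.trans hQM) ht
      rwa [show t = m from (Subtype.ext he').symm]
    have hTp : Nat.card (T.subgroupOf S) = p := by
      have h1 := Subgroup.relIndex_dvd_index_of_normal M (T.subgroupOf S)
      rw [hMp, ← Subgroup.inf_relIndex_right, hMT, Subgroup.relIndex_bot_left] at h1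
      refine (hp.eq_one_or_self_of_dvd _ h1).resolve_left fun h => hTne ?_
      rw [Nat.card_congr (Subgroup.subgroupOfEquivOfLe hTS).toEquiv] at h
      exact Subgroup.card_eq_one.1 h
    haveI := hTn
    have hTcen : ∀ t ∈ T, ∀ s ∈ S, s * t = t * s := fun t ht s hs =>
      congrArg Subtype.val (Subgroup.mem_center_iff.1
        (Cfsg.Lib.PGroup.le_center_of_card_eq_prime hS hTp (show (⟨t, hTS ht⟩ : S) ∈ T.subgroupOf S from ht)) ⟨s, hs⟩)
    have hTn' : F.IsFullyNormalized T := ⟨hTS, fun Q _ => by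
      rw [show normalizerIn S T = S from le_antisymm (normalizerIn_le T) fun g hg => ⟨hg, sup_normalizer_le hTc hg⟩]
      exact card_le_of_le (normalizerIn_le Q)⟩
    have hTrec := isReceptive_of_fc hS hF (isFullyAutomized_and_fc_of_fn hS hF hTn').1
    refine hTne (le_bot_iff.1 (hyperfocal_le_of_coprime fun P hP α hα hcop x => ?_))
    have hdT := mem_hyperfocal_of_coprime (F := F) hP hα hcop x
    rw [Subgroup.mem_bot]
    by_contra hd
    haveI := finite_of_le hP
    have hTP : T ≤ P := by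
      intro t ht
      have hdP : (x : Ω)⁻¹ * ((α x : P) : Ω) ∈ P := P.mul_mem (P.inv_mem x.2) (α x).2
      haveI hcT : Nat.card T = p → Subgroup.zpowers ((x : Ω)⁻¹ * ((α x : P) : Ω)) = T := fun hc =>
        Subgroup.eq_of_le_of_card_ge (Subgroup.zpowers_le.2 hdT) (by
          rw [hc, Nat.card_zpowers]
          obtain ⟨j, hj⟩ := IsPGroup.iff_orderOf.1 (hS.to_le hTS) ⟨_, hdT⟩
          rw [Subgroup.orderOf_mk] at hj
          rw [hj]
          refine Nat.le_self_pow (fun h0 => hd ?_) p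
          rw [h0, pow_zero, orderOf_eq_one_iff] at hj
          exact hj)
      rw [← hcT (by rw [← hTp, Nat.card_congr (Subgroup.subgroupOfEquivOfLe hTS).toEquiv])] at ht
      exact Subgroup.zpowers_le.2 hdP ht
    -- `α` fixes `T`
    have hαT : ∀ t : P, (t : Ω) ∈ T → ((α t : P) : Ω) ∈ T := fun t ht =>
      stronglyClosed_apply_mem hTc ((mem_autGroup hP).1 hα) ht
    have hι := restrict_mem ((mem_autGroup hP).1 hα) hTP
    have hιr : ((P.subtype.comp α.toMonoidHom).comp (Subgroup.inclusion hTP)).range = T :=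
      range_eq_of_card_le hι hTS (fun t => hαT _ t.2) le_rfl
    obtain ⟨ψ, hψ, hψe⟩ := IsReceptive_ext hTrec (isoIn_homIso hι hιr) (N := S) (by
      intro g hg
      refine ⟨hg, sup_normalizer_le hTc hg, 1, S.one_mem, fun a b hab => ?_⟩
      have : b = a := Subtype.ext (hab.trans (conj_eq_of_commute (hTcen a a.2 g hg)))
      simp [this])
    have hψr : ψ.range = S := range_eq_of_card_le hψ le_rfl (hom_mem hψ) le_rfl
    set δ : MulAut S := homIso hψ hψr
    obtain ⟨k, hk⟩ := hG S le_rfl heS.le ⟨δ, (mem_autGroup le_rfl).2 (isoIn_homIso hψ hψr)⟩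
    have hαδ : ∀ (m : ℕ) (t : P), (t : Ω) ∈ T →
        (((δ ^ m) ⟨t, hP t.2⟩ : S) : Ω) = (((α ^ m) t : P) : Ω) ∧ (((α ^ m) t : P) : Ω) ∈ T := by
      intro m
      induction m with
      | zero => exact fun t ht => ⟨rfl, ht⟩
      | succ m ihm =>
        intro t ht
        obtain ⟨h1, h2⟩ := ihm t ht
        rw [pow_succ', pow_succ', MulAut.mul_apply, MulAut.mul_apply,
          show (δ ^ m) ⟨t, hP t.2⟩ = ⟨((α ^ m) t : P), hP ((α ^ m) t).2⟩ from Subtype.ext h1]
        exact ⟨hψe _ h2 (hP ((α ^ m) t).2), hαT _ h2⟩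
    have hfix : ∀ t : P, (t : Ω) ∈ T → α t = t := by
      intro t ht
      have h1 : (α ^ p ^ k) t = t := by
        refine Subtype.ext ?_
        rw [← (hαδ (p ^ k) t ht).1, show δ ^ p ^ k = 1 from congrArg Subtype.val hk]
        rfl
      obtain ⟨m, hm⟩ := exists_pow_eq_self_of_coprime (x := α) (n := p ^ k) (hcop.symm.pow_left k)
      rw [← hm]
      clear hm
      induction m with
      | zero => simp
      | succ m ihm => rw [pow_succ, MulAut.mul_apply, h1, ihm]
    refine hd (inv_mul_eq_one.2 (congrArg Subtype.val ?_).symm)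
    exact eq_one_of_coprime_fix (hS.to_le hP) hcop (hfix _ hdT)
  · -- no small strongly closed subgroups
    push Not at hsmall
    have hmin_card : ∀ Z, F.StronglyClosed Z → Z ≠ ⊥ →
        (∀ Y, F.StronglyClosed Y → Y ≤ Z → Y ≠ ⊥ → Y = Z) → Nat.card Z = p ^ e := by
      intro Z hZ hZne hmin
      refine le_antisymm ?_ (hsmall Z hZ hZne)
      by_contra hgt
      push Not at hgt
      obtain ⟨Q, -, hQZ, hQ⟩ := exists_subgroup_between (U := ⊥) hS bot_le hZ.1
        (by rw [Subgroup.card_bot]; exact Nat.one_le_pow _ _ hp.pos) hgt.le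
      have hQne : Q ≠ ⊥ := fun h => by
        rw [h, Subgroup.card_bot] at hQ
        exact (Nat.one_lt_pow (Nat.pos_iff_ne_zero.1 he0) hp.one_lt).ne hQ
      obtain ⟨P, hP, hL, hK⟩ := hW Q (hQZ.trans hZ.1) hQ
      have hQneZ : Q ≠ Z := fun h => hgt.ne' (h ▸ hQ)
      by_cases hPZ : P ⊓ Z = ⊥
      · have he' : (Q ⊔ P) ⊓ Z = Q := by
          refine le_antisymm ?_ (le_inf le_sup_left hQZ)
          rintro v ⟨hv, hvZ⟩
          replace hv : v ∈ ((Q ⊔ P : Subgroup Ω) : Set Ω) := hv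
          rw [Subgroup.coe_mul_of_left_le_normalizer_right Q P
            (fun q hq => sup_normalizer_le hP (hZ.1 (hQZ hq)))] at hv
          obtain ⟨q, hq, w, hw, rfl⟩ := hv
          have hwZ : w ∈ P ⊓ Z := ⟨hw, by
            have := Z.mul_mem (Z.inv_mem (hQZ hq)) hvZ
            rwa [inv_mul_cancel_left] at this⟩
          rw [hPZ, Subgroup.mem_bot] at hwZ
          simpa [hwZ] using hq
        exact hQneZ (hmin Q (he' ▸ stronglyClosed_inf hL hZ) hQZ hQne)
      · have h1 := hmin _ (stronglyClosed_inf hP hZ) inf_le_right hPZ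
        have h2 : Q ⊓ P = Q := inf_eq_left.2 (hQZ.trans (h1 ▸ inf_le_left))
        exact hQneZ (hmin Q (h2 ▸ hK) hQZ hQne)
    obtain ⟨Z, -, hZ, hZne, hZmin⟩ := exists_minimal_stronglyClosed hTc hTne
    have hZe := hmin_card Z hZ hZne hZmin
    haveI := finite_of_le hZ.1
    have hmeet : ∀ X, F.StronglyClosed X → X ⊓ Z ≠ ⊥ → Z ≤ X := fun X hX h =>
      (hZmin _ (stronglyClosed_inf hX hZ) inf_le_right h) ▸ inf_le_left
    -- it is enough that `Z` is abelian
    suffices hab : ∀ x ∈ Z, ∀ y ∈ Z, x * y = y * x by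
      obtain ⟨u, hu, hup, huc⟩ := exists_central_element hS hZ hZne
      have hUc := stronglyClosed_central_of_abelian hS hF hZ hab
        (autGroup_eq_autInducedBy_of_big hS hF hZ (hG Z hZ.1 hZe.ge)) hu huc
      have hune : Subgroup.zpowers u ≠ ⊥ := by
        rw [Ne, Subgroup.zpowers_eq_bot]
        intro h
        rw [h, orderOf_one] at hup
        exact hp.one_lt.ne hup
      exact absurd (hsmall _ hUc hune) (not_le.2 (by rw [Nat.card_zpowers, hup]; exact hpe))
    obtain ⟨s, hs⟩ := IsPGroup.iff_card.1 hS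
    obtain ⟨Y, hZY, hYS, hY⟩ := exists_subgroup_between (e := e + 1) hS hZ.1 le_rfl
      (by rw [hZe]; exact Nat.pow_le_pow_right hp.pos (Nat.le_succ e))
      (by rw [hs] at heS ⊢; exact Nat.pow_le_pow_right hp.pos ((Nat.pow_lt_pow_iff_right hp.one_lt).1 heS))
    haveI := finite_of_le hYS
    obtain ⟨x, hxY, hxZ⟩ := SetLike.exists_of_lt (lt_of_le_of_ne hZY fun h => by
      rw [h, hY] at hZe
      exact absurd (Nat.pow_right_injective hp.two_le hZe) (Nat.succ_ne_self e))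
    by_cases hcyc : Subgroup.zpowers x = Y
    · intro a ha b hb
      obtain ⟨i, rfl⟩ := Subgroup.mem_zpowers_iff.1 (hcyc.symm ▸ hZY ha : a ∈ Subgroup.zpowers x)
      obtain ⟨j, rfl⟩ := Subgroup.mem_zpowers_iff.1 (hcyc.symm ▸ hZY hb : b ∈ Subgroup.zpowers x)
      exact ((Commute.refl x).zpow_zpow i j).eq
    have hxle : Subgroup.zpowers x ≤ Y := Subgroup.zpowers_le.2 hxY
    have hxc : Nat.card (Subgroup.zpowers x) ≤ p ^ e := by
      haveI := finite_of_le (hxle.trans hYS)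
      obtain ⟨a, ha⟩ := IsPGroup.iff_card.1 (hS.to_le (hxle.trans hYS))
      rw [ha]
      refine Nat.pow_le_pow_right hp.pos (Nat.lt_succ_iff.1 ((Nat.pow_lt_pow_iff_right hp.one_lt).1 ?_))
      rw [← ha, ← hY]
      exact lt_of_le_of_ne (Subgroup.card_le_of_le hxle) fun h => hcyc (Subgroup.eq_of_le_of_card_ge hxle h.ge)
    obtain ⟨Q, hxQ, hQY, hQ⟩ := exists_subgroup_between hS hxle hYS hxc
      (by rw [hY]; exact Nat.pow_le_pow_right hp.pos (Nat.le_succ e))
    have hQne : ¬ Z ≤ Q := fun h => by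
      haveI := finite_of_le (hQY.trans hYS)
      exact hxZ ((Subgroup.eq_of_le_of_card_ge h (by rw [hQ, hZe])).symm ▸ hxQ (Subgroup.mem_zpowers x))
    have hQZ : Q ⊓ Z ≠ ⊥ := by
      intro h
      have := (eq_of_le_mul (hQY.trans hYS) hZ.1 h hQY hZY).resolve_right (not_not.2 inferInstance)
      rw [hQ, hZe, hY, ← pow_add] at this
      have := (Nat.pow_le_pow_iff_right hp.one_lt).1 this
      omega
    obtain ⟨P, hP, hL, hK⟩ := hW Q (hQY.trans hYS) hQ
    have hPZ : P ⊓ Z = ⊥ := by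
      by_contra h
      refine hQne ((hmeet _ hK ?_).trans inf_le_left)
      rw [inf_assoc, inf_eq_right.2 (hmeet P hP h)]
      exact hQZ
    have hPne : P ≠ ⊥ := by
      intro h
      rw [h, sup_bot_eq] at hL
      exact hQne (hmeet Q hL hQZ)
    obtain ⟨Z', hZ'P, hZ', hZ'ne, hZ'min⟩ := exists_minimal_stronglyClosed hP hPne
    have hZ'e := hmin_card Z' hZ' hZ'ne hZ'min
    haveI := finite_of_le hZ'.1
    have hZZ' : Z' ⊓ Z = ⊥ := le_bot_iff.1 (hPZ ▸ inf_le_inf_right Z hZ'P)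
    have hmeet' : ∀ X, F.StronglyClosed X → X ⊓ Z' ≠ ⊥ → Z' ≤ X := fun X hX h =>
      (hZ'min _ (stronglyClosed_inf hX hZ') inf_le_right h) ▸ inf_le_left
    -- a diagonal subgroup of order `p ^ e`
    obtain ⟨A, -, hAZ, hA⟩ := exists_subgroup_between (U := ⊥) (e := e - 1) hS bot_le hZ.1
      (by rw [Subgroup.card_bot]; exact Nat.one_le_pow _ _ hp.pos)
      (by rw [hZe]; exact Nat.pow_le_pow_right hp.pos (Nat.sub_le e 1))
    obtain ⟨c, hc, hcp, -⟩ := exists_central_element hS hZ' hZ'ne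
    set C := Subgroup.zpowers c
    have hCZ' : C ≤ Z' := Subgroup.zpowers_le.2 hc
    have hAC : A ⊓ C = ⊥ := le_bot_iff.1 (hZZ' ▸ le_inf (inf_le_right.trans hCZ') (inf_le_left.trans hAZ))
    have hcomm : ∀ a ∈ Z, ∀ b ∈ Z', a * b = b * a := fun a ha b hb =>
      commute_of_inf_eq_bot hZ hZ' (by rw [inf_comm, hZZ']) ha hb
    set Q₂ := A ⊔ C
    have hQ₂S : Q₂ ≤ S := sup_le (hAZ.trans hZ.1) (hCZ'.trans hZ'.1)
    have hQ₂set : ∀ q ∈ Q₂, ∃ a ∈ A, ∃ b ∈ C, q = a * b := by
      intro q hq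
      rw [← SetLike.mem_coe, Subgroup.coe_mul_of_right_le_normalizer_left A C (fun g hg => by
        rw [Subgroup.mem_normalizer_iff]
        intro n
        constructor
        · intro hn
          rwa [conj_eq_of_commute (hcomm n (hAZ hn) g (hCZ' hg)).symm]
        · intro hn
          have h1 := (hcomm _ (hAZ hn) g⁻¹ (hCZ' (C.inv_mem hg))).symm
          have h2 : n = g⁻¹ * (g * n * g⁻¹) * g⁻¹⁻¹ := by group
          rw [h2, conj_eq_of_commute h1]
          exact hn)] at hq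
      obtain ⟨a, ha, b, hb, rfl⟩ := hq
      exact ⟨a, ha, b, hb, rfl⟩
    have hQ₂ : Nat.card Q₂ = p ^ e := by
      haveI := finite_of_le hQ₂S
      have hC : Nat.card C = p := by rw [Nat.card_zpowers, hcp]
      haveI := finite_of_le (hAZ.trans hZ.1)
      haveI := finite_of_le (hCZ'.trans hZ'.1)
      refine le_antisymm ?_ ?_
      · refine (Nat.card_le_card_of_surjective
          (fun x : A × C => (⟨x.1 * x.2, Subgroup.mul_mem _ (Subgroup.mem_sup_left x.1.2)
            (Subgroup.mem_sup_right x.2.2)⟩ : Q₂)) ?_).trans ?_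
        · intro q
          obtain ⟨a, ha, b, hb, h⟩ := hQ₂set q q.2
          exact ⟨(⟨a, ha⟩, ⟨b, hb⟩), Subtype.ext h.symm⟩
        · rw [Nat.card_prod, hA, hC, ← pow_succ, Nat.sub_add_cancel he0]
      · have := (eq_of_le_mul (hAZ.trans hZ.1) (hCZ'.trans hZ'.1) hAC
          (le_sup_left : A ≤ Q₂) le_sup_right).resolve_right (not_not.2 inferInstance)
        rwa [hA, hC, ← pow_succ, Nat.sub_add_cancel he0] at this
    have hAne : A ≠ ⊥ := fun h => by
      rw [h, Subgroup.card_bot] at hA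
      exact (Nat.one_lt_pow (by omega) hp.one_lt).ne hA
    have hCne : C ≠ ⊥ := fun h => by
      rw [Subgroup.zpowers_eq_bot] at h
      rw [h, orderOf_one] at hcp
      exact hp.one_lt.ne hcp
    haveI := finite_of_le hQ₂S
    obtain ⟨P₂, hP₂, hL₂, hK₂⟩ := hW Q₂ hQ₂S hQ₂
    have hQ₂Z : ¬ Z ≤ Q₂ := fun h => hCne (le_bot_iff.1 (hZZ' ▸ le_inf hCZ'
      ((le_sup_right : C ≤ Q₂).trans (Subgroup.eq_of_le_of_card_ge h (by rw [hQ₂, hZe])).ge)))
    have hQ₂Z' : ¬ Z' ≤ Q₂ := fun h => hAne (le_bot_iff.1 (hZZ' ▸ le_inf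
      ((le_sup_left : A ≤ Q₂).trans (Subgroup.eq_of_le_of_card_ge h (by rw [hQ₂, hZ'e])).ge) hAZ))
    have hP₂Z : P₂ ⊓ Z = ⊥ := by
      by_contra h
      refine hQ₂Z ((hmeet _ hK₂ fun h0 => hAne ?_).trans inf_le_left)
      exact le_bot_iff.1 (h0 ▸ le_inf (le_inf le_sup_left (hAZ.trans (hmeet P₂ hP₂ h))) hAZ)
    have hP₂Z' : P₂ ⊓ Z' = ⊥ := by
      by_contra h
      refine hQ₂Z' ((hmeet' _ hK₂ fun h0 => hCne ?_).trans inf_le_left)
      exact le_bot_iff.1 (h0 ▸ le_inf (le_inf le_sup_right (hCZ'.trans (hmeet' P₂ hP₂ h))) hCZ')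
    set P₀ := (Z ⊔ Z') ⊓ P₂
    have hP₀ : F.StronglyClosed P₀ := stronglyClosed_inf (stronglyClosed_sup hS hF hZ hZ') hP₂
    have hP₀ne : P₀ ≠ ⊥ := by
      intro h0
      refine hQ₂Z fun v hv => ?_
      have hvL : v ∈ Q₂ ⊔ P₂ :=
        hmeet _ hL₂ (fun h => hAne (le_bot_iff.1
          (h ▸ le_inf ((le_sup_left : A ≤ Q₂).trans le_sup_left) hAZ))) hv
      rw [← SetLike.mem_coe, Subgroup.coe_mul_of_left_le_normalizer_right Q₂ P₂
        (fun q hq => sup_normalizer_le hP₂ (hQ₂S hq))] at hvL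
      obtain ⟨q, hq, w, hw, rfl⟩ := hvL
      have hwP : w ∈ P₀ := ⟨by
        have := Subgroup.mul_mem _ (Subgroup.inv_mem _ ((sup_le_sup hAZ hCZ' : Q₂ ≤ Z ⊔ Z') hq))
          (Subgroup.mem_sup_left hv : q * w ∈ Z ⊔ Z')
        rwa [inv_mul_cancel_left] at this, hw⟩
      rw [h0, Subgroup.mem_bot] at hwP
      simpa [hwP] using hq
    have hproj : ∀ w : P₀, ∃ a : Z, (∀ y ∈ Z, (a : Ω) * y = y * a) ∧ (a : Ω)⁻¹ * w ∈ Z' := by
      intro w
      obtain ⟨a, ha, b, hb, hab⟩ := exists_mul_of_mem_sup hZ' hZ.1 w.2.1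
      refine ⟨⟨a, ha⟩, fun y hy => ?_, by rw [hab, inv_mul_cancel_left]; exact hb⟩
      have h1 : (w : Ω) * y = y * w := commute_of_inf_eq_bot hP₂ hZ hP₂Z w.2.2 hy
      have h2 : b * y = y * b := (hcomm y hy b hb).symm
      have h3 : a = (w : Ω) * b⁻¹ := by rw [hab, mul_inv_cancel_right]
      show a * y = y * a
      rw [h3, mul_assoc, ((show Commute b y from h2).inv_left).eq, ← mul_assoc, h1, mul_assoc]
    choose f hfc hfZ' using hproj
    have hinj : Function.Injective f := by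
      intro w w' hww
      have h1 : (w : Ω)⁻¹ * w' ∈ P₂ ⊓ Z' := by
        refine ⟨P₂.mul_mem (P₂.inv_mem w.2.2) w'.2.2, ?_⟩
        have := Z'.mul_mem (Z'.inv_mem (hfZ' w)) (hfZ' w')
        rw [hww] at this
        simpa [mul_assoc] using this
      rw [hP₂Z', Subgroup.mem_bot, inv_mul_eq_one] at h1
      exact Subtype.ext h1
    haveI := finite_of_le hP₀.1
    have hsurj : Function.Surjective f :=
      hinj.surjective_of_finite (Equiv.ofBijective f ((Nat.bijective_iff_injective_and_card f).2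
        ⟨hinj, le_antisymm (Nat.card_le_card_of_injective f hinj) (hZe ▸ hsmall _ hP₀ hP₀ne)⟩))
    intro a ha b hb
    obtain ⟨w, hw⟩ := hsurj ⟨a, ha⟩
    have := hfc w b hb
    rwa [hw] at this

theorem inner_iff_weaklyEmbedded [Finite S] (hS : IsPGroup p S) (hF : F.IsSaturated p)
    (hcard : p ^ 2 ≤ Nat.card S) :
    (∀ P : Subgroup Ω, F.Hom P = (innerFusionSystem S).Hom P) ↔
      ∃ D : Subgroup Ω, ⊥ < D ∧ D < S ∧
        (∀ Q : Subgroup Ω, Q ≤ S → Nat.card ↥Q = Nat.card ↥D →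
          ∃ P : Subgroup Ω, F.StronglyClosed P ∧ F.StronglyClosed (Q ⊔ P) ∧ F.StronglyClosed (Q ⊓ P)) ∧
        (∀ H : Subgroup Ω, F.IsFullyNormalized H → Nat.card ↥H = Nat.card ↥D →
          ∀ N : FusionSystem (normalizerIn S H), F.IsNormalizerSystem H N →
            ∀ P : Subgroup Ω, N.Hom P = (innerFusionSystem (normalizerIn S H)).Hom P) := by
  have hp : p.Prime := Fact.out
  obtain ⟨s, hs⟩ := IsPGroup.iff_card.1 hS
  have hs2 : 2 ≤ s := (Nat.pow_le_pow_iff_right hp.one_lt).1 (hs ▸ hcard)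
  constructor
  · intro hinn
    obtain ⟨D, -, hDS, hD⟩ := exists_subgroup_between (U := ⊥) (e := s - 1) hS bot_le le_rfl
      (by rw [Subgroup.card_bot]; exact Nat.one_le_pow _ _ hp.pos)
      (by rw [hs]; exact Nat.pow_le_pow_right hp.pos (Nat.sub_le s 1))
    have hlt : p ^ (s - 1) < p ^ s := Nat.pow_lt_pow_right hp.one_lt (by omega)
    refine ⟨D, bot_lt_iff_ne_bot.2 fun h => ?_, lt_of_le_of_ne hDS fun h => ?_, ?_, ?_⟩
    · rw [h, Subgroup.card_bot] at hD
      exact (Nat.one_lt_pow (by omega) hp.one_lt).ne hD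
    · rw [h, hs] at hD
      exact hlt.ne' hD
    · intro Q hQS hQ
      refine ⟨S, stronglyClosed_top F, by rw [sup_eq_right.2 hQS]; exact stronglyClosed_top F, ?_⟩
      rw [inf_eq_left.2 hQS]
      have hQlt : Q < S := lt_of_le_of_ne hQS fun h => by
        rw [h, hs, hD] at hQ
        exact hlt.ne' hQ
      have hN : normalizerIn S Q = S := by
        have h1 := lt_normalizerIn hS hQlt
        haveI := finite_of_le (normalizerIn_le (S := S) Q)
        obtain ⟨a, ha⟩ := IsPGroup.iff_card.1 (hS.to_le (normalizerIn_le (S := S) Q))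
        refine eq_of_le_of_card_le le_rfl (normalizerIn_le Q) ?_
        rw [hs, ha]
        refine Nat.pow_le_pow_right hp.pos ?_
        have h2 : Nat.card Q < Nat.card (normalizerIn S Q) := lt_of_le_of_ne (Subgroup.card_le_of_le h1.le)
          fun h => h1.ne (Subgroup.eq_of_le_of_card_ge h1.le h.ge)
        rw [hQ, hD, ha] at h2
        have := (Nat.pow_lt_pow_iff_right hp.one_lt).1 h2
        omega
      refine ⟨hQS, fun R hR φ hφ x => ?_⟩
      rw [hinn] at hφ
      obtain ⟨-, g, hg, hgx⟩ := hφ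
      rw [hgx]
      exact ((Subgroup.mem_normalizer_iff.1 (hN.ge hg).2) x).1 (hR x.2)
    · intro H hH _ N hN P
      refine Set.Subset.antisymm (fun φ hφ => ?_) (innerFusionSystem_le N P)
      rw [hN P] at hφ
      obtain ⟨-, hP, -, ψ, hψ, hψe, hψH⟩ := hφ
      rw [hinn] at hψ
      obtain ⟨-, g, hg, hgx⟩ := hψ
      have hv : ∀ n ∈ H, g * n * g⁻¹ ∈ H := fun n hn => by
        rw [← hψH, mem_map_subgroupOf]
        exact ⟨n, Subgroup.mem_sup_right hn, hn, hgx ⟨n, _⟩⟩
      have hgN : g ∈ Subgroup.normalizer (H : Set Ω) := by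
        haveI := finite_of_le hH.1
        exact Subgroup.mem_normalizer_fintype hv
      refine ⟨hP, g, ⟨hg, hgN⟩, fun x => ?_⟩
      rw [← hψe x]
      exact hgx _
  · rintro ⟨D, hD1, hDS, hW, hN⟩ P
    haveI := finite_of_le hDS.le
    obtain ⟨e, he⟩ := IsPGroup.iff_card.1 (hS.to_le hDS.le)
    have he0 : 0 < e := Nat.pos_of_ne_zero fun h => hD1.ne' (Subgroup.card_eq_one.1 (by rw [he, h, pow_zero]))
    have heS : p ^ e < Nat.card S := he ▸ lt_of_le_of_ne (card_le_of_le hDS.le) fun h =>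
      hDS.ne (eq_of_le_of_card_le le_rfl hDS.le h.ge)
    have hW' : WeaklyEmbeddedAt F p e := fun Q hQ hc => hW Q hQ (hc.trans he.symm)
    refine hom_eq_inner_of_hyperfocal hS hF ?_ P
    exact hyperfocal_eq_bot_of_weaklyEmbedded _ F inferInstance hS hF rfl e he0 heS hW'
      fun R hR hc => isPGroup_autGroup_of_normalizers hS hF hW' (fun H hH hHc => hN H hH (hHc.trans he.symm)) hR hc

end Cfsg.Lib.FusionSys
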