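import Cfsg.Agent.Lib.FusionSys.StageInvariant
import Cfsg.Agent.Lib.FusionSys.ResidualNormalMain
import Cfsg.Agent.Lib.FusionSys.WeaklyEmbeddedMain
import Cfsg.Agent.Lib.FusionSys.SubnormalFn

/-!
Residual subsystems along a chain of normal subsystems.
-/

set_option autoImplicit false
set_option linter.style.haveILetI false

namespace Cfsg.Lib.FusionSys

open Cfsg Cfsg.FusionSystem

variable {Ω : Type*} [Group Ω] {S T U V W : Subgroup Ω} {F : FusionSystem S} {E : FusionSystem T}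
  {H : FusionSystem V} {p : ℕ}

theorem minExtClosed_hasIndex [Finite S] [Fact p.Prime] (hS : IsPGroup p S) (hF : F.IsSaturated p) :
    (minExtClosed F p).HasPrimeToPIndexIn F p := by
  refine ⟨fun P φ h => h.1, fun P hP => ?_⟩
  rw [Subgroup.map_le_iff_le_comap, Subgroup.closure_le]
  rintro a ⟨k, hk⟩
  exact mem_autGroup_of_centric hS hF isExtClosed_minExtClosed.1 hP a.2
    ⟨k, by rw [← hk]; exact Subgroup.orderOf_coe a⟩

/-- The residual subsystem lies in every system closed under extension. -/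
theorem residual_le_of_extClosed [Finite S] [Fact p.Prime] (hS : IsPGroup p S) (hF : F.IsSaturated p)
    {R D : FusionSystem S} (hR : F.IsPPrimeResidual p R) (hD : IsExtClosed F p D) : R ≤ D :=
  fun P φ hφ => minExtClosed_le_of hD P
    (hR.2.2 _ (isSaturated_minExtClosed hS hF) (minExtClosed_hasIndex hS hF) P hφ)

/-- A `p`-automorphism lies in the residual subsystem. -/
theorem residual_pAut {R : FusionSystem S} (hR : F.IsPPrimeResidual p R) {P : Subgroup Ω} (hP : P ≤ S)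
    {a : MulAut P} (ha : a ∈ F.autGroup P) {k : ℕ} (hk : orderOf a = p ^ k) : a ∈ R.autGroup P :=
  hR.2.1.2 P hP ⟨⟨a, ha⟩, Subgroup.subset_closure ⟨k, by rw [← hk, ← Subgroup.orderOf_coe]⟩, rfl⟩

/-- The common maps of two systems over the same subgroup. -/
def interSys (A B : FusionSystem S) : FusionSystem S where
  Hom P := {φ | φ ∈ A.Hom P ∧ φ ∈ B.Hom P}
  le_of_mem h := A.le_of_mem h.1
  injective_of_mem h := A.injective_of_mem h.1
  conj_mem hP hg := ⟨A.conj_mem hP hg, B.conj_mem hP hg⟩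
  comp_mem hφ hψ h := ⟨A.comp_mem hφ.1 hψ.1 h, B.comp_mem hφ.2 hψ.2 h⟩
  inv_mem := by
    rintro P φ ⟨h1, h2⟩
    obtain ⟨ψ, hψ, hψe⟩ := A.inv_mem h1
    obtain ⟨χ, hχ, hχe⟩ := B.inv_mem h2
    refine ⟨ψ, ⟨hψ, hom_congr hχ ?_⟩, hψe⟩
    rintro ⟨_, x, rfl⟩
    exact (hψe x).trans (hχe x).symm

/-- An automorphism stabilizing `P ≤ N` elementwise at the bottom and modulo `P` at the top is a `p`-element. -/
theorem orderOf_pow_of_stab {P N : Subgroup Ω} [Finite N] [Fact p.Prime] (hN : IsPGroup p N)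
    (hPN : P ≤ N) {γ : MulAut N} (hfix : ∀ x : N, (x : Ω) ∈ P → γ x = x)
    (hmod : ∀ x : N, (x : Ω)⁻¹ * (γ x : Ω) ∈ P) : ∃ k, orderOf γ = p ^ k := by
  obtain ⟨e, he⟩ := IsPGroup.iff_card.mp hN
  have h3 := pow_eq_one_of_stabilizes (P := N) (α := γ)
    (D := fun i => if i = 0 then ⊥ else if i = 1 then P else N) (n := 2) rfl rfl ?_ ?_
  · rw [he, ← pow_mul] at h3
    obtain ⟨k, -, hk⟩ := (Nat.dvd_prime_pow Fact.out).1 (orderOf_dvd_of_pow_eq_one h3)
    exact ⟨k, hk⟩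
  · intro i _ x hx
    match i with
    | 0 =>
      have : x = 1 := Subtype.ext (Subgroup.mem_bot.1 hx)
      simp [this]
    | 1 => simpa [hfix x hx] using hx
    | j + 2 => exact (γ x).2
  · intro i hi x hx
    match i with
    | 0 => simp [hfix x (by simpa using hx)]
    | 1 => exact hmod x
    | j + 2 => omega

/-- The residual of an invariant saturated subsystem lies in the residual of the system. -/
theorem residual_le_residual [Finite S] [Fact p.Prime] (hS : IsPGroup p S)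
    (hE : E.IsSaturated p) (hEi : E.IsInvariantIn F) {E' : FusionSystem T}
    (hE' : E.IsPPrimeResidual p E') {F' : FusionSystem S} (hF' : F.IsPPrimeResidual p F') :
    E'.IsSubsystemOf F' := by
  have hT := hEi.2.1
  have hTS := hT.1
  haveI := finite_of_le hTS
  suffices h : IsExtClosed E p (interSys E (fullOn F' T hTS)) from
    fun P φ hφ => (residual_le_of_extClosed (hS.to_le hTS) hE hE' h P hφ).2.1
  refine ⟨fun P hP a ha ⟨k, hk⟩ => ?_, fun P N hPN hP hN φ hφ h => ?_⟩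
  · have hPS := hP.1.trans hTS
    have haE := (mem_autGroup hP.1).1 ha
    have haF' := (mem_autGroup hPS).1
      (residual_pAut hF' hPS ((mem_autGroup hPS).2 (hEi.1 P haE)) hk)
    exact (mem_autGroup hP.1).2 ⟨haE, haF', hP.1, fun x => hP.1 (a x).2⟩
  refine ⟨hφ, ?_, hom_le hφ, hom_mem hφ⟩
  have hφF := hEi.1 N hφ
  have hNS := hom_le hφF
  have hφP : φ.comp (Subgroup.inclusion hPN) ∈ F'.Hom P := h.2.1
  set R := (φ.comp (Subgroup.inclusion hPN)).range with hRdef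
  have hRS : R ≤ S := range_le hφP
  obtain ⟨Q, -, -, hQr, ν, hν, hνv, hνmap⟩ := exists_fa_receptive_map hS hF'.1 hRS
  have hφv : ∀ n : N, φ n ∈ normalizerIn S R := fun n => by
    refine ⟨hom_mem hφF n, Subgroup.mem_normalizer_iff.2 fun z => ?_⟩
    have key : ∀ n : N, ∀ z ∈ R, φ n * z * (φ n)⁻¹ ∈ R := by
      rintro n _ ⟨x, rfl⟩
      refine ⟨⟨(n : Ω) * x * (n : Ω)⁻¹, (Subgroup.mem_normalizer_iff.1 (hN n.2) x).1 x.2⟩, ?_⟩
      show φ ⟨(n : Ω) * x * (n : Ω)⁻¹, _⟩ = φ n * φ (Subgroup.inclusion hPN x) * (φ n)⁻¹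
      rw [← map_inv, ← map_mul, ← map_mul]
      rfl
    refine ⟨key n z, fun hz => ?_⟩
    simpa [mul_assoc] using key n⁻¹ _ hz
  have hψ : ν.comp (φ.codRestrict _ hφv) ∈ F.Hom N := F.comp_mem hφF (hF'.2.1.1 _ hν) hφv
  set ψ := ν.comp (φ.codRestrict _ hφv) with hψdef
  set ψP := ψ.comp (Subgroup.inclusion hPN) with hψPdef
  have hψP : ψP ∈ F'.Hom P := comp_mem' hφP hν (fun x => hφv _) fun x => rfl
  have hψPr : ψP.range = Q := by
    rw [← hνmap]
    ext y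
    rw [mem_map_subgroupOf]
    constructor
    · rintro ⟨x, rfl⟩
      exact ⟨φ (Subgroup.inclusion hPN x), hφv _, ⟨x, rfl⟩, rfl⟩
    · rintro ⟨_, _, ⟨x, rfl⟩, rfl⟩
      exact ⟨x, rfl⟩
  obtain ⟨χ₀, hχ₀, hχe⟩ := hQr.2 P ψP hψP hψPr
  have hle : N ≤ extender S P ψP := fun g hg =>
    mem_extender_of (hNS hg) (hN hg) (hom_mem hψ ⟨g, hg⟩) fun x hx => by
      show ψ ⟨g * (x : Ω) * g⁻¹, hPN hx⟩ = ψ ⟨g, hg⟩ * ψ ⟨x, hPN x.2⟩ * (ψ ⟨g, hg⟩)⁻¹
      rw [← map_inv, ← map_mul, ← map_mul]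
      rfl
  have hχ : χ₀.comp (Subgroup.inclusion hle) ∈ F'.Hom N := restrict_mem hχ₀ hle
  set χ := χ₀.comp (Subgroup.inclusion hle) with hχdef
  have hagree : ∀ x : P, χ (Subgroup.inclusion hPN x) = ψ (Subgroup.inclusion hPN x) := fun x =>
    hχe x x.2 _
  have hNT := hom_le hφ
  have hQc : centralizerIn T Q ≤ Q :=
    (hψPr ▸ centric_image hEi hP (hF'.2.1.1 _ hψP) : E.IsCentric Q).2 Q
      (isConj_refl E (hψPr ▸ centric_image hEi hP (hF'.2.1.1 _ hψP) : E.IsCentric Q).1)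
  have hQψ : Q ≤ ψ.range := by
    rw [← hψPr]
    rintro _ ⟨x, rfl⟩
    exact ⟨_, rfl⟩
  have hχψ : ∀ n : N, χ n ∈ ψ.range := fun n => by
    have hc : (ψ n)⁻¹ * χ n ∈ centralizerIn T Q := by
      refine mem_centralizerIn.2 ⟨T.mul_mem (T.inv_mem (hT.2 N hNT _ hψ n))
        (hT.2 N hNT _ (hF'.2.1.1 _ hχ) n), ?_⟩
      rw [← hψPr]
      rintro _ ⟨x, rfl⟩
      have h1 : (n : Ω) * (x : Ω) * (n : Ω)⁻¹ ∈ P := (Subgroup.mem_normalizer_iff.1 (hN n.2) x).1 x.2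
      have h2 := hagree ⟨_, h1⟩
      have h3 : (Subgroup.inclusion hPN ⟨_, h1⟩ : N) = n * Subgroup.inclusion hPN x * n⁻¹ :=
        Subtype.ext rfl
      rw [h3, map_mul, map_mul, map_inv, map_mul, map_mul, map_inv, hagree] at h2
      symm
      show ψ (Subgroup.inclusion hPN x) * ((ψ n)⁻¹ * χ n) = _
      calc ψ (Subgroup.inclusion hPN x) * ((ψ n)⁻¹ * χ n)
          = (ψ n)⁻¹ * (ψ n * ψ (Subgroup.inclusion hPN x) * (ψ n)⁻¹) * χ n := by group
        _ = (ψ n)⁻¹ * (χ n * ψ (Subgroup.inclusion hPN x) * (χ n)⁻¹) * χ n := by rw [h2]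
        _ = (ψ n)⁻¹ * χ n * ψP x := by simp [hψPdef, mul_assoc]
    have := Subgroup.mul_mem _ (MonoidHom.mem_range.2 ⟨n, rfl⟩ : ψ n ∈ ψ.range) (hQψ (hQc hc))
    rwa [mul_inv_cancel_left] at this
  haveI := finite_of_le hNS
  have hrr : χ.range = ψ.range := eq_of_le_of_card_le (range_le hψ)
    (by rintro _ ⟨n, rfl⟩; exact hχψ n) (by rw [card_range hψ, card_range hχ])
  obtain ⟨χi, hχi, -, hχie⟩ := exists_inv hχ hrr
  have hγ : χi.comp (ψ.codRestrict ψ.range fun n => ⟨n, rfl⟩) ∈ F.Hom N :=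
    F.comp_mem hψ (hF'.2.1.1 _ hχi) _
  have hγv : ∀ n : N, χi ⟨ψ n, n, rfl⟩ ∈ N := fun n => by
    obtain ⟨m, hm⟩ := hrr.ge ⟨n, rfl⟩
    have := hχie m (hm ▸ ⟨n, rfl⟩)
    have h4 : (⟨ψ n, n, rfl⟩ : ψ.range) = ⟨χ m, hm ▸ ⟨n, rfl⟩⟩ := Subtype.ext hm.symm
    rw [h4, this]
    exact m.2
  obtain ⟨γ, hγA, hγe⟩ := exists_aut_of_hom hγ hγv
  have hγP : ∀ x : N, (x : Ω) ∈ P → γ x = x := fun x hx => Subtype.ext (by
    rw [hγe x]
    show χi ⟨ψ x, _⟩ = (x : Ω)
    have h4 : χ x = ψ x := hagree ⟨x, hx⟩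
    have := hχie x (h4 ▸ ⟨x, rfl⟩)
    have h5 : (⟨ψ x, x, rfl⟩ : ψ.range) = ⟨χ x, h4 ▸ ⟨x, rfl⟩⟩ := Subtype.ext h4.symm
    rw [h5, this])
  have hmod : ∀ x : N, (x : Ω)⁻¹ * (γ x : Ω) ∈ P := fun n => by
    refine hP.2 P (isConj_refl E hP.1) (mem_centralizerIn.2
      ⟨T.mul_mem (T.inv_mem (hNT n.2)) (hNT (γ n).2), fun y hy => ?_⟩)
    have h1 := (Subgroup.mem_normalizer_iff.1 (hN n.2) y).1 hy
    have h2 := hγP (n * ⟨y, hPN hy⟩ * n⁻¹) h1
    rw [map_mul, map_mul, map_inv, hγP ⟨y, hPN hy⟩ hy] at h2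
    have h3 : (γ n : Ω) * y * (γ n : Ω)⁻¹ = (n : Ω) * y * (n : Ω)⁻¹ := congrArg Subtype.val h2
    symm
    calc y * ((n : Ω)⁻¹ * (γ n : Ω))
        = (n : Ω)⁻¹ * ((n : Ω) * y * (n : Ω)⁻¹) * (γ n : Ω) := by group
      _ = (n : Ω)⁻¹ * ((γ n : Ω) * y * (γ n : Ω)⁻¹) * (γ n : Ω) := by rw [h3]
      _ = (n : Ω)⁻¹ * (γ n : Ω) * y := by simp [mul_assoc]
  obtain ⟨k, hk⟩ := orderOf_pow_of_stab (hS.to_le hNS) hPN hγP hmod
  have hγ' := (mem_autGroup hNS).1 (residual_pAut hF' hNS hγA hk)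
  -- `ψ = χ ∘ γ`
  have hψ' : ψ ∈ F'.Hom N := comp_mem' hγ' hχ (fun n => (γ n).2) fun n => by
    show ψ n = χ (γ n)
    obtain ⟨m, hm⟩ := hrr.ge ⟨n, rfl⟩
    have := hχie m (hm ▸ ⟨n, rfl⟩)
    have h4 : (⟨ψ n, n, rfl⟩ : ψ.range) = ⟨χ m, hm ▸ ⟨n, rfl⟩⟩ := Subtype.ext hm.symm
    have h5 : γ n = m := Subtype.ext (by rw [hγe n]; exact (congrArg χi h4).trans this)
    rw [h5, hm]
  obtain ⟨νi, hνi, -, hνie⟩ := exists_inv hν rfl
  exact comp_mem' hψ' hνi (fun n => ⟨⟨φ n, hφv n⟩, rfl⟩) fun n => (hνie ⟨φ n, hφv n⟩ _).symm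

/-- The residual is its own residual. -/
theorem isPPrimeResidual_self {E' : FusionSystem S} (hE' : F.IsPPrimeResidual p E') :
    E'.IsPPrimeResidual p E' := by
  refine ⟨hE'.1, ⟨fun P => subset_rfl, fun P hP => ?_⟩, fun D hD hidx => hE'.2.2 D hD ⟨fun P φ hφ =>
    hE'.2.1.1 P (hidx.1 P hφ), fun P hP => ?_⟩⟩
  · rintro _ ⟨a, -, rfl⟩
    exact a.2
  · rw [Subgroup.map_le_iff_le_comap, Subgroup.closure_le]
    rintro a ⟨k, hk⟩
    refine residual_mem_of_index hidx hP ?_ (hk ▸ Subgroup.orderOf_coe a)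
    exact residual_pAut hE' hP a.2 (hk ▸ Subgroup.orderOf_coe a)
where
  residual_mem_of_index {D : FusionSystem S} (hidx : D.HasPrimeToPIndexIn E' p) {P : Subgroup Ω}
      (hP : P ≤ S) {a : MulAut P} (ha : a ∈ E'.autGroup P) {k : ℕ} (hk : orderOf a = p ^ k) :
      a ∈ D.autGroup P :=
    hidx.2 P hP ⟨⟨a, ha⟩, Subgroup.subset_closure ⟨k, by rw [← hk, ← Subgroup.orderOf_coe]⟩, rfl⟩

/-- A weakly normal subsystem is weakly normal in every saturated system between. -/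
theorem isWeaklyNormalIn_of_le [Finite S] [Fact p.Prime] (hS : IsPGroup p S)
    (hE : E.IsWeaklyNormalIn F p) (hH : H.IsSaturated p) (hEH : E.IsSubsystemOf H)
    (hHF : H.IsSubsystemOf F) : E.IsWeaklyNormalIn H p := by
  have hVS : V ≤ S := hom_le (hHF V (subtype_mem H le_rfl))
  haveI := finite_of_le hVS
  have hTV : T ≤ V := hom_le (hEH T (subtype_mem E le_rfl))
  have hT : H.StronglyClosed T :=
    ⟨hTV, fun R hR φ hφ x => hE.2.2.2.1.2 R hR φ (hHF R hφ) x⟩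
  refine ⟨hE.1, hH, (isInvariantIn_iff_strongInv (hS.to_le hVS) hH hEH hT).2 ?_⟩
  intro P Q hPQ hQT φ hφ hφQ ψ hψ
  exact isInvariant_strongInv hE.2.2 P Q hPQ hQT φ hφ hφQ ψ (hHF Q hψ)

/-- The residual of a weakly normal subsystem is normal in the residual. -/
theorem isNormalIn_residual_mono [Finite S] [Fact p.Prime] (hS : IsPGroup p S)
    (hE : E.IsWeaklyNormalIn F p) {E' : FusionSystem T} (hE' : E.IsPPrimeResidual p E')
    {F' : FusionSystem S} (hF' : F.IsPPrimeResidual p F') : E'.IsNormalIn F' p :=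
  isNormalIn_residual hS
    (isWeaklyNormalIn_of_le hS (isNormalIn_residual hS hE hE').1 hF'.1
      (residual_le_residual hS hE.1 hE.2.2 hE' hF') hF'.2.1.1)
    (isPPrimeResidual_self hE')

theorem hyperfocal_le_of_subsystem [Finite S] (hsub : E.IsSubsystemOf F) :
    E.hyperfocalSubgroup p ≤ F.hyperfocalSubgroup p := by
  have hTS : T ≤ S := hom_le (hsub T (subtype_mem E le_rfl))
  haveI := finite_of_le hTS
  exact hyperfocal_le_of_coprime fun P hP α hα hcop x => mem_hyperfocal_of_coprime (hP.trans hTS)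
    ((mem_autGroup (hP.trans hTS)).2 (hsub P ((mem_autGroup hP).1 hα))) hcop x

/-- `Z` is the `p'`-residual of the `p`-power index subsystem over `W`. -/
def IsStep (F : FusionSystem S) (p : ℕ) {W : Subgroup Ω} (Z : FusionSystem W) : Prop :=
  ∃ Y : FusionSystem W, Y.IsSaturated p ∧ Y.HasPPowerIndexIn F p ∧ Y.IsPPrimeResidual p Z

/-- `W` contains the hyperfocal subgroup and is strongly closed. -/
def Admissible (F : FusionSystem S) (p : ℕ) (W : Subgroup Ω) : Prop :=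
  F.StronglyClosed W ∧ F.hyperfocalSubgroup p ≤ W

theorem exists_step [Finite S] [Fact p.Prime] (hS : IsPGroup p S) (hF : F.IsSaturated p)
    (hW : Admissible F p W) : ∃ Z : FusionSystem W, IsStep F p Z := by
  obtain ⟨Y, ⟨hY, hYi⟩, -⟩ := existsUnique_pPower hS hF W hW.1.1 hW.2
  haveI := finite_of_le hW.1.1
  obtain ⟨Z, hZ⟩ := exists_pPrimeResidual (hS.to_le hW.1.1) hY
  exact ⟨Z, Y, hY, hYi, hZ⟩

theorem isNormalIn_step [Finite S] [Fact p.Prime] (hS : IsPGroup p S) {X : FusionSystem U}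
    (hX : X.IsWeaklyNormalIn F p) (hW : Admissible F p W) :
    Admissible X p (U ⊓ W) ∧ ∀ (ZX : FusionSystem (U ⊓ W : Subgroup Ω)) (Z : FusionSystem W),
      IsStep X p ZX → IsStep F p Z → ZX.IsNormalIn Z p := by
  obtain ⟨hXs, hF, hXi⟩ := hX
  have hU := hXi.2.1
  haveI := finite_of_le hU.1
  haveI := finite_of_le hW.1.1
  have hUW := stronglyClosed_inf hU hW.1
  have hhyp : X.hyperfocalSubgroup p ≤ U ⊓ W :=
    le_inf (hyperfocal_le_of_coprime fun P hP α hα _ x => U.mul_mem (U.inv_mem (hP x.2)) (hP (α x).2))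
      ((hyperfocal_le_of_subsystem hXi.1).trans hW.2)
  have hsc : X.StronglyClosed (U ⊓ W) :=
    ⟨inf_le_left, fun R hR φ hφ x => hUW.2 R hR φ (hXi.1 R hφ) x⟩
  refine ⟨⟨hsc, hhyp⟩, ?_⟩
  rintro ZX Z ⟨Y, hY, hYi, hYR⟩ ⟨Y', hY', hY'i, hY'R⟩
  have hn : ((U ⊓ W).subgroupOf U).Normal :=
    Subgroup.normal_subgroupOf_of_le_normalizer (stronglyClosed_le_normalizer hsc)
  have hYwn : Y.IsWeaklyNormalIn F p :=
    ⟨hY, hF, isInvariantIn_pPower_sub hS hXi hXs hUW inf_le_left hn hhyp hY hYi⟩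
  have hsub : Y.IsSubsystemOf Y' :=
    subsystem_le_of_pPower hS hY hYwn.2.2.1 inf_le_right hY'i
  exact isNormalIn_residual_mono (hS.to_le hW.1.1)
    (isWeaklyNormalIn_of_le hS hYwn hY' hsub hY'i.1) hYR hY'R

/-- A chain of normal subsystems of given length. -/
inductive ChainLen {T : Subgroup Ω} (C : FusionSystem T) (p : ℕ) :
    ℕ → ∀ {S : Subgroup Ω}, FusionSystem S → Prop
  | refl : ChainLen C p 0 C
  | step {n : ℕ} {U S : Subgroup Ω} {D : FusionSystem U} {F : FusionSystem S} :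
      ChainLen C p n D → D.IsNormalIn F p → ChainLen C p (n + 1) F

theorem exists_chainLen {C : FusionSystem T} (h : C.IsSubnormalIn F p) : ∃ n, ChainLen C p n F := by
  induction h with
  | refl F p => exact ⟨0, .refl⟩
  | step h1 h2 ih =>
    obtain ⟨n, hn⟩ := ih
    exact ⟨n + 1, hn.step h2⟩

theorem ChainLen.isSubnormalIn {C : FusionSystem T} {n : ℕ} (h : ChainLen C p n F) :
    C.IsSubnormalIn F p := by
  induction h with
  | refl => exact .refl C p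
  | step h1 h2 ih => exact .step ih h2

/-- Moving a chain below a step keeps its length. -/
theorem ChainLen.transfer [Fact p.Prime] {C : FusionSystem T} (hhyp : C.hyperfocalSubgroup p = T)
    (hC : C.IsPPrimeResidual p C) {n : ℕ} (h : ChainLen C p n F) :
    Finite S → IsPGroup p S → F.IsSaturated p → ∀ {W : Subgroup Ω} (Z : FusionSystem W),
      Admissible F p W → IsStep F p Z → ChainLen C p n Z := by
  induction h with
  | refl =>
    intro hfin hT hCs W Z hW hZ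
    haveI := hfin
    obtain rfl : W = T := le_antisymm hW.1.1 (hhyp ▸ hW.2)
    obtain ⟨Y, hY, hYi, hYR⟩ := hZ
    obtain rfl : Y = C := fusionSystem_le_antisymm hYi.1
      (subsystem_le_of_pPower hT hCs (fun P => subset_rfl) le_rfl hYi)
    obtain rfl : Z = Y := fusionSystem_le_antisymm (hYR.2.2 Y hC.1 hC.2.1) (hC.2.2 Z hYR.1 hYR.2.1)
    exact .refl
  | @step n U S D F h1 h2 ih =>
    intro hfin hS hF W Z hW hZ
    haveI := hfin
    have hU := h2.1.2.2.2.1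
    obtain ⟨hW', hnorm⟩ := isNormalIn_step hS h2.1 hW
    haveI := finite_of_le hU.1
    obtain ⟨ZX, hZX⟩ := exists_step (hS.to_le hU.1) h2.1.1 hW'
    exact .step (ih (finite_of_le hU.1) (hS.to_le hU.1) h2.1.1 ZX hW' hZX) (hnorm ZX Z hZX hZ)

end Cfsg.Lib.FusionSys
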