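import Cfsg.Agent.Lib.FusionSys.LeastNormal
import Cfsg.Agent.Lib.FusionSys.TransportAlong

/-!
The `p'`-residual subsystem of a weakly normal subsystem is normal.

A map of an invariant subsystem over `T` is good when it extends to the product with `C_S(T)`, moving
`C_S(T)` only modulo `T`.
-/

set_option autoImplicit false
set_option linter.style.haveILetI false

namespace Cfsg.Lib.FusionSys

open Cfsg Cfsg.FusionSystem
open scoped Pointwise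

variable {Ω : Type*} [Group Ω] {S T : Subgroup Ω} {F : FusionSystem S} {E : FusionSystem T} {p : ℕ}

/-- Extends to `P C_S(T)`, trivially modulo `T` on `C_S(T)`. -/
def GoodMap (F : FusionSystem S) (T : Subgroup Ω) {P : Subgroup Ω} (φ : P →* Ω) : Prop :=
  ∃ ψ ∈ F.Hom (P ⊔ centralizerIn S T),
    (∀ (x : P) (hx : (x : Ω) ∈ P ⊔ centralizerIn S T), ψ ⟨x, hx⟩ = φ x) ∧
    ∀ (c : Ω) (_ : c ∈ centralizerIn S T) (hc : c ∈ P ⊔ centralizerIn S T), c⁻¹ * ψ ⟨c, hc⟩ ∈ T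

section

variable (hT : F.StronglyClosed T)
include hT

theorem sc_conj_mem {g t : Ω} (hg : g ∈ S) (ht : t ∈ T) : g * t * g⁻¹ ∈ T :=
  (Subgroup.mem_normalizer_iff.1 (stronglyClosed_le_normalizer hT hg) t).1 ht

theorem sc_centralizer_le_normalizer : S ≤ Subgroup.normalizer (centralizerIn S T : Set Ω) := by
  have key : ∀ g ∈ S, ∀ c ∈ centralizerIn S T, g * c * g⁻¹ ∈ centralizerIn S T := by
    intro g hg c hc
    obtain ⟨hcS, hcc⟩ := mem_centralizerIn.1 hc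
    refine mem_centralizerIn.2 ⟨S.mul_mem (S.mul_mem hg hcS) (S.inv_mem hg), fun t ht => ?_⟩
    have ht' : g⁻¹ * t * g ∈ T := by
      have := sc_conj_mem hT (S.inv_mem hg) ht
      rwa [inv_inv] at this
    have h := hcc _ ht'
    calc g * c * g⁻¹ * t = g * (c * (g⁻¹ * t * g)) * g⁻¹ := by group
      _ = g * ((g⁻¹ * t * g) * c) * g⁻¹ := by rw [h]
      _ = t * (g * c * g⁻¹) := by group
  intro g hg
  refine Subgroup.mem_normalizer_iff.2 fun c => ⟨key g hg c, fun h => ?_⟩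
  have := key g⁻¹ (S.inv_mem hg) _ h
  rwa [inv_inv, show g⁻¹ * (g * c * g⁻¹) * g = c by group] at this

theorem exists_mul_of_sup {P : Subgroup Ω} (hP : P ≤ T) {x : Ω} (hx : x ∈ P ⊔ centralizerIn S T) :
    ∃ a ∈ P, ∃ c ∈ centralizerIn S T, x = a * c := by
  have h : ((P ⊔ centralizerIn S T : Subgroup Ω) : Set Ω) = (P : Set Ω) * (centralizerIn S T : Set Ω) :=
    Subgroup.coe_mul_of_left_le_normalizer_right _ _
      ((hP.trans hT.1).trans (sc_centralizer_le_normalizer hT))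
  rw [← SetLike.mem_coe, h] at hx
  obtain ⟨a, ha, c, hc, rfl⟩ := hx
  exact ⟨a, ha, c, hc, rfl⟩

end

/-- On a centric subgroup, a good extension moves `C_S(T)` only by elements of the image. -/
theorem good_ext_spec {P : Subgroup Ω} {φ : P →* Ω} (hφ : φ ∈ E.Hom P) (hP : E.IsCentric P)
    {ψ : ↥(P ⊔ centralizerIn S T) →* Ω}
    (he : ∀ (x : P) (hx : (x : Ω) ∈ P ⊔ centralizerIn S T), ψ ⟨x, hx⟩ = φ x)
    (hC : ∀ (c : Ω) (_ : c ∈ centralizerIn S T) (hc : c ∈ P ⊔ centralizerIn S T), c⁻¹ * ψ ⟨c, hc⟩ ∈ T) :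
    (∀ c, c ∈ centralizerIn S T → ∀ hc : c ∈ P ⊔ centralizerIn S T, c⁻¹ * ψ ⟨c, hc⟩ ∈ φ.range) ∧
      ψ.range = φ.range ⊔ centralizerIn S T := by
  have key : ∀ c, c ∈ centralizerIn S T → ∀ hc : c ∈ P ⊔ centralizerIn S T,
      c⁻¹ * ψ ⟨c, hc⟩ ∈ φ.range := by
    intro c hcC hc
    refine hP.2 _ ⟨φ, hφ, rfl⟩ (mem_centralizerIn.2 ⟨hC c hcC hc, ?_⟩)
    rintro _ ⟨x, rfl⟩
    have hx : (x : Ω) ∈ P ⊔ centralizerIn S T := Subgroup.mem_sup_left x.2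
    have h1 : ψ (⟨c, hc⟩ * ⟨x, hx⟩) = ψ (⟨x, hx⟩ * ⟨c, hc⟩) :=
      congrArg ψ (Subtype.ext ((mem_centralizerIn.1 hcC).2 _ (hP.1 x.2)))
    rw [map_mul, map_mul, he x hx] at h1
    calc c⁻¹ * ψ ⟨c, hc⟩ * φ x = c⁻¹ * (ψ ⟨c, hc⟩ * φ x) := mul_assoc _ _ _
      _ = c⁻¹ * φ x * ψ ⟨c, hc⟩ := by rw [h1, mul_assoc]
      _ = φ x * (c⁻¹ * ψ ⟨c, hc⟩) := by
        rw [← mul_assoc, show c⁻¹ * φ x = φ x * c⁻¹ from
          (Commute.inv_left ((mem_centralizerIn.1 hcC).2 _ (hom_mem hφ x))).eq]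
  refine ⟨key, le_antisymm ?_ ?_⟩
  · rw [MonoidHom.range_eq_map]
    refine Subgroup.map_le_iff_le_comap.2 ?_
    intro x _
    have hle : P ⊔ centralizerIn S T ≤
        ((φ.range ⊔ centralizerIn S T).comap ψ).map (P ⊔ centralizerIn S T).subtype := by
      refine sup_le (fun a ha => ⟨⟨a, Subgroup.mem_sup_left ha⟩, ?_, rfl⟩)
        fun c hc => ⟨⟨c, Subgroup.mem_sup_right hc⟩, ?_, rfl⟩
      · exact Subgroup.mem_sup_left ⟨⟨a, ha⟩, (he ⟨a, ha⟩ _).symm⟩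
      · have := mul_mem (Subgroup.mem_sup_right (S := φ.range) hc)
          (Subgroup.mem_sup_left (key c hc (Subgroup.mem_sup_right hc)))
        rwa [mul_inv_cancel_left] at this
    obtain ⟨y, hy, hyx⟩ := hle x.2
    rw [Subtype.ext (a1 := y) (a2 := x) hyx] at hy
    exact hy
  · refine sup_le ?_ ?_
    · rintro _ ⟨x, rfl⟩
      exact ⟨⟨x, Subgroup.mem_sup_left x.2⟩, he x _⟩
    · intro c hc
      have hcm : c ∈ P ⊔ centralizerIn S T := Subgroup.mem_sup_right hc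
      obtain ⟨a, ha⟩ := key c hc hcm
      refine ⟨⟨c, hcm⟩ * ⟨(a⁻¹ : P), Subgroup.mem_sup_left (a⁻¹).2⟩, ?_⟩
      rw [map_mul, he a⁻¹, map_inv, ha, mul_inv_rev, inv_inv, mul_inv_cancel_left]

/-- The subsystem of maps that are good on centric subgroups. -/
def goodSystem (F : FusionSystem S) (E : FusionSystem T) (hT : F.StronglyClosed T) :
    FusionSystem T where
  Hom P := {φ | φ ∈ E.Hom P ∧ (E.IsCentric P → GoodMap F T φ)}
  le_of_mem h := E.le_of_mem h.1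
  injective_of_mem h := E.injective_of_mem h.1
  conj_mem := by
    intro P g hP hg
    refine ⟨E.conj_mem hP hg, fun _ => ?_⟩
    have hR : P ⊔ centralizerIn S T ≤ S := sup_le (hP.trans hT.1) (centralizerIn_le T)
    refine ⟨conjHom _ g, F.conj_mem hR (hT.1 hg), fun _ _ => rfl, fun c hcC hc => ?_⟩
    show c⁻¹ * (g * c * g⁻¹) ∈ T
    rw [conj_eq_of_commute (g := g) ((mem_centralizerIn.1 hcC).2 g hg).symm, inv_mul_cancel]
    exact T.one_mem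
  comp_mem := by
    rintro P Q φ ψ ⟨hφ, hφg⟩ ⟨hψ, hψg⟩ h
    refine ⟨E.comp_mem hφ hψ h, fun hP => ?_⟩
    have hr : φ.range ≤ Q := by
      rintro _ ⟨x, rfl⟩
      exact h x
    have hφc : E.IsCentric φ.range :=
      ⟨range_le hφ, fun R hR => hP.2 R (isConj_trans ⟨φ, hφ, rfl⟩ hR)⟩
    obtain ⟨φ', hφ', hφe, hφC⟩ := hφg hP
    obtain ⟨ψ', hψ', hψe, hψC⟩ := hψg (isCentric_mono hφc hr (hom_le hψ))
    obtain ⟨hφz, hφr⟩ := good_ext_spec hφ hP hφe hφC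
    have hv : ∀ x, φ' x ∈ Q ⊔ centralizerIn S T := fun x =>
      (sup_le_sup_right hr _ : φ.range ⊔ centralizerIn S T ≤ _) (hφr.le ⟨x, rfl⟩)
    refine ⟨_, F.comp_mem hφ' hψ' hv, fun x hx => ?_, fun c hcC hc => ?_⟩
    · have hm : φ x ∈ Q ⊔ centralizerIn S T := Subgroup.mem_sup_left (h x)
      exact (congrArg ψ' (Subtype.ext (hφe x hx))).trans (hψe ⟨φ x, h x⟩ hm)
    · show c⁻¹ * ψ' ⟨φ' ⟨c, hc⟩, hv _⟩ ∈ T
      set z := c⁻¹ * φ' ⟨c, hc⟩ with hz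
      have hzQ : z ∈ Q := hr (hφz c hcC hc)
      rw [show (⟨φ' ⟨c, hc⟩, hv _⟩ : ↥(Q ⊔ centralizerIn S T)) =
        ⟨c, Subgroup.mem_sup_right hcC⟩ * ⟨z, Subgroup.mem_sup_left hzQ⟩ from
          Subtype.ext (show φ' ⟨c, hc⟩ = c * (c⁻¹ * φ' ⟨c, hc⟩) from (mul_inv_cancel_left c _).symm), map_mul, ← mul_assoc]
      exact T.mul_mem (hψC c hcC _) (by rw [hψe ⟨z, hzQ⟩]; exact hom_mem hψ _)
  inv_mem := by
    rintro P φ ⟨hφ, hφg⟩
    obtain ⟨χ, hχ, hχe⟩ := E.inv_mem hφ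
    refine ⟨χ, ⟨hχ, fun hr => ?_⟩, hχe⟩
    have hP : E.IsCentric P :=
      ⟨hom_le hφ, fun R hR => hr.2 R (isConj_trans (isConj_symm ⟨φ, hφ, rfl⟩) hR)⟩
    obtain ⟨φ', hφ', hφe, hφC⟩ := hφg hP
    obtain ⟨hφz, hφr⟩ := good_ext_spec hφ hP hφe hφC
    obtain ⟨ψ, hψ, -, hψe⟩ := exists_inv hφ' hφr
    refine ⟨ψ, hψ, ?_, fun c hcC hc => ?_⟩
    · rintro ⟨_, x, rfl⟩ hy
      have hxm : (x : Ω) ∈ P ⊔ centralizerIn S T := Subgroup.mem_sup_left x.2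
      rw [hχe x]
      refine (congrArg ψ (Subtype.ext (hφe x hxm).symm)).trans (hψe ⟨x, hxm⟩ ?_)
      rw [hφe x hxm]; exact hy
    · have hcm : c ∈ P ⊔ centralizerIn S T := Subgroup.mem_sup_right hcC
      obtain ⟨a, ha⟩ := hφz c hcC hcm
      set x : ↥(P ⊔ centralizerIn S T) := ⟨c, hcm⟩ * ⟨(a⁻¹ : P), Subgroup.mem_sup_left (a⁻¹).2⟩ with hx
      have hxc : φ' x = c := by
        rw [hx, map_mul, hφe a⁻¹, map_inv, ha, mul_inv_rev, inv_inv, mul_inv_cancel_left]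
      have hψc : ψ ⟨c, hc⟩ = (x : Ω) :=
        (congrArg ψ (Subtype.ext hxc.symm)).trans (hψe x (by rw [hxc]; exact hc))
      rw [hψc]
      show c⁻¹ * (c * ((a⁻¹ : P) : Ω)) ∈ T
      rw [inv_mul_cancel_left]
      exact hom_le hφ (a⁻¹).2

end Cfsg.Lib.FusionSys
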