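import Cfsg.Agent.Lib.FusionSys.ExtIso
import Cfsg.Agent.Lib.FusionSys.Alperin

/-!
A fusion system generated on a family outside of which the bigger subgroups behave well: every member
of a class maps its normalizer into that of a member with largest normalizer, and the automizer of
such a member is generated by automorphisms that extend to bigger subgroups.
-/

set_option autoImplicit false

namespace Cfsg.Lib.FusionSys

open Cfsg Cfsg.FusionSystem

variable {Ω : Type*} [Group Ω] {S : Subgroup Ω} {F : FusionSystem S}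
variable {p : ℕ} {A B P Pm : Subgroup Ω}

/-- Some conjugate is fully automized and receptive. -/
def GoodClass (F : FusionSystem S) (p : ℕ) (R : Subgroup Ω) : Prop :=
  ∃ Q, F.IsConj R Q ∧ F.IsFullyAutomized p Q ∧ F.IsReceptive Q

/-- Every class of subgroups larger than `P` has a fully automized receptive member. -/
def GoodAbove (F : FusionSystem S) (p : ℕ) (P : Subgroup Ω) : Prop :=
  ∀ R : Subgroup Ω, R ≤ S → Nat.card P < Nat.card R → GoodClass F p R

/-- Composites of isomorphisms extending to bigger subgroups. -/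
inductive BigIso (F : FusionSystem S) : ∀ {A B : Subgroup Ω}, (A ≃* B) → Prop
  | base {A B : Subgroup Ω} (e : A ≃* B) (R : Subgroup Ω) : A < R → ExtIso F R S e → BigIso F e
  | trans {A B C : Subgroup Ω} (e : A ≃* B) (f : B ≃* C) :
      BigIso F e → BigIso F f → BigIso F (e.trans f)

theorem BigIso.isoIn {e : A ≃* B} (h : BigIso F e) : IsoIn F e := by
  induction h with
  | base e R _ he => exact he.isoIn
  | trans e f _ _ ih ih' => exact ih.trans ih'

theorem BigIso.symm [Finite S] {e : A ≃* B} (h : BigIso F e) : BigIso F e.symm := by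
  induction h with
  | @base A B e R hAR he =>
    obtain ⟨T', hT', hc, h'⟩ := he.symm
    haveI := finite_of_le he.le_S
    refine BigIso.base _ T' (lt_of_le_of_ne h'.1 ?_) (h'.mono h'.1 le_rfl he.le_S)
    rintro rfl
    have h1 : Nat.card A = Nat.card B := Nat.card_congr e.toEquiv
    exact hAR.ne (eq_of_le_of_card_le he.le_S hAR.le (by omega))
  | trans e f _ _ ih ih' => exact BigIso.trans _ _ ih' ih

/-- Every isomorphism in the class is a composite of isomorphisms extending to bigger subgroups. -/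
theorem bigIso_of_generated [Finite S] (ℋ : Set (Subgroup Ω))
    (hℋconj : ∀ P ∈ ℋ, ∀ Q, F.IsConj P Q → Q ∈ ℋ)
    (hgen : ∀ E : FusionSystem S, (∀ P ∈ ℋ, F.Hom P ⊆ E.Hom P) → F ≤ E)
    (hP : P ∉ ℋ) (hPS : Nat.card P < Nat.card S)
    {A B : Subgroup Ω} (e : A ≃* B) (he : IsoIn F e) (hA : F.IsConj P A) : BigIso F e := by
  have hne : ∀ A', F.IsConj P A' → A' ≤ S ∧ A' < S := fun A' h => by
    refine ⟨(isConj_le h).2, lt_of_le_of_ne (isConj_le h).2 ?_⟩
    rintro rfl
    rw [card_eq_of_isConj h] at hPS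
    exact hPS.false
  let D : FusionSystem S :=
    { Hom := fun A => {φ | φ ∈ F.Hom A ∧ (F.IsConj P A →
        ∀ (B : Subgroup Ω) (e : A ≃* B), (∀ x, (e x : Ω) = φ x) → BigIso F e)}
      le_of_mem := fun h => F.le_of_mem h.1
      injective_of_mem := fun h => F.injective_of_mem h.1
      conj_mem := fun {A' g} hA' hg => ⟨F.conj_mem hA' hg, fun hc B' e' he' =>
        BigIso.base e' S (hne A' hc).2 ⟨hA', conjHom S g, F.conj_mem le_rfl hg,
          fun x => S.mul_mem (S.mul_mem hg x.2) (S.inv_mem hg), fun x hx hS => (he' ⟨x, hx⟩).symm⟩⟩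
      comp_mem := by
        rintro A' Q φ ψ ⟨hφ, h1⟩ ⟨hψ, h2⟩ hv
        refine ⟨F.comp_mem hφ hψ hv, fun hc B' e' he' => ?_⟩
        let eφ := homIso hφ (rfl : φ.range = φ.range)
        have hb1 := h1 hc _ eφ fun x => rfl
        have hle : φ.range ≤ Q := by rintro _ ⟨x, rfl⟩; exact hv x
        let eψ : φ.range ≃* B' := eφ.symm.trans e'
        have heψ : ∀ y, (eψ y : Ω) = ψ (Subgroup.inclusion hle y) := by
          intro y
          show (e' (eφ.symm y) : Ω) = _
          rw [he']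
          exact congrArg ψ (Subtype.ext (congrArg Subtype.val (eφ.apply_symm_apply y) :))
        have hb2 : BigIso F eψ := by
          by_cases hQ : φ.range = Q
          · subst hQ
            exact h2 (isConj_trans hc ⟨φ, hφ, rfl⟩) _ eψ fun y => (heψ y)
          · exact BigIso.base eψ Q (lt_of_le_of_ne hle hQ)
              ⟨hle, ψ, hψ, fun y => hom_mem hψ y, fun y hy hyQ => (heψ ⟨y, hy⟩).symm⟩
        have := BigIso.trans _ _ hb1 hb2
        rwa [show eφ.trans eψ = e' from MulEquiv.ext fun x => by simp [eψ]] at this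
      inv_mem := by
        rintro A' φ ⟨hφ, h1⟩
        obtain ⟨ψ, hψ, hψe⟩ := F.inv_mem hφ
        refine ⟨ψ, ⟨hψ, fun hc B' e' he' => ?_⟩, hψe⟩
        have hcA : F.IsConj P A' := isConj_trans hc (isConj_symm ⟨φ, hφ, rfl⟩)
        let eφ := homIso hφ (rfl : φ.range = φ.range)
        have h3 := (h1 hcA _ eφ fun x => rfl).symm
        have hval : ∀ y, (e' y : Ω) = (eφ.symm y : Ω) := fun y => by
          obtain ⟨x, hx⟩ : ∃ x, eφ x = y := ⟨_, eφ.apply_symm_apply y⟩
          subst hx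
          rw [he', MulEquiv.symm_apply_apply]
          exact hψe x
        obtain rfl : B' = A' := le_antisymm
          (fun b hb => by
            have := (eφ.symm (e'.symm ⟨b, hb⟩)).2
            rwa [← hval, MulEquiv.apply_symm_apply] at this)
          (fun a ha => by
            have := (e' (eφ ⟨a, ha⟩)).2
            rwa [hval, MulEquiv.symm_apply_apply] at this)
        rwa [show e' = eφ.symm from MulEquiv.ext fun y => Subtype.ext (hval y)] }
  have hle := hgen D fun A' hA' φ hφ =>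
    ⟨hφ, fun hc => absurd (hℋconj A' hA' P (isConj_symm hc)) hP⟩
  exact (hle A he).2 hA _ e fun x => rfl

/-- Restriction to a stabilized subgroup. -/
noncomputable def restrAut {R A : Subgroup Ω} (hAR : A ≤ R) : stabAut F R A →* MulAut A where
  toFun α :=
    { toFun := fun a => ⟨((α : MulAut R) ⟨a, hAR a.2⟩ : R), (α.2.2 ⟨a, hAR a.2⟩).1 a.2⟩
      invFun := fun a => ⟨((α : MulAut R).symm ⟨a, hAR a.2⟩ : R), (α.2.2 _).2 (by
        rw [MulEquiv.apply_symm_apply]; exact a.2)⟩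
      left_inv := fun a => Subtype.ext (by simp)
      right_inv := fun a => Subtype.ext (by simp)
      map_mul' := fun a b => Subtype.ext (by
        show (((α : MulAut R) ⟨((a * b : A) : Ω), _⟩ : R) : Ω) = _
        rw [show (⟨((a * b : A) : Ω), hAR (a * b).2⟩ : R) = ⟨a, hAR a.2⟩ * ⟨b, hAR b.2⟩ from rfl,
          map_mul]
        rfl) }
  map_one' := MulEquiv.ext fun a => rfl
  map_mul' α β := MulEquiv.ext fun a => Subtype.ext rfl

theorem coe_restrAut {R A : Subgroup Ω} (hAR : A ≤ R) (α : stabAut F R A) (a : A) :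
    ((restrAut hAR α a : A) : Ω) = (((α : MulAut R) ⟨a, hAR a.2⟩ : R) : Ω) := rfl

theorem ExtIso.restrict {R R' T U : Subgroup Ω} {E : R ≃* R'} (h : ExtIso F T U E) {e : A ≃* B}
    (hAR : A ≤ R) (hc : ∀ a : A, (e a : Ω) = (E ⟨a, hAR a.2⟩ : Ω)) : ExtIso F T U e := by
  obtain ⟨hR, ψ, hψ, hv, he⟩ := h
  exact ⟨hAR.trans hR, ψ, hψ, hv, fun x hx hT => by rw [he x (hAR hx) hT, hc ⟨x, hx⟩]⟩

theorem exists_image_iso {T : Subgroup Ω} {ψ : T →* Ω} (hψ : ψ ∈ F.Hom T) (hAT : A ≤ T) :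
    ∃ (B : Subgroup Ω) (e : A ≃* B), ExtIso F T ψ.range e ∧ ExtIso F ψ.range T e.symm ∧
      B = (A.subgroupOf T).map ψ ∧ B ≤ ψ.range ∧
      (T ≤ Subgroup.normalizer (A : Set Ω) → ψ.range ≤ Subgroup.normalizer (B : Set Ω)) ∧
      ∀ a : A, (e a : Ω) = ψ ⟨a, hAT a.2⟩ := by
  have hB : (ψ.comp (Subgroup.inclusion hAT)).range = (A.subgroupOf T).map ψ := by
    ext y
    rw [mem_map_subgroupOf]
    exact ⟨fun ⟨x, hx⟩ => ⟨x, hAT x.2, x.2, hx⟩, fun ⟨x, _, hxA, hx⟩ => ⟨⟨x, hxA⟩, hx⟩⟩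
  let e := homIso (restrict_mem hψ hAT) hB
  have h1 : ExtIso F T ψ.range e := ⟨hAT, ψ, hψ, fun x => ⟨x, rfl⟩, fun x hx hT => rfl⟩
  refine ⟨_, e, h1, ?_, rfl, Subgroup.map_le_range ψ _, fun hN => ?_, fun a => rfl⟩
  · obtain ⟨χ, hχ, hχe⟩ := F.inv_mem hψ
    refine ⟨Subgroup.map_le_range ψ _, χ, hχ, ?_, ?_⟩
    · rintro ⟨_, x, rfl⟩
      rw [hχe x]
      exact x.2
    · intro y hy hT
      have h2 : ψ ⟨_, hAT (e.symm ⟨y, hy⟩).2⟩ = y :=
        congrArg Subtype.val (e.apply_symm_apply ⟨y, hy⟩)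
      have h3 : (⟨y, hT⟩ : ψ.range) = ⟨ψ ⟨_, hAT (e.symm ⟨y, hy⟩).2⟩, ⟨_, rfl⟩⟩ := Subtype.ext h2.symm
      rw [h3, hχe]
  · rintro _ ⟨x, rfl⟩
    exact map_mem_normalizer (Q := A) ψ x (hN x.2)

/-- The normalizer of `A` maps into that of `Pm`, with `A` going to `Pm`. -/
def ToP (F : FusionSystem S) (Pm A : Subgroup Ω) : Prop :=
  ∃ e : A ≃* Pm, ExtIso F (normalizerIn S A) (normalizerIn S Pm) e

/-- Data of a move of `A ≤ R ≤ T`. -/
theorem exists_good_move [Finite S] [Fact p.Prime] (hS : IsPGroup p S) {R R0 T : Subgroup Ω}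
    (hfa : F.IsFullyAutomized p R0) (hrec : F.IsReceptive R0) (hconj : F.IsConj R R0)
    (hAR : A ≤ R) (hRT : R ≤ T) (hT : T ≤ normalizerIn S R)
    (hTA : T ≤ Subgroup.normalizer (A : Set Ω)) :
    ∃ (A' : Subgroup Ω) (e : A ≃* A') (g : R ≃* R0), A' ≤ R0 ∧ SylowStab F p R0 A' ∧
      ExtIso F T (normalizerIn S R0 ⊓ normalizerIn S A') e ∧
      ExtIso F T (normalizerIn S R0) g ∧
      ∀ a : A, (e a : Ω) = (g ⟨a, hAR a.2⟩ : Ω) := by
  obtain ⟨ν, hν, hνv, hνR⟩ := exists_normalizer_map hS hfa hrec hconj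
  have hχ : ν.comp (Subgroup.inclusion hT) ∈ F.Hom T := restrict_mem hν hT
  set χ := ν.comp (Subgroup.inclusion hT) with hχdef
  have hRS : R ≤ S := (isConj_le hconj).1
  obtain ⟨R', gR, hgR, -, hR', hR'le, -, hgv⟩ := exists_image_iso (A := R) hχ hRT
  obtain rfl : R' = R0 := by
    rw [hR', ← hνR]
    ext y
    rw [mem_map_subgroupOf, mem_map_subgroupOf]
    exact ⟨fun ⟨x, hx, hxR, he⟩ => ⟨x, hT hx, hxR, he⟩,
      fun ⟨x, _, hxR, he⟩ => ⟨x, hRT hxR, hxR, he⟩⟩
  obtain ⟨A0, eA, heA, -, hA0, -, hA0n, hA0v⟩ := exists_image_iso (A := A) hχ (hAR.trans hRT)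
  have hcompat : ∀ a : A, (eA a : Ω) = (gR ⟨a, hAR a.2⟩ : Ω) := fun a => by
    rw [hA0v, hgv]
  have hT0 : χ.range ≤ normalizerIn S R' := by
    rintro _ ⟨x, rfl⟩
    exact hνv _
  have hA0R : A0 ≤ R' := by
    intro y hy
    have := (gR ⟨_, hAR (eA.symm ⟨y, hy⟩).2⟩).2
    rwa [← hcompat, MulEquiv.apply_symm_apply] at this
  obtain ⟨A', e', hA'R, hst, hext, γ, hγ, hγe⟩ :=
    exists_sylow_move hS hfa hrec hA0R hT0 (hA0n hTA) hR'le
  refine ⟨A', eA.trans e', gR.trans γ, hA'R, hst, heA.trans hext, hgR.trans hγ, fun a => ?_⟩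
  show (e' (eA a) : Ω) = (γ (gR ⟨a, hAR a.2⟩) : Ω)
  rw [← hγe _ (hA0R (eA a).2) (eA a).2]
  exact congrArg (fun z : R' => (γ z : Ω)) (Subtype.ext (hcompat a))

end Cfsg.Lib.FusionSys
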