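import Cfsg.Agent.Lib.FusionSys.NormalizerModel

/-!
Section-free fusion systems: normalizer systems inherit the property, and radical centric subgroups suffice.
-/

set_option autoImplicit false

universe u v w

namespace Cfsg.Lib.FusionSys

open Cfsg Cfsg.FusionSystem

variable {Ω : Type u} [Group Ω] {S : Subgroup Ω} {F : FusionSystem S} {p : ℕ} {Q : Subgroup Ω}
variable {H : Type w} [Group H]

theorem isSectionFree_normalizerSystem [Finite S] [Fact p.Prime] (hS : IsPGroup p S)
    (hF : F.IsSaturated p) (hfree : F.IsSectionFree p H) (hQ : F.IsFullyNormalized Q)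
    {N : FusionSystem (normalizerIn S Q)} (hN : F.IsNormalizerSystem Q N) :
    N.IsSectionFree p H := by
  intro U hUn hUc M hM L _ ι hL hinv
  obtain ⟨R, hRn, hRc, -, hemb⟩ := exists_model_embedding hS hF hQ hN hUn hUc hM hL
  obtain ⟨N', hN', L', hL'g, ι', hL'⟩ := exists_normalizer_model hS hF hRn hRc
  obtain ⟨f, hf⟩ := hemb N' hN' L' ι' hL'
  exact hfree R hRn hRc N' hN' L' ι' hL' (involves_of_injective hf hinv)

theorem isFullyNormalized_of_isNormal [Finite S] (hQ : F.IsNormal Q) : F.IsFullyNormalized Q := by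
  refine ⟨hQ.1, fun R hR => ?_⟩
  obtain ⟨φ, hφ, rfl⟩ := hR
  rw [range_eq_of_card_le hφ hQ.1
    (fun y => (isNormal_stronglyClosed hQ).2 _ le_rfl φ hφ y) le_rfl]

theorem imageOf_le_pCore [Finite S] [Fact p.Prime] (hS : IsPGroup p S) {G : Type v} [Group G]
    {ι : S →* G} (hM : F.IsModel p G ι) (hQ : F.IsNormal Q) : imageOf ι Q ≤ pCore p G := by
  haveI := hM.1
  exact Cfsg.Lib.Core.le_pCore' (imageOf_normal hM hQ) ((hS.to_subgroup _).map ι)

/-- A centric subgroup is radical when it is the largest normal `p`-subgroup of its model. -/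
theorem isRadical_of_pCore_eq [Finite S] [Fact p.Prime] (hS : IsPGroup p S)
    (hn : F.IsFullyNormalized Q) {N : FusionSystem (normalizerIn S Q)}
    (hN : F.IsNormalizerSystem Q N) (hc : F.IsCentric Q) {L : Type v} [Group L]
    {ι : normalizerIn S Q →* L} (hL : N.IsModel p L ι) (heq : pCore p L = imageOf ι Q) :
    F.IsRadical p Q := by
  haveI := hL.1
  haveI := finite_of_le hn.1
  haveI := finite_of_le (normalizerIn_le (S := S) Q)
  have hQN : Q ≤ normalizerIn S Q := le_normalizerIn hn.1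
  have hQnorm := imageOf_normal hL (isNormal_normalizerSystem hn.1 hN)
  set π := modelAut ι hL.2.1.1 hQN hQnorm with hπdef
  have hπ : ∀ g, π g ∈ F.autGroup Q := by
    intro g
    refine (mem_autGroup hn.1).2 (subset_of_normalizerSystem hN ?_)
    refine (hL.2.1.2 Q hQN _ fun q => hQN (π g q).2).2 ⟨g, fun q => ?_⟩
    exact modelAut_spec ι hL.2.1.1 hQN hQnorm g q
  let π' : L →* F.autGroup Q := π.codRestrict _ hπ
  have hsurj : Function.Surjective π' := by
    rintro ⟨α, hα⟩
    have hαN : Q.subtype.comp α.toMonoidHom ∈ N.Hom Q := by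
      refine mem_normalizerSystem_of_le hN ((mem_autGroup hn.1).1 hα) le_rfl hQN ?_
      rw [Subgroup.subgroupOf_self, ← MonoidHom.range_eq_map]
      ext y
      exact ⟨by rintro ⟨x, rfl⟩; exact (α x).2, fun hy => ⟨α.symm ⟨y, hy⟩, by simp⟩⟩
    obtain ⟨g, hg⟩ := exists_of_realized hL.2.1 hαN
    exact ⟨g, Subtype.ext (modelAut_eq ι hL.2.1.1 hQN hQnorm fun q => hg q)⟩
  refine ⟨hn.1, le_antisymm ?_ ?_⟩
  · rintro _ ⟨a, ha, rfl⟩
    have hker : IsPGroup p π'.ker := by
      refine IsPGroup.to_le ((((hS.to_le (normalizerIn_le Q)).to_subgroup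
        (Q.subgroupOf (normalizerIn S Q)))).map ι) ?_
      intro g hg
      exact centralizer_imageOf_le hL (isNormal_normalizerSystem hn.1 hN)
        ((isCentric_normalizerSystem hc hN).2 Q (isConj_refl N hQN))
        ((modelAut_eq_one_iff ι hL.2.1.1 hQN hQnorm g).1 (congrArg Subtype.val hg))
    have hle : (pCore p (F.autGroup Q)).comap π' ≤ pCore p L :=
      Cfsg.Lib.Core.le_pCore' (Subgroup.Normal.comap inferInstance π')
        ((Cfsg.Lib.Core.pCore_isPGroup p _).comap_of_ker_isPGroup π' hker)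
    obtain ⟨g, rfl⟩ := hsurj a
    obtain ⟨x, hx, rfl⟩ := heq.le (hle ha)
    refine ⟨⟨x, hx⟩, ?_⟩
    symm
    refine modelAut_eq ι hL.2.1.1 hQN hQnorm fun q => ?_
    rw [← map_inv, ← map_mul, ← map_mul]
    rfl
  · intro a ha
    have hn' := inn_subgroupOf_normal (F.autGroup Q) (P := Q)
    have hp : IsPGroup p ((Inn Q).subgroupOf (F.autGroup Q)) := by
      refine IsPGroup.comap_subtype (IsPGroup.to_le ?_ (inn_le_autInducedBy hn.1))
      exact isPGroup_autInducedBy hS
    exact ⟨⟨a, inn_le_autGroup hn.1 ha⟩, Cfsg.Lib.Core.le_pCore' hn' hp ha, rfl⟩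

theorem isSectionFree_of_radical [Finite S] [Fact p.Prime] (hS : IsPGroup p S)
    (hF : F.IsSaturated p)
    (h : ∀ Q : Subgroup Ω, F.IsFullyNormalized Q → F.IsCentric Q → F.IsRadical p Q →
      ∀ N : FusionSystem (normalizerIn S Q), F.IsNormalizerSystem Q N →
        ∀ (L : Type u) [Group L] (ι : normalizerIn S Q →* L), N.IsModel p L ι → ¬ Involves H L) :
    F.IsSectionFree p H := by
  suffices key : ∀ (n : ℕ) (Q : Subgroup Ω), Nat.card S - Nat.card Q < n → F.IsFullyNormalized Q →
      F.IsCentric Q → ∀ N : FusionSystem (normalizerIn S Q), F.IsNormalizerSystem Q N →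
        ∀ (L : Type u) [Group L] (ι : normalizerIn S Q →* L), N.IsModel p L ι → ¬ Involves H L from
    fun Q hn hc => key _ Q (Nat.lt_succ_self _) hn hc
  intro n
  induction n with
  | zero => intro Q hlt; omega
  | succ n ih =>
    intro Q hlt hn hc N hN L _ ι hL hinv
    haveI := hL.1
    haveI := finite_of_le hn.1
    have hQN : Q ≤ normalizerIn S Q := le_normalizerIn hn.1
    haveI := finite_of_le (normalizerIn_le (S := S) Q)
    have hp₁ : IsPGroup p (normalizerIn S Q) := hS.to_le (normalizerIn_le Q)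
    by_cases heq : pCore p L = imageOf ι Q
    · exact h Q hn hc (isRadical_of_pCore_eq hS hn hN hc hL heq) N hN L ι hL hinv
    let U : Subgroup Ω := ((pCore p L).comap ι).map (normalizerIn S Q).subtype
    have hUnorm : N.IsNormal U := isNormal_pCore_preimage hL.2.1 hL.2.2.1
    have hUc : N.IsCentric U := isCentric_pCore_preimage hL
    have hQU : Q ≤ U := fun x hx =>
      ⟨⟨x, hQN hx⟩, imageOf_le_pCore hp₁ hL (isNormal_normalizerSystem hn.1 hN) ⟨_, hx, rfl⟩, rfl⟩
    have hlt' : Q < U := by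
      refine lt_of_le_of_ne hQU fun he => heq (le_antisymm ?_ ?_)
      · intro y hy
        obtain ⟨T, hT⟩ := hL.2.2.1
        obtain ⟨x, rfl⟩ := hT.le (Cfsg.Lib.Core.pCore_le_sylow T hy)
        exact ⟨x, he.ge ⟨x, hy, rfl⟩, rfl⟩
      · exact imageOf_le_pCore hp₁ hL (isNormal_normalizerSystem hn.1 hN)
    have hnorm : normalizerIn (normalizerIn S Q) U = normalizerIn S Q :=
      le_antisymm (normalizerIn_le U)
        fun g hg => ⟨hg, stronglyClosed_le_normalizer (isNormal_stronglyClosed hUnorm) hg⟩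
    obtain ⟨M, hM⟩ := exists_normalizerSystem N hUnorm.1
    let ι₂ : normalizerIn (normalizerIn S Q) U →* L := ι.comp (Subgroup.inclusion hnorm.le)
    have hLM : M.IsModel p L ι₂ := by
      obtain ⟨-, ⟨hinj, hiff⟩, hT, hC⟩ := hL
      refine ⟨inferInstance, ⟨hinj.comp (Subgroup.inclusion_injective _),
        fun P hP φ hv => ⟨fun hφ => ?_, fun hg => ?_⟩⟩, ?_, hC⟩
      · exact (hiff P (hP.trans hnorm.le) φ fun x => hnorm.le (hv x)).1
          (subset_of_normalizerSystem hM hφ)
      · have hφN := (hiff P (hP.trans hnorm.le) φ fun x => hnorm.le (hv x)).2 hg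
        exact (mem_normalizerSystem hM).2 ⟨hφN, hP, hv, hUnorm.2 P φ hφN⟩
      · obtain ⟨T, hT⟩ := hT
        refine ⟨T, hT.trans ?_⟩
        ext y
        exact ⟨fun ⟨x, hx⟩ => ⟨⟨x, hnorm.ge x.2⟩, hx⟩, fun ⟨x, hx⟩ => ⟨_, hx⟩⟩
    obtain ⟨R, hRn, hRc, hcard, hemb⟩ := exists_model_embedding hS hF hn hN
      (isFullyNormalized_of_isNormal hUnorm) hUc hM hLM
    obtain ⟨N', hN', L', hL'g, ι', hL'⟩ := exists_normalizer_model hS hF hRn hRc
    obtain ⟨f, hf⟩ := hemb N' hN' L' ι' hL'
    refine ih R ?_ hRn hRc N' hN' L' ι' hL' (involves_of_injective hf hinv)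
    have h1 : Nat.card Q < Nat.card U := by
      haveI := finite_of_le (hUnorm.1.trans (normalizerIn_le Q))
      refine lt_of_le_of_ne (card_le_of_le hQU) fun he => hlt'.ne ?_
      exact Subgroup.eq_of_le_of_card_ge hQU he.ge
    rw [sup_eq_left.2 hQU] at hcard
    have h2 : Nat.card R ≤ Nat.card S := card_le_of_le hRn.1
    omega

end Cfsg.Lib.FusionSys
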