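import Cfsg.Agent.Lib.FusionSys.SmallFusion
import Cfsg.Agent.Lib.FusionSys.Extend

/-!
Small-exponent abelian subgroups of the hyperfocal subgroup control fusion.
-/

set_option autoImplicit false
set_option linter.style.haveILetI false

universe u

namespace Cfsg.Lib.FusionSys

open Cfsg Cfsg.FusionSystem
open Cfsg.Lib.Local.RankTwoAut (restrictHom apply_mem_of_char)
open scoped commutatorElement

variable {p : ℕ} [Fact p.Prime]

/-- The exponent bound: `p`, or `4` when `p = 2`. -/
def smallExp (p : ℕ) : ℕ := if p = 2 then 4 else p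

theorem smallExp_of_isSmall {G : Type*} [Monoid G] {x : G} (h : IsSmall p x) : x ^ smallExp p = 1 := by
  rcases h with h | ⟨rfl, h⟩
  · by_cases h2 : p = 2
    · subst h2
      simp only [smallExp, if_true]
      rw [show 4 = 2 * 2 from rfl, pow_mul, h, one_pow]
    · simpa [smallExp, h2] using h
  · simpa [smallExp] using h

theorem dvd_smallExp_choose_two : p ∣ (smallExp p).choose 2 := by
  by_cases h : p = 2
  · subst h; decide
  · have hp : p.Prime := Fact.out
    simp only [smallExp, h, if_false]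
    exact Nat.Prime.dvd_choose_self hp (by norm_num) (by have := hp.two_le; omega)

section Alperin

variable {P : Type u} [Group P] [Finite P]

omit [Finite P] in
theorem mul_pow_class_two {x y : P} {c : P} (hc : x * y = c * (y * x)) (hcx : Commute c x)
    (hcy : Commute c y) (n : ℕ) : (y * x) ^ n = c ^ n.choose 2 * (y ^ n * x ^ n) := by
  have hxy : ∀ m : ℕ, x * y ^ m = c ^ m * (y ^ m * x) := by
    intro m
    induction m with
    | zero => simp
    | succ m ih =>
      calc x * y ^ (m + 1) = (x * y ^ m) * y := by rw [pow_succ, mul_assoc]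
        _ = c ^ m * (y ^ m * (x * y)) := by rw [ih]; simp only [mul_assoc]
        _ = c ^ m * (y ^ m * (c * (y * x))) := by rw [hc]
        _ = c ^ m * (y ^ m * c) * (y * x) := by simp only [mul_assoc]
        _ = c ^ m * (c * y ^ m) * (y * x) := by rw [(hcy.pow_right m).eq]
        _ = c ^ (m + 1) * (y ^ (m + 1) * x) := by simp only [pow_succ, mul_assoc]
  induction n with
  | zero => simp
  | succ n ih =>
    have hxn : ∀ k : ℕ, x ^ n * y ^ k = c ^ (n * k) * (y ^ k * x ^ n) := by
      intro k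
      clear ih
      induction n with
      | zero => simp
      | succ n ihn =>
        calc x ^ (n + 1) * y ^ k = x * (x ^ n * y ^ k) := by rw [pow_succ', mul_assoc]
          _ = x * c ^ (n * k) * (y ^ k * x ^ n) := by rw [ihn]; simp only [mul_assoc]
          _ = c ^ (n * k) * (x * y ^ k) * x ^ n := by
            rw [((hcx.symm).pow_right (n * k)).eq]; simp only [mul_assoc]
          _ = c ^ ((n + 1) * k) * (y ^ k * x ^ (n + 1)) := by
            rw [hxy, add_mul, one_mul, pow_add, pow_succ']; simp only [mul_assoc]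
    have h1 := hxn 1
    rw [pow_one, mul_one] at h1
    calc (y * x) ^ (n + 1) = c ^ n.choose 2 * (y ^ n * (x ^ n * y) * x) := by
          rw [pow_succ, ih]; simp only [mul_assoc]
      _ = c ^ n.choose 2 * (y ^ n * c ^ n * (y * x ^ n) * x) := by rw [h1]; simp only [mul_assoc]
      _ = c ^ n.choose 2 * (c ^ n * y ^ n * (y * x ^ n) * x) := by rw [((hcy.pow_pow n n)).eq]
      _ = c ^ (n + 1).choose 2 * (y ^ (n + 1) * x ^ (n + 1)) := by
        rw [Nat.choose_succ_succ' n 1, Nat.choose_one_right, add_comm n, pow_add, pow_succ y,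
          pow_succ x]
        simp only [mul_assoc]

/-- Two elements of small exponent with `p`-th powers in the central `A` have a quotient of small exponent. -/
theorem pow_div_eq_one (hP : IsPGroup p P) {A K : Subgroup P} (hAn : A.Normal) (hKn : K.Normal)
    (hcent : ∀ y ∈ K, ∀ a ∈ A, Commute a y)
    (hW : ∀ w ∈ ⁅K, (⊤ : Subgroup P)⁆, w ^ smallExp p = 1 → w ∈ A) :
    ∀ (n : ℕ) (a b : P), Nat.card (Subgroup.closure {a, b}) = n → a ∈ K → b ∈ K →
      a ^ smallExp p = 1 → b ^ smallExp p = 1 → a ^ p ∈ A → b ^ p ∈ A →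
      (a * b⁻¹) ^ smallExp p = 1 := by
  intro n
  induction n using Nat.strong_induction_on with
  | _ n ih =>
  intro a b hn ha hb haq hbq hap hbp
  by_cases hab : a * b = b * a
  · rw [(Commute.inv_right (hab : Commute a b)).mul_pow, inv_pow, haq, hbq, inv_one, mul_one]
  set L := Subgroup.closure {a, b}
  set a' := b * a * b⁻¹
  have haL : a ∈ L := Subgroup.subset_closure (by simp)
  have hbL : b ∈ L := Subgroup.subset_closure (by simp)
  have ha'L : a' ∈ L := L.mul_mem (L.mul_mem hbL haL) (L.inv_mem hbL)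
  have hlt : Subgroup.closure {a, a'} < L := by
    refine lt_of_le_of_ne ((Subgroup.closure_le _).2 ?_) fun he => ?_
    · rintro z (rfl | rfl)
      exacts [haL, ha'L]
    -- `L` would be generated by conjugates of `a`, hence cyclic
    haveI : Group.IsNilpotent L := (hP.to_subgroup L).isNilpotent
    set N : Subgroup L := Subgroup.normalClosure {(⟨a, haL⟩ : L)}
    have hN : N = ⊤ := by
      refine eq_top_iff.2 fun z _ => ?_
      have hz : (z : P) ∈ Subgroup.closure {a, a'} := he.symm ▸ z.2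
      have hle : Subgroup.closure {a, a'} ≤ N.map L.subtype := by
        refine (Subgroup.closure_le _).2 ?_
        rw [Set.insert_subset_iff, Set.singleton_subset_iff]
        constructor
        · exact ⟨(⟨a, haL⟩ : L), Subgroup.subset_normalClosure (Set.mem_singleton (⟨a, haL⟩ : L)), rfl⟩
        · refine ⟨(⟨b, hbL⟩ : L) * ⟨a, haL⟩ * (⟨b, hbL⟩ : L)⁻¹, ?_, rfl⟩
          exact (Subgroup.normalClosure_normal : N.Normal).conj_mem _
            (Subgroup.subset_normalClosure (Set.mem_singleton (⟨a, haL⟩ : L))) _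
      obtain ⟨w, hw, hwe⟩ := hle hz
      rwa [show z = w from Subtype.ext hwe.symm]
    have hcyc : Subgroup.zpowers (⟨a, haL⟩ : L) = ⊤ := by
      by_contra hne
      obtain ⟨M, hM, hle⟩ := (eq_top_or_exists_le_coatom (Subgroup.zpowers (⟨a, haL⟩ : L))).resolve_left hne
      haveI := Subgroup.NormalizerCondition.normal_of_coatom M Group.normalizerCondition_of_isNilpotent hM
      exact hM.1 (top_le_iff.1 (hN ▸ Subgroup.normalClosure_le_normal
        (Set.singleton_subset_iff.2 (hle (Subgroup.mem_zpowers _)))))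
    obtain ⟨k, hk⟩ := Subgroup.mem_zpowers_iff.1 (hcyc ▸ Subgroup.mem_top (⟨b, hbL⟩ : L))
    have hk' : a ^ k = b := congrArg Subtype.val hk
    exact hab (hk' ▸ (Commute.zpow_right (Commute.refl a) k).eq)
  have hcard : Nat.card (Subgroup.closure {a, a'}) < n := by
    rw [← hn]
    exact lt_of_le_of_ne (Subgroup.card_le_of_le hlt.le) fun h =>
      hlt.ne (Subgroup.eq_of_le_of_card_ge hlt.le h.ge)
  have hpow : ∀ m : ℕ, a' ^ m = b * a ^ m * b⁻¹ := fun m => conj_pow
  have hc := ih _ hcard a a' rfl ha (K.mul_mem (K.mul_mem hb ha) (K.inv_mem hb)) haq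
    (by rw [hpow, haq, mul_one, mul_inv_cancel]) hap (by rw [hpow]; exact hAn.conj_mem _ hap b)
  set c := a * a'⁻¹ with hcdef
  have hce : c = ⁅a, b⁆ := by rw [hcdef, commutatorElement_def]; simp [a', mul_assoc]
  have hcA : c ∈ A := hW c
    (hce ▸ Subgroup.commutator_mem_commutator ha (Subgroup.mem_top b)) hc
  have hca : Commute c a := hcent a ha c hcA
  have hcb : Commute c b := hcent b hb c hcA
  have hab' : a * b = c * (b * a) := by rw [hce, commutatorElement_def]; group
  have hcp : c ^ p = 1 := by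
    have hpow' : ∀ m : ℕ, a ^ m * b = c ^ m * (b * a ^ m) := by
      intro m
      induction m with
      | zero => simp
      | succ m ihm =>
        calc a ^ (m + 1) * b = a * (a ^ m * b) := by rw [pow_succ', mul_assoc]
          _ = a * c ^ m * (b * a ^ m) := by rw [ihm]; simp only [mul_assoc]
          _ = c ^ m * (a * b) * a ^ m := by rw [(hca.symm.pow_right m).eq]; simp only [mul_assoc]
          _ = c ^ (m + 1) * (b * a ^ (m + 1)) := by rw [hab', pow_succ, pow_succ']; simp only [mul_assoc]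
    have h1 := hpow' p
    rw [(hcent b hb (a ^ p) hap).eq] at h1
    exact mul_eq_right.mp h1.symm
  -- apply the class two formula to `a` and `b⁻¹`
  have h2 : b⁻¹ * a = c * (a * b⁻¹) := by
    calc b⁻¹ * a = b⁻¹ * (a * b) * b⁻¹ := by group
      _ = b⁻¹ * (c * (b * a)) * b⁻¹ := by rw [hab']
      _ = (b⁻¹ * c) * (b * a * b⁻¹) := by group
      _ = c * (a * b⁻¹) := by rw [(hcb.inv_right.symm).eq]; group
  rw [mul_pow_class_two (c := c) h2 hcb.inv_right hca (smallExp p), inv_pow, haq, hbq, inv_one,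
    one_mul, mul_one]
  obtain ⟨k, hk⟩ := dvd_smallExp_choose_two (p := p)
  rw [hk, pow_mul, hcp, one_pow]

/-- Alperin: a maximal normal abelian subgroup of small exponent inside a normal subgroup contains all
small elements of that subgroup centralizing it. -/
theorem mem_of_small_centralizing (hP : IsPGroup p P) {R A : Subgroup P} [R.Normal] (hAn : A.Normal)
    (hAR : A ≤ R) (hAc : ∀ a ∈ A, ∀ b ∈ A, a * b = b * a) (hAe : ∀ a ∈ A, a ^ smallExp p = 1)
    (hmax : ∀ B : Subgroup P, B.Normal → B ≤ R → (∀ a ∈ B, ∀ b ∈ B, a * b = b * a) →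
      (∀ a ∈ B, a ^ smallExp p = 1) → A ≤ B → B = A)
    {x : P} (hxR : x ∈ R) (hxc : ∀ a ∈ A, x * a = a * x) (hx : x ^ smallExp p = 1) : x ∈ A := by
  by_contra hxA
  haveI := hAn
  haveI : Group.IsNilpotent P := hP.isNilpotent
  set C : Subgroup P := R ⊓ Subgroup.centralizer (A : Set P)
  haveI hCn : C.Normal := inferInstance
  have hAC : A ≤ C := le_inf hAR fun a ha => Subgroup.mem_centralizer_iff.2 fun b hb => hAc b hb a ha
  have hxC : x ∈ C := ⟨hxR, Subgroup.mem_centralizer_iff.2 fun a ha => (hxc a ha).symm⟩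
  have hCc : ∀ y ∈ C, ∀ a ∈ A, Commute a y := fun y hy a ha => Subgroup.mem_centralizer_iff.1 hy.2 a ha
  obtain ⟨K, -, ⟨hKn, hAK, hKC, x₀, hx₀K, hx₀A, hx₀⟩, hmin⟩ :=
    Finite.exists_le_minimal (α := Subgroup P) (a := C)
      (p := fun K : Subgroup P => K.Normal ∧ A ≤ K ∧ K ≤ C ∧ ∃ y, y ∈ K ∧ y ∉ A ∧ y ^ smallExp p = 1)
      ⟨hCn, hAC, le_rfl, x, hxC, hxA, hx⟩
  haveI := hKn
  set W : Subgroup P := ⁅K, (⊤ : Subgroup P)⁆ ⊔ A
  haveI hWn : W.Normal := inferInstance
  have hWK : W ≤ K := sup_le (Subgroup.commutator_le_left K ⊤) hAK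
  have hWA : ∀ w ∈ W, w ^ smallExp p = 1 → w ∈ A := by
    intro w hw hwq
    by_contra hwA
    have hKW : K ≤ W := hmin ⟨hWn, le_sup_right, hWK.trans hKC, w, hw, hwA, hwq⟩ hWK
    set θ := QuotientGroup.mk' A
    have hsub : K.map θ ≤ ⁅K.map θ, (⊤ : Subgroup (P ⧸ A))⁆ := by
      refine (Subgroup.map_mono hKW).trans ?_
      rw [Subgroup.map_sup, Subgroup.map_commutator, Subgroup.map_top_of_surjective θ
        (QuotientGroup.mk'_surjective A), show A.map θ = ⊥ from QuotientGroup.map_mk'_self A, sup_bot_eq]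
    have hlcs : ∀ n, K.map θ ≤ (⊤ : Subgroup (P ⧸ A)).lowerCentralSeries n := by
      intro n
      induction n with
      | zero => simp
      | succ n ih => exact hsub.trans (by
          rw [Subgroup.lowerCentralSeries_succ]
          exact Subgroup.commutator_mono ih le_rfl)
    obtain ⟨n, hn⟩ := Subgroup.nilpotent_iff_lowerCentralSeries.1
      (inferInstance : Group.IsNilpotent (P ⧸ A))
    have hb : K.map θ = ⊥ := le_bot_iff.1 (hn ▸ hlcs n)
    exact hx₀A ((QuotientGroup.eq_one_iff x₀).1 (Subgroup.mem_bot.1 (hb ▸ Subgroup.mem_map_of_mem θ hx₀K)))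
  -- an element with `p`-th power in `A`
  obtain ⟨x₁, hx₁K, hx₁A, hx₁, hx₁p⟩ :
      ∃ y, y ∈ K ∧ y ∉ A ∧ y ^ smallExp p = 1 ∧ y ^ p ∈ A := by
    by_cases h : x₀ ^ p ∈ A
    · exact ⟨x₀, hx₀K, hx₀A, hx₀, h⟩
    · refine ⟨x₀ ^ p, pow_mem hx₀K p, h, ?_, ?_⟩
      · rw [← pow_mul, mul_comm, pow_mul, hx₀, one_pow]
      · by_cases h2 : p = 2
        · subst h2
          rw [← pow_mul]
          simp only [smallExp, if_true] at hx₀
          rw [show 2 * 2 = 4 from rfl, hx₀]
          exact one_mem _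
        · simp only [smallExp, h2, if_false] at hx₀
          exact absurd (by rw [hx₀]; exact one_mem _) h
  have claim := pow_div_eq_one (p := p) hP hAn hKn (fun y hy => hCc y (hKC hy)) fun w hw => hWA w (Subgroup.mem_sup_left hw)
  have hcentral : ∀ g : P, ⁅x₁, g⁆ ∈ A := fun g => by
    refine hWA _ (Subgroup.mem_sup_left (Subgroup.commutator_mem_commutator hx₁K (Subgroup.mem_top g))) ?_
    have hpow : ∀ m : ℕ, (g * x₁ * g⁻¹) ^ m = g * x₁ ^ m * g⁻¹ := fun m => conj_pow
    have := claim _ x₁ (g * x₁ * g⁻¹) rfl hx₁K (hKn.conj_mem _ hx₁K g) hx₁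
      (by rw [hpow, hx₁, mul_one, mul_inv_cancel]) hx₁p (by rw [hpow]; exact hAn.conj_mem _ hx₁p g)
    rwa [show ⁅x₁, g⁆ = x₁ * (g * x₁ * g⁻¹)⁻¹ by rw [commutatorElement_def]; group]
  have hx₁C := hKC hx₁K
  set B := A ⊔ Subgroup.zpowers x₁
  have hBn : B.Normal := by
    refine ⟨fun z hz g => ?_⟩
    have hle : B ≤ B.comap (MulAut.conj g).toMonoidHom := by
      refine sup_le (fun a ha => Subgroup.mem_sup_left (hAn.conj_mem a ha g)) (Subgroup.zpowers_le.2 ?_)
      show g * x₁ * g⁻¹ ∈ B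
      rw [show g * x₁ * g⁻¹ = ⁅x₁, g⁆⁻¹ * x₁ by rw [commutatorElement_def]; group]
      exact B.mul_mem (Subgroup.mem_sup_left (A.inv_mem (hcentral g)))
        (Subgroup.mem_sup_right (Subgroup.mem_zpowers x₁))
    exact hle hz
  have hform : ∀ z ∈ B, ∃ a ∈ A, ∃ i : ℤ, z = a * x₁ ^ i := fun z hz => by
    obtain ⟨a, ha, y, ⟨i, hi⟩, hz'⟩ := Subgroup.mem_sup_of_normal_left.1 hz
    exact ⟨a, ha, i, by rw [← hz', ← hi]⟩
  have hBc : ∀ u ∈ B, ∀ v ∈ B, u * v = v * u := by
    intro u hu v hv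
    obtain ⟨a, ha, i, rfl⟩ := hform u hu
    obtain ⟨b, hb, j, rfl⟩ := hform v hv
    exact ((Commute.mul_left ((hAc a ha b hb : Commute a b))
      ((hCc x₁ hx₁C b hb).symm.zpow_left i)).mul_right
      (((hCc x₁ hx₁C a ha).zpow_right j).mul_left ((Commute.refl x₁).zpow_zpow i j))).eq
  have hBe : ∀ u ∈ B, u ^ smallExp p = 1 := by
    intro u hu
    obtain ⟨a, ha, i, rfl⟩ := hform u hu
    rw [((hCc x₁ hx₁C a ha).zpow_right i).mul_pow, hAe a ha, one_mul, ← zpow_natCast, ← zpow_mul,
      mul_comm, zpow_mul, zpow_natCast, hx₁, one_zpow]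
  have hBR : B ≤ R := sup_le hAR (Subgroup.zpowers_le.2 hx₁C.1)
  exact hx₁A (hmax B hBn hBR hBc hBe le_sup_left ▸ Subgroup.mem_sup_right (Subgroup.mem_zpowers x₁))

/-- A coprime automorphism fixing the small elements of a `p`-group is trivial. -/
theorem eq_one_of_fix_small (hP : IsPGroup p P) {γ : MulAut P} (hγ : (orderOf γ).Coprime p)
    (h : ∀ x : P, IsSmall p x → γ x = x) : γ = 1 := by
  obtain ⟨D, hD, hDs, hker⟩ := exists_char_small (p := p) hP
  have hk : γ ∈ (restrictHom D hD).ker := by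
    rw [MonoidHom.mem_ker]
    exact MulEquiv.ext fun x => Subtype.ext (h x (hDs x x.2))
  obtain ⟨k, hk'⟩ := hker ⟨γ, hk⟩
  exact orderOf_eq_one_iff.mp (Nat.eq_one_of_dvd_coprimes (hγ.pow_right k) dvd_rfl
    (orderOf_dvd_of_pow_eq_one (congrArg Subtype.val hk')))

end Alperin

variable {Ω : Type u} [Group Ω] {S : Subgroup Ω}

/-- A subgroup of small exponent of the hyperfocal part of `Q` whose pointwise stabilizer among
the automorphisms of `Q` is a `p`-group. -/
theorem exists_small_abelian [Finite S] (hS : IsPGroup p S) {F : FusionSystem S} (hF : F.IsSaturated p)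
    {Q : Subgroup Ω} (hQS : Q ≤ S) :
    ∃ A : Subgroup Q, A.Normal ∧ (∀ a ∈ A, (a : Ω) ∈ F.hyperfocalSubgroup p) ∧
      (∀ a ∈ A, ∀ b ∈ A, a * b = b * a) ∧ (∀ a ∈ A, a ^ smallExp p = 1) ∧
      ∀ γ ∈ F.autGroup Q, (orderOf γ).Coprime p → (∀ a ∈ A, γ a = a) → γ = 1 := by
  haveI := finite_of_le hQS
  have hQp : IsPGroup p Q := hS.to_le hQS
  set T := F.hyperfocalSubgroup p
  have hTS : T ≤ S := hyperfocal_le F
  have hTn : (T.subgroupOf S).Normal := hyperfocal_subgroupOf_normal
  have hTc : F.StronglyClosed T := stronglyClosed_of_hyperfocal_le hS hF hTn le_rfl hTS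
  set R : Subgroup Q := T.subgroupOf Q
  haveI hRn : R.Normal := ⟨fun n hn g => hTn.conj_mem ⟨n, hQS n.2⟩ hn ⟨g, hQS g.2⟩⟩
  obtain ⟨A, -, hA, hmax⟩ :=
    Finite.exists_le_maximal (α := Subgroup Q) (a := ⊥)
      (p := fun A : Subgroup Q => A.Normal ∧ A ≤ R ∧ (∀ a ∈ A, ∀ b ∈ A, a * b = b * a) ∧
        (∀ a ∈ A, a ^ smallExp p = 1))
      ⟨inferInstance, bot_le, by simp, by simp⟩
  obtain ⟨hAn, hAR, hAc, hAe⟩ := hA
  have hmax' : ∀ B : Subgroup Q, B.Normal → B ≤ R → (∀ a ∈ B, ∀ b ∈ B, a * b = b * a) →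
      (∀ a ∈ B, a ^ smallExp p = 1) → A ≤ B → B = A :=
    fun B h1 h2 h3 h4 h5 => le_antisymm (hmax ⟨h1, h2, h3, h4⟩ h5) h5
  refine ⟨A, hAn, fun a ha => hAR ha, hAc, hAe, fun γ hγ hcop hfix => ?_⟩
  haveI := hAn
  have hγR : ∀ x : Q, x ∈ R → γ x ∈ R := fun x hx =>
    hTc.2 (T ⊓ Q) inf_le_left _ (restrict_mem ((mem_autGroup hQS).1 hγ) inf_le_right) ⟨x, hx, x.2⟩
  set C : Subgroup Q := R ⊓ Subgroup.centralizer (A : Set Q)
  have hC : ∀ x : Q, x ∈ C → γ x = x := by
    have hγC : ∀ g ∈ Subgroup.zpowers γ, ∀ x ∈ C, g x ∈ C := by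
      have hmapC : ∀ x ∈ C, γ x ∈ C := fun x hx => by
        refine ⟨hγR x hx.1, Subgroup.mem_centralizer_iff.2 fun a ha => ?_⟩
        have := congrArg γ (Subgroup.mem_centralizer_iff.1 hx.2 a ha)
        rwa [map_mul, map_mul, hfix a ha] at this
      intro g hg
      haveI : Finite (MulAut Q) := Finite.of_injective (fun f => (f : Q → Q)) DFunLike.coe_injective
      obtain ⟨n, rfl⟩ := (isOfFinOrder_of_finite γ).mem_powers_iff_mem_zpowers.mpr hg
      intro x hx
      show (γ ^ n) x ∈ C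
      induction n with
      | zero => simpa using hx
      | succ n ih => rw [pow_succ', MulAut.mul_apply]; exact hmapC _ (ih (pow_mem (Subgroup.mem_zpowers γ) n))
    let res : Subgroup.zpowers γ →* MulAut C :=
      { toFun := fun β =>
          { toFun := fun y => ⟨(β : MulAut Q) (y : Q), hγC _ β.2 _ y.2⟩
            invFun := fun y => ⟨(β : MulAut Q)⁻¹ (y : Q), hγC _ (inv_mem β.2) _ y.2⟩
            left_inv := fun y => Subtype.ext ((β : MulAut Q).symm_apply_apply y)
            right_inv := fun y => Subtype.ext ((β : MulAut Q).apply_symm_apply y)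
            map_mul' := fun a b => Subtype.ext (map_mul (β : MulAut Q) (a : Q) (b : Q)) }
        map_one' := rfl
        map_mul' := fun _ _ => rfl }
    have h1 : res ⟨γ, Subgroup.mem_zpowers γ⟩ = 1 := by
      refine eq_one_of_fix_small (p := p) (hQp.to_subgroup C) ?_ fun y hy => ?_
      · exact hcop.coprime_dvd_left ((orderOf_map_dvd res _).trans (Subgroup.orderOf_mk _ _).dvd)
      · have hyA : (y : Q) ∈ A := mem_of_small_centralizing hQp hAn hAR hAc hAe hmax' y.2.1
          (fun a ha => (Subgroup.mem_centralizer_iff.1 y.2.2 a ha).symm)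
          (congrArg Subtype.val (smallExp_of_isSmall hy))
        exact Subtype.ext (hfix _ hyA)
    exact fun x hx => congrArg Subtype.val (DFunLike.congr_fun h1 ⟨x, hx⟩)
  have hAC : A ≤ C := le_inf hAR fun a ha => Subgroup.mem_centralizer_iff.2 fun b hb => hAc b hb a ha
  haveI : C.Normal := inferInstance
  have hR : ∀ x : Q, x ∈ R → γ x = x := by
    intro x hx
    refine eq_one_of_coprime_fix hQp hcop (hC _ ⟨R.mul_mem (R.inv_mem hx) (hγR x hx), ?_⟩)
    refine Subgroup.mem_centralizer_iff.2 fun a ha => ?_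
    have hc : x * a * x⁻¹ ∈ A := hAn.conj_mem a ha x
    have h1 : γ x * a * (γ x)⁻¹ = x * a * x⁻¹ := by
      have := hfix _ hc
      rwa [map_mul, map_mul, map_inv, hfix a ha] at this
    calc a * (x⁻¹ * γ x) = x⁻¹ * (x * a * x⁻¹) * γ x := by group
      _ = x⁻¹ * (γ x * a * (γ x)⁻¹) * γ x := by rw [h1]
      _ = x⁻¹ * γ x * a := by group
  exact MulEquiv.ext fun x => eq_one_of_coprime_fix hQp hcop
    (hR _ (mem_hyperfocal_of_coprime hQS hγ hcop x))

end Cfsg.Lib.FusionSys
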