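import Cfsg.Agent.Lib.FusionSys.SmallAbelianControl

/-!
Two saturated systems agreeing on small-exponent abelian subgroups of the hyperfocal subgroup are equal.
-/

set_option autoImplicit false
set_option linter.style.haveILetI false

universe u

namespace Cfsg.Lib.FusionSys

open Cfsg Cfsg.FusionSystem
open scoped Pointwise

variable {p : ℕ} [Fact p.Prime] {Ω : Type u} [Group Ω] {S : Subgroup Ω}

/-- Agreement on small abelian subgroups of the hyperfocal subgroup of the larger system. -/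
def AgreeOnSmall (p : ℕ) (E F : FusionSystem S) : Prop :=
  ∀ A B : Subgroup Ω, A ≤ F.hyperfocalSubgroup p → B ≤ F.hyperfocalSubgroup p →
    (∀ a ∈ A, ∀ b ∈ A, a * b = b * a) → (∀ a ∈ A, a ^ smallExp p = 1) →
    (∀ a ∈ B, ∀ b ∈ B, a * b = b * a) → (∀ a ∈ B, a ^ smallExp p = 1) →
    F.homSet A B ⊆ E.Hom A

theorem autGroup_le_of_small [Finite S] (hS : IsPGroup p S) {E F : FusionSystem S} (hE : E.IsSaturated p)
    (hF : F.IsSaturated p) (hEF : E.IsSubsystemOf F) (hagree : AgreeOnSmall p E F) {Q : Subgroup Ω}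
    (hQ : Q = S ∨ F.IsEssential p Q)
    (hbig : ∀ U : Subgroup Ω, Nat.card Q < Nat.card U → F.Hom U ⊆ E.Hom U) :
    F.autGroup Q ≤ E.autGroup Q := by
  classical
  have hQn : F.IsFullyNormalized Q := by
    rcases hQ with rfl | h
    exacts [isFullyNormalized_top F, h.2.1]
  have hQc : F.IsCentric Q := by
    rcases hQ with rfl | h
    · exact ⟨le_rfl, fun U hU => by rw [eq_top_of_isConj hU]; exact inf_le_left⟩
    · exact h.1
  have hQS := hQc.1
  haveI := finite_of_le hQS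
  haveI : Finite (MulAut Q) := Finite.of_injective (fun f => (f : Q → Q)) DFunLike.coe_injective
  set Γ := F.autGroup Q with hΓ
  set H := E.autGroup Q with hH
  obtain ⟨hQfc, -, R, hR⟩ := isFullyAutomized_and_fc_of_fn hS hF hQn
  have hQrec := isReceptive_of_fc hS hF hQfc
  have hSH : autInducedBy S Q ≤ H := autInducedBy_le_autGroup hQS
  have hHΓ : H ≤ Γ := fun α hα => (mem_autGroup hQS).2 (hEF Q ((mem_autGroup hQS).1 hα))
  set T := F.hyperfocalSubgroup p
  have hTc : F.StronglyClosed T :=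
    stronglyClosed_of_hyperfocal_le hS hF hyperfocal_subgroupOf_normal le_rfl (hyperfocal_le F)
  have hγT : ∀ γ ∈ Γ, ∀ x : Q, (x : Ω) ∈ T → ((γ x : Q) : Ω) ∈ T := fun γ hγ x hx =>
    hTc.2 (T ⊓ Q) inf_le_left _ (restrict_mem ((mem_autGroup hQS).1 hγ) inf_le_right) ⟨x, hx, x.2⟩
  obtain ⟨A₀, hA₀n, hA₀T, hA₀c, hA₀e, hfix⟩ := exists_small_abelian hS hF hQS
  -- move the stabilizer into the automorphisms induced by `S`
  obtain ⟨β, A, hAn, hAeq, hAfix⟩ : ∃ (β : Γ) (A : Subgroup Q), A.Normal ∧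
      A = A₀.map (β : MulAut Q).toMonoidHom ∧
      ∀ γ ∈ Γ, (∀ a ∈ A, γ a = a) → γ ∈ autInducedBy S Q := by
    let Fix : Subgroup Γ :=
      { carrier := {γ | ∀ a ∈ A₀, (γ : MulAut Q) a = a}
        one_mem' := fun a _ => rfl
        mul_mem' := fun {γ δ} hγ hδ a ha => by
          rw [Subgroup.coe_mul, MulAut.mul_apply, hδ a ha, hγ a ha]
        inv_mem' := fun {γ} hγ a ha => by
          conv_lhs => rw [← hγ a ha]
          exact (γ : MulAut Q).symm_apply_apply a }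
    have hFix : IsPGroup p Fix := by
      refine Cfsg.Lib.Local.isPGroup_of_forall_coprime fun a ha hcop => ?_
      exact Subtype.ext (hfix _ a.2 (by rwa [Subgroup.orderOf_coe]) ha)
    obtain ⟨R', hR'⟩ := hFix.exists_le_sylow
    obtain ⟨β, hβ⟩ := MulAction.exists_smul_eq Γ R' R
    refine ⟨β, A₀.map (β : MulAut Q).toMonoidHom, hA₀n.map _ (β : MulAut Q).surjective, rfl,
      fun γ hγ hγA => ?_⟩
    have h1 : β⁻¹ * ⟨γ, hγ⟩ * β ∈ Fix := fun a ha => by
      show (β : MulAut Q).symm (γ ((β : MulAut Q) a)) = a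
      rw [show γ ((β : MulAut Q) a) = (β : MulAut Q) a from hγA _ ⟨a, ha, rfl⟩]
      exact (β : MulAut Q).symm_apply_apply a
    have h2 := Subgroup.smul_mem_pointwise_smul _ (MulAut.conj β) _ (hR' h1)
    have h3 : (⟨γ, hγ⟩ : Γ) ∈ (R : Subgroup Γ) := by
      rw [← hβ, Sylow.coe_subgroup_smul]
      have he : MulAut.conj β • (β⁻¹ * (⟨γ, hγ⟩ : Γ) * β) = (⟨γ, hγ⟩ : Γ) := by
        show β * (β⁻¹ * (⟨γ, hγ⟩ : Γ) * β) * β⁻¹ = _
        group
      rw [← he]
      exact h2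
    rw [hR] at h3
    exact h3
  have hA : ∀ a ∈ A, (a : Ω) ∈ T ∧ (∀ b ∈ A, a * b = b * a) ∧ a ^ smallExp p = 1 := by
    intro a ha
    rw [hAeq] at ha
    obtain ⟨a', ha', rfl⟩ := ha
    refine ⟨hγT _ β.2 a' (hA₀T a' ha'), fun b hb => ?_, ?_⟩
    · rw [hAeq] at hb
      obtain ⟨b', hb', rfl⟩ := hb
      rw [← map_mul, ← map_mul, hA₀c a' ha' b' hb']
    · rw [← map_pow, hA₀e a' ha', map_one]
  intro g hg
  by_contra hgH
  set B : Subgroup Q := A.map g.toMonoidHom with hBdef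
  have hBn : B.Normal := hAn.map _ g.surjective
  set AΩ := A.map Q.subtype with hAΩ
  set BΩ := B.map Q.subtype with hBΩ
  have hAQ : AΩ ≤ Q := Subgroup.map_subtype_le A
  have hBQ : BΩ ≤ Q := Subgroup.map_subtype_le B
  have hBS := hBQ.trans hQS
  have hgv : ∀ a : AΩ, ((g ⟨(a : Ω), hAQ a.2⟩ : Q) : Ω) ∈ BΩ := by
    rintro ⟨_, a, ha, rfl⟩
    exact ⟨g a, ⟨a, ha, rfl⟩, rfl⟩
  -- the restriction of `g` to `A` is a map of `E`
  have hψE : (Q.subtype.comp g.toMonoidHom).comp (Subgroup.inclusion hAQ) ∈ E.Hom AΩ := by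
    refine hagree AΩ BΩ ?_ ?_ ?_ ?_ ?_ ?_ ⟨restrict_mem ((mem_autGroup hQS).1 hg) hAQ, hgv⟩
    · rintro _ ⟨a, ha, rfl⟩
      exact (hA a ha).1
    · rintro _ ⟨_, ⟨a, ha, rfl⟩, rfl⟩
      exact hγT g hg a (hA a ha).1
    · rintro _ ⟨a, ha, rfl⟩ _ ⟨b, hb, rfl⟩
      exact congrArg Subtype.val ((hA a ha).2.1 b hb)
    · rintro _ ⟨a, ha, rfl⟩
      exact congrArg Subtype.val (hA a ha).2.2
    · rintro _ ⟨_, ⟨a, ha, rfl⟩, rfl⟩ _ ⟨_, ⟨b, hb, rfl⟩, rfl⟩
      exact congrArg (fun z : Q => (z : Ω)) (by rw [← map_mul, ← map_mul, (hA a ha).2.1 b hb] :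
        g.toMonoidHom a * g.toMonoidHom b = g.toMonoidHom b * g.toMonoidHom a)
    · rintro _ ⟨_, ⟨a, ha, rfl⟩, rfl⟩
      exact congrArg (fun z : Q => (z : Ω)) (by rw [← map_pow, (hA a ha).2.2, map_one] :
        g.toMonoidHom a ^ smallExp p = 1)
  -- a fully normalized conjugate of `B` in `E`
  obtain ⟨C, hBC, hCn⟩ := exists_isFullyNormalized E hBS
  obtain ⟨hCfc, hCfa⟩ := isFullyAutomized_and_fc_of_fn hS hE hCn
  have hCrec := isReceptive_of_fc hS hE hCfc
  obtain ⟨χ, hχ, -, hχB⟩ := exists_normalizer_map hS hCfa hCrec hBC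
  have hQN : Q ≤ normalizerIn S BΩ := fun x hx => by
    refine ⟨hQS hx, mem_normalizer_of_aut (α := ?_) (g := x) ?_⟩
    · exact { toFun := fun b => ⟨x * b * x⁻¹, by
                obtain ⟨_, b', hb', rfl⟩ := b
                exact ⟨_, hBn.conj_mem b' hb' ⟨x, hx⟩, rfl⟩⟩
              invFun := fun b => ⟨x⁻¹ * b * x, by
                obtain ⟨_, b', hb', rfl⟩ := b
                have := hBn.conj_mem b' hb' (⟨x, hx⟩ : Q)⁻¹
                rw [inv_inv] at this
                exact ⟨_, this, rfl⟩⟩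
              left_inv := fun b => Subtype.ext (by simp [mul_assoc])
              right_inv := fun b => Subtype.ext (by simp [mul_assoc])
              map_mul' := fun b c => Subtype.ext (by simp [mul_assoc]) }
    · exact fun b => rfl
  set ι := χ.comp (Subgroup.inclusion hQN) with hιdef
  have hι : ι ∈ E.Hom Q := restrict_mem hχ hQN
  set Q₂ := ι.range with hQ₂
  have hQQ₂ : F.IsConj Q Q₂ := ⟨ι, hEF Q hι, rfl⟩
  have hQ₂S : Q₂ ≤ S := range_le hι
  have hιB : ∀ b : Q, b ∈ B → ι b ∈ C := fun b hb => by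
    rw [← hχB, mem_map_subgroupOf]
    exact ⟨b, hQN b.2, ⟨b, hb, rfl⟩, rfl⟩
  have hψi : (ι.comp (g.toMonoidHom.comp (Subgroup.inclusion hAQ))) ∈ E.Hom AΩ :=
    comp_mem' hψE hι (fun a => (g _).2) fun a => rfl
  have hrC : (ι.comp (g.toMonoidHom.comp (Subgroup.inclusion hAQ))).range = C := by
    refine le_antisymm ?_ fun c hc => ?_
    · rintro _ ⟨⟨_, a, ha, rfl⟩, rfl⟩
      exact hιB _ ⟨a, ha, rfl⟩
    · rw [← hχB, mem_map_subgroupOf] at hc
      obtain ⟨_, hbN, ⟨_, ⟨a, ha, rfl⟩, rfl⟩, rfl⟩ := hc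
      exact ⟨⟨a, ⟨a, ha, rfl⟩⟩, rfl⟩
  obtain ⟨φ, hφ, hφe⟩ := IsReceptive_ext hCrec (isoIn_homIso hψi hrC) (N := Q) (by
    intro x hx
    refine ⟨hQS hx, ?_, ι (g ⟨x, hx⟩), hom_mem hι _, fun a b hab => ?_⟩
    · refine mem_normalizer_of_aut (α := ?_) (g := x) ?_
      · exact { toFun := fun b => ⟨x * b * x⁻¹, by
                  obtain ⟨_, b', hb', rfl⟩ := b
                  exact ⟨_, hAn.conj_mem b' hb' ⟨x, hx⟩, rfl⟩⟩
                invFun := fun b => ⟨x⁻¹ * b * x, by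
                  obtain ⟨_, b', hb', rfl⟩ := b
                  have := hAn.conj_mem b' hb' (⟨x, hx⟩ : Q)⁻¹
                  rw [inv_inv] at this
                  exact ⟨_, this, rfl⟩⟩
                left_inv := fun b => Subtype.ext (by simp [mul_assoc])
                right_inv := fun b => Subtype.ext (by simp [mul_assoc])
                map_mul' := fun b c => Subtype.ext (by simp [mul_assoc]) }
      · exact fun b => rfl
    · show ι (g (Subgroup.inclusion hAQ b)) = _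
      rw [show Subgroup.inclusion hAQ b = ⟨x, hx⟩ * Subgroup.inclusion hAQ a * ⟨x, hx⟩⁻¹ from
        Subtype.ext hab, map_mul, map_mul, map_inv, map_mul, map_mul, map_inv]
      rfl)
  have hφA : ∀ a : Q, a ∈ A → φ a = ι (g a) := fun a ha => hφe a ⟨a, ha, rfl⟩ a.2
  have hd : ∀ x : Q, (ι (g x))⁻¹ * φ x ∈ centralizerIn S C := by
    intro x
    refine mem_centralizerIn.2 ⟨S.mul_mem (S.inv_mem (hom_mem hι _)) (hom_mem hφ x), fun c hc => ?_⟩
    obtain ⟨⟨_, a, ha, rfl⟩, rfl⟩ := hrC.ge hc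
    show (ι (g x))⁻¹ * φ x * ι (g a) = ι (g a) * ((ι (g x))⁻¹ * φ x)
    have h1 := hφA (x * a * x⁻¹) (hAn.conj_mem a ha x)
    rw [map_mul, map_mul, map_inv, hφA a ha, map_mul, map_mul, map_inv, map_mul, map_mul, map_inv] at h1
    calc (ι (g x))⁻¹ * φ x * ι (g a) = (ι (g x))⁻¹ * (φ x * ι (g a) * (φ x)⁻¹) * φ x := by group
      _ = (ι (g x))⁻¹ * (ι (g x) * ι (g a) * (ι (g x))⁻¹) * φ x := by rw [h1]
      _ = ι (g a) * ((ι (g x))⁻¹ * φ x) := by group
  by_cases hCC : centralizerIn S C ≤ Q₂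
  · -- `φ` followed by the inverse of `ι` is an automorphism in `E`
    obtain ⟨ν, hν, hνr, hνe⟩ := exists_inv hι hQ₂.symm
    have hφv : ∀ x : Q, φ x ∈ Q₂ := fun x => by
      have h := Q₂.mul_mem (⟨g x, rfl⟩ : ι (g x) ∈ Q₂) (hCC (hd x))
      rwa [mul_inv_cancel_left] at h
    have hr : (ν.comp (φ.codRestrict Q₂ hφv)).range = Q :=
      range_eq_of_card_le (E.comp_mem hφ hν hφv) hQS (fun x => hνr.le ⟨_, rfl⟩) le_rfl
    set h : MulAut Q := homIso (E.comp_mem hφ hν hφv) hr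
    have hhH : h ∈ H := (mem_autGroup hQS).2 (isoIn_homIso _ hr)
    have hha : ∀ a ∈ A, h a = g a := fun a ha => Subtype.ext (by
      show ν ⟨φ a, hφv a⟩ = _
      exact (congrArg ν (Subtype.ext (hφA a ha))).trans (hνe (g a) ⟨g a, rfl⟩))
    have h1 : h⁻¹ * g ∈ autInducedBy S Q :=
      hAfix _ (Γ.mul_mem (Γ.inv_mem (hHΓ hhH)) hg) fun a ha => by
        rw [MulAut.mul_apply, ← hha a ha]
        exact h.symm_apply_apply a
    exact hgH (mul_inv_cancel_left h g ▸ H.mul_mem hhH (hSH h1))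
  · -- an element of `C_S(C)` normalizing `Q₂` outside `Q₂`
    obtain ⟨c, hcC, hcN, hcQ⟩ : ∃ c ∈ centralizerIn S C, c ∈ Subgroup.normalizer (Q₂ : Set Ω) ∧ c ∉ Q₂ := by
      have hnorm : Q₂ ≤ Subgroup.normalizer ((centralizerIn S C : Subgroup Ω) : Set Ω) := by
        rintro _ ⟨x, rfl⟩
        have hxS := hom_mem hι x
        have hxC : ι x ∈ Subgroup.normalizer (C : Set Ω) := by
          have := map_mem_normalizer (Q := BΩ) χ (Subgroup.inclusion hQN x) (hQN x.2).2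
          rwa [hχB] at this
        rw [Subgroup.mem_normalizer_iff]
        intro n
        constructor
        · intro hn
          refine mem_centralizerIn.2 ⟨S.mul_mem (S.mul_mem hxS hn.1) (S.inv_mem hxS), fun c hc => ?_⟩
          have h' := (mem_centralizerIn.1 hn).2 _ ((Subgroup.mem_normalizer_iff''.1 hxC c).1 hc)
          calc ι x * n * (ι x)⁻¹ * c = ι x * (n * ((ι x)⁻¹ * c * ι x)) * (ι x)⁻¹ := by group
            _ = ι x * (((ι x)⁻¹ * c * ι x) * n) * (ι x)⁻¹ := by rw [h']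
            _ = c * (ι x * n * (ι x)⁻¹) := by group
        · intro hn
          refine mem_centralizerIn.2 ⟨?_, fun c hc => ?_⟩
          · have := S.mul_mem (S.mul_mem (S.inv_mem hxS) hn.1) hxS
            simpa [mul_assoc] using this
          have h' := (mem_centralizerIn.1 hn).2 _ ((Subgroup.mem_normalizer_iff.1 hxC c).1 hc)
          calc n * c = (ι x)⁻¹ * ((ι x * n * (ι x)⁻¹) * (ι x * c * (ι x)⁻¹)) * ι x := by group
            _ = (ι x)⁻¹ * ((ι x * c * (ι x)⁻¹) * (ι x * n * (ι x)⁻¹)) * ι x := by rw [h']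
            _ = c * n := by group
      set W := Q₂ ⊔ centralizerIn S C
      have hWS : W ≤ S := sup_le hQ₂S (centralizerIn_le C)
      haveI := finite_of_le hWS
      have hlt : Q₂ < W := lt_of_le_of_ne le_sup_left fun he => hCC (he ▸ le_sup_right)
      obtain ⟨z, hz, hzQ⟩ := SetLike.exists_of_lt (lt_normalizerIn (hS.to_le hWS) hlt)
      have hzW : z ∈ ((Q₂ ⊔ centralizerIn S C : Subgroup Ω) : Set Ω) := hz.1
      rw [Subgroup.coe_mul_of_left_le_normalizer_right _ _ hnorm] at hzW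
      obtain ⟨q, hq, c, hc, rfl⟩ := hzW
      refine ⟨c, hc, ?_, fun h => hzQ (Q₂.mul_mem hq h)⟩
      have := Subgroup.mul_mem _ (Subgroup.inv_mem _ (Subgroup.le_normalizer hq)) hz.2
      rwa [inv_mul_cancel_left] at this
    set e₂ : Q ≃* Q₂ := homIso hι hQ₂.symm
    have he₂ : IsoIn E e₂ := isoIn_homIso hι hQ₂.symm
    set η : MulAut Q := MulAut.congr e₂.symm (conjAut Q₂ hcN)
    have hcS := centralizerIn_le C hcC
    have hηH : η ∈ H := congr_mem_autGroup he₂.symm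
      (autInducedBy_le_autGroup hQ₂S (conjAut_mem_autInducedBy hcN hcS))
    have hηB : ∀ b ∈ B, η b = b := fun b hb => by
      show e₂.symm (conjAut Q₂ hcN (e₂ b)) = b
      rw [show conjAut Q₂ hcN (e₂ b) = e₂ b from Subtype.ext
        (conj_eq_of_commute ((mem_centralizerIn.1 hcC).2 _ (hιB b hb))), e₂.symm_apply_apply]
    have hη' : g⁻¹ * η * g ∈ autInducedBy S Q :=
      hAfix _ (Γ.mul_mem (Γ.mul_mem (Γ.inv_mem hg) (hHΓ hηH)) hg) fun a ha => by
        rw [MulAut.mul_apply, MulAut.mul_apply, hηB (g a) ⟨a, ha, rfl⟩]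
        exact g.symm_apply_apply a
    obtain ⟨x, hxS, hx⟩ := mem_autInducedBy.1 hη'
    have hxQ : x ∉ Q := by
      intro hxQ
      have h1 : g⁻¹ * η * g = MulAut.conj (⟨x, hxQ⟩ : Q) := MulEquiv.ext fun y => Subtype.ext (hx y)
      have h2 : conjAut Q₂ hcN ∈ Inn Q₂ := by
        refine ⟨e₂ (g ⟨x, hxQ⟩), MulEquiv.ext fun y => ?_⟩
        have h3 := congrArg g (DFunLike.congr_fun h1 (g.symm (e₂.symm y)))
        simp only [MulAut.mul_apply, MulAut.conj_apply, map_mul, map_inv, MulEquiv.apply_symm_apply] at h3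
        have h4 := congrArg e₂ h3
        simp only [map_mul, map_inv, MulEquiv.apply_symm_apply] at h4
        have h5 : g (g⁻¹ (η (e₂.symm y))) = η (e₂.symm y) := g.apply_symm_apply _
        rw [h5] at h4
        rw [MulAut.conj_apply, ← h4]
        show e₂ (e₂.symm (conjAut Q₂ hcN (e₂ (e₂.symm y)))) = _
        rw [e₂.apply_symm_apply, e₂.apply_symm_apply]
      exact hcQ (mem_of_conjAut_mem_inn (hQc.2 Q₂ hQQ₂) hQ₂S hcS (fun y => rfl) h2)
    -- move `η` into the automorphisms induced by `S` inside `H`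
    obtain ⟨n, hn⟩ := isPGroup_autInducedBy hS ⟨_, hη'⟩
    have hηp : η ^ p ^ n = 1 := by
      have h1 : (g⁻¹ * η * g) ^ p ^ n = 1 := congrArg Subtype.val hn
      have h2 := conj_pow (a := g⁻¹) (b := η) (i := p ^ n)
      rw [inv_inv, h1] at h2
      have h3 := congrArg (fun z => g * z * g⁻¹) h2
      simpa [mul_assoc] using h3.symm
    let H' := H.subgroupOf Γ
    have hRH : (R : Subgroup Γ) ≤ H' := fun r hr => by
      rw [hR] at hr
      exact hSH hr
    let η₁ : H' := ⟨⟨η, hHΓ hηH⟩, hηH⟩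
    have hη₁ : IsPGroup p (Subgroup.zpowers η₁) := by
      refine IsPGroup.of_card_dvd_pow (n := n) ?_
      rw [Nat.card_zpowers]
      exact orderOf_dvd_of_pow_eq_one (Subtype.ext (Subtype.ext hηp))
    obtain ⟨R₁, hR₁⟩ := hη₁.exists_le_sylow
    obtain ⟨k, hk⟩ := MulAction.exists_smul_eq H' R₁ (R.subtype hRH)
    have hkη : ((k : Γ) : MulAut Q) * η * ((k : Γ) : MulAut Q)⁻¹ ∈ autInducedBy S Q := by
      have h1 := Subgroup.smul_mem_pointwise_smul _ (MulAut.conj k) _ (hR₁ (Subgroup.mem_zpowers η₁))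
      rw [← Sylow.coe_subgroup_smul, hk, Sylow.coe_subtype, Subgroup.mem_subgroupOf, hR] at h1
      exact h1
    set f : MulAut Q := ((k : Γ) : MulAut Q) * g
    have hfΓ : f ∈ Γ := Γ.mul_mem (k : Γ).2 hg
    obtain ⟨y, hyS, hy⟩ := mem_autInducedBy.1 hkη
    have hfH : f ∈ H := by
      have hf : f ∈ extensibleAut F Q :=
        mem_extensibleAut_of_conj hQrec hfΓ ⟨hxS, mem_normalizer_of_aut hx⟩ hxQ hyS fun u v huv => by
          have hv : v = (g⁻¹ * η * g) u := Subtype.ext (huv.trans (hx u).symm)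
          rw [← hy (f u)]
          refine congrArg (fun z : Q => (z : Ω)) ?_
          rw [hv, ← MulAut.mul_apply, ← MulAut.mul_apply]
          exact congrArg (fun z : MulAut Q => z u) (by simp only [f]; group)
      refine (Subgroup.closure_le _).2 ?_ hf
      rintro α ⟨U, hQU, ψ, hψ, h⟩
      have hcard : Nat.card Q < Nat.card U := by
        haveI := finite_of_le (hom_le hψ)
        exact lt_of_le_of_ne (Subgroup.card_le_of_le hQU.le) fun he =>
          hQU.ne (Subgroup.eq_of_le_of_card_ge hQU.le he.ge)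
      exact (mem_autGroup hQS).2 (hom_congr (restrict_mem (hbig U hcard hψ) hQU.le) fun z => (h z).symm)
    exact hgH (by
      have := H.mul_mem (H.inv_mem (show ((k : Γ) : MulAut Q) ∈ H from k.2)) hfH
      rwa [inv_mul_cancel_left] at this)

theorem eq_of_agreeOnSmall [Finite S] (hS : IsPGroup p S) {E F : FusionSystem S} (hE : E.IsSaturated p)
    (hF : F.IsSaturated p) (hEF : E.IsSubsystemOf F) (hagree : AgreeOnSmall p E F) :
    ∀ P : Subgroup Ω, E.Hom P = F.Hom P := fun P =>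
  Set.Subset.antisymm (hEF P) (le_of_autGroup_le' hS hF E
    (fun _ hQ hbig => autGroup_le_of_small hS hE hF hEF hagree hQ hbig) P)

omit [Fact p.Prime] in
theorem agreeOnSmall_of_homSet {E F : FusionSystem S}
    (hodd : p ≠ 2 → ∀ A B : Subgroup Ω, A ≤ F.hyperfocalSubgroup p → B ≤ F.hyperfocalSubgroup p →
      Cfsg.IsElementaryAbelian p A → Cfsg.IsElementaryAbelian p B → E.homSet A B = F.homSet A B)
    (htwo : p = 2 → ∀ A B : Subgroup Ω, A ≤ F.hyperfocalSubgroup p → B ≤ F.hyperfocalSubgroup p →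
      IsMulCommutative ↥A → IsMulCommutative ↥B → (∀ a ∈ A, a ^ 4 = 1) → (∀ b ∈ B, b ^ 4 = 1) →
      E.homSet A B = F.homSet A B) : AgreeOnSmall p E F := by
  intro A B hA hB hAc hAe hBc hBe φ hφ
  have hAc' : IsMulCommutative ↥A := ⟨⟨fun a b => Subtype.ext (hAc a a.2 b b.2)⟩⟩
  have hBc' : IsMulCommutative ↥B := ⟨⟨fun a b => Subtype.ext (hBc a a.2 b b.2)⟩⟩
  by_cases h : p = 2
  · simp only [smallExp, h, if_true] at hAe hBe
    exact ((htwo h A B hA hB hAc' hBc' hAe hBe).symm ▸ hφ).1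
  · simp only [smallExp, h, if_false] at hAe hBe
    exact ((hodd h A B hA hB ⟨hAc', hAe⟩ ⟨hBc', hBe⟩).symm ▸ hφ).1

end Cfsg.Lib.FusionSys
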