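import Cfsg.Agent.Lib.FusionSys.SplitSystem

/-!
The residual of a saturated subsystem of a split system is split.
-/

set_option autoImplicit false
set_option linter.style.haveILetI false

namespace Cfsg.Lib.FusionSys

open Cfsg Cfsg.FusionSystem

variable {Ω : Type*} [Group Ω] {S U A B P : Subgroup Ω} {F : FusionSystem S} {E E' : FusionSystem U}
  {p : ℕ} [Finite S] [Fact p.Prime]

/-- A `p`-automorphism of a subgroup of one factor lies in the residual, fixing the other factor. -/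
theorem exists_pAut_fix (hS : IsPGroup p S) (h : IsSplit F A B) (hc : IsCut F A B U)
    (hE : E.IsSaturated p) (hsub : E.IsSubsystemOf F) (hE' : E.IsPPrimeResidual p E')
    (hP : P ≤ U ⊓ A) {a : MulAut P} (ha : a ∈ E.autGroup P) {k : ℕ} (hk : orderOf a = p ^ k) :
    ∃ χ ∈ E'.Hom (P ⊔ (U ⊓ B)),
      (∀ (x : Ω) (hx : x ∈ P) (hx' : x ∈ P ⊔ (U ⊓ B)), χ ⟨x, hx'⟩ = (a ⟨x, hx⟩ : Ω)) ∧
      ∀ (b : Ω) (_ : b ∈ U ⊓ B) (hb' : b ∈ P ⊔ (U ⊓ B)), χ ⟨b, hb'⟩ = b := by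
  haveI := finite_of_le hc.closed.1
  have hU := hS.to_le hc.closed.1
  have hPU : P ≤ U := hP.trans inf_le_left
  have hB := hc.symm.closed_left h.symm hsub
  obtain ⟨ψ, hψ, hψe⟩ := exists_ext_right hS h hc hE hsub hP ((mem_autGroup hPU).1 ha)
  have hRU : (P ⊔ (U ⊓ B)) ≤ U := sup_le hPU inf_le_left
  haveI := finite_of_le hRU
  haveI : Finite (MulAut ↥(P ⊔ (U ⊓ B))) := finite_mulAut_of_le hRU
  have hψv : ∀ z, ψ z ∈ (P ⊔ (U ⊓ B)) := by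
    rintro ⟨z, hz⟩
    obtain ⟨x, hx, b, hb, rfl⟩ := exists_mul_of_commute (fun a ha b hb => h.comm' a (hP ha) b hb) hz
    rw [show (⟨x * b, hz⟩ : ↥(P ⊔ (U ⊓ B))) = ⟨x, Subgroup.mem_sup_left hx⟩ * ⟨b, Subgroup.mem_sup_right hb⟩
      from rfl, map_mul, hψe x hx]
    exact mul_mem (Subgroup.mem_sup_left (a ⟨x, hx⟩).2)
      (Subgroup.mem_sup_right (stronglyClosed_apply_mem hB hψ (x := ⟨b, _⟩) hb))
  obtain ⟨θ, hθ, hθe⟩ := exists_aut_of_hom hψ hψv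
  have hpow : ∀ (n : ℕ) (x : P),
      (((θ ^ n) (Subgroup.inclusion le_sup_left x) : ↥(P ⊔ (U ⊓ B))) : Ω) = ((a ^ n) x : Ω) := by
    intro n
    induction n with
    | zero => intro x; rfl
    | succ n ih =>
      intro x
      rw [pow_succ, MulAut.mul_apply, show θ (Subgroup.inclusion le_sup_left x) =
        Subgroup.inclusion le_sup_left (a x) from Subtype.ext ((hθe _).trans (hψe x x.2 _)), ih,
        pow_succ, MulAut.mul_apply]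
  have hθ0 : orderOf θ ≠ 0 := (orderOf_pos θ).ne'
  obtain ⟨j, hj1, hj2⟩ := Nat.chineseRemainder
    (((Nat.coprime_ordCompl (Fact.out : p.Prime) hθ0).pow_left k) :
      (p ^ k).Coprime (ordCompl[p] (orderOf θ))) 1 0
  have haj : a ^ j = a := by
    conv_rhs => rw [← pow_one a]
    rw [← hk] at hj1
    exact pow_eq_pow_iff_modEq.2 hj1
  set l := (orderOf θ).factorization p with hl
  have hθl : (θ ^ j) ^ p ^ l = 1 := by
    rw [← pow_mul, ← orderOf_dvd_iff_pow_eq_one]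
    conv_lhs => rw [← Nat.ordProj_mul_ordCompl_eq_self (orderOf θ) p]
    rw [mul_comm j]
    exact mul_dvd_mul_left _ (Nat.modEq_zero_iff_dvd.1 hj2)
  obtain ⟨m, -, hm⟩ := (Nat.dvd_prime_pow Fact.out).1 (orderOf_dvd_of_pow_eq_one hθl)
  have hθjE : θ ^ j ∈ E.autGroup (P ⊔ (U ⊓ B)) := pow_mem hθ j
  have hθjE' : θ ^ j ∈ E'.autGroup (P ⊔ (U ⊓ B)) := residual_pAut hE' hRU hθjE hm
  -- the part on `U ⊓ B` is inner
  obtain ⟨b, hbA, hbe⟩ := exists_aut_of_hom (restrict_mem ((mem_autGroup hRU).1 hθjE) le_sup_right)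
    (fun z => stronglyClosed_apply_mem hB ((mem_autGroup hRU).1 hθjE)
      (x := Subgroup.inclusion (le_sup_right : U ⊓ B ≤ (P ⊔ (U ⊓ B))) z) z.2)
  have hbpow : ∀ (n : ℕ) (z : (U ⊓ B : Subgroup Ω)),
      (((θ ^ j) ^ n) (Subgroup.inclusion le_sup_right z) : ↥(P ⊔ (U ⊓ B))) =
        Subgroup.inclusion le_sup_right ((b ^ n) z) := by
    intro n
    induction n with
    | zero => intro z; rfl
    | succ n ih =>
      intro z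
      rw [pow_succ, MulAut.mul_apply, show (θ ^ j) (Subgroup.inclusion le_sup_right z) =
        Subgroup.inclusion le_sup_right (b z) from Subtype.ext (hbe z).symm, ih,
        pow_succ (a := b), MulAut.mul_apply]
  have hbl : b ^ p ^ l = 1 := MulEquiv.ext fun z => Subtype.ext (by
    have := congrArg (fun w : ↥(P ⊔ (U ⊓ B)) => (w : Ω)) (hbpow (p ^ l) z)
    rw [hθl] at this
    exact this.symm)
  haveI := finite_of_le ((inf_le_left : U ⊓ B ≤ U).trans hc.closed.1)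
  haveI : Finite (MulAut ↥(U ⊓ B)) := finite_mulAut_of_le (inf_le_left : U ⊓ B ≤ U)
  have hfn : E.IsFullyNormalized (U ⊓ B) := ⟨inf_le_left, by
    rintro Q ⟨φ, hφ, rfl⟩
    rw [range_eq_of_card_le hφ inf_le_left (fun x => hB.2 _ le_rfl φ hφ x) le_rfl]⟩
  obtain ⟨-, -, Rs, hRs⟩ := isFullyAutomized_and_fc_of_fn hU hE hfn
  have hInn : autInducedBy U (U ⊓ B) ≤ Inn (U ⊓ B : Subgroup Ω) := fun α hα => by
    obtain ⟨g, hg, hge⟩ := mem_autInducedBy.1 hα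
    obtain ⟨c, hc', d, hd, rfl⟩ := exists_mul_of_commute h.comm' (hc.sup.ge hg)
    refine ⟨⟨d, hd⟩, MulEquiv.ext fun z => Subtype.ext ?_⟩
    rw [hge z]
    show d * (z : Ω) * d⁻¹ = _
    have := h.comm' c hc' (d * z * d⁻¹) (mul_mem (mul_mem hd z.2) (inv_mem hd))
    calc d * (z : Ω) * d⁻¹ = c * (d * z * d⁻¹) * c⁻¹ := by rw [this, mul_inv_cancel_right]
      _ = c * d * z * (c * d)⁻¹ := by group
  haveI := inn_subgroupOf_normal (E.autGroup (U ⊓ B))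
  have hbI : (⟨b, hbA⟩ : E.autGroup (U ⊓ B)) ∈ (Inn (U ⊓ B : Subgroup Ω)).subgroupOf _ :=
    mem_of_sylow_le_normal Rs (by rw [hRs]; exact Subgroup.comap_mono hInn) (k := l) (Subtype.ext hbl)
  obtain ⟨u, hu⟩ := hbI
  have hue : ∀ z : (U ⊓ B : Subgroup Ω), ((b z : _) : Ω) = u * z * (u : Ω)⁻¹ := fun z => by
    have : MulAut.conj u = b := hu
    rw [← this]
    rfl
  have hθj' := (mem_autGroup hRU).1 hθjE'
  have huU : (u : Ω)⁻¹ ∈ U := U.inv_mem u.2.1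
  refine ⟨_, E'.comp_mem hθj' (E'.conj_mem hRU huU) (fun z => ((θ ^ j) z).2), fun x hx hx' => ?_,
    fun z hz hz' => ?_⟩
  · show (u : Ω)⁻¹ * (((θ ^ j) (Subgroup.inclusion le_sup_left ⟨x, hx⟩) : ↥(P ⊔ (U ⊓ B))) : Ω) * ((u : Ω)⁻¹)⁻¹ = _
    rw [hpow, haj, ← h.comm _ (hP (a ⟨x, hx⟩).2).2 _ (inv_mem u.2.2), mul_inv_cancel_right]
  · show (u : Ω)⁻¹ * (((θ ^ j) (Subgroup.inclusion le_sup_right ⟨z, hz⟩) : ↥(P ⊔ (U ⊓ B))) : Ω) * ((u : Ω)⁻¹)⁻¹ = z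
    rw [show (((θ ^ j) (Subgroup.inclusion le_sup_right ⟨z, hz⟩) : ↥(P ⊔ (U ⊓ B))) : Ω) = (b ⟨z, hz⟩ : Ω) from
      (hbe ⟨z, hz⟩).symm, hue]
    group

/-- Congruence modulo the second factor can be made an equality. -/
theorem exact_of_congr (hS : IsPGroup p S) (h : IsSplit F A B) (hc : IsCut F A B U)
    (hE : E.IsSaturated p) (hsub : E.IsSubsystemOf F) (hE' : E.IsPPrimeResidual p E')
    (hP : P ≤ U ⊓ A) (hZ : U ⊓ A ⊓ (U ⊓ B) ≤ P) {φ : P →* Ω} (hφ : φ ∈ E.Hom P)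
    {ψ : (P ⊔ (U ⊓ B) : Subgroup Ω) →* Ω} (hψ : ψ ∈ E'.Hom (P ⊔ (U ⊓ B)))
    (hfix : ∀ (b : Ω) (_ : b ∈ U ⊓ B) (hb' : b ∈ P ⊔ (U ⊓ B)), ψ ⟨b, hb'⟩ = b)
    (hcg : ∀ x : P, (ψ (Subgroup.inclusion le_sup_left x))⁻¹ * φ x ∈ B) :
    ∃ θ ∈ E'.Hom (P ⊔ (U ⊓ B)),
      (∀ (x : Ω) (hx : x ∈ P) (hx' : x ∈ P ⊔ (U ⊓ B)), θ ⟨x, hx'⟩ = φ ⟨x, hx⟩) ∧
      ∀ (b : Ω) (_ : b ∈ U ⊓ B) (hb' : b ∈ P ⊔ (U ⊓ B)), θ ⟨b, hb'⟩ = b := by
  haveI := finite_of_le hc.closed.1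
  have hU := hS.to_le hc.closed.1
  have hPU : P ≤ U := hP.trans inf_le_left
  haveI := finite_of_le hPU
  haveI : Finite (MulAut P) := finite_mulAut_of_le hPU
  have hA := hc.closed_left h hsub
  have hψE := hE'.2.1.1 _ hψ
  set ψP := ψ.comp (Subgroup.inclusion (le_sup_left : P ≤ P ⊔ (U ⊓ B))) with hψP
  have hψP' : ψP ∈ E.Hom P := restrict_mem hψE le_sup_left
  have hz : ∀ x : P, (ψP x)⁻¹ * φ x ∈ U ⊓ A ⊓ (U ⊓ B) := fun x => by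
    have h1 : (ψP x)⁻¹ * φ x ∈ U ⊓ A := mul_mem (inv_mem (hA.2 P hP _ hψP' x)) (hA.2 P hP _ hφ x)
    exact ⟨h1, h1.1, hcg x⟩
  have hzfix : ∀ (z : Ω) (hz : z ∈ U ⊓ A ⊓ (U ⊓ B)), ψP ⟨z, hZ hz⟩ = z := fun z hz => hfix z hz.2 _
  have hv : ∀ x, φ x ∈ ψP.range := fun x => ⟨x * ⟨_, hZ (hz x)⟩, by
    rw [map_mul, hzfix _ (hz x), mul_inv_cancel_left]⟩
  obtain ⟨ψi, hψi, -, hψie⟩ := exists_inv hψP' rfl
  have hγ0 : ψi.comp (φ.codRestrict _ hv) ∈ E.Hom P := E.comp_mem hφ hψi hv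
  have hγv : ∀ x : P, ψi ⟨φ x, hv x⟩ = (x * ⟨_, hZ (hz x)⟩ : P) := fun x => by
    have e : ψP (x * ⟨_, hZ (hz x)⟩) = φ x := by rw [map_mul, hzfix _ (hz x), mul_inv_cancel_left]
    refine Eq.trans ?_ (hψie _ ⟨x * ⟨_, hZ (hz x)⟩, rfl⟩)
    exact congrArg ψi (Subtype.ext e.symm)
  obtain ⟨γ, hγ, hγe⟩ := exists_aut_of_hom hγ0 fun x => by
    show ψi ⟨φ x, hv x⟩ ∈ P
    rw [hγv]; exact SetLike.coe_mem _
  have hγe' : ∀ x : P, γ x = x * ⟨_, hZ (hz x)⟩ := fun x => Subtype.ext ((hγe x).trans (hγv x))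
  obtain ⟨k, hk⟩ := orderOf_pow_of_stab (hU.to_le hPU) hZ (γ := γ) (fun x hx => by
      rw [hγe']
      have h1 : (ψP x)⁻¹ * φ x = 1 := by
        rw [hzfix (x : Ω) hx, h.fix_inf (hsub _ hφ) x.2 hx.1.2 hx.2.2, inv_mul_cancel]
      refine mul_eq_left.2 (Subtype.ext h1)) fun x => by
      rw [hγe', Subgroup.coe_mul, inv_mul_cancel_left]
      exact hz x
  obtain ⟨χ, hχ, hχe, hχf⟩ := exists_pAut_fix hS h hc hE hsub hE' hP hγ hk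
  have hχv : ∀ w, χ w ∈ P ⊔ (U ⊓ B) := by
    rintro ⟨w, hw⟩
    obtain ⟨x, hx, b, hb, rfl⟩ := exists_mul_of_commute (fun a ha b hb => h.comm' a (hP ha) b hb) hw
    rw [show (⟨x * b, hw⟩ : ↥(P ⊔ (U ⊓ B))) =
      ⟨x, Subgroup.mem_sup_left hx⟩ * ⟨b, Subgroup.mem_sup_right hb⟩ from rfl, map_mul, hχe x hx,
      hχf b hb]
    exact mul_mem (Subgroup.mem_sup_left (γ ⟨x, hx⟩).2) (Subgroup.mem_sup_right hb)
  refine ⟨_, E'.comp_mem hχ hψ hχv, fun x hx hx' => ?_, fun b hb hb' => ?_⟩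
  · show ψ ⟨χ ⟨x, hx'⟩, hχv _⟩ = φ ⟨x, hx⟩
    rw [show (⟨χ ⟨x, hx'⟩, hχv _⟩ : ↥(P ⊔ (U ⊓ B))) = Subgroup.inclusion le_sup_left (γ ⟨x, hx⟩) from
      Subtype.ext (hχe x hx hx')]
    show ψP (γ ⟨x, hx⟩) = _
    rw [hγe', map_mul, hzfix _ (hz ⟨x, hx⟩), mul_inv_cancel_left]
  · show ψ ⟨χ ⟨b, hb'⟩, hχv _⟩ = b
    rw [show (⟨χ ⟨b, hb'⟩, hχv _⟩ : ↥(P ⊔ (U ⊓ B))) = ⟨b, hb'⟩ from Subtype.ext (hχf b hb hb')]
    exact hfix b hb hb'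

/-- The maps congruent modulo the second factor to a map fixing it. -/
def congrSys (h : IsSplit F A B) (hc : IsCut F A B U) (E' : FusionSystem U) : FusionSystem U where
  Hom P := {φ | φ ∈ E'.Hom P ∧ ∃ ψ ∈ E'.Hom (P ⊔ (U ⊓ B)),
    (∀ (b : Ω) (_ : b ∈ U ⊓ B) (hb' : b ∈ P ⊔ (U ⊓ B)), ψ ⟨b, hb'⟩ = b) ∧
      ∀ x : P, (ψ (Subgroup.inclusion le_sup_left x))⁻¹ * φ x ∈ U ⊓ B}
  le_of_mem hm := E'.le_of_mem hm.1
  injective_of_mem hm := E'.injective_of_mem hm.1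
  conj_mem := fun {P g} hP hg => by
    obtain ⟨c, hc', d, hd, rfl⟩ := exists_mul_of_commute h.comm' (hc.sup.ge hg)
    refine ⟨E'.conj_mem hP hg, _, E'.conj_mem (sup_le hP inf_le_left) hc'.1, fun b hb hb' => ?_,
      fun x => ?_⟩
    · show c * b * c⁻¹ = b
      rw [h.comm' c hc' b hb, mul_inv_cancel_right]
    · show (c * (x : Ω) * c⁻¹)⁻¹ * (c * d * x * (c * d)⁻¹) ∈ U ⊓ B
      have h1 : (x : Ω)⁻¹ * (d * x * d⁻¹) ∈ U ⊓ B := by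
        have h2 := conj_mem_right h.comm' (inv_mem (hc.sup.ge (hP x.2))) hd
        rw [inv_inv] at h2
        rw [show (x : Ω)⁻¹ * (d * x * d⁻¹) = (x : Ω)⁻¹ * d * x * d⁻¹ by group]
        exact mul_mem h2 (inv_mem hd)
      rw [show (c * (x : Ω) * c⁻¹)⁻¹ * (c * d * x * (c * d)⁻¹) =
        c * ((x : Ω)⁻¹ * (d * x * d⁻¹)) * c⁻¹ by group, h.comm' c hc' _ h1, mul_inv_cancel_right]
      exact h1
  comp_mem := by
    rintro P Q φ φ' ⟨hφ, ψ, hψ, hf, he⟩ ⟨hφ', ψ', hψ', hf', he'⟩ hv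
    have hm : ∀ w, ψ w ∈ Q ⊔ (U ⊓ B) := by
      rintro ⟨w, hw⟩
      obtain ⟨x, hx, b, hb, rfl⟩ := exists_mul_pr h.comm' ((hom_le hφ).trans hc.sup.ge) hw
      rw [show (⟨x * b, hw⟩ : ↥(P ⊔ (U ⊓ B))) =
        Subgroup.inclusion le_sup_left ⟨x, hx⟩ * ⟨b, Subgroup.mem_sup_right hb⟩ from rfl, map_mul,
        hf b hb]
      have h1 := Subgroup.mul_mem _ (Subgroup.mem_sup_left (hv ⟨x, hx⟩))
        (Subgroup.mem_sup_right (inv_mem (he ⟨x, hx⟩)) : _ ∈ Q ⊔ (U ⊓ B))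
      rw [mul_inv_rev, inv_inv, mul_inv_cancel_left] at h1
      exact mul_mem h1 (Subgroup.mem_sup_right hb)
    refine ⟨E'.comp_mem hφ hφ' hv, _, E'.comp_mem hψ hψ' hm, fun b hb hb' => ?_, fun x => ?_⟩
    · show ψ' ⟨ψ ⟨b, hb'⟩, hm _⟩ = b
      rw [show (⟨ψ ⟨b, hb'⟩, hm _⟩ : ↥(Q ⊔ (U ⊓ B))) = ⟨b, Subgroup.mem_sup_right hb⟩ from
        Subtype.ext (hf b hb hb')]
      exact hf' b hb _
    · show (ψ' ⟨ψ (Subgroup.inclusion le_sup_left x), hm _⟩)⁻¹ * φ' ⟨φ x, hv x⟩ ∈ U ⊓ B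
      set q := (ψ (Subgroup.inclusion le_sup_left x))⁻¹ * φ x with hq
      rw [show (⟨ψ (Subgroup.inclusion le_sup_left x), hm _⟩ : ↥(Q ⊔ (U ⊓ B))) =
        Subgroup.inclusion le_sup_left ⟨φ x, hv x⟩ * ⟨q⁻¹, Subgroup.mem_sup_right (inv_mem (he x))⟩
        from Subtype.ext (by simp [q]), map_mul, hf' _ (inv_mem (he x)), mul_inv_rev, inv_inv,
        mul_assoc]
      exact mul_mem (he x) (he' ⟨φ x, hv x⟩)
  inv_mem := by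
    rintro P φ ⟨hφ, ψ, hψ, hf, he⟩
    obtain ⟨φi, hφi, -, hφie⟩ := exists_inv hφ rfl
    obtain ⟨ψi, hψi, -, hψie⟩ := exists_inv hψ rfl
    have hle : φ.range ⊔ (U ⊓ B) ≤ ψ.range := by
      refine sup_le ?_ fun b hb => ⟨⟨b, Subgroup.mem_sup_right hb⟩, hf b hb _⟩
      rintro _ ⟨x, rfl⟩
      refine ⟨Subgroup.inclusion le_sup_left x * ⟨_, Subgroup.mem_sup_right (he x)⟩, ?_⟩
      rw [map_mul, hf _ (he x), mul_inv_cancel_left]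
    refine ⟨φi, ⟨hφi, _, restrict_mem hψi hle, fun b hb hb' => ?_, ?_⟩, fun x => hφie x ⟨x, rfl⟩⟩
    · refine Eq.trans ?_ (hψie ⟨b, Subgroup.mem_sup_right hb⟩ ⟨_, rfl⟩)
      exact congrArg ψi (Subtype.ext (hf b hb _).symm)
    · rintro ⟨_, x, rfl⟩
      rw [hφie x ⟨x, rfl⟩]
      have e : ψi ⟨φ x, hle (Subgroup.mem_sup_left ⟨x, rfl⟩)⟩ =
          (x : Ω) * ((ψ (Subgroup.inclusion le_sup_left x))⁻¹ * φ x) := by
        refine Eq.trans ?_ (hψie (Subgroup.inclusion le_sup_left x *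
          ⟨_, Subgroup.mem_sup_right (he x)⟩) ⟨_, rfl⟩)
        refine congrArg ψi (Subtype.ext ?_)
        show φ x = ψ (_ * _)
        rw [map_mul, hf _ (he x), mul_inv_cancel_left]
      show (ψi ⟨φ x, _⟩)⁻¹ * (x : Ω) ∈ U ⊓ B
      rw [e, mul_inv_rev _ _, mul_assoc, inv_mul_cancel, mul_one]
      exact inv_mem (he x)

/-- Every map of the residual is congruent to a map fixing the second factor. -/
theorem residual_le_congrSys (hS : IsPGroup p S) (h : IsSplit F A B) (hc : IsCut F A B U)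
    (hE : E.IsSaturated p) (hsub : E.IsSubsystemOf F) (hE' : E.IsPPrimeResidual p E') :
    E' ≤ congrSys h hc E' := by
  haveI := finite_of_le hc.closed.1
  have hU := hS.to_le hc.closed.1
  have hA := hc.closed_left h hsub
  have hB := hc.symm.closed_left h.symm hsub
  have hE'F : E'.IsSubsystemOf F := fun P φ hφ => hsub P (hE'.2.1.1 P hφ)
  refine residual_le_of_extClosed hU hE hE' ⟨fun P hP a ha ⟨k, hk⟩ => ?_,
    fun P N hPN hP hN φ hφ hcon => ?_⟩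
  · have hPU := hP.1
    have haE' := residual_pAut hE' hPU ha hk
    obtain ⟨ψ', hψ', hψe⟩ := exists_dec hS h hc hE hsub ((mem_autGroup hPU).1 ha)
    have hPR : P ≤ (pr (U ⊓ A) (U ⊓ B) P) ⊔ pr (U ⊓ B) (U ⊓ A) P := le_pr_sup_pr h.comm' (hPU.trans hc.sup.ge)
    have hRU : (pr (U ⊓ A) (U ⊓ B) P) ≤ U := inf_le_left.trans inf_le_left
    haveI := finite_of_le hRU
    haveI : Finite (MulAut ↥(pr (U ⊓ A) (U ⊓ B) P)) := finite_mulAut_of_le hRU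
    obtain ⟨α, hα, hαe⟩ := exists_aut_of_hom (restrict_mem hψ' (le_sup_left : (pr (U ⊓ A) (U ⊓ B) P) ≤ _)) fun r =>
      map_pr h hc hsub hψ' hPR (fun x hx => by rw [hψe x hx]; exact (a ⟨x, hx⟩).2) r.2 _
    have hiter : ∀ (n : ℕ) (r : ↥(pr (U ⊓ A) (U ⊓ B) P)) (x : P), (x : Ω)⁻¹ * r ∈ U ⊓ B →
        (((a ^ n) x : P) : Ω)⁻¹ * ((α ^ n) r : ↥(pr (U ⊓ A) (U ⊓ B) P)) ∈ U ⊓ B := by
      intro n
      induction n with
      | zero => intro r x hr; simpa using hr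
      | succ n ih =>
        intro r x hr
        rw [pow_succ' α, pow_succ' a, MulAut.mul_apply, MulAut.mul_apply]
        set r' := (α ^ n) r
        set x' := (a ^ n) x
        have hd : (x' : Ω)⁻¹ * r' ∈ U ⊓ B := ih r x hr
        have hdR : (x' : Ω)⁻¹ * r' ∈ (pr (U ⊓ A) (U ⊓ B) P) ⊔ pr (U ⊓ B) (U ⊓ A) P :=
          mul_mem (inv_mem (hPR x'.2)) (Subgroup.mem_sup_left r'.2)
        have e : ((α r' : ↥(pr (U ⊓ A) (U ⊓ B) P)) : Ω) = ((a x' : P) : Ω) * ψ' ⟨_, hdR⟩ := by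
          refine (hαe r').trans ?_
          refine Eq.trans ?_ (congrArg (· * ψ' ⟨_, hdR⟩) (hψe x' x'.2 (hPR x'.2)))
          rw [← map_mul]
          exact congrArg ψ' (Subtype.ext (mul_inv_cancel_left (x' : Ω) r').symm)
        rw [e, inv_mul_cancel_left]
        exact stronglyClosed_apply_mem hB hψ' (x := ⟨_, hdR⟩) hd
    have hZR : U ⊓ A ⊓ (U ⊓ B) ≤ (pr (U ⊓ A) (U ⊓ B) P) := fun z hz => ⟨hz.1, Subgroup.mem_sup_right hz.2⟩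
    have hγP : ∀ r : ↥(pr (U ⊓ A) (U ⊓ B) P), (r : Ω)⁻¹ * ((α ^ p ^ k) r : ↥(pr (U ⊓ A) (U ⊓ B) P)) ∈ U ⊓ A ⊓ (U ⊓ B) := fun r => by
      refine ⟨(U ⊓ A).mul_mem ((U ⊓ A).inv_mem r.2.1) ((α ^ p ^ k) r).2.1, ?_⟩
      obtain ⟨x, hx, d, hd, hre⟩ := exists_mul_pr h.comm' (hPU.trans hc.sup.ge) r.2.2
      have h1 : (x : Ω)⁻¹ * r ∈ U ⊓ B := by rw [hre, inv_mul_cancel_left]; exact hd
      have h2 := hiter (p ^ k) r ⟨x, hx⟩ h1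
      rw [← hk, pow_orderOf_eq_one, MulAut.one_apply, hk] at h2
      have := mul_mem (inv_mem h1) h2
      simpa [mul_assoc] using this
    obtain ⟨l, hl⟩ := orderOf_pow_of_stab (hU.to_le hRU) hZR (γ := α ^ p ^ k) (fun r hr =>
      Subtype.ext (h.fix_inf (hsub _ ((mem_autGroup hRU).1 (pow_mem hα (p ^ k)))) r.2 hr.1.2 hr.2.2)) hγP
    obtain ⟨k', -, hk'⟩ := (Nat.dvd_prime_pow (Fact.out : p.Prime) (m := k + l)).1
      (orderOf_dvd_of_pow_eq_one (x := α) (n := p ^ (k + l))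
        (by rw [pow_add, pow_mul, ← hl, pow_orderOf_eq_one]))
    obtain ⟨χ, hχ, hχe, hχf⟩ := exists_pAut_fix hS h hc hE hsub hE' inf_le_left hα hk'
    have hle : P ⊔ (U ⊓ B) ≤ (pr (U ⊓ A) (U ⊓ B) P) ⊔ (U ⊓ B) := (pr_sup_eq h.comm' (hPU.trans hc.sup.ge)).ge
    refine (mem_autGroup hPU).2 ⟨(mem_autGroup hPU).1 haE', _, restrict_mem hχ hle,
      fun b hb hb' => hχf b hb _, fun x => ?_⟩
    show (χ ⟨x, hle (Subgroup.mem_sup_left x.2)⟩)⁻¹ * ((a x : P) : Ω) ∈ U ⊓ B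
    obtain ⟨r, hr, d, hd, hxe⟩ := exists_mul_of_commute
      (fun c hc' b hb => h.comm' c (pr_le_left hc') b hb) (hle (Subgroup.mem_sup_left x.2))
    have hdR : d ∈ (pr (U ⊓ A) (U ⊓ B) P) ⊔ pr (U ⊓ B) (U ⊓ A) P := by
      rw [show d = r⁻¹ * (x : Ω) by rw [hxe, inv_mul_cancel_left]]
      exact mul_mem (inv_mem (Subgroup.mem_sup_left hr)) (hPR x.2)
    have e1 : χ ⟨x, hle (Subgroup.mem_sup_left x.2)⟩ = (α ⟨r, hr⟩ : Ω) * d := by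
      rw [show (⟨x, hle (Subgroup.mem_sup_left x.2)⟩ : ↥((pr (U ⊓ A) (U ⊓ B) P) ⊔ (U ⊓ B))) =
        ⟨r, Subgroup.mem_sup_left hr⟩ * ⟨d, Subgroup.mem_sup_right hd⟩ from Subtype.ext hxe,
        map_mul, hχe r hr, hχf d hd]
    have e2 : ((a x : P) : Ω) = (α ⟨r, hr⟩ : Ω) * ψ' ⟨d, hdR⟩ := by
      refine (hψe x x.2 (hPR x.2)).symm.trans ?_
      rw [hαe ⟨r, hr⟩]
      refine Eq.trans ?_ (map_mul ψ' ⟨r, Subgroup.mem_sup_left hr⟩ ⟨d, hdR⟩)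
      exact congrArg ψ' (Subtype.ext hxe)
    rw [e1, e2, mul_inv_rev, mul_assoc, inv_mul_cancel_left]
    exact mul_mem (inv_mem hd) (stronglyClosed_apply_mem hB hψ' (x := ⟨d, hdR⟩) hd)
  · obtain ⟨hP', ψ, hψ, hf, he⟩ := hcon
    have hcl := isExtClosed_of_saturated hU hE hE'.1 hE'.2.1
    have hφ' := hcl.2 P N hPN hP hN φ hφ hP'
    refine ⟨hφ', ?_⟩
    have hNU := hom_le hφ
    have hNsup : N ≤ (U ⊓ A) ⊔ (U ⊓ B) := hNU.trans hc.sup.ge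
    have hPsup : P ≤ (U ⊓ A) ⊔ (U ⊓ B) := hPN.trans hNsup
    obtain ⟨ψ', hψ', hψe⟩ := exists_dec hS h hc hE'.1 hE'F hφ'
    have hPN₁ : (pr (U ⊓ A) (U ⊓ B) P) ≤ (pr (U ⊓ A) (U ⊓ B) N) := inf_le_inf_left _ (sup_le_sup_right hPN _)
    have hP₁U : (pr (U ⊓ A) (U ⊓ B) P) ≤ U := inf_le_left.trans inf_le_left
    set φN := ψ'.comp (Subgroup.inclusion (le_sup_left : (pr (U ⊓ A) (U ⊓ B) N) ≤ _)) with hφN
    have hφN' : φN ∈ E'.Hom (pr (U ⊓ A) (U ⊓ B) N) := restrict_mem hψ' le_sup_left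
    set φ₁ := φN.comp (Subgroup.inclusion hPN₁) with hφ₁
    have hle : (pr (U ⊓ A) (U ⊓ B) P) ⊔ (U ⊓ B) ≤ P ⊔ (U ⊓ B) := (pr_sup_eq h.comm' hPsup).le
    obtain ⟨θ, hθ, hθe, hθf⟩ := exact_of_congr hS h hc hE hsub hE' (inf_le_left : (pr (U ⊓ A) (U ⊓ B) P) ≤ _)
      (fun z hz => ⟨hz.1, Subgroup.mem_sup_right hz.2⟩) (hE'.2.1.1 _ (restrict_mem hφN' hPN₁) :
        φ₁ ∈ E.Hom (pr (U ⊓ A) (U ⊓ B) P)) (restrict_mem hψ hle) (fun b hb hb' => hf b hb _) fun r => by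
      obtain ⟨x, hx, d, hd, hre⟩ := exists_mul_pr h.comm' hPsup r.2.2
      have hdN : d ∈ (pr (U ⊓ A) (U ⊓ B) N) ⊔ pr (U ⊓ B) (U ⊓ A) N := by
        rw [show d = x⁻¹ * (r : Ω) by rw [hre, inv_mul_cancel_left]]
        exact mul_mem (inv_mem (le_pr_sup_pr h.comm' hNsup (hPN hx))) (Subgroup.mem_sup_left (hPN₁ r.2))
      have e1 : φ₁ r = φ ⟨x, hPN hx⟩ * ψ' ⟨d, hdN⟩ := by
        rw [← hψe x (hPN hx) (le_pr_sup_pr h.comm' hNsup (hPN hx)), ← map_mul]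
        exact congrArg ψ' (Subtype.ext hre)
      have e2 : ψ ⟨r, hle (Subgroup.mem_sup_left r.2)⟩ =
          ψ (Subgroup.inclusion le_sup_left ⟨x, hx⟩) * d := by
        rw [show (⟨r, hle (Subgroup.mem_sup_left r.2)⟩ : ↥(P ⊔ (U ⊓ B))) =
          Subgroup.inclusion le_sup_left ⟨x, hx⟩ * ⟨d, Subgroup.mem_sup_right hd⟩ from
          Subtype.ext hre, map_mul, hf d hd]
      show (ψ ⟨r, hle (Subgroup.mem_sup_left r.2)⟩)⁻¹ * φ₁ r ∈ B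
      rw [e1, e2, mul_inv_rev, mul_assoc, ← mul_assoc (ψ _)⁻¹]
      exact B.mul_mem (B.inv_mem hd.2)
        (B.mul_mem (he ⟨x, hx⟩).2 (stronglyClosed_apply_mem hB (hE'.2.1.1 _ hψ') (x := ⟨d, hdN⟩) hd).2)
    have hPQ : P ≤ ((pr (U ⊓ A) (U ⊓ B) P) ⊔ (U ⊓ B)) := le_sup_left.trans (pr_sup_eq h.comm' hPsup).ge
    have hQU : ((pr (U ⊓ A) (U ⊓ B) P) ⊔ (U ⊓ B)) ≤ U := sup_le hP₁U inf_le_left
    have hQc : E.IsCentric ((pr (U ⊓ A) (U ⊓ B) P) ⊔ (U ⊓ B)) := isCentric_mono hP hPQ hQU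
    have hθE := hE'.2.1.1 _ hθ
    obtain ⟨χ₀, hχ₀, hχe⟩ := (isReceptive_of_fc hU hE (isFullyCentralized_of_isCentric
      (isCentric_of_conj hQc ⟨θ, hθE, rfl⟩))).2 ((pr (U ⊓ A) (U ⊓ B) P) ⊔ (U ⊓ B)) θ hθE rfl
    -- `N` normalizes `((pr (U ⊓ A) (U ⊓ B) P) ⊔ (U ⊓ B))`
    have hNQ : N ⊔ (U ⊓ B) ≤ Subgroup.normalizer ((pr (U ⊓ A) (U ⊓ B) P ⊔ (U ⊓ B) : Subgroup Ω) : Set Ω) := by
      refine sup_le (fun m hm => ?_) (le_trans le_sup_right Subgroup.le_normalizer)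
      have key : ∀ m ∈ N, ∀ z ∈ ((pr (U ⊓ A) (U ⊓ B) P) ⊔ (U ⊓ B)), m * z * m⁻¹ ∈ ((pr (U ⊓ A) (U ⊓ B) P) ⊔ (U ⊓ B)) := by
        intro m hm z hz
        obtain ⟨x, hx, d, hd, rfl⟩ := exists_mul_pr h.comm' hPsup (hle hz)
        rw [show m * (x * d) * m⁻¹ = (m * x * m⁻¹) * (m * d * m⁻¹) by group]
        exact mul_mem (hPQ ((Subgroup.mem_normalizer_iff.1 (hN hm) x).1 hx))
          (Subgroup.mem_sup_right (conj_mem_right h.comm' (hNsup hm) hd))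
      refine Subgroup.mem_normalizer_iff.2 fun z => ⟨key m hm z, fun hz => ?_⟩
      simpa [mul_assoc] using key _ (inv_mem hm) _ hz
    have hN₁Q : ∀ n ∈ (pr (U ⊓ A) (U ⊓ B) N), n ∈ Subgroup.normalizer ((pr (U ⊓ A) (U ⊓ B) P ⊔ (U ⊓ B) : Subgroup Ω) : Set Ω) := fun n hn => hNQ hn.2
    have hext : (pr (U ⊓ A) (U ⊓ B) N) ⊔ (U ⊓ B) ≤ extender U ((pr (U ⊓ A) (U ⊓ B) P) ⊔ (U ⊓ B)) θ := by
      refine sup_le (fun n hn => mem_extender_of hn.1.1 (hN₁Q n hn)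
        (hom_mem hφN' ⟨n, hn⟩) fun z hz => ?_) fun u hu => mem_extender_of hu.1
          (Subgroup.le_normalizer (Subgroup.mem_sup_right hu)) hu.1 fun z hz => ?_
      · obtain ⟨r, hr, d, hd, hze⟩ :=
          exists_mul_of_commute (fun c hc' b hb => h.comm' c (pr_le_left hc') b hb) z.2
        have hnrA : n * r * n⁻¹ ∈ U ⊓ A := mul_mem (mul_mem hn.1 hr.1) (inv_mem hn.1)
        have hnr : n * r * n⁻¹ ∈ (pr (U ⊓ A) (U ⊓ B) P) := ⟨hnrA, hle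
          ((Subgroup.mem_normalizer_iff.1 (hN₁Q n hn) r).1 (Subgroup.mem_sup_left hr))⟩
        have e1 : θ ⟨n * z * n⁻¹, hz⟩ = φ₁ ⟨_, hnr⟩ * d := by
          rw [show (⟨n * z * n⁻¹, hz⟩ : ↥((pr (U ⊓ A) (U ⊓ B) P) ⊔ (U ⊓ B))) =
            ⟨_, Subgroup.mem_sup_left hnr⟩ * ⟨d, Subgroup.mem_sup_right hd⟩ from Subtype.ext (by
              show n * (z : Ω) * n⁻¹ = n * r * n⁻¹ * d
              rw [hze, show n * (r * d) * n⁻¹ = n * r * (d * n⁻¹) by group,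
                ← h.comm' _ (inv_mem hn.1) d hd]
              group), map_mul, hθe _ hnr, hθf d hd]
        have e2 : θ z = φ₁ ⟨r, hr⟩ * d := by
          rw [show z = (⟨r, Subgroup.mem_sup_left hr⟩ : ↥((pr (U ⊓ A) (U ⊓ B) P) ⊔ (U ⊓ B))) * ⟨d, Subgroup.mem_sup_right hd⟩ from
            Subtype.ext hze, map_mul, hθe r hr, hθf d hd]
        have hnA : φN ⟨n, hn⟩ ∈ U ⊓ A := hA.2 (pr (U ⊓ A) (U ⊓ B) N) inf_le_left _ (hE'.2.1.1 _ hφN') _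
        rw [e1, e2, show φ₁ ⟨_, hnr⟩ = φN ⟨n, hn⟩ * φ₁ ⟨r, hr⟩ * (φN ⟨n, hn⟩)⁻¹ from by
            rw [← map_inv]
            show φN _ = φN ⟨n, hn⟩ * φN _ * φN _
            rw [← map_mul, ← map_mul]
            exact congrArg φN (Subtype.ext rfl)]
        simp only [mul_assoc]
        rw [h.comm' _ (inv_mem hnA) d hd]
      · obtain ⟨r, hr, d, hd, hze⟩ :=
          exists_mul_of_commute (fun c hc' b hb => h.comm' c (pr_le_left hc') b hb) z.2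
        rw [show (⟨u * z * u⁻¹, hz⟩ : ↥((pr (U ⊓ A) (U ⊓ B) P) ⊔ (U ⊓ B))) =
          ⟨u, Subgroup.mem_sup_right hu⟩ * z * ⟨u, Subgroup.mem_sup_right hu⟩⁻¹ from rfl,
          map_mul, map_mul, map_inv, hθf u hu]
    set χ := χ₀.comp (Subgroup.inclusion hext) with hχdef
    have hQN : ((pr (U ⊓ A) (U ⊓ B) P) ⊔ (U ⊓ B)) ≤ (pr (U ⊓ A) (U ⊓ B) N) ⊔ (U ⊓ B) := sup_le_sup_right hPN₁ _
    have hNNQ : (pr (U ⊓ A) (U ⊓ B) N) ⊔ (U ⊓ B) ≤ Subgroup.normalizer ((pr (U ⊓ A) (U ⊓ B) P ⊔ (U ⊓ B) : Subgroup Ω) : Set Ω) :=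
      sup_le hN₁Q (le_trans le_sup_right Subgroup.le_normalizer)
    have hχ : χ ∈ E'.Hom ((pr (U ⊓ A) (U ⊓ B) N) ⊔ (U ⊓ B)) := hcl.2 ((pr (U ⊓ A) (U ⊓ B) P) ⊔ (U ⊓ B)) _ hQN hQc hNNQ χ (restrict_mem hχ₀ hext)
      (hom_congr hθ fun z => hχe z z.2 _)
    have hcent : (fullOn E (U ⊓ A) hA.1).IsCentric (pr (U ⊓ A) (U ⊓ B) P) := by
      refine ⟨inf_le_left, ?_⟩
      rintro R ⟨η, hη, rfl⟩
      intro c hc'
      obtain ⟨hcA, hcc⟩ := mem_centralizerIn.1 hc'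
      obtain ⟨ω, hω, hωe⟩ := exists_ext_right hS h hc hE hsub (inf_le_left : (pr (U ⊓ A) (U ⊓ B) P) ≤ _) hη.1
      have hωc : c ∈ ω.range := by
        refine hQc.2 _ ⟨ω, hω, rfl⟩ (mem_centralizerIn.2 ⟨hcA.1, ?_⟩)
        rintro _ ⟨⟨w, hw⟩, rfl⟩
        obtain ⟨r, hr, d, hd, rfl⟩ :=
          exists_mul_of_commute (fun c hc' b hb => h.comm' c (pr_le_left hc') b hb) hw
        rw [show (⟨r * d, hw⟩ : ↥((pr (U ⊓ A) (U ⊓ B) P) ⊔ (U ⊓ B))) = ⟨r, Subgroup.mem_sup_left hr⟩ * ⟨d, Subgroup.mem_sup_right hd⟩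
          from rfl, map_mul, hωe r hr]
        have hωd := stronglyClosed_apply_mem hB hω (x := ⟨d, Subgroup.mem_sup_right hd⟩) hd
        rw [← mul_assoc, hcc _ ⟨⟨r, hr⟩, rfl⟩, mul_assoc, h.comm' c hcA _ hωd, mul_assoc]
      obtain ⟨⟨w, hw⟩, hwe⟩ := hωc
      obtain ⟨r, hr, d, hd, rfl⟩ :=
        exists_mul_of_commute (fun c hc' b hb => h.comm' c (pr_le_left hc') b hb) hw
      rw [show (⟨r * d, hw⟩ : ↥((pr (U ⊓ A) (U ⊓ B) P) ⊔ (U ⊓ B))) = ⟨r, Subgroup.mem_sup_left hr⟩ * ⟨d, Subgroup.mem_sup_right hd⟩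
        from rfl, map_mul, hωe r hr] at hwe
      set e := ω ⟨d, Subgroup.mem_sup_right hd⟩ with he'
      have heB : e ∈ U ⊓ B := stronglyClosed_apply_mem hB hω (x := ⟨d, Subgroup.mem_sup_right hd⟩) hd
      have heA : e ∈ U ⊓ A := by
        have := (U ⊓ A).mul_mem (inv_mem (hη.2.2 ⟨r, hr⟩)) hcA
        rwa [← hwe, inv_mul_cancel_left] at this
      have hep : e ∈ (pr (U ⊓ A) (U ⊓ B) P) := ⟨heA, Subgroup.mem_sup_right heB⟩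
      refine ⟨⟨r, hr⟩ * ⟨e, hep⟩, ?_⟩
      rw [map_mul, h.fix_inf (hsub _ hη.1) hep heA.2 heB.2, hwe]
    have hsat := isSaturated_fullOn hE hA h.comm' hc.sup.ge
    haveI := finite_of_le ((inf_le_left : U ⊓ A ≤ U).trans hc.closed.1)
    obtain ⟨z, hz, -, hze⟩ := centric_ext_unique (hS.to_le ((inf_le_left : U ⊓ A ≤ U).trans hc.closed.1))
      hsat hcent hPN₁
      (φ := χ.comp (Subgroup.inclusion (le_sup_left : (pr (U ⊓ A) (U ⊓ B) N) ≤ (pr (U ⊓ A) (U ⊓ B) N) ⊔ (U ⊓ B)))) (φ' := φN)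
      ⟨hE'.2.1.1 _ (restrict_mem hχ le_sup_left), inf_le_left,
        fun x => hA.2 (pr (U ⊓ A) (U ⊓ B) N) inf_le_left _ (hE'.2.1.1 _ (restrict_mem hχ le_sup_left)) x⟩
      ⟨hE'.2.1.1 _ hφN', inf_le_left, fun x => hA.2 (pr (U ⊓ A) (U ⊓ B) N) inf_le_left _ (hE'.2.1.1 _ hφN') x⟩
      fun x hx => (hχe x (Subgroup.mem_sup_left hx) _).trans (hθe x hx _)
    have hzv : ∀ w : ↥((pr (U ⊓ A) (U ⊓ B) N) ⊔ (U ⊓ B)), conjHom ((pr (U ⊓ A) (U ⊓ B) N) ⊔ (U ⊓ B)) (z : Ω) w ∈ (pr (U ⊓ A) (U ⊓ B) N) ⊔ (U ⊓ B) := fun w =>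
      mul_mem (mul_mem (Subgroup.mem_sup_left z.2) w.2) (inv_mem (Subgroup.mem_sup_left z.2))
    have hχ' := E'.comp_mem (E'.conj_mem (sup_le (inf_le_left.trans inf_le_left) inf_le_left) z.2.1.1)
      hχ hzv
    set χ' := χ.comp ((conjHom ((pr (U ⊓ A) (U ⊓ B) N) ⊔ (U ⊓ B)) (z : Ω)).codRestrict _ hzv) with hχ'def
    have hχ'f : ∀ (b : Ω) (_ : b ∈ U ⊓ B) (hb' : b ∈ (pr (U ⊓ A) (U ⊓ B) N) ⊔ (U ⊓ B)), χ' ⟨b, hb'⟩ = b := by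
      intro b hb hb'
      have : (⟨(z : Ω) * b * (z : Ω)⁻¹, hzv ⟨b, hb'⟩⟩ : ↥((pr (U ⊓ A) (U ⊓ B) N) ⊔ (U ⊓ B))) = ⟨b, hb'⟩ :=
        Subtype.ext (show (z : Ω) * b * (z : Ω)⁻¹ = b by rw [h.comm' _ z.2.1 b hb, mul_inv_cancel_right])
      show χ ⟨(z : Ω) * b * (z : Ω)⁻¹, _⟩ = b
      rw [this]
      exact (hχe b (Subgroup.mem_sup_right hb) _).trans (hθf b hb _)
    have hle' : N ⊔ (U ⊓ B) ≤ (pr (U ⊓ A) (U ⊓ B) N) ⊔ (U ⊓ B) := (pr_sup_eq h.comm' hNsup).ge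
    refine ⟨_, restrict_mem hχ' hle', fun b hb hb' => hχ'f b hb _, fun x => ?_⟩
    show (χ' ⟨x, hle' (Subgroup.mem_sup_left x.2)⟩)⁻¹ * φ x ∈ U ⊓ B
    obtain ⟨r, hr, d, hd, hxe⟩ := exists_mul_of_commute
      (fun c hc' b hb => h.comm' c (pr_le_left hc') b hb) (hle' (Subgroup.mem_sup_left x.2))
    have hdN : d ∈ (pr (U ⊓ A) (U ⊓ B) N) ⊔ pr (U ⊓ B) (U ⊓ A) N := by
      rw [show d = r⁻¹ * (x : Ω) by rw [hxe, inv_mul_cancel_left]]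
      exact mul_mem (inv_mem (Subgroup.mem_sup_left hr)) (le_pr_sup_pr h.comm' hNsup x.2)
    have e1 : χ' ⟨x, hle' (Subgroup.mem_sup_left x.2)⟩ = φN ⟨r, hr⟩ * d := by
      rw [show (⟨x, hle' (Subgroup.mem_sup_left x.2)⟩ : ↥((pr (U ⊓ A) (U ⊓ B) N) ⊔ (U ⊓ B))) =
        ⟨r, Subgroup.mem_sup_left hr⟩ * ⟨d, Subgroup.mem_sup_right hd⟩ from Subtype.ext hxe,
        map_mul, hχ'f d hd, hze ⟨r, hr⟩]
      rfl
    have e2 : φ x = φN ⟨r, hr⟩ * ψ' ⟨d, hdN⟩ := by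
      refine (hψe x x.2 (le_pr_sup_pr h.comm' hNsup x.2)).symm.trans ?_
      refine Eq.trans ?_ (map_mul ψ' ⟨r, Subgroup.mem_sup_left hr⟩ ⟨d, hdN⟩)
      exact congrArg ψ' (Subtype.ext hxe)
    rw [e1, e2, mul_inv_rev, mul_assoc, inv_mul_cancel_left]
    exact mul_mem (inv_mem hd) (stronglyClosed_apply_mem hB (hE'.2.1.1 _ hψ') (x := ⟨d, hdN⟩) hd)

/-- Maps of the residual on a subgroup of one factor extend fixing the other. -/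
theorem exists_id_right (hS : IsPGroup p S) (h : IsSplit F A B) (hc : IsCut F A B U)
    (hE : E.IsSaturated p) (hsub : E.IsSubsystemOf F) (hE' : E.IsPPrimeResidual p E')
    (hP : P ≤ U ⊓ A) {φ : P →* Ω} (hφ : φ ∈ E'.Hom P) :
    ∃ ψ ∈ E'.Hom (P ⊔ (U ⊓ B)),
      (∀ (x : Ω) (hx : x ∈ P) (hx' : x ∈ P ⊔ (U ⊓ B)), ψ ⟨x, hx'⟩ = φ ⟨x, hx⟩) ∧
      ∀ (b : Ω) (_ : b ∈ U ⊓ B) (hb' : b ∈ P ⊔ (U ⊓ B)), ψ ⟨b, hb'⟩ = b := by
  have hE'F : E'.IsSubsystemOf F := fun P φ hφ => hsub P (hE'.2.1.1 P hφ)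
  obtain ⟨ψ', hψ', hψe⟩ := exists_dec hS h hc hE'.1 hE'F hφ
  have hPP₁ : P ≤ (pr (U ⊓ A) (U ⊓ B) P) := fun x hx => ⟨hP hx, Subgroup.mem_sup_left hx⟩
  have hφ₁ := restrict_mem hψ' (le_sup_left : (pr (U ⊓ A) (U ⊓ B) P) ≤ _)
  obtain ⟨-, ψ, hψ, hf, hcg⟩ := residual_le_congrSys hS h hc hE hsub hE' (pr (U ⊓ A) (U ⊓ B) P) hφ₁
  obtain ⟨θ, hθ, hθe, hθf⟩ := exact_of_congr hS h hc hE hsub hE' (inf_le_left : (pr (U ⊓ A) (U ⊓ B) P) ≤ _)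
    (fun z hz => ⟨hz.1, Subgroup.mem_sup_right hz.2⟩) (hE'.2.1.1 _ hφ₁) hψ hf fun x => (hcg x).2
  have hle : P ⊔ (U ⊓ B) ≤ (pr (U ⊓ A) (U ⊓ B) P) ⊔ (U ⊓ B) := sup_le_sup_right hPP₁ _
  exact ⟨_, restrict_mem hθ hle, fun x hx _ => (hθe x (hPP₁ hx) _).trans (hψe x hx _),
    fun b hb _ => hθf b hb _⟩

/-- The residual of a saturated subsystem over a cut is split. -/
theorem isSplit_residual (hS : IsPGroup p S) (h : IsSplit F A B) (hc : IsCut F A B U)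
    (hE : E.IsSaturated p) (hsub : E.IsSubsystemOf F) (hE' : E.IsPPrimeResidual p E') :
    IsSplit E' (U ⊓ A) (U ⊓ B) := by
  have hE'F : E'.IsSubsystemOf F := fun P φ hφ => hsub P (hE'.2.1.1 P hφ)
  exact
    { comm := h.comm'
      sup := hc.sup
      left := hc.closed_left h hE'F
      right := hc.symm.closed_left h.symm hE'F
      ext := fun hφ => exists_dec hS h hc hE'.1 hE'F hφ
      idLeft := fun hP _ hφ => exists_id_right hS h hc hE hsub hE' hP hφ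
      idRight := fun hP _ hφ => exists_id_right hS h.symm hc.symm hE hsub hE' hP hφ }

end Cfsg.Lib.FusionSys
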