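import Cfsg.Agent.Lib.FusionSys.ResidualChain

/-!
Saturated systems over a product of two commuting strongly closed subgroups.
-/

set_option autoImplicit false
set_option linter.style.haveILetI false

namespace Cfsg.Lib.FusionSys

open Cfsg Cfsg.FusionSystem

variable {Ω : Type*} [Group Ω] {S U A B P Q : Subgroup Ω} {F : FusionSystem S} {X : FusionSystem U}
  {p : ℕ}

/-- The part in `C` of the product of `P` with `D`. -/
abbrev pr (C D P : Subgroup Ω) : Subgroup Ω := C ⊓ (P ⊔ D)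

/-- The system decomposes along the commuting strongly closed subgroups `A` and `B`. -/
structure IsSplit (F : FusionSystem S) (A B : Subgroup Ω) : Prop where
  comm : ∀ a ∈ A, ∀ b ∈ B, a * b = b * a
  sup : A ⊔ B = S
  left : F.StronglyClosed A
  right : F.StronglyClosed B
  ext : ∀ {P : Subgroup Ω} {φ : P →* Ω}, φ ∈ F.Hom P →
    ∃ ψ ∈ F.Hom (pr A B P ⊔ pr B A P), ∀ (x : Ω) (hx : x ∈ P) (hx' : x ∈ pr A B P ⊔ pr B A P),
      ψ ⟨x, hx'⟩ = φ ⟨x, hx⟩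
  idLeft : ∀ {P : Subgroup Ω}, P ≤ A → ∀ {φ : P →* Ω}, φ ∈ F.Hom P → ∃ ψ ∈ F.Hom (P ⊔ B),
    (∀ (x : Ω) (hx : x ∈ P) (hx' : x ∈ P ⊔ B), ψ ⟨x, hx'⟩ = φ ⟨x, hx⟩) ∧
      ∀ (b : Ω) (_ : b ∈ B) (hb' : b ∈ P ⊔ B), ψ ⟨b, hb'⟩ = b
  idRight : ∀ {P : Subgroup Ω}, P ≤ B → ∀ {φ : P →* Ω}, φ ∈ F.Hom P → ∃ ψ ∈ F.Hom (P ⊔ A),
    (∀ (x : Ω) (hx : x ∈ P) (hx' : x ∈ P ⊔ A), ψ ⟨x, hx'⟩ = φ ⟨x, hx⟩) ∧
      ∀ (a : Ω) (_ : a ∈ A) (ha' : a ∈ P ⊔ A), ψ ⟨a, ha'⟩ = a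

theorem IsSplit.symm (h : IsSplit F A B) : IsSplit F B A where
  comm := fun b hb a ha => (h.comm a ha b hb).symm
  sup := sup_comm B A ▸ h.sup
  left := h.right
  right := h.left
  ext := fun {P φ} hφ => by
    obtain ⟨ψ, hψ, hψe⟩ := h.ext hφ
    exact ⟨_, restrict_mem hψ (sup_comm _ _).le, fun x hx hx' => hψe x hx _⟩
  idLeft := h.idRight
  idRight := h.idLeft

theorem exists_mul_of_commute {C D : Subgroup Ω} (hcomm : ∀ a ∈ C, ∀ b ∈ D, a * b = b * a) {x : Ω}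
    (hx : x ∈ C ⊔ D) : ∃ a ∈ C, ∃ b ∈ D, x = a * b := by
  have hle : C ≤ Subgroup.normalizer (D : Set Ω) := fun a ha => by
    refine Subgroup.mem_normalizer_iff.2 fun z => ⟨fun hz => ?_, fun hz => ?_⟩
    · rwa [hcomm a ha z hz, mul_inv_cancel_right]
    · have h1 : a⁻¹ * (a * z * a⁻¹) * a = a * z * a⁻¹ := by
        rw [hcomm _ (C.inv_mem ha) _ hz, mul_assoc, inv_mul_cancel, mul_one]
      rw [show z = a⁻¹ * (a * z * a⁻¹) * a by group, h1]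
      exact hz
  have h : x ∈ ((C ⊔ D : Subgroup Ω) : Set Ω) := hx
  rw [Subgroup.coe_mul_of_left_le_normalizer_right C D hle] at h
  obtain ⟨a, ha, b, hb, he⟩ := Set.mem_mul.1 h
  exact ⟨a, ha, b, hb, he.symm⟩

theorem IsSplit.exists_mul (h : IsSplit F A B) {x : Ω} (hx : x ∈ S) : ∃ a ∈ A, ∃ b ∈ B, x = a * b :=
  exists_mul_of_commute h.comm (h.sup.symm ▸ hx)

/-- Elements of both factors are fixed by every map. -/
theorem IsSplit.fix_inf (h : IsSplit F A B) {φ : P →* Ω} (hφ : φ ∈ F.Hom P) {z : Ω} (hz : z ∈ P)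
    (hzA : z ∈ A) (hzB : z ∈ B) : φ ⟨z, hz⟩ = z := by
  obtain ⟨ψ, -, hψe, hψf⟩ := h.idLeft (Subgroup.zpowers_le.2 hzA)
    (restrict_mem hφ (Subgroup.zpowers_le.2 hz))
  have h1 := hψe z (Subgroup.mem_zpowers z) (Subgroup.mem_sup_left (Subgroup.mem_zpowers z))
  rw [hψf z hzB _] at h1
  exact h1.symm

theorem conj_mem_right {C D : Subgroup Ω} (hcomm : ∀ a ∈ C, ∀ b ∈ D, a * b = b * a) {g z : Ω}
    (hg : g ∈ C ⊔ D) (hz : z ∈ D) : g * z * g⁻¹ ∈ D := by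
  obtain ⟨a, ha, b, hb, rfl⟩ := exists_mul_of_commute hcomm hg
  have h1 : a * b * z * (a * b)⁻¹ = a * (b * z * b⁻¹) * a⁻¹ := by group
  rw [h1, hcomm a ha _ (D.mul_mem (D.mul_mem hb hz) (D.inv_mem hb)), mul_inv_cancel_right]
  exact D.mul_mem (D.mul_mem hb hz) (D.inv_mem hb)

theorem le_pr_sup_pr {C D : Subgroup Ω} (hcomm : ∀ a ∈ C, ∀ b ∈ D, a * b = b * a) (hP : P ≤ C ⊔ D) :
    P ≤ pr C D P ⊔ pr D C P := by
  intro x hx
  obtain ⟨a, ha, b, hb, rfl⟩ := exists_mul_of_commute hcomm (hP hx)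
  have h1 : a ∈ P ⊔ D := by
    have := Subgroup.mul_mem _ (Subgroup.mem_sup_left hx : a * b ∈ P ⊔ D)
      (Subgroup.mem_sup_right (D.inv_mem hb))
    rwa [mul_inv_cancel_right] at this
  have h2 : b ∈ P ⊔ C := by
    have := Subgroup.mul_mem _ (Subgroup.mem_sup_right (C.inv_mem ha) : a⁻¹ ∈ P ⊔ C)
      (Subgroup.mem_sup_left hx)
    rwa [inv_mul_cancel_left] at this
  exact Subgroup.mul_mem _ (Subgroup.mem_sup_left ⟨ha, h1⟩) (Subgroup.mem_sup_right ⟨hb, h2⟩)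

theorem pr_sup_eq {C D : Subgroup Ω} (hcomm : ∀ a ∈ C, ∀ b ∈ D, a * b = b * a) (hP : P ≤ C ⊔ D) :
    pr C D P ⊔ D = P ⊔ D :=
  le_antisymm (sup_le inf_le_right le_sup_right)
    (sup_le ((le_pr_sup_pr hcomm hP).trans (sup_le_sup_left inf_le_left _)) le_sup_right)

/-- An element of `P ⊔ D`, with `D` normalized by `P`, is a product. -/
theorem exists_mul_pr {C D : Subgroup Ω} (hcomm : ∀ a ∈ C, ∀ b ∈ D, a * b = b * a) (hP : P ≤ C ⊔ D)
    {y : Ω} (hy : y ∈ P ⊔ D) : ∃ x ∈ P, ∃ b ∈ D, y = x * b := by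
  have hle : P ≤ Subgroup.normalizer (D : Set Ω) := fun g hg =>
    Subgroup.mem_normalizer_iff.2 fun z => ⟨fun hz => conj_mem_right hcomm (hP hg) hz, fun hz => by
      have := conj_mem_right hcomm (inv_mem (hP hg)) hz
      simpa [mul_assoc] using this⟩
  have h : y ∈ ((P ⊔ D : Subgroup Ω) : Set Ω) := hy
  rw [Subgroup.coe_mul_of_left_le_normalizer_right P D hle] at h
  obtain ⟨x, hx, b, hb, he⟩ := Set.mem_mul.1 h
  exact ⟨x, hx, b, hb, he.symm⟩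

/-- `U` is strongly closed and is the product of its parts in the two factors. -/
structure IsCut (F : FusionSystem S) (A B U : Subgroup Ω) : Prop where
  closed : F.StronglyClosed U
  sup : (U ⊓ A) ⊔ (U ⊓ B) = U

theorem IsCut.symm (h : IsCut F A B U) : IsCut F B A U where
  closed := h.closed
  sup := sup_comm (U ⊓ B) (U ⊓ A) ▸ h.sup

theorem IsSplit.comm' (h : IsSplit F A B) :
    ∀ a ∈ U ⊓ A, ∀ b ∈ U ⊓ B, a * b = b * a := fun a ha b hb => h.comm a ha.2 b hb.2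

theorem IsCut.closed_left (hc : IsCut F A B U) (h : IsSplit F A B) (hsub : X.IsSubsystemOf F) :
    X.StronglyClosed (U ⊓ A) :=
  ⟨inf_le_left, fun R hR φ hφ x => ⟨hom_mem hφ x, h.left.2 R (hR.trans inf_le_right) φ (hsub R hφ) x⟩⟩

/-- A map carries the part of a product in one factor to the part of the image. -/
theorem map_pr (h : IsSplit F A B) (hc : IsCut F A B U) (hsub : X.IsSubsystemOf F) {R : Subgroup Ω}
    {ψ : R →* Ω} (hψ : ψ ∈ X.Hom R) (hPR : P ≤ R) (hv : ∀ (x : Ω) (hx : x ∈ P), ψ ⟨x, hPR hx⟩ ∈ Q)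
    {a : Ω} (ha : a ∈ pr (U ⊓ A) (U ⊓ B) P) (haR : a ∈ R) :
    ψ ⟨a, haR⟩ ∈ pr (U ⊓ A) (U ⊓ B) Q := by
  have hR : R ≤ U := hom_le hψ
  obtain ⟨x, hx, b, hb, he⟩ :=
    exists_mul_pr h.comm' (hPR.trans (hR.trans hc.sup.ge)) ha.2
  have hbR : b ∈ R := by
    have := R.mul_mem (R.inv_mem (hPR hx)) haR
    rwa [he, inv_mul_cancel_left] at this
  refine ⟨stronglyClosed_apply_mem (hc.closed_left h hsub) hψ (x := ⟨a, haR⟩) ha.1, ?_⟩
  have h1 : (⟨a, haR⟩ : R) = ⟨x, hPR hx⟩ * ⟨b, hbR⟩ := Subtype.ext he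
  rw [h1, map_mul]
  exact Subgroup.mul_mem _ (Subgroup.mem_sup_left (hv x hx))
    (Subgroup.mem_sup_right
      (stronglyClosed_apply_mem (hc.symm.closed_left h.symm hsub) hψ (x := ⟨b, hbR⟩) hb))

theorem pr_le_left {C D : Subgroup Ω} : pr C D P ≤ C := inf_le_left

variable [Finite S] [Fact p.Prime]

/-- An essential subgroup is the product of its parts in the two factors. -/
theorem pr_sup_le_of_radical (hS : IsPGroup p S) (h : IsSplit F A B) (hc : IsCut F A B U)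
    (hsub : X.IsSubsystemOf F) (hPc : X.IsCentric P) (hPr : X.IsRadical p P) :
    pr (U ⊓ A) (U ⊓ B) P ⊔ pr (U ⊓ B) (U ⊓ A) P ≤ P := by
  have hUS := hc.closed.1
  haveI := finite_of_le hUS
  have hPU := hPc.1
  haveI := finite_of_le (hPU.trans hUS)
  haveI : Finite (MulAut P) := finite_mulAut_of_le (hPU.trans hUS)
  set Q := pr (U ⊓ A) (U ⊓ B) P ⊔ pr (U ⊓ B) (U ⊓ A) P with hQdef
  have hQU : Q ≤ U := sup_le (inf_le_left.trans inf_le_left) (inf_le_left.trans inf_le_left)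
  haveI := finite_of_le (hQU.trans hUS)
  have hPQ : P ≤ Q := le_pr_sup_pr h.comm' (hPU.trans hc.sup.ge)
  by_contra hQP
  obtain ⟨g, ⟨hgQ, hgN⟩, hgP⟩ := SetLike.exists_of_lt
    (lt_normalizerIn (S := Q) (hS.to_le (hQU.trans hUS))
      (lt_of_le_of_ne hPQ fun e => hQP e.ge))
  -- the automorphisms induced by `N_Q(P)` are normalized by all automorphisms
  haveI : ((autInducedBy Q P).subgroupOf (X.autGroup P)).Normal := ⟨fun n hn a => by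
    obtain ⟨y, hy, hye⟩ := mem_autInducedBy.1 (Subgroup.mem_subgroupOf.1 hn)
    have haX := (mem_autGroup hPU).1 a.2
    obtain ⟨ψ, hψ, hψe⟩ := h.ext (hsub P haX)
    have hle : Q ≤ pr A B P ⊔ pr B A P :=
      sup_le_sup (inf_le_inf inf_le_right (sup_le_sup_left inf_le_right _))
        (inf_le_inf inf_le_right (sup_le_sup_left inf_le_right _))
    have hψQ : ∀ (z : Ω) (hz : z ∈ Q), ψ ⟨z, hle hz⟩ ∈ Q := by
      intro z hz
      have hPψ : ∀ (x : Ω) (hx : x ∈ P), ψ ⟨x, hle (hPQ hx)⟩ ∈ P := fun x hx => by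
        rw [hψe x hx]; exact ((a : MulAut P) ⟨x, hx⟩).2
      have key : ∀ {C D : Subgroup Ω}, IsSplit F C D → IsCut F C D U → ∀ w ∈ pr (U ⊓ C) (U ⊓ D) P,
          (hw : w ∈ Q) → ψ ⟨w, hle hw⟩ ∈ pr (U ⊓ C) (U ⊓ D) P := by
        intro C D hs hcc w hw hwQ
        obtain ⟨x, hx, b, hb, he⟩ := exists_mul_pr hs.comm' (hPU.trans hcc.sup.ge) hw.2
        have hbQ : b ∈ Q := by
          have := Q.mul_mem (Q.inv_mem (hPQ hx)) hwQ
          rwa [he, inv_mul_cancel_left] at this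
        have hU' : ∀ (v : Ω) (hv : v ∈ Q), ψ ⟨v, hle hv⟩ ∈ U := fun v hv =>
          hc.closed.2 Q hQU _ (restrict_mem hψ hle) ⟨v, hv⟩
        refine ⟨⟨hU' w hwQ, stronglyClosed_apply_mem hs.left hψ (x := ⟨w, hle hwQ⟩) hw.1.2⟩, ?_⟩
        have h1 : (⟨w, hle hwQ⟩ : ↥(pr A B P ⊔ pr B A P)) = ⟨x, hle (hPQ hx)⟩ * ⟨b, hle hbQ⟩ :=
          Subtype.ext he
        rw [h1, map_mul]
        exact Subgroup.mul_mem _ (Subgroup.mem_sup_left (hPψ x hx)) (Subgroup.mem_sup_right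
          ⟨hU' b hbQ, stronglyClosed_apply_mem hs.right hψ (x := ⟨b, hle hbQ⟩) hb.2⟩)
      obtain ⟨c, hc', d, hd, rfl⟩ := exists_mul_of_commute
        (fun c hc' d hd => h.comm' c (pr_le_left hc') d (pr_le_left hd)) hz
      rw [show (⟨c * d, hle hz⟩ : ↥(pr A B P ⊔ pr B A P)) =
        ⟨c, hle (Subgroup.mem_sup_left hc')⟩ * ⟨d, hle (Subgroup.mem_sup_right hd)⟩ from rfl, map_mul]
      exact Subgroup.mul_mem _
        (Subgroup.mem_sup_left (key h hc c hc' (Subgroup.mem_sup_left hc')))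
        (Subgroup.mem_sup_right (key h.symm hc.symm d hd (Subgroup.mem_sup_right hd)))
    refine Subgroup.mem_subgroupOf.2 (mem_autInducedBy.2 ⟨ψ ⟨y, hle hy⟩, hψQ y hy, fun x => ?_⟩)
    set w : P := (a : MulAut P)⁻¹ x with hw
    have e1 : ((a : MulAut P) w : P) = x := MulAut.apply_inv_self _ _ _
    show (((a : MulAut P) ((n : MulAut P) w) : P) : Ω) = _
    have hyw : y * (w : Ω) * y⁻¹ ∈ P := by rw [← hye w]; exact ((n : MulAut P) w).2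
    rw [show (n : MulAut P) w = ⟨y * (w : Ω) * y⁻¹, hyw⟩ from Subtype.ext (hye w)]
    refine (hψe _ hyw (hle (hPQ hyw))).symm.trans ?_
    rw [show (⟨y * (w : Ω) * y⁻¹, hle (hPQ hyw)⟩ : ↥(pr A B P ⊔ pr B A P)) =
      ⟨y, hle hy⟩ * ⟨w, hle (hPQ w.2)⟩ * ⟨y, hle hy⟩⁻¹ from rfl, map_mul, map_mul, map_inv,
      hψe _ w.2]
    exact congrArg (fun z : Ω => ψ ⟨y, hle hy⟩ * z * (ψ ⟨y, hle hy⟩)⁻¹) (congrArg Subtype.val e1)⟩
  have hp : IsPGroup p ((autInducedBy Q P).subgroupOf (X.autGroup P)) :=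
    (isPGroup_autInducedBy (hS.to_le (hQU.trans hUS))).comap_subtype
  have hcore := Cfsg.Lib.Core.le_pCore' (inferInstance :
    ((autInducedBy Q P).subgroupOf (X.autGroup P)).Normal) hp
  have hgA : conjAut P hgN ∈ X.autGroup P :=
    autInducedBy_le_autGroup hPU (conjAut_mem_autInducedBy hgN (hQU hgQ))
  have hinn : conjAut P hgN ∈ Inn P := by
    rw [← hPr.2]
    exact ⟨⟨_, hgA⟩, hcore (Subgroup.mem_subgroupOf.2 (conjAut_mem_autInducedBy hgN hgQ)), rfl⟩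
  exact hgP (mem_of_conjAut_mem_inn (hPc.2 P (isConj_refl X hPU)) hPU (hQU hgQ) (fun _ => rfl) hinn)

/-- The maps of `X` extending to the product of the parts. -/
def decSys (h : IsSplit F A B) (hc : IsCut F A B U) (hsub : X.IsSubsystemOf F) : FusionSystem U where
  Hom P := {φ | φ ∈ X.Hom P ∧ ∃ ψ ∈ X.Hom (pr (U ⊓ A) (U ⊓ B) P ⊔ pr (U ⊓ B) (U ⊓ A) P),
    ∀ (x : Ω) (hx : x ∈ P) (hx' : x ∈ pr (U ⊓ A) (U ⊓ B) P ⊔ pr (U ⊓ B) (U ⊓ A) P),
      ψ ⟨x, hx'⟩ = φ ⟨x, hx⟩}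
  le_of_mem h := X.le_of_mem h.1
  injective_of_mem h := X.injective_of_mem h.1
  conj_mem := fun {P g} hP hg => ⟨X.conj_mem hP hg, _,
    X.conj_mem (sup_le (inf_le_left.trans inf_le_left) (inf_le_left.trans inf_le_left)) hg,
    fun _ _ _ => rfl⟩
  comp_mem := by
    rintro P Q φ φ' ⟨hφ, ψ, hψ, he⟩ ⟨hφ', ψ', hψ', he'⟩ hv
    have hPR : P ≤ pr (U ⊓ A) (U ⊓ B) P ⊔ pr (U ⊓ B) (U ⊓ A) P :=
      le_pr_sup_pr h.comm' ((hom_le hφ).trans hc.sup.ge)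
    have hPv : ∀ (x : Ω) (hx : x ∈ P), ψ ⟨x, hPR hx⟩ ∈ Q := fun x hx => by rw [he x hx]; exact hv _
    have hm : ∀ z, ψ z ∈ pr (U ⊓ A) (U ⊓ B) Q ⊔ pr (U ⊓ B) (U ⊓ A) Q := by
      rintro ⟨z, hz⟩
      obtain ⟨c, hc', d, hd, rfl⟩ := exists_mul_of_commute
        (fun c hc' d hd => h.comm' c (pr_le_left hc') d (pr_le_left hd)) hz
      rw [show (⟨c * d, hz⟩ : ↥(pr (U ⊓ A) (U ⊓ B) P ⊔ pr (U ⊓ B) (U ⊓ A) P)) =
        ⟨c, Subgroup.mem_sup_left hc'⟩ * ⟨d, Subgroup.mem_sup_right hd⟩ from rfl, map_mul]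
      exact Subgroup.mul_mem _
        (Subgroup.mem_sup_left (map_pr h hc hsub hψ hPR hPv hc' _))
        (Subgroup.mem_sup_right (map_pr h.symm hc.symm hsub hψ hPR hPv hd _))
    refine ⟨X.comp_mem hφ hφ' hv, _, X.comp_mem hψ hψ' hm, fun x hx hx' => ?_⟩
    show ψ' ⟨ψ ⟨x, hx'⟩, _⟩ = φ' ⟨φ ⟨x, hx⟩, hv _⟩
    refine Eq.trans ?_ (he' _ (hv ⟨x, hx⟩) (le_pr_sup_pr h.comm' ((hom_le hφ').trans hc.sup.ge) (hv _)))
    exact congrArg ψ' (Subtype.ext (he x hx hx'))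
  inv_mem := by
    rintro P φ ⟨hφ, ψ, hψ, he⟩
    obtain ⟨φi, hφi, -, hφie⟩ := exists_inv hφ rfl
    obtain ⟨ψi, hψi, -, hψie⟩ := exists_inv hψ rfl
    have hUS := hc.closed.1
    haveI := finite_of_le hUS
    have hPR : P ≤ pr (U ⊓ A) (U ⊓ B) P ⊔ pr (U ⊓ B) (U ⊓ A) P :=
      le_pr_sup_pr h.comm' ((hom_le hφ).trans hc.sup.ge)
    have key : ∀ {C D : Subgroup Ω}, IsSplit F C D → IsCut F C D U →
        (pr (U ⊓ C) (U ⊓ D) P ≤ pr (U ⊓ A) (U ⊓ B) P ⊔ pr (U ⊓ B) (U ⊓ A) P) →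
        pr (U ⊓ D) (U ⊓ C) P ≤ pr (U ⊓ A) (U ⊓ B) P ⊔ pr (U ⊓ B) (U ⊓ A) P →
        pr (U ⊓ C) (U ⊓ D) φ.range ≤ ψ.range := by
      intro C D hs hcc hC hD z hz
      obtain ⟨y, ⟨x, rfl⟩, b, hb, rfl⟩ :=
        exists_mul_pr hs.comm' ((range_le hφ).trans hcc.sup.ge) hz.2
      obtain ⟨a, ha, d, hd, hxe⟩ := exists_mul_of_commute hs.comm' (hcc.sup.ge (hom_le hφ x.2))
      have hap : a ∈ pr (U ⊓ C) (U ⊓ D) P := ⟨ha, by
        rw [show a = (x : Ω) * d⁻¹ by rw [hxe, mul_inv_cancel_right]]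
        exact Subgroup.mul_mem _ (Subgroup.mem_sup_left x.2) (Subgroup.mem_sup_right (inv_mem hd))⟩
      have hdp : d ∈ pr (U ⊓ D) (U ⊓ C) P := ⟨hd, by
        rw [show d = a⁻¹ * (x : Ω) by rw [hxe, inv_mul_cancel_left]]
        exact Subgroup.mul_mem _ (Subgroup.mem_sup_right (inv_mem ha)) (Subgroup.mem_sup_left x.2)⟩
      have h1 : φ x = ψ ⟨a, hC hap⟩ * ψ ⟨d, hD hdp⟩ := by
        rw [← map_mul, ← he (x : Ω) x.2 (hPR x.2)]
        exact congrArg ψ (Subtype.ext hxe)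
      -- the error lies in both factors
      have hψC : ψ ⟨a, hC hap⟩ ∈ U ⊓ C :=
        stronglyClosed_apply_mem (hcc.closed_left hs hsub) hψ (x := ⟨a, hC hap⟩) ha
      have hψD : ψ ⟨d, hD hdp⟩ ∈ U ⊓ D :=
        stronglyClosed_apply_mem (hcc.symm.closed_left hs.symm hsub) hψ (x := ⟨d, hD hdp⟩) hd
      set e := ψ ⟨d, hD hdp⟩ * b
      have heD : e ∈ U ⊓ D := mul_mem hψD hb
      have heC : e ∈ U ⊓ C := by
        have := (U ⊓ C).mul_mem (inv_mem hψC) hz.1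
        rwa [h1, mul_assoc, inv_mul_cancel_left] at this
      have hep : e ∈ pr (U ⊓ C) (U ⊓ D) P := ⟨heC, Subgroup.mem_sup_right heD⟩
      refine ⟨⟨a, hC hap⟩ * ⟨e, hC hep⟩, ?_⟩
      rw [map_mul, hs.fix_inf (hsub _ hψ) (hC hep) heC.2 heD.2, h1]
      simp [e, mul_assoc]
    have hle : pr (U ⊓ A) (U ⊓ B) φ.range ⊔ pr (U ⊓ B) (U ⊓ A) φ.range ≤ ψ.range :=
      sup_le (key h hc le_sup_left le_sup_right) (key h.symm hc.symm le_sup_right le_sup_left)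
    refine ⟨φi, ⟨hφi, _, restrict_mem hψi hle, ?_⟩, fun x => hφie x ⟨x, rfl⟩⟩
    rintro _ ⟨x, rfl⟩ hx'
    rw [hφie x ⟨x, rfl⟩]
    refine Eq.trans ?_ (hψie ⟨x, hPR x.2⟩ (hle hx' |> fun hh => by rw [he x x.2]; exact hh))
    exact congrArg ψi (Subtype.ext (he x x.2 (hPR x.2)).symm)

/-- Every map of a saturated system below a split system extends to the product of the parts. -/
theorem exists_dec (hS : IsPGroup p S) (h : IsSplit F A B) (hc : IsCut F A B U)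
    (hX : X.IsSaturated p) (hsub : X.IsSubsystemOf F) {φ : P →* Ω} (hφ : φ ∈ X.Hom P) :
    ∃ ψ ∈ X.Hom (pr (U ⊓ A) (U ⊓ B) P ⊔ pr (U ⊓ B) (U ⊓ A) P),
      ∀ (x : Ω) (hx : x ∈ P) (hx' : x ∈ pr (U ⊓ A) (U ⊓ B) P ⊔ pr (U ⊓ B) (U ⊓ A) P),
        ψ ⟨x, hx'⟩ = φ ⟨x, hx⟩ := by
  haveI := finite_of_le hc.closed.1
  have hU := hS.to_le hc.closed.1
  refine ((le_of_autGroup_le hU hX (decSys h hc hsub) fun R hR a ha => ?_) P hφ).2
  have hRU : R ≤ U := hR.elim (fun e => e.le) fun e => e.1.1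
  have haX := (mem_autGroup hRU).1 ha
  have hle : pr (U ⊓ A) (U ⊓ B) R ⊔ pr (U ⊓ B) (U ⊓ A) R ≤ R := by
    rcases hR with rfl | hR
    · exact sup_le (inf_le_left.trans inf_le_left) (inf_le_left.trans inf_le_left)
    · exact pr_sup_le_of_radical hS h hc hsub hR.1 (isRadical_of_isEssential hU hR)
  exact (mem_autGroup hRU).2 ⟨haX, _, restrict_mem haX hle, fun x hx hx' => rfl⟩

omit [Fact p.Prime] in
/-- The restriction to one factor is saturated. -/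
theorem isSaturated_fullOn {C D : Subgroup Ω} (hX : X.IsSaturated p) (hC : X.StronglyClosed C)
    (hcomm : ∀ a ∈ C, ∀ b ∈ D, a * b = b * a) (hsup : U ≤ C ⊔ D) :
    (fullOn X C hC.1).IsSaturated p := by
  intro P hP
  obtain ⟨Q, ⟨φ, hφ, hr⟩, ⟨hQU, hfa⟩, hrec⟩ := hX P (hP.trans hC.1)
  have hQC : Q ≤ C := by
    rw [← hr]
    rintro _ ⟨x, rfl⟩
    exact hC.2 P hP φ hφ x
  refine ⟨Q, ⟨φ, ⟨hφ, hP, fun x => hC.2 P hP φ hφ x⟩, hr⟩, ⟨hQC, ?_⟩, hQC, fun R χ hχ hχr => ?_⟩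
  · have h1 : (fullOn X C hC.1).autGroup Q = X.autGroup Q := by
      ext a
      rw [mem_autGroup hQC, mem_autGroup hQU]
      exact ⟨fun ha => ha.1, fun ha => ⟨ha, hQC, fun x => hQC (a x).2⟩⟩
    have h2 : autInducedBy U Q = autInducedBy C Q := by
      refine le_antisymm (fun α hα => ?_) (autInducedBy_mono hC.1)
      obtain ⟨g, hg, hga⟩ := mem_autInducedBy.1 hα
      obtain ⟨c, hc, d, hd, rfl⟩ := exists_mul_of_commute hcomm (hsup hg)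
      refine mem_autInducedBy.2 ⟨c, hc, fun x => (hga x).trans ?_⟩
      have := hcomm x (hQC x.2) d hd
      calc c * d * (x : Ω) * (c * d)⁻¹ = c * (d * x) * d⁻¹ * c⁻¹ := by group
        _ = c * (x * d) * d⁻¹ * c⁻¹ := by rw [this]
        _ = c * x * c⁻¹ := by group
    rw [h1, ← h2]
    exact hfa
  · have hle : extender C R χ ≤ extender U R χ := Subgroup.closure_mono
      fun g ⟨hg, hgN, k, hk, he⟩ => ⟨hC.1 hg, hgN, k, hC.1 hk, he⟩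
    have hext : extender C R χ ≤ C := (Subgroup.closure_le _).2 fun g hg => hg.1
    obtain ⟨ψ, hψ, hψe⟩ := hrec.2 R χ hχ.1 hχr
    exact ⟨_, ⟨restrict_mem hψ hle, hext, fun x => hC.2 _ hext _ (restrict_mem hψ hle) x⟩,
      fun x hx hx' => hψe x hx (hle hx')⟩

/-- A map on a subgroup of one factor extends to the other factor. -/
theorem exists_ext_right (hS : IsPGroup p S) (h : IsSplit F A B) (hc : IsCut F A B U)
    (hX : X.IsSaturated p) (hsub : X.IsSubsystemOf F) (hP : P ≤ U ⊓ A) {φ : P →* Ω}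
    (hφ : φ ∈ X.Hom P) :
    ∃ ψ ∈ X.Hom (P ⊔ (U ⊓ B)), ∀ (x : Ω) (hx : x ∈ P) (hx' : x ∈ P ⊔ (U ⊓ B)),
      ψ ⟨x, hx'⟩ = φ ⟨x, hx⟩ := by
  haveI := finite_of_le hc.closed.1
  have hU := hS.to_le hc.closed.1
  have hA := hc.closed_left h hsub
  have hB := hc.symm.closed_left h.symm hsub
  have hRA : φ.range ≤ U ⊓ A := by
    rintro _ ⟨x, rfl⟩
    exact hA.2 P hP φ hφ x
  obtain ⟨Q, -, -, hQr, ν, hν, -, hνmap⟩ := exists_fa_receptive_map hU hX (hRA.trans inf_le_left)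
  have hRn : φ.range ⊔ (U ⊓ B) ≤ normalizerIn U φ.range :=
    sup_le (le_normalizerIn (hRA.trans inf_le_left)) fun b hb =>
      centralizerIn_le_normalizerIn _ (mem_centralizerIn.2 ⟨hb.1, fun r hr =>
        (h.comm r (hRA hr).2 b hb.2).symm⟩)
  set μ := ν.comp (Subgroup.inclusion hRn) with hμdef
  have hμ : μ ∈ X.Hom (φ.range ⊔ (U ⊓ B)) := restrict_mem hν hRn
  have hv : ∀ x, φ x ∈ φ.range ⊔ (U ⊓ B) := fun x => Subgroup.mem_sup_left ⟨x, rfl⟩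
  set φ' := μ.comp (φ.codRestrict _ hv) with hφ'def
  have hφ' : φ' ∈ X.Hom P := X.comp_mem hφ hμ hv
  have hr : φ'.range = Q := by
    rw [← hνmap]
    ext y
    rw [mem_map_subgroupOf]
    constructor
    · rintro ⟨x, rfl⟩
      exact ⟨φ x, hRn (hv x), ⟨x, rfl⟩, rfl⟩
    · rintro ⟨_, _, ⟨x, rfl⟩, rfl⟩
      exact ⟨x, rfl⟩
  obtain ⟨χ₀, hχ₀, hχe⟩ := hQr.2 P φ' hφ' hr
  have hle : P ⊔ (U ⊓ B) ≤ extender U P φ' :=
    sup_le (le_extender (hom_le hφ) (hom_mem hφ')) fun b hb =>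
      centralizerIn_le_extender φ' (mem_centralizerIn.2 ⟨hb.1, fun r hr' =>
        (h.comm r (hP hr').2 b hb.2).symm⟩)
  set χ := χ₀.comp (Subgroup.inclusion hle) with hχdef
  have hχ : χ ∈ X.Hom (P ⊔ (U ⊓ B)) := restrict_mem hχ₀ hle
  have hμB := range_eq_of_card_le (restrict_mem hμ (le_sup_right : U ⊓ B ≤ φ.range ⊔ (U ⊓ B)))
    (inf_le_left : U ⊓ B ≤ U)
    (fun x => stronglyClosed_apply_mem hB hμ (x := Subgroup.inclusion le_sup_right x) x.2) le_rfl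
  have hχv : ∀ z, χ z ∈ μ.range := by
    rintro ⟨z, hz⟩
    obtain ⟨x, hx, b, hb, rfl⟩ := exists_mul_of_commute (fun a ha b hb => h.comm' a (hP ha) b hb) hz
    rw [show (⟨x * b, hz⟩ : ↥(P ⊔ (U ⊓ B))) =
      ⟨x, Subgroup.mem_sup_left hx⟩ * ⟨b, Subgroup.mem_sup_right hb⟩ from rfl, map_mul]
    refine Subgroup.mul_mem _ ⟨⟨φ ⟨x, hx⟩, hv _⟩, (hχe x hx _).symm⟩ ?_
    obtain ⟨c, hc'⟩ := hμB.ge
      (stronglyClosed_apply_mem hB hχ (x := ⟨b, Subgroup.mem_sup_right hb⟩) hb)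
    exact ⟨_, hc'⟩
  obtain ⟨μi, hμi, -, hμie⟩ := exists_inv hμ rfl
  refine ⟨_, X.comp_mem hχ hμi hχv, fun x hx hx' => ?_⟩
  refine Eq.trans ?_ (hμie ⟨φ ⟨x, hx⟩, hv _⟩ ⟨_, rfl⟩)
  exact congrArg μi (Subtype.ext (hχe x hx _))

omit [Fact p.Prime] in
/-- The hyperfocal subgroup of an invariant subsystem lies in the product of the parts. -/
theorem hyperfocal_le_parts (h : IsSplit F A B) (hU : F.StronglyClosed U) (hsub : X.IsSubsystemOf F) :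
    X.hyperfocalSubgroup p ≤ (U ⊓ A) ⊔ (U ⊓ B) := by
  haveI := finite_of_le hU.1
  refine hyperfocal_le_of_coprime fun P hP α hα _ x => ?_
  have hφ := hsub P ((mem_autGroup hP).1 hα)
  have hPS : P ≤ A ⊔ B := (hom_le hφ).trans h.sup.ge
  obtain ⟨ψ, hψ, hψe⟩ := h.ext hφ
  obtain ⟨a, ha, b, hb, hxe⟩ := h.exists_mul (hom_le hφ x.2)
  have hap : a ∈ pr A B P := ⟨ha, by
    rw [show a = (x : Ω) * b⁻¹ by rw [hxe, mul_inv_cancel_right]]
    exact Subgroup.mul_mem _ (Subgroup.mem_sup_left x.2) (Subgroup.mem_sup_right (inv_mem hb))⟩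
  have hbp : b ∈ pr B A P := ⟨hb, by
    rw [show b = a⁻¹ * (x : Ω) by rw [hxe, inv_mul_cancel_left]]
    exact Subgroup.mul_mem _ (Subgroup.mem_sup_right (inv_mem ha)) (Subgroup.mem_sup_left x.2)⟩
  obtain ⟨χ, hχ, hχe, hχf⟩ :=
    h.idLeft (inf_le_left : pr A B P ≤ A) (restrict_mem hψ (le_sup_left : pr A B P ≤ _))
  have hPχ : P ≤ pr A B P ⊔ B := (le_pr_sup_pr h.comm hPS).trans (sup_le_sup_left inf_le_left _)
  have haA : ψ ⟨a, Subgroup.mem_sup_left hap⟩ ∈ A :=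
    stronglyClosed_apply_mem h.left hψ (x := ⟨a, Subgroup.mem_sup_left hap⟩) ha
  have hbB : ψ ⟨b, Subgroup.mem_sup_right hbp⟩ ∈ B :=
    stronglyClosed_apply_mem h.right hψ (x := ⟨b, Subgroup.mem_sup_right hbp⟩) hb
  set a' := ψ ⟨a, Subgroup.mem_sup_left hap⟩
  set b' := ψ ⟨b, Subgroup.mem_sup_right hbp⟩
  have h1 : a' * b ∈ U := by
    have := hU.2 P hP _ (restrict_mem hχ hPχ) x
    rw [show (χ.comp (Subgroup.inclusion hPχ)) x = a' * b from ?_] at this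
    · exact this
    show χ ⟨x, hPχ x.2⟩ = _
    rw [show (⟨x, hPχ x.2⟩ : ↥(pr A B P ⊔ B)) =
      ⟨a, Subgroup.mem_sup_left hap⟩ * ⟨b, Subgroup.mem_sup_right hb⟩ from Subtype.ext hxe,
      map_mul, hχe a hap, hχf b hb]
    rfl
  have hax : ((α x : P) : Ω) = a' * b' := by
    refine (hψe x x.2 (le_pr_sup_pr h.comm hPS x.2)).symm.trans ?_
    rw [← map_mul]
    exact congrArg ψ (Subtype.ext hxe)
  have hu : a⁻¹ * a' ∈ U := by
    have := U.mul_mem (U.inv_mem (hP x.2)) h1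
    rw [hxe, mul_inv_rev, mul_assoc, ← mul_assoc a⁻¹,
      h.comm _ (A.mul_mem (A.inv_mem ha) haA) b hb, inv_mul_cancel_left] at this
    exact this
  have hx' : (x : Ω)⁻¹ * (α x : Ω) = a⁻¹ * a' * (b⁻¹ * b') := by
    rw [hax, hxe, mul_inv_rev, mul_assoc, ← mul_assoc a⁻¹, ← mul_assoc b⁻¹,
      ← h.comm _ (A.mul_mem (A.inv_mem ha) haA) _ (B.inv_mem hb)]
    simp only [mul_assoc]
  have huU : a⁻¹ * a' * (b⁻¹ * b') ∈ U := hx' ▸ U.mul_mem (U.inv_mem (hP x.2)) (hP (α x).2)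
  have hv : b⁻¹ * b' ∈ U := by
    have := U.mul_mem (U.inv_mem hu) huU
    rwa [inv_mul_cancel_left] at this
  rw [hx']
  exact Subgroup.mul_mem _ (Subgroup.mem_sup_left ⟨hu, A.mul_mem (A.inv_mem ha) haA⟩)
    (Subgroup.mem_sup_right ⟨hv, B.mul_mem (B.inv_mem hb) hbB⟩)

end Cfsg.Lib.FusionSys
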