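import Cfsg.Agent.Lib.FusionSys.SectionFree

/-!
Models of normalizer systems in a saturated subsystem embed in models of the larger system.
-/

set_option autoImplicit false
set_option linter.style.haveILetI false

universe u v w

namespace Cfsg.Lib.FusionSys

open Cfsg Cfsg.FusionSystem

variable {Ω : Type u} [Group Ω] {S : Subgroup Ω} {F E : FusionSystem S} {p : ℕ} {U : Subgroup Ω}

theorem exists_submodel_embedding [Finite S] [Fact p.Prime] (hS : IsPGroup p S)
    (hF : F.IsSaturated p) (hE : E.IsSaturated p) (hle : E ≤ F) (hn : E.IsFullyNormalized U)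
    (hc : F.IsCentric U) {M : FusionSystem (normalizerIn S U)} (hM : E.IsNormalizerSystem U M)
    {L : Type v} [Group L] {j : normalizerIn S U →* L} (hL : M.IsModel p L j) :
    ∃ (U₂ : Subgroup Ω) (_ : F.IsFullyNormalized U₂) (_ : F.IsCentric U₂)
      (N : FusionSystem (normalizerIn S U₂)) (_ : F.IsNormalizerSystem U₂ N) (L' : Type u)
      (_ : Group L') (ι' : normalizerIn S U₂ →* L') (_ : N.IsModel p L' ι') (f : L →* L'),
        Function.Injective f := by
  have hUS : U ≤ S := hn.1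
  obtain ⟨U₂, hconj, hn₂⟩ := exists_isFullyNormalized F hUS
  have hc₂ : F.IsCentric U₂ := ⟨hn₂.1, fun R hR => hc.2 R (isConj_trans hconj hR)⟩
  obtain ⟨N, hN, L', hL'g, ι', hL'⟩ := exists_normalizer_model hS hF hn₂ hc₂
  haveI := hL'.1
  obtain ⟨χ, hχ, hχv, hχU⟩ := exists_map_to_fn hS hF hn₂ hconj
  have hTS : (normalizerIn S U) ≤ S := normalizerIn_le U
  have hUT : U ≤ (normalizerIn S U) := le_normalizerIn hUS
  have hU₂T : U₂ ≤ (normalizerIn S U₂) := le_normalizerIn hn₂.1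
  let j₀ : (normalizerIn S U) →* L' := ι'.comp (χ.codRestrict (normalizerIn S U₂) hχv)
  have hj : Function.Injective j₀ := by
    intro a b hab
    have h1 := congrArg (fun z : (normalizerIn S U₂) => (z : Ω)) (hL'.2.1.1 hab)
    exact F.injective_of_mem hχ h1
  have hUs : imageOf j₀ U = imageOf ι' U₂ := by
    ext y
    constructor
    · rintro ⟨x, hx, rfl⟩
      exact ⟨_, hχU.le (mem_map_subgroupOf.2 ⟨x, x.2, hx, rfl⟩), rfl⟩
    · rintro ⟨z, hz, rfl⟩
      obtain ⟨x, hx, hxU, he⟩ := mem_map_subgroupOf.1 (hχU.ge hz)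
      exact ⟨⟨x, hx⟩, hxU, congrArg ι' (Subtype.ext he)⟩
  have hU₂norm := isNormal_normalizerSystem hn₂.1 hN
  haveI hUsn : (imageOf j₀ U).Normal := hUs ▸ imageOf_normal hL' hU₂norm
  have hcent : Subgroup.centralizer (imageOf j₀ U : Set L') ≤ imageOf j₀ U := by
    rw [hUs]
    exact centralizer_imageOf_le hL' hU₂norm
      ((isCentric_normalizerSystem hc₂ hN).2 U₂ (isConj_refl N hU₂T))
  set π := modelAut j₀ hj hUT hUsn with hπ
  have hspec := modelAut_spec j₀ hj hUT hUsn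
  let H : Subgroup L' := (E.autGroup U).comap π
  haveI := finite_of_le hUS
  -- the maps of `M` are conjugations in `L'`
  have hforw : ∀ (W : Subgroup Ω) (hW : W ≤ (normalizerIn S U)) (hUW : U ≤ W) (ψ : W →* Ω) (hψ : ψ ∈ E.Hom W),
      (U.subgroupOf W).map ψ = U → ∀ (hv : ∀ x, ψ x ∈ (normalizerIn S U)),
        ∃ g ∈ H, ∀ x : W, j₀ ⟨ψ x, hv x⟩ = g * j₀ ⟨x, hW x.2⟩ * g⁻¹ := by
    intro W hW hUW ψ hψ hψU hv
    let cW : W →* Ω := χ.comp (Subgroup.inclusion hW)
    have hcW : cW ∈ F.Hom W := restrict_mem hχ hW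
    obtain ⟨η, hη, hη2, hη1⟩ := exists_inv hcW (Q := cW.range) rfl
    have hηv : ∀ y, η y ∈ W := fun y => hη2.le ⟨y, rfl⟩
    have h1 := F.comp_mem hη (hle W hψ) hηv
    set θ₁ := ψ.comp (η.codRestrict W hηv)
    have hθ₁v : ∀ y, θ₁ y ∈ (normalizerIn S U) := fun y => hv _
    have h2 := F.comp_mem h1 hχ hθ₁v
    set θ := χ.comp (θ₁.codRestrict (normalizerIn S U) hθ₁v)
    have hθe : ∀ x : W, θ ⟨cW x, ⟨x, rfl⟩⟩ = χ ⟨ψ x, hv x⟩ := fun x => by
      show χ ⟨ψ ⟨η ⟨cW x, ⟨x, rfl⟩⟩, _⟩, _⟩ = _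
      congr 2
      exact congrArg (fun z : W => ψ z) (Subtype.ext (hη1 x ⟨x, rfl⟩))
    have hθN : θ ∈ N.Hom cW.range := by
      refine mem_normalizerSystem_of_le hN h2 ?_ ?_ ?_
      · intro z hz
        obtain ⟨x, hx, hxU, rfl⟩ := mem_map_subgroupOf.1 (hχU.ge hz)
        exact ⟨⟨x, hUW hxU⟩, rfl⟩
      · rintro _ ⟨x, rfl⟩
        exact hχv _
      · ext z
        rw [mem_map_subgroupOf]
        constructor
        · rintro ⟨_, ⟨x, rfl⟩, hxU, rfl⟩
          rw [hθe]
          obtain ⟨x', hx', hx'U, he⟩ := mem_map_subgroupOf.1 (hχU.ge hxU)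
          have hxx : x' = (x : Ω) := congrArg Subtype.val (F.injective_of_mem hχ he)
          exact hχU.le (mem_map_subgroupOf.2 ⟨_, _,
            hψU.le (mem_map_subgroupOf.2 ⟨x, x.2, hxx ▸ hx'U, rfl⟩), rfl⟩)
        · intro hz
          obtain ⟨u, hu, huU, rfl⟩ := mem_map_subgroupOf.1 (hχU.ge hz)
          obtain ⟨x, hx, hxU, he⟩ := mem_map_subgroupOf.1 (hψU.ge huU)
          refine ⟨cW ⟨x, hx⟩, ⟨_, rfl⟩, hχU.le (mem_map_subgroupOf.2 ⟨x, hW hx, hxU, rfl⟩), ?_⟩
          rw [hθe]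
          exact congrArg χ (Subtype.ext he)
    obtain ⟨g, hg⟩ := exists_of_realized hL'.2.1 hθN
    have hgW : ∀ x : W, j₀ ⟨ψ x, hv x⟩ = g * j₀ ⟨x, hW x.2⟩ * g⁻¹ := fun x => by
      refine Eq.trans ?_ (hg ⟨cW x, x, rfl⟩)
      exact congrArg ι' (Subtype.ext (hθe x).symm)
    refine ⟨g, ?_, hgW⟩
    show π g ∈ E.autGroup U
    have hr : (ψ.comp (Subgroup.inclusion hUW)).range = U := by
      conv_rhs => rw [← hψU]
      ext y
      rw [mem_map_subgroupOf]
      exact ⟨fun ⟨x, hx⟩ => ⟨x, hUW x.2, x.2, hx⟩, fun ⟨x, hx, hxU, h⟩ => ⟨⟨x, hxU⟩, h⟩⟩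
    have he : π g = homIso (restrict_mem hψ hUW) hr := modelAut_eq j₀ hj hUT hUsn fun q => by
      refine Eq.trans ?_ (hgW (Subgroup.inclusion hUW q))
      exact congrArg j₀ (Subtype.ext (coe_homIso (restrict_mem hψ hUW) hr q))
    rw [he]
    exact (mem_autGroup hUS).2 (isoIn_homIso (restrict_mem hψ hUW) hr)
  have hjH : ∀ x : (normalizerIn S U), j₀ x ∈ H := fun x => by
    have he : π (j₀ x) = conjAut U x.2.2 := modelAut_eq j₀ hj hUT hUsn fun q => by
      rw [← map_inv, ← map_mul, ← map_mul]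
      rfl
    show π (j₀ x) ∈ E.autGroup U
    rw [he]
    exact autInducedBy_le_autGroup hUS (conjAut_mem_autInducedBy _ x.2.1)
  let jH : (normalizerIn S U) →* H := j₀.codRestrict H hjH
  have hjHi : Function.Injective jH := fun a b h => hj (congrArg Subtype.val h)
  have hreal : M.IsRealizedBy jH := by
    refine ⟨hjHi, fun P hP φ hv => ⟨fun hφ => ?_, ?_⟩⟩
    · obtain ⟨-, -, -, ψ, hψ, hψe, hψU⟩ := (mem_normalizerSystem hM).1 hφ
      have hW : P ⊔ U ≤ (normalizerIn S U) := sup_le hP hUT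
      obtain ⟨g, hgH, hg⟩ := hforw _ hW le_sup_right ψ hψ hψU fun x => ⟨hom_mem hψ x, by
        show ψ x ∈ Subgroup.normalizer (U : Set Ω)
        have h1 := map_mem_normalizer (Q := U) ψ x (hW x.2).2
        rwa [hψU] at h1⟩
      refine ⟨⟨g, hgH⟩, fun x => Subtype.ext ?_⟩
      refine Eq.trans ?_ (hg (Subgroup.inclusion le_sup_left x))
      exact congrArg j₀ (Subtype.ext (hψe x).symm)
    · rintro ⟨⟨g, hgH⟩, hg⟩
      have hg' : ∀ x : P, j₀ ⟨φ x, hv x⟩ = g * j₀ ⟨x, hP x.2⟩ * g⁻¹ :=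
        fun x => congrArg Subtype.val (hg x)
      have hW : P ⊔ U ≤ (normalizerIn S U) := sup_le hP hUT
      have hgen : ((P ⊔ U).subgroupOf (normalizerIn S U)).map ((MulAut.conj g).toMonoidHom.comp j₀) ≤ j₀.range := by
        rw [Subgroup.subgroupOf_sup hP hUT, Subgroup.map_sup, sup_le_iff]
        refine ⟨?_, ?_⟩
        · rintro _ ⟨x, hx, rfl⟩
          exact ⟨_, hg' ⟨x, hx⟩⟩
        · rintro _ ⟨x, hx, rfl⟩
          obtain ⟨y, -, hy⟩ := hUsn.conj_mem _ ⟨x, hx, rfl⟩ g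
          exact ⟨y, hy⟩
      -- extend the action on `U` inside `E`
      have hni := (isFullyAutomized_and_fc_of_fn hS hE hn).1
      obtain ⟨θ, hθ, hθe⟩ := IsReceptive_ext (isReceptive_of_fc hS hE hni)
        ((mem_autGroup hUS).1 hgH) (N := P ⊔ U) (by
          intro w hw
          refine ⟨hTS (hW hw), (hW hw).2, ?_⟩
          obtain ⟨y, hy⟩ := hgen ⟨⟨w, hW hw⟩, hw, rfl⟩
          refine ⟨(y : Ω), hTS y.2, fun a b hab => ?_⟩
          have h1 : j₀ (Subgroup.inclusion hUT (π g b)) =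
              j₀ (y * Subgroup.inclusion hUT (π g a) * y⁻¹) := by
            rw [map_mul, map_mul, map_inv, hspec, hspec, hy]
            have h2 : j₀ (Subgroup.inclusion hUT b) =
                j₀ ⟨w, hW hw⟩ * j₀ (Subgroup.inclusion hUT a) * (j₀ ⟨w, hW hw⟩)⁻¹ := by
              rw [← map_inv, ← map_mul, ← map_mul]
              exact congrArg j₀ (Subtype.ext hab)
            rw [h2]
            simp only [MonoidHom.comp_apply, MulEquiv.coe_toMonoidHom, MulAut.conj_apply]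
            group
          exact congrArg Subtype.val (hj h1))
      have hθU : (U.subgroupOf (P ⊔ U)).map θ = U := by
        ext y
        rw [mem_map_subgroupOf]
        constructor
        · rintro ⟨x, hx, hxU, rfl⟩
          rw [hθe x hxU hx]
          exact (π g ⟨x, hxU⟩).2
        · intro hy
          refine ⟨_, Subgroup.mem_sup_right ((π g)⁻¹ ⟨y, hy⟩).2, ((π g)⁻¹ ⟨y, hy⟩).2, ?_⟩
          rw [hθe _ ((π g)⁻¹ ⟨y, hy⟩).2]
          exact congrArg Subtype.val (MulAut.apply_inv_self U (π g) ⟨y, hy⟩)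
      have hθv : ∀ x, θ x ∈ (normalizerIn S U) := fun x => ⟨hom_mem hθ x, by
        show θ x ∈ Subgroup.normalizer (U : Set Ω)
        have h1 := map_mem_normalizer (Q := U) θ x (hW x.2).2
        rwa [hθU] at h1⟩
      obtain ⟨h, -, hh⟩ := hforw _ hW le_sup_right θ hθ hθU hθv
      have hd : g⁻¹ * h ∈ Subgroup.centralizer (imageOf j₀ U : Set L') := by
        rw [← modelAut_eq_one_iff j₀ hj hUT hUsn, map_mul, map_inv]
        have he : modelAut j₀ hj hUT hUsn h = π g := modelAut_eq j₀ hj hUT hUsn fun q => by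
          refine Eq.trans ?_ (hh (Subgroup.inclusion le_sup_right q))
          exact congrArg j₀ (Subtype.ext (hθe q q.2 _).symm)
        rw [he, inv_mul_cancel]
      obtain ⟨z, hzU, hz⟩ := hcent hd
      have hθzS : (θ ⟨z, Subgroup.mem_sup_right hzU⟩)⁻¹ ∈ S := S.inv_mem (hom_mem hθ _)
      have hv2 : ∀ x, θ x ∈ (normalizerIn S U) := hθv
      have hψ := E.comp_mem hθ (E.conj_mem (P := normalizerIn S U) hTS hθzS) hθv
      set ψ := (conjHom (normalizerIn S U) (θ ⟨z, Subgroup.mem_sup_right hzU⟩)⁻¹).comp (θ.codRestrict (normalizerIn S U) hθv)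
      have hψe : ∀ x : (P ⊔ U : Subgroup Ω), ψ x =
          (θ ⟨z, Subgroup.mem_sup_right hzU⟩)⁻¹ * θ x * θ ⟨z, Subgroup.mem_sup_right hzU⟩ := by
        intro x
        show _ * θ x * ((θ ⟨z, Subgroup.mem_sup_right hzU⟩)⁻¹)⁻¹ = _
        rw [inv_inv]
      have hagree : ∀ x : P, ψ (Subgroup.inclusion le_sup_left x) = φ x := by
        intro x
        rw [hψe]
        have h1 : j₀ ((⟨_, hθv ⟨z, Subgroup.mem_sup_right hzU⟩⟩ : (normalizerIn S U))⁻¹ *
            ⟨_, hθv (Subgroup.inclusion le_sup_left x)⟩ *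
            ⟨_, hθv ⟨z, Subgroup.mem_sup_right hzU⟩⟩) = j₀ ⟨φ x, hv x⟩ := by
          rw [map_mul, map_mul, map_inv, hh, hh, hg' x,
            (eq_inv_mul_iff_mul_eq.1 hz).symm]
          show _ = g * j₀ ⟨x, hP x.2⟩ * g⁻¹
          simp only [Subgroup.coe_inclusion, Subtype.coe_eta]
          group
        exact congrArg Subtype.val (hj h1)
      have hψU : (U.subgroupOf (P ⊔ U)).map ψ = U := by
        have hz' : θ ⟨z, Subgroup.mem_sup_right hzU⟩ ∈ U :=
          hθU.le (mem_map_subgroupOf.2 ⟨z, _, hzU, rfl⟩)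
        ext y
        rw [mem_map_subgroupOf]
        constructor
        · rintro ⟨x, hx, hxU, rfl⟩
          rw [hψe]
          exact U.mul_mem (U.mul_mem (U.inv_mem hz')
            (hθU.le (mem_map_subgroupOf.2 ⟨x, hx, hxU, rfl⟩))) hz'
        · intro hy
          obtain ⟨x, hx, hxU, he⟩ :=
            mem_map_subgroupOf.1 (hθU.ge (U.mul_mem (U.mul_mem hz' hy) (U.inv_mem hz')))
          refine ⟨x, hx, hxU, ?_⟩
          rw [hψe, he]
          group
      exact (mem_normalizerSystem hM).2 ⟨hom_congr (restrict_mem hψ le_sup_left)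
        fun x => (hagree x).symm, hP, hv, ψ, hψ, hagree, hψU⟩
  haveI : Finite (normalizerIn S U) := finite_of_le hTS
  have hT₀ : IsPGroup p (normalizerIn S U) := hS.to_le hTS
  have hsylow : ∃ R : Sylow p H, (R : Subgroup H) = jH.range := by
    obtain ⟨R, hR⟩ := (hT₀.of_surjective jH.rangeRestrict jH.rangeRestrict_surjective).exists_le_sylow
    refine ⟨R, le_antisymm ?_ hR⟩
    intro r hr
    obtain ⟨A, hA⟩ := (isFullyAutomized_and_fc_of_fn hS hE hn).2.2
    let πH : H →* E.autGroup U := π.subgroupComap (E.autGroup U)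
    have hle' : (A : Subgroup (E.autGroup U)) ≤ (R : Subgroup H).map πH := by
      intro a ha
      rw [hA, Subgroup.mem_subgroupOf] at ha
      obtain ⟨s, hs, hse⟩ := mem_autInducedBy.1 ha
      have hsT : s ∈ (normalizerIn S U) := ⟨hs, mem_normalizer_of_aut hse⟩
      refine ⟨jH ⟨s, hsT⟩, hR ⟨_, rfl⟩, Subtype.ext ?_⟩
      exact modelAut_eq j₀ hj hUT hUsn fun q => by
        show _ = j₀ ⟨s, hsT⟩ * _ * (j₀ ⟨s, hsT⟩)⁻¹
        rw [← map_inv, ← map_mul, ← map_mul]
        exact congrArg j₀ (Subtype.ext (hse q))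
    have h1 : πH r ∈ (A : Subgroup (E.autGroup U)) :=
      (A.is_maximal' (R.isPGroup'.map πH) hle').le ⟨r, hr, rfl⟩
    rw [hA, Subgroup.mem_subgroupOf] at h1
    obtain ⟨s, hs, hse⟩ := mem_autInducedBy.1 h1
    have hsT : s ∈ (normalizerIn S U) := ⟨hs, mem_normalizer_of_aut hse⟩
    have h2 : (j₀ ⟨s, hsT⟩)⁻¹ * (r : L') ∈ Subgroup.centralizer (imageOf j₀ U : Set L') := by
      rw [← modelAut_eq_one_iff j₀ hj hUT hUsn, map_mul, map_inv, inv_mul_eq_one]
      refine modelAut_eq j₀ hj hUT hUsn fun q => ?_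
      rw [← map_inv, ← map_mul, ← map_mul]
      exact congrArg j₀ (Subtype.ext (hse q))
    obtain ⟨z, -, hz⟩ := hcent h2
    refine ⟨⟨s, hsT⟩ * z, Subtype.ext ?_⟩
    show j₀ (⟨s, hsT⟩ * z) = r
    rw [map_mul, hz, mul_inv_cancel_left]
  have hcore : Subgroup.centralizer ((pCore p H : Subgroup H) : Set H) ≤ pCore p H := by
    have hUsH : imageOf j₀ U ≤ H := by
      rintro _ ⟨x, -, rfl⟩
      exact hjH x
    set A := (imageOf j₀ U).subgroupOf H with hA
    have hAn : A.Normal := hUsn.subgroupOf H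
    have hAp : IsPGroup p A :=
      ((hT₀.to_subgroup _).map j₀).comap_of_injective H.subtype H.subtype_injective
    have hAc := Cfsg.Lib.Core.le_pCore' hAn hAp
    intro c hc'
    refine hAc ?_
    refine hcent (Subgroup.mem_centralizer_iff.2 fun y hy => ?_)
    exact congrArg Subtype.val
      (Subgroup.mem_centralizer_iff.1 hc' (⟨y, hUsH hy⟩ : H) (hAc hy))
  have hHm : M.IsModel p H jH := ⟨inferInstance, hreal, hsylow, hcore⟩
  obtain ⟨e, -⟩ := exists_model_equiv hT₀ (isConstrained_of_isModel hHm) hL hHm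
  exact ⟨U₂, hn₂, hc₂, N, hN, L', hL'g, ι', hL', H.subtype.comp e.toMonoidHom,
    H.subtype_injective.comp e.injective⟩

/-- Section-freeness passes to saturated subsystems with the same centric radical subgroups. -/
theorem isSectionFree_of_centric {X : Type w} [Group X] [Finite S] [Fact p.Prime]
    (hS : IsPGroup p S) (hF : F.IsSaturated p) (hE : E.IsSaturated p) (hle : E ≤ F)
    (hfree : F.IsSectionFree p X)
    (h : ∀ R : Subgroup Ω, E.IsCentric R → E.IsRadical p R → F.IsCentric R) :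
    E.IsSectionFree p X := by
  refine isSectionFree_of_radical hS hE fun R hn hc hr M hM L _ j hL hinv => ?_
  obtain ⟨U₂, hn₂, hc₂, N, hN, L', hL'g, ι', hL', f, hf⟩ :=
    exists_submodel_embedding hS hF hE hle hn (h R hc hr) hM hL
  exact hfree U₂ hn₂ hc₂ N hN L' ι' hL' (involves_of_injective hf hinv)

end Cfsg.Lib.FusionSys
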