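import Mathlib

/-!
Common eigenvectors of commuting endomorphisms of order dividing `p - 1`, and quotient steps.
-/

set_option autoImplicit false

namespace Cfsg.Lib.FusionSys

open Polynomial

theorem exists_eigen_of_pow {p : ℕ} [Fact p.Prime] {V : Type*} [AddCommGroup V] [Module (ZMod p) V]
    (K : Submodule (ZMod p) V) (hK : K ≠ ⊥) (f : Module.End (ZMod p) V)
    (hf : f ^ p = f) (hKf : ∀ v ∈ K, f v ∈ K) :
    ∃ a : ZMod p, ∃ v ∈ K, v ≠ 0 ∧ f v = a • v := by
  classical
  have hprod : ((Finset.univ : Finset (ZMod p)).toList.map fun a => (X - C a : (ZMod p)[X])).prod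
      = X ^ p - X := by
    rw [Finset.prod_map_toList]
    have h := FiniteField.roots_X_pow_card_sub_X (ZMod p)
    rw [ZMod.card] at h
    have hm : (X ^ p - X : (ZMod p)[X]).Monic := by
      refine monic_X_pow_sub ?_
      rw [degree_X]
      exact_mod_cast (Fact.out : p.Prime).one_lt
    have h2 := prod_multiset_X_sub_C_of_monic_of_roots_card_eq hm (by
      rw [h, FiniteField.X_pow_card_sub_X_natDegree_eq _ (Fact.out : p.Prime).one_lt]
      simp)
    rw [h] at h2
    exact h2
  obtain ⟨v, hv, hv0⟩ := (Submodule.ne_bot_iff _).1 hK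
  suffices H : ∀ (l : List (ZMod p)) (v : V), v ∈ K → v ≠ 0 →
      ((l.map fun a => aeval f (X - C a : (ZMod p)[X])).prod : Module.End (ZMod p) V) v = 0 →
      ∃ a : ZMod p, ∃ w ∈ K, w ≠ 0 ∧ f w = a • w by
    refine H (Finset.univ : Finset (ZMod p)).toList v hv hv0 ?_
    have h2 := congrArg (aeval f) hprod
    rw [map_list_prod, List.map_map, map_sub, map_pow, aeval_X, hf, sub_self] at h2
    rw [show (fun a => aeval f (X - C a : (ZMod p)[X])) = (aeval f) ∘ fun a => (X - C a) from rfl, h2]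
    rfl
  intro l
  induction l with
  | nil => intro v _ hv0 h; exact absurd h hv0
  | cons a l ih =>
    intro v hv hv0 h
    rw [List.map_cons, List.prod_cons, Module.End.mul_apply] at h
    set w := ((l.map fun a => aeval f (X - C a : (ZMod p)[X])).prod : Module.End (ZMod p) V) v with hw
    by_cases hw0 : w = 0
    · exact ih v hv hv0 hw0
    · refine ⟨a, w, ?_, hw0, ?_⟩
      · have hall : ∀ (l : List (ZMod p)) (u : V), u ∈ K →
            ((l.map fun a => aeval f (X - C a : (ZMod p)[X])).prod : Module.End (ZMod p) V) u ∈ K := by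
          intro l
          induction l with
          | nil => intro u hu; simpa using hu
          | cons b l ihl =>
            intro u hu
            rw [List.map_cons, List.prod_cons, Module.End.mul_apply, map_sub, aeval_X, aeval_C,
              Module.algebraMap_end_eq_smul_id]
            exact K.sub_mem (hKf _ (ihl u hu)) (K.smul_mem b (ihl u hu))
        exact hall l v hv
      · rw [map_sub, aeval_X, aeval_C, Module.algebraMap_end_eq_smul_id] at h
        exact sub_eq_zero.1 h

theorem exists_common_eigen {p : ℕ} [Fact p.Prime] {V : Type*} [AddCommGroup V]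
    [Module (ZMod p) V] [Nontrivial V] (l : List (Module.End (ZMod p) V))
    (hcomm : ∀ f ∈ l, ∀ g ∈ l, f * g = g * f) (hpow : ∀ f ∈ l, f ^ p = f) :
    ∃ v : V, v ≠ 0 ∧ ∀ f ∈ l, ∃ a : ZMod p, f v = a • v := by
  suffices H : ∀ m : List (Module.End (ZMod p) V), (∀ f ∈ m, f ∈ l) →
      ∃ K : Submodule (ZMod p) V, K ≠ ⊥ ∧ (∀ f ∈ l, ∀ v ∈ K, f v ∈ K) ∧
        ∀ f ∈ m, ∃ a : ZMod p, ∀ v ∈ K, f v = a • v by
    obtain ⟨K, hK, -, hsc⟩ := H l fun _ h => h
    obtain ⟨v, hv, hv0⟩ := (Submodule.ne_bot_iff _).1 hK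
    exact ⟨v, hv0, fun f hf => (hsc f hf).imp fun a ha => ha v hv⟩
  intro m
  induction m with
  | nil => exact fun _ => ⟨⊤, top_ne_bot, fun _ _ _ _ => trivial, fun f hf => absurd hf (by simp)⟩
  | cons g m ih =>
    intro hm
    obtain ⟨K, hK, hinv, hsc⟩ := ih fun f hf => hm f (List.mem_cons_of_mem _ hf)
    have hg : g ∈ l := hm g List.mem_cons_self
    obtain ⟨a, v, hv, hv0, hva⟩ := exists_eigen_of_pow K hK g (hpow g hg) (hinv g hg)
    refine ⟨K ⊓ LinearMap.ker (g - a • LinearMap.id : Module.End (ZMod p) V), ?_,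
      fun f hf u hu => ⟨hinv f hf u hu.1, ?_⟩, fun f hf => ?_⟩
    · exact (Submodule.ne_bot_iff _).2 ⟨v, ⟨hv, by simp [hva]⟩, hv0⟩
    · have h1 : g u = a • u := by simpa [sub_eq_zero] using hu.2
      have h2 : g (f u) = a • f u := by
        rw [← Module.End.mul_apply, ← hcomm f hf g hg, Module.End.mul_apply, h1, map_smul]
      simp [h2]
    · rcases List.mem_cons.1 hf with rfl | hf
      · exact ⟨a, fun u hu => by simpa [sub_eq_zero] using hu.2⟩
      · obtain ⟨b, hb⟩ := hsc f hf
        exact ⟨b, fun u hu => hb u hu.1⟩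

/-- A common eigenvector for an abelian group acting with exponent dividing `p - 1`. -/
theorem exists_common_eigen_act {p : ℕ} [Fact p.Prime] {V : Type*} [AddCommGroup V] [Nontrivial V]
    (hp : ∀ x : V, p • x = 0) {M : Type*} [CommGroup M] [Finite M] (f : M → (V →+ V))
    (h1 : ∀ v, f 1 v = v) (hmul : ∀ a b v, f (a * b) v = f a (f b v))
    (hexp : ∀ a : M, a ^ (p - 1) = 1) :
    ∃ v : V, v ≠ 0 ∧ ∀ a : M, ∃ n : ℕ, f a v = n • v := by
  haveI : Module (ZMod p) V := AddCommGroup.zmodModule hp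
  haveI : Fintype M := Fintype.ofFinite M
  let E : M → Module.End (ZMod p) V := fun a =>
    { toFun := f a
      map_add' := (f a).map_add
      map_smul' := fun c v => ZMod.map_smul (f a) c v }
  have hEv : ∀ (a : M) (v : V), E a v = f a v := fun a v => rfl
  have hE1 : E 1 = 1 := LinearMap.ext fun v => by
    rw [hEv, Module.End.one_apply, h1]
  have hEmul : ∀ a b, E (a * b) = E a * E b := fun a b => LinearMap.ext fun v => by
    rw [Module.End.mul_apply, hEv, hEv, hEv, hmul]
  have hEpow : ∀ (a : M) (n : ℕ), E a ^ n = E (a ^ n) := by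
    intro a n
    induction n with
    | zero => rw [pow_zero, pow_zero, hE1]
    | succ n ih => rw [pow_succ, ih, ← hEmul, pow_succ]
  obtain ⟨v, hv0, hv⟩ := exists_common_eigen ((Finset.univ : Finset M).toList.map E)
    (by
      intro g hg g' hg'
      obtain ⟨a, -, rfl⟩ := List.mem_map.1 hg
      obtain ⟨b, -, rfl⟩ := List.mem_map.1 hg'
      rw [← hEmul, ← hEmul, mul_comm])
    (by
      intro g hg
      obtain ⟨a, -, rfl⟩ := List.mem_map.1 hg
      rw [hEpow]
      congr 1
      conv_lhs => rw [show p = p - 1 + 1 by have := (Fact.out : p.Prime).pos; omega]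
      rw [pow_succ, hexp, one_mul])
  refine ⟨v, hv0, fun a => ?_⟩
  obtain ⟨c, hc⟩ := hv (E a) (List.mem_map.2 ⟨a, Finset.mem_toList.2 (Finset.mem_univ _), rfl⟩)
  refine ⟨c.val, ?_⟩
  rw [← Nat.cast_smul_eq_nsmul (ZMod p), ZMod.natCast_zmod_val]
  exact hc

/-- A further cyclic step stable under an abelian group of automorphisms of exponent dividing
`p - 1`. -/
theorem exists_stable_step {p : ℕ} [Fact p.Prime] {G : Type*} [Group G] [Finite G]
    (hG : IsPGroup p G) (H : Subgroup (MulAut G)) (hcom : ∀ a ∈ H, ∀ b ∈ H, a * b = b * a)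
    (hexp : ∀ a ∈ H, a ^ (p - 1) = 1) (U : Subgroup G) [U.Normal]
    (hU : ∀ a ∈ H, ∀ u ∈ U, a u ∈ U) (hne : U ≠ ⊤) :
    ∃ U' : Subgroup G, U'.Normal ∧ (∀ a ∈ H, ∀ u ∈ U', a u ∈ U') ∧ U < U' ∧
      ∃ x, U' = U ⊔ Subgroup.zpowers x := by
  classical
  haveI : Nontrivial (G ⧸ U) := by
    obtain ⟨g, hg⟩ : ∃ g, g ∉ U := by
      by_contra hc
      push Not at hc
      exact hne (eq_top_iff.2 fun g _ => hc g)
    exact ⟨QuotientGroup.mk g, 1, fun h => hg ((QuotientGroup.eq_one_iff g).1 h)⟩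
  let W : Subgroup (G ⧸ U) :=
    { carrier := {w | w ^ p = 1 ∧ w ∈ Subgroup.center (G ⧸ U)}
      one_mem' := ⟨one_pow p, Subgroup.one_mem _⟩
      mul_mem' := fun {a b} ha hb => ⟨by
        rw [Commute.mul_pow (Subgroup.mem_center_iff.1 hb.2 a), ha.1, hb.1, mul_one],
        Subgroup.mul_mem _ ha.2 hb.2⟩
      inv_mem' := fun {a} ha => ⟨by rw [inv_pow, ha.1, inv_one], Subgroup.inv_mem _ ha.2⟩ }
  obtain ⟨w₀, hw₀, hw₀1⟩ : ∃ w ∈ W, w ≠ 1 := by
    haveI := (hG.to_quotient U).center_nontrivial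
    have hd : p ∣ Nat.card (Subgroup.center (G ⧸ U)) := by
      obtain ⟨n, hn⟩ := ((hG.to_quotient U).to_subgroup (Subgroup.center (G ⧸ U))).exists_card_eq
      rcases n with _ | n
      · rw [pow_zero] at hn
        exact absurd hn Finite.one_lt_card.ne'
      · rw [hn, pow_succ]
        exact dvd_mul_left p _
    obtain ⟨z, hz⟩ := exists_prime_orderOf_dvd_card' p hd
    refine ⟨z, ⟨?_, z.2⟩, fun h => ?_⟩
    · rw [← Subgroup.orderOf_coe] at hz
      rw [← hz, pow_orderOf_eq_one]
    · rw [← Subgroup.orderOf_coe, h, orderOf_one] at hz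
      exact (Fact.out : p.Prime).one_lt.ne hz
  letI : CommGroup W :=
    { (inferInstance : Group W) with
      mul_comm := fun a b => Subtype.ext (Subgroup.mem_center_iff.1 b.2.2 a) }
  haveI : Nontrivial (Additive W) :=
    ⟨Additive.ofMul ⟨w₀, hw₀⟩, 0, fun h => hw₀1 (congrArg Subtype.val (congrArg Additive.toMul h) :)⟩
  have hUle : ∀ a ∈ H, U ≤ U.comap (a : MulAut G).toMonoidHom := fun a ha u hu => hU a ha u hu
  let q : H → (G ⧸ U) →* (G ⧸ U) := fun a =>
    QuotientGroup.map U U (a : MulAut G).toMonoidHom (hUle a a.2)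
  have hq : ∀ (a : H) (g : G), q a (QuotientGroup.mk g) = QuotientGroup.mk ((a : MulAut G) g) :=
    fun a g => QuotientGroup.map_mk _ _ _ _ g
  have hqW : ∀ (a : H) (w : W), q a w ∈ W := by
    intro a w
    refine ⟨by rw [← map_pow, w.2.1, map_one], Subgroup.mem_center_iff.2 fun g => ?_⟩
    obtain ⟨g, rfl⟩ := QuotientGroup.mk_surjective g
    have h2 := congrArg (q a) (Subgroup.mem_center_iff.1 w.2.2
      (QuotientGroup.mk ((a : MulAut G).symm g)))
    rwa [map_mul, map_mul, hq, MulEquiv.apply_symm_apply] at h2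
  let E : H → (Additive W →+ Additive W) := fun a =>
    MonoidHom.toAdditive (((q a).comp W.subtype).codRestrict W (hqW a))
  have hE : ∀ (a : H) (v : Additive W), ((Additive.toMul (E a v) : W) : G ⧸ U) =
      q a (Additive.toMul v : W) := fun a v => rfl
  have hext : ∀ v v' : Additive W, ((Additive.toMul v : W) : G ⧸ U) = (Additive.toMul v' : W) →
      v = v' := fun v v' h => Additive.toMul.injective (Subtype.ext h)
  haveI : Finite (MulAut G) := Finite.of_injective MulEquiv.toEquiv MulEquiv.toEquiv_injective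
  letI : CommGroup H :=
    { (inferInstance : Group H) with mul_comm := fun a b => Subtype.ext (hcom a a.2 b b.2) }
  obtain ⟨v, hv0, hv⟩ := exists_common_eigen_act (p := p) (fun x : Additive W => by
      show Additive.ofMul ((Additive.toMul x) ^ p) = 0
      rw [show (Additive.toMul x) ^ p = 1 from Subtype.ext (Additive.toMul x).2.1]
      rfl) E
    (fun v => hext _ _ (by
      rw [hE]
      obtain ⟨g, hg⟩ := QuotientGroup.mk_surjective ((Additive.toMul v : W) : G ⧸ U)
      rw [← hg, hq]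
      rfl))
    (fun a b v => hext _ _ (by
      rw [hE, hE, hE]
      obtain ⟨g, hg⟩ := QuotientGroup.mk_surjective ((Additive.toMul v : W) : G ⧸ U)
      rw [← hg, hq, hq, hq]
      rfl))
    (fun a => Subtype.ext (hexp a a.2))
  obtain ⟨x, hx⟩ := QuotientGroup.mk_surjective ((Additive.toMul v : W) : G ⧸ U)
  set w : G ⧸ U := ((Additive.toMul v : W) : G ⧸ U) with hw
  refine ⟨(Subgroup.zpowers w).comap (QuotientGroup.mk' U), ?_, ?_, ?_, x, ?_⟩
  · have hn : (Subgroup.zpowers w).Normal := ⟨fun u hu g => by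
      have hle : Subgroup.zpowers w ≤ Subgroup.center (G ⧸ U) :=
        Subgroup.zpowers_le.2 (Additive.toMul v).2.2
      rwa [Subgroup.mem_center_iff.1 (hle hu) g, mul_inv_cancel_right]⟩
    exact hn.comap _
  · intro a ha u hu
    rw [Subgroup.mem_comap] at hu ⊢
    obtain ⟨i, hi⟩ := hu
    obtain ⟨c, hc⟩ := hv ⟨a, ha⟩
    have h1 : q ⟨a, ha⟩ w = w ^ c := by
      rw [hw, ← hE, hc]
      rfl
    show QuotientGroup.mk (a u) ∈ _
    rw [show (QuotientGroup.mk (a u) : G ⧸ U) = q ⟨a, ha⟩ (QuotientGroup.mk u) from (hq ⟨a, ha⟩ u).symm,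
      show (QuotientGroup.mk u : G ⧸ U) = w ^ i from hi.symm, map_zpow, h1]
    exact Subgroup.zpow_mem _ (Subgroup.npow_mem_zpowers _ _) _
  · refine lt_of_le_of_ne (fun u hu => ?_) fun h => ?_
    · rw [Subgroup.mem_comap, QuotientGroup.mk'_apply, (QuotientGroup.eq_one_iff u).2 hu]
      exact Subgroup.one_mem _
    · have : x ∈ U := by
        rw [h, Subgroup.mem_comap, QuotientGroup.mk'_apply, hx]
        exact Subgroup.mem_zpowers _
      exact hv0 (hext _ _ (hx.symm.trans ((QuotientGroup.eq_one_iff x).2 this)))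
  · have hz : Subgroup.zpowers w = (Subgroup.zpowers x).map (QuotientGroup.mk' U) := by
      rw [MonoidHom.map_zpowers, QuotientGroup.mk'_apply, hx]
    rw [hz, Subgroup.comap_map_eq, QuotientGroup.ker_mk', sup_comm]

end Cfsg.Lib.FusionSys
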