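import Cfsg.Agent.Lib.FusionSys.Abelian
import Cfsg.Agent.Lib.FusionSys.Alperin
import Cfsg.Agent.Lib.FusionSys.Model
import Cfsg.Agent.Lib.FusionSys.StronglyClosedSup
import Cfsg.Agent.Lib.FusionSys.SupersolublePlain

/-!
All saturated systems over `S` are supersoluble exactly when `S` is resistant and the automorphism
groups of `S` of order prime to `p` are abelian of exponent dividing `p - 1`.
-/

set_option autoImplicit false

namespace Cfsg.Lib.FusionSys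

open Cfsg Cfsg.FusionSystem
open scoped commutatorElement

universe u

variable {Ω : Type u} [Group Ω] {S : Subgroup Ω} {F : FusionSystem S} {p : ℕ}

theorem pow_eq_of_modEq {G : Type*} [Group G] {x : G} (hx : x ^ p = 1) {a b : ℕ}
    (h : a ≡ b [MOD p]) : x ^ a = x ^ b :=
  pow_eq_pow_iff_modEq.2 (h.of_dvd (orderOf_dvd_of_pow_eq_one hx))

/-- Strongly closed series with steps of order dividing `p`. -/
theorem exists_prime_step [Finite S] [Fact p.Prime] (hS : IsPGroup p S) (hF : F.IsSaturated p)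
    {m : ℕ} {c : Fin (m + 1) → Subgroup Ω} (h0 : c 0 = ⊥) (hm : c (Fin.last m) = S)
    (hcl : ∀ i : Fin (m + 1), F.StronglyClosed (c i))
    (hstep : ∀ i : Fin m, c i.castSucc ≤ c i.succ ∧
      ∃ x ∈ S, c i.succ = c i.castSucc ⊔ Subgroup.zpowers x)
    {U : Subgroup Ω} (hU : F.StronglyClosed U) (hne : U ≠ S) :
    ∃ U' : Subgroup Ω, U < U' ∧ F.StronglyClosed U' ∧
      ∃ x ∈ U', x ^ p ∈ U ∧ ∀ y ∈ U', ∃ k : ℕ, y * (x ^ k)⁻¹ ∈ U := by
  classical
  have hex : ∃ i : ℕ, ∃ hi : i < m + 1, ¬ c ⟨i, hi⟩ ≤ U :=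
    ⟨m, Nat.lt_succ_self m, fun h => hne (le_antisymm hU.1 (hm.symm.le.trans h))⟩
  obtain ⟨hi, hnle⟩ := Nat.find_spec hex
  obtain ⟨i, hi'⟩ : ∃ i, Nat.find hex = i + 1 := by
    refine ⟨Nat.find hex - 1, ?_⟩
    have : Nat.find hex ≠ 0 := fun h => hnle (by
      rw [show (⟨Nat.find hex, hi⟩ : Fin (m + 1)) = 0 from Fin.ext h, h0]
      exact bot_le)
    omega
  have hlow : c ⟨i, by omega⟩ ≤ U := by
    by_contra h
    exact Nat.find_min hex (show i < Nat.find hex by omega) ⟨by omega, h⟩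
  obtain ⟨-, x, hxS, hx⟩ := hstep ⟨i, by omega⟩
  have hci : c (Fin.succ ⟨i, by omega⟩) = c ⟨Nat.find hex, hi⟩ := congrArg c (Fin.ext hi'.symm)
  rw [hci] at hx
  replace hx : c ⟨Nat.find hex, hi⟩ = c ⟨i, by omega⟩ ⊔ Subgroup.zpowers x := hx
  set V := c ⟨Nat.find hex, hi⟩ with hV
  have hxV : x ∈ V := hx ▸ Subgroup.mem_sup_right (Subgroup.mem_zpowers x)
  have hxU : x ∉ U := fun h => hnle (hx.le.trans (sup_le hlow (Subgroup.zpowers_le.2 h)))
  haveI hn : (U.subgroupOf S).Normal :=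
    ⟨fun t ht s => stronglyClosed_conj_mem hU s.2 ht⟩
  set π := QuotientGroup.mk' (U.subgroupOf S) with hπ
  have hker : ∀ s : S, π s = 1 ↔ (s : Ω) ∈ U := fun s => QuotientGroup.eq_one_iff s
  obtain ⟨n, hn'⟩ := (hS.to_quotient (U.subgroupOf S)) (π ⟨x, hxS⟩)
  obtain ⟨j, -, hj⟩ := (Nat.dvd_prime_pow Fact.out).1 (orderOf_dvd_of_pow_eq_one hn')
  obtain ⟨k, rfl⟩ : ∃ k, j = k + 1 := by
    refine ⟨j - 1, ?_⟩
    have : j ≠ 0 := fun h => by
      rw [h, pow_zero, orderOf_eq_one_iff, hker] at hj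
      exact hxU hj
    omega
  set ξ := π ⟨x, hxS⟩ ^ p ^ k with hξ
  have hSC := stronglyClosed_sup hS hF hU (hcl ⟨Nat.find hex, hi⟩)
  have hUV : ∀ y (hy : y ∈ S), y ∈ U ⊔ V → π ⟨y, hy⟩ ∈ Subgroup.zpowers (π ⟨x, hxS⟩) := by
    intro y hy hyUV
    have hle : U ⊔ V ≤ ((Subgroup.zpowers (π ⟨x, hxS⟩)).comap π).map S.subtype := by
      have hUle : U ≤ ((Subgroup.zpowers (π ⟨x, hxS⟩)).comap π).map S.subtype := fun u hu => by
        refine ⟨⟨u, hU.1 hu⟩, ?_, rfl⟩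
        rw [SetLike.mem_coe, Subgroup.mem_comap, (hker ⟨u, hU.1 hu⟩).2 hu]
        exact Subgroup.one_mem _
      rw [hx]
      refine sup_le hUle (sup_le (hlow.trans hUle) ?_)
      rw [Subgroup.zpowers_le]
      exact ⟨⟨x, hxS⟩, Subgroup.mem_zpowers _, rfl⟩
    obtain ⟨u, hu, rfl⟩ := hle hyUV
    exact hu
  have hiff : ∀ y (hy : y ∈ S), π ⟨y, hy⟩ ∈ Subgroup.zpowers ξ ↔ y ∈ U ⊔ V ∧ y ^ p ∈ U := by
    intro y hy
    constructor
    · rintro ⟨l, hl⟩
      have hl' : π (⟨x, hxS⟩ ^ ((p ^ k : ℕ) * l : ℤ)) = π ⟨y, hy⟩ := by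
        rw [map_zpow, zpow_mul, zpow_natCast]
        exact hl
      have h1 : (((⟨x, hxS⟩ ^ ((p ^ k : ℕ) * l : ℤ))⁻¹ * ⟨y, hy⟩ : S) : Ω) ∈ U := by
        rw [← hker, map_mul, map_inv, hl', inv_mul_cancel]
      refine ⟨?_, ?_⟩
      · have e : y = x ^ ((p ^ k : ℕ) * l : ℤ) *
            (((⟨x, hxS⟩ ^ ((p ^ k : ℕ) * l : ℤ))⁻¹ * ⟨y, hy⟩ : S) : Ω) := by
          push_cast
          rw [mul_inv_cancel_left]
        rw [e]
        exact Subgroup.mul_mem _ (Subgroup.mem_sup_right (Subgroup.zpow_mem _ hxV _))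
          (Subgroup.mem_sup_left h1)
      · rw [show y ^ p = ((⟨y, hy⟩ ^ p : S) : Ω) from rfl, ← hker, map_pow, ← hl]
        have : ξ ^ p = 1 := by
          rw [hξ, ← pow_mul, ← pow_succ, ← hj, pow_orderOf_eq_one]
        show (ξ ^ l) ^ p = 1
        rw [← zpow_natCast, zpow_comm, zpow_natCast, this, one_zpow]
    · rintro ⟨hyUV, hyp⟩
      obtain ⟨l, hl⟩ := hUV y hy hyUV
      replace hl : π ⟨x, hxS⟩ ^ l = π ⟨y, hy⟩ := hl
      have h1 : (π ⟨x, hxS⟩) ^ (l * p) = 1 := by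
        rw [zpow_mul, show π ⟨x, hxS⟩ ^ l = π ⟨y, hy⟩ from hl, zpow_natCast, ← map_pow, hker]
        exact hyp
      rw [← orderOf_dvd_iff_zpow_eq_one, hj, pow_succ, Nat.cast_mul] at h1
      obtain ⟨l', hl'⟩ := Int.dvd_of_mul_dvd_mul_right
        (by exact_mod_cast (Fact.out : p.Prime).ne_zero) h1
      exact ⟨l', by show ξ ^ l' = _; rw [← hl, hl', hξ, ← zpow_natCast, ← zpow_mul]⟩
  refine ⟨((Subgroup.zpowers ξ).comap π).map S.subtype, ?_, ?_, x ^ p ^ k, ?_, ?_, ?_⟩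
  · refine lt_of_le_of_ne (fun u hu => ?_) fun h => ?_
    · refine ⟨⟨u, hU.1 hu⟩, ?_, rfl⟩
      rw [SetLike.mem_coe, Subgroup.mem_comap, (hker ⟨u, hU.1 hu⟩).2 hu]
      exact Subgroup.one_mem _
    · have h1 : x ^ p ^ k ∈ U := by
        rw [h]
        exact ⟨⟨x, hxS⟩ ^ p ^ k, by
          rw [SetLike.mem_coe, Subgroup.mem_comap, map_pow]
          exact Subgroup.mem_zpowers _, rfl⟩
      rw [show x ^ p ^ k = ((⟨x, hxS⟩ ^ p ^ k : S) : Ω) from rfl, ← hker, map_pow,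
        ← orderOf_dvd_iff_pow_eq_one, hj, Nat.pow_dvd_pow_iff_le_right (Fact.out : p.Prime).one_lt] at h1
      omega
  · refine ⟨Subgroup.map_subtype_le _, fun R hR φ hφ r => ?_⟩
    refine ⟨⟨φ r, hom_mem hφ r⟩, (hiff _ _).2 ?_, rfl⟩
    obtain ⟨⟨y, hy⟩, hyξ, hye⟩ := hR r.2
    obtain ⟨h1, h2⟩ := (hiff y hy).1 hyξ
    have hRle : R ≤ U ⊔ V := fun z hz => by
      obtain ⟨⟨w, hw⟩, hwξ, rfl⟩ := hR hz
      exact ((hiff w hw).1 hwξ).1
    refine ⟨hSC.2 R hRle φ hφ r, ?_⟩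
    rw [← map_pow]
    exact stronglyClosed_apply_mem hU hφ (show ((r ^ p : R) : Ω) ∈ U by
      rw [Subgroup.coe_pow, show (r : Ω) = y from hye.symm]
      exact h2)
  · refine ⟨⟨x, hxS⟩ ^ p ^ k, ?_, rfl⟩
    rw [SetLike.mem_coe, Subgroup.mem_comap, map_pow]
    exact Subgroup.mem_zpowers _
  · rw [← pow_mul, ← pow_succ, show x ^ p ^ (k + 1) = ((⟨x, hxS⟩ ^ p ^ (k + 1) : S) : Ω) from rfl,
      ← hker, map_pow, ← hj, pow_orderOf_eq_one]
  · rintro _ ⟨⟨y, hy⟩, hyξ, rfl⟩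
    obtain ⟨l, hl⟩ := (isOfFinOrder_of_finite ξ).mem_powers_iff_mem_zpowers.2 hyξ
    refine ⟨l, ?_⟩
    show (((⟨y, hy⟩ : S) * ((⟨x, hxS⟩ ^ p ^ k) ^ l)⁻¹ : S) : Ω) ∈ U
    rw [← hker, map_mul, map_inv, map_pow, map_pow]
    exact mul_inv_eq_one.2 hl.symm

/-- A strongly closed series with steps of order dividing `p`. -/
def HasPrimeSeries (F : FusionSystem S) (p : ℕ) : Prop :=
  ∃ (m : ℕ) (Z : ℕ → Subgroup Ω), Z 0 = ⊥ ∧ Z m = S ∧ (∀ i, F.StronglyClosed (Z i)) ∧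
    ∀ i, i < m → ∃ x ∈ Z (i + 1), x ^ p ∈ Z i ∧ ∀ y ∈ Z (i + 1), ∃ k : ℕ, y * (x ^ k)⁻¹ ∈ Z i

theorem hasPrimeSeries_of_chain [Finite S] [Fact p.Prime] (hS : IsPGroup p S) (hF : F.IsSaturated p)
    (h : ∃ (m : ℕ) (c : Fin (m + 1) → Subgroup Ω), c 0 = ⊥ ∧ c (Fin.last m) = S ∧
      (∀ i : Fin (m + 1), F.StronglyClosed (c i)) ∧
      ∀ i : Fin m, c i.castSucc ≤ c i.succ ∧ ∃ x ∈ S, c i.succ = c i.castSucc ⊔ Subgroup.zpowers x) :
    HasPrimeSeries F p := by
  obtain ⟨n, c, h0, hn, hcl, hstep⟩ := h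
  suffices H : ∀ (k : ℕ) (U : Subgroup Ω), F.StronglyClosed U → Nat.card S ≤ Nat.card U + k →
      ∃ (m : ℕ) (Z : ℕ → Subgroup Ω), Z 0 = U ∧ Z m = S ∧ (∀ i, F.StronglyClosed (Z i)) ∧
        ∀ i, i < m → ∃ x ∈ Z (i + 1), x ^ p ∈ Z i ∧ ∀ y ∈ Z (i + 1), ∃ k : ℕ, y * (x ^ k)⁻¹ ∈ Z i from
    H _ ⊥ (stronglyClosed_bot F) le_add_self
  intro k
  induction k using Nat.strong_induction_on with
  | _ k ih =>
  intro U hU hk
  by_cases hne : U = S
  · exact ⟨0, fun _ => U, rfl, hne, fun _ => hU, fun i hi => absurd hi (Nat.not_lt_zero i)⟩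
  obtain ⟨U', hlt, hU', x, hx, hxp, hgen⟩ := exists_prime_step hS hF h0 hn hcl hstep hU hne
  haveI := finite_of_le hU'.1
  have hcard : Nat.card U < Nat.card U' := by
    by_contra hc
    exact hlt.ne (Subgroup.eq_of_le_of_card_ge hlt.le (by omega))
  have hcS := card_le_of_le hU'.1
  obtain ⟨m, Z, hZ0, hZm, hZs, hZstep⟩ := ih (k - 1) (by omega) U' hU' (by omega)
  refine ⟨m + 1, fun i => if i = 0 then U else Z (i - 1), rfl, by simpa using hZm, fun i => ?_, ?_⟩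
  · show F.StronglyClosed (if i = 0 then U else Z (i - 1))
    split_ifs
    exacts [hU, hZs _]
  · intro i hi
    cases i with
    | zero => simpa [hZ0] using ⟨x, hx, hxp, hgen⟩
    | succ j => simpa using hZstep j (by omega)

theorem series_central [Finite S] [Fact p.Prime] (hS : IsPGroup p S) {A B : Subgroup Ω}
    (hA : F.StronglyClosed A) (hB : F.StronglyClosed B) {x : Ω} (hx : x ∈ B) (hxp : x ^ p ∈ A)
    (hgen : ∀ y ∈ B, ∃ k : ℕ, y * (x ^ k)⁻¹ ∈ A) {g y : Ω} (hg : g ∈ S) (hy : y ∈ B) :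
    ⁅g, y⁆ ∈ A := by
  haveI hn : (A.subgroupOf S).Normal := ⟨fun t ht s => stronglyClosed_conj_mem hA s.2 ht⟩
  set π := QuotientGroup.mk' (A.subgroupOf S) with hπ
  have hker : ∀ s : S, π s = 1 ↔ (s : Ω) ∈ A := fun s => QuotientGroup.eq_one_iff s
  have hpow : ∀ z (hz : z ∈ B), ∃ k : ℕ, π ⟨z, hB.1 hz⟩ = π ⟨x, hB.1 hx⟩ ^ k := by
    intro z hz
    obtain ⟨k, hk⟩ := hgen z hz
    refine ⟨k, ?_⟩
    rw [← mul_inv_eq_one, ← map_pow, ← map_inv, ← map_mul, hker]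
    exact hk
  set ξ := π ⟨x, hB.1 hx⟩ with hξ
  set γ := π ⟨g, hg⟩ with hγ
  have hξp : ξ ^ p = 1 := by rw [hξ, ← map_pow, hker]; exact hxp
  obtain ⟨a, ha⟩ : ∃ a : ℕ, γ * ξ * γ⁻¹ = ξ ^ a := by
    obtain ⟨a, ha⟩ := hpow _ (stronglyClosed_conj_mem hB hg hx)
    refine ⟨a, ?_⟩
    rw [← ha, hγ, hξ, ← map_inv, ← map_mul, ← map_mul]
    rfl
  have hiter : ∀ n : ℕ, γ ^ n * ξ * (γ ^ n)⁻¹ = ξ ^ a ^ n := by
    intro n
    induction n with
    | zero => simp
    | succ n ih =>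
      rw [pow_succ γ n, mul_inv_rev, show γ ^ n * γ * ξ * (γ⁻¹ * (γ ^ n)⁻¹) =
        γ ^ n * (γ * ξ * γ⁻¹) * (γ ^ n)⁻¹ by simp only [mul_assoc], ha, ← conj_pow, ih, ← pow_mul,
        ← pow_succ]
  have hcomm : γ * ξ * γ⁻¹ = ξ := by
    rw [ha]
    by_cases h1 : ξ = 1
    · rw [h1, one_pow]
    obtain ⟨n, hn⟩ := (hS.to_quotient (A.subgroupOf S)) γ
    have h2 := hiter (p ^ n)
    rw [hn, one_mul, inv_one, mul_one] at h2
    have hord : orderOf ξ = p := orderOf_eq_prime hξp h1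
    have h3 : (a ^ p ^ n : ℕ) ≡ 1 [MOD p] :=
      (pow_eq_pow_iff_modEq.1 (h2.symm.trans (pow_one ξ).symm)).of_dvd (by rw [hord])
    have h4 : ∀ n : ℕ, (a : ZMod p) ^ p ^ n = a := by
      intro n
      induction n with
      | zero => simp
      | succ n ih => rw [pow_succ, pow_mul, ih, ZMod.pow_card]
    have h5 : a ≡ 1 [MOD p] := by
      rw [← ZMod.natCast_eq_natCast_iff]
      rw [← ZMod.natCast_eq_natCast_iff, Nat.cast_pow, h4] at h3
      exact h3
    rw [pow_eq_of_modEq hξp h5, pow_one]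
  obtain ⟨k, hk⟩ := hpow y hy
  have h6 : π ⁅(⟨g, hg⟩ : S), (⟨y, hB.1 hy⟩ : S)⁆ = 1 := by
    rw [map_commutatorElement, commutatorElement_eq_one_iff_mul_comm, hk, ← hγ]
    exact ((show Commute γ ξ from mul_inv_eq_iff_eq_mul.1 hcomm).pow_right k).eq
  exact (hker _).1 h6

theorem isNormal_self_of_primeSeries [Finite S] [Fact p.Prime] (hS : IsPGroup p S)
    (hF : F.IsSaturated p) (h : HasPrimeSeries F p) : F.IsNormal S := by
  obtain ⟨m, Z, h0, hm, hs, hstep⟩ := h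
  refine isNormal_of_series hS hF Z m h0 hm (fun i _ => hs i) fun i hi g hg y hy => ?_
  obtain ⟨x, hx, hxp, hgen⟩ := hstep i hi
  exact series_central hS (hs i) (hs (i + 1)) hx hxp hgen hg hy

/-- The system in which a group of automorphisms of `S` containing the inner ones acts. -/
noncomputable def autSystem (A : Subgroup (MulAut S)) (hA : Inn S ≤ A) : FusionSystem S where
  Hom P := {φ | P ≤ S ∧ ∃ α ∈ A, ∀ (x : P) (hx : (x : Ω) ∈ S), φ x = ((α ⟨x, hx⟩ : S) : Ω)}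
  le_of_mem := by
    rintro P φ ⟨hP, α, -, h⟩
    exact ⟨hP, fun x => by rw [h x (hP x.2)]; exact SetLike.coe_mem _⟩
  injective_of_mem := by
    rintro P φ ⟨hP, α, -, h⟩ a b hab'
    rw [h a (hP a.2), h b (hP b.2)] at hab'
    exact Subtype.ext (congrArg Subtype.val (α.injective (Subtype.ext hab')) :)
  conj_mem := by
    intro P g hP hg
    exact ⟨hP, MulAut.conj ⟨g, hg⟩, hA ⟨⟨g, hg⟩, rfl⟩, fun x hx => rfl⟩
  comp_mem := by
    rintro P Q φ ψ ⟨hP, α, hα, h⟩ ⟨hQ, β, hβ, h'⟩ hv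
    refine ⟨hP, β * α, A.mul_mem hβ hα, fun x hx => ?_⟩
    show ψ (φ.codRestrict Q hv x) = _
    rw [h' _ (hQ (hv x)), MulAut.mul_apply]
    exact congrArg (fun z : S => ((β z : S) : Ω)) (Subtype.ext (h x hx))
  inv_mem := by
    rintro P φ ⟨hP, α, hα, h⟩
    have hinj : Function.Injective φ := fun a b hab' => by
      rw [h a (hP a.2), h b (hP b.2)] at hab'
      exact Subtype.ext (congrArg Subtype.val (α.injective (Subtype.ext hab')) :)
    let e := MonoidHom.ofInjective hinj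
    refine ⟨P.subtype.comp e.symm.toMonoidHom, ⟨?_, α⁻¹, A.inv_mem hα, fun y hy => ?_⟩,
      fun x => congrArg Subtype.val (e.symm_apply_apply x)⟩
    · rintro _ ⟨x, rfl⟩
      rw [h x (hP x.2)]
      exact SetLike.coe_mem _
    · obtain ⟨_, x, rfl⟩ := y
      have hex : P.subtype.comp e.symm.toMonoidHom ⟨φ x, ⟨x, rfl⟩⟩ = (x : Ω) :=
        congrArg Subtype.val (e.symm_apply_apply x)
      rw [hex, show (⟨φ x, hy⟩ : S) = α ⟨x, hP x.2⟩ from Subtype.ext (h x (hP x.2)),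
        MulAut.inv_apply_self]

theorem inn_normal {G : Type*} [Group G] : (Inn G).Normal := by
  refine ⟨?_⟩
  rintro _ ⟨s, rfl⟩ g
  refine ⟨g s, MulEquiv.ext fun t => ?_⟩
  simp [MulAut.mul_apply]

theorem autSystem_isSaturated [Finite S] [Fact p.Prime] (hS : IsPGroup p S)
    (H : Subgroup (MulAut S)) (hH : ¬ p ∣ Nat.card H) :
    (autSystem (Inn S ⊔ H) le_sup_left).IsSaturated p := by
  let G := ↥S ⋊[H.subtype] ↥H
  haveI : Finite H := Nat.finite_of_card_ne_zero fun h => hH (h ▸ dvd_zero p)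
  haveI : Finite G := Finite.of_equiv _ SemidirectProduct.equivProd.symm
  have key : ∀ (g : G) (s : S), g * SemidirectProduct.inl s * g⁻¹ =
      SemidirectProduct.inl (g.left * H.subtype g.right s * g.left⁻¹) := by
    intro g s
    conv_lhs => rw [← SemidirectProduct.inl_left_mul_inr_right g]
    rw [mul_inv_rev, show SemidirectProduct.inl g.left * SemidirectProduct.inr g.right *
      SemidirectProduct.inl s * ((SemidirectProduct.inr g.right)⁻¹ *
      (SemidirectProduct.inl g.left)⁻¹) = SemidirectProduct.inl g.left *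
        (SemidirectProduct.inr g.right * SemidirectProduct.inl s * (SemidirectProduct.inr g.right)⁻¹)
        * (SemidirectProduct.inl g.left)⁻¹ by simp only [mul_assoc],
      ← map_inv SemidirectProduct.inr, ← SemidirectProduct.inl_aut, ← map_inv, ← map_mul,
      ← map_mul]
  haveI : (Inn S).Normal := inn_normal
  refine isSaturated_of_realized (ι := (SemidirectProduct.inl : S →* G))
    ⟨SemidirectProduct.inl_injective, fun P hP φ hv => ?_⟩ ?_
  · constructor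
    · rintro ⟨-, α, hα, h⟩
      obtain ⟨_, ⟨s, rfl⟩, b, hb, rfl⟩ := Subgroup.mem_sup_of_normal_left.1 hα
      refine ⟨⟨s, ⟨b, hb⟩⟩, fun x => ?_⟩
      rw [key]
      exact congrArg SemidirectProduct.inl (Subtype.ext (h x (hP x.2)))
    · rintro ⟨g, hg⟩
      refine ⟨hP, MulAut.conj g.left * (g.right : MulAut S), Subgroup.mul_mem _
        (Subgroup.mem_sup_left ⟨g.left, rfl⟩) (Subgroup.mem_sup_right g.right.2), fun x hx => ?_⟩
      have h1 := hg x
      rw [key] at h1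
      exact congrArg Subtype.val (SemidirectProduct.inl_injective h1)
  · have hr : (SemidirectProduct.inl : S →* G).range = (SemidirectProduct.rightHom : G →* H).ker :=
      SemidirectProduct.range_inl_eq_ker_rightHom
    have hidx : ¬ p ∣ (SemidirectProduct.inl : S →* G).range.index := by
      rw [hr, Subgroup.index_ker, MonoidHom.range_eq_top.2 SemidirectProduct.rightHom_surjective,
        Subgroup.card_top]
      exact hH
    have hp : IsPGroup p (SemidirectProduct.inl : S →* G).range :=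
      hS.of_surjective _ (MonoidHom.rangeRestrict_surjective _)
    refine exists_sylow_eq hp (Nat.le_of_dvd Nat.card_pos ?_)
    have h1 := Nat.ordProj_dvd (Nat.card G) p
    rw [← Subgroup.card_mul_index (SemidirectProduct.inl : S →* G).range] at h1 ⊢
    exact ((Nat.Prime.coprime_iff_not_dvd Fact.out).2 hidx).pow_left _ |>.dvd_of_dvd_mul_right h1

/-- A `p'`-automorphism trivial on all steps of a series is trivial. -/
theorem eq_one_of_series_supersolubleType [Finite S] [Fact p.Prime] (hS : IsPGroup p S) {m : ℕ}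
    {Z : ℕ → Subgroup Ω} (h0 : Z 0 = ⊥) (hm : Z m = S) {β : MulAut S}
    (hinv : ∀ i, i ≤ m → ∀ x : S, (x : Ω) ∈ Z i → (β x : Ω) ∈ Z i)
    (hs : ∀ i, i < m → ∀ x : S, (x : Ω) ∈ Z (i + 1) → (x : Ω)⁻¹ * (β x : Ω) ∈ Z i)
    (hord : (orderOf β).Coprime p) : β = 1 := by
  obtain ⟨e, he⟩ := hS.exists_card_eq
  have h1 := orderOf_dvd_of_pow_eq_one (pow_eq_one_of_stabilizes h0 hm hinv hs)
  rw [he, ← pow_mul] at h1
  rw [← orderOf_eq_one_iff]
  exact Nat.Coprime.eq_one_of_dvd (hord.pow_right _) h1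

theorem abelian_exponent_of_supersoluble [Finite S] [Fact p.Prime] (hS : IsPGroup p S)
    (H : Subgroup (MulAut S)) (hH : (Nat.card H).Coprime p)
    (hser : HasPrimeSeries (autSystem (Inn S ⊔ H) le_sup_left) p) :
    IsMulCommutative H ∧ ∀ h ∈ H, h ^ (p - 1) = 1 := by
  obtain ⟨m, Z, h0, hm, hs, hstep⟩ := hser
  have hZinv : ∀ h ∈ H, ∀ i, ∀ x : S, (x : Ω) ∈ Z i → ((h x : S) : Ω) ∈ Z i := by
    intro h hh i x hx
    let φ : Z i →* Ω := S.subtype.comp (h.toMonoidHom.comp (Subgroup.inclusion (hs i).1))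
    have hφ : φ ∈ (autSystem (Inn S ⊔ H) le_sup_left).Hom (Z i) :=
      ⟨(hs i).1, h, Subgroup.mem_sup_right hh, fun u _ => rfl⟩
    exact (hs i).2 (Z i) le_rfl φ hφ ⟨x, hx⟩
  have hco : ∀ β ∈ H, (orderOf β).Coprime p := fun β hβ => by
    refine Nat.Coprime.coprime_dvd_left ?_ hH
    rw [← Subgroup.orderOf_mk β hβ]
    exact orderOf_dvd_natCard _
  -- on each step the group acts by scalars
  have key : ∀ (β : MulAut S), β ∈ H → (∀ i, i < m → ∀ [((Z i).subgroupOf S).Normal] (y : S),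
      (y : Ω) ∈ Z (i + 1) → QuotientGroup.mk' ((Z i).subgroupOf S) (β y) =
        QuotientGroup.mk' ((Z i).subgroupOf S) y) → β = 1 := by
    intro β hβ h
    refine eq_one_of_series_supersolubleType hS h0 hm (fun i _ x hx => hZinv β hβ i x hx) (fun i hi x hx => ?_)
      (hco β hβ)
    haveI : ((Z i).subgroupOf S).Normal := ⟨fun t ht s => stronglyClosed_conj_mem (hs i) s.2 ht⟩
    have h3 : QuotientGroup.mk' ((Z i).subgroupOf S) (x⁻¹ * β x) = 1 := by
      rw [map_mul, map_inv, h i hi x hx, inv_mul_cancel]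
    exact (QuotientGroup.eq_one_iff (x⁻¹ * β x)).1 h3
  have scalar : ∀ h ∈ H, ∀ i, i < m → ∀ [((Z i).subgroupOf S).Normal], ∃ a : ℕ,
      a ^ (p - 1) ≡ 1 [MOD p] ∧ ∀ y : S, (y : Ω) ∈ Z (i + 1) →
        QuotientGroup.mk' ((Z i).subgroupOf S) (h y) = QuotientGroup.mk' ((Z i).subgroupOf S) y ^ a ∧
        QuotientGroup.mk' ((Z i).subgroupOf S) y ^ p = 1 := by
    intro h hh i hi _
    obtain ⟨x, hx, hxp, hgen⟩ := hstep i hi
    set π := QuotientGroup.mk' ((Z i).subgroupOf S) with hπ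
    have hker : ∀ s : S, π s = 1 ↔ (s : Ω) ∈ Z i := fun s => QuotientGroup.eq_one_iff s
    set x' : S := ⟨x, (hs (i + 1)).1 hx⟩ with hx'
    have hξp : π x' ^ p = 1 := by rw [← map_pow, hker]; exact hxp
    have hpow : ∀ y : S, (y : Ω) ∈ Z (i + 1) → ∃ k : ℕ, π y = π x' ^ k := by
      intro y hy
      obtain ⟨k, hk⟩ := hgen y hy
      refine ⟨k, ?_⟩
      rw [← mul_inv_eq_one, ← map_pow, ← map_inv, ← map_mul, hker]
      exact hk
    by_cases hξ : π x' = 1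
    · refine ⟨1, by rw [one_pow], fun y hy => ?_⟩
      obtain ⟨k, hk⟩ := hpow y hy
      obtain ⟨l, hl⟩ := hpow (h y) (hZinv h hh _ y hy)
      rw [hk, hl, hξ]
      simp
    · obtain ⟨a, ha⟩ := hpow (h x') (hZinv h hh _ x' hx)
      refine ⟨a, ?_, fun y hy => ?_⟩
      · have hne : (a : ZMod p) ≠ 0 := fun h0' => by
          rw [ZMod.natCast_eq_zero_iff] at h0'
          obtain ⟨b, rfl⟩ := h0'
          rw [pow_mul, hξp, one_pow, hker] at ha
          have := hZinv h⁻¹ (H.inv_mem hh) i _ ha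
          rw [MulAut.inv_apply_self] at this
          exact hξ ((hker x').2 this)
        rw [← ZMod.natCast_eq_natCast_iff, Nat.cast_pow, Nat.cast_one,
          ZMod.pow_card_sub_one_eq_one hne]
      · obtain ⟨k, hk⟩ := hpow y hy
        refine ⟨?_, by rw [hk, ← pow_mul, mul_comm, pow_mul, hξp, one_pow]⟩
        have hmem : (((x' ^ k)⁻¹ * y : S) : Ω) ∈ Z i := by
          rw [← hker, map_mul, map_inv, map_pow, hk, inv_mul_cancel]
        have e : h y = h x' ^ k * h ((x' ^ k)⁻¹ * y) := by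
          rw [← map_pow, ← map_mul, mul_inv_cancel_left]
        rw [e, map_mul, map_pow, ha, (hker _).2 (hZinv h hh i _ hmem), mul_one, hk, ← pow_mul,
          ← pow_mul, mul_comm]
  constructor
  · refine ⟨⟨fun a b => Subtype.ext ?_⟩⟩
    show (a : MulAut S) * b = b * a
    rw [← mul_inv_eq_one]
    refine key _ (H.mul_mem (H.mul_mem a.2 b.2) (H.inv_mem (H.mul_mem b.2 a.2))) fun i hi _ y hy => ?_
    obtain ⟨c, -, hc⟩ := scalar a a.2 i hi
    obtain ⟨d, -, hd⟩ := scalar b b.2 i hi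
    set z := ((b : MulAut S) * a)⁻¹ y with hz
    have hzm : (z : Ω) ∈ Z (i + 1) := hZinv _ (H.inv_mem (H.mul_mem b.2 a.2)) _ y hy
    have hy' : y = ((b : MulAut S) * a) z := (MulAut.apply_inv_self _ _ _).symm
    rw [MulAut.mul_apply, ← hz]
    conv_rhs => rw [hy']
    rw [MulAut.mul_apply, MulAut.mul_apply, (hc _ (hZinv b b.2 _ z hzm)).1, (hd z hzm).1,
      (hd _ (hZinv a a.2 _ z hzm)).1, (hc z hzm).1, ← pow_mul, ← pow_mul, mul_comm]
  · intro h hh
    refine key _ (H.pow_mem hh _) fun i hi _ y hy => ?_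
    obtain ⟨a, ha1, ha⟩ := scalar h hh i hi
    have hiter : ∀ n : ℕ, ((h ^ n) y : Ω) ∈ Z (i + 1) ∧ QuotientGroup.mk' ((Z i).subgroupOf S) ((h ^ n) y)
        = QuotientGroup.mk' ((Z i).subgroupOf S) y ^ a ^ n := by
      intro n
      induction n with
      | zero => exact ⟨hy, by simp⟩
      | succ n ih =>
        rw [pow_succ' h, MulAut.mul_apply]
        exact ⟨hZinv h hh _ _ ih.1, by rw [(ha _ ih.1).1, ih.2, ← pow_mul, ← pow_succ]⟩
    rw [(hiter (p - 1)).2, pow_eq_of_modEq (ha y hy).2 ha1, pow_one]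

/-- Resistance and small `p'`-automorphism groups give supersolubility. -/
theorem exists_chain_of_resistant [Finite S] [Fact p.Prime] (hS : IsPGroup p S)
    (hF : F.IsSaturated p) (hn : F.IsNormal S)
    (hH : ∀ H : Subgroup (MulAut ↥S), (Nat.card ↥H).Coprime p →
      IsMulCommutative ↥H ∧ ∀ h ∈ H, h ^ (p - 1) = 1) :
    ∃ (m : ℕ) (c : Fin (m + 1) → Subgroup Ω), c 0 = ⊥ ∧ c (Fin.last m) = S ∧
      (∀ i : Fin (m + 1), F.StronglyClosed (c i)) ∧
      ∀ i : Fin m, c i.castSucc ≤ c i.succ ∧ ∃ x ∈ S, c i.succ = c i.castSucc ⊔ Subgroup.zpowers x := by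
  haveI : Finite (MulAut S) := Finite.of_injective MulEquiv.toEquiv MulEquiv.toEquiv_injective
  set A := F.autGroup S with hA
  have hInn : Inn S ≤ A := inn_le_autGroup le_rfl
  haveI : (Inn S).Normal := inn_normal
  set N := (Inn S).subgroupOf A with hN
  have haut : autInducedBy S S = Inn S := by
    ext α
    rw [mem_autInducedBy]
    constructor
    · rintro ⟨g, hg, h⟩
      exact ⟨⟨g, hg⟩, MulEquiv.ext fun t => Subtype.ext (h t).symm⟩
    · rintro ⟨g, rfl⟩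
      exact ⟨g, g.2, fun t => rfl⟩
  obtain ⟨-, -, R, hR⟩ := isFullyAutomized_and_fc_of_fn hS hF (isFullyNormalized_top F)
  have hcop : Nat.Coprime (Nat.card N) N.index := by
    have hNR : N = (R : Subgroup A) := by rw [hR, haut]
    rw [hNR]
    exact R.card_coprime_index
  obtain ⟨K, hK⟩ := Subgroup.exists_right_complement'_of_coprime hcop
  have hKcop : (Nat.card (K.map A.subtype)).Coprime p := by
    rw [Subgroup.card_map_of_injective A.subtype_injective]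
    refine Nat.Coprime.symm ((Nat.Prime.coprime_iff_not_dvd Fact.out).2 ?_)
    rw [← hK.symm.index_eq_card, show N = (R : Subgroup A) by rw [hR, haut]]
    exact R.not_dvd_index
  obtain ⟨hKc, hKe⟩ := hH _ hKcop
  have hdec : ∀ α ∈ A, ∃ s : S, ∃ h ∈ K.map A.subtype, α = MulAut.conj s * h := by
    intro α hα
    obtain ⟨⟨⟨⟨n, hn'⟩, ⟨s, hs⟩⟩, ⟨h, hh⟩⟩, he⟩ := hK.2 (⟨α, hα⟩ : A)
    refine ⟨s, h, ⟨h, hh, rfl⟩, ?_⟩
    have : MulAut.conj s = n := hs
    rw [this]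
    exact (congrArg Subtype.val he :).symm
  suffices H : ∀ (k : ℕ) (U : Subgroup S), U.Normal → (∀ a ∈ K.map A.subtype, ∀ u ∈ U, a u ∈ U) →
      Nat.card S ≤ Nat.card U + k →
      ∃ (m : ℕ) (c : ℕ → Subgroup S), c 0 = U ∧ c m = ⊤ ∧
        (∀ i, (c i).Normal ∧ ∀ a ∈ K.map A.subtype, ∀ u ∈ c i, a u ∈ c i) ∧
        ∀ i, i < m → c i ≤ c (i + 1) ∧ ∃ x, c (i + 1) = c i ⊔ Subgroup.zpowers x by
    obtain ⟨m, c, h0, hm, hc, hstep⟩ := H _ ⊥ inferInstance (fun a _ u hu => by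
      rw [Subgroup.mem_bot] at hu ⊢; rw [hu, map_one]) (le_add_self)
    refine ⟨m, fun i => (c i).map S.subtype, ?_, ?_, fun i => ?_, fun i => ?_⟩
    · simp [h0]
    · simp [hm, ← MonoidHom.range_eq_map, Subgroup.range_subtype]
    · refine ⟨Subgroup.map_subtype_le _, fun P hP φ hφ x => ?_⟩
      obtain ⟨ψ, hψ, hψe, -⟩ := hn.2 P φ hφ
      have hψS := restrict_mem hψ (le_sup_right : S ≤ P ⊔ S)
      have hr := eq_top_of_isConj (⟨_, hψS, rfl⟩ : F.IsConj S _)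
      obtain ⟨s, h, hh, he⟩ := hdec _ ((mem_autGroup le_rfl).2 (isoIn_homIso hψS hr))
      obtain ⟨y, hy, hye⟩ := hP x.2
      have h1 : homIso hψS hr y ∈ c i := by
        rw [he, MulAut.mul_apply, MulAut.conj_apply]
        exact (hc i).1.conj_mem _ ((hc i).2 h hh y hy) s
      refine ⟨_, h1, ?_⟩
      rw [Subgroup.subtype_apply, coe_homIso, ← hψe]
      exact congrArg ψ (Subtype.ext hye)
    · obtain ⟨hle, x, hx⟩ := hstep i i.2
      refine ⟨?_, (x : Ω), x.2, ?_⟩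
      · simpa using Subgroup.map_mono (f := S.subtype) hle
      · simp only [Fin.val_succ, Fin.val_castSucc, hx, Subgroup.map_sup, MonoidHom.map_zpowers]
        rfl
  intro k
  induction k using Nat.strong_induction_on with
  | _ k ih =>
  intro U hUn hUi hk
  by_cases hne : U = ⊤
  · exact ⟨0, fun _ => U, rfl, hne, fun _ => ⟨hUn, hUi⟩, fun i hi => absurd hi (Nat.not_lt_zero i)⟩
  haveI := hUn
  obtain ⟨U', hU'n, hU'i, hlt, x, hx⟩ := exists_stable_step hS (K.map A.subtype)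
    (fun a ha b hb => congrArg Subtype.val (hKc.1.1 ⟨a, ha⟩ ⟨b, hb⟩)) hKe U hUi hne
  have hcard : Nat.card U < Nat.card U' := Set.ncard_lt_ncard (show (U : Set S) ⊂ U' from hlt)
  have hle := Subgroup.card_le_card_group U'
  obtain ⟨m, c, h0, hm, hc, hstep⟩ := ih (k - 1) (by omega) U' hU'n hU'i (by omega)
  refine ⟨m + 1, fun i => if i = 0 then U else c (i - 1), rfl, by simpa using hm, fun i => ?_, ?_⟩
  · show (if i = 0 then U else c (i - 1)).Normal ∧ _
    cases i with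
    | zero => exact ⟨by simpa using hUn, by simpa using hUi⟩
    | succ n => simpa using hc n
  · intro i hi
    cases i with
    | zero =>
      show (if (0 : ℕ) = 0 then U else c (0 - 1)) ≤ (if 0 + 1 = 0 then U else c (0 + 1 - 1)) ∧
        ∃ x, (if 0 + 1 = 0 then U else c (0 + 1 - 1)) =
          (if (0 : ℕ) = 0 then U else c (0 - 1)) ⊔ Subgroup.zpowers x
      simp only [Nat.zero_add, one_ne_zero, if_false, if_true, Nat.sub_self, h0]
      exact ⟨hlt.le, x, hx⟩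
    | succ n => simpa using hstep n (by omega)

end Cfsg.Lib.FusionSys
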