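import Mathlib
import Cfsg.Prelude.Def_CaseTheorems
import Cfsg.Prelude.Def_Classification2
import Cfsg.Agent.Lib.Linear.SLBasic

/-!
Sylow 2-subgroups of `GL_2(q)` for odd `q`: semidihedral for `q = 3 (mod 4)`, wreathed for `q = 1 (mod 4)`.
-/

set_option autoImplicit false
set_option linter.unusedSectionVars false

namespace Cfsg.Lib.FusionSys.Lin

open Matrix
open scoped QuadraticAlgebra

variable {G : Type*} [Group G] [Finite G]

theorem card_sylow_two (P : Sylow 2 G) {e m : ℕ} (hm : Odd m) (h : Nat.card G = 2 ^ e * m) :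
    Nat.card (P : Subgroup G) = 2 ^ e := by
  haveI : Fact (Nat.Prime 2) := ⟨Nat.prime_two⟩
  rw [P.card_eq_multiplicity, h, Nat.factorization_mul (by positivity) (fun h0 => by simp [h0] at hm),
    Finsupp.add_apply, Nat.prime_two.factorization_pow, Finsupp.single_eq_same,
    Nat.factorization_eq_zero_of_not_dvd (fun h2 => (Nat.not_even_iff_odd.2 hm) (even_iff_two_dvd.2 h2)),
    add_zero]

/-- A 2-subgroup together with an involution normalizing it can be conjugated into a Sylow 2-subgroup. -/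
theorem exists_conj_mem (P : Sylow 2 G) {A : Subgroup G} (hA : IsPGroup 2 A) {t : G}
    (ht : t * t = 1) (hnorm : ∀ a ∈ A, t * a * t⁻¹ ∈ A) :
    ∃ g : G, (∀ a ∈ A, g * a * g⁻¹ ∈ (P : Subgroup G)) ∧ g * t * g⁻¹ ∈ (P : Subgroup G) := by
  haveI : Fact (Nat.Prime 2) := ⟨Nat.prime_two⟩
  have hT : IsPGroup 2 (Subgroup.zpowers t) := by
    rcases (Nat.dvd_prime Nat.prime_two).1
      (orderOf_dvd_of_pow_eq_one (x := t) (n := 2) (by rw [pow_two, ht])) with h | h
    · exact IsPGroup.of_card (n := 0) (by rw [Nat.card_zpowers, h, pow_zero])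
    · exact IsPGroup.of_card (n := 1) (by rw [Nat.card_zpowers, h, pow_one])
  have hti : t⁻¹ = t := inv_eq_of_mul_eq_one_right ht
  have hn : t ∈ Subgroup.normalizer (A : Set G) := fun a => ⟨hnorm a, fun h => by
    have h2 := hnorm _ h
    rwa [hti, show t * (t * a * t) * t = (t * t) * a * (t * t) by group, ht, one_mul, mul_one] at h2⟩
  have hU : IsPGroup 2 (A ⊔ Subgroup.zpowers t : Subgroup G) :=
    hA.to_sup_of_normal_left' hT (Subgroup.zpowers_le.2 hn)
  obtain ⟨R, hR⟩ := hU.exists_le_sylow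
  obtain ⟨g, hg⟩ := MulAction.exists_smul_eq G R P
  have key : ∀ x ∈ A ⊔ Subgroup.zpowers t, g * x * g⁻¹ ∈ (P : Subgroup G) := fun x hx => by
    rw [← hg, Sylow.coe_subgroup_smul]
    exact Subgroup.smul_mem_pointwise_smul x (MulAut.conj g) _ (hR hx)
  exact ⟨g, fun a ha => key a (Subgroup.mem_sup_left ha),
    key t (Subgroup.mem_sup_right (Subgroup.mem_zpowers t))⟩

variable {F : Type*} [Field F] [Fintype F]

theorem card_GL_two : Nat.card (GL (Fin 2) F) =
    Fintype.card F * (Fintype.card F - 1) * (Fintype.card F - 1) * (Fintype.card F + 1) := by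
  rw [Matrix.card_GL_field]
  have hq : 2 ≤ Fintype.card F := Fintype.one_lt_card
  obtain ⟨m, hm⟩ : ∃ m, Fintype.card F = m + 1 := ⟨Fintype.card F - 1, by omega⟩
  rw [hm, Fin.prod_univ_two]
  simp only [Fin.val_zero, Fin.val_one, pow_zero, pow_one, Nat.add_sub_cancel]
  have h1 : (m + 1) ^ 2 - 1 = m * (m + 2) := Nat.sub_eq_of_eq_add (by ring)
  have h2 : (m + 1) ^ 2 - (m + 1) = m * (m + 1) := Nat.sub_eq_of_eq_add (by ring)
  rw [h1, h2]
  ring

/-- The element `diag(u, v)`. -/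
def dGL : Fˣ × Fˣ →* GL (Fin 2) F where
  toFun uv := ⟨!![(uv.1 : F), 0; 0, (uv.2 : F)], !![((uv.1⁻¹ : Fˣ) : F), 0; 0, ((uv.2⁻¹ : Fˣ) : F)],
    by simp [Matrix.one_fin_two], by simp [Matrix.one_fin_two]⟩
  map_one' := Units.ext (by simp [Matrix.one_fin_two])
  map_mul' a b := Units.ext (by simp)

/-- The swap matrix. -/
def sGL : GL (Fin 2) F :=
  ⟨!![0, 1; 1, 0], !![0, 1; 1, 0], by simp [Matrix.one_fin_two], by simp [Matrix.one_fin_two]⟩

theorem dGL_injective : Function.Injective (dGL (F := F)) := fun a b h => by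
  have h' := congrArg (fun g : GL (Fin 2) F => (g : Matrix (Fin 2) (Fin 2) F)) h
  simp [dGL] at h'
  exact Prod.ext (Units.ext h'.1) (Units.ext h'.2)

theorem sGL_mul_self : sGL * sGL = (1 : GL (Fin 2) F) := by
  apply Units.ext
  simp [sGL, Matrix.one_fin_two]

theorem sGL_conj (u v : Fˣ) : sGL * dGL (u, v) * sGL⁻¹ = dGL (v, u) := by
  rw [inv_eq_of_mul_eq_one_right sGL_mul_self]
  apply Units.ext
  simp [sGL, dGL]

theorem isWreathed_sylow (h4 : Fintype.card F % 4 = 1) (P : Sylow 2 (GL (Fin 2) F)) :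
    Cfsg.IsWreathed (P : Subgroup (GL (Fin 2) F)) := by
  classical
  haveI : Fact (Nat.Prime 2) := ⟨Nat.prime_two⟩
  have hq : 2 ≤ Fintype.card F := Fintype.one_lt_card
  obtain ⟨n, m, hm, hnm⟩ := Nat.exists_eq_two_pow_mul_odd (n := Fintype.card F - 1) (by omega)
  have hn : 2 ≤ n := by
    by_contra h
    obtain ⟨j, rfl⟩ := hm
    interval_cases n <;> omega
  obtain ⟨ζ, hζ⟩ : ∃ ζ : Fˣ, orderOf ζ = 2 ^ n := by
    obtain ⟨g, hg⟩ := IsCyclic.exists_ofOrder_eq_natCard (α := Fˣ)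
    rw [Nat.card_eq_fintype_card, Fintype.card_units, hnm] at hg
    refine ⟨g ^ m, ?_⟩
    rw [orderOf_pow, hg, Nat.gcd_eq_right (Dvd.intro_left _ rfl), Nat.mul_div_cancel _ hm.pos]
  have hcard : Nat.card (P : Subgroup (GL (Fin 2) F)) = 2 ^ (2 * n + 1) := by
    obtain ⟨r, hr⟩ : ∃ r, Fintype.card F = 4 * r + 1 := ⟨Fintype.card F / 4, by omega⟩
    refine card_sylow_two P (m := Fintype.card F * m * m * (2 * r + 1))
      (((Odd.mul ⟨2 * r, by omega⟩ hm).mul hm).mul (odd_two_mul_add_one r)) ?_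
    rw [card_GL_two, hnm, show Fintype.card F + 1 = 2 * (2 * r + 1) by omega]
    ring
  set A : Subgroup (GL (Fin 2) F) := ((Subgroup.zpowers ζ).prod (Subgroup.zpowers ζ)).map dGL with hA
  have hAp : IsPGroup 2 A := by
    refine IsPGroup.map ?_ _
    exact IsPGroup.of_card (n := n + n) (by
      rw [Nat.card_congr (Subgroup.prodEquiv _ _).toEquiv, Nat.card_prod, Nat.card_zpowers, hζ,
        ← pow_add])
  obtain ⟨g, hgA, hgt⟩ := exists_conj_mem P hAp (t := sGL) sGL_mul_self (by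
    rintro _ ⟨⟨u, v⟩, ⟨hu, hv⟩, rfl⟩
    exact ⟨(v, u), ⟨hv, hu⟩, (sGL_conj u v).symm⟩)
  have hxA : dGL (ζ, 1) ∈ A := ⟨_, ⟨Subgroup.mem_zpowers ζ, one_mem _⟩, rfl⟩
  have hyA : dGL (1, ζ) ∈ A := ⟨_, ⟨one_mem _, Subgroup.mem_zpowers ζ⟩, rfl⟩
  refine ⟨n, hn, hcard, ⟨_, hgA _ hxA⟩, ⟨_, hgA _ hyA⟩, ⟨_, hgt⟩, ?_, ?_, ?_, ?_, ?_⟩
  · rw [Subgroup.orderOf_mk, ← MulAut.conj_apply, MulEquiv.orderOf_eq,
      orderOf_injective dGL dGL_injective, Prod.orderOf]
    simp [hζ]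
  · refine Subtype.ext ((Commute.all (ζ, (1 : Fˣ)) (1, ζ)).map dGL |>.map (MulAut.conj g).toMonoidHom).eq
  · rw [Subgroup.eq_bot_iff_forall]
    rintro w ⟨⟨i, hi⟩, j, hj⟩
    have h1 := congrArg Subtype.val (hi.trans hj.symm)
    simp only [Subgroup.coe_zpow, ← MulAut.conj_apply, ← map_zpow] at h1
    have h2 := dGL_injective ((MulAut.conj g).injective h1)
    have h3 : ζ ^ i = 1 := by simpa using congrArg Prod.fst h2
    apply Subtype.ext
    rw [← hi]
    simp only [Subgroup.coe_zpow, ← MulAut.conj_apply, ← map_zpow]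
    rw [show ((ζ, 1) : Fˣ × Fˣ) ^ i = 1 from Prod.ext (by simpa using h3) (by simp), map_one, map_one]
    rfl
  · rw [Subgroup.orderOf_mk, ← MulAut.conj_apply, MulEquiv.orderOf_eq]
    refine orderOf_eq_prime (by rw [pow_two, sGL_mul_self]) fun h => ?_
    simpa [sGL] using congrArg (fun g : GL (Fin 2) F => (g : Matrix (Fin 2) (Fin 2) F) 0 0) h
  · apply Subtype.ext
    simp only [Subgroup.coe_mul, Subgroup.coe_inv]
    show MulAut.conj g sGL * MulAut.conj g (dGL (ζ, 1)) * (MulAut.conj g sGL)⁻¹ = MulAut.conj g (dGL (1, ζ))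
    rw [← map_inv, ← map_mul, ← map_mul, sGL_conj]

theorem not_isSquare_neg_one (h4 : Fintype.card F % 4 = 3) :
    ∀ r : F, r ^ 2 ≠ -1 + 0 * r := by
  intro r hr
  rw [zero_mul, add_zero] at hr
  exact FiniteField.isSquare_neg_one_iff.1 ⟨r, by rw [← hr, pow_two]⟩ h4

/-- The regular representation of `F[i]`. -/
def regRep : QuadraticAlgebra F (-1) 0 →* Matrix (Fin 2) (Fin 2) F where
  toFun z := !![z.re, -z.im; z.im, z.re]
  map_one' := by simp [Matrix.one_fin_two]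
  map_mul' z w := by
    ext i j
    fin_cases i <;> fin_cases j <;> simp <;> ring

/-- The matrix `diag(1, -1)`. -/
def tGL : GL (Fin 2) F :=
  ⟨!![1, 0; 0, -1], !![1, 0; 0, -1], by simp [Matrix.one_fin_two], by simp [Matrix.one_fin_two]⟩

theorem isQuasiDihedral_sylow (h4 : Fintype.card F % 4 = 3) (P : Sylow 2 (GL (Fin 2) F)) :
    Cfsg.IsQuasiDihedral (P : Subgroup (GL (Fin 2) F)) := by
  classical
  haveI : Fact (Nat.Prime 2) := ⟨Nat.prime_two⟩
  haveI hns : Fact (∀ r : F, r ^ 2 ≠ -1 + 0 * r) := ⟨not_isSquare_neg_one h4⟩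
  haveI : Fintype (QuadraticAlgebra F (-1 : F) 0) := Fintype.ofEquiv _ (QuadraticAlgebra.equivProd (-1) 0).symm
  have hK : Fintype.card (QuadraticAlgebra F (-1 : F) 0) = Fintype.card F * Fintype.card F :=
    (Fintype.card_congr (QuadraticAlgebra.equivProd (-1 : F) 0)).trans (Fintype.card_prod F F)
  set q := Fintype.card F with hqdef
  obtain ⟨s, m, hm, hsm⟩ := Nat.exists_eq_two_pow_mul_odd (n := q + 1) (by omega)
  have hs : 2 ≤ s := by
    by_contra h
    obtain ⟨j, rfl⟩ := hm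
    interval_cases s <;> omega
  obtain ⟨r, hr⟩ : ∃ r, q = 4 * r + 3 := ⟨q / 4, by omega⟩
  have hdvd : 2 ^ (s + 1) ∣ q * q - 1 := by
    refine ⟨m * (2 * r + 1), ?_⟩
    rw [show q * q - 1 = (q + 1) * (2 * (2 * r + 1)) by
      apply Nat.sub_eq_of_eq_add
      rw [hr]; ring, hsm, pow_succ]
    ring
  obtain ⟨ξ, hξ⟩ : ∃ ξ : (QuadraticAlgebra F (-1 : F) 0)ˣ, orderOf ξ = 2 ^ (s + 1) := by
    obtain ⟨g, hg⟩ := IsCyclic.exists_ofOrder_eq_natCard (α := (QuadraticAlgebra F (-1 : F) 0)ˣ)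
    rw [Nat.card_eq_fintype_card, Fintype.card_units, hK] at hg
    obtain ⟨c, hc⟩ := hdvd
    refine ⟨g ^ c, ?_⟩
    have hc0 : 0 < c := Nat.pos_of_ne_zero fun h => by
      rw [h, mul_zero] at hc
      nlinarith [show 1 < q * q by nlinarith [show 3 ≤ q by omega], Nat.sub_eq_zero_iff_le.1 hc]
    rw [orderOf_pow, hg, hc, Nat.gcd_eq_right (Dvd.intro_left _ rfl), Nat.mul_div_cancel _ hc0]
  obtain ⟨p, hp⟩ := CharP.exists F
  haveI := hp
  haveI : Fact p.Prime := ⟨CharP.char_is_prime F p⟩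
  obtain ⟨⟨f, hf⟩, -, hqp⟩ := FiniteField.card F p
  haveI : CharP (QuadraticAlgebra F (-1 : F) 0) p := charP_of_injective_algebraMap (algebraMap F (QuadraticAlgebra F (-1 : F) 0)).injective p
  have hfrob : ∀ z : (QuadraticAlgebra F (-1 : F) 0), z ^ q = star z := by
    intro z
    have hz : z = algebraMap F (QuadraticAlgebra F (-1 : F) 0) z.re + algebraMap F (QuadraticAlgebra F (-1 : F) 0) z.im * ⟨0, 1⟩ := by
      ext <;> simp [QuadraticAlgebra.algebraMap_re, QuadraticAlgebra.algebraMap_im]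
    have hii : (⟨0, 1⟩ : (QuadraticAlgebra F (-1 : F) 0)) ^ 2 = -1 := by
      rw [pow_two]; ext <;> simp
    have hi : (⟨0, 1⟩ : (QuadraticAlgebra F (-1 : F) 0)) ^ q = -⟨0, 1⟩ := by
      rw [show q = 2 * (2 * r + 1) + 1 by omega, pow_succ, pow_mul, hii,
        Odd.neg_one_pow (odd_two_mul_add_one r), neg_one_mul]
    conv_lhs => rw [hz]
    have hqpf : q = p ^ f := hqp
    rw [hqpf, add_pow_char_pow, mul_pow, ← hqpf, ← map_pow, ← map_pow, FiniteField.pow_card,
      FiniteField.pow_card, hi]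
    ext <;> simp [QuadraticAlgebra.algebraMap_re, QuadraticAlgebra.algebraMap_im]
  set φ : (QuadraticAlgebra F (-1 : F) 0)ˣ →* GL (Fin 2) F := Units.map regRep with hφ
  have hφi : Function.Injective φ := Units.map_injective fun a b h => by
    have h00 := congrFun (congrFun h 0) 0
    have h10 := congrFun (congrFun h 1) 0
    simp [regRep] at h00 h10
    exact QuadraticAlgebra.ext h00 h10
  have htt : tGL * tGL = (1 : GL (Fin 2) F) := Units.ext (by simp [tGL, Matrix.one_fin_two])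
  have hconj : ∀ u : (QuadraticAlgebra F (-1 : F) 0)ˣ, tGL * φ u * tGL⁻¹ = φ (u ^ q) := by
    intro u
    rw [inv_eq_of_mul_eq_one_right htt]
    apply Units.ext
    show (tGL : GL (Fin 2) F).val * regRep (u : QuadraticAlgebra F (-1 : F) 0) * (tGL : GL (Fin 2) F).val =
      regRep ((u ^ q : (QuadraticAlgebra F (-1 : F) 0)ˣ) : QuadraticAlgebra F (-1 : F) 0)
    rw [Units.val_pow_eq_pow_val, hfrob]
    simp [tGL, regRep]
  set A : Subgroup (GL (Fin 2) F) := Subgroup.zpowers (φ ξ) with hA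
  have hxo : orderOf (φ ξ) = 2 ^ (s + 1) := by rw [orderOf_injective φ hφi, hξ]
  obtain ⟨g, hgA, hgt⟩ := exists_conj_mem P (A := A)
    (IsPGroup.of_card (n := s + 1) (by rw [Nat.card_zpowers, hxo])) (t := tGL) htt (by
      rintro _ ⟨i, rfl⟩
      show tGL * φ ξ ^ i * tGL⁻¹ ∈ A
      rw [← MulAut.conj_apply, map_zpow, MulAut.conj_apply, hconj, map_pow]
      exact zpow_mem (pow_mem (Subgroup.mem_zpowers _) q) i)
  have hcard : Nat.card (P : Subgroup (GL (Fin 2) F)) = 2 ^ (s + 1 + 1) := by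
    refine card_sylow_two P (m := q * (2 * r + 1) * (2 * r + 1) * m)
      (((Odd.mul ⟨2 * r + 1, by omega⟩ (odd_two_mul_add_one r)).mul (odd_two_mul_add_one r)).mul hm) ?_
    rw [card_GL_two, ← hqdef, hsm, show q - 1 = 2 * (2 * r + 1) by omega]
    ring
  refine ⟨s + 1, by omega, hcard, ⟨_, hgA _ (Subgroup.mem_zpowers _)⟩, ⟨_, hgt⟩, ?_, ?_, ?_⟩
  · rw [Subgroup.orderOf_mk, ← MulAut.conj_apply, MulEquiv.orderOf_eq, hxo]
  · rw [Subgroup.orderOf_mk, ← MulAut.conj_apply, MulEquiv.orderOf_eq]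
    refine orderOf_eq_prime (by rw [pow_two, htt]) fun h => ?_
    have h2 : (-1 : F) = 1 := by
      simpa [tGL] using congrArg (fun g : GL (Fin 2) F => (g : Matrix (Fin 2) (Fin 2) F) 1 1) h
    exact not_isSquare_neg_one h4 1 (by rw [zero_mul, add_zero, one_pow, h2])
  · apply Subtype.ext
    simp only [Nat.add_sub_cancel, Subgroup.coe_mul, Subgroup.coe_inv, SubgroupClass.coe_pow]
    show MulAut.conj g tGL * MulAut.conj g (φ ξ) * (MulAut.conj g tGL)⁻¹ = MulAut.conj g (φ ξ) ^ (2 ^ s - 1)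
    rw [← map_inv, ← map_mul, ← map_mul, hconj, ← map_pow, ← map_pow]
    congr 2
    refine pow_eq_pow_iff_modEq.2 ?_
    rw [hξ]
    obtain ⟨j, rfl⟩ := hm
    have h5 : q = (2 ^ s - 1) + 2 ^ (s + 1) * j := by
      have h6 : 2 ^ s * (2 * j + 1) = 2 ^ (s + 1) * j + 2 ^ s := by rw [pow_succ]; ring
      have h7 : 1 ≤ 2 ^ s := Nat.one_le_two_pow
      omega
    rw [h5]
    exact (Nat.modEq_iff_dvd' (Nat.le_add_right _ _)).2 (by simp) |>.symm

end Cfsg.Lib.FusionSys.Lin
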