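import Cfsg.Agent.Lib.Concrete.MathieuOut
import Cfsg.Agent.Lib.Concrete.SporMathieu
import Cfsg.Agent.Lib.TwoGroup.SylowCriterion

/-!
The Sylow 2-subgroups of the Mathieu group of degree 11 are semidihedral of order 16.
-/

set_option autoImplicit false

namespace Cfsg.Lib.FusionSys

open Cfsg Cfsg.Lib.Concrete

theorem isQuasiDihedral_sylow_sporM11 (S : Sylow 2 Spor.M11) :
    Cfsg.IsQuasiDihedral (S : Subgroup Spor.M11) := by
  obtain ⟨φ⟩ := sporM11_equiv_dod
  obtain ⟨x, hx, hxr, -⟩ := exists_of_elemCheck (k := 1) (D := 11472927)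
    (p := 963306117333052409018506613490058304) (q := 965949145343474049856597318148195392)
    (by norm_num) (by decide +kernel)
  obtain ⟨y, hy, hyr, hyri⟩ := exists_of_elemCheck (k := 1) (D := 11472927)
    (p := 984696276478677314088622797856277568) (q := 984696276478677314088622797856277568)
    (by norm_num) (by decide +kernel)
  have r2 : Rep (x * x) 962371918955368510574636649896478752 := hxr.mul hxr (by decide +kernel)
  have r3 : Rep (x * x * x) 970329653202350707652910038798402624 := r2.mul hxr (by decide +kernel)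
  have r4 : Rep (x ^ 4) 973054518210042674313238929715267616 := by
    rw [show x ^ 4 = (x * x) * (x * x) by simp only [pow_succ, pow_zero, one_mul, mul_assoc]]
    exact r2.mul r2 (by decide +kernel)
  have hx8 : x ^ 8 = 1 := by
    rw [show x ^ 8 = x ^ 4 * x ^ 4 from pow_add x 4 4]
    exact (r4.mul r4 (r := pId) (by decide +kernel)).ext rep_one
  have hx4 : x ^ 4 ≠ 1 := by
    intro h
    rw [h] at r4
    exact absurd (show ∀ i : Fin 24, pget 973054518210042674313238929715267616 i.val = i.val from
      fun i => by rw [← r4.apply i, Equiv.Perm.one_apply, gidx_gpt]) (by decide +kernel)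
  have hy2 : y * y = 1 := (hyr.mul hyr (r := pId) (by decide +kernel)).ext rep_one
  have hy1 : y ≠ 1 := by
    intro h
    rw [h] at hyr
    exact absurd (show ∀ i : Fin 24, pget 984696276478677314088622797856277568 i.val = i.val from
      fun i => by rw [← hyr.apply i, Equiv.Perm.one_apply, gidx_gpt]) (by decide +kernel)
  have hyxy : y * x * y⁻¹ = x * x * x := by
    exact ((hyr.mul hxr (r := 969802841622095796538075665876486176) (by decide +kernel)).mul hyri
      (by decide +kernel)).ext r3
  have hxb : x ∈ mSub 1 baseDodecad := hx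
  have hyb : y ∈ mSub 1 baseDodecad := hy
  set x' : Spor.M11 := φ.symm ⟨x, hxb⟩ with hx'
  set y' : Spor.M11 := φ.symm ⟨y, hyb⟩ with hy'
  refine TwoGroup.SylowCriterion.quasiDihedral S (n := 3) (m := 495) le_rfl (by decide) (by rw [card_sporM11]; rfl)
    x' y' ?_ ?_ ?_
  · rw [hx', MulEquiv.orderOf_eq, Subgroup.orderOf_mk]
    exact orderOf_eq_prime_pow (p := 2) (n := 2) (hnot := hx4) (hfin := hx8)
  · rw [hy', MulEquiv.orderOf_eq, Subgroup.orderOf_mk]
    exact orderOf_eq_prime (by rw [pow_two, hy2]) hy1
  · rw [hx', hy', ← map_inv, ← map_mul, ← map_mul, ← map_pow]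
    refine congrArg φ.symm (Subtype.ext ?_)
    show y * x * y⁻¹ = x ^ (2 ^ (3 - 1) - 1)
    rw [hyxy, show (2 : ℕ) ^ (3 - 1) - 1 = 3 from rfl, pow_succ, pow_two]

end Cfsg.Lib.FusionSys
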