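import Cfsg.Agent.Lib.Chev.B2SpMat
import Cfsg.Agent.S0245
import Mathlib.GroupTheory.Sylow
import Mathlib.Tactic.Group

/-!
# Sylow `p`-subgroups of `Sp(4,p)` have order `p ^ 4` and class three
-/

set_option autoImplicit false

namespace Cfsg.Lib.FusionSys.SympFour

open Matrix Subgroup Cfsg.Lib.Chev.B2Sp
open scoped commutatorElement

variable {p : ℕ} [hp : Fact p.Prime]

local notation "Sp" => Matrix.symplecticGroup (Fin 2) (ZMod p)

/-- The symmetric upper right block. -/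
def sym (r s t : ZMod p) : Matrix (Fin 2 ⊕ Fin 2) (Fin 2 ⊕ Fin 2) (ZMod p) :=
  sp4 1 0 r s 0 1 s t 0 0 1 0 0 0 0 1

theorem sym_mem (r s t : ZMod p) : sym r s t ∈ Sp := by
  rw [SymplecticGroup.mem_iff, J_eq, sym, sp4_transpose, sp4_mul, sp4_mul]
  congr 1 <;> ring

/-- The symmetric upper right block, in the group. -/
def symEl (r s t : ZMod p) : ↥Sp := ⟨sym r s t, sym_mem r s t⟩

theorem symEl_mul (r s t r' s' t' : ZMod p) :
    symEl r s t * symEl r' s' t' = symEl (r + r') (s + s') (t + t') := by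
  refine Subtype.ext ?_
  show sym r s t * sym r' s' t' = sym (r + r') (s + s') (t + t')
  rw [sym, sym, sym, sp4_mul]
  congr 1 <;> ring

theorem symEl_zero : (symEl 0 0 0 : ↥Sp) = 1 := Subtype.ext (by
  show sym (0 : ZMod p) 0 0 = 1
  rw [sym, sp4_one])

theorem symEl_inv (r s t : ZMod p) : (symEl r s t)⁻¹ = symEl (-r) (-s) (-t) := by
  refine inv_eq_of_mul_eq_one_right ?_
  rw [symEl_mul, add_neg_cancel, add_neg_cancel, add_neg_cancel, symEl_zero]

theorem symEl_pow (r s t : ZMod p) : ∀ n : ℕ, symEl r s t ^ n = symEl ((n : ZMod p) * r) ((n : ZMod p) * s) ((n : ZMod p) * t)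
  | 0 => by simp [symEl_zero]
  | n + 1 => by rw [pow_succ, symEl_pow r s t n, symEl_mul]; congr 1 <;> push_cast <;> ring

/-- The abelian subgroup. -/
def symGroup : Subgroup ↥Sp where
  carrier := {g | ∃ r s t, g = symEl r s t}
  one_mem' := ⟨0, 0, 0, symEl_zero.symm⟩
  mul_mem' := by
    rintro _ _ ⟨r, s, t, rfl⟩ ⟨r', s', t', rfl⟩
    exact ⟨_, _, _, symEl_mul r s t r' s' t'⟩
  inv_mem' := by
    rintro _ ⟨r, s, t, rfl⟩
    exact ⟨_, _, _, symEl_inv r s t⟩

/-- The short root element. -/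
def short (u : ZMod p) : ↥Sp := ⟨spX 5 u, spX_mem (by norm_num) u⟩

theorem short_mul (u v : ZMod p) : short u * short v = short (u + v) :=
  Subtype.ext (spX_add (r := 5) (by norm_num) u v)

theorem short_zero : short (0 : ZMod p) = 1 := by
  have h := short_mul (0 : ZMod p) 0
  rw [add_zero] at h
  exact mul_eq_left.mp h

theorem short_pow (u : ZMod p) : ∀ n : ℕ, short u ^ n = short ((n : ZMod p) * u)
  | 0 => by simp [short_zero]
  | n + 1 => by rw [pow_succ, short_pow u n, short_mul]; congr 1; push_cast; ring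

theorem short_conj (u r s t : ZMod p) :
    short u * symEl r s t * (short u)⁻¹ = symEl (r + 2 * u * s + u * u * t) (s + u * t) t := by
  rw [mul_inv_eq_iff_eq_mul]
  refine Subtype.ext ?_
  show spX 5 u * sym r s t = sym (r + 2 * u * s + u * u * t) (s + u * t) t * spX 5 u
  simp only [spX, sym, sp4_mul]
  congr 1 <;> ring

theorem exists_two_step (hp2 : p ≠ 2) :
    ∃ H : Subgroup ↥Sp, IsPGroup p H ∧ ∃ x ∈ H, ∃ y ∈ H, ⁅x, ⁅x, y⁆⁆ ≠ 1 := by
  have hQ : IsPGroup p (symGroup (p := p)) := by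
    rintro ⟨g, r, s, t, rfl⟩
    refine ⟨1, Subtype.ext ?_⟩
    simp [pow_one, symEl_pow, symEl_zero]
  have hX : IsPGroup p (zpowers (short (1 : ZMod p))) := by
    rintro ⟨g, hg⟩
    obtain ⟨n, rfl⟩ := mem_zpowers_iff.mp hg
    refine ⟨1, Subtype.ext ?_⟩
    rw [pow_one, SubmonoidClass.coe_pow, OneMemClass.coe_one, ← _root_.zpow_natCast, ← _root_.zpow_mul, mul_comm,
      _root_.zpow_mul, zpow_natCast, short_pow, ZMod.natCast_self, zero_mul, short_zero, _root_.one_zpow]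
  have hnorm : zpowers (short (1 : ZMod p)) ≤ Subgroup.normalizer (symGroup (p := p) : Set ↥Sp) := by
    rw [zpowers_le]
    refine mem_normalizer_fintype ?_
    rintro _ ⟨r, s, t, rfl⟩
    exact ⟨_, _, _, short_conj 1 r s t⟩
  refine ⟨zpowers (short (1 : ZMod p)) ⊔ symGroup, hX.to_sup_of_normal_right' hQ hnorm, short 1,
    mem_sup_left (mem_zpowers _), symEl 0 0 1, mem_sup_right ⟨_, _, _, rfl⟩, ?_⟩
  rw [commutatorElement_def, commutatorElement_def, short_conj, symEl_inv, symEl_mul, short_conj,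
    symEl_inv, symEl_mul]
  intro h
  have h2 := congrArg (fun g : ↥Sp => (g : Matrix (Fin 2 ⊕ Fin 2) (Fin 2 ⊕ Fin 2) (ZMod p))
    (Sum.inl 0) (Sum.inr 0)) h
  have hne : ((2 : ℕ) : ZMod p) ≠ 0 := by
    rw [Ne, ZMod.natCast_eq_zero_iff]
    exact fun hd => hp2 ((Nat.prime_dvd_prime_iff_eq hp.out Nat.prime_two).mp hd)
  refine hne ?_
  simp [symEl, sym, sp4] at h2
  push_cast
  linear_combination h2

theorem card_sylow (hp2 : p ≠ 2) (P : Sylow p ↥Sp) : Nat.card (P : Subgroup ↥Sp) = p ^ 4 := by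
  haveI : NeZero p := ⟨hp.out.ne_zero⟩
  rw [P.card_eq_multiplicity, Cfsg.Agent.S0245.result (ZMod.card p) 2]
  simp only [Finset.prod_range_succ, Finset.prod_range_zero, one_mul]
  set a := p ^ (2 * (0 + 1)) - 1 with ha
  set b := p ^ (2 * (1 + 1)) - 1 with hb
  have h1 : ∀ k : ℕ, 0 < k → ¬ p ∣ p ^ k - 1 ∧ p ^ k - 1 ≠ 0 := by
    intro k hk
    have hlt : 1 < p ^ k := Nat.one_lt_pow hk.ne' hp.out.one_lt
    refine ⟨fun hd => ?_, by omega⟩
    have hd2 : p ∣ p ^ k := dvd_pow_self p hk.ne'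
    have := Nat.dvd_sub hd2 hd
    rw [Nat.sub_sub_self hlt.le] at this
    exact hp.out.ne_one (Nat.dvd_one.mp this)
  obtain ⟨hda, ha0⟩ := h1 2 (by norm_num)
  obtain ⟨hdb, hb0⟩ := h1 4 (by norm_num)
  norm_num at ha hb
  rw [ha, hb, Nat.factorization_mul (pow_ne_zero _ hp.out.ne_zero) (mul_ne_zero ha0 hb0),
    Finsupp.add_apply, Nat.Prime.factorization_pow hp.out, Finsupp.single_eq_same,
    Nat.factorization_eq_zero_of_not_dvd (fun h => ((Nat.Prime.dvd_mul hp.out).mp h).elim hda hdb)]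
  norm_num

/-- A group isomorphic to a Sylow subgroup of `Sp(4,p)` has order `p ^ 4` and class at least three. -/
theorem sylow_facts (hp2 : p ≠ 2) {S : Type*} [Group S] (P : Sylow p ↥Sp)
    (e : S ≃* ↥(P : Subgroup ↥Sp)) :
    Nat.card S = p ^ 4 ∧ ∃ x y : S, ⁅x, ⁅x, y⁆⁆ ≠ 1 := by
  refine ⟨(Nat.card_congr e.toEquiv).trans (card_sylow hp2 P), ?_⟩
  obtain ⟨H, hH, x, hx, y, hy, hne⟩ := exists_two_step hp2
  obtain ⟨Q, hQ⟩ := hH.exists_le_sylow
  let ε : S ≃* ↥(Q : Subgroup ↥Sp) := e.trans (P.equiv Q)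
  refine ⟨ε.symm ⟨x, hQ hx⟩, ε.symm ⟨y, hQ hy⟩, fun h => hne ?_⟩
  have h2 := congrArg (fun z => ((ε z : ↥(Q : Subgroup ↥Sp)) : ↥Sp)) h
  simp only [map_commutatorElement, MulEquiv.apply_symm_apply, map_one] at h2
  exact h2

end Cfsg.Lib.FusionSys.SympFour
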