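import Cfsg.Agent.Lib.FusionSys.CenterThompson
import Cfsg.Agent.Lib.Local.BlockTorus.Main

/-!
# Central subgroups of the normalizer of the Thompson subgroup: automizer tori

In a saturated fusion system, for `p` odd, a subgroup `T` of `Z(S)` stabilized by the automizer of `J(S)`
is stabilized by every essential automizer unless a cyclic subgroup of its automizer of order prime to `p`
is transitive on the non-identity elements of the commutator.
-/

set_option autoImplicit false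
set_option linter.style.haveILetI false

universe u

namespace Cfsg.Lib.FusionSys

open Cfsg Cfsg.FusionSystem

variable {p : ℕ} {Ω : Type u} [Group Ω] {S : Subgroup Ω} {F : FusionSystem S}

/-- Every automorphism of `W` in the system maps the elements of `T` into `T`. -/
def AutStab (F : FusionSystem S) (T W : Subgroup Ω) : Prop :=
  ∀ α ∈ F.autGroup W, ∀ x ∈ T, ∀ hx : x ∈ W, ((α ⟨x, hx⟩ : W) : Ω) ∈ T

/-- An injective map of `W` into the ambient group carrying `T ≤ W` into itself carries it onto itself. -/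
theorem mem_of_apply_mem {T W : Subgroup Ω} [Finite T] (hTW : T ≤ W) {φ : W →* Ω} (hφ : Function.Injective φ)
    (hst : ∀ x ∈ T, ∀ hx : x ∈ W, φ ⟨x, hx⟩ ∈ T) {y : W} (hy : φ y ∈ T) : (y : Ω) ∈ T := by
  let f : T → T := fun t => ⟨φ ⟨t, hTW t.2⟩, hst t t.2 _⟩
  have hf : Function.Injective f := fun a b h =>
    Subtype.ext (congrArg (fun w : W => (w : Ω)) (hφ (congrArg Subtype.val h)))
  obtain ⟨t, ht⟩ := (Finite.injective_iff_surjective.1 hf) ⟨φ y, hy⟩
  have h1 : (⟨(t : Ω), hTW t.2⟩ : W) = y := hφ (congrArg Subtype.val ht)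
  rw [← h1]
  exact t.2

variable [Finite S] [Fact p.Prime]

theorem autStab_transfer (hS : IsPGroup p S) (hF : F.IsSaturated p) {T : Subgroup Ω} {n : ℕ}
    (hbig : ∀ R : Subgroup Ω, n ≤ Nat.card R → ∀ φ ∈ F.Hom R, ∀ x ∈ T, ∀ hx : x ∈ R, φ ⟨x, hx⟩ ∈ T)
    (hloc : ∀ U : Subgroup Ω, F.IsFullyNormalized U → F.IsCentric U →
      n ≤ Nat.card (normalizerIn S U) → AutStab F T U)
    {W : Subgroup Ω} (hW : W ≤ S) (hTW : T ≤ W) (hn : n ≤ Nat.card (normalizerIn S W)) : AutStab F T W := by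
  intro α hα x hxT hxW
  haveI : Finite T := finite_of_le (hTW.trans hW)
  obtain ⟨W₂, hconj, hn₂⟩ := exists_isFullyNormalized F hW
  obtain ⟨χ, hχ, hχv, hχW⟩ := exists_map_to_fn hS hF hn₂ hconj
  have hχi := restrict_mem hχ (le_normalizerIn hW)
  have hχr : (χ.comp (Subgroup.inclusion (le_normalizerIn hW))).range = W₂ := by
    rw [← MonoidHom.map_range, Subgroup.inclusion_range]
    exact hχW
  set e := homIso hχi hχr with hedef
  have he : IsoIn F e := isoIn_homIso hχi hχr
  have hex : ∀ y : W, (y : Ω) ∈ T → ((e y : W₂) : Ω) ∈ T := fun y hy =>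
    hbig _ hn χ hχ _ hy (le_normalizerIn hW y.2)
  set x₂ := ((e ⟨x, hxW⟩ : W₂) : Ω) with hx₂
  have hx₂T : x₂ ∈ T := hex ⟨x, hxW⟩ hxT
  have hxW₂ : x₂ ∈ W₂ := (e ⟨x, hxW⟩).2
  suffices key : ((MulAut.congr e α ⟨x₂, hxW₂⟩ : W₂) : Ω) ∈ T by
    have h2 : MulAut.congr e α ⟨x₂, hxW₂⟩ = e (α ⟨x, hxW⟩) := by
      show e (α (e.symm (e ⟨x, hxW⟩))) = _
      rw [MulEquiv.symm_apply_apply]
    rw [h2] at key
    exact mem_of_apply_mem (φ := W₂.subtype.comp e.toMonoidHom) hTW
      (W₂.subtype_injective.comp e.injective) (fun t ht htW => hex ⟨t, htW⟩ ht) key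
  set α₂ := MulAut.congr e α
  have hα₂ : α₂ ∈ F.autGroup W₂ := congr_mem_autGroup he hα
  have hi : IsoIn F α₂ := (mem_autGroup hn₂.1).1 hα₂
  have hfc := (isFullyAutomized_and_fc_of_fn hS hF hn₂).1
  have hrec := isReceptive_of_fc hS hF hfc
  have hr₂ : (W₂.subtype.comp α₂.toMonoidHom).range = W₂ := by
    ext y
    constructor
    · rintro ⟨a, rfl⟩; exact (α₂ a).2
    · intro hy; exact ⟨α₂.symm ⟨y, hy⟩, by simp⟩
  obtain ⟨ψ, hψ, hψe⟩ := hrec.2 W₂ _ hi hr₂
  set U := W₂ ⊔ centralizerIn S W₂ with hUdef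
  have hWU : W₂ ≤ U := le_sup_left
  have hCU : centralizerIn S W₂ ≤ U := le_sup_right
  have hUS : U ≤ S := sup_le hn₂.1 (centralizerIn_le _)
  have hUe : U ≤ extender S W₂ (W₂.subtype.comp α₂.toMonoidHom) :=
    sup_le (le_extender hn₂.1 (hom_mem hi)) (centralizerIn_le_extender _)
  set β := ψ.comp (Subgroup.inclusion hUe) with hβdef
  have hβ : β ∈ F.Hom U := restrict_mem hψ hUe
  have hβW : ∀ (y : Ω) (hy : y ∈ W₂), β ⟨y, hWU hy⟩ = ((α₂ ⟨y, hy⟩ : W₂) : Ω) :=
    fun y hy => hψe y hy (hUe (hWU hy))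
  have hWmap : (W₂.subgroupOf U).map β = W₂ := map_subgroupOf_eq hWU fun y hy _ => hβW y hy
  have hβv : U ≤ (U.comap β).map U.subtype := by
    refine sup_le (fun y hy => ⟨⟨y, hWU hy⟩, ?_, rfl⟩) (fun c hc => ⟨⟨c, hCU hc⟩, ?_, rfl⟩)
    · show β ⟨y, hWU hy⟩ ∈ U
      rw [hβW y hy]; exact hWU (α₂ _).2
    · refine hCU ⟨hom_mem hβ _, ?_⟩
      have h1 := map_mem_centralizer (Q := W₂) β ⟨c, hCU hc⟩ (mem_centralizerIn.1 hc).2
      rwa [hWmap] at h1
  have hβr : β.range = U := range_eq_of_card_le hβ hUS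
    (fun y => by
      obtain ⟨y', hy', he'⟩ := hβv y.2
      rwa [show y' = y from Subtype.ext he'] at hy') le_rfl
  set γ := homIso hβ hβr with hγdef
  have hγ : γ ∈ F.autGroup U := (mem_autGroup hUS).2 (isoIn_homIso hβ hβr)
  -- a fully normalized conjugate of `U`
  obtain ⟨U', hconjU, hnU⟩ := exists_isFullyNormalized F hUS
  obtain ⟨ξ, hξ, hξv, hξU⟩ := exists_map_to_fn hS hF hnU hconjU
  have hsub : normalizerIn S W₂ ≤ normalizerIn S U := by
    intro g hg
    refine ⟨hg.1, ?_⟩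
    have key : ∀ g ∈ normalizerIn S W₂, ∀ c ∈ centralizerIn S W₂,
        g * c * g⁻¹ ∈ centralizerIn S W₂ := by
      intro g hg c hc
      refine mem_centralizerIn.2 ⟨S.mul_mem (S.mul_mem hg.1 hc.1) (S.inv_mem hg.1), fun y hy => ?_⟩
      have hy' : g⁻¹ * y * g ∈ W₂ := (Subgroup.mem_normalizer_iff''.1 hg.2 y).1 hy
      calc g * c * g⁻¹ * y = g * (c * (g⁻¹ * y * g)) * g⁻¹ := by group
        _ = g * ((g⁻¹ * y * g) * c) * g⁻¹ := by rw [(mem_centralizerIn.1 hc).2 _ hy']
        _ = y * (g * c * g⁻¹) := by group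
    refine normalizer_inf_le ⟨hg.2, Subgroup.mem_normalizer_iff.2 fun c => ⟨key g hg c, fun hc => ?_⟩⟩
    have := key g⁻¹ ((normalizerIn S W₂).inv_mem hg) _ hc
    simpa [mul_assoc] using this
  have hcardW : Nat.card (normalizerIn S W) ≤ Nat.card (normalizerIn S W₂) := by
    haveI := finite_of_le (normalizerIn_le (S := S) W₂)
    exact Nat.card_le_card_of_injective (fun a => (⟨χ a, hχv a⟩ : normalizerIn S W₂))
      fun a b h => F.injective_of_mem hχ (congrArg Subtype.val h)
  have hnU' : n ≤ Nat.card (normalizerIn S U) := by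
    haveI := finite_of_le (normalizerIn_le (S := S) U)
    exact hn.trans (hcardW.trans (Subgroup.card_le_of_le hsub))
  have hcU : F.IsCentric U := by
    refine ⟨hUS, ?_⟩
    rintro R ⟨φ, hφ, rfl⟩ c hc
    set φW := φ.comp (Subgroup.inclusion hWU) with hφW
    have hφWm : φW ∈ F.Hom W₂ := restrict_mem hφ hWU
    haveI := finite_of_le (centralizerIn_le (S := S) φW.range)
    have hmem : ∀ a : centralizerIn S W₂, φ (Subgroup.inclusion hCU a) ∈ centralizerIn S φW.range := by
      intro a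
      refine mem_centralizerIn.2 ⟨hom_mem hφ _, ?_⟩
      rintro _ ⟨y, rfl⟩
      show φ _ * φ _ = φ _ * φ _
      rw [← map_mul, ← map_mul]
      exact congrArg φ (Subtype.ext ((mem_centralizerIn.1 a.2).2 y y.2))
    have hinj : Function.Injective fun a => (⟨_, hmem a⟩ : centralizerIn S φW.range) := fun a b h =>
      Subgroup.inclusion_injective _ (F.injective_of_mem hφ (congrArg Subtype.val h))
    have hbij := hinj.bijective_of_nat_card_le (hfc.2 _ ⟨φW, hφWm, rfl⟩)
    obtain ⟨a, ha⟩ := hbij.2 ⟨c, hc.1, Subgroup.centralizer_le (by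
      rintro _ ⟨y, rfl⟩; exact ⟨_, rfl⟩) hc.2⟩
    exact ⟨_, congrArg Subtype.val ha⟩
  have hcU' : F.IsCentric U' :=
    ⟨hnU.1, fun Q hQ => hcU.2 Q (isConj_trans hconjU hQ)⟩
  have hxU : x₂ ∈ U := hWU hxW₂
  have hξi := restrict_mem hξ (le_normalizerIn hUS)
  have hξr : (ξ.comp (Subgroup.inclusion (le_normalizerIn hUS))).range = U' := by
    rw [← MonoidHom.map_range, Subgroup.inclusion_range]
    exact hξU
  set d := homIso hξi hξr with hddef
  have hdx : ∀ y : U, (y : Ω) ∈ T → ((d y : U') : Ω) ∈ T := fun y hy =>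
    hbig _ hnU' ξ hξ _ hy (le_normalizerIn hUS y.2)
  have hcardU : Nat.card (normalizerIn S U) ≤ Nat.card (normalizerIn S U') := by
    haveI := finite_of_le (normalizerIn_le (S := S) U')
    exact Nat.card_le_card_of_injective (fun a => (⟨ξ a, hξv a⟩ : normalizerIn S U'))
      fun a b h => F.injective_of_mem hξ (congrArg Subtype.val h)
  have h1 := hloc U' hnU hcU' (hnU'.trans hcardU) (MulAut.congr d γ)
    (congr_mem_autGroup (isoIn_homIso hξi hξr) hγ) _ (hdx ⟨x₂, hxU⟩ hx₂T) (d ⟨x₂, hxU⟩).2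
  have h3 : MulAut.congr d γ (d ⟨x₂, hxU⟩) = d (γ ⟨x₂, hxU⟩) := by
    show d (γ (d.symm (d ⟨x₂, hxU⟩))) = _
    rw [MulEquiv.symm_apply_apply]
  rw [h3] at h1
  rw [← hβW x₂ hxW₂]
  have hTU : T ≤ U := by
    intro t ht
    refine hWU ?_
    obtain ⟨y, hy⟩ : ∃ y : T, ((e ⟨(y : Ω), hTW y.2⟩ : W₂) : Ω) = t := by
      have hinj : Function.Injective fun y : T => (⟨((e ⟨(y : Ω), hTW y.2⟩ : W₂) : Ω), hex _ y.2⟩ : T) :=
        fun a b h => Subtype.ext (congrArg (fun w : W => (w : Ω))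
          (e.injective (Subtype.ext (congrArg (fun w : T => (w : Ω)) h))))
      obtain ⟨y, hy⟩ := (Finite.injective_iff_surjective.1 hinj) ⟨t, ht⟩
      exact ⟨y, congrArg Subtype.val hy⟩
    exact hy ▸ (e _).2
  exact mem_of_apply_mem (φ := U'.subtype.comp d.toMonoidHom) hTU
    (U'.subtype_injective.comp d.injective) (fun t ht htU => hdx ⟨t, htU⟩ ht) h1

/-- A cyclic subgroup of the automizer of `T` of order prime to `p`, transitive on the commutator. -/
def HasAutTorus (F : FusionSystem S) (p : ℕ) (T : Subgroup Ω) : Prop :=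
  ∃ X : Subgroup (MulAut ↥T), X ≤ F.autGroup T ∧ X ≠ ⊥ ∧ IsCyclic ↥X ∧ (Nat.card ↥X).Coprime p ∧
    ∀ a b : ↥T, a ∈ Subgroup.closure {y : ↥T | ∃ ψ ∈ X, ∃ t : ↥T, y = ψ t * t⁻¹} →
      b ∈ Subgroup.closure {y : ↥T | ∃ ψ ∈ X, ∃ t : ↥T, y = ψ t * t⁻¹} → a ≠ 1 → b ≠ 1 → ∃ ψ ∈ X, ψ a = b

omit [Finite S] in
/-- An automorphism of `T` realized by a twisting element generates a torus. -/
theorem hasAutTorus_of_twist {T : Subgroup Ω} [Finite T] {L : Type u} [Group L] (j : T →* L)
    (hj : Function.Injective j) (h : Cfsg.Lib.Local.BlockTorus.HasTwist p j.range)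
    (hreal : ∀ n ∈ Subgroup.normalizer (j.range : Set L),
      ∃ α ∈ F.autGroup T, ∀ t, j (α t) = n * j t * n⁻¹) :
    HasAutTorus F p T := by
  obtain ⟨n, hn, ⟨o, ho, hfix⟩, ⟨s, ⟨t₀, hs⟩, hne⟩, htr⟩ := h
  obtain ⟨α, hα, hαj⟩ := hreal n hn
  have hpow : ∀ (k : ℕ) (t : T), j ((α ^ k) t) = n ^ k * j t * (n ^ k)⁻¹ := by
    intro k
    induction k with
    | zero => intro t; simp
    | succ k ih =>
      intro t
      rw [pow_succ', MulAut.mul_apply, hαj, ih, pow_succ']
      group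
  have hαo : α ^ o = 1 := by
    refine MulEquiv.ext fun t => hj ?_
    rw [hpow, hfix _ ⟨t, rfl⟩]
    rfl
  have hfin : IsOfFinOrder α := isOfFinOrder_iff_pow_eq_one.2
    ⟨o, Nat.pos_of_ne_zero fun h0 => by
      rw [h0, Nat.coprime_zero_left] at ho
      exact (Fact.out : p.Prime).ne_one ho, hαo⟩
  refine ⟨Subgroup.zpowers α, Subgroup.zpowers_le.2 hα, ?_, inferInstance, ?_, ?_⟩
  · rw [Ne, Subgroup.zpowers_eq_bot]
    intro h1
    refine hne ?_
    rw [← hs, ← hαj, h1]
    rfl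
  · rw [Nat.card_zpowers]
    exact ho.coprime_dvd_left (orderOf_dvd_of_pow_eq_one hαo)
  · set D := Subgroup.closure {y | ∃ t ∈ j.range, y = n * t * n⁻¹ * t⁻¹}
    have hgen : ∀ (k : ℕ) (t : T), j ((α ^ k) t * t⁻¹) ∈ D := by
      intro k
      induction k with
      | zero => intro t; simp
      | succ k ih =>
        intro t
        have e : (α ^ (k + 1)) t * t⁻¹ = (α ((α ^ k) t) * ((α ^ k) t)⁻¹) * ((α ^ k) t * t⁻¹) := by
          rw [pow_succ', MulAut.mul_apply]; group
        rw [e, map_mul, map_mul, map_inv, hαj]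
        exact D.mul_mem (Subgroup.subset_closure ⟨_, ⟨_, rfl⟩, rfl⟩) (ih t)
    have hle : ∀ a : T, a ∈ Subgroup.closure {y : ↥T | ∃ ψ ∈ Subgroup.zpowers α, ∃ t : ↥T, y = ψ t * t⁻¹} →
        j a ∈ D := by
      intro a ha
      refine ((Subgroup.closure_le (D.comap j)).2 ?_) ha
      rintro _ ⟨ψ, hψ, t, rfl⟩
      obtain ⟨k, rfl⟩ := hfin.mem_powers_iff_mem_zpowers.2 hψ
      exact hgen k t
    intro a b ha hb ha1 hb1
    obtain ⟨k, hk⟩ := htr _ (hle a ha) _ (hle b hb) (fun e => ha1 (hj (e.trans (map_one j).symm)))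
      (fun e => hb1 (hj (e.trans (map_one j).symm)))
    exact ⟨α ^ k, Subgroup.npow_mem_zpowers α k, hj (by rw [hpow, hk])⟩

/-- A central subgroup of `S` stabilized by the normalizer system of `J(S)` is weakly closed or has a torus. -/
theorem weaklyClosed_or_hasAutTorus (hS : IsPGroup p S) (hF : F.IsSaturated p) (h2 : p ≠ 2) {T : Subgroup Ω}
    (hT : T ≤ S ⊓ Subgroup.centralizer (S : Set Ω))
    (hJ : AutStab F T (thompsonSubgroupAOf S)) : F.WeaklyClosed T ∨ HasAutTorus F p T := by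
  by_cases hX : HasAutTorus F p T
  · exact .inr hX
  refine .inl ?_
  have hTS : T ≤ S := hT.trans inf_le_left
  haveI : Finite T := finite_of_le hTS
  have hTc : ∀ t ∈ T, ∀ s ∈ S, Commute t s := fun t ht s hs =>
    (Subgroup.mem_centralizer_iff.1 (hT ht).2 s hs).symm
  have hTN : normalizerIn S T = S := le_antisymm (normalizerIn_le _) fun g hg =>
    ⟨hg, Subgroup.centralizer_le_normalizer _
      (Subgroup.mem_centralizer_iff.2 fun t ht => (hTc t ht g hg).eq)⟩
  obtain ⟨E₀, hE₀⟩ := exists_normalizerSystem F hTS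
  obtain ⟨E, hE⟩ := exists_copy hTN E₀
  have hEst : ∀ R, ∀ φ ∈ E.Hom R, ∀ x ∈ T, ∀ hx : x ∈ R, φ ⟨x, hx⟩ ∈ T := by
    intro R φ hφ x hxT hx
    rw [hE, hE₀] at hφ
    obtain ⟨-, -, -, ψ, -, hψe, hψQ⟩ := hφ
    rw [← hψe ⟨x, hx⟩]
    exact hψQ.le ⟨_, hxT, rfl⟩
  have hcT : ∀ U : Subgroup Ω, F.IsCentric U → T ≤ U := fun U hU t ht =>
    hU.2 U (isConj_refl F hU.1) (mem_centralizerIn.2 ⟨hTS ht, fun y hy => (hTc t ht y (hU.1 hy)).eq⟩)
  have hJS : thompsonSubgroupAOf S ≤ S := thompsonAOf_le S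
  have hle : F ≤ E := by
    refine le_of_autGroup_le' hS hF E fun P hP hbigE α hα => ?_
    have hPS : P ≤ S := by rcases hP with rfl | hP; exacts [le_rfl, hP.1.1]
    have hTP : T ≤ P := by rcases hP with rfl | hP; exacts [hTS, hcT P hP.1]
    suffices hst : ∀ x ∈ T, ∀ hx : x ∈ P, ((α ⟨x, hx⟩ : P) : Ω) ∈ T by
      refine (mem_autGroup hPS).2 ?_
      show _ ∈ E.Hom P
      have hi := (mem_autGroup hPS).1 hα
      rw [hE, hE₀]
      refine ⟨hi, hTN.symm ▸ hPS, fun y => hTN.symm ▸ hom_mem hi y, _,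
        restrict_mem hi (sup_le le_rfl hTP), fun y => rfl, ?_⟩
      refine Subgroup.eq_of_le_of_card_ge (H := Subgroup.map _ _) (K := T) ?_ ?_
      · rintro _ ⟨y, hy, rfl⟩
        exact hst y hy _
      · rw [Subgroup.card_map_of_injective (F.injective_of_mem (restrict_mem hi (sup_le le_rfl hTP))),
          Nat.card_congr (Subgroup.subgroupOfEquivOfLe (le_sup_right : T ≤ P ⊔ T)).toEquiv]
    by_cases hPtop : P = S
    · subst hPtop
      intro x hxT hxP
      have hn := Subgroup.characteristic_iff_map_eq.1 (thompsonAOf_char P) α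
      have hmem : ∀ y ∈ thompsonSubgroupAOf P, ∀ hy : y ∈ P,
          ((α ⟨y, hy⟩ : P) : Ω) ∈ thompsonSubgroupAOf P := fun y hy hyP =>
        hn.le ⟨⟨y, hyP⟩, hy, rfl⟩
      have hi := restrict_mem ((mem_autGroup hPS).1 hα) hJS
      have hr := range_eq_of_card_le hi hJS (fun y => hmem y y.2 _) le_rfl
      exact hJ (homIso hi hr) ((mem_autGroup hJS).2 (isoIn_homIso hi hr)) x hxT
        (mem_thompsonAOf hxP (hTc x hxT))
    have hPe : F.IsEssential p P := hP.resolve_left hPtop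
    haveI := finite_of_le hPS
    have hPN : Nat.card P < Nat.card (normalizerIn S P) := by
      haveI := finite_of_le (normalizerIn_le (S := S) P)
      refine lt_of_not_ge fun h => (lt_normalizerIn hS (lt_of_le_of_ne hPS hPtop)).ne ?_
      exact Subgroup.eq_of_le_of_card_ge (le_normalizerIn hPS) h
    suffices key : ∀ (m : ℕ) (U : Subgroup Ω), F.IsFullyNormalized U → F.IsCentric U →
        Nat.card P < Nat.card (normalizerIn S U) → Nat.card S < Nat.card (normalizerIn S U) + m →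
        AutStab F T U from key (Nat.card S + 1) P hPe.2.1 hPe.1 hPN (by omega) α hα
    intro m
    induction m with
    | zero =>
      intro U _ _ _ hlt
      exact absurd (Subgroup.card_le_of_le (normalizerIn_le (S := S) U)) (by omega)
    | succ m ih =>
      intro U hUn hUc hUP hlt β hβ x hxT hxU
      obtain ⟨N, hN, L, hLg, ι, hL⟩ := exists_normalizer_model.{u} hS hF hUn hUc
      haveI := hL.1
      obtain ⟨Ts, hTs⟩ := id hL.2.2.1
      let R := normalizerIn S U
      have hRc : Nat.card R = Nat.card (normalizerIn S U) := rfl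
      have hRS : R ≤ S := normalizerIn_le U
      haveI := finite_of_le hRS
      have hUR : U ≤ R := le_normalizerIn hUn.1
      have hTU : T ≤ U := hcT U hUc
      haveI : (imageOf ι U).Normal := imageOf_normal hL (isNormal_normalizerSystem hUn.1 hN)
      set V := (Subgroup.center ↥(imageOf ι U)).map (imageOf ι U).subtype with hVdef
      haveI : V.Normal := Cfsg.Lib.Core.normal_map_char_of_normal _
      have hinj := hL.2.1.1
      let j : T →* L := ι.comp (Subgroup.inclusion (hTU.trans hUR))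
      have hjinj : Function.Injective j := hinj.comp (Subgroup.inclusion_injective _)
      have hJR : thompsonSubgroupAOf R ≤ R := thompsonAOf_le R
      have hJimg : thompsonSubgroupAOf (Ts : Subgroup L) = imageOf ι (thompsonSubgroupAOf R) := by
        rw [hTs, MonoidHom.range_eq_map, ← map_thompsonAOf ι ⊤ hinj.injOn, imageOf]
        congr 1
        refine Subgroup.map_injective R.subtype_injective ?_
        rw [Subgroup.map_subgroupOf_eq_of_le hJR, map_thompsonAOf R.subtype ⊤ R.subtype_injective.injOn,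
          ← MonoidHom.range_eq_map, Subgroup.range_subtype]
      have hTJ : T ≤ thompsonSubgroupAOf R := fun t ht =>
        mem_thompsonAOf (hUR (hTU ht)) fun r hr => hTc t ht r (hRS hr)
      have hJst : AutStab F T (thompsonSubgroupAOf R) := by
        by_cases hRtop : R = S
        · rw [hRtop]; exact hJ
        refine autStab_transfer hS hF (n := Nat.card R + 1) (fun R' hR φ hφ => ?_)
          (fun W hWn hWc hW => ih W hWn hWc (by omega) (by omega)) (hJR.trans hRS) hTJ ?_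
        · exact hEst R' φ (hbigE R' (by omega) hφ)
        · have h1 : normalizerIn S R ≤ normalizerIn S (thompsonSubgroupAOf R) := fun g hg =>
            ⟨hg.1, le_normalizer_of_char hJR (thompsonAOf_char R) hg.2⟩
          haveI := finite_of_le (normalizerIn_le (S := S) R)
          haveI := finite_of_le (normalizerIn_le (S := S) (thompsonSubgroupAOf R))
          refine le_trans ?_ (Subgroup.card_le_of_le h1)
          refine Nat.succ_le_of_lt (lt_of_not_ge fun h => (lt_normalizerIn hS (lt_of_le_of_ne hRS hRtop)).ne ?_)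
          exact Subgroup.eq_of_le_of_card_ge (le_normalizerIn hRS) h
      have hnorm : Subgroup.normalizer (thompsonSubgroupAOf (Ts : Subgroup L) : Set L) ≤
          Subgroup.normalizer (j.range : Set L) := by
        intro y hy
        rw [hJimg] at hy
        refine Subgroup.mem_normalizer_fintype ?_
        rintro _ ⟨t, rfl⟩
        have hmem : ∀ a : thompsonSubgroupAOf R,
            y * ι ⟨a, hJR a.2⟩ * y⁻¹ ∈ imageOf ι (thompsonSubgroupAOf R) := fun a =>
          (Subgroup.mem_normalizer_iff.1 hy _).1 (mem_imageOf.2 ⟨⟨a, hJR a.2⟩, a.2, rfl⟩)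
        obtain ⟨φ, hφ, hφe⟩ := exists_hom_of_realized hL.2.1 hJR y fun a => by
          obtain ⟨b, -, hb⟩ := mem_imageOf.1 (hmem a)
          exact ⟨b, hb⟩
        have hv : ∀ a, φ a ∈ thompsonSubgroupAOf R := fun a => by
          obtain ⟨b, hb, hbe⟩ := mem_imageOf.1 (hmem a)
          have h1 : b = ⟨φ a, hom_mem hφ a⟩ := hinj (hbe.trans (hφe a).symm)
          rwa [h1] at hb
        have hφF := subset_of_normalizerSystem hN hφ
        have hr := range_eq_of_card_le hφF (hJR.trans hRS) hv le_rfl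
        have h1 := hJst (homIso hφF hr) ((mem_autGroup (hJR.trans hRS)).2 (isoIn_homIso hφF hr)) t t.2 (hTJ t.2)
        exact ⟨⟨_, h1⟩, hφe ⟨t, hTJ t.2⟩⟩
      have hjV : j.range ≤ V := by
        rintro _ ⟨t, rfl⟩
        refine ⟨⟨_, mem_imageOf.2 ⟨⟨t, hUR (hTU t.2)⟩, hTU t.2, rfl⟩⟩, Subgroup.mem_center_iff.2 fun b => ?_, rfl⟩
        obtain ⟨c, hc, hce⟩ := mem_imageOf.1 b.2
        apply Subtype.ext
        show (b : L) * ι _ = ι _ * (b : L)
        rw [← hce, ← map_mul, ← map_mul]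
        exact congrArg ι (Subtype.ext (hTc t t.2 c (hRS c.2)).symm.eq)
      have hVp : IsPGroup p V := by
        refine (Ts.isPGroup'.to_le ?_)
        rw [hTs]
        rintro _ ⟨w, -, rfl⟩
        obtain ⟨c, -, hc⟩ := mem_imageOf.1 w.2
        exact ⟨c, hc⟩
      have hVc : IsMulCommutative ↥V := ⟨⟨fun a b => Subtype.ext (by
        obtain ⟨a', ha', ea⟩ := a.2
        obtain ⟨b', -, eb⟩ := b.2
        show (a : L) * b = b * a
        rw [← ea, ← eb, ← map_mul, ← map_mul, Subgroup.mem_center_iff.1 ha' b'])⟩⟩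
      rcases Cfsg.Lib.Local.BlockTorus.normal_or_hasTwist h2 Ts j.range V hVc hVp hjV
        (fun t ht u hu => by
          rw [hTs] at hu
          obtain ⟨c, rfl⟩ := hu
          obtain ⟨t, rfl⟩ := ht
          exact (show Commute c (Subgroup.inclusion (hTU.trans hUR) t) from
            Subtype.ext (hTc t t.2 c (hRS c.2)).symm.eq).map ι)
        hnorm with h | h
      · have hβi := (mem_autGroup hUn.1).1 hβ
        have hβN : U.subtype.comp β.toMonoidHom ∈ N.Hom U :=
          mem_normalizerSystem_of_le hN hβi le_rfl hUR (by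
            rw [Subgroup.subgroupOf_self, ← MonoidHom.range_eq_map]
            exact range_eq_of_card_le hβi hUn.1 (fun a => (β a).2) le_rfl)
        obtain ⟨y, hy⟩ := exists_of_realized hL.2.1 hβN
        obtain ⟨t', ht'⟩ := (Subgroup.mem_normalizer_iff.1 (h.ge (Subgroup.mem_top y)) (j ⟨x, hxT⟩)).1 ⟨_, rfl⟩
        have h1 : ι (Subgroup.inclusion (hTU.trans hUR) t') =
            ι ⟨(β ⟨x, hxU⟩ : U), hom_mem hβN ⟨x, hxU⟩⟩ := ht'.trans (hy ⟨x, hxU⟩).symm
        have h2 : (t' : Ω) = ((β ⟨x, hxU⟩ : U) : Ω) := congrArg (fun w : normalizerIn S U => (w : Ω)) (hinj h1)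
        rw [← h2]
        exact t'.2
      · refine absurd (hasAutTorus_of_twist (F := F) j hjinj h fun n hn => ?_) hX
        have hmem : ∀ t : T, n * j t * n⁻¹ ∈ j.range := fun t =>
          (Subgroup.mem_normalizer_iff.1 hn _).1 ⟨t, rfl⟩
        obtain ⟨φ, hφ, hφe⟩ := exists_hom_of_realized hL.2.1 (hTU.trans hUR) n fun t => by
          obtain ⟨b, hb⟩ := hmem t
          exact ⟨_, hb⟩
        have hv : ∀ a, φ a ∈ T := fun a => by
          obtain ⟨b, hbe⟩ := hmem a
          have h1 : Subgroup.inclusion (hTU.trans hUR) b = ⟨φ a, hom_mem hφ a⟩ :=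
            hinj (hbe.trans (hφe a).symm)
          have h2 : (b : Ω) = φ a := congrArg Subtype.val h1
          rw [← h2]
          exact b.2
        have hφF := subset_of_normalizerSystem hN hφ
        have hr := range_eq_of_card_le hφF hTS hv le_rfl
        exact ⟨homIso hφF hr, (mem_autGroup hTS).2 (isoIn_homIso hφF hr), fun t => hφe t⟩
  refine ⟨hTS, fun φ hφ => range_eq_of_card_le hφ hTS (fun y => ?_) le_rfl⟩
  exact hEst T φ (hle T hφ) y y.2 y.2

/-- The hypothesis on normalizer systems gives the stability of `T` under the automizer of `J(S)`. -/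
theorem autStab_of_normalizerSystem {T : Subgroup Ω} (hTS : T ≤ S)
    (hJT : ∀ NJ : FusionSystem (normalizerIn S (thompsonSubgroupAOf S)),
      F.IsNormalizerSystem (thompsonSubgroupAOf S) NJ → ∀ NT : FusionSystem (normalizerIn S T),
        F.IsNormalizerSystem T NT → NJ.IsSubsystemOf NT) :
    AutStab F T (thompsonSubgroupAOf S) := by
  have hJS : thompsonSubgroupAOf S ≤ S := thompsonAOf_le S
  obtain ⟨NJ, hNJ⟩ := exists_normalizerSystem F hJS
  obtain ⟨NT, hNT⟩ := exists_normalizerSystem F hTS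
  intro α hα x hxT hxJ
  have hi := (mem_autGroup hJS).1 hα
  have hm := hJT NJ hNJ NT hNT _ (mem_normalizerSystem_of_le hNJ hi le_rfl (le_normalizerIn hJS) (by
    rw [Subgroup.subgroupOf_self, ← MonoidHom.range_eq_map]
    exact range_eq_of_card_le hi hJS (fun a => (α a).2) le_rfl))
  rw [hNT] at hm
  obtain ⟨-, -, -, ψ, -, hψe, hψQ⟩ := hm
  have h1 := hψe ⟨x, hxJ⟩
  have h2 := hψQ.le ⟨Subgroup.inclusion le_sup_left (⟨x, hxJ⟩ : thompsonSubgroupAOf S), hxT, rfl⟩
  rw [h1] at h2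
  exact h2

end Cfsg.Lib.FusionSys
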