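import Cfsg.Agent.Lib.FusionSys.Transfer

/-!
# Transfer of a saturated fusion system along a class function
-/

set_option autoImplicit false

universe u v

namespace Cfsg.Lib.FusionSys

open Cfsg Cfsg.FusionSystem
open MulAction

variable {Ω : Type u} [Group Ω] {S : Subgroup Ω} {F : FusionSystem S}

/-- Elements whose images all have the same value under `f` are sent by the transfer to a power of
that value. -/
theorem exists_transfer_class [Finite S] {p : ℕ} [Fact p.Prime] (hS : IsPGroup p S)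
    (hF : F.IsSaturated p) {M : Type v} [CommGroup M] (f : S →* M) (Z : Subgroup S)
    (hZ : ∀ z ∈ Z, ∀ (P : Subgroup Ω) (φ : P →* Ω) (hφ : φ ∈ F.Hom P),
      ∀ y : P, (y : Ω) = (z : Ω) → f ⟨φ y, hom_mem hφ y⟩ = f z) :
    ∃ (D : S →* M) (m : ℕ), ¬ p ∣ m ∧
      (∀ (P : Subgroup Ω) (φ : P →* Ω) (hφ : φ ∈ F.Hom P) (x : P),
        D ⟨φ x, hom_mem hφ x⟩ = D ⟨x, hom_le hφ x.2⟩) ∧
      ∀ z ∈ Z, D z = ((f z)⁻¹) ^ m := by
  classical
  obtain ⟨X, _, _, hX, hst, m, hm, hpm⟩ := exists_biset hS hF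
  haveI : Fintype (Quotient (rightSetoid S X)) := Fintype.ofFinite _
  set K := Z.prod (⊤ : Subgroup S)
  let χ : K →* M := (f.comp ((MonoidHom.fst S S).comp K.subtype))⁻¹ *
    f.comp ((MonoidHom.snd S S).comp K.subtype)
  obtain ⟨g, hg⟩ := exists_equivariant (X := X) χ fun k x hk => by
    have hb : f k.1.2 = f k.1.1 := by
      obtain ⟨Q, P, φ, hφ, -, hD⟩ := hX x
      have h1 : (k.1.1, k.1.2) ∈ stabilizer (↥S × ↥S) x := hk
      rw [← hD, mem_graph] at h1
      obtain ⟨y, hy1, hy2⟩ := h1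
      rw [← hZ _ (Subgroup.mem_prod.1 k.2).1 P φ hφ y hy1.symm]
      exact congrArg f (Subtype.ext hy2)
    show (f k.1.1)⁻¹ * f k.1.2 = 1
    rw [hb, inv_mul_cancel]
  have hg1 : ∀ (t : S) (x : X), g (((1 : S), t) • x) = f t * g x := fun t x => by
    refine (hg ⟨(1, t), Z.one_mem, trivial⟩ x).trans ?_
    show (f 1)⁻¹ * f t * g x = _
    rw [map_one, inv_one, one_mul]
  refine ⟨bisetTransfer f g hg1, m, hpm, fun P φ hφ x => ?_, fun z hz => ?_⟩
  · exact bisetTransfer_conj hX hst f g hg1 (isoIn_homIso hφ rfl) x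
  · have hq : ∀ q, ratioAt f g hg1 z q = (f z)⁻¹ := by
      intro q
      induction q using Quotient.inductionOn with
      | h x =>
        show g ((z, (1 : S)) • x) / g x = _
        rw [show g ((z, (1 : S)) • x) = _ from hg ⟨(z, 1), hz, trivial⟩ x]
        show (f z)⁻¹ * f 1 * g x / g x = _
        rw [map_one, mul_one, mul_div_cancel_right]
    show ∏ q, ratioAt f g hg1 z q = _
    rw [Finset.prod_congr rfl fun q _ => hq q, Finset.prod_const, Finset.card_univ,
      ← Nat.card_eq_fintype_card]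
    congr 1
    exact Nat.eq_of_mul_eq_mul_right Nat.card_pos ((card_eq_orbits_mul hX).symm.trans hm)

/-- If every map moves the elements of `Q` within their classes in `S`, the focal subgroup meets
`Q` in the derived group. -/
theorem focal_inf_le_commutator [Finite S] {p : ℕ} [Fact p.Prime] (hS : IsPGroup p S)
    (hF : F.IsSaturated p) {Q : Subgroup Ω}
    (hQ : ∀ q ∈ Q, ∀ (P : Subgroup Ω) (φ : P →* Ω), φ ∈ F.Hom P → ∀ y : P, (y : Ω) = q →
      ∃ s ∈ S, φ y = s * q * s⁻¹) :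
    F.focalSubgroup ⊓ Q ≤ ⁅S, S⁆ := by
  rintro z ⟨hzf, hzQ⟩
  obtain ⟨D, m, hpm, hD, hDZ⟩ := exists_transfer_class hS hF (Abelianization.of (G := S))
    (Q.subgroupOf S) fun w hw P φ hφ y hy => by
      obtain ⟨s, hs, he⟩ := hQ w hw P φ hφ y hy
      rw [show (⟨φ y, hom_mem hφ y⟩ : S) = ⟨s, hs⟩ * w * ⟨s, hs⟩⁻¹ from Subtype.ext he, map_mul,
        map_mul, map_inv, mul_inv_cancel_comm]
  have hker : F.focalSubgroup ≤ D.ker.map S.subtype := by
    refine (Subgroup.closure_le _).2 ?_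
    rintro _ ⟨P, φ, x, hφ, rfl⟩
    refine ⟨⟨x, hom_le hφ x.2⟩⁻¹ * ⟨φ x, hom_mem hφ x⟩, ?_, rfl⟩
    show D _ = 1
    rw [map_mul, map_inv, hD P φ hφ x, inv_mul_cancel]
  obtain ⟨w, hw, hwz⟩ := hker hzf
  have hwZ : w ∈ Q.subgroupOf S := by
    show S.subtype w ∈ Q
    rw [hwz]
    exact hzQ
  have h1 := hDZ w hwZ
  rw [show D w = 1 from hw, inv_pow, eq_comm, inv_eq_one] at h1
  obtain ⟨k, hk⟩ := hS w
  have h2 : Abelianization.of w ^ (p ^ k) = 1 := by rw [← map_pow, hk, map_one]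
  have h3 : Abelianization.of w = 1 := by
    have h4 := pow_gcd_eq_one.2 ⟨h1, h2⟩
    rwa [Nat.Coprime.pow_right k ((Nat.Prime.coprime_iff_not_dvd Fact.out).2 hpm).symm,
      pow_one] at h4
  have h5 : w ∈ commutator S := by
    rw [← Abelianization.ker_of]
    exact h3
  rw [← hwz]
  have h6 := Subgroup.mem_map_of_mem S.subtype h5
  rwa [commutator_def, Subgroup.map_commutator, ← MonoidHom.range_eq_map,
    Subgroup.range_subtype] at h6

end Cfsg.Lib.FusionSys
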