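import Cfsg.Agent.Lib.FusionSys.TransferClass
import Cfsg.Agent.Lib.FusionSys.FunctorGenerated
import Mathlib.GroupTheory.Focal

/-!
# Control of transfer by a characteristic functor in fusion systems
-/

set_option autoImplicit false
set_option linter.style.haveILetI false

universe u

namespace Cfsg.Lib.FusionSys

open Cfsg Cfsg.FusionSystem
open scoped commutatorElement

variable {p : ℕ} {Ω : Type u} [Group Ω] {S : Subgroup Ω}

/-- The focal subgroup of the normalizer of `W S`. -/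
def nFocal (F : FusionSystem S) (W : ∀ (Q : Type u) [Group Q], Subgroup Q) : Subgroup Ω :=
  Subgroup.closure {y : Ω | ∃ (P : Subgroup Ω) (φ : P →* Ω) (x : P),
    φ ∈ F.normalizerHom (functorOf W S) P ∧ y = (x : Ω)⁻¹ * φ x}

/-- All maps move elements only within the cosets of the focal subgroup of the normalizer of `W S`. -/
def FocalBound (F : FusionSystem S) (W : ∀ (Q : Type u) [Group Q], Subgroup Q) : Prop :=
  ∀ (P : Subgroup Ω), ∀ φ ∈ F.Hom P, ∀ x : P, (x : Ω)⁻¹ * φ x ∈ nFocal F W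

theorem nFocal_le_focal (F : FusionSystem S) (W : ∀ (Q : Type u) [Group Q], Subgroup Q) :
    nFocal F W ≤ F.focalSubgroup := Subgroup.closure_mono (by
  rintro _ ⟨P, φ, x, hφ, rfl⟩
  exact ⟨P, φ, x, hφ.1, rfl⟩)

theorem nFocal_mono {F G : FusionSystem S} (h : G ≤ F) (W : ∀ (Q : Type u) [Group Q], Subgroup Q) :
    nFocal G W ≤ nFocal F W := Subgroup.closure_mono (by
  rintro _ ⟨P, φ, x, ⟨hφ, hP, hv, ψ, hψ, hψe, hψW⟩, rfl⟩
  exact ⟨P, φ, x, ⟨h P hφ, hP, hv, ψ, h _ hψ, hψe, hψW⟩, rfl⟩)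

variable [Finite S] [Fact p.Prime]

theorem commutator_le_nFocal (hS : IsPGroup p S) (F : FusionSystem S)
    (W : ∀ (Q : Type u) [Group Q], Subgroup Q)
    (hW2 : ∀ (Q R : Type u) [Group Q] [Group R] [Finite Q], IsPGroup p Q →
      ∀ φ : Q ≃* R, (W Q).map φ.toMonoidHom = W R) : ⁅S, S⁆ ≤ nFocal F W := by
  obtain ⟨hWS, hchar⟩ := functorOf_char W hW2 S hS
  have hn : S ≤ Subgroup.normalizer (functorOf W S : Set Ω) :=
    Subgroup.le_normalizer.trans (le_normalizer_of_char hWS hchar)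
  refine Subgroup.commutator_le.2 fun a ha b hb => ?_
  refine Subgroup.subset_closure ⟨S, conjHom S b, ⟨a⁻¹, S.inv_mem ha⟩, ⟨F.conj_mem le_rfl hb, ?_, ?_,
    _, F.conj_mem (sup_le le_rfl hWS) hb, fun _ => rfl, ?_⟩, ?_⟩
  · rw [normalizerIn_eq_self hn]
  · intro x
    rw [normalizerIn_eq_self hn]
    exact hom_mem (F.conj_mem le_rfl hb) x
  · exact range_restrict_eq (F := F) hWS (F.conj_mem (sup_le le_rfl hWS) hb) le_sup_right
      fun y hy => (Subgroup.mem_normalizer_iff.1 (hn hb) y).1 hy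
  · show a * b * a⁻¹ * b⁻¹ = a⁻¹⁻¹ * (b * a⁻¹ * b⁻¹)
    simp [mul_assoc]

/-- The maps moving elements within cosets of `R`. -/
theorem exists_cosetSystem (F : FusionSystem S) (R : Subgroup Ω) (hR : ⁅S, S⁆ ≤ R) :
    ∃ D : FusionSystem S, ∀ P, D.Hom P = {φ | φ ∈ F.Hom P ∧ ∀ x : P, (x : Ω)⁻¹ * φ x ∈ R} := by
  refine ⟨{
    Hom := fun P => {φ | φ ∈ F.Hom P ∧ ∀ x : P, (x : Ω)⁻¹ * φ x ∈ R}
    le_of_mem := fun h => F.le_of_mem h.1
    injective_of_mem := fun h => F.injective_of_mem h.1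
    conj_mem := fun {P g} hP hg => ⟨F.conj_mem hP hg, fun x => hR ?_⟩
    comp_mem := ?_
    inv_mem := ?_ }, fun _ => rfl⟩
  · have h := Subgroup.commutator_mem_commutator (S.inv_mem (hP x.2)) hg
    have heq : (x : Ω)⁻¹ * (g * x * g⁻¹) = ⁅(x : Ω)⁻¹, g⁆ := by
      rw [commutatorElement_def]
      simp [mul_assoc]
    show (x : Ω)⁻¹ * (g * x * g⁻¹) ∈ _
    rwa [heq]
  · rintro P Q φ ψ ⟨hφ, hφR⟩ ⟨hψ, hψR⟩ h
    refine ⟨F.comp_mem hφ hψ h, fun x => ?_⟩
    have h1 := R.mul_mem (hφR x) (hψR ⟨φ x, h x⟩)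
    rw [mul_assoc, mul_inv_cancel_left] at h1
    exact h1
  · rintro P φ ⟨hφ, hφR⟩
    obtain ⟨ψ, hψ, hψe⟩ := F.inv_mem hφ
    refine ⟨ψ, ⟨hψ, ?_⟩, hψe⟩
    rintro ⟨_, x, rfl⟩
    rw [hψe]
    simpa using R.inv_mem (hφR x)

/-- If a map `χ` of `D` carries `W₀` to `W₂`, the normalizer of `W₀` follows that of `W₂` into `D`. -/
theorem normalizerHom_subset_of_push {F D : FusionSystem S} {W₀ W₂ : Subgroup Ω}
    (hW₀ : W₀ ≤ S) (hW₂ : W₂ ≤ S) {χ : normalizerIn S W₀ →* Ω}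
    (hχ : χ ∈ F.Hom (normalizerIn S W₀)) (hχD : χ ∈ D.Hom (normalizerIn S W₀))
    (hχv : ∀ x, χ x ∈ normalizerIn S W₂) (hχW : (W₀.subgroupOf (normalizerIn S W₀)).map χ = W₂)
    (h : ∀ R, F.normalizerHom W₂ R ⊆ D.Hom R) : ∀ R, F.normalizerHom W₀ R ⊆ D.Hom R := by
  rintro R φ ⟨hφ, hR, -, ψ, hψ, hψe, hψW⟩
  have hX : (R ⊔ W₀ : Subgroup Ω) ≤ normalizerIn S W₀ := sup_le hR (le_normalizerIn hW₀)
  have hψv : ∀ x : (R ⊔ W₀ : Subgroup Ω), ψ x ∈ normalizerIn S W₀ := fun x => by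
    refine ⟨hom_mem hψ x, ?_⟩
    have h1 := map_mem_normalizer (Q := W₀) ψ x (hX x.2).2
    rwa [hψW] at h1
  let cX : (R ⊔ W₀ : Subgroup Ω) →* Ω := χ.comp (Subgroup.inclusion hX)
  have hcX : cX ∈ F.Hom (R ⊔ W₀ : Subgroup Ω) := restrict_mem hχ hX
  have hcXD : cX ∈ D.Hom (R ⊔ W₀ : Subgroup Ω) := restrict_mem hχD hX
  obtain ⟨η, hη, hηr, hηe⟩ := exists_inv hcX (rfl : cX.range = cX.range)
  have hηv : ∀ y, η y ∈ (R ⊔ W₀ : Subgroup Ω) := fun y => hηr.le ⟨y, rfl⟩
  have h1 := F.comp_mem hη hψ hηv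
  set θ₁ := ψ.comp (η.codRestrict (R ⊔ W₀ : Subgroup Ω) hηv)
  have hθ₁v : ∀ y, θ₁ y ∈ normalizerIn S W₀ := fun y => hψv _
  have h2 := F.comp_mem h1 hχ hθ₁v
  set θ := χ.comp (θ₁.codRestrict (normalizerIn S W₀) hθ₁v)
  have hθe : ∀ x : (R ⊔ W₀ : Subgroup Ω), θ ⟨cX x, x, rfl⟩ = χ ⟨ψ x, hψv x⟩ := fun x => by
    show χ ⟨ψ ⟨η ⟨cX x, _⟩, _⟩, _⟩ = _
    congr 2
    exact congrArg (fun z : (R ⊔ W₀ : Subgroup Ω) => ψ z) (Subtype.ext (hηe x ⟨x, rfl⟩))
  have hW₂le : W₂ ≤ cX.range := by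
    intro z hz
    obtain ⟨x, hx, hxW, rfl⟩ := mem_map_subgroupOf.1 (hχW.ge hz)
    exact ⟨⟨x, Subgroup.mem_sup_right hxW⟩, rfl⟩
  have hθD : θ ∈ D.Hom cX.range := by
    refine h _ ⟨h2, fun z hz => ?_, fun y => hχv _, _, restrict_mem h2 (sup_le le_rfl hW₂le),
      fun _ => rfl, ?_⟩
    · obtain ⟨x, rfl⟩ := hz
      exact hχv _
    · refine range_restrict_eq (F := F) hW₂ (restrict_mem h2 (sup_le le_rfl hW₂le)) le_sup_right ?_
      intro z hz
      obtain ⟨x, hx, hxW, rfl⟩ := mem_map_subgroupOf.1 (hχW.ge hz)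
      show θ ⟨cX ⟨x, Subgroup.mem_sup_right hxW⟩, _⟩ ∈ W₂
      rw [hθe]
      exact hχW.le (mem_map_subgroupOf.2 ⟨_, _,
        hψW.le (mem_map_subgroupOf.2 ⟨x, _, hxW, rfl⟩), rfl⟩)
  obtain ⟨ζ, hζ, -, hζe⟩ := exists_inv hχD (rfl : χ.range = χ.range)
  have h3 := D.comp_mem hcXD hθD fun x => ⟨x, rfl⟩
  have hv3 : ∀ x : (R ⊔ W₀ : Subgroup Ω), θ ⟨cX x, x, rfl⟩ ∈ χ.range := fun x => by
    rw [hθe]; exact ⟨_, rfl⟩
  have h4 := D.comp_mem h3 hζ hv3
  refine hom_congr (restrict_mem (Q := R) h4 le_sup_left) fun x => ?_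
  rw [← hψe x]
  symm
  set y := Subgroup.inclusion (le_sup_left : R ≤ (R ⊔ W₀ : Subgroup Ω)) x
  show ζ ⟨θ ⟨cX y, y, rfl⟩, _⟩ = ψ y
  exact (congrArg ζ (Subtype.ext (hθe y))).trans (hζe ⟨ψ y, hψv y⟩ ⟨_, rfl⟩)

/-- The focal subgroup is bounded modulo a normal subgroup, by the theorem for the factor system. -/
theorem focal_le_mod (m : ℕ) (W : ∀ (Q : Type u) [Group Q], Subgroup Q)
    (hW1 : ∀ (Q : Type u) [Group Q] [Finite Q], IsPGroup p Q → Nontrivial Q → W Q ≠ ⊥)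
    (hW2 : ∀ (Q R : Type u) [Group Q] [Group R] [Finite Q], IsPGroup p Q →
      ∀ φ : Q ≃* R, (W Q).map φ.toMonoidHom = W R)
    (ihn : ∀ (Ω : Type u) [Group Ω] (S : Subgroup Ω) [Finite S], IsPGroup p S → Nat.card S ≤ m →
      ∀ F : FusionSystem S, F.IsSaturated p → FocalBound F W)
    (hS : IsPGroup p S) (hm : Nat.card S ≤ m + 1) {G : FusionSystem S} (hG : G.IsSaturated p)
    {Q : Subgroup Ω} (hQ : G.IsNormal Q) (hQne : Q ≠ ⊥) (hQS : Q ≠ S)
    (ih : ∀ K : Subgroup Ω, Q ≤ K → K ≠ Q → K ≤ S → S ≤ Subgroup.normalizer (K : Set Ω) →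
      ∀ P, ∀ φ ∈ G.normalizerHom K P, ∀ x : P, (x : Ω)⁻¹ * φ x ∈ nFocal G W) :
    ∀ P, ∀ φ ∈ G.Hom P, ∀ x : P, ∃ r ∈ nFocal G W, r⁻¹ * ((x : Ω)⁻¹ * φ x) ∈ Q := by
  have hsc := isNormal_stronglyClosed hQ
  have hQn := stronglyClosed_le_normalizer hsc
  haveI : (Q.subgroupOf S).Normal := ⟨fun x hx g =>
    (Subgroup.mem_normalizer_iff.1 (hQn g.2) (x : Ω)).1 hx⟩
  set θ := QuotientGroup.mk' (Q.subgroupOf S) with hθdef
  have hker : ∀ s : S, θ s = 1 ↔ (s : Ω) ∈ Q := fun s => QuotientGroup.eq_one_iff s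
  set S' : Subgroup (S ⧸ Q.subgroupOf S) := ⊤ with hS'def
  have hrange : θ.range = S' := MonoidHom.range_eq_top.2 (QuotientGroup.mk'_surjective _)
  obtain ⟨E, hE⟩ := exists_factorSystem hsc hker hrange
  have hiff := hE.2.2.2
  have hS' : IsPGroup p S' := (hS.to_quotient _).to_subgroup _
  have hcard : Nat.card S' ≤ m := by
    rw [hS'def, Subgroup.card_top]
    have h1 := Subgroup.card_eq_card_quotient_mul_card_subgroup (Q.subgroupOf S)
    haveI := finite_of_le hQ.1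
    have h2 : 1 < Nat.card (Q.subgroupOf S) := by
      rw [Nat.card_congr (Subgroup.subgroupOfEquivOfLe hQ.1).toEquiv]
      exact (Subgroup.one_lt_card_iff_ne_bot Q).2 hQne
    nlinarith [Nat.card_pos (α := S ⧸ Q.subgroupOf S)]
  have hV := ihn _ S' hS' hcard E (isSaturated_factor hS hG hsc hE)
  -- the preimage of `W` of the factor
  set Wb := functorOf W S' with hWbdef
  obtain ⟨hWb, hWbchar⟩ := functorOf_char W hW2 S' hS'
  set K := preimageAlong θ Wb with hKdef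
  have hKS : K ≤ S := preimageAlong_le
  have hQK : Q ≤ K := kernel_le_preimageAlong hQ.1 hker
  have hWbn : S' ≤ Subgroup.normalizer (Wb : Set (S ⧸ Q.subgroupOf S)) :=
    Subgroup.le_normalizer.trans (le_normalizer_of_char hWb hWbchar)
  have hKn : S ≤ Subgroup.normalizer (K : Set Ω) := by
    intro g hg
    have key : ∀ g ∈ S, ∀ y ∈ K, g * y * g⁻¹ ∈ K := by
      intro g hg y hy
      obtain ⟨hyS, hyW⟩ := mem_preimageAlong.1 hy
      refine mem_preimageAlong.2 ⟨S.mul_mem (S.mul_mem hg hyS) (S.inv_mem hg), ?_⟩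
      rw [show (⟨g * y * g⁻¹, _⟩ : S) = ⟨g, hg⟩ * ⟨y, hyS⟩ * ⟨g, hg⟩⁻¹ from Subtype.ext rfl,
        map_mul, map_mul, map_inv]
      exact (Subgroup.mem_normalizer_iff.1 (hWbn (Subgroup.mem_top _)) _).1 hyW
    refine Subgroup.mem_normalizer_iff.2 fun y => ⟨key g hg y, fun h => ?_⟩
    simpa [mul_assoc] using key g⁻¹ (S.inv_mem hg) _ h
  have hKne : K ≠ Q := by
    intro he
    have hnt : S' ≠ ⊥ := by
      intro hbot
      refine hQS (le_antisymm hQ.1 fun s hs => (hker ⟨s, hs⟩).1 ?_)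
      exact Subgroup.mem_bot.1 (hbot.le (Subgroup.mem_top _))
    refine functorOf_ne_bot W hW1 S' hS' hnt (le_bot_iff.1 fun y hy => ?_)
    obtain ⟨z, rfl⟩ := QuotientGroup.mk'_surjective (Q.subgroupOf S) y
    exact Subgroup.mem_bot.2 ((hker z).2 (he.le (mem_preimageAlong.2 ⟨z.2, hy⟩)))
  have hKi := ih K hQK hKne hKS hKn
  have hNK : normalizerIn S K = S := normalizerIn_eq_self hKn
  -- the generators of the factor's bound
  have hgen : nFocal E W ≤ ((nFocal G W).subgroupOf S).map θ := by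
    refine (Subgroup.closure_le _).2 ?_
    rintro _ ⟨P', φ', x', ⟨-, -, -, ψ', hψ', hψe, hψW⟩, rfl⟩
    obtain ⟨hP'', φ, hφ, hind⟩ := (hiff _ _).1 hψ'
    let Y := preimageAlong θ (P' ⊔ Wb)
    have hYS : Y ≤ S := preimageAlong_le
    have hKY : K ≤ Y := fun y hy => by
      obtain ⟨hyS, hyW⟩ := mem_preimageAlong.1 hy
      exact mem_preimageAlong.2 ⟨hyS, Subgroup.mem_sup_right hyW⟩
    have hφK : φ ∈ G.normalizerHom K Y := by
      refine ⟨hφ, ?_, fun y => ?_, _, restrict_mem hφ (sup_le le_rfl hKY), fun _ => rfl, ?_⟩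
      · rw [hNK]; exact hYS
      · rw [hNK]; exact hom_mem hφ y
      · refine range_restrict_eq (F := G) hKS (restrict_mem hφ (sup_le le_rfl hKY)) le_sup_right ?_
        intro y hy
        obtain ⟨hyS, hyW⟩ := mem_preimageAlong.1 hy
        refine mem_preimageAlong.2 ⟨hom_mem hφ _, ?_⟩
        change θ ⟨φ ⟨y, hKY hy⟩, hom_mem hφ _⟩ ∈ Wb
        rw [
          ← inducedAlong_apply hind (x := ⟨y, hKY hy⟩) (hxS := hyS)
            (y := ⟨θ ⟨y, hyS⟩, Subgroup.mem_sup_right hyW⟩) rfl]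
        exact hψW.le (mem_map_subgroupOf.2 ⟨_, _, hyW, rfl⟩)
    obtain ⟨x₀, hx₀⟩ := QuotientGroup.mk'_surjective (Q.subgroupOf S) (x' : S ⧸ Q.subgroupOf S)
    have hx₀Y : (x₀ : Ω) ∈ Y := mem_preimageAlong.2 ⟨x₀.2, by
      show θ x₀ ∈ _
      rw [hθdef, hx₀]
      exact Subgroup.mem_sup_left x'.2⟩
    have h1 := hKi Y φ hφK ⟨x₀, hx₀Y⟩
    refine ⟨x₀⁻¹ * ⟨φ ⟨x₀, hx₀Y⟩, hom_mem hφ _⟩, h1, ?_⟩
    rw [map_mul, map_inv, ← inducedAlong_apply hind (x := ⟨x₀, hx₀Y⟩) (hxS := x₀.2)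
      (y := Subgroup.inclusion le_sup_left x') hx₀.symm, hψe, hθdef, hx₀]
  intro P φ hφ x
  obtain ⟨ψ, hψ, hψe, -⟩ := hQ.2 P φ hφ
  have hPS := hom_le hφ
  have hpre := preimageAlong_imageAlong hsc hker hPS
  set χ := ψ.comp (Subgroup.inclusion hpre.le)
  have hχ : χ ∈ G.Hom (preimageAlong θ (imageAlong θ P)) := restrict_mem hψ hpre.le
  obtain ⟨φ', hind⟩ := exists_induced hsc hker hrange (P' := imageAlong θ P) le_top hχ
  have hmem : φ' ∈ E.Hom (imageAlong θ P) := (hiff _ _).2 ⟨le_top, χ, hχ, hind⟩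
  have hxpre : (x : Ω) ∈ preimageAlong θ (imageAlong θ P) := hpre.ge (Subgroup.mem_sup_left x.2)
  obtain ⟨hxS, hxim⟩ := mem_preimageAlong.1 hxpre
  have h1 := hgen (hV _ φ' hmem ⟨_, hxim⟩)
  rw [inducedAlong_apply hind (x := ⟨x, hxpre⟩) (hxS := hxS) (y := ⟨_, hxim⟩) rfl
    (hx' := hom_mem hχ _)] at h1
  obtain ⟨r, hr, hre⟩ := h1
  change θ r = (θ ⟨x, hxS⟩)⁻¹ * θ _ at hre
  rw [← map_inv, ← map_mul] at hre
  refine ⟨(r : Ω), hr, ?_⟩
  have h2 := (hker (r⁻¹ * (⟨x, hxS⟩⁻¹ * ⟨χ ⟨x, hxpre⟩, hom_mem hχ _⟩))).1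
    (by rw [map_mul, map_inv, hre, inv_mul_cancel])
  rw [← hψe x]
  exact h2

/-- The hypothesis on groups of characteristic `p`. -/
def TransferLocal (p : ℕ) (W : ∀ (Q : Type u) [Group Q], Subgroup Q) : Prop :=
  ∀ (G : Type u) [Group G] [Finite G] (P : Sylow p G),
    Subgroup.centralizer ((pCore p G : Subgroup G) : Set G) ≤ pCore p G →
      pCore p G ⊓ commutator G = pCore p G ⊓
        (commutator ↥(Subgroup.normalizer (functorOf W (P : Subgroup G) : Set G))).map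
          (Subgroup.normalizer (functorOf W (P : Subgroup G) : Set G)).subtype

/-- In the constrained case the focal subgroup meets `Q` in the bound. -/
theorem focal_inf_le_of_model (W : ∀ (Q : Type u) [Group Q], Subgroup Q)
    (hW2 : ∀ (Q R : Type u) [Group Q] [Group R] [Finite Q], IsPGroup p Q →
      ∀ φ : Q ≃* R, (W Q).map φ.toMonoidHom = W R)
    (hT : TransferLocal p W) (hS : IsPGroup p S) {F : FusionSystem S} (hF : F.IsSaturated p)
    {Q : Subgroup Ω} (hQ : F.IsNormal Q) (hc : centralizerIn S Q ≤ Q) :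
    F.focalSubgroup ⊓ Q ≤ nFocal F W := by
  obtain ⟨L, hLg, ι, hL, -⟩ := exists_constrained_model.{u, 0} hS hF hQ hc
  haveI := hL.1
  obtain ⟨Ts, hTs⟩ := id hL.2.2.1
  obtain ⟨hWS, -⟩ := functorOf_char W hW2 S hS
  rintro z ⟨hzf, hzQ⟩
  have hfS : F.focalSubgroup ≤ ((commutator L).comap ι).map S.subtype := by
    refine (Subgroup.closure_le _).2 ?_
    rintro _ ⟨P, φ, x, hφ, rfl⟩
    obtain ⟨g, hg⟩ := exists_of_realized hL.2.1 hφ
    refine ⟨⟨x, hom_le hφ x.2⟩⁻¹ * ⟨φ x, hom_mem hφ x⟩, ?_, rfl⟩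
    show ι _ ∈ commutator L
    rw [map_mul, map_inv, hg x, _root_.commutator_def]
    have h := Subgroup.commutator_mem_commutator
      (Subgroup.mem_top (ι ⟨x, hom_le hφ x.2⟩)⁻¹) (Subgroup.mem_top g)
    rw [commutatorElement_def, inv_inv] at h
    convert h using 1
    group
  obtain ⟨w, hwc, rfl⟩ := hfS hzf
  haveI : (imageOf ι Q).Normal := imageOf_normal hL hQ
  have hwQ : ι w ∈ pCore p L := Cfsg.Lib.Core.le_pCore (N := imageOf ι Q)
    ((hS.to_subgroup _).map ι) (mem_imageOf.2 ⟨w, hzQ, rfl⟩)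
  have hJimg : functorOf W (Ts : Subgroup L) = imageOf ι (functorOf W S) := by
    rw [hTs, MonoidHom.range_eq_map, ← map_functorOf W hW2 ι ⊤ (hS.to_subgroup _) hL.2.1.1.injOn,
      imageOf]
    congr 1
    refine Subgroup.map_injective S.subtype_injective ?_
    rw [Subgroup.map_subgroupOf_eq_of_le hWS,
      map_functorOf W hW2 S.subtype ⊤ (hS.to_subgroup _) S.subtype_injective.injOn,
      ← MonoidHom.range_eq_map, Subgroup.range_subtype]
  set N := Subgroup.normalizer (functorOf W (Ts : Subgroup L) : Set L) with hNdef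
  have hTsN : (Ts : Subgroup L) ≤ N := by
    obtain ⟨hle, hch⟩ := functorOf_char W hW2 (Ts : Subgroup L) Ts.isPGroup'
    exact Subgroup.le_normalizer.trans (le_normalizer_of_char hle hch)
  have h1 : ι w ∈ pCore p L ⊓ commutator L := ⟨hwQ, hwc⟩
  rw [hT L Ts hL.2.2.2] at h1
  obtain ⟨-, n, hn, hne⟩ := h1
  have hnT : n ∈ ((Ts.subtype hTsN : Sylow p N) : Subgroup N) := by
    rw [Sylow.coe_subtype, Subgroup.mem_subgroupOf, hTs]
    exact ⟨w, hne.symm⟩
  have h2 : n ∈ ((Ts.subtype hTsN : Sylow p N) : Subgroup N).focalSubgroup := by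
    rw [← Subgroup.commutator_inf_eq_focalSubgroup]; exact ⟨hn, hnT⟩
  suffices hsub : ((Ts.subtype hTsN : Sylow p N) : Subgroup N).focalSubgroup.map N.subtype ≤
      imageOf ι (nFocal F W) by
    obtain ⟨v, hv, hve⟩ := mem_imageOf.1 (hsub ⟨n, h2, rfl⟩)
    rw [show N.subtype n = ι w from hne] at hve
    rw [hL.2.1.1 hve] at hv
    exact hv
  rw [Subgroup.map_le_iff_le_comap, Subgroup.focalSubgroup_def, Subgroup.closure_le]
  rintro g ⟨hgT, x, hxT, u, rfl⟩
  rw [Sylow.coe_subtype, Subgroup.mem_subgroupOf, hTs] at hgT hxT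
  obtain ⟨x₀, hx₀⟩ := hxT
  obtain ⟨g₀, hg₀⟩ := hgT
  have hu : ∀ y ∈ imageOf ι (functorOf W S),
      (u : L) * y * (u : L)⁻¹ ∈ imageOf ι (functorOf W S) := fun y hy => by
    rw [← hJimg] at hy ⊢
    exact (Subgroup.mem_normalizer_iff.1 u.2 y).1 hy
  have hxc : (u : L) * ι x₀⁻¹ * (u : L)⁻¹ ∈ ι.range := by
    refine ⟨x₀⁻¹ * g₀, ?_⟩
    rw [map_mul, map_inv, hg₀, hx₀]
    simp [commutatorElement_def, mul_assoc]
  set X := Subgroup.zpowers ((x₀⁻¹ : S) : Ω) ⊔ functorOf W S with hXdef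
  have hXS : X ≤ S := sup_le (Subgroup.zpowers_le.2 (x₀⁻¹ : S).2) hWS
  obtain ⟨φ, hφ, hφe⟩ := exists_hom_of_realized hL.2.1 hXS (u : L) fun y => by
    have hle : X ≤ ((ι.range.comap ((MulAut.conj (u : L)).toMonoidHom.comp ι))).map S.subtype := by
      refine sup_le (Subgroup.zpowers_le.2 ⟨x₀⁻¹, hxc, rfl⟩) fun z hz => ⟨⟨z, hWS hz⟩, ?_, rfl⟩
      obtain ⟨b, -, hb⟩ := mem_imageOf.1 (hu _ (mem_imageOf.2 ⟨⟨z, hWS hz⟩, hz, rfl⟩))
      exact ⟨b, hb⟩
    obtain ⟨b, hb, hbe⟩ := hle y.2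
    rwa [show (⟨y, hXS y.2⟩ : S) = b from Subtype.ext hbe.symm]
  have hNS : normalizerIn S (functorOf W S) = S := by
    obtain ⟨-, hch⟩ := functorOf_char W hW2 S hS
    exact normalizerIn_eq_self (Subgroup.le_normalizer.trans (le_normalizer_of_char hWS hch))
  have hmem : φ ∈ F.normalizerHom (functorOf W S) X := by
    refine ⟨hφ, ?_, fun y => ?_, _, restrict_mem hφ (sup_le le_rfl le_sup_right), fun _ => rfl, ?_⟩
    · rw [hNS]; exact hXS
    · rw [hNS]; exact hom_mem hφ y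
    · refine range_restrict_eq (F := F) hWS (restrict_mem hφ (sup_le le_rfl le_sup_right)) le_sup_right ?_
      intro z hz
      obtain ⟨b, hb, hbe⟩ := mem_imageOf.1 (hu _ (mem_imageOf.2 ⟨⟨z, hWS hz⟩, hz, rfl⟩))
      have h3 := hL.2.1.1 (hbe.trans (hφe ⟨z, Subgroup.mem_sup_right hz⟩).symm)
      rw [h3] at hb
      exact hb
  refine mem_imageOf.2 ⟨x₀ * ⟨φ ⟨_, Subgroup.mem_sup_left (Subgroup.mem_zpowers _)⟩, hom_mem hφ _⟩,
    Subgroup.subset_closure ⟨X, φ, ⟨_, Subgroup.mem_sup_left (Subgroup.mem_zpowers _)⟩, hmem, ?_⟩, ?_⟩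
  · simp
  · rw [map_mul, hφe]
    show ι x₀ * ((u : L) * ι ⟨((x₀⁻¹ : S) : Ω), _⟩ * (u : L)⁻¹) = ((⁅x, u⁆ : N) : L)
    rw [show (⟨((x₀⁻¹ : S) : Ω), _⟩ : S) = x₀⁻¹ from Subtype.ext rfl, map_inv, hx₀]
    simp [commutatorElement_def, mul_assoc]

theorem focalBound_of_normal (m : ℕ) (W : ∀ (Q : Type u) [Group Q], Subgroup Q)
    (hW1 : ∀ (Q : Type u) [Group Q] [Finite Q], IsPGroup p Q → Nontrivial Q → W Q ≠ ⊥)
    (hW2 : ∀ (Q R : Type u) [Group Q] [Group R] [Finite Q], IsPGroup p Q →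
      ∀ φ : Q ≃* R, (W Q).map φ.toMonoidHom = W R)
    (hT : TransferLocal p W)
    (ihn : ∀ (Ω : Type u) [Group Ω] (S : Subgroup Ω) [Finite S], IsPGroup p S → Nat.card S ≤ m →
      ∀ F : FusionSystem S, F.IsSaturated p → FocalBound F W)
    (hS : IsPGroup p S) (hm : Nat.card S ≤ m + 1) :
    ∀ (k : ℕ) (Q : Subgroup Ω), Q ≠ ⊥ → Nat.card S < Nat.card Q + k →
      ∀ F : FusionSystem S, F.IsSaturated p → F.IsNormal Q → FocalBound F W := by
  intro k
  induction k with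
  | zero =>
    intro Q _ hlt F _ hQ
    exact absurd (card_le_of_le hQ.1) (by omega)
  | succ k ih =>
    intro Q hQne hlt F hF hQ
    have hgrow : ∀ V : Subgroup Ω, V ≤ S → Q ≤ V → V ≠ Q → V ≠ ⊥ ∧ Nat.card S < Nat.card V + k := by
      intro V hV hQV hne
      haveI := finite_of_le hV
      have h1 : Nat.card Q < Nat.card V :=
        lt_of_le_of_ne (card_le_of_le hQV) fun he => hne (Subgroup.eq_of_le_of_card_ge hQV he.ge).symm
      exact ⟨fun h => hQne (le_bot_iff.1 (h ▸ hQV)), by omega⟩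
    have hQn := stronglyClosed_le_normalizer (isNormal_stronglyClosed hQ)
    have hlocal : ∀ G : FusionSystem S, G.IsSaturated p →
        ∀ K : Subgroup Ω, Q ≤ K → K ≠ Q → K ≤ S → S ≤ Subgroup.normalizer (K : Set Ω) →
          ∀ P, ∀ φ ∈ G.normalizerHom K P, ∀ x : P, (x : Ω)⁻¹ * φ x ∈ nFocal G W := by
      intro G hG K hQK hne hKS hKn P φ hφ x
      obtain ⟨h1, h2⟩ := hgrow K hKS hQK hne
      obtain ⟨GK, hGK, hGKs, hGKle, hGKn, -⟩ := exists_normalizerPart.{u, 0} (F := G) hS hG hKS hKn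
      exact nFocal_mono hGKle W (ih K h1 h2 GK hGKs hGKn P φ (by rw [hGK]; exact hφ) x)
    have hfinish : ∀ G : FusionSystem S, G.IsSaturated p → G.IsNormal Q →
        (G.focalSubgroup ⊓ Q ≤ nFocal G W) → FocalBound G W := by
      intro G hG hGQ hinf P φ hφ x
      have hy : (x : Ω)⁻¹ * φ x ∈ G.focalSubgroup :=
        Subgroup.subset_closure ⟨P, φ, x, hφ, rfl⟩
      by_cases hQS : Q = S
      · exact hinf ⟨hy, hQS.symm ▸ focal_le G hy⟩
      obtain ⟨r, hr, hrQ⟩ := focal_le_mod m W hW1 hW2 ihn hS hm hG hGQ hQne hQS (hlocal G hG) P φ hφ x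
      have h1 := hinf ⟨G.focalSubgroup.mul_mem (G.focalSubgroup.inv_mem (nFocal_le_focal G W hr)) hy, hrQ⟩
      simpa using (nFocal G W).mul_mem hr h1
    by_cases hc : centralizerIn S Q ≤ Q
    · exact hfinish F hF hQ (focal_inf_le_of_model W hW2 hT hS hF hQ hc)
    obtain ⟨F₁, hF₁⟩ := exists_centralPart F hQ.1 hQn
    have hF₁s := isSaturated_centralPart hS hF hQ hF₁
    have hF₁b : FocalBound F₁ W := by
      refine hfinish F₁ hF₁s (isNormal_centralPart hQ.1 hQn hF₁) ?_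
      refine (focal_inf_le_commutator hS hF₁s ?_).trans (commutator_le_nFocal hS F₁ W hW2)
      intro q hq P φ hφ y hy
      rw [hF₁] at hφ
      obtain ⟨-, s, hs, ψ, -, hψe, hψq⟩ := hφ
      refine ⟨s, hs, ?_⟩
      rw [← hψe y, ← hψq ⟨q, hq⟩]
      exact congrArg ψ (Subtype.ext hy)
    have hTS : Q ⊔ centralizerIn S Q ≤ S := sup_le hQ.1 (centralizerIn_le Q)
    obtain ⟨D, hD⟩ := exists_cosetSystem F (nFocal F W) (commutator_le_nFocal hS F W hW2)
    have hle : F ≤ D := by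
      refine le_of_centralPart hS hF hQ D (fun P φ hφ => ?_) fun P φ hφ => ?_
      · rw [hD]
        exact ⟨hφ.1, fun x => nFocal_mono (centralPart_le hF₁) W (hF₁b P φ (by rw [hF₁]; exact hφ) x)⟩
      · rw [hD]
        refine ⟨hφ.1, hlocal F hF _ le_sup_left (fun h => hc (le_sup_right.trans h.le)) hTS
          (le_normalizer_sup_centralizerIn hQn) P φ hφ⟩
    intro P φ hφ x
    have h1 := hle P hφ
    rw [hD] at h1
    exact h1.2 x

/-- Control of transfer by the normalizer of `W S`. -/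
theorem focalBound (W : ∀ (Q : Type u) [Group Q], Subgroup Q)
    (hW1 : ∀ (Q : Type u) [Group Q] [Finite Q], IsPGroup p Q → Nontrivial Q → W Q ≠ ⊥)
    (hW2 : ∀ (Q R : Type u) [Group Q] [Group R] [Finite Q], IsPGroup p Q →
      ∀ φ : Q ≃* R, (W Q).map φ.toMonoidHom = W R)
    (hT : TransferLocal p W) :
    ∀ (m : ℕ) (Ω : Type u) [Group Ω] (S : Subgroup Ω) [Finite S], IsPGroup p S → Nat.card S ≤ m →
      ∀ F : FusionSystem S, F.IsSaturated p → FocalBound F W := by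
  intro m
  induction m with
  | zero =>
    intro Ω _ S _ _ hm
    exact absurd (Nat.card_pos (α := S)) (by omega)
  | succ m ih =>
    intro Ω _ S _ hS hm F hF
    obtain ⟨D, hD⟩ := exists_cosetSystem F (nFocal F W) (commutator_le_nFocal hS F W hW2)
    obtain ⟨hWS, hchar⟩ := functorOf_char W hW2 S hS
    have hNS : normalizerIn S (functorOf W S) = S :=
      normalizerIn_eq_self (Subgroup.le_normalizer.trans (le_normalizer_of_char hWS hchar))
    have htopD : ∀ R, F.normalizerHom (functorOf W S) R ⊆ D.Hom R := fun R φ hφ => by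
      rw [hD]
      exact ⟨hφ.1, fun x => Subgroup.subset_closure ⟨R, φ, x, hφ, rfl⟩⟩
    have hle : F ≤ D := by
      refine le_of_autGroup_le' hS hF D fun P hP hbig α hα => ?_
      have hPS : P ≤ S := by rcases hP with rfl | hP; exacts [le_rfl, hP.1.1]
      refine (mem_autGroup hPS).2 ?_
      have hi : IsoIn F α := (mem_autGroup hPS).1 hα
      show P.subtype.comp α.toMonoidHom ∈ D.Hom P
      by_cases hPtop : P = S
      · subst hPtop
        refine htopD P ⟨hi, hNS.ge, fun x => hNS.ge (α x).2, _,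
          restrict_mem hi (sup_le le_rfl hWS), fun _ => rfl, ?_⟩
        refine range_restrict_eq (F := F) hWS (restrict_mem hi (sup_le le_rfl hWS)) le_sup_right ?_
        intro x hx
        exact (Subgroup.characteristic_iff_map_eq.1 hchar α).le ⟨⟨x, hWS hx⟩, hx, rfl⟩
      by_cases hbot : P = ⊥
      · refine hom_congr (subtype_mem D hPS) fun x => ?_
        have hx : x = 1 := Subtype.ext (Subgroup.mem_bot.1 (hbot.le x.2))
        subst hx
        simp
      have hPe : F.IsEssential p P := hP.resolve_left hPtop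
      haveI := finite_of_le hPS
      have hPN : Nat.card P < Nat.card (normalizerIn S P) := by
        haveI := finite_of_le (normalizerIn_le (S := S) P)
        refine lt_of_not_ge fun h => (lt_normalizerIn hS (lt_of_le_of_ne hPS hPtop)).ne ?_
        exact Subgroup.eq_of_le_of_card_ge (le_normalizerIn hPS) h
      suffices key : ∀ (k : ℕ) (U : Subgroup Ω), F.IsFullyNormalized U → U ≠ ⊥ →
          Nat.card P < Nat.card (normalizerIn S U) → Nat.card S < Nat.card (normalizerIn S U) + k →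
          ∀ R, F.normalizerHom U R ⊆ D.Hom R by
        refine key (Nat.card S + 1) P hPe.2.1 hbot hPN (by omega) P ⟨hi, le_normalizerIn hPS,
          fun x => le_normalizerIn hPS (α x).2, _, restrict_mem hi (sup_le le_rfl le_rfl),
          fun _ => rfl, ?_⟩
        exact range_restrict_eq (F := F) hPS (restrict_mem hi (sup_le le_rfl le_rfl)) le_sup_right
          fun x hx => (α _).2
      intro k
      induction k with
      | zero =>
        intro U _ _ _ hlt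
        exact absurd (card_le_of_le (normalizerIn_le (S := S) U)) (by omega)
      | succ k ihk =>
        intro U hUn hU hUP hlt R φ hφ
        obtain ⟨N, hN⟩ := exists_normalizerSystem F hUn.1
        let T := normalizerIn S U
        have hTc : Nat.card T = Nat.card (normalizerIn S U) := rfl
        have hTS : T ≤ S := normalizerIn_le U
        haveI := finite_of_le hTS
        have hTp : IsPGroup p T := hS.to_le hTS
        have hTne : T ≠ ⊥ := fun h => hU (le_bot_iff.1 ((le_normalizerIn hUn.1).trans h.le))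
        obtain ⟨hJT, hJchar⟩ := functorOf_char W hW2 T hTp
        have hJne : functorOf W T ≠ ⊥ := functorOf_ne_bot W hW1 T hTp hTne
        have hTNJ : T ≤ normalizerIn S (functorOf W T) := fun t ht =>
          ⟨hTS ht, le_normalizer_of_char hJT hJchar (Subgroup.le_normalizer ht)⟩
        have hNb : FocalBound N W := by
          refine focalBound_of_normal m W hW1 hW2 hT (fun Ω _ S _ => ih Ω S) hTp
            ((card_le_of_le hTS).trans hm) (Nat.card T) U hU ?_ N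
            (isSaturated_normalizerSystem hS hF hUn hN) (isNormal_normalizerSystem hUn.1 hN)
          haveI := finite_of_le hUn.1
          exact Nat.lt_add_of_pos_left Nat.card_pos
        have hJD : ∀ R, F.normalizerHom (functorOf W T) R ⊆ D.Hom R := by
          by_cases hTtop : T = S
          · have he : functorOf W S = functorOf W T :=
              congrArg (fun Q : Subgroup Ω => functorOf W Q) hTtop.symm
            rw [← he]
            exact htopD
          obtain ⟨W₂, hconj, hn₂⟩ := exists_isFullyNormalized F (hJT.trans hTS)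
          obtain ⟨χ, hχ, hχv, hχW⟩ := exists_map_to_fn hS hF hn₂ hconj
          have hlt' : Nat.card T < Nat.card (normalizerIn S (functorOf W T)) := by
            have h1 : normalizerIn S T ≤ normalizerIn S (functorOf W T) := fun g hg =>
              ⟨hg.1, le_normalizer_of_char hJT hJchar hg.2⟩
            haveI := finite_of_le (normalizerIn_le (S := S) T)
            haveI := finite_of_le (normalizerIn_le (S := S) (functorOf W T))
            refine lt_of_lt_of_le ?_ (Subgroup.card_le_of_le h1)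
            refine lt_of_not_ge fun h => (lt_normalizerIn hS (lt_of_le_of_ne hTS hTtop)).ne ?_
            exact Subgroup.eq_of_le_of_card_ge (le_normalizerIn hTS) h
          have hcW : Nat.card (normalizerIn S (functorOf W T)) ≤ Nat.card (normalizerIn S W₂) := by
            haveI := finite_of_le (normalizerIn_le (S := S) W₂)
            exact Nat.card_le_card_of_injective (fun a => (⟨χ a, hχv a⟩ : normalizerIn S W₂))
              fun a b h => F.injective_of_mem hχ (congrArg Subtype.val h)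
          have hW₂ : W₂ ≠ ⊥ := fun h => hJne (Subgroup.eq_bot_of_card_eq _ (by
            rw [card_eq_of_isConj hconj, h, Subgroup.card_bot]))
          exact normalizerHom_subset_of_push (hJT.trans hTS) hn₂.1 hχ (hbig _ (by omega) hχ) hχv hχW
            (ihk W₂ hn₂ hW₂ (by omega) (by omega))
        rw [hD]
        refine ⟨hφ.1, fun x => ?_⟩
        rw [← hN R] at hφ
        refine (Subgroup.closure_le _).2 ?_ (hNb R φ hφ x)
        rintro _ ⟨P', ψ, y, ⟨hψN, hP', hψv, ξ, hξ, hξe, hξW⟩, rfl⟩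
        have hψF : ψ ∈ F.normalizerHom (functorOf W T) P' :=
          ⟨subset_of_normalizerSystem hN hψN, hP'.trans (inf_le_left.trans hTNJ),
            fun z => hTNJ (hψv z).1, ξ, subset_of_normalizerSystem hN hξ, hξe, hξW⟩
        have h1 := hJD P' hψF
        rw [hD] at h1
        exact h1.2 y
    intro P φ hφ x
    have h1 := hle P hφ
    rw [hD] at h1
    exact h1.2 x

/-- A functor controlling transfer in groups of characteristic `p` controls transfer. -/
theorem focal_normalizer_eq (W : ∀ (Q : Type u) [Group Q], Subgroup Q)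
    (hW1 : ∀ (Q : Type u) [Group Q] [Finite Q], IsPGroup p Q → Nontrivial Q → W Q ≠ ⊥)
    (hW2 : ∀ (Q R : Type u) [Group Q] [Group R] [Finite Q], IsPGroup p Q →
      ∀ φ : Q ≃* R, (W Q).map φ.toMonoidHom = W R)
    (hT : TransferLocal p W) (hS : IsPGroup p S) {F : FusionSystem S} (hF : F.IsSaturated p)
    {N : FusionSystem (normalizerIn S (functorOf W S))}
    (hN : F.IsNormalizerSystem (functorOf W S) N) : N.focalSubgroup = F.focalSubgroup := by
  refine le_antisymm (Subgroup.closure_mono ?_) ((Subgroup.closure_le _).2 ?_)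
  · rintro _ ⟨P, φ, x, hφ, rfl⟩
    exact ⟨P, φ, x, subset_of_normalizerSystem hN hφ, rfl⟩
  · rintro _ ⟨P, φ, x, hφ, rfl⟩
    refine (Subgroup.closure_le _).2 ?_ (focalBound W hW1 hW2 hT _ Ω S hS le_rfl F hF P φ hφ x)
    rintro _ ⟨R, ψ, y, hψ, rfl⟩
    exact Subgroup.subset_closure ⟨R, ψ, y, (hN R).ge hψ, rfl⟩

end Cfsg.Lib.FusionSys
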