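import Cfsg.Agent.Lib.FusionSys.Transfer
import Mathlib.Dynamics.PeriodicPts.Defs

/-!
The value of a right equivariant permutation of a biset at a homomorphism into an abelian group.
-/

set_option autoImplicit false
set_option linter.style.haveILetI false

universe u v

namespace Cfsg.Lib.FusionSys

open Cfsg Cfsg.FusionSystem
open MulAction

theorem prod_eq_one_of_pGroup {p : ℕ} [Fact p.Prime] {A W M : Type*} [Group A] [Finite A] [Fintype W]
    [CommGroup M] (hA : IsPGroup p A) (ρ : A →* Equiv.Perm W) (F : W → M)
    (hinv : ∀ a w, F (ρ a w) = F w) (hexp : ∀ y : M, y ^ p = 1)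
    (hfix : ∀ w, (∀ a, ρ a w = w) → F w = 1) : ∏ w, F w = 1 := by
  classical
  letI : MulAction A W := MulAction.compHom W ρ
  letI : Fintype (Quotient (orbitRel A W)) := Fintype.ofFinite _
  rw [← Finset.prod_fiberwise Finset.univ (fun w => (Quotient.mk (orbitRel A W) w)) F]
  refine Finset.prod_eq_one fun o _ => ?_
  induction o using Quotient.inductionOn with
  | h w =>
    have hmem : ∀ y : W, Quotient.mk (orbitRel A W) y = Quotient.mk (orbitRel A W) w ↔ y ∈ orbit A w :=
      fun y => by rw [Quotient.eq, orbitRel_apply]
    have hF : ∀ y ∈ Finset.univ.filter (fun y => Quotient.mk (orbitRel A W) y = Quotient.mk (orbitRel A W) w),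
        F y = F w := by
      intro y hy
      rw [Finset.mem_filter] at hy
      obtain ⟨a, rfl⟩ := (hmem y).1 hy.2
      exact hinv a w
    rw [Finset.prod_congr rfl hF, Finset.prod_const]
    have hcard : (Finset.univ.filter (fun y => Quotient.mk (orbitRel A W) y = Quotient.mk (orbitRel A W) w)).card
        = Nat.card (orbit A w) := by
      rw [← Nat.card_eq_finsetCard]
      exact Nat.card_congr (Equiv.subtypeEquivRight fun y => by simp [hmem y])
    obtain ⟨j, hj⟩ := hA.card_orbit w
    rw [hcard, hj]
    rcases j with _ | j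
    · rw [pow_zero, pow_one]
      refine hfix w fun a => ?_
      have hsub : Subsingleton (orbit A w) := (Nat.card_eq_one_iff_unique.1 (hj.trans (pow_zero p))).1
      exact congrArg Subtype.val (hsub.elim ⟨ρ a w, mem_orbit w a⟩ ⟨w, mem_orbit_self w⟩)
    · rw [pow_succ, pow_mul, hexp]

variable {Ω : Type u} [Group Ω] {S : Subgroup Ω} {X : Type u} [MulAction (↥S × ↥S) X]
variable {M : Type v} [CommGroup M]

/-- The permutations commuting with the right action. -/
def rightComm (S : Subgroup Ω) (X : Type u) [MulAction (↥S × ↥S) X] : Subgroup (Equiv.Perm X) where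
  carrier := {k | ∀ (t : S) (x : X), k (((1 : S), t) • x) = ((1 : S), t) • k x}
  one_mem' := fun _ _ => rfl
  mul_mem' := fun {a b} ha hb t x => by
    rw [Equiv.Perm.mul_apply, Equiv.Perm.mul_apply, hb, ha]
  inv_mem' := fun {a} ha t x => a.injective (by
    rw [ha, Equiv.Perm.inv_def, Equiv.apply_symm_apply, Equiv.apply_symm_apply])

/-- The left action. -/
def leftHom (S : Subgroup Ω) (X : Type u) [MulAction (↥S × ↥S) X] : S →* rightComm S X :=
  ((MulAction.toPermHom (↥S × ↥S) X).comp (MonoidHom.inl ↥S ↥S)).codRestrict _
    fun s t x => smul_comm_pair s t x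

theorem leftHom_apply (s : S) (x : X) : (leftHom S X s : Equiv.Perm X) x = (s, (1 : S)) • x := rfl

/-- The induced permutation of the right orbits. -/
def orbPerm : rightComm S X →* Equiv.Perm (Quotient (rightSetoid S X)) where
  toFun k := Quotient.congr (k : Equiv.Perm X) fun x y => by
    constructor
    · rintro ⟨t, rfl⟩
      exact ⟨t, (k.2 t x).symm⟩
    · rintro ⟨t, ht⟩
      exact ⟨t, (k : Equiv.Perm X).injective ((k.2 t x).trans ht)⟩
  map_one' := Equiv.ext fun q => Quotient.inductionOn q fun _ => rfl
  map_mul' a b := Equiv.ext fun q => Quotient.inductionOn q fun _ => rfl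

theorem orbPerm_mk (k : rightComm S X) (x : X) :
    orbPerm k (Quotient.mk _ x) = Quotient.mk _ ((k : Equiv.Perm X) x) := rfl

section Value

variable (f : S →* M) (g : X → M)

/-- The change of `g` along `k` on a right orbit. -/
noncomputable def stepRatio (hg : ∀ (t : S) (x : X), g (((1 : S), t) • x) = f t * g x)
    (k : rightComm S X) : Quotient (rightSetoid S X) → M :=
  Quotient.lift (fun x => g ((k : Equiv.Perm X) x) / g x) (by
    rintro x _ ⟨t, rfl⟩
    rw [k.2, hg, hg, mul_div_mul_left_eq_div])

variable [Fintype (Quotient (rightSetoid S X))] (hg : ∀ (t : S) (x : X), g (((1 : S), t) • x) = f t * g x)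

/-- The value of a right equivariant permutation. -/
noncomputable def permVal : rightComm S X →* M where
  toFun k := ∏ q, stepRatio f g hg k q
  map_one' := Finset.prod_eq_one fun q _ => by
    induction q using Quotient.inductionOn with
    | h x => exact div_self' _
  map_mul' a b := by
    have h : ∀ q, stepRatio f g hg (a * b) q =
        stepRatio f g hg a (orbPerm b q) * stepRatio f g hg b q := by
      intro q
      induction q using Quotient.inductionOn with
      | h x => exact (div_mul_div_cancel _ _ _).symm
    rw [Finset.prod_congr rfl fun q _ => h q, Finset.prod_mul_distrib,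
      Equiv.prod_comp (orbPerm b) (stepRatio f g hg a)]

theorem permVal_leftHom (hχ : ∀ (s : S) (x : X), g ((s, (1 : S)) • x) = (f s)⁻¹ * g x) (s : S) :
    permVal f g hg (leftHom S X s) = ((f s)⁻¹) ^ Nat.card (Quotient (rightSetoid S X)) := by
  show ∏ q, stepRatio f g hg (leftHom S X s) q = _
  have h : ∀ q, stepRatio f g hg (leftHom S X s) q = (f s)⁻¹ := by
    intro q
    induction q using Quotient.inductionOn with
    | h x =>
      show g ((s, (1 : S)) • x) / g x = _
      rw [hχ, mul_div_cancel_right]
  rw [Finset.prod_congr rfl fun q _ => h q, Finset.prod_const, Finset.card_univ, ← Nat.card_eq_fintype_card]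

variable [Finite X] {F : FusionSystem S} {p : ℕ} [Fact p.Prime]

include hg in
theorem permVal_eq_one_of_centralizing_pPower [Finite S] (hS : IsPGroup p S) (hX : GraphStabilizers F X)
    (hexp : ∀ y : M, y ^ p = 1)
    (hstab : ∀ (P : Subgroup Ω) (φ : P →* Ω) (hφ : φ ∈ F.Hom P) (x : P),
      f ⟨φ x, hom_mem hφ x⟩ = f ⟨x, hom_le hφ x.2⟩)
    {P : Subgroup Ω} (hP : P ≤ S) (hC : ∀ P' : Subgroup Ω, F.IsConj P P' → ∀ c : S,
      (c : Ω) ∈ centralizerIn S P' → f c = 1)
    {k : rightComm S X} (hk : ∀ a : P, Commute k (leftHom S X (Subgroup.inclusion hP a)))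
    {n : ℕ} (hkn : k ^ p ^ n = 1) : permVal f g hg k = 1 := by
  classical
  have hp : p.Prime := Fact.out
  haveI := finite_of_le hP
  set σ := orbPerm k with hσdef
  let sr := stepRatio f g hg k
  letI : Fintype (Quotient (orbitRel (Subgroup.zpowers σ) (Quotient (rightSetoid S X)))) := Fintype.ofFinite _
  let π : Quotient (rightSetoid S X) →
      Quotient (orbitRel (Subgroup.zpowers σ) (Quotient (rightSetoid S X))) := fun q => Quotient.mk _ q
  let Φ := fun w => ∏ q ∈ Finset.univ.filter (fun q => π q = w), sr q
  show ∏ q, sr q = 1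
  rw [← Finset.prod_fiberwise Finset.univ π sr]
  have hπ : ∀ q q', π q = π q' ↔ ∃ i : ℕ, (σ ^ i) q' = q := by
    intro q q'
    rw [show π q = π q' ↔ (orbitRel (Subgroup.zpowers σ) _) q q' from Quotient.eq, orbitRel_apply]
    constructor
    · rintro ⟨⟨z, hz⟩, rfl⟩
      obtain ⟨i, rfl⟩ := (isOfFinOrder_of_finite σ).mem_powers_iff_mem_zpowers.mpr hz
      exact ⟨i, rfl⟩
    · rintro ⟨i, rfl⟩
      exact ⟨⟨σ ^ i, pow_mem (Subgroup.mem_zpowers σ) i⟩, rfl⟩
  have hπσ : ∀ q, π (σ q) = π q := fun q => (hπ _ _).2 ⟨1, by rw [pow_one]⟩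
  -- the action of `P` on the orbits of `k`
  let al : P →* rightComm S X := (leftHom S X).comp (Subgroup.inclusion hP)
  have hcomm : ∀ a q, orbPerm (al a) (σ q) = σ (orbPerm (al a) q) := by
    intro a q
    rw [← Equiv.Perm.mul_apply, hσdef, ← map_mul, show al a * k = k * al a from (hk a).eq.symm, map_mul]
    rfl
  have hcommn : ∀ (a : P) (i : ℕ) q, orbPerm (al a) ((σ ^ i) q) = (σ ^ i) (orbPerm (al a) q) := by
    intro a i
    induction i with
    | zero => intro q; rfl
    | succ i ih => intro q; rw [pow_succ, Equiv.Perm.mul_apply, ih, hcomm]; rfl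
  have hiff : ∀ a q q', π q = π q' ↔ π (orbPerm (al a) q) = π (orbPerm (al a) q') := by
    intro a q q'
    rw [hπ, hπ]
    constructor
    · rintro ⟨i, rfl⟩
      exact ⟨i, (hcommn a i q').symm⟩
    · rintro ⟨i, hi⟩
      rw [← hcommn] at hi
      exact ⟨i, (orbPerm (al a)).injective hi⟩
  let ρ : P →* Equiv.Perm (Quotient (orbitRel (Subgroup.zpowers σ) (Quotient (rightSetoid S X)))) :=
    { toFun := fun a => Quotient.congr (orbPerm (al a)) fun q q' => by
        have := hiff a q q'
        rwa [show π q = π q' ↔ (orbitRel (Subgroup.zpowers σ) _) q q' from Quotient.eq,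
          show π (orbPerm (al a) q) = π (orbPerm (al a) q') ↔
            (orbitRel (Subgroup.zpowers σ) _) (orbPerm (al a) q) (orbPerm (al a) q') from Quotient.eq] at this
      map_one' := Equiv.ext fun w => Quotient.inductionOn w fun q => by
        show π (orbPerm (al 1) q) = π q
        rw [map_one, map_one]; rfl
      map_mul' := fun a b => Equiv.ext fun w => Quotient.inductionOn w fun q => by
        show π (orbPerm (al (a * b)) q) = π (orbPerm (al a) (orbPerm (al b) q))
        rw [map_mul, map_mul]; rfl }
  have hρ : ∀ a q, ρ a (π q) = π (orbPerm (al a) q) := fun a q => rfl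
  refine prod_eq_one_of_pGroup (p := p) (hS.to_le hP) ρ Φ (fun a w => ?_) hexp fun w hw => ?_
  · -- invariance
    induction w using Quotient.inductionOn with
    | h q₀ =>
      let hh : Quotient (rightSetoid S X) → M :=
        Quotient.lift (fun x => g ((al a : Equiv.Perm X) x) / g x) (by
          rintro x _ ⟨t, rfl⟩
          rw [(al a).2, hg, hg, mul_div_mul_left_eq_div])
      have hr : ∀ q, sr (orbPerm (al a) q) = sr q * (hh (σ q) / hh q) := by
        intro q
        induction q using Quotient.inductionOn with
        | h x =>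
          show g ((k : Equiv.Perm X) ((al a : Equiv.Perm X) x)) / g ((al a : Equiv.Perm X) x) =
            g ((k : Equiv.Perm X) x) / g x * (g ((al a : Equiv.Perm X) ((k : Equiv.Perm X) x)) /
              g ((k : Equiv.Perm X) x) / (g ((al a : Equiv.Perm X) x) / g x))
          rw [show (k : Equiv.Perm X) ((al a : Equiv.Perm X) x) = (al a : Equiv.Perm X) ((k : Equiv.Perm X) x)
            from congrArg (fun z : rightComm S X => (z : Equiv.Perm X) x) (hk a).eq]
          rw [div_div_div_comm (g ((al a : Equiv.Perm X) ((k : Equiv.Perm X) x))), mul_comm,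
            div_mul_cancel]
      show ∏ q ∈ Finset.univ.filter (fun q => π q = π (orbPerm (al a) q₀)), sr q =
        ∏ q ∈ Finset.univ.filter (fun q => π q = π q₀), sr q
      rw [← Finset.prod_equiv (orbPerm (al a)) (s := Finset.univ.filter (fun q => π q = π q₀))
        (t := Finset.univ.filter (fun q => π q = π (orbPerm (al a) q₀)))
        (fun q => by simp only [Finset.mem_filter, Finset.mem_univ, true_and]; exact hiff a q q₀)
        (f := fun q => sr (orbPerm (al a) q)) (g := sr) (fun q _ => rfl),
        Finset.prod_congr rfl fun q _ => hr q, Finset.prod_mul_distrib, Finset.prod_div_distrib,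
        Finset.prod_equiv σ (s := Finset.univ.filter (fun q => π q = π q₀))
          (t := Finset.univ.filter (fun q => π q = π q₀)) (f := fun q => hh (σ q)) (g := hh)
          (fun q => by simp only [Finset.mem_filter, Finset.mem_univ, true_and, hπσ])
          (fun q _ => rfl), div_self', mul_one]
  · -- the orbits of `k` fixed by `P`
    induction w using Quotient.inductionOn with
    | h q₀ =>
      induction q₀ using Quotient.inductionOn with
      | h x =>
        let kf : X → X := fun y => (k : Equiv.Perm X) y
        let q₀ : Quotient (rightSetoid S X) := Quotient.mk _ x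
        let l := Function.minimalPeriod σ q₀
        have hit : ∀ i : ℕ, Quotient.mk (rightSetoid S X) (((k ^ i : rightComm S X) : Equiv.Perm X) x) = (σ ^ i) q₀ := by
          intro i
          rw [hσdef, ← map_pow]
          rfl
        have hper : 0 < l := by
          refine Function.IsPeriodicPt.minimalPeriod_pos (orderOf_pos σ) ?_
          show σ^[orderOf σ] q₀ = q₀
          rw [← Equiv.Perm.coe_pow, pow_orderOf_eq_one, Equiv.Perm.coe_one, id]
        have hσl : (σ ^ l) q₀ = q₀ := by
          rw [Equiv.Perm.coe_pow]
          exact Function.iterate_minimalPeriod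
        obtain ⟨t, ht⟩ : ∃ t : S, ((1 : S), t) • x = ((k ^ l : rightComm S X) : Equiv.Perm X) x :=
          Quotient.exact ((hit l).trans hσl).symm
        -- telescoping
        have hval : Φ (π q₀) = f t := by
          have himage : Finset.univ.filter (fun q => π q = π q₀) =
              (Finset.range l).image (fun i => (σ ^ i) q₀) := by
            ext q
            simp only [Finset.mem_filter, Finset.mem_univ, true_and, Finset.mem_image, Finset.mem_range]
            rw [hπ]
            constructor
            · rintro ⟨i, rfl⟩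
              refine ⟨i % l, Nat.mod_lt _ hper, ?_⟩
              rw [Equiv.Perm.coe_pow, Equiv.Perm.coe_pow]
              exact Function.iterate_mod_minimalPeriod_eq
            · rintro ⟨i, -, rfl⟩
              exact ⟨i, rfl⟩
          show ∏ q ∈ Finset.univ.filter (fun q => π q = π q₀), sr q = f t
          rw [himage, Finset.prod_image fun i hi j hj hij => ?_]
          · let G : ℕ → M := fun i => g (((k ^ i : rightComm S X) : Equiv.Perm X) x)
            have hG : ∀ i, sr ((σ ^ i) q₀) = G (i + 1) / G i := by
              intro i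
              rw [← hit i]
              show g ((k : Equiv.Perm X) (((k ^ i : rightComm S X) : Equiv.Perm X) x)) / _ = _
              simp only [G, pow_succ' k i]
              rfl
            rw [Finset.prod_congr rfl fun i _ => hG i, Finset.prod_range_div]
            simp only [G, ← ht, hg, pow_zero, Subgroup.coe_one, Equiv.Perm.one_apply, mul_div_cancel_right]
          · rw [Equiv.Perm.coe_pow, Equiv.Perm.coe_pow] at hij
            exact Function.iterate_injOn_Iio_minimalPeriod (Finset.mem_range.1 hi) (Finset.mem_range.1 hj) hij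
        show Φ (π q₀) = 1
        rw [hval]
        -- elements of `P` move `q₀` by powers of `σ`
        have hmove : ∀ a : P, ∃ i : ℕ, (σ ^ i) q₀ = orbPerm (al a) q₀ := fun a =>
          (hπ _ _).1 ((hρ a q₀).symm.trans (hw a))
        have hfixS : ∀ (b c : S), (b, c) • x = x → f c = f b := by
          intro b c h
          obtain ⟨Q', P', φ, hφ, -, hD⟩ := hX x
          have h1 : (b, c) ∈ stabilizer (↥S × ↥S) x := h
          rw [← hD, mem_graph] at h1
          obtain ⟨y, hy1, hy2⟩ := h1
          rw [show c = ⟨φ y, hom_mem hφ y⟩ from Subtype.ext hy2, hstab P' φ hφ y]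
          exact congrArg f (Subtype.ext hy1.symm)
        by_cases hall : ∀ a : P, orbPerm (al a) q₀ = q₀
        · -- `t` centralizes a conjugate of `P`
          obtain ⟨Q', P', φ, hφ, -, hD⟩ := hX x
          have hst : ∀ a : P, ∃ y : P', (y : Ω) = a ∧ (⟨φ y, hom_mem hφ y⟩ : S) * t = t * ⟨φ y, hom_mem hφ y⟩ := by
            intro a
            obtain ⟨τ, hτ⟩ := Quotient.exact (hall a : Quotient.mk (rightSetoid S X) ((al a : Equiv.Perm X) x) = Quotient.mk _ x)
            have hfixed : (Subgroup.inclusion hP a, τ) • x = x := by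
              rw [show (Subgroup.inclusion hP a, τ) = ((1 : S), τ) * (Subgroup.inclusion hP a, (1 : S)) by simp,
                mul_smul]
              exact hτ
            have h1 : (Subgroup.inclusion hP a, τ) ∈ stabilizer (↥S × ↥S) x := hfixed
            rw [← hD, mem_graph] at h1
            obtain ⟨y, hy1, hy2⟩ := h1
            have hkl : Commute (k ^ l) (al a) := (hk a).pow_left l
            have e1 : ((k ^ l : rightComm S X) : Equiv.Perm X) ((Subgroup.inclusion hP a, τ) • x) =
                (Subgroup.inclusion hP a, τ) • ((k ^ l : rightComm S X) : Equiv.Perm X) x := by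
              rw [show (Subgroup.inclusion hP a, τ) = ((1 : S), τ) * (Subgroup.inclusion hP a, (1 : S)) by simp,
                mul_smul, mul_smul, (k ^ l).2 τ]
              exact congrArg (fun z => ((1 : S), τ) • z)
                (congrArg (fun z : rightComm S X => (z : Equiv.Perm X) x) hkl.eq)
            rw [hfixed, ← ht, ← mul_smul] at e1
            have e2 : ((1 : S), t) • x = ((1 : S), t) • ((Subgroup.inclusion hP a, τ) • x) := by rw [hfixed]
            rw [e1, ← mul_smul, Prod.mk_mul_mk, Prod.mk_mul_mk, one_mul, mul_one] at e2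
            have e3 : ((1 : S), (t * τ)⁻¹ * (τ * t)) • x = x := by
              have h2 := congrArg ((Subgroup.inclusion hP a, t * τ)⁻¹ • ·) e2
              simp only [← mul_smul, inv_mul_cancel, one_smul, Prod.inv_mk, Prod.mk_mul_mk] at h2
              simpa [← Prod.one_eq_mk] using h2
            have e4 := inv_mul_eq_one.1 (hX.free e3)
            refine ⟨y, hy1.symm, ?_⟩
            rw [show (⟨φ y, hom_mem hφ y⟩ : S) = τ from Subtype.ext hy2.symm]
            exact e4.symm
          choose y hy1 hy2 using hst
          have hPP' : P ≤ P' := fun a ha => by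
            have h := (y ⟨a, ha⟩).2
            rwa [hy1] at h
          refine hC _ ⟨_, restrict_mem hφ hPP', rfl⟩ t (mem_centralizerIn.2 ⟨t.2, ?_⟩)
          rintro _ ⟨a, rfl⟩
          have h1 := congrArg Subtype.val (hy2 a)
          rw [show φ.comp (Subgroup.inclusion hPP') a = φ (y a) from
            (congrArg φ (Subtype.ext (hy1 a))).symm]
          exact h1.symm
        · push Not at hall
          obtain ⟨a, ha⟩ := hall
          obtain ⟨i, hi⟩ := hmove a
          have hli : ¬ l ∣ i := fun ⟨c, hc⟩ => ha (by
            rw [← hi, hc, pow_mul, Equiv.Perm.coe_pow]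
            have hfix' : Function.IsFixedPt (σ ^ l) q₀ := hσl
            exact hfix'.iterate c)
          -- `l` is a power of `p`
          obtain ⟨j, -, hj⟩ : ∃ j ≤ n, l = p ^ j := by
            refine (Nat.dvd_prime_pow hp).1 (Function.IsPeriodicPt.minimalPeriod_dvd ?_)
            show σ^[p ^ n] q₀ = q₀
            rw [← Equiv.Perm.coe_pow, hσdef, ← map_pow, hkn, map_one]
            rfl
          have hi0 : i ≠ 0 := fun h => hli (h ▸ dvd_zero l)
          obtain ⟨r, u, hu, hiru⟩ := Nat.exists_eq_pow_mul_and_not_dvd hi0 p hp.ne_one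
          have hrj : r < j := by
            by_contra h
            exact hli (hj ▸ hiru ▸ (pow_dvd_pow p (not_lt.1 h)).mul_right u)
          set b := a ^ p ^ (j - r)
          have hpow : ∀ N : ℕ, orbPerm (al (a ^ N)) q₀ = (σ ^ (i * N)) q₀ := by
            intro N
            induction N with
            | zero => simp
            | succ N ih =>
              rw [pow_succ, map_mul, map_mul, Equiv.Perm.mul_apply, ← hi, hcommn, ih,
                ← Equiv.Perm.mul_apply, ← pow_add, mul_add, mul_one, add_comm]
          have hbq : orbPerm (al b) q₀ = q₀ := by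
            rw [hpow, hiru, mul_comm (p ^ r), mul_assoc, ← pow_add, Nat.add_sub_cancel' hrj.le, ← hj,
              mul_comm, pow_mul, Equiv.Perm.coe_pow]
            have hfix' : Function.IsFixedPt (σ ^ l) q₀ := hσl
            exact hfix'.iterate u
          -- compare the two expressions
          obtain ⟨τ, hτ⟩ : ∃ τ : S, ((1 : S), τ) • ((k ^ i : rightComm S X) : Equiv.Perm X) x =
              (al a : Equiv.Perm X) x := Quotient.exact ((hit i).trans hi)
          have hiter : ∀ N : ℕ, (al (a ^ N) : Equiv.Perm X) x =
              ((1 : S), τ ^ N) • ((k ^ (i * N) : rightComm S X) : Equiv.Perm X) x := by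
            intro N
            induction N with
            | zero => simp [← Prod.one_eq_mk]
            | succ N ih =>
              have hcN : Commute (al a) (k ^ (i * N)) := ((hk a).pow_left _).symm
              rw [pow_succ', map_mul, Subgroup.coe_mul, Equiv.Perm.mul_apply, ih, (al a).2,
                show (al a : Equiv.Perm X) (((k ^ (i * N) : rightComm S X) : Equiv.Perm X) x) =
                  ((k ^ (i * N) : rightComm S X) : Equiv.Perm X) ((al a : Equiv.Perm X) x) from
                  congrArg (fun z : rightComm S X => (z : Equiv.Perm X) x) hcN.eq,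
                ← hτ, (k ^ (i * N)).2, ← mul_smul, Prod.mk_mul_mk, one_mul, ← pow_succ, mul_add, mul_one,
                pow_add k]
              rfl
          have hklu : ∀ c : ℕ, ((k ^ (l * c) : rightComm S X) : Equiv.Perm X) x = ((1 : S), t ^ c) • x := by
            intro c
            induction c with
            | zero => simp [← Prod.one_eq_mk]
            | succ c ih =>
              rw [mul_add, mul_one, pow_add, Subgroup.coe_mul, Equiv.Perm.mul_apply, ← ht, (k ^ (l * c)).2,
                ih, ← mul_smul, Prod.mk_mul_mk, one_mul, ← pow_succ']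
          have hiN : i * p ^ (j - r) = l * u := by
            rw [hiru, hj, mul_right_comm, ← pow_add, Nat.add_sub_cancel' hrj.le]
          have hb : (Subgroup.inclusion hP b, (τ ^ p ^ (j - r) * t ^ u)⁻¹) • x = x := by
            have h1 := hiter (p ^ (j - r))
            rw [hiN, hklu, ← mul_smul, Prod.mk_mul_mk, one_mul] at h1
            rw [show (Subgroup.inclusion hP b, (τ ^ p ^ (j - r) * t ^ u)⁻¹) =
              ((1 : S), (τ ^ p ^ (j - r) * t ^ u)⁻¹) * (Subgroup.inclusion hP b, (1 : S)) by simp, mul_smul]
            rw [show (Subgroup.inclusion hP b, (1 : S)) • x = (al b : Equiv.Perm X) x from rfl, h1,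
              ← mul_smul, Prod.mk_mul_mk, one_mul, inv_mul_cancel]
            exact one_smul (↥S × ↥S) x
          have hfb := hfixS _ _ hb
          obtain ⟨d, hd⟩ : p ∣ p ^ (j - r) := dvd_pow_self p (by omega)
          have hfpow : ∀ z : S, f (z ^ p ^ (j - r)) = 1 := fun z => by
            rw [map_pow, hd, pow_mul, hexp, one_pow]
          rw [show Subgroup.inclusion hP b = (Subgroup.inclusion hP a) ^ p ^ (j - r) from map_pow _ _ _,
            map_inv, map_mul, hfpow, hfpow, one_mul, inv_eq_one] at hfb
          have hcop : Nat.Coprime u p := ((hp.coprime_iff_not_dvd).2 hu).symm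
          exact orderOf_eq_one_iff.1 (Nat.eq_one_of_dvd_coprimes hcop
            (orderOf_dvd_of_pow_eq_one (map_pow f t u ▸ hfb)) (orderOf_dvd_of_pow_eq_one (hexp _)))

include hg in
theorem permVal_eq_one_of_centralizing [Finite S] (hS : IsPGroup p S) (hX : GraphStabilizers F X)
    (hexp : ∀ y : M, y ^ p = 1)
    (hstab : ∀ (P : Subgroup Ω) (φ : P →* Ω) (hφ : φ ∈ F.Hom P) (x : P),
      f ⟨φ x, hom_mem hφ x⟩ = f ⟨x, hom_le hφ x.2⟩)
    {P : Subgroup Ω} (hP : P ≤ S) (hC : ∀ P' : Subgroup Ω, F.IsConj P P' → ∀ c : S,
      (c : Ω) ∈ centralizerIn S P' → f c = 1)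
    {k : rightComm S X} (hk : ∀ a : P, Commute k (leftHom S X (Subgroup.inclusion hP a))) :
    permVal f g hg k = 1 := by
  obtain ⟨n, c, hc, hord⟩ := Nat.exists_eq_pow_mul_and_not_dvd (orderOf_pos k).ne' p
    (Fact.out : p.Prime).ne_one
  have h1 := permVal_eq_one_of_centralizing_pPower f g hg hS hX hexp hstab hP hC
    (k := k ^ c) (fun a => (hk a).pow_left c) (n := n)
    (by rw [← pow_mul, mul_comm, ← hord, pow_orderOf_eq_one])
  rw [map_pow] at h1
  exact orderOf_eq_one_iff.1 (Nat.eq_one_of_dvd_coprimes
    (((Fact.out : p.Prime).coprime_iff_not_dvd).2 hc).symm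
    (orderOf_dvd_of_pow_eq_one h1) (orderOf_dvd_of_pow_eq_one (hexp _)))

end Value

end Cfsg.Lib.FusionSys
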