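import Cfsg.Agent.Lib.FusionSys.Normal
import Cfsg.Agent.Lib.FusionSys.Saturation

/-!
A saturated system over a 2-group in which all elements are conjugate into the centre lives on an
abelian group.
-/

set_option autoImplicit false

namespace Cfsg.Lib.FusionSys

open Cfsg Cfsg.FusionSystem
open scoped commutatorElement

variable {Ω : Type*} [Group Ω] {S : Subgroup Ω} {F : FusionSystem S}

theorem isNormal_of_central_strongly [Finite S] {p : ℕ} [Fact p.Prime] (hS : IsPGroup p S)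
    (hF : F.IsSaturated p) {Q : Subgroup Ω} (hQ : F.StronglyClosed Q)
    (hQZ : Q ≤ centralizerIn S S) : F.IsNormal Q := by
  refine isNormal_of_series hS hF (fun i => if i = 0 then ⊥ else Q) 1 rfl rfl
    (fun i _ => ?_) (fun i hi g hg y hy => ?_)
  · show F.StronglyClosed (if i = 0 then ⊥ else Q)
    split_ifs
    exacts [stronglyClosed_bot F, hQ]
  · obtain rfl : i = 0 := by omega
    show ⁅g, y⁆ ∈ (⊥ : Subgroup Ω)
    rw [Subgroup.mem_bot, commutatorElement_eq_one_iff_mul_comm]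
    exact (mem_centralizerIn.1 (hQZ hg)).2 y (hQ.1 hy)

theorem sq_mul_mem_of_central [Finite S] (hS : IsPGroup 2 S) (hF : F.IsSaturated 2)
    (h : ∀ x ∈ S, ∃ z ∈ centralizerIn S S, F.IsConjElt x z) {Q : Subgroup Ω}
    (hQ : F.StronglyClosed Q) (hQZ : Q ≤ centralizerIn S S) {x y : Ω} (hx : x ∈ S) (hy : y ∈ S)
    (hx2 : x ^ 2 ∈ Q) (hy2 : y ^ 2 ∈ Q) : (x * y) ^ 2 ∈ Q := by
  haveI : Fact (Nat.Prime 2) := ⟨Nat.prime_two⟩
  have hQn := isNormal_of_central_strongly hS hF hQ hQZ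
  obtain ⟨z, hz, φ, hφ, hφz⟩ := h (x * y) (S.mul_mem hx hy)
  obtain ⟨ψ, hψ, hψe, hψQ⟩ := hQn.2 _ φ hφ
  revert ψ
  set W := Subgroup.zpowers (x * y) ⊔ Q with hW
  intro ψ hψ hψe hψQ
  have hWS : W ≤ S := hom_le hψ
  have hR : ψ.range ≤ centralizerIn S S := by
    rintro _ ⟨⟨a, ha⟩, rfl⟩
    have hT : W ≤ ((centralizerIn S S).comap ψ).map W.subtype := by
      refine sup_le ?_ fun u hu => ?_
      · rw [Subgroup.zpowers_le]
        refine ⟨⟨x * y, Subgroup.mem_sup_left (Subgroup.mem_zpowers _)⟩, ?_, rfl⟩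
        have h1 := hψe ⟨x * y, Subgroup.mem_zpowers _⟩
        rw [hφz] at h1
        show ψ _ ∈ centralizerIn S S
        exact (congrArg (· ∈ centralizerIn S S) h1).mpr hz
      · refine ⟨⟨u, Subgroup.mem_sup_right hu⟩, ?_, rfl⟩
        exact hQZ (hψQ.le ⟨_, hu, rfl⟩)
    obtain ⟨b, hb, hbe⟩ := hT ha
    obtain rfl : b = ⟨a, ha⟩ := Subtype.ext hbe
    exact hb
  set R := ψ.range
  have hRS : R ≤ S := range_le hψ
  have hN : normalizerIn S R = S := by
    refine le_antisymm (normalizerIn_le R) fun g hg => mem_normalizerIn.2 ⟨hg, fun n => ?_⟩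
    constructor
    · intro hn
      rw [conj_eq_of_commute ((mem_centralizerIn.1 (hR hn)).2 g hg).symm]
      exact hn
    · intro hn
      have hc := (mem_centralizerIn.1 (hR hn)).2 g hg
      have hn' : n = g⁻¹ * (g * n * g⁻¹) * g := by group
      have : n = g * n * g⁻¹ := hn'.trans (by rw [mul_assoc, hc, inv_mul_cancel_left])
      rw [this]
      exact hn
  have hfn : F.IsFullyNormalized R := by
    refine ⟨hRS, fun P _ => ?_⟩
    rw [hN]
    exact card_le_of_le (normalizerIn_le P)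
  have htriv : autInducedBy S R = ⊥ := by
    rw [eq_bot_iff]
    intro α hα
    obtain ⟨g, hg, hge⟩ := mem_autInducedBy.1 hα
    refine Subgroup.mem_bot.2 (MulEquiv.ext fun r => Subtype.ext ?_)
    show (α r : Ω) = r
    rw [hge r, conj_eq_of_commute ((mem_centralizerIn.1 (hR r.2)).2 g hg).symm]
  have hodd : ¬ 2 ∣ Nat.card (F.autGroup R) := by
    haveI := finite_of_le hRS
    obtain ⟨-, -, T, hT⟩ := isFullyAutomized_and_fc_of_fn hS hF hfn
    intro hd
    have h2 := T.not_dvd_index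
    rw [hT, htriv, Subgroup.bot_subgroupOf, Subgroup.index_bot] at h2
    exact h2 hd
  have hcard := card_autGroup_eq (isoIn_homIso (Q := R) hψ rfl)
  have hcen : ∀ q ∈ Q, ∀ g ∈ S, q * g = g * q := fun q hq g hg =>
    (mem_centralizerIn.1 (hQZ hq)).2 g hg
  have hxy : x * (x * y) * x⁻¹ = (x * y)⁻¹ * (y ^ 2 * x ^ 2) := by
    calc x * (x * y) * x⁻¹ = x ^ 2 * y * x⁻¹ := by simp only [sq, mul_assoc]
      _ = y * x ^ 2 * x⁻¹ := by rw [hcen _ hx2 _ hy]
      _ = (x * y)⁻¹ * (x * y ^ 2 * x) := by simp [sq, mul_assoc]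
      _ = (x * y)⁻¹ * (y ^ 2 * x * x) := by rw [(hcen _ hy2 _ hx).symm]
      _ = (x * y)⁻¹ * (y ^ 2 * x ^ 2) := by simp only [sq, mul_assoc]
  have hxW : ∀ u ∈ W, x * u * x⁻¹ ∈ W := by
    intro u hu
    have hT : W ≤ W.comap (MulAut.conj x).toMonoidHom := by
      refine sup_le ?_ fun q hq => ?_
      · rw [Subgroup.zpowers_le]
        show x * (x * y) * x⁻¹ ∈ W
        rw [hxy]
        exact W.mul_mem (W.inv_mem (Subgroup.mem_sup_left (Subgroup.mem_zpowers _)))
          (Subgroup.mem_sup_right (Q.mul_mem hy2 hx2))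
      · show x * q * x⁻¹ ∈ W
        rw [conj_eq_of_commute (hcen q hq x hx).symm]
        exact Subgroup.mem_sup_right hq
    exact hT hu
  have hxx : ∀ u ∈ S, x * (x * u * x⁻¹) * x⁻¹ = u := by
    intro u hu
    calc x * (x * u * x⁻¹) * x⁻¹ = x ^ 2 * u * (x ^ 2)⁻¹ := by simp [sq, mul_assoc]
      _ = u := conj_eq_of_commute (hcen _ hx2 u hu)
  have hxN : x ∈ Subgroup.normalizer (W : Set Ω) := by
    intro n
    refine ⟨hxW n, fun hn => ?_⟩
    have hnS : n ∈ S := by
      have h1 : x⁻¹ * (x * n * x⁻¹) * x ∈ S :=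
        S.mul_mem (S.mul_mem (S.inv_mem hx) (hWS hn)) hx
      have h2 : x⁻¹ * (x * n * x⁻¹) * x = n := by group
      rwa [h2] at h1
    have h3 := hxW _ hn
    rwa [hxx n hnS] at h3
  have hα : conjAut W hxN ∈ F.autGroup W :=
    autInducedBy_le_autGroup hWS (conjAut_mem_autInducedBy hxN hx)
  have hα2 : conjAut W hxN ^ 2 = 1 := by
    refine MulEquiv.ext fun u => Subtype.ext ?_
    show ((conjAut W hxN ^ 2) u : Ω) = u
    rw [sq, MulAut.mul_apply, coe_conjAut, coe_conjAut]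
    exact hxx _ (hWS u.2)
  have hα1 : conjAut W hxN = 1 := by
    by_contra hne
    have h2 : orderOf (⟨_, hα⟩ : F.autGroup W) = 2 := by
      refine orderOf_eq_prime (Subtype.ext hα2) fun h => hne ?_
      exact congrArg Subtype.val h
    exact hodd (hcard ▸ h2 ▸ orderOf_dvd_natCard _)
  have hfix : x * (x * y) * x⁻¹ = x * y := by
    have h1 := congrArg (fun u => ((u : W) : Ω)) (DFunLike.congr_fun hα1
      ⟨x * y, Subgroup.mem_sup_left (Subgroup.mem_zpowers _)⟩)
    simp only [coe_conjAut] at h1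
    exact h1
  rw [hxy] at hfix
  have : (x * y) ^ 2 = y ^ 2 * x ^ 2 := by
    rw [sq (x * y)]
    calc x * y * (x * y) = x * y * ((x * y)⁻¹ * (y ^ 2 * x ^ 2)) := by rw [hfix]
      _ = y ^ 2 * x ^ 2 := by group
  rw [this]
  exact Q.mul_mem hy2 hx2

theorem exists_sq_mem_notMem (hS : IsPGroup 2 S) {Q : Subgroup Ω} :
    ∀ x ∈ S, x ∉ Q → ∃ y ∈ S, y ∉ Q ∧ y ^ 2 ∈ Q := by
  intro x hx hxQ
  obtain ⟨k, hk⟩ := hS ⟨x, hx⟩
  have hk' : x ^ 2 ^ k ∈ Q := by
    have := congrArg Subtype.val hk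
    rw [Subgroup.coe_pow, Subgroup.coe_one] at this
    rw [show x ^ 2 ^ k = 1 from this]
    exact Q.one_mem
  clear hk
  induction k generalizing x with
  | zero => exact absurd (by simpa using hk') hxQ
  | succ k ih =>
    by_cases h : x ^ 2 ∈ Q
    · exact ⟨x, hx, hxQ, h⟩
    · refine ih (x ^ 2) (S.pow_mem hx 2) h ?_
      rwa [← pow_mul, ← pow_succ']

theorem eq_centralizerIn_of_conj_center [Finite S] (hS : IsPGroup 2 S) (hF : F.IsSaturated 2)
    (h : ∀ x ∈ S, ∃ z ∈ centralizerIn S S, F.IsConjElt x z) : S ≤ centralizerIn S S := by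
  haveI : Fact (Nat.Prime 2) := ⟨Nat.prime_two⟩
  suffices H : ∀ (n : ℕ) (Q : Subgroup Ω), Nat.card S - Nat.card Q ≤ n →
      F.StronglyClosed Q → Q ≤ centralizerIn S S → S ≤ centralizerIn S S from
    H _ ⊥ le_rfl (stronglyClosed_bot F) bot_le
  intro n
  induction n using Nat.strong_induction_on with
  | _ n ih =>
    intro Q hn hQ hQZ
    by_cases hSQ : S ≤ Q
    · exact hSQ.trans hQZ
    obtain ⟨x, hx, hxQ⟩ := SetLike.not_le_iff_exists.1 hSQ
    obtain ⟨y, hy, hyQ, hy2⟩ := exists_sq_mem_notMem hS x hx hxQ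
    let T : Subgroup Ω :=
      { carrier := {u | u ∈ S ∧ u ^ 2 ∈ Q}
        one_mem' := ⟨S.one_mem, by simp⟩
        mul_mem' := fun {a b} ha hb =>
          ⟨S.mul_mem ha.1 hb.1, sq_mul_mem_of_central hS hF h hQ hQZ ha.1 hb.1 ha.2 hb.2⟩
        inv_mem' := fun {a} ha => ⟨S.inv_mem ha.1, by rw [inv_pow]; exact Q.inv_mem ha.2⟩ }
    have hQT : Q ≤ T := fun u hu => ⟨hQ.1 hu, Q.pow_mem hu 2⟩
    have hTs : F.StronglyClosed T := by
      refine ⟨fun u hu => hu.1, fun R hR φ hφ u => ⟨hom_mem hφ u, ?_⟩⟩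
      rw [← map_pow]
      exact stronglyClosed_apply_mem hQ hφ (by
        show ((u ^ 2 : R) : Ω) ∈ Q
        rw [Subgroup.coe_pow]
        exact (hR u.2).2)
    have hTn : F.IsNormal T := by
      refine isNormal_of_series hS hF (fun i => if i = 0 then ⊥ else if i = 1 then Q else T) 2
        rfl rfl (fun i _ => ?_) (fun i hi g hg u hu => ?_)
      · show F.StronglyClosed (if i = 0 then ⊥ else if i = 1 then Q else T)
        split_ifs
        exacts [stronglyClosed_bot F, hQ, hTs]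
      · obtain rfl | rfl : i = 0 ∨ i = 1 := by omega
        · show ⁅g, u⁆ ∈ (⊥ : Subgroup Ω)
          rw [Subgroup.mem_bot, commutatorElement_eq_one_iff_mul_comm]
          exact ((mem_centralizerIn.1 (hQZ hu)).2 g hg.1).symm
        · show ⁅g, u⁆ ∈ Q
          have hg1 : (g ^ 2) * u = u * g ^ 2 :=
            (mem_centralizerIn.1 (hQZ hg.2)).2 u hu.1
          have e : ⁅g, u⁆ = (g * u) ^ 2 * (g ^ 2)⁻¹ * (u ^ 2)⁻¹ := by
            rw [commutatorElement_def, sq (g * u)]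
            calc g * u * g⁻¹ * u⁻¹ = g * u * g * ((g ^ 2)⁻¹ * u) * (u ^ 2)⁻¹ := by group
              _ = g * u * g * (u * (g ^ 2)⁻¹) * (u ^ 2)⁻¹ := by
                rw [show (g ^ 2)⁻¹ * u = u * (g ^ 2)⁻¹ from
                  ((Commute.inv_left (hg1 : Commute (g ^ 2) u)) : _)]
              _ = g * u * (g * u) * (g ^ 2)⁻¹ * (u ^ 2)⁻¹ := by group
          rw [e]
          exact Q.mul_mem (Q.mul_mem (T.mul_mem hg hu).2 (Q.inv_mem hg.2)) (Q.inv_mem hu.2)
    have hTZ : T ≤ centralizerIn S S := by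
      intro u hu
      refine mem_centralizerIn.2 ⟨hu.1, fun s hs => ?_⟩
      obtain ⟨z, hz, φ, hφ, hφz⟩ := h s hs
      obtain ⟨ψ, hψ, hψe, -⟩ := hTn.2 _ φ hφ
      let s' : ↥(Subgroup.zpowers s ⊔ T) := ⟨s, Subgroup.mem_sup_left (Subgroup.mem_zpowers _)⟩
      let u' : ↥(Subgroup.zpowers s ⊔ T) := ⟨u, Subgroup.mem_sup_right hu⟩
      have hsz : ψ s' = z := (hψe ⟨s, Subgroup.mem_zpowers _⟩).trans hφz
      have hcomm : ψ (s' * u') = ψ (u' * s') := by
        rw [map_mul, map_mul, hsz]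
        exact (mem_centralizerIn.1 hz).2 _ (hom_mem hψ u')
      exact (congrArg Subtype.val (F.injective_of_mem hψ hcomm)).symm
    have hlt : Nat.card Q < Nat.card T := by
      refine lt_of_le_of_ne (?_ : Nat.card Q ≤ Nat.card T) fun hc => hyQ ?_
      · haveI := finite_of_le hTs.1
        exact Nat.card_le_card_of_injective _ (Subgroup.inclusion_injective hQT)
      · rw [eq_of_le_of_card_le hTs.1 hQT hc.ge]
        exact ⟨hy, hy2⟩
    have hTS := card_le_of_le (S := S) hTs.1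
    exact ih (Nat.card S - Nat.card T) (by omega) T le_rfl hTs hTZ

end Cfsg.Lib.FusionSys
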