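import Cfsg.Agent.Lib.FusionSys.Normal
import Cfsg.Agent.Lib.FusionSys.Saturation

/-!
# A strongly closed subgroup with a central series of weakly closed subgroups is normal
-/

set_option autoImplicit false

namespace Cfsg.Lib.FusionSys

open Cfsg Cfsg.FusionSystem
open scoped commutatorElement

variable {Ω : Type*} [Group Ω] {S : Subgroup Ω} {F : FusionSystem S}

/-- The members of a central series with weakly closed terms of a strongly closed subgroup are strongly
closed. -/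
theorem stronglyClosed_of_weak_series [Finite S] {p : ℕ} [Fact p.Prime] (hS : IsPGroup p S)
    (hF : F.IsSaturated p) {Q : Subgroup Ω} (hQ : F.StronglyClosed Q) (C : ℕ → Subgroup Ω) (n : ℕ)
    (h0 : C 0 = ⊥) (hn : C n = Q) (hmono : Monotone C)
    (hc : ∀ i, i < n → ∀ g ∈ Q, ∀ y ∈ C (i + 1), ⁅g, y⁆ ∈ C i)
    (hw : ∀ i, i < n → F.WeaklyClosed (C i)) : ∀ i, i ≤ n → F.StronglyClosed (C i) := by
  intro i
  induction i using Nat.strong_induction_on with
  | _ i ih =>
  intro hi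
  rcases Nat.lt_or_eq_of_le hi with hlt | rfl
  swap
  · rw [hn]; exact hQ
  rcases i with _ | i
  · rw [h0]; exact stronglyClosed_bot F
  have hin : i < n := by omega
  have hs : ∀ j, j ≤ i → F.StronglyClosed (C j) := fun j hj => ih j (by omega) (by omega)
  have hleQ : ∀ j, j ≤ n → C j ≤ Q := fun j hj => hn ▸ hmono hj
  have hQS := hQ.1
  have hCS : C i ≤ S := (hs i le_rfl).1
  have hCn : F.IsNormal (C i) := isNormal_of_series hS hF C i h0 rfl hs
    fun j hj g hg => hc j (by omega) g (hleQ i hin.le hg)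
  -- maps on subgroups of `Q` above `C i` into a fully normalized subgroup extend to all elements acting
  -- trivially modulo `C i`
  have hext : ∀ (T U : Subgroup Ω) (χ : T →* Ω), χ ∈ F.Hom T → χ.range = U → C i ≤ T → T ≤ Q →
      F.IsFullyNormalized U → ∀ g ∈ Q, (∀ t ∈ T, ⁅g, t⁆ ∈ C i) → g ∈ extender S T χ := by
    intro T U χ hχ hχr hCT hTQ hU g hg hgT
    obtain ⟨hfc, hfa⟩ := isFullyAutomized_and_fc_of_fn hS hF hU
    have hTS := hom_le hχ
    haveI := finite_of_le hTS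
    have hUS := hU.1
    haveI := finite_of_le hUS
    haveI := finite_of_le hCS
    have hCU : C i ≤ U := by
      haveI := finite_of_le hCS
      have h1 : (χ.comp (Subgroup.inclusion hCT)).range = C i :=
        range_eq_of_card_le (restrict_mem hχ hCT) hCS
          (fun x => (hs i le_rfl).2 (C i) le_rfl _ (restrict_mem hχ hCT) x) le_rfl
      rw [← hχr, ← h1]
      rintro _ ⟨x, rfl⟩
      exact ⟨_, rfl⟩
    have hgN : g ∈ Subgroup.normalizer (T : Set Ω) := by
      refine Subgroup.mem_normalizer_fintype fun t ht => ?_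
      show g * t * g⁻¹ ∈ T
      have h1 : g * t * g⁻¹ = ⁅g, t⁆ * t := by rw [commutatorElement_def, inv_mul_cancel_right]
      rw [h1]
      exact T.mul_mem (hCT (hgT t ht)) ht
    have hgS : g ∈ S := hQS hg
    let e : T ≃* U := homIso hχ hχr
    let β : MulAut U := MulAut.congr e (conjAut T hgN)
    have hβ : β ∈ F.autGroup U := congr_mem_autGroup (isoIn_homIso hχ hχr)
      (autInducedBy_le_autGroup hTS (conjAut_mem_autInducedBy hgN hgS))
    let D : ℕ → Subgroup Ω := fun j => if j ≤ i then C j else U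
    have hDinv : ∀ a ∈ F.autGroup U, ∀ j, ∀ x : U, (x : Ω) ∈ D j → (a x : Ω) ∈ D j := by
      intro a ha j x hx
      simp only [D] at hx ⊢
      split_ifs at hx ⊢ with hj
      · exact stronglyClosed_aut_mem (hs j hj) ha hUS hx
      · exact (a x).2
    let K : Subgroup (F.autGroup U) :=
      { carrier := {a | ∀ j, j < i + 1 → ∀ x : U, (x : Ω) ∈ D (j + 1) →
          (x : Ω)⁻¹ * ((a : MulAut U) x : Ω) ∈ D j}
        one_mem' := fun j _ x _ => by simp
        mul_mem' := fun {a b} ha hb j hj x hx => by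
          have hmul : ((a * b : F.autGroup U) : MulAut U) x =
              (a : MulAut U) x * (a : MulAut U) (x⁻¹ * (b : MulAut U) x) := by
            rw [Subgroup.coe_mul, MulAut.mul_apply, ← map_mul, mul_inv_cancel_left]
          rw [hmul, Subgroup.coe_mul, ← mul_assoc]
          exact (D j).mul_mem (ha j hj x hx) (hDinv _ a.2 j _ (hb j hj x hx))
        inv_mem' := fun {a} ha j hj x hx => by
          have h1 := ha j hj (((a⁻¹ : F.autGroup U) : MulAut U) x) (hDinv _ (a⁻¹).2 _ x hx)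
          have h2 : (a : MulAut U) (((a⁻¹ : F.autGroup U) : MulAut U) x) = x := by
            simp [MulAut.inv_apply]
          rw [h2] at h1
          simpa using (D j).inv_mem h1 }
    haveI : K.Normal := by
      refine ⟨fun a ha b j hj x hx => ?_⟩
      have h1 : ((b * a * b⁻¹ : F.autGroup U) : MulAut U) x =
          x * (b : MulAut U) ((((b⁻¹ : F.autGroup U) : MulAut U) x)⁻¹ *
            (a : MulAut U) (((b⁻¹ : F.autGroup U) : MulAut U) x)) := by
        simp only [Subgroup.coe_mul, Subgroup.coe_inv, MulAut.mul_apply, map_mul, map_inv,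
          MulAut.inv_apply, MulEquiv.apply_symm_apply, mul_inv_cancel_left]
      rw [h1, Subgroup.coe_mul, inv_mul_cancel_left]
      exact hDinv _ b.2 j _ (ha j hj _ (hDinv _ (b⁻¹).2 _ x hx))
    have hKp : IsPGroup p K := by
      obtain ⟨e, he⟩ := IsPGroup.iff_card.mp (hS.to_le hUS)
      intro a
      refine ⟨e * (i + 1), Subtype.ext (Subtype.ext ?_)⟩
      have h3 := pow_eq_one_of_stabilizes (D := D) (n := i + 1) (by simp [D, h0]) (by simp [D])
        (α := ((a : F.autGroup U) : MulAut U)) (fun j _ => hDinv _ (a : F.autGroup U).2 j) a.2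
      rw [he, ← pow_mul] at h3
      simpa using h3
    obtain ⟨-, R, hR⟩ := hfa
    haveI : Finite (MulAut U) := Finite.of_injective (fun a : MulAut U => (a : U → U))
      DFunLike.coe_injective
    have hKR : K ≤ R := (Cfsg.Lib.Core.le_pCore hKp).trans (Cfsg.Lib.Core.pCore_le_sylow R)
    have hβK : (⟨β, hβ⟩ : F.autGroup U) ∈ K := by
      intro j hj x hx
      show (x : Ω)⁻¹ * ((e (conjAut T hgN (e.symm x)) : U) : Ω) ∈ D j
      have hx' : ((e.symm x : T) : Ω) ∈ T := (e.symm x).2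
      -- the displacement in the source
      let d : T := (e.symm x)⁻¹ * conjAut T hgN (e.symm x)
      have hd : (x : Ω)⁻¹ * ((e (conjAut T hgN (e.symm x)) : U) : Ω) = χ d := by
        have h1 : e d = x⁻¹ * e (conjAut T hgN (e.symm x)) := by
          rw [map_mul, map_inv, MulEquiv.apply_symm_apply]
        exact (congrArg Subtype.val h1).symm.trans (coe_homIso hχ hχr d)
      have hdC : ∀ k, k < n → (e.symm x : Ω) ∈ C (k + 1) → (d : Ω) ∈ C k := by
        intro k hk hxk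
        have h2 := (C k).inv_mem (hc k hk g hg (e.symm x : Ω)⁻¹ ((C (k + 1)).inv_mem hxk))
        show (e.symm x : Ω)⁻¹ * (conjAut T hgN (e.symm x) : Ω) ∈ C k
        rw [coe_conjAut]
        simpa [commutatorElement_def, mul_assoc] using h2
      rw [hd]
      have hmem : ∀ k, k ≤ i → (d : Ω) ∈ C k → χ d ∈ C k := fun k hk hdk =>
        stronglyClosed_apply_mem (hs k hk) hχ hdk
      simp only [D] at hx ⊢
      rw [if_pos (by omega : j ≤ i)]
      rcases Nat.lt_or_eq_of_le (show j ≤ i by omega) with hji | rfl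
      · rw [if_pos (by omega : j + 1 ≤ i)] at hx
        refine hmem j hji.le (hdC j (by omega) ?_)
        have hinv := isoIn_homIso hχ hχr |>.symm
        exact stronglyClosed_apply_mem (hs (j + 1) hji) hinv hx
      · refine hmem j le_rfl ?_
        have h2 := (C j).inv_mem (hgT (e.symm x : Ω)⁻¹ (T.inv_mem hx'))
        show (e.symm x : Ω)⁻¹ * (conjAut T hgN (e.symm x) : Ω) ∈ C j
        rw [coe_conjAut]
        simpa [commutatorElement_def, mul_assoc] using h2
    have hβR := hKR hβK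
    rw [hR, Subgroup.mem_subgroupOf] at hβR
    obtain ⟨h, hhS, hh⟩ := mem_autInducedBy.1 hβR
    refine mem_extender_of hgS hgN hhS fun t ht => ?_
    have h1 := hh (e t)
    show χ ⟨_, ht⟩ = h * χ t * h⁻¹
    rw [← coe_homIso hχ hχr t, ← coe_homIso hχ hχr ⟨_, ht⟩]
    rw [← h1]
    show ((e ⟨_, ht⟩ : U) : Ω) = ((e (conjAut T hgN (e.symm (e t))) : U) : Ω)
    rw [MulEquiv.symm_apply_apply]
    exact congrArg (fun a : T => ((e a : U) : Ω)) (Subtype.ext (coe_conjAut T hgN t).symm)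
  refine ⟨(hw (i + 1) hlt).1, fun R hR φ hφ x => ?_⟩
  obtain ⟨T, hxT, hCT, hTC, ψ, hψ, hxy⟩ : ∃ (T : Subgroup Ω) (hxT : (x : Ω) ∈ T), C i ≤ T ∧
      T ≤ C (i + 1) ∧ ∃ ψ : T →* Ω, ψ ∈ F.Hom T ∧ ψ ⟨x, hxT⟩ = φ x := by
    obtain ⟨ψ, hψ, hψe, -⟩ := hCn.2 _ _ (restrict_mem hφ (Subgroup.zpowers_le.2 x.2))
    exact ⟨Subgroup.zpowers (x : Ω) ⊔ C i, Subgroup.mem_sup_left (Subgroup.mem_zpowers _),
      le_sup_right, sup_le (Subgroup.zpowers_le.2 (hR x.2)) (hmono (Nat.le_succ i)), ψ, hψ,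
      hψe ⟨x, Subgroup.mem_zpowers _⟩⟩
  have hTQ : T ≤ Q := hTC.trans (hleQ _ hlt.le)
  have hCT' : C i ≤ ψ.range := by
    haveI := finite_of_le hCS
    have h1 : (ψ.comp (Subgroup.inclusion hCT)).range = C i :=
      range_eq_of_card_le (restrict_mem hψ hCT) hCS
        (fun c => (hs i le_rfl).2 (C i) le_rfl _ (restrict_mem hψ hCT) c) le_rfl
    rw [← h1]
    rintro _ ⟨c, rfl⟩
    exact ⟨_, rfl⟩
  have hT'Q : ψ.range ≤ Q := by
    rintro _ ⟨t, rfl⟩
    exact hQ.2 T hTQ ψ hψ t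
  obtain ⟨U, hTU, hU⟩ := exists_isFullyNormalized F (hom_le hψ)
  obtain ⟨e, he⟩ := isConj_iff.1 hTU
  obtain ⟨χ, hχ, hχr, hχe⟩ : ∃ χ : T →* Ω, χ ∈ F.Hom T ∧ χ.range = U ∧ ∀ t, χ t = (e t : Ω) :=
    ⟨_, he, by rw [MonoidHom.range_comp, MonoidHom.range_eq_top.2 e.surjective,
      ← MonoidHom.range_eq_map, Subgroup.range_subtype], fun _ => rfl⟩
  obtain ⟨ψi, hψi, hψir, hψii⟩ := exists_inv hψ (rfl : ψ.range = ψ.range)
  have hψiT : ∀ w, ψi w ∈ T := fun w => hψir.le ⟨w, rfl⟩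
  let χ' : ψ.range →* Ω := χ.comp (ψi.codRestrict T hψiT)
  have hχ' : χ' ∈ F.Hom ψ.range := F.comp_mem hψi hχ hψiT
  have hχ'e : ∀ t : T, χ' ⟨ψ t, ⟨t, rfl⟩⟩ = χ t := fun t =>
    congrArg χ (Subtype.ext (hψii t _))
  have hχ'r : χ'.range = U := by
    rw [← hχr]
    ext w
    constructor
    · rintro ⟨⟨_, t, rfl⟩, rfl⟩
      exact ⟨t, (hχ'e t).symm⟩
    · rintro ⟨t, rfl⟩
      exact ⟨_, hχ'e t⟩
  have hUrec := isReceptive_of_fc hS hF (isFullyAutomized_and_fc_of_fn hS hF hU).1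
  obtain ⟨Φ, hΦ, hΦe⟩ := hUrec.2 T χ hχ hχr
  obtain ⟨Φ', hΦ', hΦ'e⟩ := hUrec.2 _ χ' hχ' hχ'r
  haveI := finite_of_le hQS
  haveI := finite_of_le (hw (i + 1) hlt).1
  have hQN : Q ≤ extender S T χ := fun g hg =>
    hext T U χ hχ hχr hCT hTQ hU g hg fun t ht => hc i hin g hg t (hTC ht)
  have hCN : C (i + 1) ≤ extender S ψ.range χ' := fun g hg =>
    hext _ U χ' hχ' hχ'r hCT' hT'Q hU g (hleQ _ hlt.le hg) fun t ht => by
      rw [← commutatorElement_inv t g]
      exact (C i).inv_mem (hc i hin t (hT'Q ht) g hg)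
  have hz : χ ⟨x, hxT⟩ ∈ C (i + 1) := by
    rw [← hΦe x hxT (hQN (hleQ _ hlt.le (hR x.2)))]
    have h1 := (hw (i + 1) hlt).2 _ (restrict_mem hΦ ((hleQ _ hlt.le).trans hQN))
    exact h1.le ⟨⟨x, hR x.2⟩, rfl⟩
  obtain ⟨c, hcz⟩ := ((hw (i + 1) hlt).2 _ (restrict_mem hΦ' hCN)).ge hz
  have hyN : φ x ∈ extender S ψ.range χ' :=
    le_extender (hom_le hχ') (hom_mem hχ') ⟨_, hxy⟩
  have h2 : Φ' ⟨φ x, hyN⟩ = χ ⟨x, hxT⟩ := by
    rw [hΦ'e (φ x) ⟨_, hxy⟩ hyN, ← hχ'e]
    exact congrArg χ' (Subtype.ext hxy.symm)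
  have h3 : (⟨φ x, hyN⟩ : extender S ψ.range χ') = Subgroup.inclusion hCN c :=
    F.injective_of_mem hΦ' (h2.trans hcz.symm)
  rw [show φ x = (c : Ω) from congrArg Subtype.val h3]
  exact c.2

end Cfsg.Lib.FusionSys
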