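import Cfsg.Agent.Lib.FusionSys.StronglyClosedSup
import Cfsg.Agent.Lib.FusionSys.HyperfocalFactor
import Cfsg.Agent.Lib.FusionSys.FactorSat
import Cfsg.Agent.Lib.FusionSys.Nilpotent
import Cfsg.Agent.Lib.FusionSys.Local
import Cfsg.Agent.Lib.FusionSys.SmallFusion

/-!
Nilpotency from weakly embedded subgroups of one order.
-/

set_option autoImplicit false
set_option linter.style.haveILetI false

universe u

namespace Cfsg.Lib.FusionSys

open Cfsg Cfsg.FusionSystem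
open scoped commutatorElement

variable {p : ℕ} [Fact p.Prime]

/-- All subgroups of order `p ^ e` are weakly embedded. -/
def WeaklyEmbeddedAt {Ω : Type*} [Group Ω] {S : Subgroup Ω} (F : FusionSystem S) (p e : ℕ) : Prop :=
  ∀ Q : Subgroup Ω, Q ≤ S → Nat.card ↥Q = p ^ e →
    ∃ P : Subgroup Ω, F.StronglyClosed P ∧ F.StronglyClosed (Q ⊔ P) ∧ F.StronglyClosed (Q ⊓ P)

variable {Ω : Type u} [Group Ω] {S : Subgroup Ω} {F : FusionSystem S}

omit [Fact p.Prime] in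
theorem conj_mem_of_stronglyClosed_weaklyEmbedded {X : Subgroup Ω} (hX : F.StronglyClosed X) {g x : Ω} (hg : g ∈ S)
    (hx : x ∈ X) : g * x * g⁻¹ ∈ X :=
  stronglyClosed_apply_mem hX (F.conj_mem (P := X) hX.1 hg) (x := ⟨x, hx⟩) hx

omit [Fact p.Prime] in
theorem sup_normalizer_le {X : Subgroup Ω} (hX : F.StronglyClosed X) {g : Ω} (hg : g ∈ S) :
    g ∈ Subgroup.normalizer (X : Set Ω) := by
  rw [Subgroup.mem_normalizer_iff]
  refine fun n => ⟨fun h => conj_mem_of_stronglyClosed_weaklyEmbedded hX hg h, fun h => ?_⟩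
  have := conj_mem_of_stronglyClosed_weaklyEmbedded hX (S.inv_mem hg) h
  simpa [mul_assoc] using this

/-- Invariant under conjugation by `R` and under `α`. -/
def IsInvIn (R : Subgroup Ω) (α : MulAut R) (U : Subgroup Ω) : Prop :=
  U ≤ R ∧ (∀ r ∈ R, ∀ u ∈ U, r * u * r⁻¹ ∈ U) ∧ ∀ x : R, (x : Ω) ∈ U → ((α x : R) : Ω) ∈ U

omit [Fact p.Prime] in
theorem IsInvIn.inf {R U : Subgroup Ω} {α : MulAut R} (hRS : R ≤ S) (hα : α ∈ F.autGroup R)
    (hU : IsInvIn R α U) {X : Subgroup Ω} (hX : F.StronglyClosed X) : IsInvIn R α (X ⊓ U) :=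
  ⟨inf_le_right.trans hU.1, fun r hr u hu => ⟨conj_mem_of_stronglyClosed_weaklyEmbedded hX (hRS hr) hu.1, hU.2.1 r hr u hu.2⟩,
    fun _ hx => ⟨stronglyClosed_apply_mem hX ((mem_autGroup hRS).1 hα) hx.1, hU.2.2 _ hx.2⟩⟩

omit [Fact p.Prime] in
theorem IsInvIn.sup {R U W : Subgroup Ω} {α : MulAut R} (hU : IsInvIn R α U) (hW : IsInvIn R α W) :
    IsInvIn R α (U ⊔ W) := by
  refine ⟨sup_le hU.1 hW.1, fun r hr u hu => ?_, fun x hx => ?_⟩
  · have hle : U ⊔ W ≤ (U ⊔ W).comap (MulAut.conj r).toMonoidHom :=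
      sup_le (fun v hv => Subgroup.mem_sup_left (hU.2.1 r hr v hv))
        (fun v hv => Subgroup.mem_sup_right (hW.2.1 r hr v hv))
    exact hle hu
  · have hle : U ⊔ W ≤ ((U ⊔ W).comap (R.subtype.comp α.toMonoidHom)).map R.subtype :=
      sup_le (fun v hv => ⟨⟨v, hU.1 hv⟩, Subgroup.mem_sup_left (hU.2.2 ⟨v, hU.1 hv⟩ hv), rfl⟩)
        (fun v hv => ⟨⟨v, hW.1 hv⟩, Subgroup.mem_sup_right (hW.2.2 ⟨v, hW.1 hv⟩ hv), rfl⟩)
    obtain ⟨y, hy, hyx⟩ := hle hx
    rwa [show x = y from (Subtype.ext hyx).symm]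

omit [Fact p.Prime] in
theorem exists_subgroup_between [Fact p.Prime] [Finite S] (hS : IsPGroup p S) {U V : Subgroup Ω} (hUV : U ≤ V)
    (hVS : V ≤ S) {e : ℕ} (hU : Nat.card U ≤ p ^ e) (hV : p ^ e ≤ Nat.card V) :
    ∃ Q : Subgroup Ω, U ≤ Q ∧ Q ≤ V ∧ Nat.card Q = p ^ e := by
  haveI := finite_of_le hVS
  haveI := finite_of_le (hUV.trans hVS)
  obtain ⟨a, ha⟩ := IsPGroup.iff_card.1 (hS.to_le (hUV.trans hVS))
  obtain ⟨b, hb⟩ := IsPGroup.iff_card.1 (hS.to_le hVS)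
  have hp : 1 < p := (Fact.out : p.Prime).one_lt
  obtain ⟨K, hK, hle⟩ := Sylow.exists_subgroup_card_pow_prime_le p
    (hb ▸ pow_dvd_pow p ((Nat.pow_le_pow_iff_right hp).1 (hb ▸ hV))) (U.subgroupOf V)
    (by rw [Nat.card_congr (Subgroup.subgroupOfEquivOfLe hUV).toEquiv, ha])
    ((Nat.pow_le_pow_iff_right hp).1 (ha ▸ hU))
  refine ⟨K.map V.subtype, fun u hu => ⟨⟨u, hUV hu⟩, hle hu, rfl⟩, Subgroup.map_subtype_le K, ?_⟩
  rw [Subgroup.card_subtype, hK]

/-- An automorphism of a subgroup of order at least `p ^ e` leaves some normal subgroup of order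
`p ^ e` invariant. -/
theorem exists_inv_of_weaklyEmbedded [Finite S] (hS : IsPGroup p S) {e : ℕ} (hW : WeaklyEmbeddedAt F p e)
    {R : Subgroup Ω} (hRS : R ≤ S) (he : p ^ e ≤ Nat.card R) {α : MulAut R} (hα : α ∈ F.autGroup R) :
    ∃ H : Subgroup Ω, IsInvIn R α H ∧ Nat.card H = p ^ e := by
  classical
  haveI := finite_of_le hRS
  have hbotI : IsInvIn R α ⊥ := ⟨bot_le, fun r _ u hu => by simp_all, fun x hx => by
    rw [Subgroup.mem_bot] at hx ⊢
    rw [show x = 1 from Subtype.ext hx, map_one, Subgroup.coe_one]⟩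
  obtain ⟨U, ⟨hU, hUe⟩, hUmax⟩ : ∃ U : Subgroup Ω, (IsInvIn R α U ∧ Nat.card U ≤ p ^ e) ∧
      ∀ V : Subgroup Ω, IsInvIn R α V ∧ Nat.card V ≤ p ^ e → U ≤ V → V = U := by
    let f : Subgroup R → Subgroup Ω := fun K => K.map R.subtype
    obtain ⟨K, -, hK, hmax⟩ := Finite.exists_le_maximal (α := Subgroup R) (a := ⊥)
      (p := fun K : Subgroup R => IsInvIn R α (f K) ∧ Nat.card (f K) ≤ p ^ e)
      ⟨by simpa [f] using hbotI, by
        simp only [f, Subgroup.map_bot, Subgroup.card_bot]; exact Nat.one_le_pow _ _ (Fact.out : p.Prime).pos⟩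
    refine ⟨f K, hK, fun V hV hle => ?_⟩
    have hV' : f (V.subgroupOf R) = V := by simp [f, hV.1.1]
    have h1 : K ≤ V.subgroupOf R := fun x hx => hle ⟨x, hx, rfl⟩
    have h2 : V.subgroupOf R ≤ K := hmax (by simp only [hV']; exact hV) h1
    rw [← hV', le_antisymm h2 h1]
  rcases hUe.lt_or_eq with hlt | heq
  swap
  · exact ⟨U, hU, heq⟩
  exfalso
  obtain ⟨V, ⟨hV, hUV⟩, hVmin⟩ : ∃ V : Subgroup Ω, (IsInvIn R α V ∧ U < V) ∧
      ∀ X : Subgroup Ω, IsInvIn R α X → U < X → X ≤ V → X = V := by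
    let f : Subgroup R → Subgroup Ω := fun K => K.map R.subtype
    have htop : f ⊤ = R := by simp [f, ← MonoidHom.range_eq_map]
    obtain ⟨K, -, hK, hmin⟩ := Finite.exists_le_minimal (α := Subgroup R) (a := ⊤)
      (p := fun K : Subgroup R => IsInvIn R α (f K) ∧ U < f K)
      ⟨by rw [htop]; exact ⟨le_rfl, fun r hr u hu => R.mul_mem (R.mul_mem hr hu) (R.inv_mem hr), fun x _ => (α x).2⟩,
        by
          rw [htop]
          exact lt_of_le_of_ne hU.1 fun h => absurd (h ▸ hlt) (not_lt.2 he)⟩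
    refine ⟨f K, hK, fun X hX hUX hle => ?_⟩
    have hX' : f (X.subgroupOf R) = X := by simp [f, hX.1]
    have h1 : X.subgroupOf R ≤ K := fun x hx => by
      obtain ⟨y, hy, hyx⟩ := hle hx
      rwa [show x = y from (Subtype.ext hyx).symm]
    rw [← hX', le_antisymm h1 (hmin (by simp only [hX']; exact ⟨hX, hUX⟩) h1)]
  have hVS := hV.1.trans hRS
  have hVe : p ^ e < Nat.card V := by
    by_contra h
    exact hUV.ne (hUmax V ⟨hV, not_lt.1 h⟩ hUV.le).symm
  obtain ⟨Q, hUQ, hQV, hQ⟩ := exists_subgroup_between hS hUV.le hVS hUe hVe.le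
  obtain ⟨P, hP, hL, hK⟩ := hW Q (hQV.trans hVS) hQ
  have hQU : ¬ Q ≤ U := fun h => by
    haveI := finite_of_le (hU.1.trans hRS)
    exact absurd (hQ ▸ Subgroup.card_le_of_le h) (not_le.2 hlt)
  have hQne : Q ≠ V := fun h => hVe.ne' (h ▸ hQ)
  -- the intersection is inside `U`
  have hKV : IsInvIn R α ((Q ⊓ P) ⊓ V) := hV.inf hRS hα hK
  have hKU : Q ⊓ P ≤ U := by
    intro x hx
    by_contra hxU
    have hlt' : U < U ⊔ ((Q ⊓ P) ⊓ V) := lt_of_le_of_ne le_sup_left fun h => hxU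
      (h.symm ▸ Subgroup.mem_sup_right ⟨hx, hQV hx.1⟩)
    have hleQ : U ⊔ ((Q ⊓ P) ⊓ V) ≤ Q := sup_le hUQ (inf_le_left.trans inf_le_left)
    exact hQne (le_antisymm hQV (hVmin _ (hU.sup hKV) hlt' (hleQ.trans hQV) ▸ hleQ))
  have hLV : V ≤ Q ⊔ P := by
    have h1 : IsInvIn R α (U ⊔ ((Q ⊔ P) ⊓ V)) := hU.sup (hV.inf hRS hα hL)
    have h2 : U < U ⊔ ((Q ⊔ P) ⊓ V) := lt_of_le_of_ne le_sup_left fun h => hQU fun q hq =>
      h.symm ▸ Subgroup.mem_sup_right ⟨Subgroup.mem_sup_left hq, hQV hq⟩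
    have h3 := hVmin _ h1 h2 (sup_le hUV.le inf_le_right)
    rw [← h3]
    exact sup_le (hUQ.trans le_sup_left) inf_le_left
  have hQN : Q ≤ Subgroup.normalizer (P : Set Ω) := fun q hq => sup_normalizer_le hP (hQV.trans hVS hq)
  have hdec : ∀ v ∈ V, ∃ q ∈ Q, ∃ w ∈ P ⊓ V, v = q * w := by
    intro v hv
    have h := hLV hv
    rw [← SetLike.mem_coe, Subgroup.coe_mul_of_left_le_normalizer_right Q P hQN] at h
    obtain ⟨q, hq, w, hw, rfl⟩ := h
    refine ⟨q, hq, w, ⟨hw, ?_⟩, rfl⟩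
    have := V.mul_mem (V.inv_mem (hQV hq)) hv
    rwa [inv_mul_cancel_left] at this
  have hW' : IsInvIn R α (P ⊓ V) := hV.inf hRS hα hP
  by_cases hc : P ⊓ V ≤ U
  · refine hQne (le_antisymm hQV fun v hv => ?_)
    obtain ⟨q, hq, w, hw, rfl⟩ := hdec v hv
    exact Q.mul_mem hq (hUQ (hc hw))
  · have h2 : U < U ⊔ (P ⊓ V) := lt_of_le_of_ne le_sup_left fun h => hc (h.symm ▸ le_sup_right)
    have h3 := hVmin _ (hU.sup hW') h2 (sup_le hUV.le inf_le_right)
    refine hQU fun q hq => ?_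
    have hUN : U ≤ Subgroup.normalizer ((P ⊓ V : Subgroup Ω) : Set Ω) := fun g hg => by
      rw [Subgroup.mem_normalizer_iff]
      refine fun n => ⟨fun hn => hW'.2.1 g (hU.1 hg) n hn, fun hn => ?_⟩
      have := hW'.2.1 g⁻¹ (R.inv_mem (hU.1 hg)) _ hn
      simpa [mul_assoc] using this
    have h4 : q ∈ U ⊔ (P ⊓ V) := h3.symm ▸ hQV hq
    rw [← SetLike.mem_coe, Subgroup.coe_mul_of_left_le_normalizer_right U (P ⊓ V) hUN] at h4
    obtain ⟨a, ha, w, hw, rfl⟩ := h4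
    have h5 : w ∈ Q := by
      have := Q.mul_mem (Q.inv_mem (hUQ ha)) hq
      rwa [inv_mul_cancel_left] at this
    exact U.mul_mem ha (hKU ⟨h5, hw.1⟩)

/-- With inner normalizer systems for the subgroups of order `p ^ e`, larger automizers are `p`-groups. -/
theorem isPGroup_autGroup_of_normalizers [Finite S] (hS : IsPGroup p S) (hF : F.IsSaturated p) {e : ℕ}
    (hW : WeaklyEmbeddedAt F p e)
    (hN : ∀ H : Subgroup Ω, F.IsFullyNormalized H → Nat.card ↥H = p ^ e →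
      ∀ N : FusionSystem (normalizerIn S H), F.IsNormalizerSystem H N →
        ∀ P : Subgroup Ω, N.Hom P = (innerFusionSystem (normalizerIn S H)).Hom P)
    {R : Subgroup Ω} (hRS : R ≤ S) (he : p ^ e ≤ Nat.card R) : IsPGroup p (F.autGroup R) := by
  haveI := finite_of_le hRS
  haveI : Finite (MulAut R) := Finite.of_injective (fun f => (f : R → R)) DFunLike.coe_injective
  refine Cfsg.Lib.Local.isPGroup_of_forall_coprime (H := (⊤ : Subgroup (F.autGroup R))) ?_ |>.of_equiv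
    Subgroup.topEquiv
  intro a _ hcop
  obtain ⟨H, hH, hHe⟩ := exists_inv_of_weaklyEmbedded hS hW hRS he a.2
  have hHS := hH.1.trans hRS
  obtain ⟨H', hHH', hH'⟩ := exists_isFullyNormalized F hHS
  obtain ⟨hfc, hfa⟩ := isFullyAutomized_and_fc_of_fn hS hF hH'
  obtain ⟨χ, hχ, -, hχH⟩ := exists_normalizer_map hS hfa (isReceptive_of_fc hS hF hfc) hHH'
  have hRN : R ≤ normalizerIn S H := fun r hr => by
    refine ⟨hRS hr, ?_⟩
    show r ∈ Subgroup.normalizer (H : Set Ω)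
    rw [Subgroup.mem_normalizer_iff]
    refine fun n => ⟨fun hn => hH.2.1 r hr n hn, fun hn => ?_⟩
    have := hH.2.1 r⁻¹ (R.inv_mem hr) _ hn
    simpa [mul_assoc] using this
  have hι := restrict_mem hχ hRN
  obtain ⟨R', hR'⟩ : ∃ R' : Subgroup Ω, (χ.comp (Subgroup.inclusion hRN)).range = R' := ⟨_, rfl⟩
  let e' : R ≃* R' := homIso hι hR'
  have he' : IsoIn F e' := isoIn_homIso hι hR'
  let β : MulAut R' := MulAut.congr e' (a : MulAut R)
  have hβ : β ∈ F.autGroup R' := congr_mem_autGroup he' a.2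
  have hR'S : R' ≤ S := hR' ▸ range_le hι
  haveI := finite_of_le hR'S
  have hH'R : ∀ z : Ω, z ∈ H' ↔ ∃ x : R, (x : Ω) ∈ H ∧ ((e' x : R') : Ω) = z := by
    intro z
    rw [← hχH, mem_map_subgroupOf]
    exact ⟨fun ⟨x, hx, hxH, h⟩ => ⟨⟨x, hH.1 hxH⟩, hxH, h⟩, fun ⟨x, hxH, h⟩ => ⟨x, hRN x.2, hxH, h⟩⟩
  have hH'le : H' ≤ R' := fun z hz => by
    obtain ⟨x, -, rfl⟩ := (hH'R z).1 hz
    exact (e' x).2
  have hinv : ∀ z : R', (z : Ω) ∈ H' → ((β z : R') : Ω) ∈ H' := by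
    intro z hz
    obtain ⟨x, hx, hxe⟩ := (hH'R z).1 hz
    refine (hH'R _).2 ⟨(a : MulAut R) x, hH.2.2 x hx, ?_⟩
    rw [show z = e' x from Subtype.ext hxe.symm]
    show _ = ((e' ((a : MulAut R) (e'.symm (e' x))) : R') : Ω)
    rw [e'.symm_apply_apply]
  have hR'N : R' ≤ normalizerIn S H' := by
    rw [← hR']
    rintro _ ⟨r, rfl⟩
    refine ⟨hom_mem hι r, ?_⟩
    have := map_mem_normalizer (Q := H) χ (Subgroup.inclusion hRN r) (hRN r.2).2
    rwa [hχH] at this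
  obtain ⟨N, hNs⟩ := exists_normalizerSystem F hH'.1
  have hβm := (mem_autGroup hR'S).1 hβ
  have hmem : R'.subtype.comp β.toMonoidHom ∈ F.normalizerHom H' R' := by
    have hsup : R' ⊔ H' = R' := sup_eq_left.2 hH'le
    refine ⟨hβm, hR'N, fun x => hR'N (β x).2, (R'.subtype.comp β.toMonoidHom).comp
      (Subgroup.inclusion hsup.le), restrict_mem hβm hsup.le, fun x => rfl, ?_⟩
    refine eq_of_le_of_card_le hH'.1 ?_ ?_
    · intro z hz
      obtain ⟨x, hx, rfl⟩ := hz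
      exact hinv _ hx
    · rw [Subgroup.card_map_of_injective (F.injective_of_mem (restrict_mem hβm hsup.le)),
        Nat.card_congr (Subgroup.subgroupOfEquivOfLe (hH'le.trans le_sup_left)).toEquiv]
  rw [← hNs R', hN H' hH' ((card_eq_of_isConj hHH').symm.trans hHe) N hNs] at hmem
  obtain ⟨-, g, hg, hgx⟩ := hmem
  have hβS : β ∈ autInducedBy S R' := mem_autInducedBy.2 ⟨g, normalizerIn_le H' hg, hgx⟩
  obtain ⟨k, hk⟩ := isPGroup_autInducedBy hS ⟨β, hβS⟩
  have hordβ : orderOf β = orderOf (a : MulAut R) := MulEquiv.orderOf_eq (MulAut.congr e') (a : MulAut R)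
  refine orderOf_eq_one_iff.1 (Nat.eq_one_of_dvd_coprimes (hcop.pow_right k) dvd_rfl ?_)
  rw [← Subgroup.orderOf_coe, ← hordβ]
  exact orderOf_dvd_of_pow_eq_one (congrArg Subtype.val hk)

theorem autGroup_eq_autInducedBy_of_big [Finite S] (hS : IsPGroup p S) (hF : F.IsSaturated p)
    {Z : Subgroup Ω} (hZ : F.StronglyClosed Z) (hp' : IsPGroup p (F.autGroup Z)) :
    F.autGroup Z ≤ autInducedBy S Z := by
  haveI := finite_of_le hZ.1
  haveI : Finite (MulAut Z) := Finite.of_injective (fun f => (f : Z → Z)) DFunLike.coe_injective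
  have hn : F.IsFullyNormalized Z := ⟨hZ.1, fun Q _ => by
    rw [show normalizerIn S Z = S from le_antisymm (normalizerIn_le Z) fun g hg => ⟨hg, sup_normalizer_le hZ hg⟩]
    exact card_le_of_le (normalizerIn_le Q)⟩
  obtain ⟨-, -, R, hR⟩ := isFullyAutomized_and_fc_of_fn hS hF hn
  have htop : (R : Subgroup (F.autGroup Z)) = ⊤ :=
    (R.3 (hp'.to_subgroup ⊤) le_top).symm
  intro γ hγ
  have h : (⟨γ, hγ⟩ : F.autGroup Z) ∈ (R : Subgroup (F.autGroup Z)) := htop ▸ Subgroup.mem_top _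
  rw [hR] at h
  exact h

/-- A central subgroup of order `p` of a strongly closed abelian subgroup with inner automizer is
strongly closed. -/
theorem stronglyClosed_central_of_abelian [Finite S] (hS : IsPGroup p S) (hF : F.IsSaturated p)
    {Z : Subgroup Ω} (hZ : F.StronglyClosed Z) (hab : ∀ x ∈ Z, ∀ y ∈ Z, x * y = y * x)
    (haut : F.autGroup Z ≤ autInducedBy S Z)
    {u : Ω} (hu : u ∈ Z) (huc : ∀ s ∈ S, s * u = u * s) :
    F.StronglyClosed (Subgroup.zpowers u) := by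
  have huZ : Subgroup.zpowers u ≤ Z := Subgroup.zpowers_le.2 hu
  have hZS := hZ.1
  refine ⟨huZ.trans hZS, fun R hR φ hφ x => ?_⟩
  have hucS : ∀ s ∈ S, ∀ w ∈ Subgroup.zpowers u, s * w = w * s := fun s hs w hw => by
    obtain ⟨k, rfl⟩ := Subgroup.mem_zpowers_iff.1 hw
    exact (Commute.zpow_right (show Commute s u from huc s hs) k).eq
  have hRS := hom_le hφ
  have hfc : F.IsFullyCentralized R := by
    refine ⟨hRS, fun Q _ => ?_⟩
    rw [show centralizerIn S R = S from le_antisymm (centralizerIn_le R)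
      fun s hs => mem_centralizerIn.2 ⟨hs, fun w hw => hucS s hs w (hR hw)⟩]
    exact card_le_of_le (centralizerIn_le Q)
  obtain ⟨ν, hν, hνr, hνe⟩ := exists_inv hφ rfl
  have hvZ : φ.range ≤ Z := by
    rintro _ ⟨y, rfl⟩
    exact hZ.2 R (hR.trans huZ) φ hφ y
  obtain ⟨ψ, hψ, hψe⟩ := IsReceptive_ext (isReceptive_of_fc hS hF hfc) (isoIn_homIso hν hνr) (N := Z) (by
    intro z hz
    refine ⟨hZS hz, ?_, 1, S.one_mem, fun a b hab' => ?_⟩
    · rw [Subgroup.mem_normalizer_iff]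
      intro n
      constructor
      · intro hn
        rwa [conj_eq_of_commute (hab z hz n (hvZ hn))]
      · intro hn
        have h' := conj_eq_of_commute (hab z⁻¹ (Z.inv_mem hz) _ (hvZ hn))
        have h2 : n = z⁻¹ * (z * n * z⁻¹) * z⁻¹⁻¹ := by group
        rw [h2, h']
        exact hn
    · have : b = a := Subtype.ext (hab'.trans (conj_eq_of_commute (hab z hz a (hvZ a.2))))
      simp [this])
  have hr : ψ.range = Z := range_eq_of_card_le hψ hZS (fun y => stronglyClosed_apply_mem hZ hψ y.2) le_rfl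
  obtain ⟨g, hg, hgy⟩ := mem_autInducedBy.1 (haut ((mem_autGroup hZS).2 (isoIn_homIso hψ hr) :
    homIso hψ hr ∈ F.autGroup Z))
  have h1 : (x : Ω) = g * φ x * g⁻¹ := by
    rw [← hgy ⟨φ x, hvZ ⟨x, rfl⟩⟩]
    show (x : Ω) = ψ ⟨φ x, _⟩
    rw [hψe (φ x) ⟨x, rfl⟩]
    exact (hνe x ⟨x, rfl⟩).symm
  have h2 : φ x = x := by
    have h3 : g⁻¹ * (x : Ω) * g = φ x := by rw [h1]; group
    rw [← h3, mul_assoc, ← hucS g hg x (hR x.2), inv_mul_cancel_left]
  rw [h2]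
  exact hR x.2

end Cfsg.Lib.FusionSys
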